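import Cfsg.Prelude.Def_LocalEven
import Mathlib.GroupTheory.Sylow

/-!
# Sections
-/

set_option autoImplicit false

namespace CfsgLib.Fusion

open Cfsg

theorem involves_of_surjective {A B S : Type*} [Group A] [Group B] [Group S] (j : A →* S)
    (hj : Function.Injective j) (f : A →* B) (hf : Function.Surjective f) : Involves B S := by
  let e : A ≃* j.range := MonoidHom.ofInjective hj
  let g : j.range →* B := f.comp e.symm.toMonoidHom
  have hg : Function.Surjective g := hf.comp e.symm.surjective
  have h : ((g.ker).map j.range.subtype).subgroupOf j.range = g.ker :=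
    Subgroup.comap_map_eq_self_of_injective j.range.subtype_injective _
  have hn : (((g.ker).map j.range.subtype).subgroupOf j.range).Normal := by
    rw [h]; infer_instance
  exact ⟨j.range, (g.ker).map j.range.subtype, hn,
    ⟨(QuotientGroup.quotientMulEquivOfEq h).trans
      (QuotientGroup.quotientKerEquivOfSurjective g hg)⟩⟩

/-- A `p`-subgroup of a group involved in `L` is involved in each Sylow `p`-subgroup of `L`. -/
theorem involves_sylow {H L : Type*} [Group H] [Group L] [Finite L] {p : ℕ} [Fact p.Prime]
    (h : Involves H L) (Q : Subgroup H) (hQ : IsPGroup p Q) (T : Sylow p L) {S : Type*} [Group S]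
    (j : ↥(T : Subgroup L) →* S) (hj : Function.Injective j) : Involves (↥Q) S := by
  obtain ⟨K, R, hn, ⟨e⟩⟩ := h
  let π : K →* H := e.toMonoidHom.comp (QuotientGroup.mk' (R.subgroupOf K))
  have hπ : Function.Surjective π := e.surjective.comp (QuotientGroup.mk'_surjective _)
  let K' := Q.comap π
  let f : K' →* Q := π.subgroupComap Q
  have hf : Function.Surjective f := fun q => by
    obtain ⟨k, hk⟩ := hπ q
    exact ⟨⟨k, show π k ∈ Q from hk ▸ q.2⟩, Subtype.ext hk⟩
  let P : Sylow p K' := default
  have hP : IsPGroup p (⊤ : Subgroup Q) := hQ.to_subgroup _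
  have htop : (P.mapSurjective hf : Subgroup Q) = ⊤ :=
    ((P.mapSurjective hf).is_maximal' hP le_top).symm
  let k : K' →* L := K.subtype.comp K'.subtype
  have hk : Function.Injective k := K.subtype_injective.comp K'.subtype_injective
  obtain ⟨T', hT'⟩ := (P.2.map k).exists_le_sylow
  let a : ↥(P : Subgroup K') →* T' := (k.comp (P : Subgroup K').subtype).codRestrict _
    fun x => hT' ⟨x, x.2, rfl⟩
  have ha : Function.Injective a := fun x y hxy => by
    have h' := congrArg (fun z => ((z : T') : L)) hxy
    exact Subtype.ext (hk h')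
  refine involves_of_surjective (j.comp ((T'.equiv T).toMonoidHom.comp a))
    (hj.comp ((T'.equiv T).injective.comp ha)) (f.comp (P : Subgroup K').subtype) fun q => ?_
  have : q ∈ (P.mapSurjective hf : Subgroup Q) := htop ▸ Subgroup.mem_top q
  obtain ⟨x, hx, rfl⟩ := this
  exact ⟨⟨x, hx⟩, rfl⟩

end CfsgLib.Fusion
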