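import Cfsg.Agent.Lib.Fusion.Saturated

/-!
The fusion system of a finite group on a Sylow `p`-subgroup is saturated.
-/

set_option autoImplicit false

namespace CfsgLib.Fusion

open Cfsg Cfsg.FusionSystem
open scoped Pointwise

variable {G : Type*} [Group G] {p : ℕ}

/-- The conjugate `g P g⁻¹`. -/
abbrev conjOf (g : G) (P : Subgroup G) : Subgroup G := P.map (MulAut.conj g).toMonoidHom

theorem mem_conjOf {g x : G} {P : Subgroup G} : x ∈ conjOf g P ↔ g⁻¹ * x * g ∈ P := by
  constructor
  · rintro ⟨y, hy, rfl⟩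
    simpa [mul_assoc] using hy
  · intro h
    exact ⟨_, h, by simp [mul_assoc]⟩

theorem conj_mem_conjOf {g x : G} {P : Subgroup G} (hx : x ∈ P) : g * x * g⁻¹ ∈ conjOf g P :=
  ⟨x, hx, by simp⟩

theorem conjHom_range (P : Subgroup G) (g : G) : (conjHom P g).range = conjOf g P := by
  rw [conjHom, MonoidHom.range_comp, Subgroup.range_subtype]

theorem conjOf_normalizer (g : G) (P : Subgroup G) :
    conjOf g (Subgroup.normalizer (P : Set G)) = Subgroup.normalizer (conjOf g P : Set G) :=
  Subgroup.map_equiv_normalizer_eq P (MulAut.conj g)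

theorem conjOf_centralizer (g : G) (P : Subgroup G) :
    conjOf g (Subgroup.centralizer (P : Set G)) = Subgroup.centralizer (conjOf g P : Set G) := by
  ext y
  rw [mem_conjOf, Subgroup.mem_centralizer_iff, Subgroup.mem_centralizer_iff]
  constructor
  · rintro h _ ⟨x, hx, rfl⟩
    have := h x hx
    simp only [MulEquiv.toMonoidHom_eq_coe, MonoidHom.coe_coe, MulAut.conj_apply]
    calc g * x * g⁻¹ * y = g * (x * (g⁻¹ * y * g)) * g⁻¹ := by group
      _ = g * (g⁻¹ * y * g * x) * g⁻¹ := by rw [this]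
      _ = y * (g * x * g⁻¹) := by group
  · intro h x hx
    have := h _ (conj_mem_conjOf hx)
    calc x * (g⁻¹ * y * g) = g⁻¹ * (g * x * g⁻¹ * y) * g := by group
      _ = g⁻¹ * (y * (g * x * g⁻¹)) * g := by rw [this]
      _ = g⁻¹ * y * g * x := by group

theorem card_conjOf (g : G) (P : Subgroup G) : Nat.card (conjOf g P) = Nat.card P :=
  Subgroup.card_map_of_injective (MulAut.conj g).injective

theorem mem_groupFusion_iff {S P : Subgroup G} {φ : P →* G} :
    φ ∈ (groupFusionSystem S).Hom P ↔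
      P ≤ S ∧ (∀ x : P, φ x ∈ S) ∧ ∃ g : G, ∀ x : P, φ x = g * (x : G) * g⁻¹ := Iff.rfl

theorem groupFusion_isConj_iff {S P Q : Subgroup G} :
    (groupFusionSystem S).IsConj P Q ↔ P ≤ S ∧ Q ≤ S ∧ ∃ g : G, conjOf g P = Q := by
  constructor
  · intro h
    refine ⟨isConj_le_left h, isConj_le_right h, ?_⟩
    obtain ⟨φ, ⟨-, -, g, hg⟩, rfl⟩ := h
    refine ⟨g, ?_⟩
    rw [← conjHom_range, show φ = conjHom P g from MonoidHom.ext hg]
  · rintro ⟨hP, hQ, g, rfl⟩
    exact ⟨conjHom P g, ⟨hP, fun x => hQ (conj_mem_conjOf x.2), g, fun x => rfl⟩, conjHom_range P g⟩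

theorem groupFusion_autGroup {S P : Subgroup G} (hP : P ≤ S) :
    (groupFusionSystem S).autGroup P = autInducedBy ⊤ P := by
  ext α
  rw [mem_autGroup_iff hP, mem_autInducedBy_iff]
  constructor
  · rintro ⟨-, -, g, hg⟩
    exact ⟨g, trivial, hg⟩
  · rintro ⟨g, -, hg⟩
    exact ⟨hP, fun x => hP (α x).2, g, hg⟩

theorem normalizerIn_top (P : Subgroup G) :
    normalizerIn ⊤ P = Subgroup.normalizer (P : Set G) := top_inf_eq _

theorem centralizerIn_top (P : Subgroup G) :
    centralizerIn ⊤ P = Subgroup.centralizer (P : Set G) := top_inf_eq _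

theorem normalizerIn_le_normalizer {S : Subgroup G} (P : Subgroup G) :
    normalizerIn S P ≤ Subgroup.normalizer (P : Set G) := inf_le_right

theorem centralizerIn_le_centralizer {S : Subgroup G} (P : Subgroup G) :
    centralizerIn S P ≤ Subgroup.centralizer (P : Set G) := inf_le_right

variable [Finite G] [Fact p.Prime]

/-- Some conjugate of a `p`-subgroup has its normalizer meeting `S` in a Sylow subgroup. -/
theorem exists_sylow_normalizer_conj (S : Sylow p G) {P : Subgroup G} (hP : P ≤ S) :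
    ∃ g : G, conjOf g P ≤ S ∧ IsSylowIn p (normalizerIn S (conjOf g P))
      (Subgroup.normalizer (conjOf g P : Set G)) := by
  obtain ⟨T, hPT, hTN, hTp, hTs⟩ := exists_isSylowIn_ge (p := p)
    (Subgroup.le_normalizer (H := P)) (S.isPGroup'.to_le hP)
  obtain ⟨U, hU⟩ := hTp.exists_le_sylow
  obtain ⟨g, hg⟩ := MulAction.exists_smul_eq G U S
  have hmap : conjOf g T ≤ S := by
    rintro _ ⟨t, ht, rfl⟩
    rw [← hg, Sylow.coe_subgroup_smul, Subgroup.mem_pointwise_smul_iff_inv_smul_mem]
    have : (MulAut.conj g)⁻¹ • ((MulAut.conj g).toMonoidHom t) = t := by simp [mul_assoc]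
    rw [this]
    exact hU ht
  refine ⟨g, (Subgroup.map_mono hPT).trans hmap, ?_⟩
  have hle : conjOf g T ≤ normalizerIn S (conjOf g P) :=
    le_inf hmap (by rw [← conjOf_normalizer]; exact Subgroup.map_mono hTN)
  rw [isSylowIn_iff_card (normalizerIn_le_normalizer _)]
  have h1 := (isSylowIn_iff_card hTN).1 hTs
  have hcard : Nat.card (Subgroup.normalizer (conjOf g P : Set G)) =
      Nat.card (Subgroup.normalizer (P : Set G)) := by
    rw [← conjOf_normalizer, card_conjOf]
  apply le_antisymm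
  · exact Nat.le_of_dvd (pow_pos (Fact.out : p.Prime).pos _)
      (card_le_sylowPart inf_le_right (S.isPGroup'.to_le inf_le_left))
  · rw [hcard, ← h1, ← card_conjOf g T]
    exact Subgroup.card_le_of_le hle

theorem groupFusion_fullyNormalized_iff (S : Sylow p G) {P : Subgroup G} (hP : P ≤ S) :
    (groupFusionSystem (S : Subgroup G)).IsFullyNormalized P ↔
      IsSylowIn p (normalizerIn (S : Subgroup G) P) (Subgroup.normalizer (P : Set G)) := by
  have key : ∀ Q, (groupFusionSystem (S : Subgroup G)).IsConj P Q →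
      Nat.card (normalizerIn (S : Subgroup G) Q) ∣
        p ^ (Nat.card (Subgroup.normalizer (P : Set G))).factorization p := by
    intro Q hQ
    obtain ⟨-, -, g, rfl⟩ := groupFusion_isConj_iff.1 hQ
    rw [← card_conjOf g (Subgroup.normalizer (P : Set G)), conjOf_normalizer]
    exact card_le_sylowPart inf_le_right (S.isPGroup'.to_le inf_le_left)
  have hpos := pow_pos (Fact.out : p.Prime).pos
    ((Nat.card (Subgroup.normalizer (P : Set G))).factorization p)
  rw [isSylowIn_iff_card (normalizerIn_le_normalizer _)]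
  constructor
  · intro h
    refine le_antisymm (Nat.le_of_dvd hpos (key P (isConj_refl hP))) ?_
    obtain ⟨g, hg, hs⟩ := exists_sylow_normalizer_conj S hP
    have := h.2 _ (groupFusion_isConj_iff.2 ⟨hP, hg, g, rfl⟩)
    rwa [(isSylowIn_iff_card (normalizerIn_le_normalizer _)).1 hs, ← conjOf_normalizer, card_conjOf] at this
  · intro h
    refine ⟨hP, fun Q hQ => ?_⟩
    rw [h]
    exact Nat.le_of_dvd hpos (key Q hQ)

/-- If `N_S(Q)` is Sylow in `N_G(Q)` then so are `C_S(Q)` in `C_G(Q)` and `Aut_S(Q)` in `Aut_G(Q)`. -/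
theorem sylow_parts (S : Sylow p G) {Q : Subgroup G}
    (hN : IsSylowIn p (normalizerIn (S : Subgroup G) Q) (Subgroup.normalizer (Q : Set G))) :
    IsSylowIn p (centralizerIn (S : Subgroup G) Q) (Subgroup.centralizer (Q : Set G)) ∧
      IsSylowIn p (autInducedBy (S : Subgroup G) Q) (autInducedBy ⊤ Q) := by
  have hSp := S.isPGroup'
  rw [isSylowIn_iff_card (normalizerIn_le_normalizer Q)] at hN
  rw [isSylowIn_iff_card (centralizerIn_le_centralizer Q), isSylowIn_iff_card (autInducedBy_mono le_top)]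
  have hpos : ∀ n, 0 < p ^ n := fun n => pow_pos (Fact.out : p.Prime).pos n
  have e := card_normalizerIn (S := (⊤ : Subgroup G)) Q
  rw [normalizerIn_top, centralizerIn_top] at e
  have hc := Nat.le_of_dvd (hpos _) (card_le_sylowPart (p := p)
    (K := Subgroup.centralizer (Q : Set G)) (H := centralizerIn (S : Subgroup G) Q)
    inf_le_right (hSp.to_le inf_le_left))
  have ha := Nat.le_of_dvd (hpos _) (card_le_sylowPart (p := p)
    (autInducedBy_mono (le_top : (S : Subgroup G) ≤ ⊤))
    (isPGroup_autInducedBy (P := Q) hSp))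
  rw [card_normalizerIn, e, Nat.factorization_mul Nat.card_pos.ne' Nat.card_pos.ne',
    Finsupp.add_apply, pow_add] at hN
  have c0 : 0 < Nat.card (centralizerIn (S : Subgroup G) Q) := Nat.card_pos
  have a0 : 0 < Nat.card (autInducedBy (S : Subgroup G) Q) := Nat.card_pos
  constructor
  · refine le_antisymm hc (Nat.le_of_not_lt fun hlt => ?_)
    exact absurd hN (Nat.ne_of_lt
      (lt_of_le_of_lt (Nat.mul_le_mul_right _ ha) (Nat.mul_lt_mul_of_pos_left hlt (hpos _))))
  · refine le_antisymm ha (Nat.le_of_not_lt fun hlt => ?_)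
    exact absurd hN (Nat.ne_of_lt
      (lt_of_le_of_lt (Nat.mul_le_mul_left _ hc) (Nat.mul_lt_mul_of_pos_right hlt (hpos _))))

theorem sylow_extension (S : Sylow p G) {P Q : Subgroup G} (g : G)
    (hg : conjOf g P = Q)
    (hN : IsSylowIn p (normalizerIn (S : Subgroup G) Q) (Subgroup.normalizer (Q : Set G))) :
    ∃ h ∈ Subgroup.centralizer (Q : Set G),
      conjOf (h * g) (normalizerIn (S : Subgroup G) P ⊓
        conjOf g⁻¹ (normalizerIn (S : Subgroup G) Q ⊔ Subgroup.centralizer (Q : Set G))) ≤ S := by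
  set N := normalizerIn (S : Subgroup G) Q with hNdef
  set C := Subgroup.centralizer (Q : Set G) with hCdef
  set X := conjOf g (normalizerIn (S : Subgroup G) P ⊓ conjOf g⁻¹ (N ⊔ C)) with hX
  have hXK : X ≤ N ⊔ C := by
    rintro _ ⟨y, hy, rfl⟩
    obtain ⟨z, hz, rfl⟩ := hy.2
    simpa [mul_assoc] using hz
  have hCN : C ≤ Subgroup.normalizer (Q : Set G) := Subgroup.centralizer_le_normalizer _
  have hK : N ⊔ C ≤ Subgroup.normalizer (Q : Set G) := sup_le inf_le_right hCN
  have hNs : IsSylowIn p N (N ⊔ C) := by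
    rw [isSylowIn_iff_card le_sup_left]
    rw [isSylowIn_iff_card (normalizerIn_le_normalizer Q)] at hN
    refine le_antisymm (Nat.le_of_dvd (pow_pos (Fact.out : p.Prime).pos _)
      (card_le_sylowPart le_sup_left (S.isPGroup'.to_le inf_le_left))) ?_
    rw [hNdef, hN]
    refine Nat.pow_le_pow_right (Fact.out : p.Prime).pos ?_
    exact (Nat.factorization_le_iff_dvd Nat.card_pos.ne' Nat.card_pos.ne').2
      (Subgroup.card_dvd_of_le hK) p
  have hXp : IsPGroup p X :=
    (S.isPGroup'.to_le ((inf_le_left (b := conjOf g⁻¹ (N ⊔ C))).trans inf_le_left)).map _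
  obtain ⟨k, hk, hkX⟩ := hNs.exists_conj_mem hXK hXp
  have hNC : N ≤ Subgroup.normalizer (C : Set G) :=
    inf_le_right.trans (by
      rw [hCdef, Subgroup.le_normalizer_iff]
      intro n hn c hc
      rw [Subgroup.mem_centralizer_iff] at hc ⊢
      intro q hq
      have hq' : n⁻¹ * q * n ∈ Q := by
        simpa using conj_mem_of_mem_normalizer (inv_mem hn) hq
      have := hc _ hq'
      calc q * (n * c * n⁻¹) = n * (n⁻¹ * q * n * c) * n⁻¹ := by group
        _ = n * (c * (n⁻¹ * q * n)) * n⁻¹ := by rw [this]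
        _ = n * c * n⁻¹ * q := by group)
  have hk' : k ∈ (N : Set G) * (C : Set G) := by
    rw [← Subgroup.coe_mul_of_left_le_normalizer_right N C hNC]
    exact hk
  obtain ⟨n, hn, c, hc, rfl⟩ := hk'
  refine ⟨c, hc, ?_⟩
  rintro _ ⟨y, hy, rfl⟩
  have h1 := hkX _ (⟨y, hy, rfl⟩ : (MulAut.conj g).toMonoidHom y ∈ X)
  have h2 := N.mul_mem (N.mul_mem (N.inv_mem hn) h1) hn
  have h3 : c * g * y * (c * g)⁻¹ ∈ N := by simpa [mul_assoc] using h2
  exact normalizerIn_le Q h3

/-- A subgroup with Sylow normalizer is receptive in the fusion system of the group. -/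
theorem groupFusion_receptive (S : Sylow p G) {Q : Subgroup G} (hQ : Q ≤ S)
    (hN : IsSylowIn p (normalizerIn (S : Subgroup G) Q) (Subgroup.normalizer (Q : Set G))) :
    (groupFusionSystem (S : Subgroup G)).IsReceptive Q := by
  refine ⟨hQ, ?_⟩
  rintro P φ ⟨hP, hφS, g, hg⟩ hrange
  have hgQ : conjOf g P = Q := by
    rw [← hrange, ← conjHom_range, show φ = conjHom P g from MonoidHom.ext hg]
  obtain ⟨c, hc, hle⟩ := sylow_extension S g hgQ hN
  have hsub : extender (S : Subgroup G) P φ ≤ normalizerIn (S : Subgroup G) P ⊓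
      conjOf g⁻¹ (normalizerIn (S : Subgroup G) Q ⊔ Subgroup.centralizer (Q : Set G)) := by
    refine le_inf extender_le fun y hy => ?_
    obtain ⟨-, hyN, h, hh, hyh⟩ := mem_extender_iff.1 hy
    rw [mem_conjOf, inv_inv]
    have hact : ∀ q ∈ Q, (g * y * g⁻¹) * q * (g * y * g⁻¹)⁻¹ = h * q * h⁻¹ := by
      intro q hq
      rw [← hgQ] at hq
      obtain ⟨x, hx, rfl⟩ := hq
      have := hyh ⟨x, hx⟩ (conj_mem_of_mem_normalizer hyN hx)
      rw [hg, hg] at this
      simp only [MulEquiv.toMonoidHom_eq_coe, MonoidHom.coe_coe, MulAut.conj_apply]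
      rw [← this]
      group
    have hgy : g * y * g⁻¹ ∈ Subgroup.normalizer (Q : Set G) := by
      rw [← hgQ, ← conjOf_normalizer]
      exact conj_mem_conjOf hyN
    have hhN : h ∈ normalizerIn (S : Subgroup G) Q := by
      refine ⟨hh, mem_normalizer_of_conj_eq (Q.normalizerMonoidHom ⟨_, hgy⟩) fun q => ?_⟩
      exact hact q q.2
    have hcen : h⁻¹ * (g * y * g⁻¹) ∈ Subgroup.centralizer (Q : Set G) := by
      rw [Subgroup.mem_centralizer_iff]
      intro q hq
      have e := hact q hq
      generalize g * y * g⁻¹ = u at e ⊢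
      calc q * (h⁻¹ * u) = h⁻¹ * (h * q * h⁻¹) * u := by group
        _ = h⁻¹ * (u * q * u⁻¹) * u := by rw [e]
        _ = h⁻¹ * u * q := by group
    have := Subgroup.mul_mem_sup hhN hcen
    rwa [mul_inv_cancel_left] at this
  refine ⟨conjHom _ (c * g), ⟨extender_le_sup, fun x => hle (conj_mem_conjOf (hsub x.2)), c * g,
    fun x => rfl⟩, fun x hxP hxN => ?_⟩
  show c * g * x * (c * g)⁻¹ = φ ⟨x, hxP⟩
  rw [hg]
  have hq : g * x * g⁻¹ ∈ Q := hgQ ▸ conj_mem_conjOf hxP
  have hcomm := Subgroup.mem_centralizer_iff.1 hc _ hq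
  calc c * g * x * (c * g)⁻¹ = c * (g * x * g⁻¹) * c⁻¹ := by group
    _ = g * x * g⁻¹ * c * c⁻¹ := by rw [hcomm]
    _ = g * x * g⁻¹ := by group

theorem groupFusion_fullyAutomized (S : Sylow p G) {Q : Subgroup G} (hQ : Q ≤ S)
    (hN : IsSylowIn p (normalizerIn (S : Subgroup G) Q) (Subgroup.normalizer (Q : Set G))) :
    (groupFusionSystem (S : Subgroup G)).IsFullyAutomized p Q := by
  refine ⟨hQ, ?_⟩
  have h := (sylow_parts S hN).2
  rw [← groupFusion_autGroup hQ] at h
  exact h

theorem groupFusion_saturated (S : Sylow p G) :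
    (groupFusionSystem (S : Subgroup G)).IsSaturated p :=
  saturated_of_fullyNormalized fun _ h =>
    have hN := (groupFusion_fullyNormalized_iff S h.1).1 h
    ⟨groupFusion_fullyAutomized S h.1 hN, groupFusion_receptive S h.1 hN⟩

theorem groupFusion_fullyCentralized_iff (S : Sylow p G) {P : Subgroup G} (hP : P ≤ S) :
    (groupFusionSystem (S : Subgroup G)).IsFullyCentralized P ↔
      IsSylowIn p (centralizerIn (S : Subgroup G) P) (Subgroup.centralizer (P : Set G)) := by
  have hpos := pow_pos (Fact.out : p.Prime).pos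
    ((Nat.card (Subgroup.centralizer (P : Set G))).factorization p)
  have hcard : ∀ Q, (groupFusionSystem (S : Subgroup G)).IsConj P Q →
      Nat.card (Subgroup.centralizer (Q : Set G)) =
        Nat.card (Subgroup.centralizer (P : Set G)) := by
    intro Q hQ
    obtain ⟨-, -, g, rfl⟩ := groupFusion_isConj_iff.1 hQ
    rw [← card_conjOf g (Subgroup.centralizer (P : Set G))]
    rw [conjOf_centralizer]
  have key : ∀ Q, (groupFusionSystem (S : Subgroup G)).IsConj P Q →
      Nat.card (centralizerIn (S : Subgroup G) Q) ≤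
        p ^ (Nat.card (Subgroup.centralizer (P : Set G))).factorization p := fun Q hQ => by
    rw [← hcard Q hQ]
    exact Nat.le_of_dvd (pow_pos (Fact.out : p.Prime).pos _)
      (card_le_sylowPart inf_le_right (S.isPGroup'.to_le inf_le_left))
  rw [isSylowIn_iff_card (centralizerIn_le_centralizer _)]
  constructor
  · intro h
    refine le_antisymm (key P (isConj_refl hP)) ?_
    obtain ⟨g, hg, hs⟩ := exists_sylow_normalizer_conj S hP
    have hconj := groupFusion_isConj_iff.2 ⟨hP, hg, g, rfl⟩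
    have := h.2 _ hconj
    rwa [(isSylowIn_iff_card (centralizerIn_le_centralizer _)).1 (sylow_parts S hs).1, hcard _ hconj] at this
  · intro h
    refine ⟨hP, fun Q hQ => ?_⟩
    rw [h]
    exact key Q hQ

end CfsgLib.Fusion
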