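import Cfsg.Agent.Lib.Fusion.RankTwoSimple
import Cfsg.Agent.Lib.TwoGroups.LinearSylowTwo
import Cfsg.Agent.Lib.TwoGroups.PSLThreeCentralizer
import Cfsg.Agent.Lib.Classical.LinearOrder
import Cfsg.Agent.Lib.Classical.SylowGL
import Cfsg.Agent.Lib.Classical.SLGroup
import Cfsg.Agent.Lib.Classical.Unitary.Two
import Cfsg.Agent.Lib.Classical.Unitary.MatrixStructure
import Cfsg.Agent.Lib.Classical.Unitary.Order

/-!
# The 2-fusion systems of three-dimensional projective linear and unitary groups in odd characteristic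
-/

set_option autoImplicit false
set_option maxHeartbeats 400000

namespace CfsgLib.Fusion

open Cfsg Matrix

theorem isQuasiDihedral_congr {A B : Type*} [Group A] [Group B] (e : A ≃* B)
    (h : Cfsg.IsQuasiDihedral A) : Cfsg.IsQuasiDihedral B := by
  obtain ⟨n, hn, hc, x, y, hx, hy, hyx⟩ := h
  exact ⟨n, hn, by rw [← hc]; exact (Nat.card_congr e.toEquiv).symm, e x, e y,
    by rw [e.orderOf_eq, hx], by rw [e.orderOf_eq, hy],
    by rw [← map_inv, ← map_mul, ← map_mul, hyx, map_pow]⟩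

theorem isWreathed_congr {A B : Type*} [Group A] [Group B] (e : A ≃* B)
    (h : Cfsg.IsWreathed A) : Cfsg.IsWreathed B := by
  obtain ⟨n, hn, hc, x, y, z, hx, hxy, hd, hz, hzx⟩ := h
  refine ⟨n, hn, by rw [← hc]; exact (Nat.card_congr e.toEquiv).symm, e x, e y, e z,
    by rw [e.orderOf_eq, hx], by rw [← map_mul, ← map_mul, hxy], ?_, by rw [e.orderOf_eq, hz],
    by rw [← map_inv, ← map_mul, ← map_mul, hzx]⟩
  rw [Subgroup.eq_bot_iff_forall]
  rintro w ⟨⟨i, rfl⟩, ⟨j, hj⟩⟩
  have hij : y ^ j = x ^ i := e.injective (by rw [map_zpow, map_zpow]; exact hj)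
  have hmem : x ^ i ∈ Subgroup.zpowers x ⊓ Subgroup.zpowers y := ⟨⟨i, rfl⟩, ⟨j, hij⟩⟩
  rw [hd, Subgroup.mem_bot] at hmem
  show e x ^ i = 1
  rw [← map_zpow, hmem, map_one]

theorem sylow_equiv_of_hom {A B : Type*} [Group A] [Finite A] [Group B] [Finite B] (φ : A →* B)
    (hker : Odd (Nat.card φ.ker))
    (h2 : (Nat.card B).factorization 2 = (Nat.card A).factorization 2)
    (P : Sylow 2 A) (S : Sylow 2 B) :
    Nonempty ((P : Subgroup A) ≃* (S : Subgroup B)) := by
  have : Fact (Nat.Prime 2) := ⟨Nat.prime_two⟩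
  have hinj : Function.Injective (φ.comp (P : Subgroup A).subtype) := by
    rw [injective_iff_map_eq_one]
    intro x hx
    have hd : orderOf (x : A) ∣ Nat.card φ.ker := φ.ker.orderOf_dvd_natCard hx
    obtain ⟨k, hk⟩ := P.isPGroup' x
    have hd2 : orderOf (x : A) ∣ 2 ^ k := orderOf_dvd_of_pow_eq_one (by
      rw [← SubgroupClass.coe_pow, hk]; rfl)
    have h1 : orderOf (x : A) = 1 :=
      Nat.eq_one_of_dvd_coprimes ((Nat.coprime_two_left.2 hker).pow_left k) hd2 hd
    exact Subtype.ext (orderOf_eq_one_iff.1 h1)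
  let e : (P : Subgroup A) ≃* (φ.comp (P : Subgroup A).subtype).range := MonoidHom.ofInjective hinj
  have hp : IsPGroup 2 (φ.comp (P : Subgroup A).subtype).range := P.isPGroup'.of_equiv e
  obtain ⟨S', hS'⟩ := hp.exists_le_sylow
  have hcard : Nat.card (S' : Subgroup B) = Nat.card (φ.comp (P : Subgroup A).subtype).range := by
    rw [← Nat.card_congr e.toEquiv, Sylow.card_eq_multiplicity, Sylow.card_eq_multiplicity, h2]
  have he := Subgroup.eq_of_le_of_card_ge hS' hcard.le
  obtain ⟨g, rfl⟩ := MulAction.exists_smul_eq B S' S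
  exact ⟨e.trans ((MulEquiv.subgroupCongr he).trans (S'.equiv (g • S')))⟩

theorem no_index_two_of_simple {G : Type*} [Group G] [Finite G] [IsSimpleGroup G]
    (hG : Nat.card G ≠ 2) (H : Subgroup G) : H.index ≠ 2 := by
  intro h
  have := Subgroup.normal_of_index_eq_two h
  rcases IsSimpleGroup.eq_bot_or_eq_top_of_normal H this with rfl | rfl
  · rw [Subgroup.index_bot] at h; exact hG h
  · rw [Subgroup.index_top] at h; omega

theorem card_ne_two_of_sylow {G : Type*} [Group G] [Finite G] (S : Sylow 2 G)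
    (h : Cfsg.IsQuasiDihedral (S : Subgroup G) ∨ Cfsg.IsWreathed (S : Subgroup G)) :
    Nat.card G ≠ 2 := by
  intro hG
  have hle : Nat.card (S : Subgroup G) ≤ 2 :=
    (Subgroup.card_le_card_group (S : Subgroup G)).trans hG.le
  rcases h with ⟨n, hn, hc, -⟩ | ⟨n, hn, hc, -⟩
  · have := Nat.pow_le_pow_right (show 0 < 2 by norm_num) (show 2 ≤ n + 1 by omega)
    omega
  · have := Nat.pow_le_pow_right (show 0 < 2 by norm_num) (show 2 ≤ 2 * n + 1 by omega)
    omega

theorem isSimple_of_simple_rankTwo {G : Type*} [Group G] [Finite G] [IsSimpleGroup G] (S : Sylow 2 G)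
    (h : Cfsg.IsQuasiDihedral (S : Subgroup G) ∨ Cfsg.IsWreathed (S : Subgroup G)) :
    (groupFusionSystem (S : Subgroup G)).IsSimple 2 := by
  have hG := no_index_two_of_simple (card_ne_two_of_sylow S h)
  rcases h with h | h
  · exact isSimple_of_quasiDihedral S h hG
  · exact isSimple_of_wreathed S h hG

theorem factorization_two_eq {a b k M : ℕ} (ha : a ≠ 0) (hb : b ≠ 0) (hk : Odd k) (hM : Odd M)
    (h : k * b = M * a) : b.factorization 2 = a.factorization 2 := by
  have h1 : (k * b).factorization 2 = (M * a).factorization 2 := by rw [h]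
  rw [Nat.factorization_mul hk.pos.ne' hb, Nat.factorization_mul hM.pos.ne' ha] at h1
  simp only [Finsupp.coe_add, Pi.add_apply,
    Nat.factorization_eq_zero_of_not_dvd hk.not_two_dvd_nat,
    Nat.factorization_eq_zero_of_not_dvd hM.not_two_dvd_nat, zero_add] at h1
  exact h1

section Linear

open CfsgLib.TwoGroups CfsgLib.Classical

variable {F : Type*} [Field F] [Fintype F]

theorem two_ne_zero_of_odd_card (hodd : Fintype.card F % 2 = 1) : (2 : F) ≠ 0 :=
  Ring.two_ne_zero fun h => by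
    have := FiniteField.even_card_iff_char_two.1 h
    omega

theorem pslThree_sylow_equiv (hodd : Fintype.card F % 2 = 1)
    (P : Sylow 2 (GL (Fin 2) F)) (S : Sylow 2 (ProjectiveSpecialLinearGroup (Fin 3) F)) :
    Nonempty ((P : Subgroup (GL (Fin 2) F)) ≃*
      (S : Subgroup (ProjectiveSpecialLinearGroup (Fin 3) F))) := by
  have hgodd : Odd (Nat.gcd 3 (Fintype.card F - 1)) :=
    Odd.of_dvd_nat (by decide) (Nat.gcd_dvd_left 3 _)
  refine sylow_equiv_of_hom PSLThree.toPSL ?_ ?_ P S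
  · rw [PSLThree.card_ker_toPSL (two_ne_zero_of_odd_card hodd), Nat.gcd_comm]; exact hgodd
  · set q := Fintype.card F with hq
    have hq1 : 1 < q := Fintype.one_lt_card
    have h1 := CfsgLib.Classical.card_SL (F := F) 3 (by omega)
    rw [card_SL_eq_gcd_mul_card_PSL, Fintype.card_fin] at h1
    simp only [Fin.prod_univ_three, Fin.val_zero, Fin.val_one, Fin.val_two, pow_zero, pow_one,
      ← hq] at h1
    have h2 := CfsgLib.Classical.card_GL (F := F) 2
    simp only [Fin.prod_univ_two, Fin.val_zero, Fin.val_one, pow_zero, pow_one, ← hq] at h2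
    refine factorization_two_eq (k := Nat.gcd 3 (q - 1)) (M := q ^ 2 * (q ^ 2 + q + 1))
      Nat.card_pos.ne' Nat.card_pos.ne' hgodd ?_ ?_
    · have ho : Odd q := Nat.odd_iff.2 hodd
      exact (ho.pow).mul (Even.add_one (by rw [pow_two]; exact (ho.mul ho).add_odd ho))
    · refine Nat.eq_of_mul_eq_mul_left (show 0 < q - 1 by omega) ?_
      rw [h2]
      refine h1.trans ?_
      obtain ⟨r, hr⟩ : ∃ r, q = r + 1 := ⟨q - 1, by omega⟩
      rw [hr]
      have e1 : (r + 1) ^ 3 - 1 = r * ((r + 1) ^ 2 + (r + 1) + 1) :=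
        Nat.sub_eq_of_eq_add (by ring)
      have e2 : (r + 1) ^ 3 - (r + 1) = (r + 1) * ((r + 1) ^ 2 - 1) := by
        rw [Nat.mul_sub, mul_one]; ring_nf
      have e3 : (r + 1) ^ 3 - (r + 1) ^ 2 = (r + 1) ^ 2 * r := Nat.sub_eq_of_eq_add (by ring)
      have e4 : (r + 1) ^ 2 - 1 = r * (r + 2) := Nat.sub_eq_of_eq_add (by ring)
      have e5 : (r + 1) ^ 2 - (r + 1) = (r + 1) * r := Nat.sub_eq_of_eq_add (by ring)
      rw [e1, e2, e3, e4, e5, Nat.add_sub_cancel]
      ring

theorem pslThree_isSimple (hodd : Fintype.card F % 2 = 1)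
    (S : Sylow 2 (ProjectiveSpecialLinearGroup (Fin 3) F)) :
    (groupFusionSystem (S : Subgroup (ProjectiveSpecialLinearGroup (Fin 3) F))).IsSimple 2 := by
  have : IsSimpleGroup (ProjectiveSpecialLinearGroup (Fin 3) F) :=
    CfsgLib.Classical.isSimpleGroup_PSL le_rfl
  obtain ⟨P⟩ : Nonempty (Sylow 2 (GL (Fin 2) F)) := inferInstance
  obtain ⟨e⟩ := pslThree_sylow_equiv hodd P S
  refine isSimple_of_simple_rankTwo S ?_
  rcases (show Fintype.card F % 4 = 1 ∨ Fintype.card F % 4 = 3 by omega) with h | h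
  · exact Or.inr (isWreathed_congr e (LinearSylowTwo.gl_wreathed P h))
  · exact Or.inl (isQuasiDihedral_congr e (LinearSylowTwo.gl_quasiDihedral P h))

end Linear

section Unitary

open CfsgLib.TwoGroups CfsgLib.Classical

variable {F : Type*} [Field F] [Fintype F] {q : ℕ}

theorem gu_det_norm (hF : Fintype.card F = q ^ 2) (g : Cfsg.GU 2 F q) :
    ((g : GL (Fin 2) F) : Matrix (Fin 2) (Fin 2) F).det *
      ((g : GL (Fin 2) F) : Matrix (Fin 2) (Fin 2) F).det ^ q = 1 := by
  rw [← Herm.guEquiv_det hF g, ← Herm.powHom_apply hF]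
  exact (Herm.hermStd_isHerm hF).det_norm_one _

theorem block_mem_SU (hF : Fintype.card F = q ^ 2) (g : Cfsg.GU 2 F q) :
    PSLThree.block (g : GL (Fin 2) F) ∈ Cfsg.SU 3 F q := by
  intro u v
  show Cfsg.hermForm 3 F q (PSLThree.blockMat (g : GL (Fin 2) F) *ᵥ u)
    (PSLThree.blockMat (g : GL (Fin 2) F) *ᵥ v) = Cfsg.hermForm 3 F q u v
  have hd := gu_det_norm hF g
  set M := ((g : GL (Fin 2) F) : Matrix (Fin 2) (Fin 2) F) with hM
  have hd0 : M.det ≠ 0 := fun h => by rw [h, zero_mul] at hd; exact zero_ne_one hd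
  have hdi : M.det⁻¹ * (M.det⁻¹) ^ q = 1 := by rw [inv_pow, ← mul_inv, hd, inv_one]
  have hg : Cfsg.hermForm 2 F q (M *ᵥ ![u 1, u 2]) (M *ᵥ ![v 1, v 2]) =
      Cfsg.hermForm 2 F q ![u 1, u 2] ![v 1, v 2] := g.2 _ _
  simp only [Cfsg.hermForm, Fin.sum_univ_two, Fin.sum_univ_three, Matrix.mulVec, dotProduct,
    PSLThree.blockMat, Matrix.cons_val_zero, Matrix.cons_val_one, Matrix.cons_val_two,
    Matrix.head_cons, Matrix.tail_cons, Matrix.cons_val, Matrix.of_apply, zero_mul, zero_add,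
    add_zero, ← hM] at hg ⊢
  rw [add_assoc, add_assoc, hg, mul_pow]
  linear_combination (u 0 * v 0 ^ q) * hdi

/-- `g ↦ diag((det g)⁻¹, g)` from the unitary group onto an involution centraliser. -/
noncomputable def toPSU (hF : Fintype.card F = q ^ 2) : Cfsg.GU 2 F q →* Cfsg.PSU 3 F q :=
  (QuotientGroup.mk' _).comp
    ((PSLThree.block.comp (Cfsg.GU 2 F q).subtype).codRestrict _ (block_mem_SU hF))

theorem odd_card_ker_toPSU (hF : Fintype.card F = q ^ 2) :
    Odd (Nat.card (toPSU hF).ker) := by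
  let ψ : (toPSU hF).ker →* Subgroup.center (Cfsg.SU 3 F q) :=
    (((PSLThree.block.comp (Cfsg.GU 2 F q).subtype).codRestrict _ (block_mem_SU hF)).comp
      (toPSU hF).ker.subtype).codRestrict _ fun g => (QuotientGroup.eq_one_iff _).1 g.2
  have hψ : Function.Injective ψ := fun a b h =>
    Subtype.ext (Subtype.ext (PSLThree.block_injective (congrArg Subtype.val (congrArg Subtype.val h))))
  have hd := Subgroup.card_dvd_of_injective ψ hψ
  rw [Herm.card_center_SU hF 3 le_rfl] at hd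
  exact Odd.of_dvd_nat (Odd.of_dvd_nat (by decide) (Nat.gcd_dvd_left 3 _)) hd

theorem psuThree_isSimple (hF : Fintype.card F = q ^ 2) (hodd : q % 2 = 1)
    (S : Sylow 2 (Cfsg.PSU 3 F q)) :
    (groupFusionSystem (S : Subgroup (Cfsg.PSU 3 F q))).IsSimple 2 := by
  have : IsSimpleGroup (Cfsg.PSU 3 F q) :=
    Herm.isSimpleGroup_PSU' hF 3 le_rfl fun _ => by omega
  obtain ⟨P⟩ : Nonempty (Sylow 2 (Cfsg.GU 2 F q)) := inferInstance
  have hq2 : 2 ≤ q := two_le_of_card_sq hF
  obtain ⟨e⟩ := sylow_equiv_of_hom (toPSU hF) (odd_card_ker_toPSU hF) (by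
    have h1 := Herm.card_PSU hF 3 (by omega)
    simp only [Finset.prod_range_succ, Finset.prod_range_zero, one_mul, zero_add, pow_one,
      Nat.reduceMul, Nat.reduceSub, Nat.reduceDiv, Nat.reduceAdd, Even.zero, if_true,
      Nat.not_even_one, if_false, even_two] at h1
    have ho : Odd q := Nat.odd_iff.2 hodd
    obtain ⟨r, hr⟩ : ∃ r, q = r + 1 := ⟨q - 1, by omega⟩
    refine factorization_two_eq (k := Nat.gcd 3 (q + 1)) (M := q ^ 2 * (r * q + 1))
      Nat.card_pos.ne' Nat.card_pos.ne'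
      (Odd.of_dvd_nat (by decide) (Nat.gcd_dvd_left 3 _)) ?_ ?_
    · exact ho.pow.mul (Even.add_one (Even.mul_right (by rw [Nat.even_iff]; omega) _))
    · refine Nat.eq_of_mul_eq_mul_left (show 0 < q + 1 by omega) ?_
      rw [mul_left_comm, h1, LinearSylowTwo.card_GU_two hF]
      subst hr
      rw [show (r + 1) ^ 2 - 1 = r * (r + 2) from Nat.sub_eq_of_eq_add (by ring),
        Nat.add_sub_cancel]
      ring) P S
  refine isSimple_of_simple_rankTwo S ?_
  rcases (show q % 4 = 1 ∨ q % 4 = 3 by omega) with h | h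
  · exact Or.inl (isQuasiDihedral_congr e (LinearSylowTwo.gu_quasiDihedral hF h P))
  · exact Or.inr (isWreathed_congr e (LinearSylowTwo.gu_wreathed hF h P))

end Unitary

end CfsgLib.Fusion
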