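import Cfsg.Agent.Lib.Fusion.Series
import Mathlib.GroupTheory.SpecificGroups.Quaternion
import Mathlib.GroupTheory.SpecificGroups.Dihedral
import Mathlib.Tactic.Ring

/-!
# Automorphisms of `2`-groups with a unique maximal cyclic subgroup of maximal order
-/

set_option autoImplicit false

namespace CfsgLib.Fusion

open Cfsg Cfsg.FusionSystem

theorem exists_pow_eq_one_of_maximal_cyclic {G : Type*} [Group G] [Finite G] (hG : IsPGroup 2 G)
    {r : G} {N : ℕ} (hr : orderOf r = 2 ^ N) (hN : 1 ≤ N)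
    (hidx : (Subgroup.zpowers r).index = 2)
    (hout : ∀ y, y ∉ Subgroup.zpowers r → orderOf y ≠ 2 ^ N) (β : MulAut G) :
    ∃ k, β ^ 2 ^ k = 1 := by
  have : Fact (Nat.Prime 2) := ⟨Nat.prime_two⟩
  set C := Subgroup.zpowers r with hC
  have hβr : β r ∈ C := by
    by_contra h
    exact hout _ h (by rw [MulEquiv.orderOf_eq, hr])
  have hβC : ∀ x, x ∈ C → β x ∈ C := by
    intro x hx
    obtain ⟨j, rfl⟩ := Subgroup.mem_zpowers_iff.1 hx
    rw [map_zpow]
    exact C.zpow_mem hβr j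
  obtain ⟨k, hk⟩ := (Submonoid.mem_powers_iff _ _).1 (mem_powers_iff_mem_zpowers.2 hβr)
  have hodd : Odd k := by
    rcases Nat.even_or_odd k with ⟨q, hq⟩ | h
    · exfalso
      have h1 : (β r) ^ 2 ^ (N - 1) = 1 := by
        rw [← hk, ← pow_mul, hq, show (q + q) * 2 ^ (N - 1) = q * 2 ^ N by
          rw [← two_mul, mul_comm 2 q, mul_assoc, ← pow_succ']; congr 2; omega,
          mul_comm, pow_mul, ← hr, pow_orderOf_eq_one, one_pow]
      have h2 := orderOf_dvd_of_pow_eq_one h1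
      rw [MulEquiv.orderOf_eq, hr] at h2
      exact absurd (Nat.le_of_dvd (by positivity) h2)
        (not_le.2 (Nat.pow_lt_pow_right (by norm_num) (by omega)))
    · exact h
  obtain ⟨q, hq⟩ := hodd
  let L : Fin (N + 2) → Subgroup G := fun i =>
    if (i : ℕ) ≤ N then Subgroup.zpowers (r ^ 2 ^ (N - (i : ℕ))) else ⊤
  have hL1 : ∀ i : Fin (N + 2), (i : ℕ) ≤ N → L i = Subgroup.zpowers (r ^ 2 ^ (N - (i : ℕ))) :=
    fun i h => by simp [L, h]
  have hL2 : ∀ i : Fin (N + 2), N < (i : ℕ) → L i = ⊤ := fun i h => by simp [L, h.not_ge]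
  have hpow : ∀ (j : ℤ) (d : ℕ), β ((r ^ 2 ^ d) ^ j) = ((r ^ 2 ^ d) ^ j) ^ k := by
    intro j d
    rw [map_zpow, map_pow, ← hk, pow_right_comm r k, ← zpow_natCast (r ^ 2 ^ d) k, ← zpow_mul,
      mul_comm, zpow_mul, zpow_natCast]
  refine exists_pow_eq_one_of_stabilizes hG L ?_ (hL2 _ (by simp)) β ?_ ?_
  · rw [hL1 0 (by simp)]
    simp [← hr, pow_orderOf_eq_one]
  · intro i x hx
    rcases Nat.lt_or_ge N (i : ℕ) with h | h
    · rw [hL2 i h]; exact Subgroup.mem_top _
    · rw [hL1 i h] at hx ⊢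
      obtain ⟨j, rfl⟩ := Subgroup.mem_zpowers_iff.1 hx
      rw [hpow]
      exact Subgroup.pow_mem _ (Subgroup.zpow_mem _ (Subgroup.mem_zpowers _) _) _
  · intro i x hx
    rw [hL1 i.castSucc (by simp; omega)]
    rcases Nat.lt_or_ge (i : ℕ) N with h | h
    · rw [hL1 i.succ (by simp; omega)] at hx
      obtain ⟨j, rfl⟩ := Subgroup.mem_zpowers_iff.1 hx
      rw [hpow, hq, pow_succ', inv_mul_cancel_left]
      have e : N - (i.castSucc : ℕ) = (N - (i.succ : ℕ)) + 1 := by simp; omega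
      rw [e, pow_succ, pow_mul r]
      refine ⟨j * q, ?_⟩
      simp only
      rw [← zpow_natCast _ 2, ← zpow_natCast _ (2 * q), ← zpow_mul, ← zpow_mul]
      congr 1
      push_cast
      ring
    · have e : N - (i.castSucc : ℕ) = 0 := by simp; omega
      rw [e, pow_zero, pow_one]
      show x⁻¹ * β x ∈ C
      rw [Subgroup.mul_mem_iff_of_index_two hidx, inv_mem_iff]
      constructor
      · exact hβC x
      · intro hx'
        have hmap : (β : G ≃* G).toMonoidHom r ∈ C := hβr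
        have hfin : C.map β.toMonoidHom = C := by
          refine Subgroup.eq_of_le_of_card_ge ?_ ?_
          · rintro _ ⟨z, hz, rfl⟩; exact hβC z hz
          · rw [Subgroup.card_map_of_injective β.injective]
        obtain ⟨z, hz, hzx⟩ := hfin.ge hx'
        exact β.injective hzx ▸ hz

variable {Ω : Type*} [Group Ω] {S : Subgroup Ω} {F : FusionSystem S}

theorem autGroup_top_eq_inn [Finite S] (hS : IsPGroup 2 S) (hF : F.IsSaturated 2)
    (h : ∀ β : MulAut S, ∃ k, β ^ 2 ^ k = 1) : F.autGroup S = Inn S := by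
  have : Fact (Nat.Prime 2) := ⟨Nat.prime_two⟩
  refine le_antisymm ?_ (inn_le_autGroup le_rfl)
  obtain ⟨R, hR⟩ := IsSaturated.top_autGroup_sylow hS hF
  have hp : IsPGroup 2 (F.autGroup S) := fun α => by
    obtain ⟨k, hk⟩ := h α
    exact ⟨k, Subtype.ext hk⟩
  have htop := R.is_maximal' (hp.to_subgroup ⊤) le_top
  intro α hα
  exact (hR.le (htop.le (Subgroup.mem_top (⟨α, hα⟩ : F.autGroup S))) : _)

theorem transfer_aut {G H : Type*} [Group G] [Group H] (e : G ≃* H)
    (h : ∀ β : MulAut H, ∃ k, β ^ 2 ^ k = 1) (β : MulAut G) : ∃ k, β ^ 2 ^ k = 1 := by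
  obtain ⟨k, hk⟩ := h (MulAut.congr e β)
  exact ⟨k, (MulAut.congr e).injective (by rw [map_pow, hk, map_one])⟩

theorem dihedral_aut {M : ℕ} (hM : 2 ≤ M) (β : MulAut (DihedralGroup (2 ^ M))) :
    ∃ k, β ^ 2 ^ k = 1 := by
  refine exists_pow_eq_one_of_maximal_cyclic (IsPGroup.of_card (n := M + 1) ?_)
    (r := DihedralGroup.r 1) DihedralGroup.orderOf_r_one (by omega) ?_ ?_ β
  · rw [DihedralGroup.nat_card, pow_succ, mul_comm]
  · have h := (Subgroup.zpowers (DihedralGroup.r (1 : ZMod (2 ^ M)))).index_mul_card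
    rw [Nat.card_zpowers, DihedralGroup.orderOf_r_one, DihedralGroup.nat_card] at h
    exact Nat.eq_of_mul_eq_mul_right (by positivity) h
  · rintro (i | i) hy
    · exfalso
      obtain ⟨j, rfl⟩ := ZMod.intCast_surjective i
      exact hy ⟨j, DihedralGroup.r_one_zpow j⟩
    · rw [DihedralGroup.orderOf_sr]
      intro h
      have := Nat.pow_le_pow_right (by norm_num : 0 < 2) hM
      omega

theorem quaternion_aut {M : ℕ} (hM : 2 ≤ M) (β : MulAut (QuaternionGroup (2 ^ M))) :
    ∃ k, β ^ 2 ^ k = 1 := by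
  have ha : orderOf (QuaternionGroup.a (1 : ZMod (2 * 2 ^ M))) = 2 ^ (M + 1) := by
    rw [QuaternionGroup.orderOf_a_one, pow_succ']
  have hc : Nat.card (QuaternionGroup (2 ^ M)) = 2 ^ (M + 2) := by
    rw [Nat.card_eq_fintype_card, QuaternionGroup.card, pow_add, mul_comm]; norm_num
  refine exists_pow_eq_one_of_maximal_cyclic (IsPGroup.of_card hc)
    (r := QuaternionGroup.a 1) ha (by omega) ?_ ?_ β
  · have h := (Subgroup.zpowers (QuaternionGroup.a (1 : ZMod (2 * 2 ^ M)))).index_mul_card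
    rw [Nat.card_zpowers, ha, hc, pow_succ' _ (M + 1)] at h
    exact Nat.eq_of_mul_eq_mul_right (by positivity) h
  · rintro (i | i) hy
    · exfalso
      obtain ⟨j, hj⟩ := ZMod.natCast_zmod_surjective i
      exact hy (hj ▸ (QuaternionGroup.a_one_pow j) ▸ Subgroup.pow_mem _ (Subgroup.mem_zpowers _) j)
    · rw [QuaternionGroup.orderOf_xa]
      intro h
      have := Nat.pow_le_pow_right (by norm_num : 0 < 2) (show 3 ≤ M + 1 by omega)
      omega

end CfsgLib.Fusion
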