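import Cfsg.Agent.Lib.Fusion.SmallSimple
import Cfsg.Agent.Lib.Fusion.MaximalCyclic
import Cfsg.Agent.Lib.TwoGroups.DihedralFusion
import Cfsg.Agent.Lib.Classical.SL2Structure

/-!
# Simplicity of the `2`-fusion system of `PSL(2, q)` with dihedral Sylow subgroups of order at least 8
-/

set_option autoImplicit false

namespace CfsgLib.Fusion

open Cfsg Cfsg.FusionSystem DihedralGroup

/-- A group without subgroups of index two whose Sylow `2`-subgroups are dihedral of order at
least `8` has a simple `2`-fusion system. -/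
theorem groupFusion_isSimple_of_dihedral {X : Type*} [Group X] [Finite X] {n : ℕ}
    (f : DihedralGroup (2 ^ n) →* X) (hf : Function.Injective f) (S₀ S : Sylow 2 X)
    (hS : f.range = (S₀ : Subgroup X)) (hn : 2 ≤ n) (h : ∀ H : Subgroup X, H.index ≠ 2) :
    (groupFusionSystem (S : Subgroup X)).IsSimple 2 := by
  have hall := CfsgLib.TwoGroups.Dihedral.all_conj_of_no_index_two hf hS (by omega) h
  have hsr : ∀ i, orderOf (f (sr i)) = 2 := fun i => by rw [orderOf_injective f hf, orderOf_sr]
  have hmem : ∀ x, f x ∈ (S₀ : Subgroup X) := fun x => hS ▸ ⟨x, rfl⟩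
  refine groupFusion_isSimple_of_data_conj S₀ S ?_ (fun T hTS hTb hTc => ?_) fun g hg => ?_
  · intro hb
    have h1 : f (sr 0) = 1 := Subgroup.mem_bot.1 (hb ▸ hmem _)
    have h2 := hsr 0
    rw [h1, orderOf_one] at h2
    omega
  · have hp : IsPGroup 2 T := S₀.2.to_le hTS
    have : Nontrivial T := (Subgroup.nontrivial_iff_ne_bot T).2 hTb
    obtain ⟨k, hk, hk'⟩ := hp.nontrivial_iff_card.1 inferInstance
    obtain ⟨z, hz⟩ := exists_prime_orderOf_dvd_card' (G := T) 2 (hk' ▸ dvd_pow_self 2 hk.ne')
    have hz' : orderOf (z : X) = 2 := by rw [Subgroup.orderOf_coe, hz]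
    have hin : ∀ i, f (sr i) ∈ T := fun i => by
      obtain ⟨c, hc⟩ := _root_.isConj_iff.1 (hall _ _ hz' (hsr i))
      rw [← hc]
      exact hTc z z.2 c (hc ▸ hmem _)
    refine le_antisymm hTS ?_
    rw [← hS]
    rintro _ ⟨(t | t), rfl⟩
    · rw [show (r t : DihedralGroup (2 ^ n)) = sr 0 * sr t by rw [sr_mul_sr, sub_zero], map_mul]
      exact mul_mem (hin 0) (hin t)
    · exact hin t
  · have e : (S₀ : Subgroup X) ≃* DihedralGroup (2 ^ n) :=
      ((MonoidHom.ofInjective hf).trans (MulEquiv.subgroupCongr hS)).symm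
    obtain ⟨a, ha⟩ := transfer_aut e (dihedral_aut hn)
      (Subgroup.normalizerMonoidHom (S₀ : Subgroup X) ⟨g, hg⟩)
    refine ⟨a, fun x hx => ?_⟩
    rw [← map_pow] at ha
    have h1 := MonoidHom.mem_ker.2 ha
    rw [Subgroup.normalizerMonoidHom_ker, Subgroup.mem_subgroupOf, Subgroup.mem_centralizer_iff] at h1
    exact (by simpa using (h1 x hx).symm)

/-- The map from the quaternion group of order `4m` onto the dihedral group of order `2m`. -/
def quatToDihedral (m : ℕ) : QuaternionGroup m →* DihedralGroup m where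
  toFun x := match x with
    | .a i => r (ZMod.castHom (dvd_mul_left m 2) (ZMod m) i)
    | .xa i => sr (ZMod.castHom (dvd_mul_left m 2) (ZMod m) i)
  map_one' := by
    show r (ZMod.castHom (dvd_mul_left m 2) (ZMod m) 0) = 1
    rw [map_zero]; rfl
  map_mul' := by
    rintro (i | i) (j | j)
    · simp [QuaternionGroup.a_mul_a]
    · simp [QuaternionGroup.a_mul_xa]
    · simp [QuaternionGroup.xa_mul_a]
    · simp [QuaternionGroup.xa_mul_xa]

theorem quatToDihedral_surjective (m : ℕ) : Function.Surjective (quatToDihedral m) := by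
  rintro (t | t) <;> obtain ⟨i, hi⟩ := ZMod.castHom_surjective (dvd_mul_left m 2) t
  · exact ⟨.a i, congrArg r hi⟩
  · exact ⟨.xa i, congrArg sr hi⟩

theorem quatToDihedral_eq_one_iff {m : ℕ} [NeZero m] {x : QuaternionGroup m} :
    quatToDihedral m x = 1 ↔ x = 1 ∨ x = .a (m : ZMod (2 * m)) := by
  constructor
  · rcases x with i | i
    · intro h
      have h' : ZMod.castHom (dvd_mul_left m 2) (ZMod m) i = 0 := r.inj h
      rw [← ZMod.natCast_zmod_val i, map_natCast, ZMod.natCast_eq_zero_iff] at h'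
      obtain ⟨c, hc⟩ := h'
      have hlt := ZMod.val_lt i
      rcases c with _ | _ | c
      · exact Or.inl (by rw [← ZMod.natCast_zmod_val i, hc]; simp)
      · exact Or.inr (by rw [← ZMod.natCast_zmod_val i, hc]; simp)
      · exfalso
        have h1 : m * 2 ≤ m * (c + 1 + 1) := Nat.mul_le_mul_left m (by omega)
        omega
    · intro h; cases h
  · rintro (rfl | rfl)
    · exact map_one _
    · show r (ZMod.castHom (dvd_mul_left m 2) (ZMod m) (m : ZMod (2 * m))) = 1
      rw [map_natCast, ZMod.natCast_self]; rfl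

theorem eq_of_orderOf_two {m : ℕ} [NeZero m] {x : QuaternionGroup m} (hx : orderOf x = 2) :
    x = .a (m : ZMod (2 * m)) := by
  rcases x with i | i
  · have h : (QuaternionGroup.a i : QuaternionGroup m) ^ 2 = 1 := hx ▸ pow_orderOf_eq_one _
    rw [pow_two, QuaternionGroup.a_mul_a] at h
    have h' : ((2 * i.val : ℕ) : ZMod (2 * m)) = 0 := by
      rw [Nat.cast_mul, ZMod.natCast_zmod_val, Nat.cast_two, two_mul i]
      exact QuaternionGroup.a.inj h
    rw [ZMod.natCast_eq_zero_iff] at h'
    obtain ⟨c, hc⟩ := (Nat.mul_dvd_mul_iff_left (by norm_num)).1 h'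
    have hlt := ZMod.val_lt i
    rcases c with _ | _ | c
    · exfalso
      have : i = 0 := by rw [← ZMod.natCast_zmod_val i, hc]; simp
      rw [this, ← QuaternionGroup.one_def, orderOf_one] at hx
      omega
    · rw [← ZMod.natCast_zmod_val i, hc]; simp
    · exfalso
      have h1 : m * 2 ≤ m * (c + 1 + 1) := Nat.mul_le_mul_left m (by omega)
      omega
  · rw [QuaternionGroup.orderOf_xa] at hx
    omega

open scoped MatrixGroups in
theorem psl_two_isSimple {F : Type*} [Field F] [Fintype F] (hodd : Fintype.card F % 2 = 1)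
    (h16 : 16 ∣ Fintype.card F ^ 2 - 1)
    (S : Sylow 2 (Matrix.ProjectiveSpecialLinearGroup (Fin 2) F)) :
    (groupFusionSystem (S : Subgroup (Matrix.ProjectiveSpecialLinearGroup (Fin 2) F))).IsSimple 2 := by
  classical
  obtain ⟨p, hp⟩ := CharP.exists F
  obtain ⟨d, hpp, hd⟩ := FiniteField.card F p
  have : Fact p.Prime := ⟨hpp⟩
  have hp2 : p ≠ 2 := by
    rintro rfl
    have : 2 ∣ Fintype.card F := hd ▸ dvd_pow_self 2 d.ne_zero
    omega
  have h2 := CfsgLib.Classical.Two.two_ne_zero_of_char (F := F) hp2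
  obtain ⟨S'⟩ := (inferInstance : Nonempty (Sylow 2 SL(2, F)))
  obtain ⟨k, hk1, ⟨e⟩⟩ := CfsgLib.Classical.Two.sylow_two_quaternion hp2 (MonoidHom.id SL(2, F))
    Function.injective_id (CfsgLib.PLocal.SLTwo.ofZMod (K := F) p)
    (CfsgLib.PLocal.SLTwo.ofZMod_injective (K := F)) S'
  -- the order of the quaternion group
  have hcard : Nat.card (S' : Subgroup SL(2, F)) = 4 * 2 ^ k := by
    rw [Nat.card_congr e.toEquiv, Nat.card_eq_fintype_card, QuaternionGroup.card]
  have hk : 2 ≤ k := by
    have hdvd : 2 ^ 4 ∣ Nat.card SL(2, F) := by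
      rw [CfsgLib.Classical.Two.card_SL_two]
      exact (show 2 ^ 4 ∣ Fintype.card F ^ 2 - 1 by norm_num; exact h16).trans (dvd_mul_left _ _)
    have := Sylow.pow_dvd_card_of_pow_dvd_card (n := 4) S' hdvd
    rw [hcard, show (4 : ℕ) = 2 ^ 2 from rfl, ← pow_add] at this
    have := (Nat.pow_dvd_pow_iff_le_right (x := 2) (by norm_num)).1 this
    omega
  -- the map from the quaternion group to PSL
  let π : SL(2, F) →* Matrix.ProjectiveSpecialLinearGroup (Fin 2) F := QuotientGroup.mk' _
  have hπ : Function.Surjective π := QuotientGroup.mk'_surjective _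
  let f₀ : QuaternionGroup (2 ^ k) →* Matrix.ProjectiveSpecialLinearGroup (Fin 2) F :=
    π.comp ((S' : Subgroup SL(2, F)).subtype.comp e.symm.toMonoidHom)
  have hneg : (-1 : SL(2, F)) ∈ Subgroup.center SL(2, F) := Subgroup.mem_center_iff.2 fun g => by
    rw [mul_neg, neg_mul, mul_one, one_mul]
  have hinj : Function.Injective ((S' : Subgroup SL(2, F)).subtype.comp e.symm.toMonoidHom) :=
    (S' : Subgroup SL(2, F)).subtype_injective.comp e.symm.injective
  have hord : ∀ x : QuaternionGroup (2 ^ k),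
      orderOf ((e.symm x : (S' : Subgroup SL(2, F))) : SL(2, F)) = orderOf x := fun x => by
    rw [Subgroup.orderOf_coe, e.symm.orderOf_eq]
  have horda : orderOf (QuaternionGroup.a ((2 ^ k : ℕ) : ZMod (2 * 2 ^ k)) : QuaternionGroup (2 ^ k)) = 2 := by
    refine orderOf_eq_prime ?_ ?_
    · rw [pow_two, QuaternionGroup.a_mul_a, ← Nat.cast_add, ← two_mul, ZMod.natCast_self]; rfl
    · rw [Ne, QuaternionGroup.one_def, QuaternionGroup.a.injEq, ZMod.natCast_eq_zero_iff]
      intro hdvd
      have := Nat.le_of_dvd (by positivity) hdvd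
      have : 0 < 2 ^ k := by positivity
      omega
  have hker : ∀ x, f₀ x = 1 ↔ quatToDihedral (2 ^ k) x = 1 := by
    intro x
    rw [quatToDihedral_eq_one_iff]
    constructor
    · intro hx
      have hc : ((e.symm x : (S' : Subgroup SL(2, F))) : SL(2, F)) ∈ Subgroup.center SL(2, F) :=
        (QuotientGroup.eq_one_iff _).1 hx
      obtain ⟨c, hc2, hc'⟩ := Matrix.SpecialLinearGroup.mem_center_iff.1 hc
      rw [Fintype.card_fin] at hc2
      have hc'' : c = 1 ∨ c = -1 := sq_eq_one_iff.1 hc2
      rcases hc'' with rfl | rfl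
      · left
        refine hinj ?_
        rw [map_one]
        exact Subtype.ext (by rw [Matrix.SpecialLinearGroup.coe_one, ← map_one (Matrix.scalar (Fin 2))]; exact hc'.symm)
      · right
        refine eq_of_orderOf_two ?_
        rw [← hord, show ((e.symm x : (S' : Subgroup SL(2, F))) : SL(2, F)) = -1 from
          Subtype.ext (by rw [← hc', map_neg, map_one]; simp)]
        refine orderOf_eq_prime (by simp) (CfsgLib.Classical.Two.neg_one_ne_one_SL h2)
    · rintro (rfl | rfl)
      · exact map_one _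
      · refine (QuotientGroup.eq_one_iff _).2 ?_
        have h1 := CfsgLib.Classical.Two.eq_neg_one_of_orderOf_two h2 ((hord _).trans horda)
        show ((e.symm _ : (S' : Subgroup SL(2, F))) : SL(2, F)) ∈ Subgroup.center SL(2, F)
        rw [h1]
        exact hneg
  let f : DihedralGroup (2 ^ k) →* Matrix.ProjectiveSpecialLinearGroup (Fin 2) F :=
    (quatToDihedral (2 ^ k)).liftOfSurjective (quatToDihedral_surjective _)
      ⟨f₀, fun x hx => (hker x).2 hx⟩
  have hfθ : ∀ x, f (quatToDihedral (2 ^ k) x) = f₀ x := fun x =>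
    MonoidHom.liftOfRightInverse_comp_apply _ _ _ _ x
  have hf : Function.Injective f := (injective_iff_map_eq_one f).2 fun y hy => by
    obtain ⟨x, rfl⟩ := quatToDihedral_surjective _ y
    exact (hker x).1 (by rw [← hfθ, hy])
  let S₀ := S'.mapSurjective hπ
  have hrange : f.range = (S₀ : Subgroup (Matrix.ProjectiveSpecialLinearGroup (Fin 2) F)) := by
    rw [Sylow.coe_mapSurjective]
    ext y
    constructor
    · rintro ⟨t, rfl⟩
      obtain ⟨x, rfl⟩ := quatToDihedral_surjective _ t
      exact ⟨_, (e.symm x).2, (hfθ x).symm⟩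
    · rintro ⟨s, hs, rfl⟩
      refine ⟨quatToDihedral _ (e ⟨s, hs⟩), ?_⟩
      rw [hfθ]
      exact congrArg π (congrArg Subtype.val (e.symm_apply_apply ⟨s, hs⟩))
  refine groupFusion_isSimple_of_dihedral f hf S₀ S hrange hk fun H hH => ?_
  -- no subgroup of index two, because SL(2,F) is perfect
  obtain ⟨a, ha0, hasq⟩ : ∃ a : F, a ≠ 0 ∧ a ^ 2 ≠ 1 := by
    by_contra hcon
    push Not at hcon
    have hsub : (Finset.univ : Finset F) ⊆ {0, 1, -1} := fun a _ => by
      by_cases ha : a = 0
      · simp [ha]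
      · rcases sq_eq_one_iff.1 (hcon a ha) with h | h <;> simp [h]
    have hle := (Finset.card_le_card hsub).trans Finset.card_le_three
    rw [Finset.card_univ] at hle
    have h3 : Fintype.card F = 3 := by
      have := Fintype.one_lt_card (α := F)
      omega
    rw [h3] at h16
    norm_num at h16
  have hperf := Matrix.SL2.commutator_eq_top ha0 hasq
  have : (H.comap π).Normal := Subgroup.normal_of_index_eq_two
    (by rw [Subgroup.index_comap_of_surjective _ hπ, hH])
  have hidx : (H.comap π).index = 2 := by rw [Subgroup.index_comap_of_surjective _ hπ, hH]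
  have : IsCyclic (SL(2, F) ⧸ H.comap π) :=
    isCyclic_of_prime_card (p := 2) (by rw [← Subgroup.index_eq_card, hidx])
  let _ : CommGroup (SL(2, F) ⧸ H.comap π) := IsCyclic.commGroup
  have hle : commutator SL(2, F) ≤ H.comap π :=
    Subgroup.Normal.quotient_commutative_iff_commutator_le.1 inferInstance
  rw [hperf, top_le_iff] at hle
  rw [hle, Subgroup.index_top] at hidx
  omega

end CfsgLib.Fusion
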