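import Cfsg.Prelude.Def_FusionSystem
import Mathlib.GroupTheory.Index
import Mathlib.GroupTheory.Subgroup.Centralizer
import Mathlib.Tactic.Group

/-!
Basic API for `Cfsg.FusionSystem`: restriction, composition and inversion of maps, isomorphisms in
a system, automorphism groups, centralizers and normalizers inside `S`, extenders.
-/

set_option autoImplicit false

namespace CfsgLib.Fusion

open Cfsg Cfsg.FusionSystem

variable {Ω : Type*} [Group Ω] {S : Subgroup Ω} {F : FusionSystem S}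

/-! ### Maps -/

theorem hom_le {P : Subgroup Ω} {φ : P →* Ω} (hφ : φ ∈ F.Hom P) : P ≤ S := (F.le_of_mem hφ).1

theorem hom_apply_mem {P : Subgroup Ω} {φ : P →* Ω} (hφ : φ ∈ F.Hom P) (x : P) : φ x ∈ S :=
  (F.le_of_mem hφ).2 x

theorem hom_range_le {P : Subgroup Ω} {φ : P →* Ω} (hφ : φ ∈ F.Hom P) : φ.range ≤ S := by
  rintro _ ⟨x, rfl⟩
  exact hom_apply_mem hφ x

theorem hom_congr {P : Subgroup Ω} {φ ψ : P →* Ω} (hφ : φ ∈ F.Hom P) (h : ∀ x, ψ x = φ x) :
    ψ ∈ F.Hom P := by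
  obtain rfl : ψ = φ := MonoidHom.ext h
  exact hφ

theorem conj_mem' {P : Subgroup Ω} {g : Ω} {φ : P →* Ω} (hP : P ≤ S) (hg : g ∈ S)
    (h : ∀ x : P, φ x = g * (x : Ω) * g⁻¹) : φ ∈ F.Hom P :=
  hom_congr (F.conj_mem hP hg) h

theorem incl_mem {P : Subgroup Ω} (hP : P ≤ S) : P.subtype ∈ F.Hom P :=
  conj_mem' hP S.one_mem fun x => by simp

theorem comp_mem' {P Q : Subgroup Ω} {φ : P →* Ω} {ψ : Q →* Ω} (hφ : φ ∈ F.Hom P)
    (hψ : ψ ∈ F.Hom Q) (h : ∀ x, φ x ∈ Q) {χ : P →* Ω} (hχ : ∀ x, χ x = ψ ⟨φ x, h x⟩) :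
    χ ∈ F.Hom P :=
  hom_congr (F.comp_mem hφ hψ h) hχ

theorem restrict_mem {P R : Subgroup Ω} {φ : P →* Ω} (hφ : φ ∈ F.Hom P) (h : R ≤ P) :
    φ.comp (Subgroup.inclusion h) ∈ F.Hom R :=
  comp_mem' (incl_mem (h.trans (hom_le hφ))) hφ (fun x => h x.2) fun _ => rfl

theorem restrict_mem' {P R : Subgroup Ω} {φ : P →* Ω} (hφ : φ ∈ F.Hom P) (h : R ≤ P)
    {χ : R →* Ω} (hχ : ∀ x : R, χ x = φ ⟨x, h x.2⟩) : χ ∈ F.Hom R :=
  hom_congr (restrict_mem hφ h) hχ

/-- The inverse of an injective map, read on its image `Q`. -/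
theorem exists_inv {P Q : Subgroup Ω} {φ : P →* Ω} (hφ : φ ∈ F.Hom P) (hQ : φ.range = Q) :
    ∃ ψ ∈ F.Hom Q, ψ.range = P ∧ (∀ (x : P) (hx : φ x ∈ Q), ψ ⟨φ x, hx⟩ = x) ∧
      ∀ y : Q, ∃ hy : ψ y ∈ P, φ ⟨ψ y, hy⟩ = y := by
  subst hQ
  obtain ⟨ψ, hψ, h⟩ := F.inv_mem hφ
  refine ⟨ψ, hψ, ?_, fun x _ => h x, ?_⟩
  · ext z
    constructor
    · rintro ⟨⟨_, x, rfl⟩, rfl⟩
      rw [h x]
      exact x.2
    · intro hz
      exact ⟨⟨φ ⟨z, hz⟩, ⟨⟨z, hz⟩, rfl⟩⟩, h ⟨z, hz⟩⟩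
  · rintro ⟨_, x, rfl⟩
    refine ⟨by rw [h x]; exact x.2, ?_⟩
    congr 1
    exact Subtype.ext (h x)

/-- The isomorphism `e : P ≃* Q` is a map of the system. -/
def IsoIn (F : FusionSystem S) {P Q : Subgroup Ω} (e : P ≃* Q) : Prop :=
  Q.subtype.comp e.toMonoidHom ∈ F.Hom P

/-- The homomorphism into the ambient group attached to an isomorphism of subgroups. -/
def isoHom {P Q : Subgroup Ω} (e : P ≃* Q) : P →* Ω := Q.subtype.comp e.toMonoidHom

@[simp] theorem isoHom_apply {P Q : Subgroup Ω} (e : P ≃* Q) (x : P) : isoHom e x = (e x : Ω) :=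
  rfl

theorem isoHom_range {P Q : Subgroup Ω} (e : P ≃* Q) : (isoHom e).range = Q := by
  ext z
  constructor
  · rintro ⟨x, rfl⟩
    exact (e x).2
  · intro hz
    exact ⟨e.symm ⟨z, hz⟩, by simp⟩

theorem IsoIn.mem {P Q : Subgroup Ω} {e : P ≃* Q} (he : IsoIn F e) : isoHom e ∈ F.Hom P := he

theorem IsoIn.le_left {P Q : Subgroup Ω} {e : P ≃* Q} (he : IsoIn F e) : P ≤ S := hom_le he.mem

theorem IsoIn.le_right {P Q : Subgroup Ω} {e : P ≃* Q} (he : IsoIn F e) : Q ≤ S :=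
  (isoHom_range e).ge.trans (hom_range_le he.mem)

theorem IsoIn.isConj {P Q : Subgroup Ω} {e : P ≃* Q} (he : IsoIn F e) : F.IsConj P Q :=
  ⟨_, he.mem, isoHom_range e⟩

theorem isoIn_refl {P : Subgroup Ω} (hP : P ≤ S) : IsoIn F (MulEquiv.refl P) :=
  hom_congr (incl_mem hP) fun _ => rfl

theorem IsoIn.trans {P Q R : Subgroup Ω} {e : P ≃* Q} {f : Q ≃* R} (he : IsoIn F e)
    (hf : IsoIn F f) : IsoIn F (e.trans f) :=
  comp_mem' he.mem hf.mem (fun x => (e x).2) fun _ => rfl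

theorem IsoIn.symm {P Q : Subgroup Ω} {e : P ≃* Q} (he : IsoIn F e) : IsoIn F e.symm := by
  obtain ⟨ψ, hψ, -, hl, -⟩ := exists_inv he.mem (isoHom_range e)
  refine hom_congr hψ fun y => ?_
  have := hl (e.symm y) (e _).2
  simp only [isoHom_apply, MulEquiv.apply_symm_apply] at this
  exact this.symm

/-- The isomorphism onto its image defined by an injective map. -/
noncomputable def toIso {P Q : Subgroup Ω} (φ : P →* Ω) (hinj : Function.Injective φ)
    (hQ : φ.range = Q) : P ≃* Q :=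
  (MonoidHom.ofInjective hinj).trans (MulEquiv.subgroupCongr hQ)

@[simp] theorem toIso_apply {P Q : Subgroup Ω} (φ : P →* Ω) (hinj : Function.Injective φ)
    (hQ : φ.range = Q) (x : P) : (toIso φ hinj hQ x : Ω) = φ x := rfl

theorem isoIn_toIso {P Q : Subgroup Ω} {φ : P →* Ω} (hφ : φ ∈ F.Hom P) (hQ : φ.range = Q) :
    IsoIn F (toIso φ (F.injective_of_mem hφ) hQ) :=
  hom_congr hφ fun _ => rfl

theorem exists_iso {P Q : Subgroup Ω} {φ : P →* Ω} (hφ : φ ∈ F.Hom P) (hQ : φ.range = Q) :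
    ∃ e : P ≃* Q, IsoIn F e ∧ ∀ x, (e x : Ω) = φ x :=
  ⟨_, isoIn_toIso hφ hQ, fun _ => rfl⟩

theorem isConj_iff {P Q : Subgroup Ω} : F.IsConj P Q ↔ ∃ e : P ≃* Q, IsoIn F e :=
  ⟨fun ⟨φ, hφ, hQ⟩ => ⟨_, isoIn_toIso hφ hQ⟩, fun ⟨_, he⟩ => he.isConj⟩

theorem isConj_refl {P : Subgroup Ω} (hP : P ≤ S) : F.IsConj P P := (isoIn_refl hP).isConj

theorem isConj_symm {P Q : Subgroup Ω} (h : F.IsConj P Q) : F.IsConj Q P := by
  obtain ⟨e, he⟩ := isConj_iff.1 h
  exact he.symm.isConj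

theorem isConj_trans {P Q R : Subgroup Ω} (h : F.IsConj P Q) (h' : F.IsConj Q R) :
    F.IsConj P R := by
  obtain ⟨e, he⟩ := isConj_iff.1 h
  obtain ⟨f, hf⟩ := isConj_iff.1 h'
  exact (he.trans hf).isConj

theorem isConj_card {P Q : Subgroup Ω} (h : F.IsConj P Q) : Nat.card P = Nat.card Q := by
  obtain ⟨e, -⟩ := isConj_iff.1 h
  exact Nat.card_congr e.toEquiv

theorem isConj_le_left {P Q : Subgroup Ω} (h : F.IsConj P Q) : P ≤ S := by
  obtain ⟨e, he⟩ := isConj_iff.1 h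
  exact he.le_left

theorem isConj_le_right {P Q : Subgroup Ω} (h : F.IsConj P Q) : Q ≤ S := by
  obtain ⟨e, he⟩ := isConj_iff.1 h
  exact he.le_right

theorem finite_le [Finite S] {P : Subgroup Ω} (hP : P ≤ S) : Finite P :=
  Finite.of_injective _ (Subgroup.inclusion_injective hP)

theorem isPGroup_le {p : ℕ} (hS : IsPGroup p S) {P : Subgroup Ω} (hP : P ≤ S) : IsPGroup p P :=
  hS.to_le hP

/-- The image of `R ∩ P` under a map with source `P`. -/
def img {P : Subgroup Ω} (φ : P →* Ω) (R : Subgroup Ω) : Subgroup Ω := (R.subgroupOf P).map φ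

theorem mem_img {P : Subgroup Ω} {φ : P →* Ω} {R : Subgroup Ω} {y : Ω} :
    y ∈ img φ R ↔ ∃ x : P, (x : Ω) ∈ R ∧ φ x = y := Iff.rfl

theorem range_restrict {P R : Subgroup Ω} (φ : P →* Ω) (h : R ≤ P) :
    (φ.comp (Subgroup.inclusion h)).range = img φ R := by
  ext y
  constructor
  · rintro ⟨x, rfl⟩
    exact ⟨Subgroup.inclusion h x, x.2, rfl⟩
  · rintro ⟨x, hx, rfl⟩
    exact ⟨⟨x, hx⟩, rfl⟩

theorem img_le_range {P : Subgroup Ω} (φ : P →* Ω) (R : Subgroup Ω) : img φ R ≤ φ.range :=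
  Subgroup.map_le_range _ _

theorem img_self {P : Subgroup Ω} (φ : P →* Ω) : img φ P = φ.range := by
  simp [img, MonoidHom.range_eq_map]

theorem img_mono {P : Subgroup Ω} (φ : P →* Ω) {R R' : Subgroup Ω} (h : R ≤ R') :
    img φ R ≤ img φ R' :=
  Subgroup.map_mono (Subgroup.comap_mono h)

theorem card_img {P R : Subgroup Ω} {φ : P →* Ω} (hφ : Function.Injective φ) (h : R ≤ P) :
    Nat.card (img φ R) = Nat.card R := by
  rw [img, Subgroup.card_map_of_injective hφ]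
  exact Nat.card_congr (Subgroup.subgroupOfEquivOfLe h).toEquiv

theorem isConj_img {P R : Subgroup Ω} {φ : P →* Ω} (hφ : φ ∈ F.Hom P) (h : R ≤ P) :
    F.IsConj R (img φ R) :=
  ⟨_, restrict_mem hφ h, range_restrict φ h⟩

/-! ### Automorphism groups -/

/-- The group of automorphisms of `P` in the system, for `P ≤ S`, is just the set of them. -/
theorem mem_autGroup_iff {P : Subgroup Ω} (hP : P ≤ S) {α : MulAut P} :
    α ∈ F.autGroup P ↔ P.subtype.comp α.toMonoidHom ∈ F.Hom P := by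
  refine ⟨fun h => ?_, fun h => Subgroup.subset_closure h⟩
  induction h using Subgroup.closure_induction with
  | mem a ha => exact ha
  | one => exact hom_congr (incl_mem hP) fun _ => rfl
  | mul a b _ _ ha hb =>
      exact IsoIn.trans (show IsoIn F (b : P ≃* P) from hb) (show IsoIn F (a : P ≃* P) from ha)
  | inv a _ ha => exact IsoIn.symm (show IsoIn F (a : P ≃* P) from ha)

theorem mem_autGroup_iff_isoIn {P : Subgroup Ω} (hP : P ≤ S) {α : MulAut P} :
    α ∈ F.autGroup P ↔ IsoIn F (α : P ≃* P) := mem_autGroup_iff hP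

theorem autGroup_eq_bot {P : Subgroup Ω} (hP : ¬ P ≤ S) : F.autGroup P = ⊥ := by
  rw [FusionSystem.autGroup, Subgroup.closure_eq_bot_iff]
  exact fun α hα => absurd (hom_le hα) hP

theorem mem_autInducedBy_iff {K P : Subgroup Ω} {α : MulAut P} :
    α ∈ autInducedBy K P ↔ ∃ g ∈ K, ∀ x : P, ((α x : P) : Ω) = g * (x : Ω) * g⁻¹ := by
  refine ⟨fun h => ?_, fun h => Subgroup.subset_closure h⟩
  induction h using Subgroup.closure_induction with
  | mem a ha => exact ha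
  | one => exact ⟨1, K.one_mem, fun x => by simp⟩
  | mul a b _ _ ha hb =>
      obtain ⟨g, hg, ha⟩ := ha
      obtain ⟨k, hk, hb⟩ := hb
      refine ⟨g * k, K.mul_mem hg hk, fun x => ?_⟩
      rw [MulAut.mul_apply, ha, hb]
      group
  | inv a _ ha =>
      obtain ⟨g, hg, ha⟩ := ha
      refine ⟨g⁻¹, K.inv_mem hg, fun x => ?_⟩
      have h := ha (a⁻¹ x)
      rw [MulAut.apply_inv_self] at h
      rw [h]
      group

theorem mem_normalizer_of_conj_eq {P : Subgroup Ω} {g : Ω} (α : MulAut P)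
    (h : ∀ x : P, ((α x : P) : Ω) = g * (x : Ω) * g⁻¹) :
    g ∈ Subgroup.normalizer (P : Set Ω) := by
  rw [Subgroup.mem_normalizer_iff_map_conj_eq]
  ext y
  constructor
  · rintro ⟨x, hx, rfl⟩
    have := h ⟨x, hx⟩
    simp only [MulEquiv.toMonoidHom_eq_coe, MonoidHom.coe_coe, MulAut.conj_apply]
    rw [← this]
    exact (α ⟨x, hx⟩).2
  · intro hy
    refine ⟨((α⁻¹ ⟨y, hy⟩ : P) : Ω), (α⁻¹ ⟨y, hy⟩).2, ?_⟩
    have := h (α⁻¹ ⟨y, hy⟩)
    rw [MulAut.apply_inv_self] at this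
    simpa using this.symm

theorem autInducedBy_eq_map (K P : Subgroup Ω) :
    autInducedBy K P =
      ((K.subgroupOf (Subgroup.normalizer (P : Set Ω))).map P.normalizerMonoidHom) := by
  ext α
  rw [mem_autInducedBy_iff]
  constructor
  · rintro ⟨g, hg, h⟩
    exact ⟨⟨g, mem_normalizer_of_conj_eq α h⟩, hg, MulEquiv.ext fun x => Subtype.ext (h x).symm⟩
  · rintro ⟨n, hn, rfl⟩
    exact ⟨n, hn, fun x => rfl⟩

theorem autInducedBy_mono {K K' P : Subgroup Ω} (h : K ≤ K') :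
    autInducedBy K P ≤ autInducedBy K' P := by
  intro α hα
  obtain ⟨g, hg, h'⟩ := mem_autInducedBy_iff.1 hα
  exact mem_autInducedBy_iff.2 ⟨g, h hg, h'⟩

theorem autInducedBy_le_autGroup {P : Subgroup Ω} (hP : P ≤ S) :
    autInducedBy S P ≤ F.autGroup P := by
  intro α hα
  obtain ⟨g, hg, h⟩ := mem_autInducedBy_iff.1 hα
  exact (mem_autGroup_iff hP).2 (conj_mem' hP hg h)

theorem inn_le_autInducedBy {K P : Subgroup Ω} (h : P ≤ K) : Inn P ≤ autInducedBy K P := by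
  rintro _ ⟨g, rfl⟩
  exact mem_autInducedBy_iff.2 ⟨g, h g.2, fun x => rfl⟩

theorem inn_le_autGroup {P : Subgroup Ω} (hP : P ≤ S) : Inn P ≤ F.autGroup P :=
  (inn_le_autInducedBy hP).trans (autInducedBy_le_autGroup hP)

theorem autInducedBy_self (P : Subgroup Ω) : autInducedBy P P = Inn P := by
  refine le_antisymm (fun α hα => ?_) (inn_le_autInducedBy le_rfl)
  obtain ⟨g, hg, h⟩ := mem_autInducedBy_iff.1 hα
  exact ⟨⟨g, hg⟩, MulEquiv.ext fun x => Subtype.ext (h x).symm⟩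

theorem inn_subgroupOf_normal {P : Subgroup Ω} (F : FusionSystem S) :
    ((Inn P).subgroupOf (F.autGroup P)).Normal := Subgroup.Normal.subgroupOf inferInstance _

theorem IsoIn.congr_autGroup {P Q : Subgroup Ω} {e : P ≃* Q} (he : IsoIn F e) :
    (F.autGroup P).map (MulAut.congr e).toMonoidHom = F.autGroup Q := by
  ext β
  constructor
  · rintro ⟨α, hα, rfl⟩
    exact (mem_autGroup_iff_isoIn he.le_right).2
      (he.symm.trans (((mem_autGroup_iff_isoIn he.le_left).1 hα).trans he))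
  · intro hβ
    refine ⟨e.trans ((β : Q ≃* Q).trans e.symm), ?_, ?_⟩
    · exact (mem_autGroup_iff_isoIn he.le_left).2
        (he.trans (((mem_autGroup_iff_isoIn he.le_right).1 hβ).trans he.symm))
    · apply MulEquiv.ext
      intro y
      simp [MulAut.congr]

theorem card_autGroup_congr {P Q : Subgroup Ω} (h : F.IsConj P Q) :
    Nat.card (F.autGroup P) = Nat.card (F.autGroup Q) := by
  obtain ⟨e, he⟩ := isConj_iff.1 h
  rw [← he.congr_autGroup, Subgroup.card_map_of_injective]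
  exact (MulAut.congr e).injective

/-! ### Centralizers and normalizers inside `S` -/

theorem mem_centralizerIn {P : Subgroup Ω} {g : Ω} :
    g ∈ centralizerIn S P ↔ g ∈ S ∧ ∀ x ∈ P, x * g = g * x :=
  and_congr Iff.rfl Subgroup.mem_centralizer_iff

theorem mem_normalizerIn {P : Subgroup Ω} {g : Ω} :
    g ∈ normalizerIn S P ↔ g ∈ S ∧ g ∈ Subgroup.normalizer (P : Set Ω) := Iff.rfl

theorem centralizerIn_le (P : Subgroup Ω) : centralizerIn S P ≤ S := inf_le_left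

theorem normalizerIn_le (P : Subgroup Ω) : normalizerIn S P ≤ S := inf_le_left

theorem centralizerIn_le_normalizerIn (P : Subgroup Ω) :
    centralizerIn S P ≤ normalizerIn S P :=
  inf_le_inf_left _ (Subgroup.centralizer_le_normalizer _)

theorem le_normalizerIn {P : Subgroup Ω} (hP : P ≤ S) : P ≤ normalizerIn S P :=
  le_inf hP Subgroup.le_normalizer

theorem centralizerIn_antitone {P Q : Subgroup Ω} (h : P ≤ Q) :
    centralizerIn S Q ≤ centralizerIn S P :=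
  inf_le_inf_left _ (Subgroup.centralizer_le h)

theorem conj_mem_of_mem_normalizer {P : Subgroup Ω} {g x : Ω}
    (hg : g ∈ Subgroup.normalizer (P : Set Ω)) (hx : x ∈ P) : g * x * g⁻¹ ∈ P :=
  (Subgroup.mem_normalizer_iff.1 hg x).1 hx

theorem card_normalizerIn (P : Subgroup Ω) :
    Nat.card (normalizerIn S P) =
      Nat.card (autInducedBy S P) * Nat.card (centralizerIn S P) := by
  let f : normalizerIn S P →* MulAut P :=
    P.normalizerMonoidHom.comp (Subgroup.inclusion inf_le_right)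
  have hrange : f.range = autInducedBy S P := by
    ext α
    rw [mem_autInducedBy_iff]
    constructor
    · rintro ⟨n, rfl⟩
      exact ⟨n, n.2.1, fun x => rfl⟩
    · rintro ⟨g, hg, h⟩
      exact ⟨⟨g, hg, mem_normalizer_of_conj_eq α h⟩,
        MulEquiv.ext fun x => Subtype.ext (h x).symm⟩
  have hker : f.ker = (centralizerIn S P).subgroupOf (normalizerIn S P) := by
    have h := P.normalizerMonoidHom_ker
    ext n
    rw [MonoidHom.mem_ker]
    constructor
    · intro hn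
      have : Subgroup.inclusion inf_le_right n ∈ P.normalizerMonoidHom.ker := hn
      rw [h] at this
      exact ⟨n.2.1, this⟩
    · intro hn
      have : Subgroup.inclusion inf_le_right n ∈ P.normalizerMonoidHom.ker := by
        rw [h]
        exact hn.2
      exact this
  rw [← f.ker.card_mul_index, Subgroup.index_ker, hrange, hker,
    Nat.card_congr (Subgroup.subgroupOfEquivOfLe (centralizerIn_le_normalizerIn P)).toEquiv,
    mul_comm]

/-! ### Extenders -/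

/-- Membership in `N_φ` for a map with source `P`. -/
theorem mem_extender_iff {P : Subgroup Ω} {φ : P →* Ω} {g : Ω} :
    g ∈ extender S P φ ↔ g ∈ S ∧ g ∈ Subgroup.normalizer (P : Set Ω) ∧
      ∃ h ∈ S, ∀ (x : P) (hx : g * (x : Ω) * g⁻¹ ∈ P), φ ⟨g * x * g⁻¹, hx⟩ = h * φ x * h⁻¹ := by
  refine ⟨fun h => ?_, fun h => Subgroup.subset_closure h⟩
  induction h using Subgroup.closure_induction with
  | mem a ha => exact ha
  | one =>
      exact ⟨S.one_mem, one_mem _, 1, S.one_mem, fun x hx => by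
        simp only [one_mul, inv_one, mul_one]⟩
  | mul a b _ _ ha hb =>
      obtain ⟨haS, haN, h, hh, hah⟩ := ha
      obtain ⟨hbS, hbN, k, hk, hbk⟩ := hb
      refine ⟨S.mul_mem haS hbS, mul_mem haN hbN, h * k, S.mul_mem hh hk, fun x hx => ?_⟩
      have hbx := conj_mem_of_mem_normalizer hbN x.2
      have e : (⟨a * b * (x : Ω) * (a * b)⁻¹, hx⟩ : P) =
          ⟨a * ((⟨b * x * b⁻¹, hbx⟩ : P) : Ω) * a⁻¹, conj_mem_of_mem_normalizer haN hbx⟩ :=
        Subtype.ext (by simp [mul_assoc])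
      rw [e, hah, hbk]
      group
  | inv a _ ha =>
      obtain ⟨haS, haN, h, hh, hah⟩ := ha
      refine ⟨S.inv_mem haS, inv_mem haN, h⁻¹, S.inv_mem hh, fun x hx => ?_⟩
      have hx' : a * ((⟨a⁻¹ * x * a⁻¹⁻¹, hx⟩ : P) : Ω) * a⁻¹ ∈ P := by simp [mul_assoc]
      have e := hah ⟨a⁻¹ * x * a⁻¹⁻¹, hx⟩ hx'
      have e' : (⟨a * ((⟨a⁻¹ * x * a⁻¹⁻¹, hx⟩ : P) : Ω) * a⁻¹, hx'⟩ : P) = x :=
        Subtype.ext (by simp [mul_assoc])
      rw [e'] at e
      rw [e]
      group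

theorem extender_le {P : Subgroup Ω} {φ : P →* Ω} : extender S P φ ≤ normalizerIn S P :=
  fun _ hg => ⟨(mem_extender_iff.1 hg).1, (mem_extender_iff.1 hg).2.1⟩

theorem extender_le_sup {P : Subgroup Ω} {φ : P →* Ω} : extender S P φ ≤ S :=
  extender_le.trans (normalizerIn_le P)

theorem le_extender {P : Subgroup Ω} {φ : P →* Ω} (hP : P ≤ S) (hφ : ∀ x, φ x ∈ S) :
    P ≤ extender S P φ := by
  intro g hg
  refine mem_extender_iff.2 ⟨hP hg, Subgroup.le_normalizer hg, φ ⟨g, hg⟩, hφ _, fun x hx => ?_⟩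
  have : (⟨g * x * g⁻¹, hx⟩ : P) = ⟨g, hg⟩ * x * ⟨g, hg⟩⁻¹ := Subtype.ext rfl
  rw [this, map_mul, map_mul, map_inv]

theorem centralizerIn_le_extender {P : Subgroup Ω} {φ : P →* Ω} :
    centralizerIn S P ≤ extender S P φ := by
  intro g hg
  obtain ⟨hgS, hgc⟩ := mem_centralizerIn.1 hg
  refine mem_extender_iff.2
    ⟨hgS, Subgroup.centralizer_le_normalizer _ hg.2, 1, S.one_mem, fun x hx => ?_⟩
  have : (⟨g * x * g⁻¹, hx⟩ : P) = x := Subtype.ext (by simp [← hgc x x.2])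
  rw [this]
  simp

/-- A map with a larger source has a source inside the extender of each of its restrictions. -/
theorem le_extender_of_extends {P R : Subgroup Ω} {φ : P →* Ω} {ψ : R →* Ω}
    (hψ : ψ ∈ F.Hom R) (hPR : P ≤ R) (hN : R ≤ Subgroup.normalizer (P : Set Ω))
    (h : ∀ x : P, ψ (Subgroup.inclusion hPR x) = φ x) : R ≤ extender S P φ := by
  intro g hg
  refine mem_extender_iff.2
    ⟨hom_le hψ hg, hN hg, ψ ⟨g, hg⟩, hom_apply_mem hψ _, fun x hx => ?_⟩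
  have e : Subgroup.inclusion hPR ⟨g * x * g⁻¹, hx⟩ =
      ⟨g, hg⟩ * Subgroup.inclusion hPR x * ⟨g, hg⟩⁻¹ := Subtype.ext rfl
  rw [← h, ← h, e, map_mul, map_mul, map_inv]

end CfsgLib.Fusion
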