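import Cfsg.Agent.Lib.Fusion.Normal
import Cfsg.Agent.Lib.LocalEven.StronglyEmbedded
import Mathlib.GroupTheory.Nilpotent

/-!
The dichotomy for extendable automorphisms and the Alperin–Goldschmidt theorem.
-/

set_option autoImplicit false

namespace CfsgLib.Fusion

open Cfsg Cfsg.FusionSystem

variable {Ω : Type*} [Group Ω] {S : Subgroup Ω} {F : FusionSystem S} {p : ℕ}

/-- In a finite `p`-group normalizers grow. -/
theorem exists_mem_normalizerIn_not_mem [Fact p.Prime] {R : Subgroup Ω} [Finite R]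
    (hR : IsPGroup p R) {P : Subgroup Ω} (hP : P < R) : ∃ g ∈ normalizerIn R P, g ∉ P := by
  have hnil : Group.IsNilpotent R := hR.isNilpotent
  have hlt : P.subgroupOf R < ⊤ :=
    lt_top_iff_ne_top.2 fun h => hP.not_ge (Subgroup.subgroupOf_eq_top.1 h)
  obtain ⟨g, hg, hg'⟩ := SetLike.exists_of_lt (Group.normalizerCondition_of_isNilpotent _ hlt)
  refine ⟨g, ⟨g.2, ?_⟩, hg'⟩
  show (g : Ω) ∈ Subgroup.normalizer (P : Set Ω)
  rw [Subgroup.mem_normalizer_iff] at hg ⊢
  intro x
  constructor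
  · intro hx
    exact ((hg ⟨x, hP.le hx⟩).1 hx : _)
  · intro hx
    have hxR : x ∈ R := by
      have := R.mul_mem (R.mul_mem (R.inv_mem g.2) (hP.le hx)) g.2
      simpa [mul_assoc] using this
    exact (hg ⟨x, hxR⟩).2 hx

theorem lt_normalizerIn [Fact p.Prime] [Finite S] (hS : IsPGroup p S) {P : Subgroup Ω}
    (hP : P < S) : P < normalizerIn S P := by
  obtain ⟨g, hg, hg'⟩ := exists_mem_normalizerIn_not_mem hS hP
  exact lt_of_le_of_ne (le_normalizerIn hP.le) fun h => hg' (h ▸ hg)

/-- A fully centralized subgroup containing its centralizer in `S` is centric. -/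
theorem isCentric_of_centralizerIn_le [Finite S] [Fact p.Prime] (hS : IsPGroup p S)
    (hF : F.IsSaturated p) {U : Subgroup Ω} (hU : F.IsFullyCentralized U)
    (hC : centralizerIn S U ≤ U) : F.IsCentric U := by
  refine ⟨hU.1, fun Q hQ => ?_⟩
  obtain ⟨e, he⟩ := isConj_iff.1 (isConj_symm hQ)
  obtain ⟨ψ, hψ, hag⟩ := exists_extension (IsSaturated.receptive hS hF hU) he le_sup_left
    (sup_le_extender he)
  intro x hx
  have h1 : ψ ⟨x, le_sup_right (a := Q) hx⟩ ∈ U :=
    hC (extension_mem_centralizerIn hψ le_sup_left hag _ hx)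
  have h2 := hag (e.symm ⟨_, h1⟩)
  rw [MulEquiv.apply_symm_apply] at h2
  have h3 := congrArg Subtype.val (F.injective_of_mem hψ h2)
  exact (show _ = x from h3) ▸ (e.symm ⟨_, h1⟩).2

/-- The automorphism of `P` induced by an element of its normalizer in `S`. -/
noncomputable def conjAut {P : Subgroup Ω} (g : normalizerIn S P) : MulAut P :=
  P.normalizerMonoidHom ⟨g, g.2.2⟩

@[simp] theorem conjAut_apply {P : Subgroup Ω} (g : normalizerIn S P) (x : P) :
    ((conjAut g x : P) : Ω) = g * (x : Ω) * (g : Ω)⁻¹ := rfl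

theorem conjAut_mem {P : Subgroup Ω} (g : normalizerIn S P) : conjAut g ∈ autInducedBy S P :=
  mem_autInducedBy_iff.2 ⟨g, g.2.1, fun _ => rfl⟩

/-- If a centric `P` sees `g` act as an inner automorphism then `g ∈ P`. -/
theorem mem_of_conjAut_inn {P : Subgroup Ω} (hc : F.IsCentric P) (g : normalizerIn S P)
    (h : conjAut g ∈ Inn P) : (g : Ω) ∈ P := by
  obtain ⟨u, hu⟩ := h
  have hmem : (u : Ω)⁻¹ * g ∈ centralizerIn S P := by
    refine mem_centralizerIn.2 ⟨S.mul_mem (S.inv_mem (hc.1 u.2)) g.2.1, fun x hx => ?_⟩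
    have := congrArg (fun a : MulAut P => ((a ⟨x, hx⟩ : P) : Ω)) hu
    simp only [MulAut.conj_apply, conjAut_apply, Subgroup.coe_mul, InvMemClass.coe_inv] at this
    calc x * ((u : Ω)⁻¹ * g) = (u : Ω)⁻¹ * ((u : Ω) * x * (u : Ω)⁻¹) * g := by group
      _ = (u : Ω)⁻¹ * ((g : Ω) * x * (g : Ω)⁻¹) * g := by rw [this]
      _ = (u : Ω)⁻¹ * g * x := by group
  have h' := P.mul_mem u.2 (hc.2 P (isConj_refl hc.1) hmem)
  rwa [mul_inv_cancel_left] at h'

/-- Automorphisms of `P` extending to a larger subgroup. -/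
def extSet (F : FusionSystem S) (P : Subgroup Ω) : Set (MulAut P) :=
  {α : MulAut P | ∃ (Q : Subgroup Ω) (hPQ : P < Q) (φ : Q →* Ω),
    φ ∈ F.Hom Q ∧ ∀ x : P, φ (Subgroup.inclusion hPQ.le x) = α x}

/-- The group generated by the automorphisms of `P` extending to a larger subgroup. -/
def extGroup (F : FusionSystem S) (P : Subgroup Ω) : Subgroup (MulAut P) :=
  Subgroup.closure (extSet F P)

theorem extGroup_le (F : FusionSystem S) (P : Subgroup Ω) : extGroup F P ≤ F.autGroup P := by
  rw [extGroup, Subgroup.closure_le]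
  rintro α ⟨Q, hPQ, φ, hφ, h⟩
  exact (mem_autGroup_iff (hPQ.le.trans (hom_le hφ))).2
    (restrict_mem' hφ hPQ.le fun x => (h x).symm)

theorem autInducedBy_le_extGroup [Fact p.Prime] [Finite S] (hS : IsPGroup p S) {P : Subgroup Ω}
    (hP : P < S) : autInducedBy S P ≤ extGroup F P := by
  intro α hα
  obtain ⟨g, hg, h⟩ := mem_autInducedBy_iff.1 hα
  exact Subgroup.subset_closure ⟨_, lt_normalizerIn hS hP, conjHom _ g,
    F.conj_mem (normalizerIn_le P) hg, fun x => (h x).symm⟩

/-- An automorphism moving a non-inner induced automorphism to an induced one extends. -/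
theorem mem_extGroup_of_conj {P : Subgroup Ω} (hP : F.IsReceptive P) {α : MulAut P}
    (hα : α ∈ F.autGroup P) (g : normalizerIn S P) (hg : (g : Ω) ∉ P)
    (h : α * conjAut g * α⁻¹ ∈ autInducedBy S P) : α ∈ extGroup F P := by
  have he : IsoIn F (α : P ≃* P) := (mem_autGroup_iff_isoIn hP.1).1 hα
  have hlt : P < P ⊔ Subgroup.zpowers (g : Ω) :=
    lt_of_le_of_ne le_sup_left fun h =>
      hg (h.ge (le_sup_right (a := P) (Subgroup.mem_zpowers (g : Ω))))
  have hR : P ⊔ Subgroup.zpowers (g : Ω) ≤ extender S P (isoHom (α : P ≃* P)) := by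
    refine sup_le (le_extender hP.1 fun x => hom_apply_mem he.mem x) (Subgroup.zpowers_le.2 ?_)
    obtain ⟨k, hk, hk'⟩ := mem_autInducedBy_iff.1 h
    refine mem_extender_iff.2 ⟨g.2.1, g.2.2, k, hk, fun x hx => ?_⟩
    have := hk' (α x)
    simp only [MulAut.mul_apply, MulAut.inv_apply_self] at this
    exact this
  obtain ⟨ψ, hψ, hag⟩ := exists_extension hP he hlt.le hR
  exact Subgroup.subset_closure ⟨_, hlt, ψ, hψ, hag⟩

theorem extGroup_eq_of_not_centric [Fact p.Prime] [Finite S] (hS : IsPGroup p S)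
    (hF : F.IsSaturated p) {P : Subgroup Ω} (hn : F.IsFullyNormalized P)
    (hc : ¬ F.IsCentric P) : extGroup F P = F.autGroup P := by
  refine le_antisymm (extGroup_le F P) fun α hα => ?_
  have hfc := IsSaturated.fullyCentralized hS hF hn
  obtain ⟨g, hg, hgP⟩ := SetLike.not_le_iff_exists.1
    fun h => hc (isCentric_of_centralizerIn_le hS hF hfc h)
  refine mem_extGroup_of_conj (IsSaturated.receptive hS hF hfc) hα
    ⟨g, centralizerIn_le_normalizerIn P hg⟩ hgP ?_
  have : conjAut (⟨g, centralizerIn_le_normalizerIn P hg⟩ : normalizerIn S P) = 1 := by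
    refine MulEquiv.ext fun x => Subtype.ext ?_
    rw [conjAut_apply, MulAut.one_apply, ← (mem_centralizerIn.1 hg).2 x x.2, mul_inv_cancel_right]
  rw [this, mul_one, mul_inv_cancel]
  exact one_mem _

/-- The projection onto the outer automorphism group of `P` in the system. -/
abbrev innIn (F : FusionSystem S) (P : Subgroup Ω) : Subgroup (F.autGroup P) :=
  (Inn P).subgroupOf (F.autGroup P)

/-- The dichotomy: either all automorphisms are generated by extendable ones, or `P` is
essential and the extendable ones give a strongly `p`-embedded subgroup of `Out_F(P)`. -/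
theorem extGroup_dichotomy [Fact p.Prime] [Finite S] (hS : IsPGroup p S) (hF : F.IsSaturated p)
    {P : Subgroup Ω} (hPS : P < S) (hn : F.IsFullyNormalized P) :
    (¬ F.IsEssential p P ∧ extGroup F P = F.autGroup P) ∨
      (F.IsEssential p P ∧ ∃ _ : (innIn F P).Normal, IsStronglyPEmbedded p
        (((extGroup F P).subgroupOf (F.autGroup P)).map (QuotientGroup.mk' (innIn F P)))) := by
  have hNn : (innIn F P).Normal := inn_subgroupOf_normal F
  have : Finite (MulAut P) := finite_mulAut_of_le (S := S) hn.1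
  have hfc := IsSaturated.fullyCentralized hS hF hn
  have hrec := IsSaturated.receptive hS hF hfc
  by_cases hc : F.IsCentric P
  swap
  · exact Or.inl ⟨fun h => hc h.1, extGroup_eq_of_not_centric hS hF hn hc⟩
  obtain ⟨R, hR⟩ := (IsSaturated.fullyAutomized hS hF hn).2
  set π := QuotientGroup.mk' (innIn F P) with hπ
  have hπs : Function.Surjective π := QuotientGroup.mk'_surjective _
  set Y := ((extGroup F P).subgroupOf (F.autGroup P)).map π with hY
  set R' := R.mapSurjective hπs with hR'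
  have hR'c : (R' : Subgroup _) = ((autInducedBy S P).subgroupOf (F.autGroup P)).map π := by
    rw [hR', Sylow.coe_mapSurjective, hR]
  have hRY : (R' : Subgroup _) ≤ Y := by
    rw [hR'c]
    exact Subgroup.map_mono (Subgroup.comap_mono (autInducedBy_le_extGroup hS hPS))
  have hπmem : ∀ a : F.autGroup P, π a ∈ (R' : Subgroup _) → (a : MulAut P) ∈ autInducedBy S P := by
    intro a ha
    rw [hR'c] at ha
    obtain ⟨b, hb, hab⟩ := ha
    obtain ⟨z, hz, rfl⟩ := (QuotientGroup.mk'_eq_mk' _).1 hab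
    exact Subgroup.mul_mem _ hb (inn_le_autInducedBy hn.1 hz)
  have hπne : ∀ g : normalizerIn S P, (g : Ω) ∉ P →
      π ⟨conjAut g, autInducedBy_le_autGroup hn.1 (conjAut_mem g)⟩ ≠ 1 := by
    intro g hg h1
    exact hg (mem_of_conjAut_inn hc g ((QuotientGroup.eq_one_iff
      (⟨conjAut g, autInducedBy_le_autGroup hn.1 (conjAut_mem g)⟩ : F.autGroup P)).1 h1))
  have hR1 : (R' : Subgroup (F.autGroup P ⧸ innIn F P)) ≠ ⊥ := by
    obtain ⟨g, hg, hgP⟩ := exists_mem_normalizerIn_not_mem hS hPS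
    intro hb
    refine hπne ⟨g, hg⟩ hgP (Subgroup.mem_bot.1 (hb ▸ ?_))
    rw [hR'c]
    exact ⟨_, conjAut_mem _, rfl⟩
  have hcontains : LocalEven.ContainsPNormalizers p Y := by
    intro A hAY hAp hA1 n hn'
    obtain ⟨k, hk, hkA⟩ := IsSylowIn.exists_conj_mem
      (⟨R'.subtype hRY, rfl⟩ : IsSylowIn p (R' : Subgroup _) Y) hAY hAp
    obtain ⟨x, hxA, hx1⟩ := (Subgroup.ne_bot_iff_exists_ne_one.1 hA1 |>.imp fun a ha =>
      ha).elim fun a ha => (⟨a, a.2, fun e => ha (Subtype.ext e)⟩ : ∃ x, x ∈ A ∧ x ≠ 1)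
    have hkx := hkA x hxA
    rw [hR'c] at hkx
    obtain ⟨c, hc', hcx⟩ := hkx
    obtain ⟨g, hg, hgc⟩ := mem_autInducedBy_iff.1 hc'
    obtain ⟨a, ha⟩ := hπs (k * n * k⁻¹)
    set g' : normalizerIn S P := ⟨g, hg, mem_normalizer_of_conj_eq _ hgc⟩ with hg'
    have hcg : (c : MulAut P) = conjAut g' := MulEquiv.ext fun y => Subtype.ext (hgc y)
    have hgP : (g' : Ω) ∉ P := by
      intro hmem
      have : π c = 1 := (QuotientGroup.eq_one_iff _).2
        ⟨⟨g, hmem⟩, MulEquiv.ext fun y => Subtype.ext (hgc y).symm⟩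
      exact hx1 (conj_eq_one_iff.1 (hcx.symm.trans this))
    have hmem : π (a * c * a⁻¹) ∈ (R' : Subgroup _) := by
      rw [map_mul, map_mul, map_inv, ha, hcx]
      have hnx : n * x * n⁻¹ ∈ A := (Subgroup.mem_normalizer_iff.1 hn' x).1 hxA
      convert hkA _ hnx using 1
      group
    have haext : (a : MulAut P) ∈ extGroup F P :=
      mem_extGroup_of_conj hrec a.2 g' hgP (by rw [← hcg]; exact hπmem _ hmem)
    have : k * n * k⁻¹ ∈ Y := ha ▸ ⟨a, haext, rfl⟩
    have := Y.mul_mem (Y.mul_mem (Y.inv_mem hk) this) hk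
    simpa [mul_assoc] using this
  by_cases hext : extGroup F P = F.autGroup P
  · refine Or.inl ⟨?_, hext⟩
    rintro ⟨-, -, _, E, hE⟩
    obtain ⟨hEtop, hEp, hEc⟩ := LocalEven.stronglyPEmbedded_iff.1 hE
    obtain ⟨P₀, hP₀, -⟩ := LocalEven.exists_sylow_le hEc hEp
    obtain ⟨t, ht⟩ := LocalEven.sylow_conj R' P₀
    apply hEtop
    rw [eq_top_iff]
    suffices h : ∀ a : F.autGroup P, t * π a * t⁻¹ ∈ E by
      intro y _
      obtain ⟨a, ha⟩ := hπs (t⁻¹ * y * t)
      have := h a
      rw [ha] at this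
      simpa [mul_assoc] using this
    suffices h : F.autGroup P ≤ (((E.comap (MulAut.conj t).toMonoidHom).comap π).map
        (F.autGroup P).subtype) by
      intro a
      obtain ⟨b, hb, hba⟩ := h a.2
      obtain rfl : b = a := Subtype.ext hba
      simpa using hb
    conv_lhs => rw [← hext]
    rw [extGroup, Subgroup.closure_le]
    rintro α ⟨Q, hPQ, φ, hφ, hφα⟩
    have hαA : α ∈ F.autGroup P :=
      extGroup_le F P (Subgroup.subset_closure ⟨Q, hPQ, φ, hφ, hφα⟩)
    refine ⟨⟨α, hαA⟩, ?_, rfl⟩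
    have := finite_le (hom_le hφ)
    obtain ⟨g, hg, hgP⟩ := exists_mem_normalizerIn_not_mem (hS.to_le (hom_le hφ)) hPQ
    have hgS : g ∈ normalizerIn S P := ⟨hom_le hφ hg.1, hg.2⟩
    have hconj : α * conjAut (⟨g, hgS⟩ : normalizerIn S P) * α⁻¹ ∈ autInducedBy S P := by
      refine mem_autInducedBy_iff.2 ⟨φ ⟨g, hg.1⟩, hom_apply_mem hφ _, fun y => ?_⟩
      simp only [MulAut.mul_apply]
      rw [← hφα]
      have : Subgroup.inclusion hPQ.le (conjAut (⟨g, hgS⟩ : normalizerIn S P) (α⁻¹ y)) =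
          ⟨g, hg.1⟩ * Subgroup.inclusion hPQ.le (α⁻¹ y) * ⟨g, hg.1⟩⁻¹ := Subtype.ext rfl
      rw [this, map_mul, map_mul, map_inv, hφα, MulAut.apply_inv_self]
    set c : F.autGroup P := ⟨conjAut (⟨g, hgS⟩ : normalizerIn S P),
      autInducedBy_le_autGroup hn.1 (conjAut_mem _)⟩ with hcdef
    -- pass to a power of `c` of order `p` in the quotient
    have hc1 : π c ∈ (R' : Subgroup _) := hR'c.symm ▸ ⟨c, conjAut_mem _, rfl⟩
    obtain ⟨k, hk⟩ : ∃ k, orderOf (π c) = p ^ k := by
      obtain ⟨k, hk⟩ := IsPGroup.iff_orderOf.1 R'.isPGroup' ⟨π c, hc1⟩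
      exact ⟨k, by rw [← hk, ← Subgroup.orderOf_coe]⟩
    have hkne : k ≠ 0 := by
      intro h0
      rw [h0, pow_zero, orderOf_eq_one_iff] at hk
      exact hπne ⟨g, hgS⟩ hgP hk
    obtain ⟨j, rfl⟩ := Nat.exists_eq_succ_of_ne_zero hkne
    have hord : orderOf ((π c) ^ p ^ j) = p := by
      rw [orderOf_pow' _ (pow_ne_zero _ (Fact.out : p.Prime).ne_zero), hk,
        Nat.gcd_eq_right (pow_dvd_pow p (Nat.le_succ j)), pow_succ,
        Nat.mul_div_cancel_left _ (pow_pos (Fact.out : p.Prime).pos j)]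
    have hin : ∀ y ∈ (R' : Subgroup _), t * y * t⁻¹ ∈ E := by
      intro y hy
      exact hP₀ (ht ▸ LocalEven.conj_mem_conj hy)
    set x := (π c) ^ p ^ j with hxdef
    have hxR : x ∈ (R' : Subgroup _) := Subgroup.pow_mem _ hc1 _
    have hx' : π ⟨α, hαA⟩ * x * (π ⟨α, hαA⟩)⁻¹ ∈ (R' : Subgroup _) := by
      rw [hxdef, ← conj_pow]
      refine Subgroup.pow_mem _ ?_ _
      rw [← map_inv, ← map_mul, ← map_mul, hR'c]
      exact ⟨_, hconj, rfl⟩
    refine LocalEven.mem_of_conj_mem hEc (x := t * x * t⁻¹) ?_ (hin x hxR) ?_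
    · rw [← hord]
      exact orderOf_injective (MulAut.conj t).toMonoidHom (MulAut.conj t).injective x
    · show t * π ⟨α, hαA⟩ * t⁻¹ * (t * x * t⁻¹) * (t * π ⟨α, hαA⟩ * t⁻¹)⁻¹ ∈ E
      convert hin _ hx' using 1
      group
  · refine Or.inr ?_
    have hspe : IsStronglyPEmbedded p Y := by
      refine LocalEven.stronglyPEmbedded_iff.2 ⟨fun htop => hext ?_, ?_, hcontains⟩
      · refine le_antisymm (extGroup_le F P) fun α hα => ?_
        obtain ⟨b, hb, hbα⟩ : π ⟨α, hα⟩ ∈ Y := htop ▸ Subgroup.mem_top _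
        obtain ⟨z, hz, hbz⟩ := (QuotientGroup.mk'_eq_mk' _).1 hbα
        have : α = (b : MulAut P) * z := congrArg Subtype.val hbz.symm
        rw [this]
        exact Subgroup.mul_mem _ hb
          (autInducedBy_le_extGroup hS hPS (inn_le_autInducedBy hn.1 hz))
      · have h1 : p ∣ Nat.card (R' : Subgroup (F.autGroup P ⧸ innIn F P)) := by
          obtain ⟨k, hk⟩ := IsPGroup.iff_card.1 R'.isPGroup'
          rw [hk]
          refine dvd_pow_self p fun h0 => hR1 ?_
          rw [h0, pow_zero] at hk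
          exact Subgroup.eq_bot_of_card_eq _ hk
        exact h1.trans (Subgroup.card_dvd_of_le hRY)
    exact ⟨⟨hc, hn, hNn, Y, hspe⟩, hNn, hspe⟩

/-- The Alperin–Goldschmidt fusion theorem. -/
theorem alperin [Fact p.Prime] [Finite S] (hS : IsPGroup p S) (hF : F.IsSaturated p)
    (E : FusionSystem S)
    (hE : ∀ P : Subgroup Ω, (P = S ∨ F.IsEssential p P) → F.autGroup P ≤ E.autGroup P) :
    F ≤ E := by
  suffices h : ∀ (n : ℕ) (P : Subgroup Ω), Nat.card S - Nat.card P ≤ n → F.Hom P ⊆ E.Hom P from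
    fun P => h _ P le_rfl
  intro n
  induction n with
  | zero =>
      intro P hle φ hφ
      have hPS : P = S := Subgroup.eq_of_le_of_card_ge (hom_le hφ) (by omega)
      subst hPS
      have hr : φ.range = P := Subgroup.eq_of_le_of_card_ge (hom_range_le hφ)
        (le_of_eq (Nat.card_congr (MonoidHom.ofInjective (F.injective_of_mem hφ)).toEquiv))
      obtain ⟨e, he, hev⟩ := exists_iso hφ hr
      have h1 := hE P (Or.inl rfl) ((mem_autGroup_iff_isoIn le_rfl).2 (show IsoIn F (e : MulAut P) from he))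
      exact hom_congr ((mem_autGroup_iff_isoIn le_rfl).1 h1) fun x => (hev x).symm
  | succ n ih =>
      intro P hle φ hφ
      rcases eq_or_lt_of_le (hom_le hφ) with hPS | hPS
      · exact ih P (by rw [hPS]; omega) hφ
      have hup : ∀ Q : Subgroup Ω, Nat.card P < Nat.card Q → F.Hom Q ⊆ E.Hom Q :=
        fun Q hQ => ih Q (by omega)
      have hgrow : ∀ {A : Subgroup Ω}, A ≤ S → Nat.card A = Nat.card P →
          ∀ Q : Subgroup Ω, A < Q → Q ≤ S → Nat.card P < Nat.card Q := by
        intro A _ hAP Q hAQ hQS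
        have := finite_le hQS
        rw [← hAP]
        refine lt_of_le_of_ne (Subgroup.card_le_of_le hAQ.le) fun h => hAQ.ne ?_
        exact Subgroup.eq_of_le_of_card_ge hAQ.le h.ge
      obtain ⟨d, hd, hdv⟩ := exists_iso hφ rfl
      obtain ⟨T, hT, hTn⟩ := exists_fullyNormalized (F := F) (hom_le hφ)
      have hTS : T < S := by
        refine lt_of_le_of_ne hTn.1 fun h => hPS.ne ?_
        subst h
        exact Subgroup.eq_of_le_of_card_ge (hom_le hφ) (isConj_card hT).ge
      have h₁ := IsSaturated.fullyAutomized hS hF hTn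
      have h₂ := IsSaturated.receptive hS hF (IsSaturated.fullyCentralized hS hF hTn)
      have key : ∀ A : Subgroup Ω, F.IsConj A T → ∃ a : A ≃* T, IsoIn F a ∧ IsoIn E a := by
        intro A hA
        have hAS := isConj_le_left hA
        obtain ⟨f, hf, -, himg⟩ := exists_normalizer_map hS h₁ h₂ hA
        have hcard : Nat.card A = Nat.card P := (isConj_card hA).trans (isConj_card hT).symm
        have hA' : A < S := lt_of_le_of_ne hAS fun h => by
          rw [h] at hcard
          exact hPS.ne (Subgroup.eq_of_le_of_card_ge (hom_le hφ) hcard.le)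
        have hfE := hup _ (hgrow hAS hcard _ (lt_normalizerIn hS hA') (normalizerIn_le A)) hf
        obtain ⟨a, ha, hav⟩ := exists_iso (P := A) (Q := T)
          (restrict_mem hf (le_normalizerIn hAS)) (by rw [range_restrict, himg])
        exact ⟨a, ha, hom_congr (restrict_mem hfE (le_normalizerIn hAS)) fun x => hav x⟩
      obtain ⟨a, ha, haE⟩ := key P hT
      obtain ⟨b, hb, hbE⟩ := key φ.range (isConj_trans (isConj_symm hd.isConj) hT)
      set α : MulAut T := a.symm.trans (d.trans b) with hα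
      have hαF : α ∈ F.autGroup T :=
        (mem_autGroup_iff_isoIn hTn.1).2 (ha.symm.trans (hd.trans hb))
      have hαE : α ∈ E.autGroup T := by
        rcases extGroup_dichotomy hS hF hTS hTn with ⟨-, heq⟩ | ⟨hess, -⟩
        · rw [← heq] at hαF
          revert hαF
          refine fun h => (Subgroup.closure_le _).2 ?_ h
          rintro β ⟨Q, hTQ, ψ, hψ, hψβ⟩
          exact (mem_autGroup_iff hTn.1).2 (restrict_mem'
            (hup Q (hgrow hTn.1 (isConj_card hT).symm Q hTQ (hom_le hψ)) hψ) hTQ.le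
            fun x => (hψβ x).symm)
        · exact hE T (Or.inr hess) hαF
      have := haE.trans (((mem_autGroup_iff_isoIn hTn.1).1 hαE).trans hbE.symm)
      refine hom_congr this.mem fun x => ?_
      rw [← hdv, isoHom_apply, hα]
      simp

end CfsgLib.Fusion
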