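import Mathlib.GroupTheory.Sylow
import Mathlib.GroupTheory.Index

/-!
Sylow subgroups of a subgroup `K`, expressed for subgroups of the ambient group.
-/

set_option autoImplicit false

namespace CfsgLib.Fusion

variable {G : Type*} [Group G] {p : ℕ} {H K X : Subgroup G}

/-- `H` is a Sylow `p`-subgroup of the subgroup `K`, in the form the fusion system predicates use. -/
def IsSylowIn (p : ℕ) (H K : Subgroup G) : Prop :=
  ∃ R : Sylow p K, (R : Subgroup K) = H.subgroupOf K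

theorem card_subgroupOf_eq (h : H ≤ K) : Nat.card (H.subgroupOf K) = Nat.card H :=
  Nat.card_congr (Subgroup.subgroupOfEquivOfLe h).toEquiv

theorem isPGroup_subgroupOf (h : H ≤ K) (hp : IsPGroup p H) : IsPGroup p (H.subgroupOf K) :=
  hp.of_equiv (Subgroup.subgroupOfEquivOfLe h).symm

theorem card_le_sylowPart [Fact p.Prime] [Finite K] (h : H ≤ K) (hp : IsPGroup p H) :
    Nat.card H ∣ p ^ (Nat.card K).factorization p := by
  obtain ⟨R, hR⟩ := (isPGroup_subgroupOf h hp).exists_le_sylow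
  have h1 := Subgroup.card_dvd_of_le hR
  rwa [R.card_eq_multiplicity, card_subgroupOf_eq h] at h1

theorem isSylowIn_iff_card [Fact p.Prime] [Finite K] (h : H ≤ K) :
    IsSylowIn p H K ↔ Nat.card H = p ^ (Nat.card K).factorization p := by
  constructor
  · rintro ⟨R, hR⟩
    rw [← card_subgroupOf_eq h, ← hR, R.card_eq_multiplicity]
  · intro hc
    exact ⟨Sylow.ofCard (H.subgroupOf K) (by rw [card_subgroupOf_eq h, hc]), Sylow.coe_ofCard _ _⟩

theorem IsSylowIn.isPGroup (hs : IsSylowIn p H K) (h : H ≤ K) : IsPGroup p H := by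
  obtain ⟨R, hR⟩ := hs
  have := R.isPGroup'
  rw [hR] at this
  exact this.of_equiv (Subgroup.subgroupOfEquivOfLe h)

/-- Every `p`-subgroup of `K` is moved into a given Sylow `p`-subgroup of `K` by an element of `K`. -/
theorem IsSylowIn.exists_conj_mem [Fact p.Prime] [Finite K] (hs : IsSylowIn p H K)
    (hX : X ≤ K) (hp : IsPGroup p X) : ∃ k ∈ K, ∀ x ∈ X, k * x * k⁻¹ ∈ H := by
  obtain ⟨R, hR⟩ := hs
  obtain ⟨T, hT⟩ := (isPGroup_subgroupOf hX hp).exists_le_sylow
  obtain ⟨k, hk⟩ := MulAction.exists_smul_eq K T R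
  refine ⟨(k : G), k.2, fun x hx => ?_⟩
  have h1 : k * ⟨x, hX hx⟩ * k⁻¹ ∈ (R : Subgroup K) := by
    rw [← hk, Sylow.coe_subgroup_smul, Subgroup.mem_pointwise_smul_iff_inv_smul_mem]
    have : (MulAut.conj k)⁻¹ • (k * ⟨x, hX hx⟩ * k⁻¹) = (⟨x, hX hx⟩ : K) := by
      simp [mul_assoc]
    rw [this]
    exact hT hx
  rw [hR] at h1
  exact h1

theorem IsSylowIn.eq_of_le [Finite K] (hs : IsSylowIn p H K) (hH : H ≤ K) (hHX : H ≤ X)
    (hX : X ≤ K) (hp : IsPGroup p X) : X = H := by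
  obtain ⟨R, hR⟩ := hs
  have := R.is_maximal' (isPGroup_subgroupOf hX hp) (by rw [hR]; exact Subgroup.comap_mono hHX)
  rw [hR, Subgroup.subgroupOf_inj, inf_eq_left.2 hX, inf_eq_left.2 hH] at this
  exact this

/-- Every `p`-subgroup of `K` lies in some Sylow `p`-subgroup of `K`. -/
theorem exists_isSylowIn_ge (hX : X ≤ K) (hp : IsPGroup p X) :
    ∃ T : Subgroup G, X ≤ T ∧ T ≤ K ∧ IsPGroup p T ∧ IsSylowIn p T K := by
  obtain ⟨R, hR⟩ := (isPGroup_subgroupOf hX hp).exists_le_sylow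
  refine ⟨(R : Subgroup K).map K.subtype, fun x hx => ⟨⟨x, hX hx⟩, hR hx, rfl⟩,
    Subgroup.map_subtype_le _, R.isPGroup'.map _, R, ?_⟩
  rw [Subgroup.subgroupOf, Subgroup.comap_map_eq_self_of_injective K.subtype_injective]

end CfsgLib.Fusion
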