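import Cfsg.Agent.Lib.Fusion.Alperin
import Cfsg.Agent.Lib.Core.Cores

/-!
Radical subgroups, consequences of the Alperin–Goldschmidt theorem, criteria for normality.
-/

set_option autoImplicit false

namespace CfsgLib.Fusion

open Cfsg Cfsg.FusionSystem
open scoped Pointwise

variable {Ω : Type*} [Group Ω] {S : Subgroup Ω} {F : FusionSystem S} {p : ℕ}

theorem fusionSystem_ext {E : FusionSystem S} (h : ∀ P : Subgroup Ω, F.Hom P = E.Hom P) :
    F = E := by
  cases F
  cases E
  congr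
  exact funext h

theorem fusionSystem_antisymm {E : FusionSystem S} (h₁ : F ≤ E) (h₂ : E ≤ F) : F = E :=
  fusionSystem_ext fun P => Set.Subset.antisymm (h₁ P) (h₂ P)

theorem innerFusionSystem_le (F : FusionSystem S) : innerFusionSystem S ≤ F := by
  rintro P φ ⟨hP, g, hg, h⟩
  exact conj_mem' hP hg h

theorem inner_autGroup {P : Subgroup Ω} (hP : P ≤ S) :
    (innerFusionSystem S).autGroup P = autInducedBy S P := by
  refine le_antisymm (fun α hα => ?_) (autInducedBy_le_autGroup hP)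
  obtain ⟨-, g, hg, h⟩ := (mem_autGroup_iff hP).1 hα
  exact mem_autInducedBy_iff.2 ⟨g, hg, h⟩

/-- A fusion system over a subgroup equal to `S`, read over `S`. -/
def copySystem {T : Subgroup Ω} (h : T = S) (E : FusionSystem T) : FusionSystem S where
  Hom := E.Hom
  le_of_mem hφ := ⟨(E.le_of_mem hφ).1.trans h.le, fun x => h.le ((E.le_of_mem hφ).2 x)⟩
  injective_of_mem := E.injective_of_mem
  conj_mem hP hg := E.conj_mem (hP.trans h.ge) (h.ge hg)
  comp_mem := E.comp_mem
  inv_mem := E.inv_mem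

theorem hom_range_eq_self [Finite S] {φ : S →* Ω} (hφ : φ ∈ F.Hom S) : φ.range = S :=
  Subgroup.eq_of_le_of_card_ge (hom_range_le hφ)
    (le_of_eq (Nat.card_congr (MonoidHom.ofInjective (F.injective_of_mem hφ)).toEquiv))

theorem isConj_self [Finite S] {Q : Subgroup Ω} (h : F.IsConj S Q) : Q = S := by
  obtain ⟨φ, hφ, rfl⟩ := h
  exact hom_range_eq_self hφ

theorem isFullyNormalized_self [Finite S] : F.IsFullyNormalized S :=
  ⟨le_rfl, fun Q hQ => by rw [isConj_self hQ]⟩

theorem isCentric_self [Finite S] : F.IsCentric S :=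
  ⟨le_rfl, fun Q hQ => by rw [isConj_self hQ]; exact centralizerIn_le S⟩

theorem autInducedBy_self_eq : autInducedBy S S = Inn S := autInducedBy_self S

/-- `Inn(P)` lies in the `p`-core of the automorphism group of `P` in the system. -/
theorem innIn_le_pCore (hS : IsPGroup p S) {P : Subgroup Ω} (hP : P ≤ S) :
    innIn F P ≤ pCore p (F.autGroup P) := by
  have : (innIn F P).Normal := inn_subgroupOf_normal F
  refine Core.le_pCore ?_
  exact isPGroup_subgroupOf (inn_le_autGroup hP)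
    (IsPGroup.of_surjective (hS.to_le hP) (MulAut.conj : P →* MulAut P).rangeRestrict
      (MonoidHom.rangeRestrict_surjective _))

theorem isRadical_iff_le (hS : IsPGroup p S) {P : Subgroup Ω} (hP : P ≤ S) :
    F.IsRadical p P ↔ pCore p (F.autGroup P) ≤ innIn F P := by
  constructor
  · rintro ⟨-, h⟩ a ha
    exact (h ▸ ⟨a, ha, rfl⟩ : (a : MulAut P) ∈ Inn P)
  · intro h
    refine ⟨hP, le_antisymm (Subgroup.map_le_iff_le_comap.2 h) fun α hα => ?_⟩
    exact ⟨⟨α, inn_le_autGroup hP hα⟩, innIn_le_pCore hS hP hα, rfl⟩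

/-- A group with a strongly `p`-embedded subgroup has trivial `p`-core. -/
theorem pCore_eq_bot_of_stronglyPEmbedded {G : Type*} [Group G] [Finite G] [Fact p.Prime]
    {E : Subgroup G} (hE : IsStronglyPEmbedded p E) : pCore p G = ⊥ := by
  obtain ⟨hne, hd, hc⟩ := LocalEven.stronglyPEmbedded_iff.1 hE
  obtain ⟨P, hP, -⟩ := LocalEven.exists_sylow_le hc hd
  by_contra hb
  refine hne (top_le_iff.1 ?_)
  rw [← (pCore p G).normalizer_eq_top]
  exact hc _ ((Core.pCore_le_sylow P).trans hP) (Core.isPGroup_pCore p G) hb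

theorem IsEssential.isRadical [Fact p.Prime] [Finite S] (hS : IsPGroup p S) {P : Subgroup Ω}
    (hP : F.IsEssential p P) : F.IsRadical p P := by
  obtain ⟨hc, -, hN, E, hE⟩ := hP
  have := finite_mulAut_of_le (S := S) hc.1
  rw [isRadical_iff_le hS hc.1]
  intro a ha
  have h1 : QuotientGroup.mk' (innIn F P) a ∈ pCore p (F.autGroup P ⧸ innIn F P) :=
    Core.map_pCore_le _ (QuotientGroup.mk'_surjective _) ⟨a, ha, rfl⟩
  rw [pCore_eq_bot_of_stronglyPEmbedded hE, Subgroup.mem_bot] at h1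
  exact (QuotientGroup.eq_one_iff a).1 h1

theorem IsSaturated.top_autGroup_sylow [Fact p.Prime] [Finite S] (hS : IsPGroup p S)
    (hF : F.IsSaturated p) : IsSylowIn p (Inn S) (F.autGroup S) := by
  have := (IsSaturated.fullyAutomized hS hF (isFullyNormalized_self (F := F))).2
  rw [autInducedBy_self_eq] at this
  exact this

theorem isRadical_self [Fact p.Prime] [Finite S] (hS : IsPGroup p S) (hF : F.IsSaturated p) :
    F.IsRadical p S := by
  have := finite_mulAut_of_le (S := S) le_rfl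
  rw [isRadical_iff_le hS le_rfl]
  obtain ⟨R, hR⟩ := IsSaturated.top_autGroup_sylow hS hF
  exact (Core.pCore_le_sylow R).trans hR.le

/-- In a `p`-group of outer automorphisms nothing is strongly `p`-embedded. -/
theorem not_isEssential_of_isPGroup [Fact p.Prime] [Finite S] {P : Subgroup Ω}
    (h : IsPGroup p (F.autGroup P)) : ¬ F.IsEssential p P := by
  rintro ⟨hc, -, hN, E, hE⟩
  have := finite_mulAut_of_le (S := S) hc.1
  obtain ⟨hne, hd, hcn⟩ := LocalEven.stronglyPEmbedded_iff.1 hE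
  obtain ⟨Q, hQ, -⟩ := LocalEven.exists_sylow_le hcn hd
  refine hne (top_le_iff.1 ?_)
  exact ((Q.is_maximal' ((h.to_quotient (innIn F P)).to_subgroup ⊤) le_top).le).trans hQ

theorem eq_inner_of_isPGroup_autGroup [Fact p.Prime] [Finite S] (hS : IsPGroup p S)
    (hF : F.IsSaturated p) (h : ∀ P : Subgroup Ω, P ≤ S → IsPGroup p (F.autGroup P)) :
    F = innerFusionSystem S := by
  refine fusionSystem_antisymm (alperin hS hF _ fun P hP => ?_) (innerFusionSystem_le F)
  rcases hP with rfl | hP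
  · have := finite_mulAut_of_le (S := P) le_rfl
    obtain ⟨R, hR⟩ := IsSaturated.top_autGroup_sylow hS hF
    have htop := R.is_maximal' ((h P le_rfl).to_subgroup ⊤) le_top
    rw [inner_autGroup le_rfl, autInducedBy_self_eq]
    intro α hα
    exact (hR.le (htop.le (Subgroup.mem_top (⟨α, hα⟩ : F.autGroup P))) : _)
  · exact absurd hP (not_isEssential_of_isPGroup (h P hP.1.1))

/-- `α` permutes `Q` as soon as it maps `Q` into itself. -/
theorem map_subgroupOf_eq [Finite S] {P Q : Subgroup Ω} (hP : P ≤ S) {α : MulAut P}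
    (hle : (Q.subgroupOf P).map α.toMonoidHom ≤ Q.subgroupOf P) :
    (Q.subgroupOf P).map α.toMonoidHom = Q.subgroupOf P := by
  have := finite_le hP
  exact Subgroup.eq_of_le_of_card_ge hle
    (le_of_eq (Subgroup.card_map_of_injective α.injective).symm)

theorem StronglyClosed.map_eq [Finite S] {P Q : Subgroup Ω} (hQ : F.StronglyClosed Q)
    (hP : P ≤ S) {α : MulAut P} (hα : α ∈ F.autGroup P) :
    (Q.subgroupOf P).map α.toMonoidHom = Q.subgroupOf P := by
  refine map_subgroupOf_eq hP ?_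
  rintro _ ⟨x, hx, rfl⟩
  exact StronglyClosed.apply_mem hQ ((mem_autGroup_iff hP).1 hα) hx

/-- A normal subgroup lies in every centric radical subgroup. -/
theorem IsNormal.le_centric_radical [Fact p.Prime] [Finite S] (hS : IsPGroup p S) {P Q : Subgroup Ω}
    (hQ : F.IsNormal Q) (hc : F.IsCentric P) (hr : F.IsRadical p P) : Q ≤ P := by
  by_contra hnle
  have hlt : P < P ⊔ Q := left_lt_sup.2 hnle
  have hle : P ⊔ Q ≤ S := sup_le hc.1 hQ.1
  have := finite_le hle
  obtain ⟨g, hg, hgP⟩ := exists_mem_normalizerIn_not_mem (hS.to_le hle) hlt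
  obtain ⟨hgPQ, hgN⟩ := hg
  have hgmem : g ∈ (P : Set Ω) * (Q : Set Ω) := by
    rw [← Subgroup.coe_mul_of_left_le_normalizer_right P Q (hc.1.trans (IsNormal.normal_in hQ))]
    exact hgPQ
  obtain ⟨x, hx, q, hq, rfl⟩ := hgmem
  have hqN : q ∈ Subgroup.normalizer (P : Set Ω) := by
    have := mul_mem (inv_mem (Subgroup.le_normalizer (H := P) hx)) hgN
    simpa using this
  have hqP : q ∉ P := fun h => hgP (P.mul_mem hx h)
  set X := (autInducedBy Q P).subgroupOf (F.autGroup P) with hX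
  have hXn : X.Normal := by
    refine ⟨fun a ha b => ?_⟩
    obtain ⟨u, hu, hua⟩ := mem_autInducedBy_iff.1 (show (a : MulAut P) ∈ autInducedBy Q P from ha)
    obtain ⟨ψ, hψ, hψP, hψQ⟩ := hQ.2 P _ ((mem_autGroup_iff hc.1).1 b.2)
    refine mem_autInducedBy_iff.2 ⟨ψ ⟨u, le_sup_right (a := P) hu⟩, ?_, fun y => ?_⟩
    · exact hψQ.le ⟨_, hu, rfl⟩
    · set z : P := (b : MulAut P)⁻¹ y with hz
      have e : Subgroup.inclusion (le_sup_left : P ≤ P ⊔ Q) ((a : MulAut P) z) =
          ⟨u, le_sup_right (a := P) hu⟩ * Subgroup.inclusion le_sup_left z *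
            ⟨u, le_sup_right (a := P) hu⟩⁻¹ := Subtype.ext (hua z)
      have := congrArg ψ e
      rw [map_mul, map_mul, map_inv, hψP, hψP] at this
      have hy : (b : MulAut P) z = y := MulAut.apply_inv_self _ _ _
      simpa [hy, hz] using this
  have hXp : IsPGroup p X :=
    ((isPGroup_autInducedBy (P := P) (hS.to_le hQ.1)).to_le inf_le_left).of_equiv
      (Subgroup.subgroupOfEquivOfLe inf_le_right).symm |>.to_le
      (by rw [Subgroup.inf_subgroupOf_right])
  have hqS : q ∈ normalizerIn S P := ⟨hQ.1 hq, hqN⟩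
  have hmem : conjAut (⟨q, hqS⟩ : normalizerIn S P) ∈ Inn P := by
    have hA := autInducedBy_le_autGroup (F := F) hc.1 (conjAut_mem (⟨q, hqS⟩ : normalizerIn S P))
    exact (isRadical_iff_le hS hc.1).1 hr (Core.le_pCore (N := X) hXp
      (show (⟨_, hA⟩ : F.autGroup P) ∈ X from mem_autInducedBy_iff.2 ⟨q, hq, fun _ => rfl⟩))
  exact hqP (mem_of_conjAut_inn hc _ hmem)

theorem IsNormal.invariant [Fact p.Prime] [Finite S] (hS : IsPGroup p S) (hF : F.IsSaturated p)
    {Q : Subgroup Ω} (hQ : F.IsNormal Q) (P : Subgroup Ω) (hP : P = S ∨ F.IsEssential p P) :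
    Q ≤ P ∧ ∀ α ∈ F.autGroup P, (Q.subgroupOf P).map α.toMonoidHom = Q.subgroupOf P := by
  have hPS : P ≤ S := by
    rcases hP with rfl | hP
    · exact le_rfl
    · exact hP.1.1
  refine ⟨?_, fun α hα => StronglyClosed.map_eq (IsNormal.stronglyClosed hQ) hPS hα⟩
  rcases hP with rfl | hP
  · exact hQ.1
  · exact IsNormal.le_centric_radical hS hQ hP.1 (IsEssential.isRadical hS hP)

theorem isNormal_of_invariant [Fact p.Prime] [Finite S] (hS : IsPGroup p S)
    (hF : F.IsSaturated p) {Q : Subgroup Ω}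
    (h : ∀ P : Subgroup Ω, (P = S ∨ F.IsEssential p P) →
      Q ≤ P ∧ ∀ α ∈ F.autGroup P, (Q.subgroupOf P).map α.toMonoidHom = Q.subgroupOf P) :
    F.IsNormal Q := by
  obtain ⟨hQS, hinv⟩ := h S (Or.inl rfl)
  have hN : normalizerIn S Q = S := by
    refine le_antisymm (normalizerIn_le Q) fun g hg => ⟨hg, ?_⟩
    have hgg : g ∈ normalizerIn S S := ⟨hg, Subgroup.le_normalizer hg⟩
    have hα := hinv _ (autInducedBy_le_autGroup le_rfl
      (conjAut_mem (⟨g, hgg⟩ : normalizerIn S S)))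
    show g ∈ Subgroup.normalizer (Q : Set Ω)
    rw [Subgroup.mem_normalizer_iff_map_conj_eq]
    ext y
    constructor
    · rintro ⟨x, hx, rfl⟩
      have := hα.le ⟨⟨x, hQS hx⟩, hx, rfl⟩
      exact this
    · intro hy
      obtain ⟨x, hx, hxy⟩ := hα.ge (show (⟨y, hQS hy⟩ : S) ∈ Q.subgroupOf S from hy)
      exact ⟨x, hx, by simpa using congrArg Subtype.val hxy⟩
  have hle := alperin hS hF (copySystem hN (normSystem F Q hQS)) fun P hP α hα => by
    obtain ⟨hQP, hinvP⟩ := h P hP
    have hPS : P ≤ S := by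
      rcases hP with rfl | hP
      · exact le_rfl
      · exact hP.1.1
    refine (mem_autGroup_iff hPS).2 ?_
    show P.subtype.comp α.toMonoidHom ∈ F.normalizerHom Q P
    have hsup : P ⊔ Q ≤ P := sup_le le_rfl hQP
    refine ⟨(mem_autGroup_iff hPS).1 hα, hPS.trans hN.ge, fun x => hN.ge (hPS (α x).2),
      (P.subtype.comp α.toMonoidHom).comp (Subgroup.inclusion hsup),
      restrict_mem ((mem_autGroup_iff hPS).1 hα) _, fun x => rfl, ?_⟩
    ext y
    constructor
    · rintro ⟨x, hx, rfl⟩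
      exact (hinvP α hα).le ⟨Subgroup.inclusion hsup x, hx, rfl⟩
    · intro hy
      obtain ⟨x, hx, hxy⟩ := (hinvP α hα).ge (show (⟨y, hQP hy⟩ : P) ∈ Q.subgroupOf P from hy)
      exact ⟨⟨x, le_sup_left (b := Q) x.2⟩, hx, congrArg Subtype.val hxy⟩
  exact ⟨hQS, fun P φ hφ => (hle P hφ).2.2.2⟩

theorem isNormal_iff_stronglyClosed_le [Fact p.Prime] [Finite S] (hS : IsPGroup p S)
    (hF : F.IsSaturated p) {Q : Subgroup Ω} :
    F.IsNormal Q ↔
      F.StronglyClosed Q ∧ ∀ P : Subgroup Ω, F.IsCentric P → F.IsRadical p P → Q ≤ P := by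
  refine ⟨fun hQ => ⟨IsNormal.stronglyClosed hQ, fun P => IsNormal.le_centric_radical hS hQ⟩,
    fun h => isNormal_of_invariant hS hF fun P hP => ?_⟩
  rcases hP with rfl | hP
  · exact ⟨h.1.1, fun α hα => StronglyClosed.map_eq h.1 le_rfl hα⟩
  · exact ⟨h.2 P hP.1 (IsEssential.isRadical hS hP),
      fun α hα => StronglyClosed.map_eq h.1 hP.1.1 hα⟩

end CfsgLib.Fusion
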