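import Cfsg.Agent.Lib.Fusion.GroupFusion
import Cfsg.Agent.Lib.Fusion.NormalCriterion

/-!
Transport of fusion systems along isomorphisms of the underlying groups; realized systems.
-/

set_option autoImplicit false

namespace CfsgLib.Fusion

open Cfsg Cfsg.FusionSystem

section

variable {Ω Ω' : Type*} [Group Ω] [Group Ω'] {S : Subgroup Ω} {S' : Subgroup Ω'}
  {F : FusionSystem S} {F' : FusionSystem S'} {f : S ≃* S'} {p : ℕ}

/-- The image of `P ∩ S` under `f`. -/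
def mapS (f : S ≃* S') (P : Subgroup Ω) : Subgroup Ω' :=
  (P.subgroupOf S).map (S'.subtype.comp f.toMonoidHom)

theorem mem_mapS {P : Subgroup Ω} {y : Ω'} :
    y ∈ mapS f P ↔ ∃ s : S, (s : Ω) ∈ P ∧ (f s : Ω') = y := Iff.rfl

theorem apply_mem_mapS {P : Subgroup Ω} (hP : P ≤ S) (x : P) :
    (f ⟨x, hP x.2⟩ : Ω') ∈ mapS f P := ⟨⟨x, hP x.2⟩, x.2, rfl⟩

theorem mem_mapS_iff {P : Subgroup Ω} {s : S} : (f s : Ω') ∈ mapS f P ↔ (s : Ω) ∈ P := by
  refine ⟨?_, fun h => ⟨s, h, rfl⟩⟩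
  rintro ⟨t, ht, hts⟩
  obtain rfl : t = s := f.injective (Subtype.ext hts)
  exact ht

theorem mapS_le (P : Subgroup Ω) : mapS f P ≤ S' := by
  rintro _ ⟨s, -, rfl⟩
  exact (f s).2

theorem mapS_mono {P Q : Subgroup Ω} (h : P ≤ Q) : mapS f P ≤ mapS f Q :=
  Subgroup.map_mono (Subgroup.comap_mono h)

theorem mapS_symm {P : Subgroup Ω} (hP : P ≤ S) : mapS f.symm (mapS f P) = P := by
  ext y
  constructor
  · rintro ⟨s, hs, rfl⟩
    have := (mem_mapS_iff (f := f) (s := f.symm s)).1 (by rwa [MulEquiv.apply_symm_apply])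
    exact this
  · intro hy
    exact ⟨f ⟨y, hP hy⟩, apply_mem_mapS hP ⟨y, hy⟩, by simp⟩

theorem mapS_symm' {P' : Subgroup Ω'} (hP : P' ≤ S') : mapS f (mapS f.symm P') = P' :=
  mapS_symm (f := f.symm) hP

theorem card_mapS {P : Subgroup Ω} (hP : P ≤ S) : Nat.card (mapS f P) = Nat.card P := by
  rw [mapS, Subgroup.card_map_of_injective (f := S'.subtype.comp f.toMonoidHom)
    (fun a b h => f.injective (S'.subtype_injective h))]
  exact Nat.card_congr (Subgroup.subgroupOfEquivOfLe hP).toEquiv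

theorem mapS_normalizerIn_le {P : Subgroup Ω} (hP : P ≤ S) :
    mapS f (normalizerIn S P) ≤ normalizerIn S' (mapS f P) := by
  rintro _ ⟨g, hg, rfl⟩
  refine ⟨(f g).2, ?_⟩
  show (f g : Ω') ∈ Subgroup.normalizer (mapS f P : Set Ω')
  rw [Subgroup.mem_normalizer_iff]
  intro y
  have hgN : (g : Ω) ∈ Subgroup.normalizer (P : Set Ω) := hg.2
  constructor
  · rintro ⟨s, hs, rfl⟩
    have hs' : (s : Ω) ∈ P := hs
    exact ⟨g * s * g⁻¹, Subgroup.mem_subgroupOf.2 (by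
      simpa using conj_mem_of_mem_normalizer hgN hs'), by simp⟩
  · rintro ⟨s, hs, hsy⟩
    have hs' : (s : Ω) ∈ P := hs
    have hsy' : (f s : Ω') = f g * y * (f g : Ω')⁻¹ := hsy
    refine ⟨g⁻¹ * s * g, Subgroup.mem_subgroupOf.2
      (by simpa using conj_mem_of_mem_normalizer (inv_mem hgN) hs'), ?_⟩
    show (f (g⁻¹ * s * g) : Ω') = y
    simp [hsy', mul_assoc]

theorem mapS_centralizerIn_le {P : Subgroup Ω} :
    mapS f (centralizerIn S P) ≤ centralizerIn S' (mapS f P) := by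
  rintro _ ⟨g, hg, rfl⟩
  refine mem_centralizerIn.2 ⟨(f g).2, ?_⟩
  rintro _ ⟨s, hs, rfl⟩
  have : s * g = g * s := Subtype.ext ((mem_centralizerIn.1 hg).2 s hs)
  simpa using congrArg Subtype.val (congrArg f this)

theorem mapS_normalizerIn {P : Subgroup Ω} (hP : P ≤ S) :
    mapS f (normalizerIn S P) = normalizerIn S' (mapS f P) := by
  refine le_antisymm (mapS_normalizerIn_le hP) fun y hy => ?_
  have hyS := normalizerIn_le _ hy
  have h := mapS_normalizerIn_le (f := f.symm) (mapS_le P) (apply_mem_mapS (normalizerIn_le _) ⟨y, hy⟩)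
  rw [mapS_symm hP] at h
  exact ⟨f.symm ⟨y, hyS⟩, h, by simp⟩

theorem mapS_centralizerIn {P : Subgroup Ω} (hP : P ≤ S) :
    mapS f (centralizerIn S P) = centralizerIn S' (mapS f P) := by
  refine le_antisymm mapS_centralizerIn_le fun y hy => ?_
  have hyS := centralizerIn_le _ hy
  have h := mapS_centralizerIn_le (f := f.symm)
    (apply_mem_mapS (centralizerIn_le (mapS f P)) ⟨y, hy⟩)
  rw [mapS_symm hP] at h
  exact ⟨f.symm ⟨y, hyS⟩, h, by simp⟩

theorem card_normalizerIn_mapS {P : Subgroup Ω} (hP : P ≤ S) :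
    Nat.card (normalizerIn S' (mapS f P)) = Nat.card (normalizerIn S P) := by
  rw [← mapS_normalizerIn hP, card_mapS (normalizerIn_le P)]

theorem card_centralizerIn_mapS {P : Subgroup Ω} (hP : P ≤ S) :
    Nat.card (centralizerIn S' (mapS f P)) = Nat.card (centralizerIn S P) := by
  rw [← mapS_centralizerIn hP, card_mapS (centralizerIn_le P)]

/-- The isomorphism `P ≃ f(P)`. -/
noncomputable def mapSEquiv (f : S ≃* S') {P : Subgroup Ω} (hP : P ≤ S) : P ≃* mapS f P :=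
  MulEquiv.ofBijective
    (((S'.subtype.comp f.toMonoidHom).comp (Subgroup.inclusion hP)).codRestrict (mapS f P)
      fun x => apply_mem_mapS hP x)
    ⟨fun a b h => Subgroup.inclusion_injective hP
        (f.injective (Subtype.ext (congrArg Subtype.val h :))),
      fun ⟨_, s, hs, e⟩ => ⟨⟨s, hs⟩, Subtype.ext e⟩⟩

@[simp] theorem mapSEquiv_apply {P : Subgroup Ω} (hP : P ≤ S) (x : P) :
    (mapSEquiv f hP x : Ω') = f ⟨x, hP x.2⟩ := rfl

/-- `f` carries every map of `F` to a map of `F'`. -/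
def SysHom (F : FusionSystem S) (F' : FusionSystem S') (f : S ≃* S') : Prop :=
  ∀ (P : Subgroup Ω) (φ : P →* Ω), φ ∈ F.Hom P → ∃ φ' ∈ F'.Hom (mapS f P),
    ∀ (x : P) (hx : (x : Ω) ∈ S) (hφx : φ x ∈ S) (hm : (f ⟨x, hx⟩ : Ω') ∈ mapS f P),
      φ' ⟨f ⟨x, hx⟩, hm⟩ = f ⟨φ x, hφx⟩

/-- `f` is an isomorphism of fusion systems. -/
def SysEquiv (F : FusionSystem S) (F' : FusionSystem S') (f : S ≃* S') : Prop :=
  SysHom F F' f ∧ SysHom F' F f.symm

theorem SysEquiv.symm (h : SysEquiv F F' f) : SysEquiv F' F f.symm := ⟨h.2, h.1⟩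

theorem SysHom.isoIn (h : SysHom F F' f) {P Q : Subgroup Ω} {e : P ≃* Q} (he : IsoIn F e) :
    IsoIn F' ((mapSEquiv f he.le_left).symm.trans (e.trans (mapSEquiv f he.le_right))) := by
  obtain ⟨φ', hφ', hv⟩ := h P (isoHom e) he.mem
  refine hom_congr hφ' fun y => ?_
  obtain ⟨x, rfl⟩ := (mapSEquiv f he.le_left).surjective y
  have := hv x (he.le_left x.2) (hom_apply_mem he.mem x) (apply_mem_mapS he.le_left x)
  show ((mapSEquiv f he.le_right (e ((mapSEquiv f he.le_left).symm (mapSEquiv f he.le_left x)))) :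
    Ω') = _
  rw [MulEquiv.symm_apply_apply, mapSEquiv_apply]
  exact this.symm

theorem SysHom.isConj (h : SysHom F F' f) {P Q : Subgroup Ω} (hPQ : F.IsConj P Q) :
    F'.IsConj (mapS f P) (mapS f Q) := by
  obtain ⟨e, he⟩ := isConj_iff.1 hPQ
  exact (h.isoIn he).isConj

theorem SysEquiv.isConj_back (h : SysEquiv F F' f) {P : Subgroup Ω} {Q' : Subgroup Ω'}
    (hP : P ≤ S) (hQ : F'.IsConj (mapS f P) Q') :
    F.IsConj P (mapS f.symm Q') ∧ mapS f (mapS f.symm Q') = Q' := by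
  refine ⟨?_, ?_⟩
  · simpa [mapS_symm hP] using h.2.isConj hQ
  · exact mapS_symm (f := f.symm) (isConj_le_right hQ)

theorem SysHom.card_autGroup_le (h : SysHom F F' f) [Finite S'] {P : Subgroup Ω} (hP : P ≤ S) :
    Nat.card (F.autGroup P) ≤ Nat.card (F'.autGroup (mapS f P)) := by
  have := finite_mulAut_of_le (S := S') (mapS_le (f := f) P)
  refine Nat.card_le_card_of_injective (fun a =>
    ⟨MulAut.congr (mapSEquiv f hP) (a : MulAut P), (mem_autGroup_iff_isoIn (mapS_le P)).2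
      (h.isoIn ((mem_autGroup_iff_isoIn hP).1 a.2))⟩) fun a b hab => Subtype.ext ?_
  exact (MulAut.congr (mapSEquiv f hP)).injective (congrArg Subtype.val hab)

theorem card_autInducedBy_le (f : S ≃* S') [Finite S'] {P : Subgroup Ω} (hP : P ≤ S) :
    Nat.card (autInducedBy S P) ≤ Nat.card (autInducedBy S' (mapS f P)) := by
  have := finite_mulAut_of_le (S := S') (mapS_le (f := f) P)
  refine Nat.card_le_card_of_injective (fun a =>
    ⟨MulAut.congr (mapSEquiv f hP) (a : MulAut P), ?_⟩) fun a b hab => Subtype.ext ?_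
  · obtain ⟨g, hg, hgv⟩ := mem_autInducedBy_iff.1 a.2
    refine mem_autInducedBy_iff.2 ⟨f ⟨g, hg⟩, (f _).2, fun y => ?_⟩
    obtain ⟨x, rfl⟩ := (mapSEquiv f hP).surjective y
    show ((mapSEquiv f hP ((a : MulAut P) ((mapSEquiv f hP).symm (mapSEquiv f hP x)))) : Ω') = _
    rw [MulEquiv.symm_apply_apply, mapSEquiv_apply, mapSEquiv_apply]
    have : (⟨((a : MulAut P) x : Ω), hP ((a : MulAut P) x).2⟩ : S) =
        ⟨g, hg⟩ * ⟨x, hP x.2⟩ * ⟨g, hg⟩⁻¹ := Subtype.ext (hgv x)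
    rw [this, map_mul, map_mul, map_inv]
    rfl
  · exact (MulAut.congr (mapSEquiv f hP)).injective (congrArg Subtype.val hab)

theorem SysEquiv.fullyNormalized (h : SysEquiv F F' f) {P : Subgroup Ω}
    (hP : F.IsFullyNormalized P) : F'.IsFullyNormalized (mapS f P) := by
  refine ⟨mapS_le P, fun Q hQ => ?_⟩
  obtain ⟨hc, he⟩ := h.isConj_back hP.1 hQ
  rw [← he, card_normalizerIn_mapS (isConj_le_right hc), card_normalizerIn_mapS hP.1]
  exact hP.2 _ hc

theorem SysEquiv.fullyCentralized (h : SysEquiv F F' f) {P : Subgroup Ω}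
    (hP : F.IsFullyCentralized P) : F'.IsFullyCentralized (mapS f P) := by
  refine ⟨mapS_le P, fun Q hQ => ?_⟩
  obtain ⟨hc, he⟩ := h.isConj_back hP.1 hQ
  rw [← he, card_centralizerIn_mapS (isConj_le_right hc), card_centralizerIn_mapS hP.1]
  exact hP.2 _ hc

theorem SysEquiv.isCentric (h : SysEquiv F F' f) {P : Subgroup Ω} (hP : F.IsCentric P) :
    F'.IsCentric (mapS f P) := by
  refine ⟨mapS_le P, fun Q hQ => ?_⟩
  obtain ⟨hc, he⟩ := h.isConj_back hP.1 hQ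
  rw [← he, ← mapS_centralizerIn (isConj_le_right hc)]
  exact mapS_mono (hP.2 _ hc)

theorem SysEquiv.finite_right (f : S ≃* S') [Finite S] : Finite S' := Finite.of_equiv S f.toEquiv

theorem SysEquiv.fullyAutomized (h : SysEquiv F F' f) [Finite S] [Fact p.Prime] {P : Subgroup Ω}
    (hP : F.IsFullyAutomized p P) : F'.IsFullyAutomized p (mapS f P) := by
  have := SysEquiv.finite_right f
  have hA : Nat.card (F'.autGroup (mapS f P)) = Nat.card (F.autGroup P) := by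
    refine le_antisymm ?_ (h.1.card_autGroup_le hP.1)
    have := h.2.card_autGroup_le (mapS_le (f := f) P)
    rwa [mapS_symm hP.1] at this
  have hI : Nat.card (autInducedBy S' (mapS f P)) = Nat.card (autInducedBy S P) := by
    refine le_antisymm ?_ (card_autInducedBy_le f hP.1)
    have := card_autInducedBy_le f.symm (mapS_le (f := f) P)
    rwa [mapS_symm hP.1] at this
  rw [isFullyAutomized_iff (mapS_le P), hA, hI]
  exact (isFullyAutomized_iff hP.1).1 hP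

theorem SysEquiv.receptive (h : SysEquiv F F' f) {Q : Subgroup Ω} (hQ : F.IsReceptive Q) :
    F'.IsReceptive (mapS f Q) := by
  refine ⟨mapS_le Q, fun P' φ' hφ' hr => ?_⟩
  obtain ⟨φ, hφ, hv⟩ := h.2 P' φ' hφ'
  have hP' := hom_le hφ'
  have hval : ∀ (y : P'), φ ⟨_, apply_mem_mapS (f := f.symm) hP' y⟩ =
      f.symm ⟨φ' y, hom_apply_mem hφ' y⟩ :=
    fun y => hv y (hP' y.2) (hom_apply_mem hφ' y) _
  have hrange : φ.range = Q := by
    ext z
    constructor
    · rintro ⟨⟨_, s, hs, rfl⟩, rfl⟩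
      have hs' : (s : Ω') ∈ P' := hs
      have h1 := hval ⟨s, hs'⟩
      have hm : φ' ⟨s, hs'⟩ ∈ mapS f Q := hr ▸ ⟨_, rfl⟩
      obtain ⟨t, ht, hts⟩ := hm
      have h2 : f.symm ⟨φ' ⟨s, hs'⟩, hom_apply_mem hφ' _⟩ = t :=
        f.symm_apply_eq.2 (Subtype.ext hts.symm)
      rw [h2] at h1
      exact Set.mem_of_eq_of_mem h1 ht
    · intro hz
      obtain ⟨y, hy⟩ := hr.ge (apply_mem_mapS (f := f) hQ.1 ⟨z, hz⟩)
      refine ⟨_, (hval y).trans ?_⟩
      rw [show (⟨φ' y, hom_apply_mem hφ' y⟩ : S') = f ⟨z, hQ.1 hz⟩ from Subtype.ext hy,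
        MulEquiv.symm_apply_apply]
  obtain ⟨ψ, hψ, hψv⟩ := hQ.2 _ φ hφ hrange
  obtain ⟨ψ', hψ', hψ'v⟩ := h.1 _ ψ hψ
  have hsub : extender S' P' φ' ≤ mapS f (extender S (mapS f.symm P') φ) := by
    intro g hg
    obtain ⟨hgS, hgN, k, hk, hgk⟩ := mem_extender_iff.1 hg
    refine ⟨f.symm ⟨g, hgS⟩, mem_extender_iff.2 ⟨(f.symm _).2, ?_, f.symm ⟨k, hk⟩, (f.symm _).2,
      fun x hx => ?_⟩, by simp⟩
    · exact (mapS_normalizerIn_le hP' (apply_mem_mapS (normalizerIn_le P')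
        ⟨g, hgS, hgN⟩)).2
    · obtain ⟨_, s, hs, rfl⟩ := x
      have hs' : (s : Ω') ∈ P' := hs
      have hy := conj_mem_of_mem_normalizer hgN hs'
      have e1 : (⟨_, hx⟩ : mapS f.symm P') =
          ⟨_, apply_mem_mapS (f := f.symm) hP' ⟨g * s * g⁻¹, hy⟩⟩ := by
        apply Subtype.ext
        have e0 : f.symm (⟨g * s * g⁻¹, hP' hy⟩ : S') =
            f.symm ⟨g, hgS⟩ * f.symm s * (f.symm ⟨g, hgS⟩)⁻¹ := by
          rw [← map_inv, ← map_mul, ← map_mul]
          rfl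
        exact (congrArg Subtype.val e0).symm
      rw [e1, hval]
      have e2 : (⟨φ' ⟨g * s * g⁻¹, hy⟩, hom_apply_mem hφ' _⟩ : S') =
          ⟨k, hk⟩ * ⟨φ' ⟨s, hs'⟩, hom_apply_mem hφ' _⟩ * ⟨k, hk⟩⁻¹ :=
        Subtype.ext (hgk ⟨s, hs'⟩ hy)
      rw [e2]
      have h3 := hval ⟨s, hs'⟩
      have e3 : (⟨_, apply_mem_mapS (f := f.symm) hP' ⟨(s : Ω'), hs'⟩⟩ : mapS f.symm P') =
          ⟨(f.symm s : Ω), ⟨s, hs, rfl⟩⟩ := rfl
      rw [e3] at h3
      rw [map_mul, map_mul, map_inv]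
      simp only [Subgroup.coe_mul, InvMemClass.coe_inv]
      rw [← h3]
      rfl
  refine ⟨ψ'.comp (Subgroup.inclusion hsub), restrict_mem hψ' hsub, fun y hyP hyN => ?_⟩
  have hyS := hP' hyP
  have hmem : (f.symm ⟨y, hyS⟩ : Ω) ∈ extender S (mapS f.symm P') φ := by
    obtain ⟨t, ht, hty⟩ := hsub hyN
    rwa [f.symm_apply_eq.2 (Subtype.ext hty.symm : (⟨y, hyS⟩ : S') = f t)]
  have hmy : (f ⟨_, (f.symm ⟨y, hyS⟩).2⟩ : Ω') = y := by simp
  have h1 := hψ'v ⟨_, hmem⟩ (f.symm ⟨y, hyS⟩).2 (hom_apply_mem hψ _)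
    (apply_mem_mapS extender_le_sup ⟨_, hmem⟩)
  have h2 := (hψv _ (apply_mem_mapS hP' ⟨y, hyP⟩) hmem).trans (hval ⟨y, hyP⟩)
  calc ψ' (Subgroup.inclusion hsub ⟨y, hyN⟩)
      = ψ' ⟨(f ⟨_, (f.symm ⟨y, hyS⟩).2⟩ : Ω'), apply_mem_mapS extender_le_sup ⟨_, hmem⟩⟩ :=
        congrArg ψ' (Subtype.ext hmy.symm)
    _ = φ' ⟨y, hyP⟩ := by
      rw [h1]
      have e : (⟨ψ ⟨(f.symm ⟨y, hyS⟩ : Ω), hmem⟩, hom_apply_mem hψ _⟩ : S) =
          f.symm ⟨φ' ⟨y, hyP⟩, hom_apply_mem hφ' _⟩ := Subtype.ext h2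
      rw [e, MulEquiv.apply_symm_apply]

theorem SysEquiv.saturated (h : SysEquiv F F' f) [Finite S] [Fact p.Prime]
    (hF : F.IsSaturated p) : F'.IsSaturated p := by
  intro P' hP'
  obtain ⟨Q, hQ, ha, hr⟩ := hF _ (mapS_le (f := f.symm) P')
  refine ⟨mapS f Q, ?_, h.fullyAutomized ha, h.receptive hr⟩
  have := h.1.isConj hQ
  rwa [mapS_symm' hP'] at this

theorem SysEquiv.isPGroup (f : S ≃* S') (hS : IsPGroup p S) : IsPGroup p S' := hS.of_equiv f

end

/-! ### Realized systems -/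

section

variable {Ω : Type*} [Group Ω] {S : Subgroup Ω} {F : FusionSystem S} {p : ℕ}
  {G : Type*} [Group G] {ι : S →* G}

theorem isRealizedBy_sysEquiv (h : F.IsRealizedBy ι) :
    SysEquiv F (groupFusionSystem ι.range) (MonoidHom.ofInjective h.1) := by
  constructor
  · intro P φ hφ
    obtain ⟨g, hg⟩ := (h.2 P (hom_le hφ) φ (hom_apply_mem hφ)).1 hφ
    refine ⟨conjHom _ g, ⟨mapS_le P, ?_, g, fun _ => rfl⟩, fun x hx hφx hm => (hg x).symm⟩
    rintro ⟨_, s, hs, rfl⟩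
    exact ⟨⟨φ ⟨s, hs⟩, hom_apply_mem hφ _⟩, hg ⟨s, hs⟩⟩
  · intro P φ hφ
    obtain ⟨hP, hφS, g, hg⟩ := hφ
    set f := MonoidHom.ofInjective h.1 with hf
    set e := mapSEquiv f.symm hP with he
    set φ' : mapS f.symm P →* Ω :=
      S.subtype.comp (f.symm.toMonoidHom.comp ((φ.codRestrict ι.range hφS).comp e.symm.toMonoidHom))
      with hφ'
    have hval : ∀ x : P, φ' (e x) = f.symm ⟨φ x, hφS x⟩ := fun x => by
      simp [hφ']
    refine ⟨φ', (h.2 _ (mapS_le P) φ' fun x => (f.symm _).2).2 ⟨g, fun y => ?_⟩,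
      fun x hx hφx hm => hval x⟩
    obtain ⟨x, rfl⟩ := e.surjective y
    have hy : (⟨(e x : Ω), mapS_le P (e x).2⟩ : S) = f.symm ⟨x, hP x.2⟩ := Subtype.ext rfl
    have hp : (⟨φ' (e x), (f.symm _).2⟩ : S) = f.symm ⟨φ x, hφS x⟩ := Subtype.ext (hval x)
    have hι : ∀ u : ι.range, ι (f.symm u) = (u : G) := fun u =>
      congrArg Subtype.val (f.apply_symm_apply u)
    rw [hy, hp, hι, hι]
    exact hg x

theorem saturated_of_isRealizedBy [Finite G] [Fact p.Prime] (h : F.IsRealizedBy ι)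
    (T : Sylow p G) (hT : (T : Subgroup G) = ι.range) : F.IsSaturated p := by
  have : Finite ι.range := inferInstance
  refine (isRealizedBy_sysEquiv h).symm.saturated ?_
  rw [← hT]
  exact groupFusion_saturated T

theorem isPGroup_of_isRealizedBy (h : F.IsRealizedBy ι) (T : Sylow p G)
    (hT : (T : Subgroup G) = ι.range) : IsPGroup p S := by
  have := T.isPGroup'
  rw [hT] at this
  exact this.of_equiv (MonoidHom.ofInjective h.1).symm

end

/-! ### The system of a subgroup -/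

section

variable {G : Type*} [Group G] {p : ℕ} {H T : Subgroup G}

theorem fusionSystemOfSubgroup_sysEquiv (hTH : T ≤ H) :
    SysEquiv (fusionSystemOfSubgroup H T hTH) (groupFusionSystem (T.subgroupOf H))
      (Subgroup.subgroupOfEquivOfLe hTH).symm := by
  constructor
  · rintro P φ ⟨hP, hφT, g, hg, hgv⟩
    refine ⟨conjHom _ ⟨g, hg⟩, ⟨mapS_le P, ?_, ⟨g, hg⟩, fun _ => rfl⟩, fun x hx hφx hm => ?_⟩
    · rintro ⟨_, s, hs, rfl⟩
      show g * (s : G) * g⁻¹ ∈ T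
      rw [← hgv ⟨s, hs⟩]
      exact hφT _
    · exact Subtype.ext (hgv x).symm
  · rintro P φ ⟨hP, hφT, g, hgv⟩
    refine ⟨conjHom _ (g : G), ⟨mapS_le P, ?_, g, g.2, fun _ => rfl⟩, fun x hx hφx hm => ?_⟩
    · rintro ⟨_, s, hs, rfl⟩
      have h1 := hφT ⟨s, hs⟩
      rw [hgv] at h1
      exact h1
    · exact (congrArg Subtype.val (hgv x)).symm

theorem fusionSystemOfSubgroup_saturated [Finite G] [Fact p.Prime] (hTH : T ≤ H)
    (hT : IsSylowIn p T H) : (fusionSystemOfSubgroup H T hTH).IsSaturated p := by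
  obtain ⟨R, hR⟩ := hT
  refine (fusionSystemOfSubgroup_sysEquiv hTH).symm.saturated ?_
  rw [← hR]
  exact groupFusion_saturated R

end

end CfsgLib.Fusion
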