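import Cfsg.Agent.Lib.Fusion.Series
import Cfsg.Agent.Lib.Fusion.Transport

/-!
Further criteria for normality of a subgroup in a saturated system.
-/

set_option autoImplicit false

namespace CfsgLib.Fusion

open Cfsg Cfsg.FusionSystem

variable {Ω : Type*} [Group Ω] {S : Subgroup Ω} {F : FusionSystem S} {p : ℕ}

/-- Every map on a subgroup of a normal `R` extends to an automorphism of `R`. -/
theorem IsNormal.exists_aut {R : Subgroup Ω} (hR : F.IsNormal R) {P : Subgroup Ω} (hPR : P ≤ R)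
    {φ : P →* Ω} (hφ : φ ∈ F.Hom P) :
    ∃ α ∈ F.autGroup R, ∀ x : P, ((α (Subgroup.inclusion hPR x) : R) : Ω) = φ x := by
  obtain ⟨ψ, hψ, hψP, hψR⟩ := hR.2 P φ hφ
  obtain ⟨α, hα, hαv⟩ := exists_iso (Q := R) (restrict_mem hψ (le_sup_right : R ≤ P ⊔ R))
    (by rw [range_restrict]; exact hψR)
  exact ⟨α, (mem_autGroup_iff_isoIn hR.1).2 hα,
    fun x => (hαv (Subgroup.inclusion hPR x)).trans (hψP x)⟩

theorem isNormal_of_exists_aut [Fact p.Prime] [Finite S] (hS : IsPGroup p S) (hF : F.IsSaturated p)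
    {R : Subgroup Ω} (hRS : R ≤ S)
    (h : ∀ (P : Subgroup Ω) (hPR : P ≤ R) (φ : P →* Ω), φ ∈ F.Hom P →
      ∃ α ∈ F.autGroup R, ∀ x : P, ((α (Subgroup.inclusion hPR x) : R) : Ω) = φ x) :
    F.IsNormal R := by
  have := finite_le hRS
  have hRsc : F.StronglyClosed R := ⟨hRS, fun P hP φ hφ x => by
    obtain ⟨α, -, hα⟩ := h P hP φ hφ
    rw [← hα x]
    exact (α _).2⟩
  have : Group.IsNilpotent R := (hS.to_le hRS).isNilpotent
  obtain ⟨n, hn⟩ := (Subgroup.isNilpotent_iff_lowerCentralSeries R).1 this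
  have hsc : ∀ k, F.StronglyClosed (R.lowerCentralSeries k) := by
    intro k
    refine ⟨(R.lowerCentralSeries_le_self k).trans hRS, fun P hP φ hφ x => ?_⟩
    obtain ⟨α, -, hα⟩ := h P (hP.trans (R.lowerCentralSeries_le_self k)) φ hφ
    rw [← hα x]
    have hch : ((R.lowerCentralSeries k).subgroupOf R).Characteristic := by
      rw [← Subgroup.top_subtype_lowerCentralSeries R, Subgroup.subgroupOf,
        Subgroup.comap_map_eq_self_of_injective R.subtype_injective]
      infer_instance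
    exact (Subgroup.characteristic_iff_map_eq.1 hch α).le ⟨_, hP x.2, rfl⟩
  refine isNormal_of_series hS hF hRsc (fun i : Fin (n + 1) => R.lowerCentralSeries (n - i))
    ?_ ?_ ?_ ?_ fun i => StronglyClosed.weaklyClosed (hsc _)
  · show R.lowerCentralSeries (n - 0) = ⊥
    rw [Nat.sub_zero, hn]
  · simp
  · intro a b hab
    exact R.lowerCentralSeries_antitone (Nat.sub_le_sub_left hab n)
  · intro i
    show ⁅R.lowerCentralSeries (n - (i.succ : ℕ)), R⁆ ≤ _
    rw [← Subgroup.lowerCentralSeries_succ]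
    apply le_of_eq
    congr 1
    simp
    omega

theorem innerFusionSystem_eq (Q : Subgroup Ω) :
    innerFusionSystem Q = fusionSystemOfSubgroup Q Q le_rfl := by
  refine fusionSystem_ext fun P => ?_
  ext φ
  constructor
  · rintro ⟨hP, g, hg, hv⟩
    exact ⟨hP, fun x => (hv x).symm ▸ Q.mul_mem (Q.mul_mem hg (hP x.2)) (Q.inv_mem hg), g, hg, hv⟩
  · rintro ⟨hP, -, g, hg, hv⟩
    exact ⟨hP, g, hg, hv⟩

theorem isSylowIn_self {G : Type*} [Group G] {Q : Subgroup G} (hQ : IsPGroup p Q) :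
    IsSylowIn p Q Q := by
  obtain ⟨T, hT, hTQ, hTp, hTs⟩ := exists_isSylowIn_ge (p := p) (le_refl Q) hQ
  rwa [le_antisymm hTQ hT] at hTs

end CfsgLib.Fusion
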