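import Cfsg.Agent.Lib.Fusion.NormalCriterion
import Mathlib.Algebra.Group.Commutator
import Mathlib.Algebra.Order.Group.Lattice

/-!
Stabilizers of series and the criteria for normality by central series of closed subgroups.
-/

set_option autoImplicit false

namespace CfsgLib.Fusion

open Cfsg Cfsg.FusionSystem
open scoped Pointwise

/-- An automorphism of a finite `p`-group stabilizing a series has `p`-power order. -/
theorem exists_pow_eq_one_of_stabilizes {P : Type*} [Group P] [Finite P] {p : ℕ} [Fact p.Prime]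
    (hP : IsPGroup p P) {n : ℕ} (N : Fin (n + 1) → Subgroup P) (h0 : N 0 = ⊥)
    (hlast : N (Fin.last n) = ⊤) (β : MulAut P)
    (hinv : ∀ i, ∀ x ∈ N i, β x ∈ N i)
    (hst : ∀ i : Fin n, ∀ x ∈ N i.succ, x⁻¹ * β x ∈ N i.castSucc) :
    ∃ k, β ^ p ^ k = 1 := by
  suffices h : ∀ i : Fin (n + 1), ∃ k, ∀ x ∈ N i, (β ^ p ^ k) x = x by
    obtain ⟨k, hk⟩ := h (Fin.last n)
    exact ⟨k, MulEquiv.ext fun x => hk x (hlast ▸ Subgroup.mem_top x)⟩
  intro i
  induction i using Fin.induction with
  | zero =>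
      refine ⟨0, fun x hx => ?_⟩
      rw [h0, Subgroup.mem_bot] at hx
      rw [hx, map_one]
  | succ i ih =>
      obtain ⟨k, hk⟩ := ih
      obtain ⟨m, hm⟩ := IsPGroup.iff_card.1 hP
      refine ⟨k + m, fun x hx => ?_⟩
      set b := β ^ p ^ k with hb
      have hpow : ∀ j : ℕ, x⁻¹ * (β ^ j) x ∈ N i.castSucc := by
        intro j
        induction j with
        | zero => simp
        | succ j ih =>
            have e : x⁻¹ * (β ^ (j + 1)) x = (x⁻¹ * β x) * β (x⁻¹ * (β ^ j) x) := by
              rw [pow_succ', MulAut.mul_apply, map_mul, map_inv]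
              group
            rw [e]
            exact (N i.castSucc).mul_mem (hst i x hx) (hinv _ _ ih)
      set z := x⁻¹ * b x with hz
      have hzN : z ∈ N i.castSucc := hpow _
      have hbz : b z = z := hk z hzN
      have hbx : ∀ j : ℕ, (b ^ j) x = x * z ^ j := by
        intro j
        induction j with
        | zero => simp
        | succ j ih =>
            rw [pow_succ', MulAut.mul_apply, ih, map_mul, map_pow, hbz, pow_succ', ← mul_assoc,
              hz, mul_inv_cancel_left]
      rw [pow_add, pow_mul, ← hb, hbx, ← hm, pow_card_eq_one', mul_one]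

variable {Ω : Type*} [Group Ω] {S : Subgroup Ω} {F : FusionSystem S} {p : ℕ}

theorem WeaklyClosed.map_eq [Finite S] {C P : Subgroup Ω} (hC : F.WeaklyClosed C) (hP : P ≤ S)
    (hCP : C ≤ P) {α : MulAut P} (hα : α ∈ F.autGroup P) :
    (C.subgroupOf P).map α.toMonoidHom = C.subgroupOf P := by
  refine map_subgroupOf_eq hP ?_
  rintro _ ⟨x, hx, rfl⟩
  exact (hC.2 _ (restrict_mem ((mem_autGroup_iff hP).1 hα) hCP)).le ⟨⟨x, hx⟩, rfl⟩

theorem WeaklyClosed.normal_in {C : Subgroup Ω} (hC : F.WeaklyClosed C) :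
    S ≤ Subgroup.normalizer (C : Set Ω) := by
  rw [Subgroup.le_normalizer_iff]
  intro s hs x hx
  exact (hC.2 _ (F.conj_mem hC.1 hs)).le ⟨⟨x, hx⟩, rfl⟩

theorem StronglyClosed.weaklyClosed [Finite S] {Q : Subgroup Ω} (hQ : F.StronglyClosed Q) :
    F.WeaklyClosed Q := by
  refine ⟨hQ.1, fun φ hφ => ?_⟩
  have := finite_le hQ.1
  refine Subgroup.eq_of_le_of_card_ge ?_
    (le_of_eq (Nat.card_congr (MonoidHom.ofInjective (F.injective_of_mem hφ)).toEquiv))
  rintro _ ⟨x, rfl⟩
  exact hQ.2 Q le_rfl φ hφ x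

/-- A strongly closed subgroup with a central series of weakly closed subgroups is normal. -/
theorem isNormal_of_series [Fact p.Prime] [Finite S] (hS : IsPGroup p S) (hF : F.IsSaturated p)
    {Q : Subgroup Ω} (hQ : F.StronglyClosed Q) {n : ℕ} (C : Fin (n + 1) → Subgroup Ω)
    (h0 : C 0 = ⊥) (hlast : C (Fin.last n) = Q) (hmono : Monotone C)
    (hcomm : ∀ i : Fin n, ⁅C i.succ, Q⁆ ≤ C i.castSucc)
    (hwc : ∀ i : Fin n, F.WeaklyClosed (C i.castSucc)) : F.IsNormal Q := by
  refine (isNormal_iff_stronglyClosed_le hS hF).2 ⟨hQ, fun P hc hr => ?_⟩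
  by_contra hnle
  -- the first member of the series outside `P`
  obtain ⟨i, hi, hi'⟩ : ∃ i : Fin n, C i.castSucc ≤ P ∧ ¬ C i.succ ≤ P := by
    by_contra h
    push Not at h
    refine hnle (hlast ▸ ?_)
    suffices ∀ i : Fin (n + 1), C i ≤ P from this _
    intro i
    induction i using Fin.induction with
    | zero => rw [h0]; exact bot_le
    | succ i ih => exact h i ih
  have hCQ : ∀ j, C j ≤ Q := fun j => hlast ▸ hmono (Fin.le_last j)
  set D := C i.succ with hD
  have hDN : S ≤ Subgroup.normalizer (D : Set Ω) := by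
    rcases Fin.eq_castSucc_or_eq_last i.succ with ⟨j, hj⟩ | hj
    · rw [hD, hj]; exact WeaklyClosed.normal_in (hwc j)
    · rw [hD, hj, hlast]; exact StronglyClosed.normal_in hQ
  have hDS : D ≤ S := (hCQ _).trans hQ.1
  have hPDS : P ⊔ D ≤ S := sup_le hc.1 hDS
  have := finite_le hPDS
  obtain ⟨g, hg, hgP⟩ := exists_mem_normalizerIn_not_mem (hS.to_le hPDS) (left_lt_sup.2 hi')
  have hgmem : g ∈ (P : Set Ω) * (D : Set Ω) := by
    rw [← Subgroup.coe_mul_of_left_le_normalizer_right P D (hc.1.trans hDN)]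
    exact hg.1
  obtain ⟨x, hx, q, hq, rfl⟩ := hgmem
  have hqN : q ∈ Subgroup.normalizer (P : Set Ω) := by
    have := mul_mem (inv_mem (Subgroup.le_normalizer (H := P) hx)) hg.2
    simpa using this
  have hqP : q ∉ P := fun h => hgP (P.mul_mem hx h)
  have hqS : q ∈ normalizerIn S P := ⟨hDS hq, hqN⟩
  -- the series of `P` stabilized by `q`
  set M : Fin (i + 3) → Subgroup P := fun j =>
    if h : (j : ℕ) ≤ i then (C ⟨j, by omega⟩).subgroupOf P
    else if (j : ℕ) = i + 1 then Q.subgroupOf P else ⊤ with hM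
  have hMle : ∀ (j : Fin (i + 3)) (h : (j : ℕ) ≤ i),
      M j = (C ⟨j, by omega⟩).subgroupOf P := fun j h => by simp [hM, h]
  have hMmid : ∀ j : Fin (i + 3), (j : ℕ) = i + 1 → M j = Q.subgroupOf P := fun j h => by
    simp [hM, h]
  have hMtop : ∀ j : Fin (i + 3), (j : ℕ) = i + 2 → M j = ⊤ := fun j h => by simp [hM, h]
  have hA : ∀ (j : Fin (i + 3)) (α : MulAut P), α ∈ F.autGroup P →
      (M j).map α.toMonoidHom = M j := by
    intro j α hα
    rcases Nat.lt_or_ge (j : ℕ) (i + 1) with h | h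
    · rw [hMle j (by omega)]
      have hle : (⟨j, by omega⟩ : Fin (n + 1)) ≤ i.castSucc := by simp [Fin.le_def]; omega
      have hw : F.WeaklyClosed (C ⟨j, by omega⟩) := hwc ⟨j, by omega⟩
      exact WeaklyClosed.map_eq hw hc.1 ((hmono hle).trans hi) hα
    · rcases eq_or_lt_of_le h with h | h
      · rw [hMmid j h.symm]; exact StronglyClosed.map_eq hQ hc.1 hα
      · rw [hMtop j (by omega)]
        exact Subgroup.map_top_of_surjective _ α.surjective
  have hAmem : ∀ (j : Fin (i + 3)) (α : MulAut P), α ∈ F.autGroup P → ∀ y ∈ M j, α y ∈ M j :=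
    fun j α hα y hy => (hA j α hα).le ⟨y, hy, rfl⟩
  -- the stabilizer of the series
  let K : Subgroup (F.autGroup P) :=
    { carrier := {a | ∀ j : Fin (i + 2), ∀ y ∈ M j.succ, y⁻¹ * (a : MulAut P) y ∈ M j.castSucc}
      one_mem' := by intro j y _; simp
      mul_mem' := by
        intro a b ha hb j y hy
        have e : y⁻¹ * ((a * b : F.autGroup P) : MulAut P) y =
            (y⁻¹ * (a : MulAut P) y) * (a : MulAut P) (y⁻¹ * (b : MulAut P) y) := by
          rw [Subgroup.coe_mul, MulAut.mul_apply, map_mul, map_inv]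
          group
        rw [e]
        exact (M _).mul_mem (ha j y hy) (hAmem _ _ a.2 _ (hb j y hy))
      inv_mem' := by
        intro a ha j y hy
        have hy' : (a : MulAut P)⁻¹ y ∈ M j.succ := hAmem _ _ ((F.autGroup P).inv_mem a.2) y hy
        have h1 := hAmem _ _ ((F.autGroup P).inv_mem a.2) _
          ((M _).inv_mem (ha j ((a : MulAut P)⁻¹ y) hy'))
        rw [MulAut.apply_inv_self, mul_inv_rev, inv_inv, map_mul] at h1
        have h2 := (M _).inv_mem (ha j ((a : MulAut P)⁻¹ y) hy')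
        rw [MulAut.apply_inv_self, mul_inv_rev, inv_inv] at h2
        simpa using h2 }
  have hKn : K.Normal := by
    refine ⟨fun a ha b j y hy => ?_⟩
    have hy' : (b : MulAut P)⁻¹ y ∈ M j.succ := hAmem _ _ ((F.autGroup P).inv_mem b.2) y hy
    have h1 := hAmem _ _ b.2 _ (ha j _ hy')
    simp only [map_mul, map_inv, MulAut.apply_inv_self] at h1
    exact h1
  have hKp : IsPGroup p K := by
    intro a
    have := finite_le hc.1
    obtain ⟨k, hk⟩ := exists_pow_eq_one_of_stabilizes (hS.to_le hc.1) M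
      (by rw [hMle 0 (by simp)]; simp [h0]) (hMtop _ (by simp)) (a : F.autGroup P)
      (fun j y hy => hAmem j _ (a : F.autGroup P).2 y hy) a.2
    exact ⟨k, Subtype.ext (Subtype.ext (by simpa using hk))⟩
  have hqA := autInducedBy_le_autGroup (F := F) hc.1 (conjAut_mem (⟨q, hqS⟩ : normalizerIn S P))
  have hqK : (⟨_, hqA⟩ : F.autGroup P) ∈ K := by
    intro j y hy
    have key : ∀ {A B : Subgroup Ω}, ⁅A, D⁆ ≤ B → (y : Ω) ∈ A →
        ((y⁻¹ * conjAut (⟨q, hqS⟩ : normalizerIn S P) y : P) : Ω) ∈ B := by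
      intro A B hAB hyA
      have := hAB (Subgroup.commutator_mem_commutator (A.inv_mem hyA) hq)
      simpa [commutatorElement_def, mul_assoc] using this
    rcases Nat.lt_or_ge (j : ℕ) i with h | h
    · rw [hMle j.succ (by simp; omega)] at hy
      rw [hMle j.castSucc (by simp; omega)]
      have hj : (⟨(j.succ : ℕ), by simp; omega⟩ : Fin (n + 1)) = (⟨j, by omega⟩ : Fin n).succ :=
        Fin.ext (by simp)
      rw [hj] at hy
      exact key ((Subgroup.commutator_mono le_rfl (hCQ _)).trans (hcomm ⟨j, by omega⟩)) hy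
    · rcases eq_or_lt_of_le h with h | h
      · rw [hMmid j.succ (by simp; omega)] at hy
        rw [hMle j.castSucc (by simp; omega)]
        have hj : (⟨(j.castSucc : ℕ), by simp; omega⟩ : Fin (n + 1)) = i.castSucc :=
          Fin.ext (by simp; omega)
        rw [hj]
        exact key (by rw [Subgroup.commutator_comm]; exact hcomm i) hy
      · rw [hMmid j.castSucc (by simp; omega)]
        refine key (A := P) ?_ y.2
        exact (Subgroup.commutator_mono hc.1 (hCQ _)).trans
          (Subgroup.le_normalizer_iff_commutator_le_right.1 (StronglyClosed.normal_in hQ))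
  exact hqP (mem_of_conjAut_inn hc _ ((isRadical_iff_le hS hc.1).1 hr (Core.le_pCore hKp hqK)))

/-- A normal subgroup has a central series of strongly closed subgroups. -/
theorem IsNormal.exists_series [Fact p.Prime] [Finite S] (hS : IsPGroup p S) {Q : Subgroup Ω}
    (hQ : F.IsNormal Q) :
    ∃ (n : ℕ) (C : Fin (n + 1) → Subgroup Ω), C 0 = ⊥ ∧ C (Fin.last n) = Q ∧ Monotone C ∧
      (∀ i, F.StronglyClosed (C i)) ∧ ∀ i : Fin n, ⁅C i.succ, Q⁆ ≤ C i.castSucc := by
  have := finite_le hQ.1
  have : Group.IsNilpotent Q := (hS.to_le hQ.1).isNilpotent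
  obtain ⟨n, hn⟩ := (Subgroup.isNilpotent_iff_lowerCentralSeries Q).1 this
  refine ⟨n, fun i => Q.lowerCentralSeries (n - i), ?_, ?_, ?_, fun i => ?_, fun i => ?_⟩
  · show Q.lowerCentralSeries (n - 0) = ⊥
    rw [Nat.sub_zero, hn]
  · simp
  · intro a b hab
    exact Q.lowerCentralSeries_antitone (Nat.sub_le_sub_left hab n)
  · refine IsNormal.stronglyClosed
      (isNormal_of_characteristic hQ (Q.lowerCentralSeries_le_self _) ?_)
    dsimp only
    rw [← Subgroup.top_subtype_lowerCentralSeries Q, Subgroup.subgroupOf,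
      Subgroup.comap_map_eq_self_of_injective Q.subtype_injective]
    infer_instance
  · show ⁅Q.lowerCentralSeries (n - (i.succ : ℕ)), Q⁆ ≤ _
    rw [← Subgroup.lowerCentralSeries_succ]
    apply le_of_eq
    congr 1
    simp
    omega

theorem isNormal_of_stronglyClosed_abelian [Fact p.Prime] [Finite S] (hS : IsPGroup p S)
    (hF : F.IsSaturated p) {Q : Subgroup Ω} (hQ : F.StronglyClosed Q)
    (hab : IsMulCommutative Q) : F.IsNormal Q := by
  refine isNormal_of_series hS hF hQ (n := 1) ![⊥, Q] rfl rfl ?_ ?_ ?_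
  · intro a b hab'
    fin_cases a <;> fin_cases b <;> simp_all
  · intro i
    fin_cases i
    show ⁅Q, Q⁆ ≤ ⊥
    rw [Subgroup.commutator_le]
    intro x hx y hy
    rw [Subgroup.mem_bot, commutatorElement_eq_one_iff_mul_comm]
    exact congrArg Subtype.val (hab.is_comm.comm (⟨x, hx⟩ : Q) ⟨y, hy⟩)
  · intro i
    fin_cases i
    exact StronglyClosed.weaklyClosed stronglyClosed_bot

end CfsgLib.Fusion
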