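import Cfsg.Agent.Lib.Fusion.Invariant
import Cfsg.Agent.Lib.Fusion.Series
import Cfsg.Agent.Lib.Fusion.NormalExtend

/-!
# Saturated systems on abelian `p`-groups
-/

set_option autoImplicit false

namespace CfsgLib.Fusion

open Cfsg Cfsg.FusionSystem

variable {Ω : Type*} [Group Ω] {S : Subgroup Ω} {F : FusionSystem S} {p : ℕ}

theorem centralizerIn_eq_self (hab : ∀ x ∈ S, ∀ y ∈ S, x * y = y * x) {P : Subgroup Ω}
    (hP : P ≤ S) : centralizerIn S P = S :=
  le_antisymm (centralizerIn_le P) fun x hx =>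
    mem_centralizerIn.2 ⟨hx, fun y hy => hab y (hP hy) x hx⟩

/-- Every map is the restriction of an automorphism of `S`. -/
theorem exists_autS [Fact p.Prime] [Finite S] (hS : IsPGroup p S) (hF : F.IsSaturated p)
    (hab : ∀ x ∈ S, ∀ y ∈ S, x * y = y * x) {P : Subgroup Ω} {φ : P →* Ω} (hφ : φ ∈ F.Hom P) :
    ∃ α ∈ F.autGroup S, ∀ x : P, φ x = ((α ⟨x, hom_le hφ x.2⟩ : S) : Ω) := by
  have hPS := hom_le hφ
  obtain ⟨e, he, hev⟩ := exists_iso hφ rfl
  have hfc : F.IsFullyCentralized φ.range := by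
    refine ⟨hom_range_le hφ, fun R hR => le_of_eq ?_⟩
    rw [centralizerIn_eq_self hab (hom_range_le hφ), centralizerIn_eq_self hab (isConj_le_right hR)]
  obtain ⟨ψ, hψ, hag⟩ := exists_extension (IsSaturated.receptive hS hF hfc) he hPS
    ((centralizerIn_eq_self hab hPS).ge.trans centralizerIn_le_extender)
  obtain ⟨a, ha, hav⟩ := exists_iso hψ (hom_range_eq_self hψ)
  refine ⟨(a : MulAut S), (mem_autGroup_iff_isoIn le_rfl).2 ha, fun x => ?_⟩
  rw [← hev]
  exact ((hav _).trans (hag x)).symm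

theorem inn_eq_bot (hab : ∀ x ∈ S, ∀ y ∈ S, x * y = y * x) : Inn S = ⊥ := by
  refine (Subgroup.eq_bot_iff_forall _).2 ?_
  rintro _ ⟨s, rfl⟩
  ext x
  show (s : Ω) * (x : Ω) * (s : Ω)⁻¹ = x
  rw [hab _ s.2 _ x.2, mul_inv_cancel_right]

theorem coprime_card_autGroup [Fact p.Prime] [Finite S] (hS : IsPGroup p S) (hF : F.IsSaturated p)
    (hab : ∀ x ∈ S, ∀ y ∈ S, x * y = y * x) :
    (Nat.card (F.autGroup S)).Coprime (Nat.card S) := by
  have := finite_mulAut_of_le (S := S) (le_refl S)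
  have h := (isSylowIn_iff_card (inn_le_autGroup (F := F) le_rfl)).1
    (IsSaturated.top_autGroup_sylow hS hF)
  rw [inn_eq_bot hab, Subgroup.card_bot] at h
  obtain ⟨k, hk⟩ := hS.exists_card_eq
  rw [hk]
  refine Nat.Coprime.pow_right _ ((Nat.Prime.coprime_iff_not_dvd Fact.out).2 fun hd => ?_).symm
  have := (Fact.out : p.Prime).factorization_pos_of_dvd Nat.card_pos.ne' hd
  exact absurd h.symm (Nat.one_lt_pow this.ne' (Fact.out : p.Prime).one_lt).ne'

/-- The elements of `S` fixed by all automorphisms of the system. -/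
def fixedPoints (F : FusionSystem S) : Subgroup Ω where
  carrier := {x | ∃ hx : x ∈ S, ∀ α ∈ F.autGroup S, α ⟨x, hx⟩ = ⟨x, hx⟩}
  one_mem' := ⟨S.one_mem, fun α _ => map_one α⟩
  mul_mem' := fun {a b} ⟨ha, ha'⟩ ⟨hb, hb'⟩ => ⟨S.mul_mem ha hb, fun α hα => by
    rw [show (⟨a * b, S.mul_mem ha hb⟩ : S) = ⟨a, ha⟩ * ⟨b, hb⟩ from rfl, map_mul, ha' α hα,
      hb' α hα]⟩
  inv_mem' := fun {a} ⟨ha, ha'⟩ => ⟨S.inv_mem ha, fun α hα => by
    rw [show (⟨a⁻¹, S.inv_mem ha⟩ : S) = ⟨a, ha⟩⁻¹ from rfl, map_inv, ha' α hα]⟩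

theorem center_eq_fixedPoints [Fact p.Prime] [Finite S] (hS : IsPGroup p S) (hF : F.IsSaturated p)
    (hab : ∀ x ∈ S, ∀ y ∈ S, x * y = y * x) : F.center = fixedPoints F := by
  refine le_antisymm ?_ (le_center ?_)
  · intro x hx
    refine ⟨center_le hx, fun α hα => ?_⟩
    refine Subtype.ext (((isCentral_iff hS hF).1 center_isCentral).2 x hx _ ?_)
    exact isConjElt_of_hom ((mem_autGroup_iff le_rfl).1 hα) ⟨x, center_le hx⟩
  · refine (isCentral_iff hS hF).2 ⟨fun x (hx : x ∈ fixedPoints F) => hx.1, fun x hx y hy => ?_⟩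
    obtain ⟨φ, hφ, rfl⟩ := hy
    obtain ⟨α, hα, hv⟩ := exists_autS hS hF hab hφ
    rw [hv]
    exact congrArg Subtype.val (hx.2 α hα)

theorem center_focal_of_abelian [Fact p.Prime] [Finite S] (hS : IsPGroup p S)
    (hF : F.IsSaturated p) (hab : ∀ x ∈ S, ∀ y ∈ S, x * y = y * x) :
    F.center ⊓ F.focalSubgroup = ⊥ ∧ F.center ⊔ F.focalSubgroup = S := by
  letI : CommGroup S := { (inferInstance : Group S) with
    mul_comm := fun a b => Subtype.ext (hab a a.2 b b.2) }
  have := finite_mulAut_of_le (S := S) (le_refl S)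
  letI : Fintype (F.autGroup S) := Fintype.ofFinite _
  set n := Nat.card (F.autGroup S) with hn
  let f : S →* S :=
    { toFun := fun x => ∏ α : F.autGroup S, (α : MulAut S) x
      map_one' := Finset.prod_eq_one fun α _ => map_one _
      map_mul' := fun a b => by simp only [map_mul, Finset.prod_mul_distrib] }
  have hfα : ∀ (α : MulAut S), α ∈ F.autGroup S → ∀ x, f (α x) = f x := fun α hα x =>
    (Fintype.prod_equiv (Equiv.mulRight (⟨α, hα⟩ : F.autGroup S))
      (fun β => (β : MulAut S) (α x)) (fun β => (β : MulAut S) x) fun β => rfl)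
  have hαf : ∀ (α : MulAut S), α ∈ F.autGroup S → ∀ x, α (f x) = f x := fun α hα x => by
    show α (∏ β : F.autGroup S, (β : MulAut S) x) = ∏ β : F.autGroup S, (β : MulAut S) x
    rw [map_prod]
    exact Fintype.prod_equiv (Equiv.mulLeft (⟨α, hα⟩ : F.autGroup S))
      (fun β => α ((β : MulAut S) x)) (fun β => (β : MulAut S) x) fun β => rfl
  have hcop : ∀ x : S, n.Coprime (orderOf x) := fun x =>
    (coprime_card_autGroup hS hF hab).coprime_dvd_right (orderOf_dvd_natCard x)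
  have hfoc : F.focalSubgroup ≤ S := by
    rw [FusionSystem.focalSubgroup, Subgroup.closure_le]
    rintro _ ⟨P, φ, x, hφ, rfl⟩
    exact S.mul_mem (S.inv_mem (hom_le hφ x.2)) (hom_apply_mem hφ x)
  rw [center_eq_fixedPoints hS hF hab]
  refine ⟨(Subgroup.eq_bot_iff_forall _).2 fun y hy => ?_,
    le_antisymm (sup_le (fun x (hx : x ∈ fixedPoints F) => hx.1) hfoc) fun x hx => ?_⟩
  · obtain ⟨⟨hyS, hfix⟩, hyf⟩ := hy
    have h1 : y ∈ (f.ker).map S.subtype := by
      refine (Subgroup.closure_le _).2 ?_ hyf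
      rintro _ ⟨P, φ, x, hφ, rfl⟩
      obtain ⟨α, hα, hv⟩ := exists_autS hS hF hab hφ
      refine ⟨(⟨x, hom_le hφ x.2⟩ : S)⁻¹ * α ⟨x, hom_le hφ x.2⟩, ?_, ?_⟩
      · show f _ = 1
        rw [map_mul, map_inv, hfα α hα, inv_mul_cancel]
      · rw [hv]; rfl
    obtain ⟨z, hz, hzy⟩ := h1
    obtain rfl : z = ⟨y, hyS⟩ := Subtype.ext hzy
    have h2 : (⟨y, hyS⟩ : S) ^ n = 1 := by
      rw [← (show f ⟨y, hyS⟩ = 1 from hz), hn, Nat.card_eq_fintype_card]
      exact ((Finset.prod_congr rfl fun (β : F.autGroup S) _ => hfix (β : MulAut S) β.2).trans (Finset.prod_const _)).symm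
    have h3 : orderOf (⟨y, hyS⟩ : S) = 1 :=
      Nat.dvd_one.1 ((hcop _) ▸ Nat.dvd_gcd (orderOf_dvd_of_pow_eq_one h2) dvd_rfl)
    exact congrArg Subtype.val (orderOf_eq_one_iff.1 h3)
  · set s : S := ⟨x, hx⟩ with hs
    have h1 : (f s : Ω) ∈ fixedPoints F := ⟨(f s).2, fun α hα => hαf α hα s⟩
    have h2 : ∏ β : F.autGroup S, (s⁻¹ * (β : MulAut S) s) ∈ F.focalSubgroup.subgroupOf S := by
      refine Subgroup.prod_mem _ fun β _ => ?_
      refine Subgroup.subset_closure ⟨S, _, s, (mem_autGroup_iff le_rfl).1 β.2, ?_⟩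
      rfl
    have h3 : s ^ n ∈ (fixedPoints F ⊔ F.focalSubgroup).subgroupOf S := by
      have h4 : ∏ β : F.autGroup S, (s⁻¹ * (β : MulAut S) s) = (s ^ n)⁻¹ * f s := by
        rw [Finset.prod_mul_distrib, Finset.prod_const, Finset.card_univ, inv_pow, hn,
          Nat.card_eq_fintype_card]
        rfl
      have h5 : s ^ n = f s * ((s ^ n)⁻¹ * f s)⁻¹ := by
        rw [mul_inv_rev, inv_inv, mul_inv_cancel_left]
      rw [h5]
      refine Subgroup.mul_mem _ (Subgroup.mem_subgroupOf.2 (Subgroup.mem_sup_left h1))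
        (Subgroup.inv_mem _ (Subgroup.mem_subgroupOf.2 (Subgroup.mem_sup_right ?_)))
      rw [← h4]
      exact h2
    obtain ⟨m, hm⟩ := exists_pow_eq_self_of_coprime (hcop s)
    have h6 := Subgroup.pow_mem _ h3 m
    rwa [hm] at h6

theorem eq_inner_of_autGroup_eq_bot [Fact p.Prime] [Finite S] (hS : IsPGroup p S)
    (hF : F.IsSaturated p) (hab : ∀ x ∈ S, ∀ y ∈ S, x * y = y * x) (h : F.autGroup S = ⊥) :
    F = innerFusionSystem S := by
  refine fusionSystem_antisymm (fun P φ hφ => ?_) (innerFusionSystem_le F)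
  obtain ⟨α, hα, hv⟩ := exists_autS hS hF hab hφ
  rw [h, Subgroup.mem_bot] at hα
  subst hα
  exact ⟨hom_le hφ, 1, S.one_mem, fun x => by rw [hv]; simp⟩

theorem inner_saturated_of_abelian [Fact p.Prime] [Finite S]
    (hab : ∀ x ∈ S, ∀ y ∈ S, x * y = y * x) : (innerFusionSystem S).IsSaturated p := by
  intro P hP
  have hfix : ∀ {g : Ω}, g ∈ S → ∀ x ∈ P, g * x * g⁻¹ = x := fun hg x hx => by
    rw [hab _ hg _ (hP hx), mul_inv_cancel_right]
  have hbot : autInducedBy S P = ⊥ := by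
    refine (Subgroup.eq_bot_iff_forall _).2 fun α hα => ?_
    obtain ⟨g, hg, hv⟩ := mem_autInducedBy_iff.1 hα
    ext x
    exact (hv x).trans (hfix hg x x.2)
  refine ⟨P, isConj_refl hP, ?_, hP, fun R φ hφ hr => ?_⟩
  · rw [isFullyAutomized_iff hP, inner_autGroup hP, hbot, Subgroup.card_bot]
    simp
  · obtain ⟨hR, g, hg, hv⟩ := hφ
    have hle : extender S R φ ≤ S :=
      (Subgroup.closure_le _).2 fun x hx => hx.1
    exact ⟨conjHom _ g, (innerFusionSystem S).conj_mem hle hg, fun x hx hN => (hv ⟨x, hx⟩).symm⟩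

/-- Over an abelian `S` the inner system of a strongly closed subgroup is normal. -/
theorem inner_isNormalIn_of_abelian [Fact p.Prime] [Finite S] (hS : IsPGroup p S)
    (hF : F.IsSaturated p) (hab : ∀ x ∈ S, ∀ y ∈ S, x * y = y * x) {U : Subgroup Ω}
    (hU : F.StronglyClosed U) : (innerFusionSystem U).IsNormalIn F p := by
  have hUS := hU.1
  have := finite_le hUS
  have habU : ∀ x ∈ U, ∀ y ∈ U, x * y = y * x := fun x hx y hy => hab x (hUS hx) y (hUS hy)
  have hid : ∀ {P : Subgroup Ω} {φ : P →* Ω}, φ ∈ (innerFusionSystem U).Hom P →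
      ∀ x : P, φ x = x := fun {P φ} ⟨hP, g, hg, hv⟩ x => by
    rw [hv, habU _ hg _ (hP x.2), mul_inv_cancel_right]
  refine ⟨⟨inner_saturated_of_abelian habU, hF, ?_, hU, ?_, ?_⟩, ?_⟩
  · intro P φ hφ
    exact hom_congr (incl_mem ((hφ.1).trans hUS)) (hid hφ)
  · intro P hPT φ hφ α hα
    have hle : (P.subgroupOf U).map (U.subtype.comp α.toMonoidHom) ≤ U := by
      rintro _ ⟨x, -, rfl⟩; exact (α x).2
    refine ⟨_, incl_mem hle, fun x hφx hαx => ?_⟩
    show ((α ⟨x, hPT x.2⟩ : U) : Ω) = _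
    simp only [hid hφ x]
  · intro P hP φ hφ
    obtain ⟨α, hα, hv⟩ := exists_autS hS hF hab hφ
    have hres : ((isoHom (α : S ≃* S)).comp (Subgroup.inclusion hUS)) ∈ F.Hom U :=
      restrict_mem ((mem_autGroup_iff_isoIn le_rfl).1 hα).mem hUS
    obtain ⟨b, hb, hbv⟩ := exists_iso hres ((StronglyClosed.weaklyClosed hU).2 _ hres)
    refine ⟨(b : MulAut U), (mem_autGroup_iff_isoIn hUS).2 hb, P.subtype, incl_mem hP,
      fun x hx => ?_⟩
    rw [hv, hbv]
    rfl
  · intro α hα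
    refine ⟨1, one_mem _, fun x => ?_, fun c hc => ?_⟩
    · exact ((hid ((mem_autGroup_iff le_rfl).1 hα) x).trans rfl).symm
    · simp

theorem simple_of_abelian_iff [Fact p.Prime] [Finite S] (hS : IsPGroup p S)
    (hF : F.IsSaturated p) (hab : ∀ x ∈ S, ∀ y ∈ S, x * y = y * x) :
    F.IsSimple p ↔ (Nat.card S = p ∧ ∀ P : Subgroup Ω, F.Hom P = (innerFusionSystem S).Hom P) := by
  constructor
  · rintro ⟨-, hS1, h⟩
    have hinner : ∀ P, F.Hom P = (innerFusionSystem S).Hom P := by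
      rcases h S _ (inner_isNormalIn_of_abelian hS hF hab stronglyClosed_top) with h' | ⟨-, h'⟩
      · exact absurd h' hS1
      · exact fun P => (h' P).symm
    refine ⟨?_, hinner⟩
    have : Nontrivial S := (Subgroup.nontrivial_iff_ne_bot S).2 hS1
    obtain ⟨k, hk, hk'⟩ := hS.nontrivial_iff_card.1 this
    obtain ⟨x, hx⟩ := exists_prime_orderOf_dvd_card' (G := S) p (hk' ▸ dvd_pow_self p hk.ne')
    have hxS : Subgroup.zpowers (x : Ω) ≤ S := Subgroup.zpowers_le.2 x.2
    have hcl : F.StronglyClosed (Subgroup.zpowers (x : Ω)) := by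
      refine ⟨hxS, fun R hR φ hφ y => ?_⟩
      rw [hinner R] at hφ
      obtain ⟨-, g, hg, hv⟩ := hφ
      rw [hv, hab _ hg _ (hxS (hR y.2)), mul_inv_cancel_right]
      exact hR y.2
    rcases h _ _ (inner_isNormalIn_of_abelian hS hF hab hcl) with h' | ⟨h', -⟩
    · rw [Subgroup.zpowers_eq_bot] at h'
      have : x = 1 := Subtype.ext h'
      rw [this, orderOf_one] at hx
      exact absurd hx.symm (Fact.out : p.Prime).one_lt.ne'
    · rw [← h', Nat.card_zpowers, Subgroup.orderOf_coe, hx]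
  · rintro ⟨hcard, hinner⟩
    have hne : S ≠ ⊥ := by
      intro h
      rw [h, Subgroup.card_bot] at hcard
      exact (Fact.out : p.Prime).one_lt.ne hcard
    refine isSimple_of_inner_top hF hne ?_ fun T hT => ?_
    · rw [show F = innerFusionSystem S from fusionSystem_ext hinner, inner_autGroup le_rfl,
        autInducedBy_self_eq]
    · have hdvd := Subgroup.card_dvd_of_le hT.1
      rw [hcard] at hdvd
      have := finite_le hT.1
      rcases (Nat.dvd_prime Fact.out).1 hdvd with h | h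
      · exact Or.inl (Subgroup.card_eq_one.1 h)
      · exact Or.inr (Subgroup.eq_of_le_of_card_ge hT.1 (by omega))

end CfsgLib.Fusion
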