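import Cfsg.Agent.Lib.Fusion.MetacyclicTwoClosed

/-!
Centric radical subgroups of rank two: reductions.

* `no_char_line`: a proper centric radical subgroup `R` has no characteristic subgroup of index `p`
  containing `Φ(R)` when `|R : Φ(R)| ≤ p²`;
* `homocyclic_stabilizes`: for `p ≥ 5` automorphisms of order `p` of homocyclic groups of rank two and
  exponent at least `p²` act trivially on the Frattini quotient.
-/

set_option autoImplicit false

namespace CfsgLib.Fusion

open Cfsg Cfsg.FusionSystem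

/-- Powers of a map shifting by a fixed element, modulo a normal subgroup. -/
theorem iterate_shift_mod {X : Type*} [Group X] (σ : MulAut X) {N : Subgroup X} [N.Normal]
    (hN : ∀ x ∈ N, σ x ∈ N) {x m : X} (hx : x⁻¹ * σ x * m⁻¹ ∈ N) (hm : m⁻¹ * σ m ∈ N) (n : ℕ) :
    (((σ ^ n) x : X) : X ⧸ N) = (x : X ⧸ N) * (m : X ⧸ N) ^ n := by
  induction n with
  | zero => simp
  | succ n ih =>
    have h0 : ∀ a b : X, (a : X ⧸ N) = b → ((σ a : X) : X ⧸ N) = ((σ b : X) : X ⧸ N) :=
      fun a b h => QuotientGroup.eq.2 (by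
        rw [← map_inv, ← map_mul]; exact hN _ (QuotientGroup.eq.1 h))
    rw [pow_succ', MulAut.mul_apply, h0 _ (x * m ^ n) (by simpa using ih), map_mul, map_pow]
    have e1 : ((σ x : X) : X ⧸ N) = (x : X ⧸ N) * m := by
      rw [← QuotientGroup.mk_mul]
      refine (QuotientGroup.eq.2 ?_).symm
      have := (inferInstance : N.Normal).conj_mem _ hx m⁻¹
      simpa [mul_assoc] using this
    have e2 : ((σ m : X) : X ⧸ N) = (m : X ⧸ N) := (QuotientGroup.eq.2 hm).symm
    rw [QuotientGroup.mk_mul, QuotientGroup.mk_pow, e1, e2, mul_assoc, ← pow_succ']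

/-- An automorphism of `p`-power order fixes the elements of order `p` whose line it preserves. -/
theorem fix_elem {X : Type*} [Group X] {p t : ℕ} [Fact p.Prime] (σ : MulAut X) {x : X}
    (hx : x ^ p = 1) (hk : ∃ k : ℕ, σ x = x ^ k) (hσ : (σ ^ p ^ t) x = x) : σ x = x := by
  have hp : p.Prime := Fact.out
  by_cases h1 : x = 1
  · rw [h1, map_one]
  have ho : orderOf x = p := orderOf_eq_prime hx h1
  obtain ⟨k, hk⟩ := hk
  have hit : ∀ n : ℕ, (σ ^ n) x = x ^ k ^ n := by
    intro n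
    induction n with
    | zero => simp
    | succ n ih => rw [pow_succ', MulAut.mul_apply, ih, map_pow, hk, ← pow_mul, pow_succ']
  rw [hit] at hσ
  nth_rewrite 2 [← pow_one x] at hσ
  rw [pow_eq_pow_iff_modEq, ho, ← ZMod.natCast_eq_natCast_iff, Nat.cast_pow, Nat.cast_one,
    ZMod.pow_card_pow] at hσ
  rw [hk]
  nth_rewrite 2 [← pow_one x]
  rw [pow_eq_pow_iff_modEq, ho, ← ZMod.natCast_eq_natCast_iff, Nat.cast_one]
  exact hσ

/-- An automorphism of `p`-power order centralises an invariant section of order at most `p`. -/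
theorem fix_mod {X : Type*} [Group X] [Finite X] {p t : ℕ} [Fact p.Prime] (σ : MulAut X)
    (hσ : σ ^ p ^ t = 1) {M N : Subgroup X} [N.Normal] (hNM : N ≤ M)
    (hM : ∀ x ∈ M, σ x ∈ M) (hN : ∀ x ∈ N, σ x ∈ N)
    (hc : Nat.card M ≤ p * Nat.card N) (hpow : ∀ x ∈ M, x ^ p ∈ N) :
    ∀ m ∈ M, m⁻¹ * σ m ∈ N := by
  have hp : p.Prime := Fact.out
  have hNe : N.map σ.toMonoidHom = N := Subgroup.eq_of_le_of_card_ge (by
      rintro _ ⟨x, hx, rfl⟩; exact hN x hx)
    (Subgroup.card_map_of_injective (f := σ.toMonoidHom) σ.injective).ge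
  set τ : MulAut (X ⧸ N) := QuotientGroup.congr N N σ hNe with hτ
  have hτv : ∀ x : X, τ (x : X ⧸ N) = ((σ x : X) : X ⧸ N) := fun x => rfl
  have hτn : ∀ (n : ℕ) (x : X), (τ ^ n) (x : X ⧸ N) = (((σ ^ n) x : X) : X ⧸ N) := by
    intro n x
    induction n with
    | zero => rfl
    | succ n ih => rw [pow_succ', pow_succ', MulAut.mul_apply, MulAut.mul_apply, ih, hτv]
  intro m hm
  refine QuotientGroup.eq.1 (show (m : X ⧸ N) = ((σ m : X) : X ⧸ N) from ?_)
  rw [← hτv]
  symm
  have hmp : (m : X ⧸ N) ^ p = 1 := by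
    rw [← QuotientGroup.mk_pow, QuotientGroup.eq_one_iff]; exact hpow m hm
  refine fix_elem (t := t) τ hmp ?_ (by rw [hτn, hσ]; rfl)
  by_cases h1 : (m : X ⧸ N) = 1
  · exact ⟨0, by rw [h1, map_one, one_pow]⟩
  set Mb := M.map (QuotientGroup.mk' N) with hMb
  have hcard : Nat.card Mb ≤ p := by
    have h := Subgroup.relIndex_mul_relIndex ⊥ N M bot_le hNM
    rw [Subgroup.relIndex_bot_left, Subgroup.relIndex_bot_left] at h
    have h2 : N.relIndex M = Nat.card Mb := by
      rw [hMb, ← Subgroup.relIndex_ker M (QuotientGroup.mk' N), QuotientGroup.ker_mk']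
    rw [h2] at h
    rw [← h, mul_comm p] at hc
    exact Nat.le_of_mul_le_mul_left hc Nat.card_pos
  have hz : Subgroup.zpowers (m : X ⧸ N) = Mb := by
    refine Subgroup.eq_of_le_of_card_ge (Subgroup.zpowers_le.2 ⟨m, hm, rfl⟩) ?_
    rw [Nat.card_zpowers, orderOf_eq_prime hmp h1]
    exact hcard
  obtain ⟨k, hk⟩ := mem_powers_iff_mem_zpowers.2
    (hz.ge (⟨σ m, hM m hm, rfl⟩ : ((σ m : X) : X ⧸ N) ∈ Mb))
  exact ⟨k, by rw [hτv]; exact hk.symm⟩

/-- A nontrivial automorphism of `p`-power order of a plane is a transvection. -/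
theorem unipotent_plane {X : Type*} [Group X] [Finite X] {p t : ℕ} [Fact p.Prime]
    (hab : ∀ x y : X, x * y = y * x) (hX : Nat.card X ≤ p ^ 2) (hexp : ∀ x : X, x ^ p = 1)
    (σ : MulAut X) (hσ : σ ^ p ^ t = 1) (hne : σ ≠ 1) :
    ∃ a b : X, σ a = a * b ∧ σ b = b ∧ b ≠ 1 ∧ ∀ x : X, ∃ i j : ℕ, x = a ^ i * b ^ j := by
  have hp : p.Prime := Fact.out
  obtain ⟨a, ha⟩ : ∃ a, σ a ≠ a := by
    by_contra h
    push Not at h
    exact hne (MulEquiv.ext h)
  obtain ⟨k, hk⟩ := IsPGroup.iff_card.1 (show IsPGroup p X from fun x =>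
    ⟨1, by rw [pow_one]; exact hexp x⟩)
  set H : Subgroup (MulAut X) := Subgroup.zpowers σ
  have hH : IsPGroup p H := fun h => ⟨t, by
    obtain ⟨i, hi⟩ := h.2
    refine Subtype.ext ?_
    rw [SubgroupClass.coe_pow, OneMemClass.coe_one, ← hi]
    show (σ ^ i) ^ p ^ t = 1
    rw [← zpow_natCast, ← zpow_mul, mul_comm, zpow_mul, zpow_natCast, hσ, one_zpow]⟩
  have hk0 : k ≠ 0 := fun h => ha (by
    rw [h, pow_zero, Nat.card_eq_one_iff_unique] at hk
    exact hk.1.elim _ _)
  have hdvd : p ∣ Nat.card X := hk ▸ dvd_pow_self p hk0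
  have h1fix : (1 : X) ∈ MulAction.fixedPoints H X := fun h => map_one (h : MulAut X)
  obtain ⟨b₀, hb₀, hb₀1⟩ :=
    hH.exists_fixed_point_of_prime_dvd_card_of_fixed_point X hdvd h1fix
  have hb₀f : σ b₀ = b₀ := hb₀ ⟨σ, Subgroup.mem_zpowers σ⟩
  set B := Subgroup.zpowers b₀ with hB
  have hBn : B.Normal := ⟨fun x hx g => by rw [hab g x, mul_inv_cancel_right]; exact hx⟩
  have hBfix : ∀ x ∈ B, σ x = x := by
    rintro _ ⟨i, rfl⟩
    show σ (b₀ ^ i) = b₀ ^ i
    rw [map_zpow, hb₀f]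
  have hBcard : Nat.card B = p := by
    rw [hB, Nat.card_zpowers, orderOf_eq_prime (hexp b₀) fun h => hb₀1 h.symm]
  have hb : a⁻¹ * σ a ∈ B := fix_mod σ hσ (M := ⊤) le_top (fun _ _ => trivial)
    (fun x hx => by rw [hBfix x hx]; exact hx)
    (by rw [hBcard, Subgroup.card_top, ← pow_two]; exact hX)
    (fun x _ => by rw [hexp x]; exact B.one_mem) a trivial
  set b := a⁻¹ * σ a with hbdef
  have hb1 : b ≠ 1 := fun h => ha (inv_mul_eq_one.1 h).symm
  refine ⟨a, b, by rw [hbdef, mul_inv_cancel_left], hBfix b hb, hb1, fun x => ?_⟩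
  have hzb : Subgroup.zpowers b = B := Subgroup.eq_of_le_of_card_ge (Subgroup.zpowers_le.2 hb)
    (by rw [hBcard, Nat.card_zpowers, orderOf_eq_prime (hexp b) hb1])
  have hlt : B < B ⊔ Subgroup.zpowers a := left_lt_sup.2 fun h =>
    ha (hBfix a (h (Subgroup.mem_zpowers a)))
  have htop : B ⊔ Subgroup.zpowers a = ⊤ := by
    refine Subgroup.eq_top_of_le_card _ ?_
    have hpk : (B ⊔ Subgroup.zpowers a).index * Nat.card (B ⊔ Subgroup.zpowers a : Subgroup X) =
        Nat.card X := Subgroup.index_mul_card _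
    obtain ⟨i, hi, hi'⟩ := (Nat.dvd_prime_pow hp).1 (hk ▸ Subgroup.card_subgroup_dvd_card
      (B ⊔ Subgroup.zpowers a))
    have hltc : p < Nat.card (B ⊔ Subgroup.zpowers a : Subgroup X) := by
      rw [← hBcard]
      refine lt_of_le_of_ne (Subgroup.card_le_of_le hlt.le) fun h => hlt.ne ?_
      exact Subgroup.eq_of_le_of_card_ge hlt.le h.ge
    rw [hi'] at hltc ⊢
    have h2 : 1 < i := (Nat.pow_lt_pow_iff_right hp.one_lt).1 (by rwa [pow_one])
    exact hX.trans (Nat.pow_le_pow_right hp.pos h2)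
  obtain ⟨u, hu, v, hv, rfl⟩ := Subgroup.mem_sup_of_normal_left.1 (htop.ge (Subgroup.mem_top x))
  rw [← hzb] at hu
  obtain ⟨j, rfl⟩ := mem_powers_iff_mem_zpowers.2 hu
  obtain ⟨i, rfl⟩ := mem_powers_iff_mem_zpowers.2 hv
  exact ⟨i, j, hab _ _⟩

variable {Ω : Type*} [Group Ω] {S R : Subgroup Ω} {F : FusionSystem S} {p : ℕ}

/-- A normal `p`-subgroup of the automiser of a radical subgroup is inner. -/
theorem mem_inn_of_normal [Fact p.Prime] [Finite S] (hS : IsPGroup p S) (hRS : R ≤ S)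
    (hr : F.IsRadical p R) {K : Subgroup (MulAut R)} (hKA : K ≤ F.autGroup R)
    (hn : ∀ α ∈ F.autGroup R, ∀ κ ∈ K, α * κ * α⁻¹ ∈ K) (hK : IsPGroup p K) : K ≤ Inn R := by
  have := finite_mulAut_of_le (S := S) hRS
  have : (K.subgroupOf (F.autGroup R)).Normal := ⟨fun κ hκ α => hn α α.2 κ hκ⟩
  intro κ hκ
  exact (isRadical_iff_le hS hRS).1 hr (Core.le_pCore
    (hK.of_equiv (Subgroup.subgroupOfEquivOfLe hKA).symm) (x := ⟨κ, hKA hκ⟩) hκ)

/-- A normalising element outside a proper subgroup with `p`-th power inside. -/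
theorem exists_step [Fact p.Prime] [Finite S] (hS : IsPGroup p S) (hRS : R ≤ S) (hne : R ≠ S) :
    ∃ g : normalizerIn S R, (g : Ω) ∉ R ∧ (g : Ω) ^ p ∈ R := by
  classical
  obtain ⟨g, hg, hgR⟩ := exists_mem_normalizerIn_not_mem hS (lt_of_le_of_ne hRS hne)
  have hex : ∃ k : ℕ, g ^ p ^ k ∈ R := by
    obtain ⟨t, ht⟩ := hS ⟨g, hg.1⟩
    exact ⟨t, by rw [show g ^ p ^ t = 1 from congrArg Subtype.val ht]; exact R.one_mem⟩
  have hk0 : Nat.find hex ≠ 0 := fun h => hgR (by simpa [h] using Nat.find_spec hex)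
  obtain ⟨k, hk⟩ := Nat.exists_eq_succ_of_ne_zero hk0
  refine ⟨⟨g ^ p ^ k, Subgroup.pow_mem _ hg _⟩, Nat.find_min hex (by omega), ?_⟩
  show (g ^ p ^ k) ^ p ∈ R
  rw [← pow_mul, ← pow_succ, show k + 1 = Nat.find hex from hk.symm]
  exact Nat.find_spec hex

theorem conjAut_pow (g : normalizerIn S R) (n : ℕ) (x : R) :
    (((conjAut g ^ n) x : R) : Ω) = (g : Ω) ^ n * (x : Ω) * ((g : Ω) ^ n)⁻¹ := by
  induction n with
  | zero => simp
  | succ n ih => rw [pow_succ', MulAut.mul_apply, conjAut_apply, ih, pow_succ']; group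

theorem conjAut_pow_eq_one [Fact p.Prime] (hS : IsPGroup p S) (g : normalizerIn S R) :
    ∃ t : ℕ, conjAut g ^ p ^ t = 1 := by
  obtain ⟨t, ht⟩ := hS ⟨g, g.2.1⟩
  refine ⟨t, MulEquiv.ext fun x => Subtype.ext ?_⟩
  rw [conjAut_pow, show (g : Ω) ^ p ^ t = 1 from congrArg Subtype.val ht]
  simp

theorem conjAut_mem_autGroup (hRS : R ≤ S) (g : normalizerIn S R) :
    conjAut g ∈ F.autGroup R := autInducedBy_le_autGroup hRS (conjAut_mem g)

/-- The automorphisms centralising the Frattini quotient. -/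
def frattiniFix (X : Type*) [Group X] : Subgroup (MulAut X) where
  carrier := {β | ∀ y : X, β y * y⁻¹ ∈ frattini X}
  one_mem' := fun y => by simp
  mul_mem' := fun {α β} hα hβ y => by
    have := (frattini X).mul_mem (hα (β y)) (hβ y)
    rwa [mul_assoc, inv_mul_cancel_left] at this
  inv_mem' := fun {α} hα y => by
    have := (frattini X).inv_mem (hα (α⁻¹ y))
    rwa [MulAut.apply_inv_self, mul_inv_rev, inv_inv] at this

theorem frattiniFix_conj {X : Type*} [Group X] (α κ : MulAut X) (hκ : κ ∈ frattiniFix X) :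
    α * κ * α⁻¹ ∈ frattiniFix X := by
  intro y
  show α (κ (α⁻¹ y)) * y⁻¹ ∈ frattini X
  have h1 : α (κ (α⁻¹ y) * (α⁻¹ y)⁻¹) ∈ frattini X :=
    (Subgroup.characteristic_iff_map_eq.1 (inferInstance : (frattini X).Characteristic) α).le
      ⟨_, hκ _, rfl⟩
  rwa [map_mul, map_inv, MulAut.apply_inv_self] at h1

/-- A normalising element centralising the Frattini quotient of a centric radical subgroup lies in
it. -/
theorem not_frattiniFix [Fact p.Prime] [Finite S] (hS : IsPGroup p S) (hc : F.IsCentric R)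
    (hr : F.IsRadical p R) {g : normalizerIn S R} (hg : (g : Ω) ∉ R) :
    conjAut g ∉ frattiniFix R := fun h => by
  have := finite_le hc.1
  refine hg (mem_of_conjAut_inn hc g (mem_inn_of_normal hS hc.1 hr
    (K := F.autGroup R ⊓ frattiniFix R) inf_le_left (fun α hα κ hκ => ?_) ?_
    ⟨conjAut_mem_autGroup hc.1 g, h⟩))
  · exact ⟨Subgroup.mul_mem _ (Subgroup.mul_mem _ hα hκ.1) (Subgroup.inv_mem _ hα), frattiniFix_conj α κ hκ.2⟩
  · exact isPGroup_frattini_stabilizer (hS.to_le hc.1) _ fun e he => he.2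

/-- A proper centric radical subgroup with small Frattini quotient has no characteristic subgroup
of index `p` above the Frattini subgroup. -/
theorem no_char_line [Fact p.Prime] [Finite S] (hS : IsPGroup p S) (hc : F.IsCentric R)
    (hr : F.IsRadical p R) (hne : R ≠ S) {M : Subgroup R} [M.Characteristic]
    (hi : M.index = p) (hΦ : frattini R ≤ M) (h2 : (frattini R).index ≤ p ^ 2) : False := by
  have hp : p.Prime := Fact.out
  have := finite_le hc.1
  have := finite_mulAut_of_le (S := S) hc.1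
  have hRp : IsPGroup p R := hS.to_le hc.1
  obtain ⟨g, hgR, -⟩ := exists_step hS hc.1 hne
  obtain ⟨t, ht⟩ := conjAut_pow_eq_one hS g
  set u := conjAut g with hu
  have hMi : ∀ (α : MulAut R), ∀ x ∈ M, α x ∈ M := fun α x hx =>
    (Subgroup.characteristic_iff_map_eq.1 inferInstance α).le ⟨x, hx, rfl⟩
  have hΦi : ∀ (α : MulAut R), ∀ x ∈ frattini R, α x ∈ frattini R := fun α x hx =>
    (Subgroup.characteristic_iff_map_eq.1 inferInstance α).le ⟨x, hx, rfl⟩
  let K : Subgroup (MulAut R) :=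
    { carrier := {α | (∀ r : R, r⁻¹ * α r ∈ M) ∧ ∀ m ∈ M, m⁻¹ * α m ∈ frattini R}
      one_mem' := ⟨fun r => by simp, fun m _ => by simp⟩
      mul_mem' := fun {α β} hα hβ => ⟨fun r => by
          have := M.mul_mem (hβ.1 r) (hα.1 (β r))
          rwa [mul_assoc, mul_inv_cancel_left] at this,
        fun m hm => by
          have := (frattini R).mul_mem (hβ.2 m hm) (hα.2 _ (hMi β m hm))
          rwa [mul_assoc, mul_inv_cancel_left] at this⟩
      inv_mem' := fun {α} hα => ⟨fun r => by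
          have := M.inv_mem (hα.1 (α⁻¹ r))
          rwa [MulAut.apply_inv_self, mul_inv_rev, inv_inv] at this,
        fun m hm => by
          have := (frattini R).inv_mem (hα.2 _ (hMi α⁻¹ m hm))
          rwa [MulAut.apply_inv_self, mul_inv_rev, inv_inv] at this⟩ }
  have huK : u ∈ K := by
    have hcard : Nat.card R = p * Nat.card M := by rw [← hi, Subgroup.index_mul_card]
    refine ⟨fun r => ?_, fun m hm => ?_⟩
    · refine fix_mod u ht (M := ⊤) le_top (fun _ _ => trivial) (hMi u)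
        (by rw [Subgroup.card_top, hcard]) (fun x _ => ?_) r trivial
      rw [← hi]; exact Subgroup.pow_index_mem M x
    · refine fix_mod u ht hΦ (hMi u) (hΦi u) ?_
        (fun x _ => CfsgLib.PGroups.pow_mem_frattini hRp x) m hm
      have h := Subgroup.index_mul_card (frattini R)
      have h3 : p * Nat.card M ≤ p * (p * Nat.card (frattini R)) := by
        rw [← hcard, ← h, ← mul_assoc, ← pow_two]
        exact Nat.mul_le_mul_right _ h2
      exact Nat.le_of_mul_le_mul_left h3 hp.pos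
  refine hgR (mem_of_conjAut_inn hc g (mem_inn_of_normal hS hc.1 hr
    (K := F.autGroup R ⊓ K) inf_le_left (fun α hα κ hκ => ⟨Subgroup.mul_mem _ (Subgroup.mul_mem _ hα hκ.1) (Subgroup.inv_mem _ hα),
      fun r => ?_, fun m hm => ?_⟩) ?_ ⟨conjAut_mem_autGroup hc.1 g, huK⟩))
  · show r⁻¹ * α (κ (α⁻¹ r)) ∈ M
    have h1 := hMi α _ (hκ.2.1 (α⁻¹ r))
    rwa [map_mul, map_inv, MulAut.apply_inv_self] at h1
  · show m⁻¹ * α (κ (α⁻¹ m)) ∈ frattini R
    have h1 := hΦi α _ (hκ.2.2 _ (hMi α⁻¹ m hm))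
    rwa [map_mul, map_inv, MulAut.apply_inv_self] at h1
  intro α
  have hα := (α.2).2
  have hstab : (α : MulAut R) ^ p ∈ F.autGroup R ⊓ frattiniFix R := by
    refine ⟨pow_mem α.2.1 p, fun r => ?_⟩
    have hm := hα.1 r
    have h := iterate_shift_mod (α : MulAut R) (hΦi α)
      (x := r) (m := r⁻¹ * (α : MulAut R) r) (by simp) (hα.2 _ hm) p
    rw [← QuotientGroup.mk_pow, (QuotientGroup.eq_one_iff _).2
      (CfsgLib.PGroups.pow_mem_frattini hRp _), mul_one] at h
    have h' := (frattini R).inv_mem (QuotientGroup.eq.1 h.symm)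
    have h'' := (inferInstance : (frattini R).Normal).conj_mem _ (QuotientGroup.eq.1 h.symm) r
    simpa [mul_assoc] using h''
  obtain ⟨k, hk⟩ := isPGroup_frattini_stabilizer hRp (F.autGroup R ⊓ frattiniFix R)
    (fun e he => he.2) ⟨_, hstab⟩
  refine ⟨k + 1, Subtype.ext ?_⟩
  rw [pow_succ', pow_mul, SubgroupClass.coe_pow, SubgroupClass.coe_pow]
  exact congrArg Subtype.val hk

/-- Automorphisms of order `p ≥ 5` of homocyclic groups of rank two and exponent `≥ p²` centralise
the Frattini quotient. -/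
theorem homocyclic_stabilizes {X : Type*} [CommGroup X] [Finite X] [Fact p.Prime] (hp5 : 5 ≤ p)
    (hX : IsPGroup p X) (h2 : (frattini X).index ≤ p ^ 2)
    (hker : ∀ x : X, x ^ p = 1 → ∃ y, x = y ^ p) (σ : MulAut X) (hσ : σ ^ p = 1) :
    σ ∈ frattiniFix X := by
  have hp : p.Prime := Fact.out
  have hΦ : ∀ x : X, x ∈ frattini X → ∃ y : X, y ^ p = x := fun x hx => by
    have h := CfsgLib.PGroups.frattini_le_of_elementary (N := (powMonoidHom p : X →* X).range)
      (by rw [commutator_def, Subgroup.commutator_le]; exact fun a _ b _ => ⟨1, by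
        simp [commutatorElement_def]⟩) (fun y => ⟨y, rfl⟩) hx
    exact h
  have hΦe : (frattini X).map σ.toMonoidHom = frattini X :=
    Subgroup.characteristic_iff_map_eq.1 inferInstance σ
  set τ : MulAut (X ⧸ frattini X) := QuotientGroup.congr _ _ σ hΦe with hτ
  have hτv : ∀ x : X, τ (x : X ⧸ frattini X) = ((σ x : X) : X ⧸ frattini X) := fun x => rfl
  have hτn : ∀ (n : ℕ) (x : X),
      (τ ^ n) (x : X ⧸ frattini X) = (((σ ^ n) x : X) : X ⧸ frattini X) := by
    intro n x
    induction n with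
    | zero => rfl
    | succ n ih => rw [pow_succ', pow_succ', MulAut.mul_apply, MulAut.mul_apply, ih, hτv]
  -- `σ - 1` squares into `Φ`
  let T : X →* X :=
    { toFun := fun x => x⁻¹ * σ x
      map_one' := by simp
      map_mul' := fun x y => by rw [map_mul, mul_inv, mul_mul_mul_comm] }
  have hTT : ∀ x : X, T (T x) ∈ frattini X := by
    intro x
    by_cases hτ1 : τ = 1
    · have h := hτv (T x)
      rw [hτ1, MulAut.one_apply] at h
      exact QuotientGroup.eq.1 h
    obtain ⟨a, b, ha, hb, -, hspan⟩ := unipotent_plane (t := 1) (fun x y => mul_comm x y)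
      (by rw [← Subgroup.index_eq_card]; exact h2) (CfsgLib.PGroups.frattini_quotient hX).2 τ
      (MulEquiv.ext fun q => by
        obtain ⟨q, rfl⟩ := QuotientGroup.mk_surjective q
        rw [hτn, pow_one, hσ]; rfl) hτ1
    have key : ∀ q : X ⧸ frattini X, τ (q⁻¹ * τ q) = q⁻¹ * τ q := fun q => by
      obtain ⟨i, j, rfl⟩ := hspan q
      have e : (a ^ i * b ^ j)⁻¹ * τ (a ^ i * b ^ j) = b ^ i := by
        rw [map_mul, map_pow, map_pow, ha, hb, mul_pow, mul_assoc (a ^ i), mul_comm (b ^ i),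
          ← mul_assoc (a ^ i), inv_mul_cancel_left]
      rw [e, map_pow, hb]
    have h := key x
    rw [hτv, ← QuotientGroup.mk_inv, ← QuotientGroup.mk_mul, hτv] at h
    exact QuotientGroup.eq.1 h.symm
  -- iterates
  let A : AddMonoid.End (Additive X) := MonoidHom.toAdditive σ.toMonoidHom
  let N : AddMonoid.End (Additive X) := MonoidHom.toAdditive T
  have hN2 : ∀ x : Additive X, ∃ y : Additive X, N (N x) = p • y := fun x => by
    obtain ⟨y, hy⟩ := hΦ _ (hTT x.toMul)
    exact ⟨Additive.ofMul y, congrArg Additive.ofMul hy.symm⟩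
  have hA : A = N + 1 := AddMonoidHom.ext fun x => by
    show Additive.ofMul (σ x.toMul) = Additive.ofMul (x.toMul⁻¹ * σ x.toMul) + x
    show Additive.ofMul (σ x.toMul) = Additive.ofMul ((x.toMul⁻¹ * σ x.toMul) * x.toMul)
    rw [mul_comm, mul_inv_cancel_left]
  have hAn : ∀ (n : ℕ) (x : Additive X), (A ^ n) x = Additive.ofMul ((σ ^ n) x.toMul) := by
    intro n x
    induction n with
    | zero => rfl
    | succ n ih => rw [pow_succ', pow_succ']; show A ((A ^ n) x) = _; rw [ih]; rfl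
  intro r
  set x : Additive X := Additive.ofMul r with hx
  have hsum : ((N + 1) ^ p) x = x := by rw [← hA, hAn, hσ]; rfl
  have hexpand : (N + 1) ^ p = ∑ m ∈ Finset.range (p + 1), p.choose m • N ^ m := by
    rw [(Commute.one_right N).add_pow]
    refine Finset.sum_congr rfl fun m _ => ?_
    rw [one_pow, mul_one, nsmul_eq_mul, Nat.cast_comm]
  let ev : AddMonoid.End (Additive X) →+ Additive X :=
    AddMonoidHom.mk' (fun f => f x) fun _ _ => rfl
  have hev : ev ((N + 1) ^ p) = ∑ m ∈ Finset.range (p + 1), p.choose m • ev (N ^ m) := by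
    rw [hexpand, map_sum]
    exact Finset.sum_congr rfl fun m _ => map_nsmul ev _ _
  have hterm : ∀ m, 2 ≤ m → m ≤ p → ∃ w : Additive X, p.choose m • ev (N ^ m) = (p * p) • w := by
    intro m hm hmp
    have hs : ∀ j (z : Additive X), (N ^ (j + 2)) z = N (N ((N ^ j) z)) := fun j z => by
      rw [add_comm, pow_add, pow_two]; rfl
    obtain ⟨j, rfl⟩ : ∃ j, m = j + 2 := ⟨m - 2, by omega⟩
    obtain ⟨y, hy⟩ := hN2 ((N ^ j) x)
    have hev' : ev (N ^ (j + 2)) = p • y := by
      show (N ^ (j + 2)) x = _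
      rw [hs, hy]
    rcases lt_or_eq_of_le hmp with hlt | rfl
    · obtain ⟨c, hc⟩ := hp.dvd_choose_self (by omega) hlt
      exact ⟨c • y, by rw [hev', hc, smul_smul, smul_smul]; congr 1; ring⟩
    · obtain ⟨i, rfl⟩ : ∃ i, j = i + 2 := ⟨j - 2, by omega⟩
      obtain ⟨y', hy'⟩ := hN2 ((N ^ i) x)
      obtain ⟨w, hw⟩ := hN2 y'
      refine ⟨w, ?_⟩
      rw [Nat.choose_self, one_smul]
      show (N ^ (i + 2 + 2)) x = _
      rw [hs, hs, hy', map_nsmul, map_nsmul, hw, smul_smul]
  obtain ⟨w, hw⟩ : ∃ w : Additive X, ∑ m ∈ Finset.Ico 2 (p + 1), p.choose m • ev (N ^ m) =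
      (p * p) • w := by
    refine Finset.sum_induction _ (fun z => ∃ w : Additive X, z = (p * p) • w) ?_ ⟨0, by simp⟩
      fun m hm => hterm m (Finset.mem_Ico.1 hm).1 (by have := (Finset.mem_Ico.1 hm).2; omega)
    rintro _ _ ⟨w, rfl⟩ ⟨w', rfl⟩
    exact ⟨w + w', (smul_add _ _ _).symm⟩
  rw [← Finset.sum_range_add_sum_Ico _ (show 2 ≤ p + 1 by omega), hw, Finset.sum_range_succ,
    Finset.sum_range_one, Nat.choose_zero_right, Nat.choose_one_right, pow_zero, pow_one,
    one_smul, show ev ((N + 1) ^ p) = x from hsum, show ev 1 = x from rfl, add_assoc,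
    left_eq_add, show ev N = N x from rfl] at hev
  -- back to `X`
  have hmul : T r ^ p * Additive.toMul w ^ (p * p) = 1 := congrArg Additive.toMul hev
  obtain ⟨y, hy⟩ := hker (T r * Additive.toMul w ^ p) (by
    rw [mul_pow, ← pow_mul, hmul])
  have hT : T r = (y * (Additive.toMul w)⁻¹) ^ p := by
    rw [mul_pow, inv_pow, ← hy, mul_inv_cancel_right]
  show σ r * r⁻¹ ∈ frattini X
  rw [mul_comm, show r⁻¹ * σ r = T r from rfl, hT]
  exact CfsgLib.PGroups.pow_mem_frattini hX _

end CfsgLib.Fusion
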