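import Cfsg.Agent.Lib.Fusion.Basic
import Cfsg.Agent.Lib.Fusion.SylowIn

/-!
Fully normalized, fully centralized, fully automized and receptive subgroups in a saturated system.
-/

set_option autoImplicit false

namespace CfsgLib.Fusion

open Cfsg Cfsg.FusionSystem

variable {Ω : Type*} [Group Ω] {S : Subgroup Ω} {F : FusionSystem S} {p : ℕ}

theorem finite_mulAut_of_le [Finite S] {P : Subgroup Ω} (hP : P ≤ S) : Finite (MulAut P) := by
  have := finite_le hP
  exact Finite.of_injective (fun e : MulAut P => (e : P ≃* P).toEquiv)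
    fun a b h => MulEquiv.ext fun x => Equiv.congr_fun h x

theorem isPGroup_autInducedBy {K P : Subgroup Ω} (hK : IsPGroup p K) :
    IsPGroup p (autInducedBy K P) := by
  rw [autInducedBy_eq_map]
  exact IsPGroup.map ((hK.to_le (inf_le_left : K ⊓ Subgroup.normalizer (P : Set Ω) ≤ K)).of_equiv
    (Subgroup.subgroupOfEquivOfLe inf_le_right).symm |>.to_le
      (by rw [Subgroup.inf_subgroupOf_right])) _

/-- A receptive subgroup extends every isomorphism onto it as far as the extender. -/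
theorem exists_extension {P Q R : Subgroup Ω} {e : P ≃* Q} (hQ : F.IsReceptive Q)
    (he : IsoIn F e) (hPR : P ≤ R) (hR : R ≤ extender S P (isoHom e)) :
    ∃ ψ ∈ F.Hom R, ∀ x : P, ψ (Subgroup.inclusion hPR x) = e x := by
  obtain ⟨ψ, hψ, hag⟩ := hQ.2 P (isoHom e) he.mem (isoHom_range e)
  exact ⟨ψ.comp (Subgroup.inclusion hR), restrict_mem hψ hR,
    fun x => hag x x.2 (hR (hPR x.2))⟩

theorem sup_le_extender {P Q : Subgroup Ω} {e : P ≃* Q} (he : IsoIn F e) :
    P ⊔ centralizerIn S P ≤ extender S P (isoHom e) :=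
  sup_le (le_extender he.le_left fun x => hom_apply_mem he.mem x) centralizerIn_le_extender

/-- An extension of an isomorphism onto `Q` maps normalizing elements to normalizing elements. -/
theorem extension_mem_normalizerIn {P Q R : Subgroup Ω} {e : P ≃* Q} {ψ : R →* Ω}
    (hψ : ψ ∈ F.Hom R) (hPR : P ≤ R) (hR : R ≤ Subgroup.normalizer (P : Set Ω))
    (hag : ∀ x : P, ψ (Subgroup.inclusion hPR x) = e x) (g : R) :
    ψ g ∈ normalizerIn S Q := by
  have hP : (P.subgroupOf R).map ψ = Q := by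
    ext y
    constructor
    · rintro ⟨x, hx, rfl⟩
      have := hag ⟨x, hx⟩
      rw [show Subgroup.inclusion hPR ⟨x, hx⟩ = x from Subtype.ext rfl] at this
      rw [this]
      exact (e _).2
    · intro hy
      exact ⟨Subgroup.inclusion hPR (e.symm ⟨y, hy⟩), (e.symm ⟨y, hy⟩).2,
        by rw [hag]; simp⟩
  refine ⟨hom_apply_mem hψ g, ?_⟩
  have : ψ.range ≤ Subgroup.normalizer (Q : Set Ω) := by
    rw [Subgroup.le_normalizer_iff]
    rintro _ ⟨a, rfl⟩ y hy
    rw [← hP] at hy ⊢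
    obtain ⟨x, hx, rfl⟩ := hy
    exact ⟨a * x * a⁻¹, Subgroup.mem_subgroupOf.2 (by
      have := conj_mem_of_mem_normalizer (hR a.2) (Subgroup.mem_subgroupOf.1 hx)
      simpa using this), by simp⟩
  exact this ⟨g, rfl⟩

theorem extension_mem_centralizerIn {P Q R : Subgroup Ω} {e : P ≃* Q} {ψ : R →* Ω}
    (hψ : ψ ∈ F.Hom R) (hPR : P ≤ R) (hag : ∀ x : P, ψ (Subgroup.inclusion hPR x) = e x) (g : R)
    (hg : (g : Ω) ∈ centralizerIn S P) : ψ g ∈ centralizerIn S Q := by
  refine mem_centralizerIn.2 ⟨hom_apply_mem hψ g, fun y hy => ?_⟩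
  have h1 := hag (e.symm ⟨y, hy⟩)
  simp only [MulEquiv.apply_symm_apply] at h1
  rw [← h1, ← map_mul, ← map_mul]
  congr 1
  exact Subtype.ext ((mem_centralizerIn.1 hg).2 _ (e.symm ⟨y, hy⟩).2)

theorem receptive_fullyCentralized [Finite S] {P : Subgroup Ω} (hP : F.IsReceptive P) :
    F.IsFullyCentralized P := by
  refine ⟨hP.1, fun Q hQ => ?_⟩
  obtain ⟨e, he⟩ := isConj_iff.1 (isConj_symm hQ)
  obtain ⟨ψ, hψ, hag⟩ := exists_extension hP he le_sup_left (sup_le_extender he)
  have := finite_le (centralizerIn_le (S := S) P)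
  refine Nat.card_le_card_of_injective
    (fun x : centralizerIn S Q =>
      (⟨ψ ⟨x, le_sup_right (a := Q) x.2⟩, extension_mem_centralizerIn hψ le_sup_left hag _ x.2⟩ :
        centralizerIn S P)) fun a b h => ?_
  have h' := F.injective_of_mem hψ (congrArg Subtype.val h)
  exact Subtype.ext (congrArg Subtype.val h' :)

/-- Every map onto a fully automized receptive subgroup can be corrected to one defined on the
whole normalizer of its source. -/
theorem exists_normalizer_map [Finite S] [Fact p.Prime] (hS : IsPGroup p S) {P Q : Subgroup Ω}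
    (h₁ : F.IsFullyAutomized p P) (h₂ : F.IsReceptive P) (hQ : F.IsConj Q P) :
    ∃ φ ∈ F.Hom (normalizerIn S Q), (∀ x, φ x ∈ normalizerIn S P) ∧
      img φ Q = P := by
  obtain ⟨e, he⟩ := isConj_iff.1 hQ
  have := finite_mulAut_of_le (S := S) h₁.1
  set B := (autInducedBy S Q).map (MulAut.congr e).toMonoidHom with hBdef
  have hB : B ≤ F.autGroup P := by
    rw [hBdef, ← he.congr_autGroup]
    exact Subgroup.map_mono (autInducedBy_le_autGroup he.le_left)
  have hBp : IsPGroup p B := (isPGroup_autInducedBy hS).map _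
  obtain ⟨a, ha, hconj⟩ := IsSylowIn.exists_conj_mem h₁.2 hB hBp
  have hf : IsoIn F (e.trans (a : P ≃* P)) := he.trans ((mem_autGroup_iff_isoIn h₁.1).1 ha)
  set f : Q ≃* P := e.trans (a : P ≃* P) with hfdef
  have hN : normalizerIn S Q ≤ extender S Q (isoHom f) := by
    intro g hg
    refine mem_extender_iff.2 ⟨hg.1, hg.2, ?_⟩
    set c : MulAut Q := Q.normalizerMonoidHom ⟨g, hg.2⟩ with hc
    have hcB : MulAut.congr e c ∈ B :=
      ⟨c, mem_autInducedBy_iff.2 ⟨g, hg.1, fun x => rfl⟩, rfl⟩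
    obtain ⟨h, hh, hh'⟩ := mem_autInducedBy_iff.1 (hconj _ hcB)
    refine ⟨h, hh, fun x hx => ?_⟩
    have h3 := hh' (f x)
    have : (⟨g * x * g⁻¹, hx⟩ : Q) = c x := Subtype.ext rfl
    rw [this, isoHom_apply, isoHom_apply, ← h3]
    simp [hfdef, MulAut.congr]
  obtain ⟨ψ, hψ, hag⟩ := exists_extension h₂ hf (le_normalizerIn he.le_left) hN
  refine ⟨ψ, hψ, fun x => extension_mem_normalizerIn hψ _ inf_le_right hag x, ?_⟩
  ext y
  constructor
  · rintro ⟨x, hx, rfl⟩
    have := hag ⟨x, hx⟩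
    rw [show Subgroup.inclusion _ ⟨(x : Ω), hx⟩ = x from Subtype.ext rfl] at this
    rw [this]
    exact (f _).2
  · intro hy
    exact ⟨_, (f.symm ⟨y, hy⟩).2, (hag _).trans (congrArg Subtype.val (f.apply_symm_apply ⟨y, hy⟩))⟩

theorem normalizer_map_centralizer {P Q : Subgroup Ω} {φ : normalizerIn S Q →* Ω}
    (hφ : φ ∈ F.Hom (normalizerIn S Q)) (himg : img φ Q = P) (x : normalizerIn S Q)
    (hx : (x : Ω) ∈ centralizerIn S Q) : φ x ∈ centralizerIn S P := by
  refine mem_centralizerIn.2 ⟨hom_apply_mem hφ x, fun y hy => ?_⟩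
  rw [← himg] at hy
  obtain ⟨q, hq, rfl⟩ := mem_img.1 hy
  rw [← map_mul, ← map_mul]
  congr 1
  exact Subtype.ext ((mem_centralizerIn.1 hx).2 _ hq)

theorem card_normalizerIn_le_of_map [Finite S] {P Q : Subgroup Ω} {φ : normalizerIn S Q →* Ω}
    (hφ : φ ∈ F.Hom (normalizerIn S Q)) (hmem : ∀ x, φ x ∈ normalizerIn S P) :
    Nat.card (normalizerIn S Q) ≤ Nat.card (normalizerIn S P) := by
  have := finite_le (normalizerIn_le (S := S) P)
  exact Nat.card_le_card_of_injective (φ.codRestrict _ hmem) fun a b h =>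
    F.injective_of_mem hφ (congrArg Subtype.val h)

theorem card_centralizerIn_le_of_map [Finite S] {P Q : Subgroup Ω} {φ : normalizerIn S Q →* Ω}
    (hφ : φ ∈ F.Hom (normalizerIn S Q)) (himg : img φ Q = P) :
    Nat.card (centralizerIn S Q) ≤ Nat.card (centralizerIn S P) := by
  have := finite_le (centralizerIn_le (S := S) P)
  refine Nat.card_le_card_of_injective
    (fun x : centralizerIn S Q =>
      (⟨φ ⟨x, centralizerIn_le_normalizerIn Q x.2⟩, normalizer_map_centralizer hφ himg _ x.2⟩ :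
        centralizerIn S P)) fun a b h => ?_
  have h' := F.injective_of_mem hφ (congrArg Subtype.val h)
  exact Subtype.ext (congrArg Subtype.val h' :)

theorem exists_fullyNormalized [Finite S] {P : Subgroup Ω} (hP : P ≤ S) :
    ∃ Q, F.IsConj P Q ∧ F.IsFullyNormalized Q := by
  let s : Set (Subgroup Ω) := {Q | F.IsConj P Q}
  have hfin : s.Finite := by
    refine Set.Finite.subset (Set.finite_range fun T : Subgroup S => T.map S.subtype) fun Q hQ => ?_
    exact ⟨Q.subgroupOf S, Subgroup.map_subgroupOf_eq_of_le (isConj_le_right hQ)⟩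
  obtain ⟨Q, hQ, hmax⟩ :=
    hfin.exists_maximalFor (fun R => Nat.card (normalizerIn S R)) s ⟨P, isConj_refl hP⟩
  refine ⟨Q, hQ, isConj_le_right hQ, fun R hR => ?_⟩
  by_contra hlt
  exact hlt (hmax (isConj_trans hQ hR) (le_of_lt (not_le.1 hlt)))

/-- In a saturated system a fully automized receptive subgroup of each class is fully normalized,
and its normalizer receives the normalizer of every conjugate. -/
theorem IsSaturated.exists_rep [Finite S] [Fact p.Prime] (hS : IsPGroup p S)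
    (hF : F.IsSaturated p) {Q : Subgroup Ω} (hQ : Q ≤ S) :
    ∃ P, F.IsConj Q P ∧ F.IsFullyAutomized p P ∧ F.IsReceptive P ∧ F.IsFullyNormalized P := by
  obtain ⟨P, hQP, h₁, h₂⟩ := hF Q hQ
  refine ⟨P, hQP, h₁, h₂, h₁.1, fun R hR => ?_⟩
  obtain ⟨φ, hφ, hmem, -⟩ := exists_normalizer_map hS h₁ h₂ (isConj_symm hR)
  exact card_normalizerIn_le_of_map hφ hmem

theorem isFullyAutomized_iff [Finite S] [Fact p.Prime] {P : Subgroup Ω} (hP : P ≤ S) :
    F.IsFullyAutomized p P ↔
      Nat.card (autInducedBy S P) = p ^ (Nat.card (F.autGroup P)).factorization p := by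
  have := finite_mulAut_of_le (S := S) hP
  rw [← isSylowIn_iff_card (autInducedBy_le_autGroup hP)]
  exact and_iff_right hP

theorem IsSaturated.fullyNormalized_all [Finite S] [Fact p.Prime] (hS : IsPGroup p S)
    (hF : F.IsSaturated p) {Q : Subgroup Ω} (hQ : F.IsFullyNormalized Q) :
    F.IsFullyCentralized Q ∧ F.IsFullyAutomized p Q := by
  obtain ⟨P, hQP, h₁, h₂, hPn⟩ := IsSaturated.exists_rep hS hF hQ.1
  obtain ⟨φ, hφ, hmem, himg⟩ := exists_normalizer_map hS h₁ h₂ hQP
  have hN : Nat.card (normalizerIn S Q) = Nat.card (normalizerIn S P) :=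
    le_antisymm (card_normalizerIn_le_of_map hφ hmem) (hQ.2 P hQP)
  have hC : Nat.card (centralizerIn S Q) ≤ Nat.card (centralizerIn S P) :=
    card_centralizerIn_le_of_map hφ himg
  have := finite_mulAut_of_le (S := S) hQ.1
  have := finite_le (centralizerIn_le (S := S) Q)
  have hA : Nat.card (autInducedBy S Q) ≤ Nat.card (autInducedBy S P) := by
    rw [(isFullyAutomized_iff h₁.1).1 h₁, ← card_autGroup_congr hQP]
    exact Nat.le_of_dvd (pow_pos (Fact.out : p.Prime).pos _)
      (card_le_sylowPart (autInducedBy_le_autGroup hQ.1) (isPGroup_autInducedBy hS))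
  rw [card_normalizerIn, card_normalizerIn] at hN
  have hposA : 0 < Nat.card (autInducedBy S Q) := Nat.card_pos
  have hposC : 0 < Nat.card (centralizerIn S Q) := Nat.card_pos
  have hC' : Nat.card (centralizerIn S Q) = Nat.card (centralizerIn S P) := by
    refine le_antisymm hC (Nat.le_of_not_lt fun hlt => ?_)
    nlinarith
  have hA' : Nat.card (autInducedBy S Q) = Nat.card (autInducedBy S P) :=
    mul_right_cancel₀ hposC.ne' (hN.trans (by rw [hC']))
  constructor
  · refine ⟨hQ.1, fun R hR => ?_⟩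
    rw [hC']
    exact (receptive_fullyCentralized h₂).2 R (isConj_trans (isConj_symm hQP) hR)
  · rw [isFullyAutomized_iff hQ.1, hA', card_autGroup_congr hQP]
    exact (isFullyAutomized_iff h₁.1).1 h₁

theorem IsSaturated.fullyAutomized [Finite S] [Fact p.Prime] (hS : IsPGroup p S)
    (hF : F.IsSaturated p) {Q : Subgroup Ω} (hQ : F.IsFullyNormalized Q) :
    F.IsFullyAutomized p Q := (IsSaturated.fullyNormalized_all hS hF hQ).2

theorem IsSaturated.fullyCentralized [Finite S] [Fact p.Prime] (hS : IsPGroup p S)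
    (hF : F.IsSaturated p) {Q : Subgroup Ω} (hQ : F.IsFullyNormalized Q) :
    F.IsFullyCentralized Q := (IsSaturated.fullyNormalized_all hS hF hQ).1

theorem IsSaturated.receptive [Finite S] [Fact p.Prime] (hS : IsPGroup p S)
    (hF : F.IsSaturated p) {Q : Subgroup Ω} (hQ : F.IsFullyCentralized Q) :
    F.IsReceptive Q := by
  obtain ⟨P, hQP, h₁, h₂, -⟩ := IsSaturated.exists_rep hS hF hQ.1
  obtain ⟨φ, hφ, hmem, himg⟩ := exists_normalizer_map hS h₁ h₂ hQP
  refine ⟨hQ.1, fun R χ hχ hRQ => ?_⟩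
  obtain ⟨d, hd, hdval⟩ := exists_iso hχ hRQ
  have hQN : Q ≤ normalizerIn S Q := le_normalizerIn hQ.1
  obtain ⟨f, hf, hfval⟩ := exists_iso (P := Q) (Q := P) (restrict_mem hφ hQN)
    (by rw [range_restrict, himg])
  set N := extender S R χ with hNdef
  have hRN : R ≤ N := le_extender hd.le_left fun x => hom_apply_mem hχ x
  -- The elements inducing the transported actions normalize `Q`.
  have hh : ∀ g ∈ N, ∃ h, ∃ hhN : h ∈ normalizerIn S Q,
      ∀ (x : R) (hx : g * (x : Ω) * g⁻¹ ∈ R), χ ⟨g * x * g⁻¹, hx⟩ = h * χ x * h⁻¹ := by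
    intro g hg
    obtain ⟨-, hgN, h, hhS, hgh⟩ := mem_extender_iff.1 hg
    refine ⟨h, ⟨hhS, ?_⟩, hgh⟩
    let c : MulAut R := R.normalizerMonoidHom ⟨g, hgN⟩
    refine mem_normalizer_of_conj_eq (MulAut.congr d c) fun y => ?_
    have h1 := hgh (d.symm y) (conj_mem_of_mem_normalizer hgN (d.symm y).2)
    rw [← hdval, ← hdval] at h1
    simp only [MulEquiv.apply_symm_apply] at h1
    rw [← h1]
    rfl
  have hN : N ≤ extender S R (isoHom (d.trans f)) := by
    intro g hg
    obtain ⟨h, hhN, hgh⟩ := hh g hg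
    refine mem_extender_iff.2 ⟨(mem_extender_iff.1 hg).1, (mem_extender_iff.1 hg).2.1,
      φ ⟨h, hhN⟩, (hmem _).1, fun x hx => ?_⟩
    have h1 : ∀ z : R, isoHom (d.trans f) z = φ (Subgroup.inclusion hQN (d z)) :=
      fun z => hfval (d z)
    rw [h1, h1, ← map_inv φ, ← map_mul φ, ← map_mul φ]
    congr 1
    apply Subtype.ext
    show (d _ : Ω) = h * (d x : Ω) * h⁻¹
    rw [hdval, hdval, hgh x hx]
  obtain ⟨ψ, hψ, hag⟩ := exists_extension h₂ (hd.trans hf) hRN hN
  -- `φ` carries `C_S(Q)` onto `C_S(P)`.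
  have hsurj : ∀ y ∈ centralizerIn S P, ∃ z : normalizerIn S Q, φ z = y := by
    have := finite_le (centralizerIn_le (S := S) P)
    have := finite_le (centralizerIn_le (S := S) Q)
    let m : centralizerIn S Q → centralizerIn S P := fun x =>
      ⟨φ ⟨x, centralizerIn_le_normalizerIn Q x.2⟩, normalizer_map_centralizer hφ himg _ x.2⟩
    have hm : Function.Injective m := fun a b h =>
      Subtype.ext (congrArg Subtype.val (F.injective_of_mem hφ (congrArg Subtype.val h)) :)
    have hb : Function.Bijective m := (Nat.bijective_iff_injective_and_card m).2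
      ⟨hm, le_antisymm (card_centralizerIn_le_of_map hφ himg) (hQ.2 P hQP)⟩
    intro y hy
    obtain ⟨x, hx⟩ := hb.2 ⟨y, hy⟩
    exact ⟨⟨x, centralizerIn_le_normalizerIn Q x.2⟩, congrArg Subtype.val hx⟩
  have hψmem : ∀ g : N, ψ g ∈ φ.range := by
    intro g
    obtain ⟨h, hhN, hgh⟩ := hh g g.2
    have hc : (φ ⟨h, hhN⟩)⁻¹ * ψ g ∈ centralizerIn S P := by
      refine mem_centralizerIn.2 ⟨S.mul_mem (S.inv_mem (hmem _).1) (hom_apply_mem hψ g), ?_⟩
      intro y hy
      set x : R := (d.trans f).symm ⟨y, hy⟩ with hxdef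
      have hxy : ((d.trans f) x : Ω) = y := by simp [hxdef]
      have hgR := conj_mem_of_mem_normalizer (mem_extender_iff.1 g.2).2.1 x.2
      have e1 : ψ g * y * (ψ g)⁻¹ = φ ⟨h, hhN⟩ * y * (φ ⟨h, hhN⟩)⁻¹ := by
        rw [← hxy]
        have a1 := hag ⟨(g : Ω) * x * (g : Ω)⁻¹, hgR⟩
        have a2 : Subgroup.inclusion hRN ⟨(g : Ω) * x * (g : Ω)⁻¹, hgR⟩ =
            g * Subgroup.inclusion hRN x * g⁻¹ := Subtype.ext rfl
        rw [a2, map_mul, map_mul, map_inv, hag] at a1
        rw [a1]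
        simp only [MulEquiv.trans_apply]
        rw [hfval, hfval]
        simp only [MonoidHom.comp_apply]
        rw [← map_inv φ, ← map_mul φ, ← map_mul φ]
        congr 1
        apply Subtype.ext
        show (d _ : Ω) = h * (d x : Ω) * h⁻¹
        rw [hdval, hdval, hgh x hgR]
      generalize ψ g = u at e1
      generalize φ ⟨h, hhN⟩ = v at e1
      have e2 : u * y = v * y * v⁻¹ * u := by rw [← e1]; group
      calc y * (v⁻¹ * u) = v⁻¹ * (v * y * v⁻¹ * u) := by group
        _ = v⁻¹ * (u * y) := by rw [e2]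
        _ = v⁻¹ * u * y := by group
    obtain ⟨z, hz⟩ := hsurj _ hc
    exact ⟨⟨h, hhN⟩ * z, by rw [map_mul, hz, mul_inv_cancel_left]⟩
  obtain ⟨φi, hφi, -, hleft, -⟩ := exists_inv hφ rfl
  refine ⟨φi.comp (ψ.codRestrict φ.range hψmem), F.comp_mem hψ hφi hψmem, fun x hx hxN => ?_⟩
  have h1 := hag ⟨x, hx⟩
  have h2 : Subgroup.inclusion hRN ⟨x, hx⟩ = ⟨x, hxN⟩ := rfl
  rw [h2] at h1
  have h3 : ((d.trans f) ⟨x, hx⟩ : Ω) = φ (Subgroup.inclusion hQN (d ⟨x, hx⟩)) := hfval _
  calc φi.comp (ψ.codRestrict φ.range hψmem) ⟨x, hxN⟩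
      = φi ⟨φ (Subgroup.inclusion hQN (d ⟨x, hx⟩)), ⟨_, rfl⟩⟩ :=
        congrArg φi (Subtype.ext (h1.trans h3))
    _ = χ ⟨x, hx⟩ := (hleft _ _).trans (hdval ⟨x, hx⟩)

theorem saturated_of_fullyNormalized [Finite S]
    (h : ∀ P : Subgroup Ω, F.IsFullyNormalized P → F.IsFullyAutomized p P ∧ F.IsReceptive P) :
    F.IsSaturated p := by
  intro P hP
  obtain ⟨Q, hPQ, hQ⟩ := exists_fullyNormalized (F := F) hP
  exact ⟨Q, hPQ, h Q hQ⟩

end CfsgLib.Fusion
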