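import Cfsg.Agent.Lib.Fusion.Transport
import Cfsg.Agent.Lib.Fusion.Series
import Cfsg.Agent.Lib.Core.Cores

/-!
# Models
-/

set_option autoImplicit false

namespace CfsgLib.Fusion

open Cfsg Cfsg.FusionSystem

variable {Ω : Type*} [Group Ω] {S : Subgroup Ω} {F : FusionSystem S} {p : ℕ}
variable {G : Type*} [Group G] {ι : S →* G}

/-- `O_p(G)` pulled back to `S`. -/
def coreBack (p : ℕ) (ι : S →* G) : Subgroup Ω := ((pCore p G).comap ι).map S.subtype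

theorem model_pCore_le [Fact p.Prime] (hG : F.IsModel p G ι) : pCore p G ≤ ι.range := by
  obtain ⟨-, -, ⟨T, hT⟩, -⟩ := hG
  exact hT ▸ Core.pCore_le_sylow T

theorem mem_coreBack {s : S} : (s : Ω) ∈ coreBack p ι ↔ ι s ∈ pCore p G :=
  ⟨fun ⟨t, ht, hts⟩ => Subtype.ext hts ▸ ht, fun h => ⟨s, h, rfl⟩⟩

theorem model_isNormal_coreBack [Fact p.Prime] (hG : F.IsModel p G ι) :
    F.IsNormal (coreBack p ι) := by
  have hcore := model_pCore_le hG
  obtain ⟨hfin, ⟨hinj, hiff⟩, -, -⟩ := hG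
  set Q := coreBack p ι with hQ
  have hQS : Q ≤ S := Subgroup.map_subtype_le _
  refine ⟨hQS, fun P φ hφ => ?_⟩
  have hPS := hom_le hφ
  obtain ⟨g, hg⟩ := (hiff P hPS φ (hom_apply_mem hφ)).1 hφ
  have hPQ : P ⊔ Q ≤ S := sup_le hPS hQS
  have hmem : ∀ z : ↥(P ⊔ Q), g * ι ⟨z, hPQ z.2⟩ * g⁻¹ ∈ ι.range := by
    intro z
    have hle : P ⊔ Q ≤ ((ι.range.comap (MulAut.conj g).toMonoidHom).comap ι).map S.subtype := by
      refine sup_le (fun x hx => ⟨⟨x, hPS hx⟩, ?_, rfl⟩) fun x hx => ⟨⟨x, hQS hx⟩, ?_, rfl⟩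
      · show g * ι ⟨x, hPS hx⟩ * g⁻¹ ∈ ι.range
        rw [← hg ⟨x, hx⟩]
        exact ⟨_, rfl⟩
      · show g * ι ⟨x, hQS hx⟩ * g⁻¹ ∈ ι.range
        exact hcore ((inferInstance : (pCore p G).Normal).conj_mem _ ((mem_coreBack (s := ⟨x, hQS hx⟩)).1 hx) g)
    obtain ⟨s, hs, hsz⟩ := hle z.2
    obtain rfl : s = ⟨z, hPQ z.2⟩ := Subtype.ext hsz
    exact hs
  let e := MonoidHom.ofInjective hinj
  let ψ : ↥(P ⊔ Q) →* Ω := S.subtype.comp (e.symm.toMonoidHom.comp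
    (((MulAut.conj g).toMonoidHom.comp (ι.comp (Subgroup.inclusion hPQ))).codRestrict ι.range hmem))
  have hψS : ∀ z, ψ z ∈ S := fun z => (e.symm _).2
  have hψv : ∀ z, ι ⟨ψ z, hψS z⟩ = g * ι ⟨z, hPQ z.2⟩ * g⁻¹ := fun z =>
    MonoidHom.apply_ofInjective_symm hinj ⟨_, hmem z⟩
  refine ⟨ψ, (hiff _ hPQ ψ hψS).2 ⟨g, hψv⟩, fun x => ?_, ?_⟩
  · exact congrArg Subtype.val (hinj ((hψv _).trans (hg x).symm) :
      (⟨ψ (Subgroup.inclusion le_sup_left x), hψS _⟩ : S) = ⟨φ x, hom_apply_mem hφ x⟩)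
  · ext y
    constructor
    · rintro ⟨z, hz, rfl⟩
      refine (mem_coreBack (s := ⟨ψ z, hψS z⟩)).2 ?_
      rw [hψv]
      exact (inferInstance : (pCore p G).Normal).conj_mem _
        ((mem_coreBack (s := (⟨(z : Ω), hPQ z.2⟩ : S))).1 hz) g
    · intro hy
      have h1 : g⁻¹ * ι ⟨y, hQS hy⟩ * g ∈ pCore p G := by
        simpa using (inferInstance : (pCore p G).Normal).conj_mem _
          ((mem_coreBack (s := ⟨y, hQS hy⟩)).1 hy) g⁻¹
      obtain ⟨t, ht⟩ := hcore h1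
      have htQ : (t : Ω) ∈ Q := mem_coreBack.2 (ht.symm ▸ h1)
      refine ⟨⟨t, Subgroup.mem_sup_right htQ⟩, htQ, ?_⟩
      refine congrArg Subtype.val (hinj ((hψv _).trans ?_) : (⟨ψ _, hψS _⟩ : S) = ⟨y, hQS hy⟩)
      show g * ι t * g⁻¹ = ι ⟨y, hQS hy⟩
      rw [ht]; group

theorem model_coreBack_centric [Fact p.Prime] (hG : F.IsModel p G ι) :
    F.IsCentric (coreBack p ι) := by
  have hn := model_isNormal_coreBack hG
  have hcore := model_pCore_le hG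
  refine ⟨hn.1, fun R hR => ?_⟩
  obtain ⟨φ, hφ, rfl⟩ := hR
  have hfin := hG.1
  have : Finite S := Finite.of_injective ι hG.2.1.1
  rw [(StronglyClosed.weaklyClosed (IsNormal.stronglyClosed hn)).2 φ hφ]
  intro c hc
  obtain ⟨hcS, hcc⟩ := mem_centralizerIn.1 hc
  refine (mem_coreBack (s := ⟨c, hcS⟩)).2 (hG.2.2.2 (Subgroup.mem_centralizer_iff.2 fun y hy => ?_))
  obtain ⟨t, rfl⟩ := hcore hy
  rw [← map_mul, ← map_mul]
  exact congrArg ι (Subtype.ext (hcc _ (mem_coreBack.2 hy)))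

theorem isConstrained_of_model [Fact p.Prime] (hG : F.IsModel p G ι) : F.IsConstrained p := by
  refine ⟨?_, _, model_isNormal_coreBack hG, model_coreBack_centric hG⟩
  obtain ⟨hfin, hreal, ⟨T, hT⟩, -⟩ := hG
  exact saturated_of_isRealizedBy hreal T hT

end CfsgLib.Fusion
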