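import Cfsg.Agent.Lib.Fusion.NormalSubgroup

/-!
Lifting fusion from quotient groups.
-/

set_option autoImplicit false

namespace CfsgLib.Fusion

open Cfsg Cfsg.FusionSystem
open scoped Pointwise

variable {G : Type*} [Group G] [Finite G] {p : ℕ} [Fact p.Prime]

/-- A `p`-subgroup of `S N` is moved into `S` by an element of the normal subgroup `N`. -/
theorem exists_conj_into_of_sup (S : Sylow p G) (N : Subgroup G) [N.Normal] {X : Subgroup G}
    (hX : X ≤ (S : Subgroup G) ⊔ N) (hXp : IsPGroup p X) :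
    ∃ n ∈ N, ∀ x ∈ X, n * x * n⁻¹ ∈ (S : Subgroup G) := by
  have hs : IsSylowIn p (S : Subgroup G) ((S : Subgroup G) ⊔ N) := ⟨S.subtype le_sup_left, rfl⟩
  obtain ⟨k, hk, hkX⟩ := hs.exists_conj_mem hX hXp
  have hk' : k ∈ ((S : Subgroup G) : Set G) * (N : Set G) := by
    rw [← Subgroup.coe_mul_of_left_le_normalizer_right _ N
      (by rw [Subgroup.normalizer_eq_top]; exact le_top)]
    exact hk
  obtain ⟨s, hs', n, hn, rfl⟩ := hk'
  refine ⟨n, hn, fun x hx => ?_⟩
  have := (S : Subgroup G).mul_mem ((S : Subgroup G).mul_mem ((S : Subgroup G).inv_mem hs')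
    (hkX x hx)) hs'
  simpa [mul_assoc] using this

/-- A map of the fusion system of `G ⧸ N` on the image of `S` lifts. -/
theorem exists_lift_fusion (S : Sylow p G) (N : Subgroup G) [N.Normal] {P : Subgroup G}
    (hP : P ≤ S) (γ : G ⧸ N)
    (hγ : ∀ x ∈ P, γ * QuotientGroup.mk x * γ⁻¹ ∈
      (S : Subgroup G).map (QuotientGroup.mk' N)) :
    ∃ g : G, ∀ x ∈ P, g * x * g⁻¹ ∈ S ∧
      (QuotientGroup.mk (g * x * g⁻¹) : G ⧸ N) = γ * QuotientGroup.mk x * γ⁻¹ := by
  obtain ⟨g, rfl⟩ := QuotientGroup.mk_surjective γ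
  have hX : conjOf g P ≤ (S : Subgroup G) ⊔ N := by
    rintro _ ⟨x, hx, rfl⟩
    obtain ⟨s, hs, hsx⟩ := hγ x hx
    have h1 : s⁻¹ * (g * x * g⁻¹) ∈ N := by
      rw [← QuotientGroup.eq_one_iff, QuotientGroup.mk_mul, QuotientGroup.mk_inv,
        QuotientGroup.mk_mul, QuotientGroup.mk_mul, QuotientGroup.mk_inv, ← hsx]
      exact inv_mul_cancel _
    have := Subgroup.mul_mem_sup hs h1
    simpa [mul_assoc] using this
  obtain ⟨n, hn, hnX⟩ := exists_conj_into_of_sup S N hX ((S.isPGroup'.to_le hP).map _)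
  refine ⟨n * g, fun x hx => ⟨?_, ?_⟩⟩
  · have := hnX _ (conj_mem_conjOf (g := g) hx)
    show _ ∈ (S : Subgroup G)
    simpa [mul_assoc] using this
  · simp only [QuotientGroup.mk_mul, QuotientGroup.mk_inv, (QuotientGroup.eq_one_iff n).2 hn,
      one_mul]

end CfsgLib.Fusion
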