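import Cfsg.Agent.Lib.Fusion.ModelTools
import Cfsg.Agent.Lib.Fusion.Quotient
import Cfsg.Agent.Lib.Fusion.Biset.ModelExists
import Cfsg.Agent.Lib.PLocal.PSolvable

/-!
Fusion systems of `p`-solvable groups.
-/

set_option autoImplicit false

namespace CfsgLib.Fusion

open Cfsg Cfsg.FusionSystem

universe u

variable {Ω : Type u} [Group Ω] {S : Subgroup Ω} {F : FusionSystem S} {p : ℕ}

/-- An extension of a `p`-solvable group by a `p`-group is `p`-solvable. -/
theorem isPSolvable_of_ker_pGroup [Fact p.Prime] {G K : Type*} [Group G] [Finite G] [Group K]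
    (f : G →* K) (hf : Function.Surjective f) (hker : IsPGroup p f.ker) (h : IsPSolvable p K) :
    IsPSolvable p G := by
  obtain ⟨n, H, h0, hn, hmono, hnorm, hfac⟩ := h
  refine ⟨n + 1, Fin.cons ⊥ (fun i => (H i).comap f), rfl, ?_, ?_, fun i => ?_, fun i => ?_⟩
  · rw [← Fin.succ_last, Fin.cons_succ, hn, Subgroup.comap_top]
  · refine Fin.monotone_iff_le_succ.2 fun i => ?_
    induction i using Fin.cases with
    | zero => simp
    | succ j =>
        rw [← Fin.succ_castSucc, Fin.cons_succ, Fin.cons_succ]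
        exact Subgroup.comap_mono (hmono (Fin.castSucc_le_succ j))
  · induction i using Fin.cases with
    | zero => simpa using (inferInstance : (⊥ : Subgroup G).Normal)
    | succ j => simpa using (hnorm j).comap f
  · induction i using Fin.cases with
    | zero =>
        left
        obtain ⟨m, hm⟩ := IsPGroup.iff_card.1 hker
        refine ⟨m, ?_⟩
        simp only [Fin.castSucc_zero, Fin.cons_zero, Fin.cons_succ, Subgroup.relIndex_bot_left,
          h0, MonoidHom.comap_bot]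
        exact hm
    | succ j =>
        rw [← Fin.succ_castSucc, Fin.cons_succ, Fin.cons_succ, Subgroup.relIndex_comap,
          Subgroup.map_comap_eq_self_of_surjective hf]
        exact hfac j

variable {G : Type u} [Group G] {ι : S →* G}

/-- A model maps onto the automorphism group of the core with a `p`-group as kernel, and the core
of the system is the pull-back of the core of the model. -/
theorem model_autCore [Fact p.Prime] [Finite S] (hG : F.IsModel p G ι) :
    ∃ π : G →* F.autGroup (coreBack p ι), Function.Surjective π ∧ IsPGroup p π.ker ∧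
      F.core = coreBack p ι := by
  have hQn := model_isNormal_coreBack hG
  have hcore := model_pCore_le hG
  set Q := coreBack p ι
  have hQS := hQn.1
  have hex : ∀ g : G, ∃ b : F.autGroup Q, ∀ z : Q,
      ι ⟨(((b : MulAut Q) z : Q) : Ω), hQS ((b : MulAut Q) z).2⟩ = g * ι ⟨z, hQS z.2⟩ * g⁻¹ :=
    fun g => by
      obtain ⟨b, hb, -, hv⟩ := model_exists_aut hG hQS (model_coreBack_conj hG g)
      exact ⟨⟨b, hb⟩, hv⟩
  choose πf hπ using hex
  obtain ⟨hfin, ⟨hinj, hiff⟩, ⟨T, hT⟩, hcent⟩ := id hG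
  have huniq : ∀ (g : G) (b : MulAut Q), (∀ z : Q,
      ι ⟨((b z : Q) : Ω), hQS (b z).2⟩ = g * ι ⟨z, hQS z.2⟩ * g⁻¹) → (πf g : MulAut Q) = b :=
    fun g b hb => MulEquiv.ext fun z => Subgroup.inclusion_injective hQS
      (hinj ((hπ g z).trans (hb z).symm))
  let π : G →* F.autGroup Q := MonoidHom.mk' πf fun a b => Subtype.ext (huniq _ _ fun z => by
    rw [Subgroup.coe_mul, MulAut.mul_apply, hπ a, hπ b]
    group)
  have hker : ∀ g : G, π g = 1 → g ∈ pCore p G := fun g hg =>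
    hcent (Subgroup.mem_centralizer_iff.2 fun y hy => by
      obtain ⟨s, rfl⟩ := hcore hy
      have h1 := hπ g ⟨s, mem_coreBack.2 hy⟩
      rw [show πf g = 1 from hg] at h1
      have h2 : ι s = g * ι s * g⁻¹ := by simpa using h1
      exact eq_mul_inv_iff_mul_eq.1 h2)
  refine ⟨π, fun a => ?_, (Core.isPGroup_pCore p G).to_le fun g hg => hker g hg,
    le_antisymm ?_ (le_core hQn)⟩
  · obtain ⟨g, hg⟩ := (hiff Q hQS _ fun z : Q => hQS ((a : MulAut Q) z).2).1
      ((mem_autGroup_iff hQS).1 a.2)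
    exact ⟨g, Subtype.ext (huniq g a hg)⟩
  have hRn : F.IsNormal F.core := core_isNormal
  set R := F.core
  have hRS : R ≤ S := hRn.1
  have hnormal : ((R.subgroupOf S).map ι).Normal := by
    refine ⟨?_⟩
    rintro _ ⟨r, hr, rfl⟩ g
    obtain ⟨ψ, hψ, hψQ, hψR⟩ := hRn.2 Q _ ((mem_autGroup_iff hQS).1 (π g).2)
    obtain ⟨g', hg'⟩ := (hiff _ (hom_le hψ) ψ (hom_apply_mem hψ)).1 hψ
    have hdiff : g⁻¹ * g' ∈ pCore p G := by
      refine hcent (Subgroup.mem_centralizer_iff.2 fun y hy => ?_)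
      obtain ⟨s, rfl⟩ := hcore hy
      set z : Q := ⟨s, mem_coreBack.2 hy⟩
      have h1 := hg' (Subgroup.inclusion le_sup_left z)
      rw [show (⟨ψ (Subgroup.inclusion le_sup_left z), hom_apply_mem hψ _⟩ : S) =
        ⟨(((πf g : MulAut Q) z : Q) : Ω), hQS ((πf g : MulAut Q) z).2⟩ from Subtype.ext (hψQ z),
        hπ g z] at h1
      replace h1 : g * ι s * g⁻¹ = g' * ι s * g'⁻¹ := h1
      calc ι s * (g⁻¹ * g') = g⁻¹ * (g * ι s * g⁻¹) * g' := by group
        _ = g⁻¹ * g' * ι s := by rw [h1]; group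
    obtain ⟨s, hs⟩ := hcore hdiff
    have hm : ((s⁻¹ * r * s : S) : Ω) ∈ R := by
      simpa using conj_mem_of_mem_normalizer (IsNormal.normal_in hRn (S.inv_mem s.2)) hr
    have h2 := hg' ⟨_, Subgroup.mem_sup_right hm⟩
    refine ⟨⟨ψ ⟨_, Subgroup.mem_sup_right hm⟩, hom_apply_mem hψ _⟩, hψR.le ⟨_, hm, rfl⟩, ?_⟩
    rw [h2]
    show g' * ι (s⁻¹ * r * s) * g'⁻¹ = g * ι r * g⁻¹
    rw [map_mul, map_mul, map_inv, hs]
    group
  have hle : (R.subgroupOf S).map ι ≤ pCore p G :=
    Core.le_pCore ((hT ▸ T.isPGroup').to_le (Subgroup.map_le_range _ _))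
  exact fun x hx => (mem_coreBack (s := ⟨x, hRS hx⟩)).2 (hle ⟨_, hx, rfl⟩)

/-- A system with a model is realized by a `p`-solvable group iff the automorphism group of its
core is `p`-solvable. -/
theorem exists_pSolvable_iff [Fact p.Prime] [Finite S] (hS : IsPGroup p S)
    (hF : F.IsSaturated p) :
    (∃ (G : Type u) (_ : Group G) (_ : Finite G) (ι : S →* G), Cfsg.IsPSolvable p G ∧
        F.IsRealizedBy ι ∧ ∃ T : Sylow p G, (T : Subgroup G) = ι.range) ↔
      (F.IsConstrained p ∧ Cfsg.IsPSolvable p ↥(F.autGroup F.core)) := by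
  constructor
  · rintro ⟨G, _, _, ι, hsol, ⟨hinj, hiff⟩, T, hT⟩
    set N := pPrimeCore p G with hN
    have hTN : ∀ t ∈ (T : Subgroup G), t ∈ N → t = 1 := fun t ht htN => by
      obtain ⟨k, hk⟩ := T.isPGroup' ⟨t, ht⟩
      have hk' : t ^ p ^ k = 1 := congrArg Subtype.val hk
      have h2 : orderOf (⟨t, htN⟩ : N) ∣ Nat.card N := orderOf_dvd_natCard _
      rw [Subgroup.orderOf_mk] at h2
      exact orderOf_eq_one_iff.1 (Nat.eq_one_of_dvd_coprimes
        ((Core.coprime_card_pPrimeCore p G).pow_right k) h2 (orderOf_dvd_of_pow_eq_one hk'))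
    set q := QuotientGroup.mk' N
    have hinjT : ∀ a b : S, q (ι a) = q (ι b) → a = b := fun a b hab => by
      refine inv_mul_eq_one.1 (hinj ?_)
      rw [map_one]
      refine hTN _ (hT ▸ ⟨_, rfl⟩) ((QuotientGroup.eq_one_iff _).1 ?_)
      show q (ι (a⁻¹ * b)) = 1
      rw [map_mul, map_inv, map_mul, map_inv, hab, inv_mul_cancel]
    have hreal : F.IsRealizedBy (q.comp ι) := by
      refine ⟨hinjT, fun P hP φ hφ => ⟨fun h => ?_, fun ⟨γ, hγ⟩ => ?_⟩⟩
      · obtain ⟨g, hg⟩ := (hiff P hP φ hφ).1 h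
        exact ⟨q g, fun x => by
          show q (ι ⟨φ x, hφ x⟩) = _
          rw [hg, map_mul, map_mul, map_inv]
          rfl⟩
      · have hX : (P.subgroupOf S).map ι ≤ (T : Subgroup G) := hT ▸ Subgroup.map_le_range _ _
        obtain ⟨g, hg⟩ := exists_lift_fusion T N hX γ (by
          rintro _ ⟨s, hs, rfl⟩
          exact ⟨ι ⟨φ ⟨s, hs⟩, hφ _⟩, hT ▸ ⟨_, rfl⟩, hγ ⟨s, hs⟩⟩)
        refine (hiff P hP φ hφ).2 ⟨g, fun x => ?_⟩
        obtain ⟨hmem, heq⟩ := hg (ι ⟨x, hP x.2⟩) ⟨⟨x, hP x.2⟩, x.2, rfl⟩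
        obtain ⟨t, ht⟩ := (hT ▸ hmem : g * ι ⟨x, hP x.2⟩ * g⁻¹ ∈ ι.range)
        rw [← ht, hinjT ⟨φ x, hφ x⟩ t]
        rw [ht]
        exact (hγ x).trans heq.symm
    have hq : Function.Surjective q := QuotientGroup.mk'_surjective N
    have hsol' : IsPSolvable p (G ⧸ N) := PLocal.isPSolvable_quotient hsol N
    have hmodel : F.IsModel p (G ⧸ N) (q.comp ι) :=
      ⟨inferInstance, hreal, ⟨T.mapSurjective hq, by
        rw [Sylow.coe_mapSurjective, hT, MonoidHom.range_comp]⟩,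
        PLocal.centralizer_pCore_le hsol' (Core.pPrimeCore_quotient_pPrimeCore p G)⟩
    obtain ⟨π, hπ, -, hcore⟩ := model_autCore hmodel
    exact ⟨isConstrained_of_model hmodel, hcore ▸ PLocal.isPSolvable_of_surjective π hπ hsol'⟩
  · rintro ⟨⟨-, Q, hQn, hQc⟩, hsol⟩
    obtain ⟨G, _, ι, hG⟩ := exists_model_of_normal_centric hS hF hQn hQc
    obtain ⟨π, hπ, hker, hcore⟩ := model_autCore hG
    have : Finite G := hG.1
    exact ⟨G, inferInstance, inferInstance, ι,
      isPSolvable_of_ker_pGroup π hπ hker (hcore ▸ hsol), hG.2.1, hG.2.2.1⟩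

end CfsgLib.Fusion
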