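import Cfsg.Agent.Lib.Fusion.RadicalCriterion
import Cfsg.Agent.Lib.Known.AutPSL.RootImage
import Cfsg.Agent.Lib.Known.Transvections
import Cfsg.Agent.Lib.PGroups.Basic
import Cfsg.Agent.Lib.Classical.SLGroup

/-!
# The fusion system of `PSL n` in the defining characteristic
-/

set_option autoImplicit false

open Matrix
open scoped BigOperators

namespace CfsgLib.Fusion.PSLn

open CfsgLib.Known.AutPSL (SL PSL proj upperUni mem_upperUni card_upperUni)
open Matrix.SpecialLinearGroup (transvection transvection_coe)

variable {n : ℕ} {F : Type*} [Field F] [Fintype F]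

theorem transvection_mem_upperUni {i j : Fin n} (hij : i < j) (c : F) :
    transvection hij.ne c ∈ upperUni n F := by
  rw [mem_upperUni, transvection_coe]
  constructor
  · intro a b hab
    rw [Matrix.add_apply, Matrix.one_apply_ne hab.ne', Matrix.single_apply, if_neg, add_zero]
    rintro ⟨rfl, rfl⟩
    exact lt_asymm hij hab
  · intro a
    rw [Matrix.add_apply, Matrix.one_apply_eq, Matrix.single_apply, if_neg, add_zero]
    rintro ⟨rfl, rfl⟩
    exact lt_irrefl _ hij

/-- The upper unitriangular group is generated by elementary transvections. -/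
theorem upperUni_le {H : Subgroup (SL n F)}
    (h : ∀ (i j : Fin n) (hij : i < j) (c : F), transvection hij.ne c ∈ H) :
    upperUni n F ≤ H := by
  classical
  intro u hu
  induction hN : (Finset.univ.filter fun q : Fin n × Fin n =>
      q.1 < q.2 ∧ (u : Matrix (Fin n) (Fin n) F) q.1 q.2 ≠ 0).card using Nat.strong_induction_on
    generalizing u with
  | _ m ih =>
    set s := Finset.univ.filter fun q : Fin n × Fin n =>
      q.1 < q.2 ∧ (u : Matrix (Fin n) (Fin n) F) q.1 q.2 ≠ 0 with hs
    rcases s.eq_empty_or_nonempty with he | hne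
    · have : u = 1 := Subtype.ext (by
        ext i j
        rcases lt_trichotomy i j with hij | rfl | hij
        · rw [Matrix.SpecialLinearGroup.coe_one, Matrix.one_apply_ne hij.ne]
          by_contra hc
          exact Finset.notMem_empty (i, j) (he ▸ Finset.mem_filter.2 ⟨Finset.mem_univ _, hij, hc⟩)
        · rw [Matrix.SpecialLinearGroup.coe_one, Matrix.one_apply_eq]; exact hu.2 i
        · rw [Matrix.SpecialLinearGroup.coe_one, Matrix.one_apply_ne hij.ne']; exact hu.1 i j hij)
      exact this ▸ H.one_mem
    · obtain ⟨⟨i, j⟩, hq, hmax⟩ := Finset.exists_max_image s (fun q => q.1) hne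
      obtain ⟨-, hij, hc⟩ := Finset.mem_filter.1 hq
      set c := (u : Matrix (Fin n) (Fin n) F) i j
      set u' := transvection hij.ne (-c) * u
      have hu' : u' ∈ upperUni n F := (upperUni n F).mul_mem (transvection_mem_upperUni hij _) hu
      have hrow : ∀ l, (u : Matrix (Fin n) (Fin n) F) j l = (1 : Matrix (Fin n) (Fin n) F) j l := by
        intro l
        rcases lt_trichotomy j l with hjl | rfl | hjl
        · rw [Matrix.one_apply_ne hjl.ne]
          by_contra hne'
          exact not_le_of_gt hij (hmax (j, l) (Finset.mem_filter.2 ⟨Finset.mem_univ _, hjl, hne'⟩))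
        · rw [Matrix.one_apply_eq]; exact hu.2 j
        · rw [Matrix.one_apply_ne hjl.ne']; exact hu.1 j l hjl
      have hval : ∀ a b, (u' : Matrix (Fin n) (Fin n) F) a b =
          if a = i ∧ b = j then 0 else (u : Matrix (Fin n) (Fin n) F) a b := by
        intro a b
        rw [Matrix.SpecialLinearGroup.coe_mul, transvection_coe, add_mul, one_mul, Matrix.add_apply]
        rcases eq_or_ne a i with rfl | ha
        · rw [Matrix.single_mul_apply_same, hrow]
          rcases eq_or_ne b j with rfl | hb
          · simp [c]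
          · simp [hb, Matrix.one_apply_ne hb.symm]
        · rw [Matrix.single_mul_apply_of_ne _ _ _ _ _ ha]
          simp [ha]
      have hlt : (Finset.univ.filter fun q : Fin n × Fin n =>
          q.1 < q.2 ∧ (u' : Matrix (Fin n) (Fin n) F) q.1 q.2 ≠ 0).card < m := by
        rw [← hN]
        refine Finset.card_lt_card (Finset.ssubset_iff_of_subset ?_ |>.2 ⟨(i, j), hq, ?_⟩)
        · intro q hq'
          obtain ⟨-, h1, h2⟩ := Finset.mem_filter.1 hq'
          rw [hval] at h2
          exact Finset.mem_filter.2 ⟨Finset.mem_univ _, h1, fun h0 => h2 (by simp [h0])⟩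
        · simp [hval]
      have h1 : u' ∈ H := ih _ hlt hu' rfl
      have : u = (transvection hij.ne (-c))⁻¹ * u' := by simp [u']
      rw [this]
      exact H.mul_mem (H.inv_mem (h _ _ hij _)) h1

theorem isPGroup_upperUni (p : ℕ) [Fact p.Prime] [CharP F p] : IsPGroup p (upperUni n F) := by
  obtain ⟨f, -, hq⟩ := CfsgLib.Classical.exists_card_eq_prime_pow (F := F) p
  exact IsPGroup.of_card (n := f * (n * (n - 1) / 2)) (by rw [card_upperUni, hq, pow_mul])

theorem eq_one_of_pow_prime_pow {p : ℕ} [Fact p.Prime] [CharP F p] {c : F} {k : ℕ}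
    (h : c ^ p ^ k = 1) : c = 1 := by
  have h1 : (c - 1) ^ p ^ k = 0 := by rw [sub_pow_char_pow, h, one_pow, sub_self]
  exact sub_eq_zero.1 (eq_zero_of_pow_eq_zero h1)

theorem transvection_pow {i j : Fin n} (hij : i ≠ j) (c : F) (m : ℕ) :
    transvection hij c ^ m = transvection hij (m * c) := by
  induction m with
  | zero => simp
  | succ m ih =>
    rw [pow_succ, ih, ← Matrix.SpecialLinearGroup.transvection_add]
    congr 1
    push_cast
    ring

theorem isTransvection_transvection {i j : Fin n} (hij : i ≠ j) {c : F} (hc : c ≠ 0) :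
    Cfsg.IsTransvection ((transvection hij c : SL n F) : Matrix (Fin n) (Fin n) F) := by
  classical
  have e : ((transvection hij c : SL n F) : Matrix (Fin n) (Fin n) F) - 1 =
      vecMulVec (c • Pi.single i 1) (Pi.single j 1) := by
    rw [transvection_coe, add_sub_cancel_left]
    ext a b
    rcases eq_or_ne a i with rfl | ha
    · rcases eq_or_ne b j with rfl | hb
      · simp [Matrix.vecMulVec_apply]
      · simp [Matrix.single_apply, Matrix.vecMulVec_apply, hb, hb.symm]
    · simp [Matrix.single_apply, Matrix.vecMulVec_apply, ha, ha.symm]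
  refine ⟨le_antisymm ?_ (Nat.one_le_iff_ne_zero.2 fun h0 => ?_), ?_⟩
  · rw [e]; exact Matrix.rank_vecMulVec_le _ _
  · rw [e, Matrix.rank, Submodule.finrank_eq_zero, LinearMap.range_eq_bot] at h0
    have := congrFun (LinearMap.congr_fun h0 (Pi.single j 1)) i
    simp [Matrix.vecMulVec_apply, hc] at this
  · rw [transvection_coe, add_sub_cancel_left, Matrix.single_mul_single_of_ne _ _ _ _ hij.symm]

/-- An invertible matrix with a zero block too large for the two flags. -/
theorem upper_of_annihilate {g h : Matrix (Fin n) (Fin n) F} (hh : h.det ≠ 0)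
    (key : ∀ a b i j : Fin n, b ≤ a → i < j → g a i * h j b = 0) :
    ∀ a i : Fin n, i < a → g a i = 0 := by
  classical
  intro a i hia
  by_contra hga
  have hblock : ∀ j b : Fin n, i < j → b ≤ a → h j b = 0 := fun j b hij hba =>
    (mul_eq_zero.1 (key a b i j hba hij)).resolve_left hga
  refine hh ?_
  rw [Matrix.det_apply]
  refine Finset.sum_eq_zero fun σ _ => ?_
  obtain ⟨b, hb, hσb⟩ : ∃ b, b ≤ a ∧ i < σ b := by
    by_contra hc
    push Not at hc
    have h1 : (Finset.Iic a).card ≤ (Finset.Iic i).card :=
      Finset.card_le_card_of_injOn σ (fun b hb => Finset.mem_Iic.2 (hc b (Finset.mem_Iic.1 hb)))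
        σ.injective.injOn
    rw [Fin.card_Iic, Fin.card_Iic] at h1
    exact absurd hia (not_lt.2 (by rw [Fin.le_def]; omega))
  rw [Finset.prod_eq_zero (f := fun x => h (σ x) x) (Finset.mem_univ b) (hblock _ _ hσb hb),
    smul_zero]

section Image

variable {p : ℕ} [Fact p.Prime] [CharP F p] {G : Type*} [Group G] {π : SL n F →* G}

/-- `π` has the scalar matrices as kernel. -/
def IsProj (π : SL n F →* G) : Prop :=
  Function.Surjective π ∧ ∀ A B : SL n F, π A = π B ↔
    ∃ c : F, c ≠ 0 ∧ (B : Matrix (Fin n) (Fin n) F) = c • (A : Matrix (Fin n) (Fin n) F)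

include p in
/-- A preimage of an element of `p`-power order in the image of the unitriangular group. -/
theorem eq_of_conj_image (hπ : IsProj π) (hn : 0 < n) {g u v : SL n F} (hu : u ∈ upperUni n F)
    (hv : v ∈ upperUni n F) (h : π g * π u * (π g)⁻¹ = π v) : g * u * g⁻¹ = v := by
  rw [← map_inv, ← map_mul, ← map_mul, eq_comm, hπ.2] at h
  obtain ⟨c, -, hc⟩ := h
  obtain ⟨k, hk⟩ := isPGroup_upperUni (n := n) (F := F) p ⟨u, hu⟩
  have hk' : u ^ p ^ k = 1 := congrArg Subtype.val hk
  have h1 : ((g * u * g⁻¹ : SL n F) : Matrix (Fin n) (Fin n) F) ^ p ^ k = 1 := by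
    rw [← Matrix.SpecialLinearGroup.coe_pow, conj_pow, hk', mul_one, mul_inv_cancel,
      Matrix.SpecialLinearGroup.coe_one]
  rw [hc, smul_pow, ← Matrix.SpecialLinearGroup.coe_pow] at h1
  have hd := congrFun (congrFun h1 ⟨0, hn⟩) ⟨0, hn⟩
  rw [Matrix.smul_apply, ((upperUni n F).pow_mem hv _).2, smul_eq_mul, mul_one,
    Matrix.one_apply_eq] at hd
  exact Subtype.ext (by rw [hc, eq_one_of_pow_prime_pow hd, one_smul])

/-- The hyperplane subgroup of the unitriangular group missing the root `(a, b)`. -/
def rootKernel (a b : Fin n) (hab : (a : ℕ) + 1 = b) : Subgroup (SL n F) where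
  carrier := {u | u ∈ upperUni n F ∧ (u : Matrix (Fin n) (Fin n) F) a b = 0}
  one_mem' := ⟨(upperUni n F).one_mem, by
    rw [Matrix.SpecialLinearGroup.coe_one, Matrix.one_apply_ne]
    intro h; subst h; omega⟩
  mul_mem' := by
    rintro u v ⟨hu, hu0⟩ ⟨hv, hv0⟩
    refine ⟨(upperUni n F).mul_mem hu hv, ?_⟩
    rw [Matrix.SpecialLinearGroup.coe_mul, Matrix.mul_apply]
    refine Finset.sum_eq_zero fun l _ => ?_
    rcases lt_trichotomy l a with hl | rfl | hl
    · rw [hu.1 a l hl, zero_mul]
    · rw [hv0, mul_zero]
    · rcases eq_or_ne l b with rfl | hlb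
      · rw [hu0, zero_mul]
      · have : b < l := by
          rw [Fin.lt_def] at hl ⊢
          have : (l : ℕ) ≠ b := fun h => hlb (Fin.ext h)
          omega
        rw [hv.1 l b this, mul_zero]
  inv_mem' := by
    rintro u ⟨hu, hu0⟩
    refine ⟨(upperUni n F).inv_mem hu, ?_⟩
    have hne : a ≠ b := by intro h; subst h; omega
    have h := congrFun (congrFun (congrArg Subtype.val (inv_mul_cancel u)) a) b
    rw [Matrix.SpecialLinearGroup.coe_mul, Matrix.SpecialLinearGroup.coe_one, Matrix.one_apply_ne hne,
      Matrix.mul_apply, Finset.sum_eq_single b] at h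
    · rwa [hu.2 b, mul_one] at h
    · intro l _ hlb
      rcases lt_trichotomy l a with hl | rfl | hl
      · rw [((upperUni n F).inv_mem hu).1 a l hl, zero_mul]
      · rw [hu0, mul_zero]
      · have : b < l := by
          rw [Fin.lt_def] at hl ⊢
          have : (l : ℕ) ≠ b := fun h' => hlb (Fin.ext h')
          omega
        rw [hu.1 l b this, mul_zero]
    · simp

omit [Fact p.Prime] [CharP F p] in
theorem transvection_mem_rootKernel {a b : Fin n} (hab : (a : ℕ) + 1 = b) {i j : Fin n}
    (hij : i < j) (hne : ¬ (i = a ∧ j = b)) (c : F) :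
    transvection hij.ne c ∈ rootKernel (F := F) a b hab := by
  refine ⟨transvection_mem_upperUni hij c, ?_⟩
  rw [transvection_coe, Matrix.add_apply, Matrix.one_apply_ne (by intro h; subst h; omega),
    Matrix.single_apply, if_neg hne, add_zero]

include p in
theorem centralizer_rootKernel (hπ : IsProj π) (hn : 3 ≤ n) (a b : Fin n) (hab : (a : ℕ) + 1 = b)
    {x : G} (hx : x ∈ Subgroup.centralizer (((rootKernel (F := F) a b hab).map π : Subgroup G) : Set G)) :
    x ∈ (rootKernel (F := F) a b hab).map π := by
  classical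
  obtain ⟨g, rfl⟩ := hπ.1 x
  set i0 : Fin n := ⟨0, by omega⟩ with hi0
  set il : Fin n := ⟨n - 1, by omega⟩ with hil
  have key : ∀ i j : Fin n, i < j → ¬ (i = a ∧ j = b) →
      (∀ l, l ≠ i → (g : Matrix (Fin n) (Fin n) F) l i = 0) ∧
      (∀ l, l ≠ j → (g : Matrix (Fin n) (Fin n) F) j l = 0) ∧
      (g : Matrix (Fin n) (Fin n) F) i i = (g : Matrix (Fin n) (Fin n) F) j j := by
    intro i j hij hne
    have hu := transvection_mem_upperUni hij (1 : F)
    have hmem : π (transvection hij.ne (1 : F)) ∈ (rootKernel (F := F) a b hab).map π :=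
      ⟨_, transvection_mem_rootKernel hab hij hne 1, rfl⟩
    have hc : π g * π (transvection hij.ne (1 : F)) * (π g)⁻¹ = π (transvection hij.ne (1 : F)) := by
      rw [← Subgroup.mem_centralizer_iff.1 hx _ hmem, mul_inv_cancel_right]
    have h1 := eq_of_conj_image (p := p) hπ (by omega) hu hu hc
    have h : ((g * transvection hij.ne (1 : F) : SL n F) : Matrix (Fin n) (Fin n) F) =
        ((transvection hij.ne (1 : F) * g : SL n F) : Matrix (Fin n) (Fin n) F) := by
      refine congrArg Subtype.val ?_
      calc g * transvection hij.ne (1 : F)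
          = g * transvection hij.ne (1 : F) * g⁻¹ * g := (inv_mul_cancel_right _ _).symm
        _ = transvection hij.ne (1 : F) * g := by rw [h1]
    simp only [Matrix.SpecialLinearGroup.coe_mul, transvection_coe, mul_add, add_mul, mul_one, one_mul,
      add_right_inj] at h
    refine ⟨fun l hl => ?_, fun l hl => ?_, ?_⟩
    · have := congrFun (congrFun h l) j
      rwa [Matrix.mul_single_apply_same, mul_one, Matrix.single_mul_apply_of_ne _ _ _ _ _ hl] at this
    · have := congrFun (congrFun h i) l
      rw [Matrix.mul_single_apply_of_ne _ _ _ _ _ hl, Matrix.single_mul_apply_same, one_mul] at this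
      exact this.symm
    · have := congrFun (congrFun h i) j
      rwa [Matrix.mul_single_apply_same, mul_one, Matrix.single_mul_apply_same, one_mul] at this
  have hab' : a < b := by rw [Fin.lt_def]; omega
  have h0l : i0 < il := by rw [Fin.lt_def]; simp only [hi0, hil]; omega
  have hne0l : ¬ (i0 = a ∧ il = b) := by
    rintro ⟨h1, h2⟩
    rw [← h1, ← h2] at hab
    simp only [hi0, hil] at hab
    omega
  set d := (g : Matrix (Fin n) (Fin n) F) i0 i0
  have hdiag : ∀ i, (g : Matrix (Fin n) (Fin n) F) i i = d := by
    intro i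
    rcases eq_or_ne i i0 with rfl | hi
    · rfl
    rcases eq_or_ne i il with rfl | hl
    · exact (key i0 il h0l hne0l).2.2.symm
    have h1 : i0 < i := by
      rw [Fin.lt_def]; simp only [hi0]; by_contra hc; exact hi (Fin.ext (by simp only [hi0]; omega))
    have h2 : i < il := by
      rw [Fin.lt_def]; simp only [hil]
      have : (i : ℕ) ≠ n - 1 := fun h => hl (Fin.ext h)
      omega
    by_cases hA : i0 = a ∧ i = b
    · rw [(key i il h2 (fun h => hi (h.1.trans hA.1.symm))).2.2]
      exact (key i0 il h0l hne0l).2.2.symm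
    · exact (key i0 i h1 hA).2.2.symm
  have hoff : ∀ l m : Fin n, l ≠ m → ¬ (l < m ∧ ¬ (l = a ∧ m = b)) →
      (g : Matrix (Fin n) (Fin n) F) l m = 0 := by
    intro l m hlm hcase
    rcases lt_trichotomy l m with h | h | h
    · obtain ⟨rfl, rfl⟩ := not_not.1 fun h' => hcase ⟨h, h'⟩
      -- the missing root itself
      by_cases ha0 : l = i0
      · exact (key m il (by rw [Fin.lt_def]; simp only [hil]; simp only [hi0, Fin.ext_iff] at ha0; omega)
          (fun h' => hlm h'.1.symm)).1 l hlm
      · exact (key i0 l (by rw [Fin.lt_def]; simp only [hi0]; simp only [hi0, Fin.ext_iff] at ha0; omega)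
          (fun h' => hlm h'.2)).2.1 m hlm.symm
    · exact absurd h hlm
    · by_cases hm : m = a ∧ (b : ℕ) = n - 1
      · by_cases hl : i0 = a
        · obtain ⟨rfl, hb⟩ := hm
          simp only [hi0, Fin.ext_iff] at hl; omega
        · exact (key i0 l (lt_of_le_of_lt (by rw [Fin.le_def]; simp [hi0]) h)
            (fun h' => hl h'.1)).2.1 m hlm.symm
      · refine (key m il (lt_of_lt_of_le h (by rw [Fin.le_def]; simp only [hil]; omega)) ?_).1 l hlm
        rintro ⟨h1, h2⟩
        exact hm ⟨h1, by rw [← h2]⟩
  have hlow : ∀ l m : Fin n, m < l → (g : Matrix (Fin n) (Fin n) F) l m = 0 := fun l m h =>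
    hoff l m h.ne' fun h' => lt_asymm h h'.1
  have hdet : d ^ n = 1 := by
    have h := g.2
    rw [Matrix.det_of_upperTriangular (fun l m (h : m < l) => hlow l m h), Finset.prod_congr rfl fun i _ => hdiag i,
      Finset.prod_const, Finset.card_univ, Fintype.card_fin] at h
    exact h
  have hd0 : d ≠ 0 := fun h => by rw [h, zero_pow (by omega)] at hdet; exact zero_ne_one hdet
  let v : SL n F := ⟨d⁻¹ • (g : Matrix (Fin n) (Fin n) F), by
    rw [Matrix.det_smul, g.2, mul_one, Fintype.card_fin, inv_pow, hdet, inv_one]⟩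
  refine ⟨v, ⟨⟨fun l m h => ?_, fun l => ?_⟩, ?_⟩, ((hπ.2 g v).2 ⟨d⁻¹, inv_ne_zero hd0, rfl⟩).symm⟩
  · show d⁻¹ * (g : Matrix (Fin n) (Fin n) F) l m = 0
    rw [hlow l m h, mul_zero]
  · show d⁻¹ * (g : Matrix (Fin n) (Fin n) F) l l = 1
    rw [hdiag, inv_mul_cancel₀ hd0]
  · show d⁻¹ * (g : Matrix (Fin n) (Fin n) F) a b = 0
    rw [hoff a b hab'.ne (fun h => h.2 ⟨rfl, rfl⟩), mul_zero]

omit [Fact p.Prime] [CharP F p] in
theorem upperUni_normalizes_rootKernel (a b : Fin n) (hab : (a : ℕ) + 1 = b) {u r : SL n F}
    (hu : u ∈ upperUni n F) (hr : r ∈ rootKernel a b hab) :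
    u * r * u⁻¹ ∈ rootKernel a b hab := by
  have hentry : ∀ v w : SL n F, v ∈ upperUni n F → w ∈ upperUni n F →
      ((v * w : SL n F) : Matrix (Fin n) (Fin n) F) a b =
        (v : Matrix (Fin n) (Fin n) F) a b + (w : Matrix (Fin n) (Fin n) F) a b := by
    intro v w hv hw
    have hne : a ≠ b := by intro h; subst h; omega
    rw [Matrix.SpecialLinearGroup.coe_mul, Matrix.mul_apply, Finset.sum_eq_add a b hne,
      hv.2 a, hw.2 b, one_mul, mul_one, add_comm]
    · intro l _ ⟨hla, hlb⟩
      rcases lt_or_gt_of_ne hla with hl | hl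
      · rw [hv.1 a l hl, zero_mul]
      · have : b < l := by
          rw [Fin.lt_def] at hl ⊢
          have : (l : ℕ) ≠ b := fun h' => hlb (Fin.ext h')
          omega
        rw [hw.1 l b this, mul_zero]
    · simp
    · simp
  refine ⟨(upperUni n F).mul_mem ((upperUni n F).mul_mem hu hr.1) ((upperUni n F).inv_mem hu), ?_⟩
  rw [hentry _ _ ((upperUni n F).mul_mem hu hr.1) ((upperUni n F).inv_mem hu), hentry _ _ hu hr.1,
    hr.2, add_zero, ← hentry _ _ hu ((upperUni n F).inv_mem hu), mul_inv_cancel,
    Matrix.SpecialLinearGroup.coe_one, Matrix.one_apply_ne (by intro h; subst h; omega)]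

omit [Fact p.Prime] [CharP F p] in
theorem lower_normalizes_rootKernel (a b : Fin n) (hab : (a : ℕ) + 1 = b) (hne : b ≠ a) (c : F)
    {r : SL n F} (hr : r ∈ rootKernel a b hab) :
    transvection hne c * r * (transvection hne c)⁻¹ ∈ rootKernel a b hab := by
  obtain ⟨hru, hr0⟩ := hr
  have hab' : a < b := by rw [Fin.lt_def]; omega
  rw [Matrix.SpecialLinearGroup.transvection_inv]
  set r' := transvection hne c * r * transvection hne (-c)
  have hval : ∀ i j, (r' : Matrix (Fin n) (Fin n) F) i j =
      (r : Matrix (Fin n) (Fin n) F) i j + (if i = b then c * (r : Matrix (Fin n) (Fin n) F) a j else 0) - (if j = a then c * (r : Matrix (Fin n) (Fin n) F) i b else 0) -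
        (if i = b ∧ j = a then c * c * (r : Matrix (Fin n) (Fin n) F) a b else 0) := by
    intro i j
    simp only [r', Matrix.SpecialLinearGroup.coe_mul, transvection_coe, add_mul, mul_add, one_mul, mul_one,
      Matrix.add_apply]
    rcases eq_or_ne i b with rfl | hi <;> rcases eq_or_ne j a with rfl | hj <;>
      simp [*, Matrix.mul_single_apply_same, Matrix.single_mul_apply_same,
        Matrix.single_mul_apply_of_ne, Matrix.mul_single_apply_of_ne] <;> ring
  refine ⟨⟨fun i j hji => ?_, fun i => ?_⟩, ?_⟩
  · rw [hval, hr0, mul_zero, ite_self, sub_zero, hru.1 i j hji, zero_add]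
    rcases eq_or_ne i b with rfl | hi
    · rw [if_pos rfl]
      rcases eq_or_ne j a with rfl | hj
      · rw [if_pos rfl, hru.2, hru.2, sub_self]
      · rw [if_neg hj, sub_zero]
        have : j < a := by
          rw [Fin.lt_def] at hji ⊢
          have : (j : ℕ) ≠ a := fun h' => hj (Fin.ext h')
          omega
        rw [hru.1 a j this, mul_zero]
    · rw [if_neg hi, zero_sub, neg_eq_zero]
      split_ifs with hj
      · subst hj
        have : b < i := by
          rw [Fin.lt_def] at hji ⊢
          have : (i : ℕ) ≠ b := fun h' => hi (Fin.ext h')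
          omega
        rw [hru.1 i b this, mul_zero]
      · rfl
  · rw [hval, hr0, mul_zero, ite_self, sub_zero, hru.2]
    rcases eq_or_ne i b with rfl | hi
    · rw [if_pos rfl, hr0, mul_zero, if_neg hne, add_zero, sub_zero]
    · rw [if_neg hi, add_zero]
      split_ifs with hia
      · subst hia; rw [hr0, mul_zero, sub_zero]
      · rw [sub_zero]
  · rw [hval, hr0, if_neg hab'.ne, if_neg hne, if_neg (fun h => hab'.ne h.1)]
    simp

include p in
/-- Elements normalizing the image of the unitriangular group are upper triangular. -/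
theorem normalizer_upper (hπ : IsProj π) (hn : 0 < n) {g : SL n F}
    (hg : π g ∈ Subgroup.normalizer (((upperUni n F).map π : Subgroup G) : Set G)) :
    ∀ a i : Fin n, i < a → (g : Matrix (Fin n) (Fin n) F) a i = 0 := by
  have hh : ((g⁻¹ : SL n F) : Matrix (Fin n) (Fin n) F).det ≠ 0 := by
    rw [(g⁻¹ : SL n F).2]; exact one_ne_zero
  refine upper_of_annihilate hh fun a b i j hba hij => ?_
  obtain ⟨v, hv, hve⟩ := (Subgroup.mem_normalizer_iff.1 hg _).1
    ⟨_, transvection_mem_upperUni hij (1 : F), rfl⟩
  have h := eq_of_conj_image (p := p) hπ hn (transvection_mem_upperUni hij (1 : F)) hv hve.symm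
  have h' : (v : Matrix (Fin n) (Fin n) F) = 1 + vecMulVec
      (fun l => (g : Matrix (Fin n) (Fin n) F) l i)
      (fun l => ((g⁻¹ : SL n F) : Matrix (Fin n) (Fin n) F) j l) := by
    rw [← h, Matrix.SpecialLinearGroup.coe_mul, Matrix.SpecialLinearGroup.coe_mul, transvection_coe, mul_add,
      add_mul, mul_one, ← Matrix.SpecialLinearGroup.coe_mul, mul_inv_cancel, Matrix.SpecialLinearGroup.coe_one]
    congr 1
    ext l m
    rw [Matrix.vecMulVec_apply, Matrix.mul_apply, Finset.sum_eq_single j]
    · rw [Matrix.mul_single_apply_same, mul_one]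
    · intro k _ hk
      rw [Matrix.mul_single_apply_of_ne _ _ _ _ _ hk, zero_mul]
    · simp
  have h2 : (v : Matrix (Fin n) (Fin n) F) a b = (1 : Matrix (Fin n) (Fin n) F) a b := by
    rcases eq_or_lt_of_le hba with rfl | hlt
    · rw [hv.2, Matrix.one_apply_eq]
    · rw [hv.1 a b hlt, Matrix.one_apply_ne hlt.ne']
  rw [h', Matrix.add_apply, Matrix.vecMulVec_apply, add_eq_left] at h2
  exact h2

omit [Fact p.Prime] [CharP F p] in
/-- Diagonal matrices are products of the diagonal elements at adjacent places. -/
theorem diag_mem {H : Subgroup (SL n F)}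
    (h : ∀ (a b : Fin n) (hne : a ≠ b) (_ : (a : ℕ) + 1 = b) (t : F) (ht : t ≠ 0),
      Matrix.SpecialLinearGroup.diag2n hne t ht ∈ H) :
    ∀ (k : ℕ) (d : SL n F) (_ : ∀ i j, i ≠ j → (d : Matrix (Fin n) (Fin n) F) i j = 0)
      (_ : ∀ i : Fin n, k ≤ (i : ℕ) → (d : Matrix (Fin n) (Fin n) F) i i = 1), d ∈ H := by
  intro k
  induction k with
  | zero =>
    intro d hd h1
    have : d = 1 := Subtype.ext (by
      ext i j
      rcases eq_or_ne i j with rfl | hij
      · rw [Matrix.SpecialLinearGroup.coe_one, Matrix.one_apply_eq]; exact h1 i (Nat.zero_le _)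
      · rw [Matrix.SpecialLinearGroup.coe_one, Matrix.one_apply_ne hij]; exact hd i j hij)
    exact this ▸ H.one_mem
  | succ k ih =>
    intro d hd h1
    by_cases hk : k < n
    swap
    · exact ih d hd fun i hi => absurd i.2 (by omega)
    set b : Fin n := ⟨k, hk⟩ with hb
    have hdet : ∏ i, (d : Matrix (Fin n) (Fin n) F) i i = 1 := by
      rw [← Matrix.det_of_upperTriangular (fun i j (hij : j < i) => hd i j hij.ne')]
      exact d.2
    have hb0 : (d : Matrix (Fin n) (Fin n) F) b b ≠ 0 := fun h0 => by
      rw [Finset.prod_eq_zero (f := fun i => (d : Matrix (Fin n) (Fin n) F) i i) (Finset.mem_univ b) h0] at hdet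
      exact zero_ne_one hdet
    rcases Nat.eq_zero_or_pos k with rfl | hkpos
    · refine ih d hd fun i _ => ?_
      rcases eq_or_ne i b with rfl | hib
      · rwa [Finset.prod_eq_single b (fun j _ hj => h1 j (by
            simp only [hb, ne_eq, Fin.ext_iff] at hj; omega)) (by simp)] at hdet
      · exact h1 i (by simp only [hb, ne_eq, Fin.ext_iff] at hib; omega)
    set a : Fin n := ⟨k - 1, by omega⟩ with ha
    have hne : a ≠ b := by simp [ha, hb]; omega
    set e := Matrix.SpecialLinearGroup.diag2n hne ((d : Matrix (Fin n) (Fin n) F) b b) hb0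
    have he : e ∈ H := h a b hne (by simp [ha, hb]; omega) _ _
    have hval : ∀ i j, ((d * e : SL n F) : Matrix (Fin n) (Fin n) F) i j =
        (d : Matrix (Fin n) (Fin n) F) i j *
          (if j = a then (d : Matrix (Fin n) (Fin n) F) b b
            else if j = b then ((d : Matrix (Fin n) (Fin n) F) b b)⁻¹ else 1) := by
      intro i j
      rw [Matrix.SpecialLinearGroup.coe_mul, Matrix.SpecialLinearGroup.diag2n_coe, Matrix.mul_diagonal]
    have : d * e ∈ H := ih _ (fun i j hij => by rw [hval, hd i j hij, zero_mul]) fun i hi => by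
      rw [hval]
      rcases eq_or_ne i b with rfl | hib
      · rw [if_neg hne.symm, if_pos rfl, mul_inv_cancel₀ hb0]
      · have : k + 1 ≤ (i : ℕ) := by simp [hb, Fin.ext_iff] at hib; omega
        rw [h1 i this, if_neg, if_neg hib, one_mul]
        intro hia; rw [hia, ha] at this; simp at this; omega
    simpa using H.mul_mem this (H.inv_mem he)

include p in
/-- The fusion system of the image of the unitriangular group is simple. -/
theorem isSimple [Finite G] (hπ : IsProj π) (hn : 3 ≤ n) (S : Sylow p G)
    (hS : (S : Subgroup G) = (upperUni n F).map π) :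
    (Cfsg.groupFusionSystem (S : Subgroup G)).IsSimple p := by
  have hinj : ∀ {u v : SL n F}, u ∈ upperUni n F → v ∈ upperUni n F → π u = π v → u = v := by
    intro u v hu hv h
    have := eq_of_conj_image (p := p) hπ (g := 1) (by omega) hu hv (by simpa using h)
    simpa using this
  set i0 : Fin n := ⟨0, by omega⟩
  set il : Fin n := ⟨n - 1, by omega⟩
  have h0l : i0 < il := by rw [Fin.lt_def]; simp [i0, il]; omega
  have hone : ∀ {i j : Fin n} (hij : i < j), π (transvection hij.ne (1 : F)) ≠ 1 := by
    intro i j hij h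
    have h' := hinj (transvection_mem_upperUni hij 1) (upperUni n F).one_mem (by rw [h, map_one])
    have := congrFun (congrFun (congrArg Subtype.val h') i) j
    simp [transvection_coe, hij.ne] at this
  have hne : (S : Subgroup G) ≠ ⊥ := fun h => hone h0l (by
    have : π (transvection h0l.ne (1 : F)) ∈ (S : Subgroup G) :=
      hS.ge ⟨_, transvection_mem_upperUni h0l 1, rfl⟩
    rwa [h, Subgroup.mem_bot] at this)
  let Rs : Set (Subgroup G) :=
    {R | ∃ (a b : Fin n) (hab : (a : ℕ) + 1 = b), R = (rootKernel (F := F) a b hab).map π}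
  refine groupFusion_isSimple_of_radicals S hne (fun T hTS hTb hTc => ?_) Rs ?_ ?_
  · -- strongly closed subgroups
    have hTn : (T.subgroupOf (S : Subgroup G)).Normal :=
      ⟨fun x hx y => hTc x hx y (S.mul_mem (S.mul_mem y.2 x.2) (S.inv_mem y.2))⟩
    obtain ⟨z, hz, hz1⟩ := (Subgroup.bot_or_exists_ne_one (T.subgroupOf (S : Subgroup G) ⊓
      Subgroup.center (S : Subgroup G))).resolve_left
        (CfsgLib.PGroups.inf_center_ne_bot S.isPGroup' fun h => hTb (le_bot_iff.1
          (fun x hx => by
            have : (⟨x, hTS hx⟩ : (S : Subgroup G)) ∈ T.subgroupOf (S : Subgroup G) := hx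
            rw [h, Subgroup.mem_bot] at this
            exact congrArg Subtype.val this)))
    obtain ⟨u, hu, huz⟩ := hS.le z.2
    have hcomm : ∀ v ∈ upperUni n F, u * v = v * u := by
      intro v hv
      refine hinj ((upperUni n F).mul_mem hu hv) ((upperUni n F).mul_mem hv hu) ?_
      rw [map_mul, map_mul, huz]
      exact (congrArg Subtype.val (Subgroup.mem_center_iff.1 hz.2 ⟨π v, hS.ge ⟨v, hv, rfl⟩⟩)).symm
    obtain ⟨c, hc⟩ := CfsgLib.Known.AutPSL.upperUni_center (by omega) u hu fun v hv => by
      rw [← map_mul, ← map_mul, hcomm v hv]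
    have hc' : u = transvection h0l.ne c := by
      refine CfsgLib.Known.AutPSL.proj_injOn_upperUni (by omega) hu
        (transvection_mem_upperUni h0l c) ?_
      rw [hc, CfsgLib.Known.AutPSL.P_of (by simp only [smul_dotProduct, dotProduct_single, mul_one, smul_eq_mul]; exact mul_eq_zero_of_right _ (Pi.single_eq_of_ne h0l.ne _))]
      congr 1
      refine Subtype.ext ?_
      rw [CfsgLib.Known.AutPSL.coe_tvSL, transvection_coe, CfsgLib.Known.AutPSL.vecMulVec_single]
    have hc0 : c ≠ 0 := by
      rintro rfl
      refine hz1 (Subtype.ext ?_)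
      rw [← huz, hc', Matrix.SpecialLinearGroup.transvection_coeff_zero, map_one]
      rfl
    refine le_antisymm hTS (hS.le.trans (Subgroup.map_le_iff_le_comap.2 (upperUni_le ?_)))
    intro i j hij d
    rw [Subgroup.mem_comap]
    rcases eq_or_ne d 0 with rfl | hd
    · rw [Matrix.SpecialLinearGroup.transvection_coeff_zero, map_one]; exact T.one_mem
    obtain ⟨w, hw⟩ := _root_.isConj_iff.1 (CfsgLib.Known.Transvections.isConj_sl hn _ _
      (isTransvection_transvection h0l.ne hc0) (isTransvection_transvection hij.ne hd))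
    have hmem := hTc _ hz.1 (π w)
    rw [show (((S : Subgroup G).subtype z : G)) = π u from huz.symm, hc', ← map_inv, ← map_mul,
      ← map_mul, hw] at hmem
    exact hmem (hS.ge ⟨_, transvection_mem_upperUni hij d, rfl⟩)
  · rintro R ⟨a, b, hab, rfl⟩
    refine ⟨hS ▸ Subgroup.map_mono (fun r hr => hr.1), ?_, fun c hc _ =>
      centralizer_rootKernel (p := p) hπ hn a b hab hc⟩
    have hnle : upperUni n F ≤ Subgroup.normalizer ((rootKernel (F := F) a b hab : Subgroup (SL n F)) : Set (SL n F)) := by
      intro u hu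
      rw [Subgroup.mem_normalizer_iff]
      refine fun r => ⟨upperUni_normalizes_rootKernel a b hab hu, fun h => ?_⟩
      simpa [mul_assoc] using upperUni_normalizes_rootKernel a b hab ((upperUni n F).inv_mem hu) h
    exact hS.le.trans ((Subgroup.map_mono hnle).trans (Subgroup.le_normalizer_map π))
  · intro x hx
    obtain ⟨g, rfl⟩ := hπ.1 x
    rw [hS] at hx
    have hlow := normalizer_upper (p := p) hπ (by omega) hx
    set K := Subgroup.closure
      {m : G | m ∈ Subgroup.normalizer ((S : Subgroup G) : Set G) ∧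
        ∃ R ∈ Rs, m ∈ pGenNormalizer p R}
    -- root elements are generators
    have hgenR : ∀ (a b : Fin n) (hab : (a : ℕ) + 1 = b) (i j : Fin n) (hij : i ≠ j),
        ((i < j) ∨ (i = b ∧ j = a)) → ∀ t : F,
          π (transvection hij t) ∈ pGenNormalizer p ((rootKernel (F := F) a b hab).map π) := by
      intro a b hab i j hij hcase t
      refine Subgroup.subset_closure ⟨?_, ?_⟩
      · refine Subgroup.le_normalizer_map π ⟨transvection hij t, ?_, rfl⟩
        have hfwd : ∀ (s : F) r, r ∈ rootKernel (F := F) a b hab →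
            transvection hij s * r * (transvection hij s)⁻¹ ∈ rootKernel (F := F) a b hab := by
          intro s r hr
          rcases hcase with h | ⟨rfl, rfl⟩
          · exact upperUni_normalizes_rootKernel a b hab (transvection_mem_upperUni h s) hr
          · exact lower_normalizes_rootKernel j i hab hij s hr
        show transvection hij t ∈ Subgroup.normalizer _
        rw [Subgroup.mem_normalizer_iff]
        refine fun r => ⟨hfwd t r, fun h => ?_⟩
        have := hfwd (-t) _ h
        rw [← Matrix.SpecialLinearGroup.transvection_inv] at this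
        simpa [mul_assoc] using this
      · have : π (transvection hij t) ^ p = 1 := by
          rw [← map_pow, transvection_pow, CharP.cast_eq_zero, zero_mul,
            Matrix.SpecialLinearGroup.transvection_coeff_zero, map_one]
        rcases (Fact.out : p.Prime).eq_one_or_self_of_dvd _ (orderOf_dvd_of_pow_eq_one this) with h | h
        · exact ⟨0, h.trans (pow_zero p).symm⟩
        · exact ⟨1, h.trans (pow_one p).symm⟩
    have hab01 : ((⟨0, by omega⟩ : Fin n) : ℕ) + 1 = ((⟨1, by omega⟩ : Fin n) : ℕ) := rfl
    have hUK : upperUni n F ≤ K.comap π := upperUni_le fun i j hij t => by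
      refine Subgroup.subset_closure ⟨Subgroup.le_normalizer (hS.ge ⟨_, transvection_mem_upperUni hij t, rfl⟩),
        _, ⟨_, _, hab01, rfl⟩, hgenR _ _ hab01 i j hij.ne (Or.inl hij) t⟩
    have hnormdiag : ∀ d : SL n F, (∀ i j, i ≠ j → (d : Matrix (Fin n) (Fin n) F) i j = 0) →
        π d ∈ Subgroup.normalizer ((S : Subgroup G) : Set G) := by
      intro d hd
      rw [hS]
      refine Subgroup.le_normalizer_map π ⟨d, ?_, rfl⟩
      have hfwd : ∀ u ∈ upperUni n F, d * u * d⁻¹ ∈ upperUni n F := by
        have hle : upperUni n F ≤ (upperUni n F).comap (MulAut.conj d).toMonoidHom := by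
          refine upperUni_le fun i j hij t => ?_
          show d * transvection hij.ne t * d⁻¹ ∈ upperUni n F
          have hdd : ((d⁻¹ : SL n F) : Matrix (Fin n) (Fin n) F) =
              Matrix.diagonal fun l => ((d : Matrix (Fin n) (Fin n) F) l l)⁻¹ := by
            have hD : (d : Matrix (Fin n) (Fin n) F) =
                Matrix.diagonal fun l => (d : Matrix (Fin n) (Fin n) F) l l := by
              ext a b
              rcases eq_or_ne a b with rfl | h
              · simp
              · rw [Matrix.diagonal_apply_ne _ h, hd a b h]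
            have hnz : ∀ l, (d : Matrix (Fin n) (Fin n) F) l l ≠ 0 := fun l h0 => by
              have := d.2
              rw [hD, Matrix.det_diagonal, Finset.prod_eq_zero
                (f := fun i => (d : Matrix (Fin n) (Fin n) F) i i) (Finset.mem_univ l) h0] at this
              exact zero_ne_one this
            refine (left_inv_eq_right_inv (a := (d : Matrix (Fin n) (Fin n) F)) ?_ ?_)
            · rw [← Matrix.SpecialLinearGroup.coe_mul, inv_mul_cancel, Matrix.SpecialLinearGroup.coe_one]
            · rw [hD, Matrix.diagonal_mul_diagonal, ← Matrix.diagonal_one]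
              congr 1
              funext l
              simp [hnz l]
          rw [show d * transvection hij.ne t * d⁻¹ = transvection hij.ne
            ((d : Matrix (Fin n) (Fin n) F) i i * t * ((d : Matrix (Fin n) (Fin n) F) j j)⁻¹) from ?_]
          · exact transvection_mem_upperUni hij _
          refine Subtype.ext ?_
          rw [Matrix.SpecialLinearGroup.coe_mul, Matrix.SpecialLinearGroup.coe_mul, transvection_coe,
            transvection_coe, mul_add, add_mul, mul_one, ← Matrix.SpecialLinearGroup.coe_mul, mul_inv_cancel,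
            Matrix.SpecialLinearGroup.coe_one, add_right_inj, hdd]
          ext a b
          rw [Matrix.mul_diagonal]
          rcases eq_or_ne b j with rfl | hb
          · rw [Matrix.mul_single_apply_same]
            rcases eq_or_ne a i with rfl | ha
            · simp
            · rw [hd a i ha]; simp [Matrix.single_apply, ha.symm]
          · rw [Matrix.mul_single_apply_of_ne _ _ _ _ _ hb]
            simp [Matrix.single_apply, hb.symm]
        exact fun u hu => hle hu
      exact fun u => ⟨hfwd u, fun h => by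
        have hmap : (upperUni n F).map (MulAut.conj d).toMonoidHom = upperUni n F :=
          Subgroup.eq_of_le_of_card_ge (by rintro _ ⟨w, hw, rfl⟩; exact hfwd w hw)
            (Subgroup.card_map_of_injective (f := (MulAut.conj d).toMonoidHom)
              (MulAut.conj d).injective).ge
        obtain ⟨w, hw, hwe⟩ := hmap.ge h
        have : w = u := mul_left_cancel (mul_right_cancel hwe)
        exact this ▸ hw⟩
    have hH : ∀ (a b : Fin n) (hne : a ≠ b) (_ : (a : ℕ) + 1 = b) (t : F) (ht : t ≠ 0),
        Matrix.SpecialLinearGroup.diag2n hne t ht ∈ K.comap π := by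
      intro a b hne hab t ht
      refine Subgroup.subset_closure ⟨hnormdiag _ fun i j hij => by
        rw [Matrix.SpecialLinearGroup.diag2n_coe, Matrix.diagonal_apply_ne _ hij], _, ⟨a, b, hab, rfl⟩, ?_⟩
      have hab' : a < b := by rw [Fin.lt_def]; omega
      rw [CfsgLib.Classical.diag2n_eq_prod]
      simp only [map_mul]
      exact mul_mem (mul_mem (mul_mem (mul_mem (mul_mem
        (hgenR a b hab a b _ (Or.inl hab') _) (hgenR a b hab b a _ (Or.inr ⟨rfl, rfl⟩) _))
        (hgenR a b hab a b _ (Or.inl hab') _)) (hgenR a b hab a b _ (Or.inl hab') _))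
        (hgenR a b hab b a _ (Or.inr ⟨rfl, rfl⟩) _)) (hgenR a b hab a b _ (Or.inl hab') _)
    -- split off the diagonal
    have hdet : ∏ i, (g : Matrix (Fin n) (Fin n) F) i i = 1 := by
      rw [← Matrix.det_of_upperTriangular (fun i j (h : j < i) => hlow i j h)]
      exact g.2
    let d : SL n F := ⟨Matrix.diagonal fun i => (g : Matrix (Fin n) (Fin n) F) i i, by
      rw [Matrix.det_diagonal, hdet]⟩
    have hd : d ∈ K.comap π := diag_mem hH n d (fun i j h => Matrix.diagonal_apply_ne _ h)
      fun i hi => absurd i.2 (by omega)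
    have hu : d⁻¹ * g ∈ upperUni n F := by
      have hgd : ∀ i j, (g : Matrix (Fin n) (Fin n) F) i j =
          (g : Matrix (Fin n) (Fin n) F) i i * ((d⁻¹ * g : SL n F) : Matrix (Fin n) (Fin n) F) i j := by
        intro i j
        calc (g : Matrix (Fin n) (Fin n) F) i j
            = ((d * (d⁻¹ * g) : SL n F) : Matrix (Fin n) (Fin n) F) i j := by rw [mul_inv_cancel_left]
          _ = _ := by
            rw [Matrix.SpecialLinearGroup.coe_mul]
            exact Matrix.diagonal_mul _ _ i j
      have hnz : ∀ l, (g : Matrix (Fin n) (Fin n) F) l l ≠ 0 := fun l h0 => by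
        rw [Finset.prod_eq_zero (f := fun i => (g : Matrix (Fin n) (Fin n) F) i i) (Finset.mem_univ l) h0] at hdet
        exact zero_ne_one hdet
      refine ⟨fun i j h => ?_, fun i => ?_⟩
      · have := hgd i j
        rw [hlow i j h] at this
        exact (mul_eq_zero.1 this.symm).resolve_left (hnz i)
      · exact mul_left_cancel₀ (hnz i) ((hgd i i).symm.trans (mul_one _).symm)
    have := K.mul_mem hd (hUK hu)
    rwa [← map_mul, mul_inv_cancel_left] at this

end Image

/-- The fusion system of `PSL n F` in the characteristic is simple for `n ≥ 3`. -/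
theorem psl_isSimple {p : ℕ} [Fact p.Prime] [CharP F p] (hn : 3 ≤ n) (S : Sylow p (PSL n F)) :
    (Cfsg.groupFusionSystem (S : Subgroup (PSL n F))).IsSimple p := by
  obtain ⟨S₀, hS₀⟩ := CfsgLib.Known.AutPSL.exists_sylow_eq (n := n) (F := F) (by omega) p
  obtain ⟨g, rfl⟩ := MulAction.exists_smul_eq (PSL n F) S₀ S
  refine isSimple (π := (MulAut.conj g).toMonoidHom.comp (proj n F))
    ⟨(MulAut.conj g).surjective.comp CfsgLib.Known.AutPSL.proj_surjective, fun A B => ?_⟩ hn _ ?_
  · rw [← CfsgLib.Known.AutPSL.proj_eq_iff]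
    exact (MulAut.conj g).injective.eq_iff
  · rw [← Subgroup.map_map, ← hS₀, Sylow.coe_subgroup_smul]
    rfl

end CfsgLib.Fusion.PSLn
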