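import Cfsg.Agent.Lib.Fusion.Series
import Cfsg.Agent.Lib.Transfer.SmallOrder

/-!
Criteria read off the action of automorphisms of order prime to `p`.
-/

set_option autoImplicit false

namespace CfsgLib.Fusion

open Cfsg Cfsg.FusionSystem

variable {Ω : Type*} [Group Ω] {S : Subgroup Ω} {F : FusionSystem S} {p : ℕ}

/-- A finite group without nontrivial elements of order prime to `p` is a `p`-group. -/
theorem isPGroup_of_coprime_trivial {G : Type*} [Group G] [Finite G] [Fact p.Prime]
    (h : ∀ g : G, (orderOf g).Coprime p → g = 1) : IsPGroup p G := by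
  intro g
  have hp : p.Prime := Fact.out
  obtain ⟨k, m, hm, hord⟩ := Nat.exists_eq_pow_mul_and_not_dvd (orderOf_pos g).ne' p hp.ne_one
  refine ⟨k, h _ ?_⟩
  refine (((Nat.Prime.coprime_iff_not_dvd hp).2 hm).symm).coprime_dvd_left
    (orderOf_dvd_of_pow_eq_one ?_)
  rw [← pow_mul, ← hord, pow_orderOf_eq_one]

theorem eq_inner_of_coprime_trivial [Fact p.Prime] [Finite S] (hS : IsPGroup p S)
    (hF : F.IsSaturated p)
    (h : ∀ R : Subgroup Ω, R ≤ S → ∀ b ∈ F.autGroup R, (orderOf b).Coprime p → b = 1) :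
    F = innerFusionSystem S := by
  refine eq_inner_of_isPGroup_autGroup hS hF fun P hP => ?_
  have := finite_mulAut_of_le (S := S) hP
  exact isPGroup_of_coprime_trivial fun g hg =>
    Subtype.ext (h P hP g g.2 (by rwa [Subgroup.orderOf_coe]))

/-- An element whose action lies in a normal kernel without `p'`-elements lies in `R`. -/
theorem mem_of_kernel [Fact p.Prime] [Finite S] (hS : IsPGroup p S) {R : Subgroup Ω}
    (hc : F.IsCentric R) (hr : F.IsRadical p R) (K : Subgroup (F.autGroup R)) [K.Normal]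
    (hK : ∀ b ∈ K, (orderOf b).Coprime p → b = 1) (q : normalizerIn S R)
    (hq : (⟨conjAut q, autInducedBy_le_autGroup hc.1 (conjAut_mem q)⟩ : F.autGroup R) ∈ K) :
    (q : Ω) ∈ R := by
  have := finite_mulAut_of_le (S := S) hc.1
  have hKp : IsPGroup p K := isPGroup_of_coprime_trivial fun g hg =>
    Subtype.ext (hK g g.2 (by rwa [Subgroup.orderOf_coe]))
  exact mem_of_conjAut_inn hc q ((isRadical_iff_le hS hc.1).1 hr (Core.le_pCore hKp hq))

/-- A coprime automorphism with all differences in `U` is trivial as soon as it fixes every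
invariant subgroup inside `U` consisting of small elements. -/
theorem eq_one_of_fixes_small_in [Fact p.Prime] [Finite S] (hS : IsPGroup p S)
    {R U : Subgroup Ω} (hR : R ≤ S) {b : MulAut R} (hbc : (orderOf b).Coprime p)
    (hU : ∀ x : R, (x : Ω)⁻¹ * b x ∈ U)
    (hfix : ∀ L : Subgroup R, L.map b.toMonoidHom = L →
      (∀ x ∈ L, ((x : R) : Ω) ∈ U ∧ Transfer.IsSmall p ((x : R) : Ω)) → ∀ x ∈ L, b x = x) :
    b = 1 := by
  have := finite_le hR
  have hRp := hS.to_le hR
  set V := U.subgroupOf R with hV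
  have hKa : V.map b.toMonoidHom = V := by
    refine Subgroup.eq_of_le_of_card_ge ?_ ?_
    · rintro _ ⟨x, hx, rfl⟩
      show ((b x : R) : Ω) ∈ U
      rw [← mul_inv_cancel_left (x : Ω) (b x : Ω)]
      exact U.mul_mem hx (hU x)
    · rw [Subgroup.card_map_of_injective b.injective]
  let c : MulAut V := ((b : R ≃* R).subgroupMap V).trans (MulEquiv.subgroupCongr hKa)
  have hc : ∀ y : V, ((c y : V) : R) = b y := fun y => rfl
  have hck : ∀ (k : ℕ) (y : V), (((c ^ k) y : V) : R) = (b ^ k) y := by
    intro k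
    induction k with
    | zero => intro y; rfl
    | succ k ih =>
        intro y
        rw [pow_succ', pow_succ', MulAut.mul_apply, MulAut.mul_apply, hc, ih]
  have hcm : c ^ orderOf b = 1 := MulEquiv.ext fun y => Subtype.ext (by
    rw [hck, pow_orderOf_eq_one]; rfl)
  have hc1 := Transfer.eq_one_of_fixes_small_exponent (Nat.card V) V le_rfl (hRp.to_subgroup V) c _
    hbc hcm fun L hL hLs y hy => by
      refine Subtype.ext ?_
      rw [hc]
      refine hfix (L.map V.subtype) ?_ ?_ y ⟨y, hy, rfl⟩
      · conv_rhs => rw [← hL]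
        rw [Subgroup.map_map, Subgroup.map_map]
        congr 1
      · rintro _ ⟨z, hz, rfl⟩
        exact ⟨z.2, (hLs z hz).map (R.subtype.comp V.subtype)⟩
  refine MulEquiv.ext fun x => Transfer.eq_of_fixed_diff hRp b hbc (pow_orderOf_eq_one b) ?_
  have := congrArg Subtype.val (DFunLike.congr_fun hc1 (⟨x⁻¹ * b x, hU x⟩ : V))
  rw [hc] at this
  exact this

end CfsgLib.Fusion
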