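import Cfsg.Agent.Lib.Fusion.NormalCriterion

/-!
Centric subgroups: maps agreeing on a centric subgroup differ by conjugation; climbing from a
centric subgroup to `S`; reduction of inclusions of systems to fully normalized subgroups.
-/

set_option autoImplicit false

namespace CfsgLib.Fusion

open Cfsg Cfsg.FusionSystem

variable {Ω : Type*} [Group Ω] {S : Subgroup Ω} {F : FusionSystem S} {p : ℕ}

theorem isCentric_mono [Finite S] {Q P : Subgroup Ω} (hQ : F.IsCentric Q) (hQP : Q ≤ P)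
    (hP : P ≤ S) : F.IsCentric P := by
  refine ⟨hP, fun R hR => ?_⟩
  obtain ⟨φ, hφ, rfl⟩ := hR
  exact (centralizerIn_antitone (img_le_range φ Q)).trans
    ((hQ.2 _ (isConj_img hφ hQP)).trans (img_le_range φ Q))

theorem isCentric_of_isConj {Q R : Subgroup Ω} (hQ : F.IsCentric Q) (h : F.IsConj Q R) :
    F.IsCentric R :=
  ⟨isConj_le_right h, fun T hT => hQ.2 T (isConj_trans h hT)⟩

theorem isCentric_fullyCentralized [Finite S] {Q : Subgroup Ω} (hQ : F.IsCentric Q) :
    F.IsFullyCentralized Q := by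
  refine ⟨hQ.1, fun R hR => ?_⟩
  obtain ⟨e, he⟩ := isConj_iff.1 hR
  have := finite_le (centralizerIn_le (S := S) Q)
  have hR' := hQ.2 R hR
  have hmem : ∀ x : centralizerIn S R,
      ((e.symm ⟨x, hR' x.2⟩ : Q) : Ω) ∈ centralizerIn S Q := by
    intro x
    refine mem_centralizerIn.2 ⟨hQ.1 (e.symm _).2, fun y hy => ?_⟩
    have h1 : (e ⟨y, hy⟩) * ⟨x, hR' x.2⟩ = ⟨x, hR' x.2⟩ * e ⟨y, hy⟩ :=
      Subtype.ext ((mem_centralizerIn.1 x.2).2 _ (e ⟨y, hy⟩).2)
    have h2 := congrArg e.symm h1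
    rw [map_mul, map_mul, MulEquiv.symm_apply_apply] at h2
    exact congrArg Subtype.val h2
  refine Nat.card_le_card_of_injective
    (fun x => (⟨_, hmem x⟩ : centralizerIn S Q)) fun a b h => ?_
  have h' : (e.symm ⟨a, hR' a.2⟩ : Q) = e.symm ⟨b, hR' b.2⟩ :=
    Subtype.ext (congrArg Subtype.val h :)
  exact Subtype.ext (congrArg Subtype.val (e.symm.injective h') :)

/-- To show `F ≤ E` it is enough to treat the automorphism groups of fully normalized subgroups,
assuming agreement on all larger subgroups. -/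
theorem le_of_step [Fact p.Prime] [Finite S] (hS : IsPGroup p S) (hF : F.IsSaturated p)
    (E : FusionSystem S) (htop : F.autGroup S ≤ E.autGroup S)
    (hstep : ∀ T : Subgroup Ω, T < S → F.IsFullyNormalized T →
      (∀ Q : Subgroup Ω, Nat.card T < Nat.card Q → F.Hom Q ⊆ E.Hom Q) →
      F.autGroup T ≤ E.autGroup T) :
    F ≤ E := by
  refine alperin hS hF E ?_
  suffices h : ∀ (n : ℕ) (P : Subgroup Ω), Nat.card S - Nat.card P ≤ n → F.Hom P ⊆ E.Hom P from
    fun P _ α hα => by
      by_cases hP : P ≤ S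
      · exact (mem_autGroup_iff hP).2 (h _ P le_rfl ((mem_autGroup_iff hP).1 hα))
      · rw [autGroup_eq_bot hP, Subgroup.mem_bot] at hα
        rw [hα]
        exact one_mem _
  intro n
  induction n with
  | zero =>
      intro P hle φ hφ
      have hPS : P = S := Subgroup.eq_of_le_of_card_ge (hom_le hφ) (by omega)
      subst hPS
      obtain ⟨e, he, hev⟩ := exists_iso hφ (hom_range_eq_self hφ)
      have h1 := htop ((mem_autGroup_iff_isoIn le_rfl).2 (show IsoIn F (e : MulAut P) from he))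
      exact hom_congr ((mem_autGroup_iff_isoIn le_rfl).1 h1) fun x => (hev x).symm
  | succ n ih =>
      intro P hle φ hφ
      rcases eq_or_lt_of_le (hom_le hφ) with hPS | hPS
      · exact ih P (by rw [hPS]; omega) hφ
      have hup : ∀ Q : Subgroup Ω, Nat.card P < Nat.card Q → F.Hom Q ⊆ E.Hom Q :=
        fun Q hQ => ih Q (by omega)
      obtain ⟨d, hd, hdv⟩ := exists_iso hφ rfl
      obtain ⟨T, hT, hTn⟩ := exists_fullyNormalized (F := F) (hom_le hφ)
      have hcT := isConj_card hT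
      have hTS : T < S := by
        refine lt_of_le_of_ne hTn.1 fun h => hPS.ne ?_
        subst h
        exact Subgroup.eq_of_le_of_card_ge (hom_le hφ) hcT.ge
      have h₁ := IsSaturated.fullyAutomized hS hF hTn
      have h₂ := IsSaturated.receptive hS hF (IsSaturated.fullyCentralized hS hF hTn)
      have key : ∀ A : Subgroup Ω, F.IsConj A T → ∃ a : A ≃* T, IsoIn F a ∧ IsoIn E a := by
        intro A hA
        have hAS := isConj_le_left hA
        obtain ⟨f, hf, -, himg⟩ := exists_normalizer_map hS h₁ h₂ hA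
        have hcard : Nat.card A = Nat.card P := (isConj_card hA).trans hcT.symm
        have hA' : A < S := lt_of_le_of_ne hAS fun h => by
          rw [h] at hcard
          exact hPS.ne (Subgroup.eq_of_le_of_card_ge (hom_le hφ) hcard.le)
        have hlt := lt_normalizerIn hS hA'
        have := finite_le (normalizerIn_le (S := S) A)
        have hlt' : Nat.card P < Nat.card (normalizerIn S A) := by
          rw [← hcard]
          exact lt_of_le_of_ne (Subgroup.card_le_of_le hlt.le) fun h =>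
            hlt.ne (Subgroup.eq_of_le_of_card_ge hlt.le h.ge)
        have hfE := hup _ hlt' hf
        obtain ⟨a, ha, hav⟩ := exists_iso (P := A) (Q := T)
          (restrict_mem hf (le_normalizerIn hAS)) (by rw [range_restrict, himg])
        exact ⟨a, ha, hom_congr (restrict_mem hfE (le_normalizerIn hAS)) fun x => hav x⟩
      obtain ⟨a, ha, haE⟩ := key P hT
      obtain ⟨b, hb, hbE⟩ := key φ.range (isConj_trans (isConj_symm hd.isConj) hT)
      set α : MulAut T := a.symm.trans (d.trans b) with hα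
      have hαF : α ∈ F.autGroup T :=
        (mem_autGroup_iff_isoIn hTn.1).2 (ha.symm.trans (hd.trans hb))
      have hαE : α ∈ E.autGroup T := hstep T hTS hTn (fun Q hQ => hup Q (hcT ▸ hQ)) hαF
      have := haE.trans (((mem_autGroup_iff_isoIn hTn.1).1 hαE).trans hbE.symm)
      refine hom_congr this.mem fun x => ?_
      rw [← hdv, isoHom_apply, hα]
      simp

/-- An automorphism of a centric situation stabilizing `Q ⊴ P` pointwise is inner by `Z(Q)`. -/
theorem stable_aut_inner [Fact p.Prime] [Finite S] (hS : IsPGroup p S) (hF : F.IsSaturated p)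
    {P Q : Subgroup Ω} (hQc : F.IsCentric Q) (hQP : Q ≤ P) (hPS : P ≤ S)
    (hN : P ≤ Subgroup.normalizer (Q : Set Ω)) {β : MulAut P} (hβ : β ∈ F.autGroup P)
    (hfix : ∀ x : P, (x : Ω) ∈ Q → β x = x) :
    ∃ z : P, (z : Ω) ∈ Q ∧ (z : Ω) ∈ Subgroup.centralizer (Q : Set Ω) ∧
      ∀ y : P, β y = z * y * z⁻¹ := by
  have := finite_mulAut_of_le (S := S) hPS
  -- `β` has `p`-power order.
  have hd : ∀ y : P, ((y⁻¹ * β y : P) : Ω) ∈ Q := by
    intro y
    refine hQc.2 Q (isConj_refl hQc.1) (mem_centralizerIn.2 ⟨hPS (y⁻¹ * β y).2, fun x hx => ?_⟩)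
    set q : P := ⟨x, hQP hx⟩ with hq
    have hyq : ((y * q * y⁻¹ : P) : Ω) ∈ Q := conj_mem_of_mem_normalizer (hN y.2) hx
    have h1 := hfix _ hyq
    rw [map_mul, map_mul, map_inv, hfix q hx] at h1
    have h2 : q * (y⁻¹ * β y) = y⁻¹ * β y * q := by
      calc q * (y⁻¹ * β y) = y⁻¹ * (y * q * y⁻¹) * β y := by group
        _ = y⁻¹ * (β y * q * (β y)⁻¹) * β y := by rw [h1]
        _ = y⁻¹ * β y * q := by group
    exact congrArg Subtype.val h2
  have hpow : ∀ (k : ℕ) (y : P), (β ^ k) y = y * (y⁻¹ * β y) ^ k := by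
    intro k
    induction k with
    | zero => simp
    | succ k ih =>
        intro y
        rw [pow_succ', MulAut.mul_apply, ih, map_mul, map_pow, hfix _ (hd y), pow_succ',
          ← mul_assoc, mul_inv_cancel_left]
  have := finite_le hPS
  obtain ⟨n, hn⟩ := IsPGroup.iff_card.1 (hS.to_le hPS)
  have hord : β ^ p ^ n = 1 := by
    ext y
    rw [hpow, ← hn, pow_card_eq_one', mul_one, MulAut.one_apply]
  have hβp : IsPGroup p (Subgroup.zpowers β) := by
    obtain ⟨k, -, hk⟩ := (Nat.dvd_prime_pow Fact.out).1 (orderOf_dvd_of_pow_eq_one hord)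
    exact IsPGroup.of_card (n := k) (by rw [Nat.card_zpowers, hk])
  -- transport to a fully automized conjugate
  obtain ⟨T, hT, hTa, -⟩ := hF P hPS
  obtain ⟨e, he⟩ := isConj_iff.1 hT
  have hB : (Subgroup.zpowers β).map (MulAut.congr e).toMonoidHom ≤ F.autGroup T := by
    rw [← he.congr_autGroup]
    exact Subgroup.map_mono (Subgroup.zpowers_le.2 hβ)
  have := finite_mulAut_of_le (S := S) hTa.1
  obtain ⟨a, ha, hconj⟩ := IsSylowIn.exists_conj_mem hTa.2 hB (hβp.map _)
  obtain ⟨g, hg, hgf⟩ := mem_autInducedBy_iff.1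
    (hconj _ ⟨β, Subgroup.mem_zpowers β, rfl⟩)
  set f : P ≃* T := e.trans (a : T ≃* T) with hf
  have hfF : IsoIn F f := he.trans ((mem_autGroup_iff_isoIn hTa.1).1 ha)
  have hfβ : ∀ y : P, ((f (β y) : T) : Ω) = g * (f y : Ω) * g⁻¹ := by
    intro y
    rw [← hgf (f y)]
    simp [hf, MulAut.congr]
  set Q' := img (isoHom f) Q with hQ'
  have hQ'c := hQc.2 Q' (isConj_img hfF.mem hQP)
  have hgQ : g ∈ centralizerIn S Q' := by
    refine mem_centralizerIn.2 ⟨hg, ?_⟩
    rintro _ ⟨x, hx, rfl⟩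
    have := hfβ x
    rw [hfix x hx] at this
    exact eq_mul_inv_iff_mul_eq.1 this
  obtain ⟨z, hz, hzg⟩ := hQ'c hgQ
  refine ⟨z, hz, Subgroup.mem_centralizer_iff.2 fun x hx => ?_, fun y => ?_⟩
  · have h1 := (mem_centralizerIn.1 hgQ).2 _ (⟨⟨x, hQP hx⟩, hx, rfl⟩ :
      isoHom f ⟨x, hQP hx⟩ ∈ Q')
    rw [← hzg, ← map_mul, ← map_mul] at h1
    exact congrArg Subtype.val (F.injective_of_mem hfF.mem h1)
  · have : isoHom f (β y) = isoHom f (z * y * z⁻¹) := by
      rw [isoHom_apply, hfβ, map_mul, map_mul, map_inv, hzg, isoHom_apply]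
    exact F.injective_of_mem hfF.mem this

/-- Maps agreeing on a normal centric subgroup differ by conjugation. -/
theorem maps_agree_normal [Fact p.Prime] [Finite S] (hS : IsPGroup p S) (hF : F.IsSaturated p)
    {P Q : Subgroup Ω} (hQP : Q ≤ P) (hQ : F.IsCentric Q)
    (hN : P ≤ Subgroup.normalizer (Q : Set Ω)) {φ φ' : P →* Ω} (hφ : φ ∈ F.Hom P)
    (hφ' : φ' ∈ F.Hom P) (h : ∀ x : P, (x : Ω) ∈ Q → φ x = φ' x) :
    ∃ z : P, (z : Ω) ∈ Q ∧ (z : Ω) ∈ Subgroup.centralizer (Q : Set Ω) ∧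
      ∀ y : P, φ' y = φ (z * y * z⁻¹) := by
  have hPS := hom_le hφ
  have := finite_le hPS
  have hQ' := hQ.2 _ (isConj_img hφ hQP)
  have hle : φ'.range ≤ φ.range := by
    rintro _ ⟨y, rfl⟩
    have hc : (φ y)⁻¹ * φ' y ∈ centralizerIn S (img φ Q) := by
      refine mem_centralizerIn.2 ⟨S.mul_mem (S.inv_mem (hom_apply_mem hφ y))
        (hom_apply_mem hφ' y), ?_⟩
      rintro _ ⟨x, hx, rfl⟩
      have hyx : ((y * x * y⁻¹ : P) : Ω) ∈ Q := conj_mem_of_mem_normalizer (hN y.2) hx
      have h1 := h _ hyx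
      simp only [map_mul, map_inv] at h1
      rw [← h x hx] at h1
      calc φ x * ((φ y)⁻¹ * φ' y) = (φ y)⁻¹ * (φ y * φ x * (φ y)⁻¹) * φ' y := by group
        _ = (φ y)⁻¹ * (φ' y * φ x * (φ' y)⁻¹) * φ' y := by rw [h1]
        _ = (φ y)⁻¹ * φ' y * φ x := by group
    obtain ⟨x, -, hx⟩ := hQ' hc
    exact ⟨y * x, by rw [map_mul, hx, mul_inv_cancel_left]⟩
  have := finite_le (hom_range_le hφ)
  have hr : φ'.range = φ.range := Subgroup.eq_of_le_of_card_ge hle (le_of_eq
    ((Nat.card_congr (MonoidHom.ofInjective (F.injective_of_mem hφ)).toEquiv).symm.trans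
      (Nat.card_congr (MonoidHom.ofInjective (F.injective_of_mem hφ')).toEquiv)))
  obtain ⟨d, hd, hdv⟩ := exists_iso hφ rfl
  obtain ⟨d', hd', hdv'⟩ := exists_iso hφ' hr
  set β : MulAut P := d'.trans d.symm with hβ
  have hβF : β ∈ F.autGroup P := (mem_autGroup_iff_isoIn hPS).2 (hd'.trans hd.symm)
  obtain ⟨z, hz, hzc, hzy⟩ := stable_aut_inner hS hF hQ hQP hPS hN hβF fun x hx => by
    apply d.injective
    simp only [hβ, MulEquiv.trans_apply, MulEquiv.apply_symm_apply]
    exact Subtype.ext (by rw [hdv', hdv, h x hx])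
  refine ⟨z, hz, hzc, fun y => ?_⟩
  rw [← hzy, ← hdv', ← hdv]
  simp [hβ]

/-- Maps agreeing on a centric subgroup differ by conjugation. -/
theorem maps_agree [Fact p.Prime] [Finite S] (hS : IsPGroup p S) (hF : F.IsSaturated p)
    {P Q : Subgroup Ω} (hQP : Q ≤ P) (hQ : F.IsCentric Q)
    {φ φ' : P →* Ω} (hφ : φ ∈ F.Hom P) (hφ' : φ' ∈ F.Hom P)
    (h : ∀ x : P, (x : Ω) ∈ Q → φ x = φ' x) :
    ∃ z : P, (z : Ω) ∈ Q ∧ (z : Ω) ∈ Subgroup.centralizer (Q : Set Ω) ∧
      ∀ y : P, φ' y = φ (z * y * z⁻¹) := by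
  have hPS := hom_le hφ
  have := finite_le hPS
  suffices H : ∀ (n : ℕ) (Q : Subgroup Ω), Q ≤ P → F.IsCentric Q →
      Nat.card P - Nat.card Q ≤ n → ∀ φ φ' : P →* Ω, φ ∈ F.Hom P → φ' ∈ F.Hom P →
      (∀ x : P, (x : Ω) ∈ Q → φ x = φ' x) →
      ∃ z : P, (z : Ω) ∈ Q ∧ (z : Ω) ∈ Subgroup.centralizer (Q : Set Ω) ∧
        ∀ y : P, φ' y = φ (z * y * z⁻¹) from H _ Q hQP hQ le_rfl φ φ' hφ hφ' h
  clear h hφ hφ' hQ hQP
  intro n
  induction n with
  | zero =>
      intro Q hQP hQ hle φ φ' hφ hφ' h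
      have hPQ : Q = P := Subgroup.eq_of_le_of_card_ge hQP (by omega)
      exact ⟨1, one_mem _, one_mem _, fun y => by simp [h y (hPQ.ge y.2)]⟩
  | succ n ih =>
      intro Q hQP hQ hle φ φ' hφ hφ' h
      rcases eq_or_lt_of_le hQP with rfl | hlt
      · exact ⟨1, one_mem _, one_mem _, fun y => by simp [h y y.2]⟩
      set R := normalizerIn P Q with hR
      have hRP : R ≤ P := normalizerIn_le Q
      have hQR : Q < R := lt_normalizerIn (hS.to_le hPS) hlt
      obtain ⟨z₁, hz₁, hz₁c, hz₁y⟩ := maps_agree_normal hS hF hQR.le hQ inf_le_right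
        (restrict_mem hφ hRP) (restrict_mem hφ' hRP) fun x hx => h _ hx
      set w : P := ⟨z₁, hRP z₁.2⟩ with hw
      have hcw : conjHom P (w : Ω) ∈ F.Hom P := F.conj_mem hPS (hPS w.2)
      set φ'' : P →* Ω := φ.comp (MulAut.conj w).toMonoidHom with hφ''
      have hφ''F : φ'' ∈ F.Hom P :=
        comp_mem' hcw hφ (fun x => (w * x * w⁻¹).2) fun x => rfl
      have := finite_le (hRP.trans hPS)
      have hlt' : Nat.card Q < Nat.card R :=
        lt_of_le_of_ne (Subgroup.card_le_of_le hQR.le) fun e =>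
          hQR.ne (Subgroup.eq_of_le_of_card_ge hQR.le e.ge)
      obtain ⟨z₂, hz₂, hz₂c, hz₂y⟩ := ih R hRP (isCentric_mono hQ hQR.le (hRP.trans hPS))
        (by omega) φ'' φ' hφ''F hφ' fun x hx => (hz₁y ⟨x, hx⟩).symm
      have hz₂Q : (z₂ : Ω) ∈ Q := hQ.2 Q (isConj_refl hQ.1)
        ⟨hPS z₂.2, Subgroup.centralizer_le hQR.le hz₂c⟩
      refine ⟨w * z₂, Q.mul_mem hz₁ hz₂Q,
        Subgroup.mul_mem _ hz₁c (Subgroup.centralizer_le hQR.le hz₂c), fun y => ?_⟩
      rw [hz₂y, hφ'']
      simp only [MonoidHom.coe_comp, Function.comp_apply, MulEquiv.toMonoidHom_eq_coe,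
        MonoidHom.coe_coe, MulAut.conj_apply]
      congr 1
      group

/-- An automorphism of `S` whose restriction to an invariant centric subgroup lies in a saturated
subsystem `E` lies in `E`. -/
theorem climb [Fact p.Prime] [Finite S] (hS : IsPGroup p S) (hF : F.IsSaturated p)
    {E : FusionSystem S} (hE : E.IsSaturated p) (hEF : E ≤ F) {α : MulAut S}
    (hα : α ∈ F.autGroup S) {R : Subgroup Ω} (hR : F.IsCentric R)
    (hαR : (R.subgroupOf S).map α.toMonoidHom = R.subgroupOf S)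
    (hres : (isoHom (α : S ≃* S)).comp (Subgroup.inclusion hR.1) ∈ E.Hom R) :
    α ∈ E.autGroup S := by
  suffices H : ∀ (n : ℕ) (R : Subgroup Ω) (hR : F.IsCentric R), Nat.card S - Nat.card R ≤ n →
      (R.subgroupOf S).map α.toMonoidHom = R.subgroupOf S →
      (isoHom (α : S ≃* S)).comp (Subgroup.inclusion hR.1) ∈ E.Hom R → α ∈ E.autGroup S from
    H _ R hR le_rfl hαR hres
  have hαF : IsoIn F (α : S ≃* S) := (mem_autGroup_iff_isoIn le_rfl).1 hα
  intro n
  induction n with
  | zero =>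
      intro R hR hle _ hres
      have hRS : R = S := Subgroup.eq_of_le_of_card_ge hR.1 (by omega)
      subst hRS
      exact (mem_autGroup_iff le_rfl).2 (hom_congr hres fun x => rfl)
  | succ n ih =>
      intro R hR hle hαR hres
      rcases eq_or_lt_of_le hR.1 with hRS | hRS
      · exact ih R hR (by rw [hRS]; omega) hαR hres
      set R₁ := normalizerIn S R with hR₁
      have hR₁S : R₁ ≤ S := normalizerIn_le R
      have hlt : R < R₁ := lt_normalizerIn hS hRS
      have hiff : ∀ x : S, (x : Ω) ∈ R ↔ ((α x : S) : Ω) ∈ R := by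
        intro x
        constructor
        · exact fun hx => hαR.le ⟨x, hx, rfl⟩
        · intro hx
          obtain ⟨y, hy, hyx⟩ := hαR.ge (show α x ∈ R.subgroupOf S from hx)
          exact (α.injective hyx) ▸ hy
      have hα₁ : (R₁.subgroupOf S).map α.toMonoidHom = R₁.subgroupOf S := by
        refine map_subgroupOf_eq le_rfl ?_
        rintro _ ⟨g, hg, rfl⟩
        refine ⟨(α g).2, ?_⟩
        show ((α g : S) : Ω) ∈ Subgroup.normalizer (R : Set Ω)
        rw [Subgroup.mem_normalizer_iff]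
        intro x
        constructor
        · intro hx
          obtain ⟨y, hy, hyx⟩ := hαR.ge (show (⟨x, hR.1 hx⟩ : S) ∈ R.subgroupOf S from hx)
          have h1 := (hiff (g * y * g⁻¹)).1 (conj_mem_of_mem_normalizer hg.2 hy)
          have h2 : α (g * y * g⁻¹) = α g * ⟨x, hR.1 hx⟩ * (α g)⁻¹ := by
            rw [map_mul, map_mul, map_inv, ← hyx]; rfl
          rw [h2] at h1
          exact h1
        · intro hx
          obtain ⟨y, hy, hyx⟩ := hαR.ge (show (⟨_, hR.1 hx⟩ : S) ∈ R.subgroupOf S from hx)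
          have hgi : (g : Ω)⁻¹ ∈ Subgroup.normalizer (R : Set Ω) := inv_mem hg.2
          have h1 := (hiff (g⁻¹ * y * g)).1
            (by simpa using conj_mem_of_mem_normalizer hgi hy)
          rw [map_mul, map_mul, map_inv] at h1
          have h2 : ((α y : S) : Ω) = (α g : Ω) * x * (α g : Ω)⁻¹ := congrArg Subtype.val hyx
          simp only [Subgroup.coe_mul, InvMemClass.coe_inv, h2] at h1
          simpa [mul_assoc] using h1
      set ρ : R →* Ω := (isoHom (α : S ≃* S)).comp (Subgroup.inclusion hR.1) with hρ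
      have hρr : ρ.range = R := by
        ext y
        constructor
        · rintro ⟨x, rfl⟩
          exact (hiff _).1 x.2
        · intro hy
          obtain ⟨x, hx, hxy⟩ := hαR.ge (show (⟨y, hR.1 hy⟩ : S) ∈ R.subgroupOf S from hy)
          exact ⟨⟨x, hx⟩, congrArg Subtype.val hxy⟩
      obtain ⟨e, he, hev⟩ := exists_iso hres hρr
      have hRE : E.IsCentric R := ⟨hR.1, fun T ⟨φ, hφ, hT⟩ => hR.2 T ⟨φ, hEF R hφ, hT⟩⟩
      have hrec := IsSaturated.receptive hS hE (isCentric_fullyCentralized hRE)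
      obtain ⟨ψ, hψ, hag⟩ := exists_extension hrec he hlt.le (by
        intro g hg
        refine mem_extender_iff.2 ⟨hg.1, hg.2, α ⟨g, hg.1⟩, (α _).2, fun x hx => ?_⟩
        rw [isoHom_apply, isoHom_apply, hev, hev, hρ]
        have : (Subgroup.inclusion hR.1 ⟨g * x * g⁻¹, hx⟩) =
            ⟨g, hg.1⟩ * Subgroup.inclusion hR.1 x * ⟨g, hg.1⟩⁻¹ := Subtype.ext rfl
        simp only [MonoidHom.coe_comp, Function.comp_apply]
        rw [this, map_mul, map_mul, map_inv, isoHom_apply])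
      obtain ⟨z, hz, -, hzy⟩ := maps_agree_normal hS hF hlt.le hR inf_le_right (hEF _ hψ)
        (restrict_mem hαF.mem hR₁S) fun x hx => (hag ⟨x, hx⟩).trans (hev _)
      refine ih R₁ (isCentric_mono hR hlt.le hR₁S) ?_ hα₁ ?_
      · have := finite_le hR₁S
        have : Nat.card R < Nat.card R₁ := lt_of_le_of_ne (Subgroup.card_le_of_le hlt.le) fun e =>
          hlt.ne (Subgroup.eq_of_le_of_card_ge hlt.le e.ge)
        omega
      · exact comp_mem' (E.conj_mem hR₁S (hR₁S z.2)) hψ (fun x => (z * x * z⁻¹).2)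
          fun x => hzy x

end CfsgLib.Fusion
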