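import Cfsg.Agent.Lib.Fusion.Centric
import Cfsg.Agent.Lib.Fusion.GroupFusion

/-!
Invariant subsystems: normality of their automorphism groups, and criteria for simplicity.
-/

set_option autoImplicit false

namespace CfsgLib.Fusion

open Cfsg Cfsg.FusionSystem

variable {Ω : Type*} [Group Ω] {S : Subgroup Ω} {F : FusionSystem S} {p : ℕ}

/-- A Sylow subgroup of `A` lying in `K ≤ A` is Sylow in `K`. -/
theorem IsSylowIn.of_le {G : Type*} [Group G] [Fact p.Prime] {H K A : Subgroup G} [Finite A]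
    (hs : IsSylowIn p H A) (hH : H ≤ A) (hK : K ≤ A) (hHK : H ≤ K) : IsSylowIn p H K := by
  have : Finite K := Finite.of_injective _ (Subgroup.inclusion_injective hK)
  rw [isSylowIn_iff_card hHK]
  refine le_antisymm (Nat.le_of_dvd (pow_pos (Fact.out : p.Prime).pos _)
    (card_le_sylowPart hHK (hs.isPGroup hH))) ?_
  rw [(isSylowIn_iff_card hH).1 hs]
  exact Nat.pow_le_pow_right (Fact.out : p.Prime).pos
    ((Nat.factorization_le_iff_dvd Nat.card_pos.ne' Nat.card_pos.ne').2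
      (Subgroup.card_dvd_of_le hK) p)

/-- In an invariant subsystem the automorphism group of each `P ≤ T` is normalized by the one in
the larger system. -/
theorem invariant_conj_mem [Finite S] {T : Subgroup Ω} {E : FusionSystem T}
    (hE : E.IsInvariantIn F) {P : Subgroup Ω} (hP : P ≤ T) {a b : MulAut P}
    (ha : a ∈ E.autGroup P) (hb : b ∈ F.autGroup P) : b * a * b⁻¹ ∈ E.autGroup P := by
  obtain ⟨-, hT, hinv, hfr⟩ := hE
  have hPS := hP.trans hT.1
  obtain ⟨α, hα, φ₀, hφ₀, hval⟩ := hfr P hP _ ((mem_autGroup_iff hPS).1 hb)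
  have hbv : ∀ x : P, ((b x : P) : Ω) = ((α ⟨φ₀ x, hom_apply_mem hφ₀ x⟩ : T) : Ω) :=
    fun x => hval x _
  obtain ⟨e, he, hev⟩ := exists_iso hφ₀ rfl
  set c : MulAut φ₀.range := e.symm.trans ((a : P ≃* P).trans e) with hc
  have hcF : IsoIn E (c : φ₀.range ≃* φ₀.range) :=
    he.symm.trans (((mem_autGroup_iff_isoIn hP).1 ha).trans he)
  obtain ⟨χ, hχ, hχv⟩ := hinv φ₀.range he.le_right _ hcF.mem α hα
  have hmemA : ∀ x : P, ((b x : P) : Ω) ∈ (φ₀.range.subgroupOf T).map (T.subtype.comp α.toMonoidHom) := fun x =>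
    ⟨⟨φ₀ x, hom_apply_mem hφ₀ x⟩, ⟨x, rfl⟩, (hbv x).symm⟩
  have hPA : P ≤ (φ₀.range.subgroupOf T).map (T.subtype.comp α.toMonoidHom) := fun y hy => by
    have := hmemA (b⁻¹ ⟨y, hy⟩)
    rwa [MulAut.apply_inv_self] at this
  refine (mem_autGroup_iff hP).2 (restrict_mem' hχ hPA fun y => ?_)
  set x : P := b⁻¹ y with hx
  have hy : y = b x := (MulAut.apply_inv_self _ _ _).symm
  have hel : φ₀ x ∈ φ₀.range := ⟨x, rfl⟩
  have h1 := hχv ⟨φ₀ x, hel⟩ (he.le_right (c ⟨φ₀ x, hel⟩).2)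
    (show _ ∈ (φ₀.range.subgroupOf T).map (T.subtype.comp α.toMonoidHom) from ⟨⟨φ₀ x, hom_apply_mem hφ₀ x⟩, hel, rfl⟩)
  have hce : (c ⟨φ₀ x, hel⟩ : Ω) = φ₀ (a x) := by
    have hxe : (⟨φ₀ x, hel⟩ : φ₀.range) = e x := Subtype.ext (hev x).symm
    rw [hxe, ← hev]
    simp [hc]
  have e1 : (⟨(y : Ω), hPA y.2⟩ : ↥((φ₀.range.subgroupOf T).map (T.subtype.comp α.toMonoidHom))) =
      ⟨((α ⟨φ₀ x, hom_apply_mem hφ₀ x⟩ : T) : Ω),
        ⟨⟨φ₀ x, hom_apply_mem hφ₀ x⟩, hel, rfl⟩⟩ :=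
    Subtype.ext (by show (y : Ω) = _; rw [hy]; exact hbv x)
  calc (P.subtype.comp (b * a * b⁻¹).toMonoidHom) y = ((b (a x) : P) : Ω) := rfl
    _ = ((α ⟨φ₀ (a x), hom_apply_mem hφ₀ (a x)⟩ : T) : Ω) := hbv (a x)
    _ = ((α ⟨(isoHom (c : φ₀.range ≃* φ₀.range)) ⟨φ₀ x, hel⟩,
          he.le_right (c ⟨φ₀ x, hel⟩).2⟩ : T) : Ω) :=
      congrArg (fun z : T => ((α z : T) : Ω)) (Subtype.ext hce.symm)
    _ = χ ⟨(y : Ω), hPA y.2⟩ := h1.symm.trans (congrArg χ e1.symm)

/-- An invariant subsystem on `S` with the full automorphism group of `S` is everything. -/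
theorem invariant_eq_of_top {E : FusionSystem S} (hE : E.IsInvariantIn F)
    (htop : F.autGroup S ≤ E.autGroup S) (P : Subgroup Ω) : E.Hom P = F.Hom P := by
  obtain ⟨hsub, -, -, hfr⟩ := hE
  refine Set.Subset.antisymm (hsub P) fun φ hφ => ?_
  obtain ⟨α, hα, φ₀, hφ₀, hval⟩ := hfr P (hom_le hφ) φ hφ
  exact comp_mem' hφ₀ ((mem_autGroup_iff le_rfl).1 (htop hα)) (hom_apply_mem hφ₀)
    fun x => hval x _

theorem isSimple_of_top [Finite S] (hF : F.IsSaturated p) (hS1 : S ≠ ⊥)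
    (hsc : ∀ T : Subgroup Ω, F.StronglyClosed T → T = ⊥ ∨ T = S)
    (htop : ∀ E : FusionSystem S, E.IsNormalIn F p → F.autGroup S ≤ E.autGroup S) :
    F.IsSimple p := by
  refine ⟨hF, hS1, fun T E hE => ?_⟩
  rcases hsc T hE.1.2.2.2.1 with h | h
  · exact Or.inl h
  · subst h
    exact Or.inr ⟨rfl, invariant_eq_of_top hE.1.2.2 (htop E hE)⟩

theorem isSimple_of_inner_top [Finite S] (hF : F.IsSaturated p) (hS1 : S ≠ ⊥)
    (htop : F.autGroup S = Inn S) (hsc : ∀ T : Subgroup Ω, F.StronglyClosed T → T = ⊥ ∨ T = S) :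
    F.IsSimple p :=
  isSimple_of_top hF hS1 hsc fun E _ => htop ▸ inn_le_autGroup le_rfl

/-- A normal subgroup of a finite group containing a Sylow `p`-subgroup contains every
`p`-element. -/
theorem mem_of_sylow_le {G : Type*} [Group G] [Fact p.Prime] {A K H : Subgroup G} [Finite A]
    (hs : IsSylowIn p H A) (hKn : ∀ a ∈ A, ∀ k ∈ K, a * k * a⁻¹ ∈ K) (hHK : H ≤ K) {x : G}
    (hx : x ∈ A) {k : ℕ} (hk : orderOf x ∣ p ^ k) : x ∈ K := by
  have hxp : IsPGroup p (Subgroup.zpowers x) := by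
    obtain ⟨j, -, hj⟩ := (Nat.dvd_prime_pow Fact.out).1 hk
    exact IsPGroup.of_card (n := j) (by rw [Nat.card_zpowers, hj])
  obtain ⟨a, ha, hax⟩ := hs.exists_conj_mem (Subgroup.zpowers_le.2 hx) hxp
  have := hKn a⁻¹ (A.inv_mem ha) _ (hHK (hax x (Subgroup.mem_zpowers x)))
  simpa [mul_assoc] using this

/-- Simplicity of the fusion system of a group from generation of `Aut_G(S)` by local pieces. -/
theorem groupFusion_isSimple {G : Type*} [Group G] [Finite G] {p : ℕ} [Fact p.Prime]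
    (S : Sylow p G) (hS1 : (S : Subgroup G) ≠ ⊥)
    (hsc : ∀ T : Subgroup G, (groupFusionSystem (S : Subgroup G)).StronglyClosed T →
      T = ⊥ ∨ T = S)
    (hb : autInducedBy ⊤ (S : Subgroup G) ≤ ⨆ (R : Subgroup G)
      (_ : (groupFusionSystem (S : Subgroup G)).IsFullyNormalized R ∧
        (groupFusionSystem (S : Subgroup G)).IsCentric R),
      autInducedBy (Subgroup.closure {g : G | g ∈ Subgroup.normalizer (R : Set G) ∧
        ∃ k : ℕ, orderOf g = p ^ k}) (S : Subgroup G)) :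
    (groupFusionSystem (S : Subgroup G)).IsSimple p := by
  set F := groupFusionSystem (S : Subgroup G) with hFdef
  have hF := groupFusion_saturated S
  have hSp := S.isPGroup'
  refine isSimple_of_top hF hS1 hsc fun E hE => ?_
  obtain ⟨⟨hEsat, -, hinv⟩, -⟩ := hE
  rw [groupFusion_autGroup le_rfl]
  refine hb.trans (iSup₂_le fun R hR α hα => ?_)
  obtain ⟨hn, hc⟩ := hR
  obtain ⟨g, hg, hgv⟩ := mem_autInducedBy_iff.1 hα
  have hcl : Subgroup.closure {x : G | x ∈ Subgroup.normalizer (R : Set G) ∧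
      ∃ k : ℕ, orderOf x = p ^ k} ≤ Subgroup.normalizer (R : Set G) :=
    (Subgroup.closure_le _).2 fun x hx => hx.1
  set K := E.autGroup R with hK
  set A := F.autGroup R with hA
  -- every generator acts on `R` inside `K`
  have hgK : R.normalizerMonoidHom ⟨g, hcl hg⟩ ∈ K := by
    suffices H : Subgroup.closure {x : G | x ∈ Subgroup.normalizer (R : Set G) ∧
        ∃ k : ℕ, orderOf x = p ^ k} ≤
          (K.comap R.normalizerMonoidHom).map (Subgroup.normalizer (R : Set G)).subtype by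
      obtain ⟨y, hy, hyg⟩ := H hg
      obtain rfl : y = ⟨g, hcl hg⟩ := Subtype.ext hyg
      exact hy
    rw [Subgroup.closure_le]
    rintro x ⟨hxN, k, hk⟩
    refine ⟨⟨x, hxN⟩, ?_, rfl⟩
    refine mem_of_sylow_le (IsSaturated.fullyAutomized hSp hF hn).2
      (fun a ha b hb => invariant_conj_mem hinv hn.1 hb ha)
      (autInducedBy_le_autGroup hn.1) ?_ (k := k) ?_
    · rw [groupFusion_autGroup hn.1]
      exact mem_autInducedBy_iff.2 ⟨x, trivial, fun _ => rfl⟩
    · refine (orderOf_map_dvd _ _).trans ?_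
      rw [← Subgroup.orderOf_coe, hk]
  have hαF : α ∈ F.autGroup (S : Subgroup G) := by
    rw [hFdef, groupFusion_autGroup le_rfl]
    exact autInducedBy_mono le_top hα
  refine climb hSp hF hEsat hinv.1 hαF hc (map_subgroupOf_eq le_rfl ?_) ?_
  · rintro _ ⟨x, hx, rfl⟩
    show ((α x : (S : Subgroup G)) : G) ∈ R
    rw [hgv]
    exact conj_mem_of_mem_normalizer (hcl hg) hx
  · exact hom_congr ((mem_autGroup_iff hn.1).1 hgK) fun x => hgv _

/-- A weakly invariant saturated subsystem with the full automorphism group of `S` is everything. -/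
theorem eq_of_conj_invariant [Fact p.Prime] [Finite S] (hS : IsPGroup p S) (hF : F.IsSaturated p)
    {E : FusionSystem S} (hle : E ≤ F)
    (hinv : ∀ P : Subgroup Ω, P ≤ S → ∀ a ∈ E.autGroup P, ∀ b ∈ F.autGroup P,
      b * a * b⁻¹ ∈ E.autGroup P)
    (htop : F.autGroup S ≤ E.autGroup S) : F ≤ E := by
  refine le_of_step hS hF E htop fun T hT hTn hbig a ha => ?_
  have := finite_mulAut_of_le (S := S) hTn.1
  have hKA : E.autGroup T ≤ F.autGroup T := fun x hx =>
    (mem_autGroup_iff hTn.1).2 (hle T ((mem_autGroup_iff hTn.1).1 hx))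
  have hAK : autInducedBy S T ≤ E.autGroup T := autInducedBy_le_autGroup hTn.1
  have hsA : IsSylowIn p (autInducedBy S T) (F.autGroup T) :=
    (IsSaturated.fullyAutomized hS hF hTn).2
  have hsK := hsA.of_le (autInducedBy_le_autGroup hTn.1) hKA hAK
  obtain ⟨k, hk, hka⟩ := hsK.exists_conj_mem
    (X := (autInducedBy S T).map (MulAut.conj a).toMonoidHom)
    (by rintro _ ⟨x, hx, rfl⟩; exact hinv T hTn.1 x (hAK hx) a ha)
    ((isPGroup_autInducedBy hS).map _)
  set m := k * a with hm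
  have hmA : m ∈ F.autGroup T := Subgroup.mul_mem _ (hKA hk) ha
  have hmI : IsoIn F (m : T ≃* T) := (mem_autGroup_iff_isoIn hTn.1).1 hmA
  obtain ⟨ψ, hψ, hag⟩ := exists_extension
    (IsSaturated.receptive hS hF (IsSaturated.fullyCentralized hS hF hTn)) hmI
    (le_normalizerIn hTn.1) (by
      intro g hg
      obtain ⟨h, hh, hhv⟩ := mem_autInducedBy_iff.1
        (hka _ ⟨conjAut ⟨g, hg⟩, conjAut_mem _, rfl⟩)
      refine mem_extender_iff.2 ⟨hg.1, hg.2, h, hh, fun x hx => ?_⟩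
      have := hhv (m x)
      rw [isoHom_apply, isoHom_apply, ← this]
      simp [hm]
      rfl)
  have hlt := lt_normalizerIn hS hT
  have := finite_le (normalizerIn_le (S := S) T)
  have hψE := hbig _ (lt_of_le_of_ne (Subgroup.card_le_of_le hlt.le) fun e =>
    hlt.ne (Subgroup.eq_of_le_of_card_ge hlt.le e.ge)) hψ
  have hmE : m ∈ E.autGroup T :=
    (mem_autGroup_iff hTn.1).2 (restrict_mem' hψE hlt.le fun x => (hag x).symm)
  have := Subgroup.mul_mem _ (Subgroup.inv_mem _ hk) hmE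
  rwa [hm, inv_mul_cancel_left] at this

end CfsgLib.Fusion
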