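import Cfsg.Agent.Lib.Fusion.Saturated

/-!
Extensions of maps, normal and central subgroups, the centre and the core, strongly closed
subgroups, and the normalizer and centralizer systems.
-/

set_option autoImplicit false

namespace CfsgLib.Fusion

open Cfsg Cfsg.FusionSystem

variable {Ω : Type*} [Group Ω] {S : Subgroup Ω} {F : FusionSystem S} {p : ℕ}

/-! ### Extensions to `P ⊔ Q` -/

/-- `ψ` extends `φ` to `P ⊔ Q` and carries `Q` onto itself. -/
theorem ext_range {P Q : Subgroup Ω} {φ : P →* Ω} {ψ : ↥(P ⊔ Q) →* Ω}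
    (h : ∀ x : P, ψ (Subgroup.inclusion le_sup_left x) = φ x)
    (hQ : (Q.subgroupOf (P ⊔ Q)).map ψ = Q) : ψ.range = φ.range ⊔ Q := by
  rw [MonoidHom.range_eq_map, ← Subgroup.subgroupOf_self (H := P ⊔ Q),
    Subgroup.subgroupOf_sup le_sup_left le_sup_right, Subgroup.map_sup, hQ]
  have : φ = ψ.comp (Subgroup.inclusion le_sup_left) := MonoidHom.ext fun x => (h x).symm
  rw [this, range_restrict]
  rfl

/-- A map fixing `Q` elementwise carries `Q` onto itself. -/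
theorem map_eq_of_fix {P Q : Subgroup Ω} {ψ : ↥(P ⊔ Q) →* Ω}
    (h : ∀ x : Q, ψ (Subgroup.inclusion le_sup_right x) = x) :
    (Q.subgroupOf (P ⊔ Q)).map ψ = Q := by
  ext y
  constructor
  · rintro ⟨x, hx, rfl⟩
    have := h ⟨x, hx⟩
    rw [show Subgroup.inclusion (le_sup_right : Q ≤ P ⊔ Q) ⟨x, hx⟩ = x from Subtype.ext rfl] at this
    rw [this]
    exact hx
  · intro hy
    exact ⟨Subgroup.inclusion le_sup_right ⟨y, hy⟩, hy, h ⟨y, hy⟩⟩

/-! ### Normal and central subgroups -/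

theorem isNormal_bot : F.IsNormal ⊥ := by
  refine ⟨bot_le, fun P φ hφ => ⟨φ.comp (Subgroup.inclusion (sup_bot_eq P).le),
    restrict_mem hφ _, fun x => rfl, ?_⟩⟩
  rw [Subgroup.bot_subgroupOf, Subgroup.map_bot]

theorem isCentral_bot : F.IsCentral ⊥ := by
  refine ⟨bot_le, fun P φ hφ => ⟨φ.comp (Subgroup.inclusion (sup_bot_eq P).le),
    restrict_mem hφ _, fun x => rfl, fun x => ?_⟩⟩
  have hx : Subgroup.inclusion (le_sup_right : (⊥ : Subgroup Ω) ≤ P ⊔ ⊥) x = 1 :=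
    Subtype.ext (Subgroup.mem_bot.1 x.2)
  rw [hx, map_one]
  exact (Subgroup.mem_bot.1 x.2).symm

theorem isCentral_sup {Q R : Subgroup Ω} (hQ : F.IsCentral Q) (hR : F.IsCentral R) :
    F.IsCentral (Q ⊔ R) := by
  refine ⟨sup_le hQ.1 hR.1, fun P φ hφ => ?_⟩
  obtain ⟨ψ, hψ, hψP, hψQ⟩ := hQ.2 P φ hφ
  obtain ⟨χ, hχ, hχP, hχR⟩ := hR.2 _ ψ hψ
  refine ⟨χ.comp (Subgroup.inclusion (sup_assoc P Q R).ge), restrict_mem hχ _,
    fun x => (hχP (Subgroup.inclusion le_sup_left x)).trans (hψP x), ?_⟩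
  suffices h : Q ⊔ R ≤ (MonoidHom.eqLocus (χ.comp (Subgroup.inclusion (sup_assoc P Q R).ge))
      (P ⊔ (Q ⊔ R)).subtype).map (P ⊔ (Q ⊔ R)).subtype by
    intro x
    obtain ⟨y, hy, hyx⟩ := h x.2
    rw [show Subgroup.inclusion le_sup_right x = y from Subtype.ext hyx.symm]
    exact (hy : _ = _).trans hyx
  refine sup_le (fun x hx => ?_) (fun x hx => ?_)
  · exact ⟨⟨x, le_sup_right (a := P) (le_sup_left (b := R) hx)⟩,
      (hχP (Subgroup.inclusion le_sup_right ⟨x, hx⟩)).trans (hψQ ⟨x, hx⟩), rfl⟩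
  · exact ⟨⟨x, le_sup_right (a := P) (le_sup_right (a := Q) hx)⟩, hχR ⟨x, hx⟩, rfl⟩

theorem isNormal_sup {Q R : Subgroup Ω} (hQ : F.IsNormal Q) (hR : F.IsNormal R) :
    F.IsNormal (Q ⊔ R) := by
  refine ⟨sup_le hQ.1 hR.1, fun P φ hφ => ?_⟩
  obtain ⟨ψ, hψ, hψP, hψQ⟩ := hQ.2 P φ hφ
  obtain ⟨χ, hχ, hχP, hχR⟩ := hR.2 _ ψ hψ
  refine ⟨χ.comp (Subgroup.inclusion (sup_assoc P Q R).ge), restrict_mem hχ _,
    fun x => (hχP (Subgroup.inclusion le_sup_left x)).trans (hψP x), ?_⟩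
  rw [Subgroup.subgroupOf_sup (le_sup_left.trans le_sup_right) (le_sup_right.trans le_sup_right),
    Subgroup.map_sup]
  congr 1
  · conv_rhs => rw [← hψQ]
    ext y
    constructor
    · rintro ⟨x, hx, rfl⟩
      exact ⟨⟨x, le_sup_right (a := P) hx⟩, hx, (hχP ⟨x, le_sup_right (a := P) hx⟩).symm⟩
    · rintro ⟨x, hx, rfl⟩
      exact ⟨⟨x, le_sup_right (a := P) (le_sup_left (b := R) hx)⟩, hx, hχP x⟩
  · conv_rhs => rw [← hχR]
    ext y
    constructor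
    · rintro ⟨x, hx, rfl⟩
      exact ⟨⟨x, le_sup_right (a := P ⊔ Q) hx⟩, hx, rfl⟩
    · rintro ⟨x, hx, rfl⟩
      exact ⟨⟨x, le_sup_right (a := P) (le_sup_right (a := Q) hx)⟩, hx, rfl⟩

theorem finite_setOf_le [Finite S] : {Q : Subgroup Ω | Q ≤ S}.Finite :=
  Set.Finite.subset (Set.finite_range fun T : Subgroup S => T.map S.subtype) fun _ hQ =>
    ⟨_, Subgroup.map_subgroupOf_eq_of_le hQ⟩

theorem sSup_mem_of_sup_closed [Finite S] {M : Subgroup Ω → Prop} (hle : ∀ Q, M Q → Q ≤ S)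
    (hbot : M ⊥) (hsup : ∀ Q R, M Q → M R → M (Q ⊔ R)) : M (sSup {Q | M Q}) := by
  suffices h : ∀ t : Set (Subgroup Ω), t.Finite → (∀ Q ∈ t, M Q) → M (sSup t) from
    h _ (finite_setOf_le.subset fun Q hQ => hle Q hQ) fun Q hQ => hQ
  intro t ht
  induction t, ht using Set.Finite.induction_on with
  | empty => intro _; rwa [sSup_empty]
  | insert _ _ ih =>
      intro h
      rw [sSup_insert]
      exact hsup _ _ (h _ (Set.mem_insert _ _)) (ih fun Q hQ => h Q (Set.mem_insert_of_mem _ hQ))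

theorem core_isNormal [Finite S] : F.IsNormal F.core :=
  sSup_mem_of_sup_closed (fun _ h => h.1) isNormal_bot fun _ _ => isNormal_sup

theorem center_isCentral [Finite S] : F.IsCentral F.center :=
  sSup_mem_of_sup_closed (fun _ h => h.1) isCentral_bot fun _ _ => isCentral_sup

theorem le_core {Q : Subgroup Ω} (hQ : F.IsNormal Q) : Q ≤ F.core := le_sSup hQ

theorem le_center {Q : Subgroup Ω} (hQ : F.IsCentral Q) : Q ≤ F.center := le_sSup hQ

theorem core_le : F.core ≤ S := sSup_le fun _ h => h.1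

theorem center_le : F.center ≤ S := sSup_le fun _ h => h.1

theorem isCentral_isNormal {Q : Subgroup Ω} (hQ : F.IsCentral Q) : F.IsNormal Q := by
  refine ⟨hQ.1, fun P φ hφ => ?_⟩
  obtain ⟨ψ, hψ, hP, hfix⟩ := hQ.2 P φ hφ
  exact ⟨ψ, hψ, hP, map_eq_of_fix hfix⟩

theorem center_le_core : F.center ≤ F.core := sSup_le fun _ h => le_core (isCentral_isNormal h)

theorem StronglyClosed.img_le {Q R : Subgroup Ω} {φ : R →* Ω} (hQ : F.StronglyClosed Q)
    (hφ : φ ∈ F.Hom R) : img φ Q ≤ Q := by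
  rintro _ ⟨x, hx, rfl⟩
  exact hQ.2 (Q ⊓ R) inf_le_left _ (restrict_mem hφ inf_le_right) ⟨x, hx, x.2⟩

theorem StronglyClosed.apply_mem {Q R : Subgroup Ω} {φ : R →* Ω} (hQ : F.StronglyClosed Q)
    (hφ : φ ∈ F.Hom R) {x : R} (hx : (x : Ω) ∈ Q) : φ x ∈ Q :=
  StronglyClosed.img_le hQ hφ ⟨x, hx, rfl⟩

theorem IsNormal.stronglyClosed {Q : Subgroup Ω} (hQ : F.IsNormal Q) : F.StronglyClosed Q := by
  refine ⟨hQ.1, fun R hR φ hφ x => ?_⟩
  obtain ⟨ψ, -, hψR, hψQ⟩ := hQ.2 R φ hφ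
  rw [← hψR]
  exact hψQ.le ⟨_, hR x.2, rfl⟩

theorem StronglyClosed.normal_in {Q : Subgroup Ω} (hQ : F.StronglyClosed Q) :
    S ≤ Subgroup.normalizer (Q : Set Ω) := by
  rw [Subgroup.le_normalizer_iff]
  intro s hs x hx
  exact hQ.2 Q le_rfl _ (F.conj_mem hQ.1 hs) ⟨x, hx⟩

theorem IsNormal.normal_in {Q : Subgroup Ω} (hQ : F.IsNormal Q) :
    S ≤ Subgroup.normalizer (Q : Set Ω) := StronglyClosed.normal_in (IsNormal.stronglyClosed hQ)

theorem stronglyClosed_top : F.StronglyClosed S :=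
  ⟨le_rfl, fun _ _ _ hφ x => hom_apply_mem hφ x⟩

theorem stronglyClosed_bot : F.StronglyClosed ⊥ := IsNormal.stronglyClosed isNormal_bot

theorem IsCentral.le_centralizer {Q : Subgroup Ω} (hQ : F.IsCentral Q) :
    Q ≤ centralizerIn S S :=
  le_inf hQ.1 fun q hq => Subgroup.mem_centralizer_iff.2 fun s hs => by
    obtain ⟨ψ, -, hψS, hψQ⟩ := hQ.2 S (conjHom S s) (F.conj_mem le_rfl hs)
    have h1 := hψS ⟨q, hQ.1 hq⟩
    rw [show Subgroup.inclusion (le_sup_left : S ≤ S ⊔ Q) ⟨q, hQ.1 hq⟩ =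
      Subgroup.inclusion (le_sup_right : Q ≤ S ⊔ Q) ⟨q, hq⟩ from Subtype.ext rfl, hψQ] at h1
    exact (eq_mul_inv_iff_mul_eq.1 h1).symm

/-! ### Conjugate elements -/

theorem isConjElt_of_hom {P : Subgroup Ω} {φ : P →* Ω} (hφ : φ ∈ F.Hom P) (x : P) :
    F.IsConjElt x (φ x) :=
  ⟨_, restrict_mem hφ (Subgroup.zpowers_le.2 x.2), rfl⟩

/-- Centrality in terms of conjugacy classes of elements. -/
theorem isCentral_iff [Finite S] [Fact p.Prime] (hS : IsPGroup p S) (hF : F.IsSaturated p)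
    {Q : Subgroup Ω} : F.IsCentral Q ↔ Q ≤ S ∧ ∀ x ∈ Q, ∀ y : Ω, F.IsConjElt x y → y = x := by
  constructor
  · intro hQ
    refine ⟨hQ.1, fun x hx y hy => ?_⟩
    obtain ⟨φ, hφ, rfl⟩ := hy
    obtain ⟨ψ, -, hP, hfix⟩ := hQ.2 _ φ hφ
    rw [← hP]
    exact hfix ⟨x, hx⟩
  · rintro ⟨hQS, h⟩
    have hfix : ∀ {R : Subgroup Ω} {φ : R →* Ω}, φ ∈ F.Hom R → ∀ x : R, (x : Ω) ∈ Q → φ x = x :=
      fun hφ x hx => h x hx _ (isConjElt_of_hom hφ x)
    have hZ : ∀ P : Subgroup Ω, P ≤ S → Q ≤ centralizerIn S P := by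
      intro P hP x hx
      refine mem_centralizerIn.2 ⟨hQS hx, fun s hs => ?_⟩
      have := hfix (F.conj_mem hQS (hP hs)) ⟨x, hx⟩ hx
      exact mul_inv_eq_iff_eq_mul.1 this
    refine ⟨hQS, fun P φ hφ => ?_⟩
    obtain ⟨T, hT, hTn⟩ := exists_fullyNormalized (F := F) (hom_le hφ)
    have hTr := IsSaturated.receptive hS hF (IsSaturated.fullyCentralized hS hF hTn)
    obtain ⟨d, hd, hdv⟩ := exists_iso hφ rfl
    obtain ⟨e, he⟩ := isConj_iff.1 (isConj_trans (isConj_symm hd.isConj) hT)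
    have key : ∀ {A : Subgroup Ω} {a : A ≃* T}, IsoIn F a → ∃ ψ ∈ F.Hom (A ⊔ Q),
        (∀ x : A, ψ (Subgroup.inclusion le_sup_left x) = a x) ∧ ψ.range = T ⊔ Q ∧
        ∀ x : Q, ψ (Subgroup.inclusion le_sup_right x) = x := by
      intro A a ha
      obtain ⟨ψ, hψ, hag⟩ := exists_extension hTr ha le_sup_left
        ((sup_le_sup_left (hZ A ha.le_left) A).trans (sup_le_extender ha))
      have hq : ∀ x : Q, ψ (Subgroup.inclusion le_sup_right x) = x := fun x => hfix hψ _ x.2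
      refine ⟨ψ, hψ, hag, ?_, hq⟩
      rw [ext_range (φ := isoHom a) hag (map_eq_of_fix hq), isoHom_range]
    obtain ⟨χ, hχ, hχa, hχr, -⟩ := key (hd.trans he)
    obtain ⟨θ, hθ, hθa, hθr, -⟩ := key he
    obtain ⟨θi, hθi, -, hl, -⟩ := exists_inv hθ hθr
    have hmem : ∀ x, χ x ∈ T ⊔ Q := fun x => hχr ▸ ⟨x, rfl⟩
    have hψ := F.comp_mem hχ hθi hmem
    refine ⟨_, hψ, fun x => ?_, fun x => hfix hψ _ x.2⟩
    have h1 : θ (Subgroup.inclusion le_sup_left (d x)) = χ (Subgroup.inclusion le_sup_left x) := by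
      rw [hθa, hχa]
      rfl
    calc θi ((χ.codRestrict (T ⊔ Q) hmem) (Subgroup.inclusion le_sup_left x))
        = θi ⟨θ (Subgroup.inclusion le_sup_left (d x)), h1 ▸ hmem _⟩ :=
          congrArg θi (Subtype.ext h1.symm)
      _ = φ x := (hl _ _).trans (hdv x)

/-! ### Normalizer and centralizer systems -/

theorem normalizerIn_conj_map {P Q : Subgroup Ω} {g : Ω}
    (hg : g ∈ Subgroup.normalizer (Q : Set Ω)) :
    (Q.subgroupOf (P ⊔ Q)).map (conjHom (P ⊔ Q) g) = Q := by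
  ext y
  constructor
  · rintro ⟨x, hx, rfl⟩
    exact conj_mem_of_mem_normalizer hg hx
  · intro hy
    have : g⁻¹ * y * g ∈ Q := by simpa using conj_mem_of_mem_normalizer (inv_mem hg) hy
    exact ⟨⟨_, le_sup_right (a := P) this⟩, this, by simp [conjHom, mul_assoc]⟩

/-- The normalizer fusion system `N_F(Q)`. -/
def normSystem (F : FusionSystem S) (Q : Subgroup Ω) (hQ : Q ≤ S) :
    FusionSystem (normalizerIn S Q) where
  Hom P := F.normalizerHom Q P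
  le_of_mem h := ⟨h.2.1, h.2.2.1⟩
  injective_of_mem h := F.injective_of_mem h.1
  conj_mem := by
    intro P g hP hg
    refine ⟨F.conj_mem (hP.trans (normalizerIn_le Q)) hg.1, hP,
      fun x => (normalizerIn S Q).mul_mem ((normalizerIn S Q).mul_mem hg (hP x.2))
        ((normalizerIn S Q).inv_mem hg),
      conjHom _ g, F.conj_mem (sup_le (hP.trans (normalizerIn_le Q)) hQ) hg.1, fun x => rfl,
      normalizerIn_conj_map hg.2⟩
  comp_mem := by
    rintro P R φ ψ ⟨hφ, hP, hφN, a, ha, haP, haQ⟩ ⟨hψ, hR, hψN, b, hb, hbR, hbQ⟩ h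
    have hmem : ∀ x, a x ∈ R ⊔ Q := by
      intro x
      have hr : a.range ≤ R ⊔ Q := by
        rw [ext_range haP haQ]
        exact sup_le_sup_right (by rintro _ ⟨y, rfl⟩; exact h y) Q
      exact hr ⟨x, rfl⟩
    refine ⟨F.comp_mem hφ hψ h, hP, fun x => hψN _, _, F.comp_mem ha hb hmem, fun x => ?_, ?_⟩
    · show b _ = ψ _
      rw [← hbR]
      exact congrArg b (Subtype.ext (haP x))
    · ext y
      constructor
      · rintro ⟨x, hx, rfl⟩
        exact hbQ.le ⟨_, (haQ.le ⟨x, hx, rfl⟩ : a x ∈ Q), rfl⟩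
      · intro hy
        rw [← hbQ] at hy
        obtain ⟨z, hz, rfl⟩ := hy
        obtain ⟨w, hw, hwz⟩ := haQ.ge (hz : (z : Ω) ∈ Q)
        exact ⟨w, hw, congrArg b (Subtype.ext hwz)⟩
  inv_mem := by
    rintro P φ ⟨hφ, hP, hφN, a, ha, haP, haQ⟩
    obtain ⟨φi, hφi, hr, hl, -⟩ := exists_inv hφ rfl
    obtain ⟨ai, hai, -, hal, -⟩ := exists_inv ha (ext_range haP haQ)
    refine ⟨φi, ⟨hφi, ?_, fun x => hP (hr.le ⟨x, rfl⟩), ai, hai, ?_, ?_⟩, fun x => hl x _⟩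
    · rintro _ ⟨x, rfl⟩
      exact hφN x
    · rintro ⟨_, x, rfl⟩
      rw [hl x ⟨x, rfl⟩]
      have hm : a (Subgroup.inclusion le_sup_left x) ∈ φ.range ⊔ Q :=
        (ext_range haP haQ).le ⟨_, rfl⟩
      exact Eq.trans (congrArg ai (Subtype.ext (haP x).symm :
        (Subgroup.inclusion le_sup_left ⟨φ x, ⟨x, rfl⟩⟩ : ↥(φ.range ⊔ Q)) = ⟨_, hm⟩)) (hal _ hm)
    · ext y
      constructor
      · rintro ⟨z, hz, rfl⟩
        obtain ⟨w, hw, hwz⟩ := haQ.ge (hz : (z : Ω) ∈ Q)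
        have hzeq : (⟨a w, hwz ▸ z.2⟩ : ↥(φ.range ⊔ Q)) = z := Subtype.ext hwz
        rw [← hzeq, hal]
        exact hw
      · intro hy
        have hay := haQ.le ⟨⟨y, le_sup_right (a := P) hy⟩, hy, rfl⟩
        exact ⟨⟨_, le_sup_right (a := φ.range) hay⟩, hay, hal _ _⟩

theorem normSystem_isNormalizerSystem (F : FusionSystem S) (Q : Subgroup Ω) (hQ : Q ≤ S) :
    F.IsNormalizerSystem Q (normSystem F Q hQ) := fun _ => rfl

/-- The centralizer fusion system `C_F(Q)`. -/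
def centSystem (F : FusionSystem S) (Q : Subgroup Ω) (hQ : Q ≤ S) :
    FusionSystem (centralizerIn S Q) where
  Hom P := F.centralizerHom Q P
  le_of_mem h := ⟨h.2.1, h.2.2.1⟩
  injective_of_mem h := F.injective_of_mem h.1
  conj_mem := by
    intro P g hP hg
    refine ⟨F.conj_mem (hP.trans (centralizerIn_le Q)) hg.1, hP,
      fun x => (centralizerIn S Q).mul_mem ((centralizerIn S Q).mul_mem hg (hP x.2))
        ((centralizerIn S Q).inv_mem hg),
      conjHom _ g, F.conj_mem (sup_le (hP.trans (centralizerIn_le Q)) hQ) hg.1, fun x => rfl,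
      fun x => ?_⟩
    show g * (x : Ω) * g⁻¹ = x
    rw [← (mem_centralizerIn.1 hg).2 x x.2, mul_inv_cancel_right]
  comp_mem := by
    rintro P R φ ψ ⟨hφ, hP, hφN, a, ha, haP, haQ⟩ ⟨hψ, hR, hψN, b, hb, hbR, hbQ⟩ h
    have hmem : ∀ x, a x ∈ R ⊔ Q := by
      intro x
      have hr : a.range ≤ R ⊔ Q := by
        rw [ext_range haP (map_eq_of_fix haQ)]
        exact sup_le_sup_right (by rintro _ ⟨y, rfl⟩; exact h y) Q
      exact hr ⟨x, rfl⟩
    refine ⟨F.comp_mem hφ hψ h, hP, fun x => hψN _, _, F.comp_mem ha hb hmem, fun x => ?_,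
      fun x => ?_⟩
    · show b _ = ψ _
      rw [← hbR]
      exact congrArg b (Subtype.ext (haP x))
    · exact (congrArg b (Subtype.ext (haQ x))).trans (hbQ x)
  inv_mem := by
    rintro P φ ⟨hφ, hP, hφN, a, ha, haP, haQ⟩
    obtain ⟨φi, hφi, hr, hl, -⟩ := exists_inv hφ rfl
    obtain ⟨ai, hai, -, hal, -⟩ := exists_inv ha (ext_range haP (map_eq_of_fix haQ))
    refine ⟨φi, ⟨hφi, ?_, fun x => hP (hr.le ⟨x, rfl⟩), ai, hai, ?_, fun x => ?_⟩, fun x => hl x _⟩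
    · rintro _ ⟨x, rfl⟩
      exact hφN x
    · rintro ⟨_, x, rfl⟩
      rw [hl x ⟨x, rfl⟩]
      have hm : a (Subgroup.inclusion le_sup_left x) ∈ φ.range ⊔ Q :=
        (ext_range haP (map_eq_of_fix haQ)).le ⟨_, rfl⟩
      exact Eq.trans (congrArg ai (Subtype.ext (haP x).symm :
        (Subgroup.inclusion le_sup_left ⟨φ x, ⟨x, rfl⟩⟩ : ↥(φ.range ⊔ Q)) = ⟨_, hm⟩)) (hal _ hm)
    · have hm : a (Subgroup.inclusion le_sup_right x) ∈ φ.range ⊔ Q :=
        (ext_range haP (map_eq_of_fix haQ)).le ⟨_, rfl⟩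
      exact Eq.trans (congrArg ai (Subtype.ext (haQ x).symm :
        (Subgroup.inclusion le_sup_right x : ↥(φ.range ⊔ Q)) = ⟨_, hm⟩)) (hal _ hm)

theorem centSystem_isCentralizerSystem (F : FusionSystem S) (Q : Subgroup Ω) (hQ : Q ≤ S) :
    F.IsCentralizerSystem Q (centSystem F Q hQ) := fun _ => rfl

/-- A characteristic subgroup of a normal subgroup is normal. -/
theorem isNormal_of_characteristic {Q U : Subgroup Ω} (hQ : F.IsNormal Q) (hUQ : U ≤ Q)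
    (hU : (U.subgroupOf Q).Characteristic) : F.IsNormal U := by
  refine ⟨hUQ.trans hQ.1, fun P φ hφ => ?_⟩
  obtain ⟨ψ, hψ, hψP, hψQ⟩ := hQ.2 P φ hφ
  have hle : P ⊔ U ≤ P ⊔ Q := sup_le_sup_left hUQ P
  refine ⟨ψ.comp (Subgroup.inclusion hle), restrict_mem hψ _, hψP, ?_⟩
  have hr : (ψ.comp (Subgroup.inclusion (le_sup_right : Q ≤ P ⊔ Q))).range = Q := by
    rw [range_restrict]
    exact hψQ
  obtain ⟨f, -, hfv⟩ := exists_iso (restrict_mem hψ (le_sup_right : Q ≤ P ⊔ Q)) hr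
  have hch := Subgroup.characteristic_iff_map_eq.1 hU f
  ext y
  constructor
  · rintro ⟨x, hx, rfl⟩
    have := hch.le ⟨⟨x, hUQ hx⟩, hx, rfl⟩
    have e : ψ (Subgroup.inclusion hle x) = (f ⟨x, hUQ hx⟩ : Ω) :=
      (hfv ⟨x, hUQ hx⟩).symm
    show ψ (Subgroup.inclusion hle x) ∈ U
    rw [e]
    exact this
  · intro hy
    obtain ⟨z, hz, hzy⟩ := hch.ge (show (⟨y, hUQ hy⟩ : Q) ∈ U.subgroupOf Q from hy)
    refine ⟨⟨z, le_sup_right (a := P) (hz : (z : Ω) ∈ U)⟩, hz, ?_⟩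
    exact (hfv z).symm.trans (congrArg Subtype.val hzy)

end CfsgLib.Fusion
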