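import Cfsg.Agent.Lib.Fusion.Transport
import Cfsg.Agent.Lib.Fusion.Normal

/-!
Normal subgroups of a finite group and the fusion system on a Sylow subgroup.
-/

set_option autoImplicit false

namespace CfsgLib.Fusion

open Cfsg Cfsg.FusionSystem
open scoped Pointwise

variable {G : Type*} [Group G] [Finite G] {p : ℕ} [Fact p.Prime]

theorem isSylowIn_normalizer_of_normal_in (S : Sylow p G) {R : Subgroup G}
    (h : (S : Subgroup G) ≤ Subgroup.normalizer (R : Set G)) :
    IsSylowIn p (normalizerIn (S : Subgroup G) R) (Subgroup.normalizer (R : Set G)) := by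
  have : normalizerIn (S : Subgroup G) R = S := inf_eq_left.2 h
  rw [this]
  exact ⟨S.subtype h, rfl⟩

/-- `S ⊓ H` is Sylow in a normal subgroup `H`. -/
theorem isSylowIn_inf_normal (S : Sylow p G) (H : Subgroup G) [H.Normal] :
    IsSylowIn p ((S : Subgroup G) ⊓ H) H := by
  obtain ⟨T, hT, hTH, hTp, hTs⟩ := exists_isSylowIn_ge (p := p)
    (inf_le_right : (S : Subgroup G) ⊓ H ≤ H) (S.isPGroup'.to_le inf_le_left)
  obtain ⟨U, hU⟩ := hTp.exists_le_sylow
  obtain ⟨g, hg⟩ := MulAction.exists_smul_eq G U S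
  have hle : conjOf g T ≤ (S : Subgroup G) ⊓ H := by
    rintro _ ⟨t, ht, rfl⟩
    refine ⟨?_, ?_⟩
    · have : (MulAut.conj g).toMonoidHom t ∈ MulAut.conj g • (U : Subgroup G) :=
        ⟨t, hU ht, rfl⟩
      rwa [← Sylow.coe_subgroup_smul, hg] at this
    · exact Subgroup.Normal.conj_mem inferInstance t (hTH ht) g
  have h1 : Nat.card T ≤ Nat.card ((S : Subgroup G) ⊓ H : Subgroup G) := by
    rw [← card_conjOf g T]
    exact Subgroup.card_le_of_le hle
  rwa [← Subgroup.eq_of_le_of_card_ge hT h1] at hTs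

/-- Normal `p`-subgroups are normal in the fusion system. -/
theorem groupFusion_isNormal (S : Sylow p G) (R : Subgroup G) [R.Normal] (hR : IsPGroup p R) :
    (groupFusionSystem (S : Subgroup G)).IsNormal R := by
  have hRS : R ≤ S := (Core.le_pCore hR).trans (Core.pCore_le_sylow S)
  refine ⟨hRS, ?_⟩
  rintro P φ ⟨hP, hφ, g, hg⟩
  have hN : g ∈ Subgroup.normalizer (R : Set G) := by
    rw [Subgroup.normalizer_eq_top]
    trivial
  refine ⟨conjHom _ g, ⟨sup_le hP hRS, ?_, g, fun x => rfl⟩, fun x => (hg x).symm,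
    normalizerIn_conj_map hN⟩
  have : (conjHom (P ⊔ R) g).range ≤ S := by
    rw [ext_range (φ := φ) (fun x => (hg x).symm) (normalizerIn_conj_map hN)]
    exact sup_le (by rintro _ ⟨x, rfl⟩; exact hφ x) hRS
  exact fun x => this ⟨x, rfl⟩

/-- The system of a normal subgroup is normal in the system of the group. -/
theorem normalSubgroup_isNormalIn (S : Sylow p G) (H : Subgroup G) [H.Normal] :
    (fusionSystemOfSubgroup H ((S : Subgroup G) ⊓ H) inf_le_right).IsNormalIn
      (groupFusionSystem (S : Subgroup G)) p := by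
  set T := (S : Subgroup G) ⊓ H with hT
  have hTS : T ≤ S := inf_le_left
  have hTH : T ≤ H := inf_le_right
  have hTs : IsSylowIn p T H := isSylowIn_inf_normal S H
  have hSN : (S : Subgroup G) ≤ Subgroup.normalizer (T : Set G) := by
    rw [Subgroup.le_normalizer_iff]
    exact fun s hs t ht => ⟨(S : Subgroup G).mul_mem ((S : Subgroup G).mul_mem hs ht.1)
      ((S : Subgroup G).inv_mem hs), Subgroup.Normal.conj_mem inferInstance t ht.2 s⟩
  refine ⟨⟨fusionSystemOfSubgroup_saturated hTH hTs, groupFusion_saturated S, ?_, ?_, ?_, ?_⟩, ?_⟩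
  · rintro P φ ⟨hP, hφ, g, -, hg⟩
    exact ⟨hP.trans hTS, fun x => hTS (hφ x), g, hg⟩
  · refine ⟨hTS, ?_⟩
    rintro R hR φ ⟨-, hφ, g, hg⟩ x
    refine ⟨hφ x, ?_⟩
    rw [hg]
    exact Subgroup.Normal.conj_mem inferInstance _ (hTH (hR x.2)) g
  · rintro P hPT φ ⟨-, hφ, h, hh, hhv⟩ α hα
    obtain ⟨-, -, g, hg⟩ := (mem_autGroup_iff hTS).1 hα
    have hαv : ∀ t : T, ((α t : T) : G) = g * (t : G) * g⁻¹ := hg
    have hv : ∀ (x : P) (hx : φ x ∈ T),
        (g * h * g⁻¹) * ((α ⟨x, hPT x.2⟩ : T) : G) * (g * h * g⁻¹)⁻¹ =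
          ((α ⟨φ x, hx⟩ : T) : G) := by
      intro x hx
      rw [hαv, hαv]
      show _ = g * φ x * g⁻¹
      rw [hhv x]
      group
    refine ⟨conjHom _ (g * h * g⁻¹), ⟨?_, ?_, g * h * g⁻¹,
      Subgroup.Normal.conj_mem inferInstance h hh g, fun _ => rfl⟩, fun x hx hm => hv x hx⟩
    · rintro _ ⟨t, -, rfl⟩
      exact (α t).2
    · rintro ⟨_, t, ht, rfl⟩
      show (g * h * g⁻¹) * ((α t : T) : G) * (g * h * g⁻¹)⁻¹ ∈ T
      have := hv ⟨t, ht⟩ (hφ _)
      exact Set.mem_of_eq_of_mem this (α _).2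
  · rintro P hPT φ ⟨-, hφ, g, hg⟩
    -- the Frattini argument
    obtain ⟨h, hh, hconj⟩ := hTs.exists_conj_mem (X := conjOf g T)
      (by rintro _ ⟨t, ht, rfl⟩; exact Subgroup.Normal.conj_mem inferInstance t (hTH ht) g)
      ((S.isPGroup'.to_le hTS).map _)
    set n := h * g with hn
    have hnT : ∀ t ∈ T, n * t * n⁻¹ ∈ T := by
      intro t ht
      have := hconj _ (conj_mem_conjOf (g := g) ht)
      simpa [hn, mul_assoc] using this
    have hnN : n ∈ Subgroup.normalizer (T : Set G) := by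
      rw [Subgroup.mem_normalizer_iff_map_conj_eq]
      refine Subgroup.eq_of_le_of_card_ge ?_ (card_conjOf n T).ge
      rintro _ ⟨t, ht, rfl⟩
      exact hnT t ht
    have hφT : ∀ x : P, φ x ∈ T := fun x =>
      ⟨hφ x, (hg x).symm ▸ Subgroup.Normal.conj_mem inferInstance _ (hTH (hPT x.2)) g⟩
    refine ⟨T.normalizerMonoidHom ⟨n, hnN⟩, (mem_autGroup_iff hTS).2
      ⟨hTS, fun t => hTS (hnT t t.2), n, fun t => rfl⟩, conjHom P (n⁻¹ * g),
      ⟨hPT, fun x => ?_, n⁻¹ * g, ?_, fun _ => rfl⟩, fun x hx => ?_⟩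
    · show n⁻¹ * g * (x : G) * (n⁻¹ * g)⁻¹ ∈ T
      have h1 := conj_mem_of_mem_normalizer (inv_mem hnN) (hφT x)
      rw [hg] at h1
      simpa [mul_assoc] using h1
    · have : n⁻¹ * g = g⁻¹ * h⁻¹ * g⁻¹⁻¹ := by
        rw [hn]
        group
      rw [this]
      exact Subgroup.Normal.conj_mem inferInstance _ (H.inv_mem hh) _
    · show φ x = n * (n⁻¹ * g * (x : G) * (n⁻¹ * g)⁻¹) * n⁻¹
      rw [hg]
      group
  · -- the extension condition
    intro α hα
    obtain ⟨-, -, h, hh, hhv'⟩ := (mem_autGroup_iff le_rfl).1 hα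
    have hhv : ∀ t : T, ((α t : T) : G) = h * (t : G) * h⁻¹ := hhv'
    have hhN : h ∈ Subgroup.normalizer (T : Set G) := mem_normalizer_of_conj_eq α hhv
    set C := Subgroup.centralizer (T : Set G) with hC
    set U := T ⊔ centralizerIn (S : Subgroup G) T with hU
    set CH := C ⊓ H with hCH
    have hUS : U ≤ S := sup_le hTS (centralizerIn_le _)
    have hCN : C ≤ Subgroup.normalizer (T : Set G) := Subgroup.centralizer_le_normalizer _
    have hNC : Subgroup.normalizer (T : Set G) ≤ Subgroup.normalizer (C : Set G) := by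
      intro n hn
      rw [Subgroup.mem_normalizer_iff_map_conj_eq]
      show conjOf n C = C
      rw [hC, conjOf_centralizer,
        show conjOf n T = T from Subgroup.mem_normalizer_iff_map_conj_eq.1 hn]
    have hUN : U ≤ Subgroup.normalizer (CH : Set G) := by
      rw [Subgroup.le_normalizer_iff]
      intro u hu c hc
      exact ⟨conj_mem_of_mem_normalizer (hNC (hSN (hUS hu))) hc.1,
        Subgroup.Normal.conj_mem inferInstance c hc.2 u⟩
    set L := U ⊔ CH with hL
    have hTC : T ≤ Subgroup.normalizer (C : Set G) := Subgroup.le_normalizer.trans hNC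
    have hLTC : L ≤ T ⊔ C :=
      sup_le (sup_le_sup_left inf_le_right _) (inf_le_left.trans le_sup_right)
    have hcs : IsSylowIn p (centralizerIn (S : Subgroup G) T) C :=
      (sylow_parts S (isSylowIn_normalizer_of_normal_in S hSN)).1
    have hUs : IsSylowIn p U (T ⊔ C) := by
      have hUTC : U ≤ T ⊔ C := sup_le_sup_left inf_le_right _
      obtain ⟨X, hUX, hX, hXp, hXs⟩ := exists_isSylowIn_ge (p := p) hUTC (S.isPGroup'.to_le hUS)
      have hXU : X ≤ U := by
        intro x hx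
        have hx' : x ∈ (T : Set G) * (C : Set G) := by
          rw [← Subgroup.coe_mul_of_left_le_normalizer_right T C hTC]
          exact hX hx
        obtain ⟨t, ht, c, hc, rfl⟩ := hx'
        have hcX : c ∈ X := by
          have := X.mul_mem (X.inv_mem (hUX (le_sup_left (b := centralizerIn (S : Subgroup G) T) ht))) hx
          rwa [inv_mul_cancel_left] at this
        have heq := hcs.eq_of_le (centralizerIn_le_centralizer T)
          (X := X ⊓ C) (le_inf (le_sup_right.trans hUX) (centralizerIn_le_centralizer T))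
          inf_le_right (hXp.to_le inf_le_left)
        exact Subgroup.mul_mem_sup ht (heq.le ⟨hcX, hc⟩)
      rwa [le_antisymm hXU hUX] at hXs
    have hUsL : IsSylowIn p U L := by
      obtain ⟨X, hUX, hX, hXp, hXs⟩ :=
        exists_isSylowIn_ge (p := p) (le_sup_left : U ≤ L) (S.isPGroup'.to_le hUS)
      rwa [hUs.eq_of_le (sup_le_sup_left inf_le_right _) hUX (hX.trans hLTC) hXp] at hXs
    have hUL : conjOf h U ≤ L := by
      rw [conjOf, Subgroup.map_le_iff_le_comap]
      refine sup_le (fun t ht => ?_) (fun c hc => ?_)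
      · exact le_sup_left (b := CH) (le_sup_left (b := centralizerIn (S : Subgroup G) T)
          (conj_mem_of_mem_normalizer hhN ht))
      · show h * c * h⁻¹ ∈ L
        have h1 : c⁻¹ * (h * c * h⁻¹) ∈ CH := by
          refine ⟨C.mul_mem (C.inv_mem hc.2) (conj_mem_of_mem_normalizer (hNC hhN) hc.2), ?_⟩
          have := H.mul_mem (Subgroup.Normal.conj_mem inferInstance h hh c⁻¹) (H.inv_mem hh)
          simpa [mul_assoc] using this
        have := Subgroup.mul_mem_sup (le_sup_right (a := T) hc) h1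
        rwa [mul_inv_cancel_left] at this
    obtain ⟨l, hl, hlU⟩ := hUsL.exists_conj_mem hUL ((S.isPGroup'.to_le hUS).map _)
    have hl' : l ∈ (U : Set G) * (CH : Set G) := by
      rw [← Subgroup.coe_mul_of_left_le_normalizer_right U CH hUN]
      exact hl
    obtain ⟨u, hu, k, hk, rfl⟩ := hl'
    set m := k * h with hm
    have hmU : ∀ y ∈ U, m * y * m⁻¹ ∈ U := by
      intro y hy
      have h2 := U.mul_mem (U.mul_mem (U.inv_mem hu) (hlU _ (conj_mem_conjOf (g := h) hy))) hu
      simpa [hm, mul_assoc] using h2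
    have hmH : m ∈ H := H.mul_mem hk.2 hh
    have hmN : m ∈ Subgroup.normalizer (U : Set G) := by
      rw [Subgroup.mem_normalizer_iff_map_conj_eq]
      refine Subgroup.eq_of_le_of_card_ge ?_ (card_conjOf m U).ge
      rintro _ ⟨t, ht, rfl⟩
      exact hmU t ht
    refine ⟨U.normalizerMonoidHom ⟨m, hmN⟩, (mem_autGroup_iff hUS).2
      ⟨hUS, fun y => hUS (hmU y y.2), m, fun _ => rfl⟩, fun x => ?_, fun c hc => ?_⟩
    · show m * (x : G) * m⁻¹ = _
      rw [hhv]
      have h1 := Subgroup.mem_centralizer_iff.1 hk.1 _ (conj_mem_of_mem_normalizer hhN x.2)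
      calc m * (x : G) * m⁻¹ = k * (h * x * h⁻¹) * k⁻¹ := by rw [hm]; group
        _ = h * x * h⁻¹ * k * k⁻¹ := by rw [h1]
        _ = h * x * h⁻¹ := by group
    · show (c : G)⁻¹ * (m * c * m⁻¹) ∈ T ⊓ C
      have hH : (c : G)⁻¹ * (m * c * m⁻¹) ∈ H := by
        have := H.mul_mem (Subgroup.Normal.conj_mem inferInstance m hmH (c : G)⁻¹) (H.inv_mem hmH)
        simpa [mul_assoc] using this
      refine ⟨⟨(S : Subgroup G).mul_mem ((S : Subgroup G).inv_mem (centralizerIn_le T hc))
        (hUS (hmU c c.2)), hH⟩, C.mul_mem (C.inv_mem hc.2) (conj_mem_of_mem_normalizer ?_ hc.2)⟩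
      exact mul_mem (hNC (hCN hk.1)) (hNC hhN)

end CfsgLib.Fusion
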