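import Cfsg.Agent.Lib.Fusion.Product
import Cfsg.Agent.Lib.Fusion.Centric
import Cfsg.Agent.Lib.Fusion.NormalSubgroup
import Cfsg.Agent.Lib.Fusion.Invariant

/-!
# Factor systems: lifting of maps and saturation
-/

set_option autoImplicit false

namespace CfsgLib.Fusion

open Cfsg Cfsg.FusionSystem

variable {Ω : Type*} [Group Ω] {S : Subgroup Ω} {F : FusionSystem S} {p : ℕ}

theorem apply_mem_of_sup {P T U : Subgroup Ω} {ψ : ↥(P ⊔ T) →* Ω}
    (hP : ∀ x : P, ψ (Subgroup.inclusion le_sup_left x) ∈ U)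
    (hT : ∀ x : T, ψ (Subgroup.inclusion le_sup_right x) ∈ U) (z : ↥(P ⊔ T)) : ψ z ∈ U := by
  have h : P ⊔ T ≤ (U.comap ψ).map (P ⊔ T).subtype :=
    sup_le (fun x hx => ⟨_, hP ⟨x, hx⟩, rfl⟩) (fun x hx => ⟨_, hT ⟨x, hx⟩, rfl⟩)
  obtain ⟨w, hw, hwz⟩ := h z.2
  exact (Subtype.ext hwz : w = z) ▸ hw

/-- The maps of `F` that agree modulo the strongly closed `T` with a map defined on `T` as well. -/
def liftSystem [Finite S] (F : FusionSystem S) {T : Subgroup Ω} (hT : F.StronglyClosed T) :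
    FusionSystem S where
  Hom P := {φ | φ ∈ F.Hom P ∧ ∃ ψ ∈ F.Hom (P ⊔ T),
    ∀ x : P, (ψ (Subgroup.inclusion le_sup_left x))⁻¹ * φ x ∈ T}
  le_of_mem h := F.le_of_mem h.1
  injective_of_mem h := F.injective_of_mem h.1
  conj_mem {P g} hP hg := ⟨F.conj_mem hP hg, conjHom _ g, F.conj_mem (sup_le hP hT.1) hg, fun x => by
    show (g * (x : Ω) * g⁻¹)⁻¹ * (g * (x : Ω) * g⁻¹) ∈ T
    rw [inv_mul_cancel]; exact T.one_mem⟩
  comp_mem := by
    rintro P Q φ φ₂ ⟨hφ, ψ, hψ, hv⟩ ⟨hφ₂, ψ₂, hψ₂, hv₂⟩ h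
    have hP : ∀ x : P, ψ (Subgroup.inclusion le_sup_left x) ∈ Q ⊔ T := fun x => by
      have h1 : ψ (Subgroup.inclusion le_sup_left x) =
          φ x * ((ψ (Subgroup.inclusion le_sup_left x))⁻¹ * φ x)⁻¹ := by group
      rw [h1]
      exact mul_mem (Subgroup.mem_sup_left (h x)) (Subgroup.mem_sup_right (inv_mem (hv x)))
    have hm : ∀ z, ψ z ∈ Q ⊔ T := apply_mem_of_sup hP fun x =>
      Subgroup.mem_sup_right (StronglyClosed.apply_mem hT hψ x.2)
    refine ⟨F.comp_mem hφ hφ₂ h, _, F.comp_mem hψ hψ₂ hm, fun x => ?_⟩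
    set a := Subgroup.inclusion (le_sup_left : P ≤ P ⊔ T) x
    set t : ↥(Q ⊔ T) := ⟨(ψ a)⁻¹ * φ x, Subgroup.mem_sup_right (hv x)⟩ with ht
    have h1 : Subgroup.inclusion (le_sup_left : Q ≤ Q ⊔ T) ⟨φ x, h x⟩ = ⟨ψ a, hm a⟩ * t :=
      Subtype.ext (mul_inv_cancel_left (ψ a) (φ x)).symm
    have h2 := hv₂ ⟨φ x, h x⟩
    rw [h1, map_mul] at h2
    show (ψ₂ ⟨ψ a, hm a⟩)⁻¹ * φ₂ ⟨φ x, h x⟩ ∈ T
    have h3 : (ψ₂ ⟨ψ a, hm a⟩)⁻¹ * φ₂ ⟨φ x, h x⟩ =
        ψ₂ t * ((ψ₂ ⟨ψ a, hm a⟩ * ψ₂ t)⁻¹ * φ₂ ⟨φ x, h x⟩) := by group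
    rw [h3]
    exact T.mul_mem (StronglyClosed.apply_mem hT hψ₂ (show (t : Ω) ∈ T from hv x)) h2
  inv_mem := by
    rintro P φ ⟨hφ, ψ, hψ, hv⟩
    obtain ⟨χ, hχ, -, hχv, -⟩ := exists_inv hφ rfl
    have hTimg : T = img ψ T :=
      ((StronglyClosed.weaklyClosed hT).2 _
        (restrict_mem hψ (le_sup_right : T ≤ P ⊔ T))).symm.trans (range_restrict ψ le_sup_right)
    have hle : φ.range ⊔ T ≤ ψ.range := by
      refine sup_le ?_ (fun y hy => ?_)
      · rintro _ ⟨x, rfl⟩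
        rw [← mul_inv_cancel_left (ψ (Subgroup.inclusion le_sup_left x)) (φ x)]
        exact mul_mem ⟨_, rfl⟩ (img_le_range ψ T (hTimg.le (hv x)))
      · exact img_le_range ψ T (hTimg.le hy)
    obtain ⟨θ, hθ, -, hθv, -⟩ := exists_inv hψ rfl
    refine ⟨χ, ⟨hχ, θ.comp (Subgroup.inclusion hle), restrict_mem hθ hle, fun y => ?_⟩, fun x => hχv x _⟩
    obtain ⟨_, x, rfl⟩ := y
    have hx0 : χ ⟨φ x, MonoidHom.mem_range.2 ⟨x, rfl⟩⟩ = (x : Ω) := hχv x _
    rw [show χ (⟨φ x, _⟩ : φ.range) = (x : Ω) from hx0]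
    set a := Subgroup.inclusion (le_sup_left : P ≤ P ⊔ T) x
    have h1 : Subgroup.inclusion hle (Subgroup.inclusion le_sup_left ⟨φ x, ⟨x, rfl⟩⟩) =
        ⟨ψ a, MonoidHom.mem_range.2 ⟨a, rfl⟩⟩ * ⟨(ψ a)⁻¹ * φ x, img_le_range ψ T (hTimg.le (hv x))⟩ :=
      Subtype.ext (mul_inv_cancel_left (ψ a) (φ x)).symm
    show (θ (Subgroup.inclusion hle (Subgroup.inclusion le_sup_left ⟨φ x, _⟩)))⁻¹ * (x : Ω) ∈ T
    have hθa : θ ⟨ψ a, MonoidHom.mem_range.2 ⟨a, rfl⟩⟩ = (a : Ω) := hθv a _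
    rw [h1, map_mul, hθa, mul_inv_rev, mul_assoc,
      show (a : Ω) = (x : Ω) from rfl, inv_mul_cancel, mul_one]
    exact T.inv_mem (StronglyClosed.apply_mem hT hθ (hv x))

/-- Every map agrees modulo a strongly closed `T` with a map defined on `T` as well. -/
theorem le_liftSystem [Fact p.Prime] [Finite S] (hS : IsPGroup p S) (hF : F.IsSaturated p)
    {T : Subgroup Ω} (hT : F.StronglyClosed T) : F ≤ liftSystem F hT := by
  have htriv : ∀ (P : Subgroup Ω) (φ : P →* Ω), T ≤ P → φ ∈ F.Hom P → φ ∈ (liftSystem F hT).Hom P :=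
    fun P φ hTP hφ => ⟨hφ, φ.comp (Subgroup.inclusion (sup_le le_rfl hTP)),
      restrict_mem hφ (sup_le le_rfl hTP), fun x => by
        show (φ _)⁻¹ * φ x ∈ T
        rw [← map_inv, ← map_mul, show (Subgroup.inclusion (sup_le le_rfl hTP)
          (Subgroup.inclusion le_sup_left x)) = x from Subtype.ext rfl, inv_mul_cancel, map_one]
        exact T.one_mem⟩
  refine le_of_step hS hF _ (fun α hα => (mem_autGroup_iff le_rfl).2
    (htriv S _ hT.1 ((mem_autGroup_iff le_rfl).1 hα))) fun R hR hRn hup => ?_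
  have hRS := hRn.1
  have := finite_le hRS
  have := finite_mulAut_of_le (S := S) hRS
  by_cases hTR : T ≤ R
  · exact fun α hα => (mem_autGroup_iff hRS).2 (htriv R _ hTR ((mem_autGroup_iff hRS).1 hα))
  intro α hα
  set A := F.autGroup R with hA
  have hmapT : ∀ (a : A) (x : R), (x : Ω) ∈ T → (((a : MulAut R) x : R) : Ω) ∈ T := fun a x hx =>
    StronglyClosed.apply_mem hT ((mem_autGroup_iff hRS).1 a.2) hx
  let K : Subgroup A :=
    { carrier := {a | ∀ x : R, ((x⁻¹ * (a : MulAut R) x : R) : Ω) ∈ T}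
      one_mem' := fun x => by simp
      mul_mem' := fun {a b} ha hb x => by
        have : (x⁻¹ * ((a * b : A) : MulAut R) x : R) =
            (x⁻¹ * (a : MulAut R) x) * (a : MulAut R) (x⁻¹ * (b : MulAut R) x) := by
          simp only [Subgroup.coe_mul, MulAut.mul_apply, map_mul, map_inv]; group
        rw [this]
        exact T.mul_mem (ha x) (hmapT a _ (hb x))
      inv_mem' := fun {a} ha x => by
        have := T.inv_mem (ha ((a : MulAut R)⁻¹ x))
        rw [MulAut.apply_inv_self] at this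
        simpa [mul_assoc] using this }
  have hKn : K.Normal := ⟨fun a ha b x => by
    have := hmapT b _ (ha ((b : MulAut R)⁻¹ x))
    simpa [map_mul, map_inv] using this⟩
  have hKE : ∀ a : A, a ∈ K → (a : MulAut R) ∈ (liftSystem F hT).autGroup R := fun a ha =>
    (mem_autGroup_iff hRS).2 ⟨(mem_autGroup_iff hRS).1 a.2, _, incl_mem (sup_le hRS hT.1), fun x => by
      simpa using ha x⟩
  obtain ⟨R₀, hR₀⟩ := (IsSaturated.fullyAutomized hS hF hRn).2
  have hsyl : IsSylowIn p ((R₀ : Subgroup A) ⊓ K) K := isSylowIn_inf_normal R₀ K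
  set β : A := ⟨α, hα⟩
  set P₀ := (R₀ : Subgroup A) ⊓ K
  have hX : P₀.map (MulAut.conj β).toMonoidHom ≤ K := by
    rintro _ ⟨z, hz, rfl⟩
    exact hKn.conj_mem z hz.2 β
  obtain ⟨k, hk, hkc⟩ := hsyl.exists_conj_mem hX ((R₀.isPGroup'.to_le inf_le_left).map _)
  set χ : A := k * β with hχ
  suffices hχE : (χ : MulAut R) ∈ (liftSystem F hT).autGroup R by
    have := mul_mem (inv_mem (hKE k hk)) hχE
    simpa [hχ, β] using this
  have hrec := IsSaturated.receptive hS hF (IsSaturated.fullyCentralized hS hF hRn)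
  set M := R ⊔ normalizerIn T R with hM
  have hNT : normalizerIn T R ≤ normalizerIn S R := fun x hx => ⟨hT.1 hx.1, hx.2⟩
  have hMS : M ≤ S := sup_le hRS (hNT.trans (normalizerIn_le R))
  have hext : M ≤ extender S R (isoHom ((χ : MulAut R) : R ≃* R)) := by
    refine sup_le (le_extender hRS fun x => hRS (((χ : MulAut R) : R ≃* R) x).2) fun g hg => ?_
    have hgS := hT.1 hg.1
    set cg : A := ⟨R.normalizerMonoidHom ⟨g, hg.2⟩,
      autInducedBy_le_autGroup hRS (mem_autInducedBy_iff.2 ⟨g, hgS, fun x => rfl⟩)⟩ with hcg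
    have hcgP : cg ∈ P₀ := by
      refine ⟨?_, fun x => ?_⟩
      · rw [hR₀]
        exact mem_autInducedBy_iff.2 ⟨g, hgS, fun x => rfl⟩
      · show (x : Ω)⁻¹ * (g * (x : Ω) * g⁻¹) ∈ T
        rw [← mul_assoc, ← mul_assoc]
        refine T.mul_mem ?_ (T.inv_mem hg.1)
        have := conj_mem_of_mem_normalizer
          (StronglyClosed.normal_in hT (S.inv_mem (hRS x.2))) hg.1
        simpa using this
    have h1 : χ * cg * χ⁻¹ ∈ P₀ := by
      have := hkc _ ⟨cg, hcgP, rfl⟩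
      simpa [hχ, mul_assoc] using this
    have h2 := h1.1
    rw [hR₀] at h2
    obtain ⟨h, hh, hhv⟩ := mem_autInducedBy_iff.1 (Subgroup.mem_subgroupOf.1 h2)
    refine mem_extender_iff.2 ⟨hgS, hg.2, h, hh, fun x hx => ?_⟩
    have h3 := hhv ((χ : MulAut R) x)
    have h4 : (⟨g * x * g⁻¹, hx⟩ : R) = (cg : MulAut R) x := Subtype.ext rfl
    rw [isoHom_apply, isoHom_apply, h4, ← h3]
    simp
  have hlt : R < M := by
    refine lt_of_le_of_ne le_sup_left fun heq => hTR ?_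
    have hNR : normalizerIn T R ≤ R := le_sup_right.trans heq.ge
    have hRT : R ⊔ T ≤ S := sup_le hRS hT.1
    have := finite_le hRT
    by_contra hne
    have hlt' : R < R ⊔ T := lt_of_le_of_ne le_sup_left fun e => hne (le_sup_right.trans e.ge)
    obtain ⟨g, hg, hgR⟩ := exists_mem_normalizerIn_not_mem (hS.to_le hRT) hlt'
    have hprod : (g : Ω) ∈ (↑(R ⊔ T) : Set Ω) := hg.1
    rw [Subgroup.coe_mul_of_left_le_normalizer_right R T
      (hRS.trans (StronglyClosed.normal_in hT))] at hprod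
    obtain ⟨r, hr, t, ht, rfl⟩ := hprod
    have htn : t ∈ Subgroup.normalizer (R : Set Ω) := by
      have := mul_mem (inv_mem (Subgroup.le_normalizer (H := R) hr)) hg.2
      simpa using this
    exact hgR (R.mul_mem hr (hNR ⟨ht, htn⟩))
  have he : IsoIn F ((χ : MulAut R) : R ≃* R) := (mem_autGroup_iff_isoIn hRS).1 χ.2
  obtain ⟨ψ, hψ, hag⟩ := exists_extension hrec he hlt.le hext
  have := finite_le hMS
  have hcard : Nat.card R < Nat.card M := lt_of_le_of_ne (Subgroup.card_le_of_le hlt.le) fun e =>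
    hlt.ne (Subgroup.eq_of_le_of_card_ge hlt.le e.ge)
  exact (mem_autGroup_iff hRS).2
    (hom_congr (restrict_mem (hup M hcard hψ) hlt.le) fun x => (hag x).symm)

/-! ### Maps induced along a surjection -/

variable {Ω' : Type*} [Group Ω'] {θ : S →* Ω'} {T : Subgroup Ω}

theorem preimageAlong_imageAlong (hTS : T ≤ S) (hθ : ∀ s : S, θ s = 1 ↔ (s : Ω) ∈ T)
    {P : Subgroup Ω} (hP : P ≤ S) : preimageAlong θ (imageAlong θ P) = P ⊔ T := by
  refine le_antisymm ?_ (sup_le (fun x hx => ⟨⟨x, hP hx⟩, ⟨⟨x, hP hx⟩, hx, rfl⟩, rfl⟩)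
    (ker_le_preimageAlong hTS hθ _))
  rintro _ ⟨s, ⟨y, hy, hys⟩, rfl⟩
  have h : ((y⁻¹ * s : S) : Ω) ∈ T := by rw [← hθ, map_mul, map_inv, hys, inv_mul_cancel]
  show (s : Ω) ∈ P ⊔ T
  rw [show (s : Ω) = (y : Ω) * ((y⁻¹ * s : S) : Ω) by simp]
  exact mul_mem (Subgroup.mem_sup_left hy) (Subgroup.mem_sup_right h)

theorem imageAlong_preimageAlong {P' : Subgroup Ω'} (hP' : P' ≤ θ.range) :
    imageAlong θ (preimageAlong θ P') = P' := by
  ext y
  constructor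
  · rintro ⟨s, hs, rfl⟩; exact mem_preimageAlong.1 hs
  · intro hy
    obtain ⟨s, rfl⟩ := hP' hy
    exact ⟨s, mem_preimageAlong.2 hy, rfl⟩

theorem preimageAlong_mono {P' Q' : Subgroup Ω'} (h : P' ≤ Q') :
    preimageAlong θ P' ≤ preimageAlong θ Q' :=
  Subgroup.map_mono (Subgroup.comap_mono h)

theorem inducedAlong_apply {P : Subgroup Ω} {φ : P →* Ω} {P' : Subgroup Ω'} {φ' : P' →* Ω'}
    (h : InducedAlong θ φ φ') (x : P) (hx : (x : Ω) ∈ S) (hφx : φ x ∈ S)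
    (hm : θ ⟨x, hx⟩ ∈ P') : φ' ⟨θ ⟨x, hx⟩, hm⟩ = θ ⟨φ x, hφx⟩ :=
  h.2.2.2 x

theorem inducedAlong_ext {P' : Subgroup Ω'} (hP' : P' ≤ θ.range)
    {φ : preimageAlong θ P' →* Ω} {φ₁ φ₂ : P' →* Ω'} (h₁ : InducedAlong θ φ φ₁)
    (h₂ : InducedAlong θ φ φ₂) : φ₁ = φ₂ := by
  obtain ⟨hP, hφ, hm, h⟩ := h₁
  refine MonoidHom.ext fun y => ?_
  obtain ⟨x, hx⟩ := exists_preimage hP' y
  rw [show y = ⟨_, hm x⟩ from Subtype.ext hx.symm, h x]
  exact (inducedAlong_apply h₂ x _ _ _).symm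

/-- A map on a full preimage induces a map downstairs. -/
theorem exists_induced [Finite S] (hT : F.StronglyClosed T) (hθ : ∀ s : S, θ s = 1 ↔ (s : Ω) ∈ T)
    {P' : Subgroup Ω'} (hP' : P' ≤ θ.range) {φ : preimageAlong θ P' →* Ω}
    (hφ : φ ∈ F.Hom (preimageAlong θ P')) : ∃ φ' : P' →* Ω', InducedAlong θ φ φ' := by
  let g : preimageAlong θ P' →* P' := (θ.comp (Subgroup.inclusion (preimageAlong_le θ P'))).codRestrict
    P' fun x => (mem_preimageAlong (θ := θ) (x := ⟨x, preimageAlong_le θ P' x.2⟩)).1 x.2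
  let f : preimageAlong θ P' →* Ω' := θ.comp (φ.codRestrict S (hom_apply_mem hφ))
  have hg : Function.Surjective g := fun y => by
    obtain ⟨x, hx⟩ := exists_preimage hP' y
    exact ⟨x, Subtype.ext hx⟩
  have hker : g.ker ≤ f.ker := fun x hx => by
    have h1 : (x : Ω) ∈ T :=
      (hθ ⟨x, preimageAlong_le θ P' x.2⟩).1 (congrArg Subtype.val (hx : g x = 1))
    exact (hθ ⟨φ x, hom_apply_mem hφ x⟩).2 (StronglyClosed.apply_mem hT hφ h1)
  refine ⟨MonoidHom.liftOfSurjective g hg ⟨f, hker⟩, preimageAlong_le θ P', hom_apply_mem hφ,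
    fun x => mem_preimageAlong.1 x.2, fun x => ?_⟩
  exact MonoidHom.liftOfRightInverse_comp_apply g _ (Function.rightInverse_surjInv hg) ⟨f, hker⟩ x

theorem factor_isSurjectiveMorphism [Fact p.Prime] [Finite S] (hS : IsPGroup p S)
    (hF : F.IsSaturated p) (hT : F.StronglyClosed T) {S' : Subgroup Ω'} {E : FusionSystem S'}
    (hE : F.IsFactorSystem T θ E) : F.IsSurjectiveMorphism E θ := by
  obtain ⟨hTS, hθ, hS', hiff⟩ := hE
  refine ⟨⟨fun s => hS' ▸ ⟨s, rfl⟩, fun P φ hφ => ?_⟩, hS',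
    fun P' hP' φ' hφ' => ((hiff P' φ').1 hφ').2⟩
  have hPS := hom_le hφ
  obtain ⟨-, ψ, hψ, hv⟩ := le_liftSystem hS hF hT P hφ
  have heq := preimageAlong_imageAlong hTS hθ hPS
  set ψ₀ := ψ.comp (Subgroup.inclusion heq.le)
  have hψ₀ : ψ₀ ∈ F.Hom (preimageAlong θ (imageAlong θ P)) := restrict_mem hψ heq.le
  have hle : imageAlong θ P ≤ θ.range := Subgroup.map_le_range _ _
  obtain ⟨φ', hφ'⟩ := exists_induced hT hθ hle hψ₀
  refine ⟨φ', (hiff _ _).2 ⟨hle.trans hS'.le, ψ₀, hψ₀, hφ'⟩, hPS, hom_apply_mem hφ,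
    fun x => ⟨⟨x, hPS x.2⟩, x.2, rfl⟩, fun x => ?_⟩
  set x' : preimageAlong θ (imageAlong θ P) := ⟨x, heq.ge (Subgroup.mem_sup_left x.2)⟩
  refine (inducedAlong_apply hφ' x' (hPS x.2) (hom_apply_mem hψ₀ x') _).trans ?_
  have h1 : θ (⟨ψ₀ x', hom_apply_mem hψ₀ x'⟩⁻¹ * ⟨φ x, hom_apply_mem hφ x⟩) = 1 :=
    (hθ _).2 (hv x)
  rwa [map_mul, map_inv, inv_mul_eq_one] at h1

/-- The kernel of a morphism is strongly closed. -/
theorem IsMorphism.ker_stronglyClosed {S' : Subgroup Ω'} {E : FusionSystem S'}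
    (hα : F.IsMorphism E θ) : F.StronglyClosed ((θ.ker).map S.subtype) := by
  refine ⟨Subgroup.map_subtype_le _, fun R hR φ hφ x => ?_⟩
  obtain ⟨φ', -, hP, hφS, hP', h⟩ := hα.2 R φ hφ
  obtain ⟨s, hs, hsx⟩ := hR x.2
  refine ⟨⟨φ x, hφS x⟩, ?_, rfl⟩
  show θ ⟨φ x, hφS x⟩ = 1
  have h1 : θ ⟨(x : Ω), hP x.2⟩ = 1 := by
    rw [show (⟨(x : Ω), hP x.2⟩ : S) = s from Subtype.ext hsx.symm]
    exact hs
  rw [← h x, show (⟨θ ⟨x, hP x.2⟩, hP' x⟩ : ↥(imageAlong θ R)) = 1 from Subtype.ext h1, map_one]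

/-- A surjective morphism exhibits its target as a factor system. -/
theorem IsSurjectiveMorphism.isFactorSystem {S' : Subgroup Ω'} {E : FusionSystem S'}
    (hα : F.IsSurjectiveMorphism E θ) : F.IsFactorSystem ((θ.ker).map S.subtype) θ E := by
  obtain ⟨hm, hS', hs⟩ := hα
  refine ⟨Subgroup.map_subtype_le _, fun s => ⟨fun h => ⟨s, h, rfl⟩, fun ⟨t, ht, hts⟩ =>
    (Subtype.ext hts : t = s) ▸ ht⟩, hS', fun P' φ' => ⟨fun h => ⟨hom_le h, hs P' (hom_le h) φ' h⟩, ?_⟩⟩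
  rintro ⟨hP', φ, hφ, hind⟩
  have hle : P' ≤ θ.range := hP'.trans hS'.ge
  obtain ⟨φ'', hφ'', hind'⟩ := hm.2 _ φ hφ
  have heq := imageAlong_preimageAlong hle
  have h1 := restrict_mem hφ'' heq.ge
  refine hom_congr h1 fun y => ?_
  obtain ⟨x, hx⟩ := exists_preimage hle y
  obtain ⟨hP, hφS, hm', h⟩ := hind
  rw [show y = ⟨_, hm' x⟩ from Subtype.ext hx.symm, h x]
  exact (inducedAlong_apply hind' x _ _ _).symm

/-- Factor systems of saturated systems are saturated. -/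
theorem factor_saturated [Fact p.Prime] [Finite S] (hS : IsPGroup p S)
    (hF : F.IsSaturated p) (hT : F.StronglyClosed T) {S' : Subgroup Ω'} {E : FusionSystem S'}
    (hE : F.IsFactorSystem T θ E) : E.IsSaturated p := by
  obtain ⟨hTS, hθ, hS', hiff⟩ := hE
  have hrg : ∀ {P' : Subgroup Ω'}, P' ≤ S' → P' ≤ θ.range := fun h => h.trans hS'.ge
  have hrange : ∀ {P' : Subgroup Ω'} {φ : preimageAlong θ P' →* Ω},
      φ ∈ F.Hom (preimageAlong θ P') → T ≤ φ.range := fun {P' φ} hφ => by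
    have hle := ker_le_preimageAlong hTS hθ P'
    exact (((StronglyClosed.weaklyClosed hT).2 _ (restrict_mem hφ hle)).ge.trans
      ((range_restrict φ hle).le.trans (img_le_range φ T)))
  -- the image of a map on a preimage, downstairs
  have himage : ∀ {P' : Subgroup Ω'}, P' ≤ S' → ∀ {φ : preimageAlong θ P' →* Ω} {φ' : P' →* Ω'},
      φ ∈ F.Hom (preimageAlong θ P') → InducedAlong θ φ φ' → φ'.range = imageAlong θ φ.range := by
    intro P' hP' φ φ' hφ hind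
    obtain ⟨hP, hφS, hm, h⟩ := hind
    ext y
    constructor
    · rintro ⟨z, rfl⟩
      obtain ⟨x, hx⟩ := exists_preimage (hrg hP') z
      rw [show z = ⟨_, hm x⟩ from Subtype.ext hx.symm, h x]
      exact ⟨_, ⟨x, rfl⟩, rfl⟩
    · rintro ⟨s, ⟨x, hx⟩, rfl⟩
      rw [show s = ⟨φ x, hφS x⟩ from Subtype.ext hx.symm, ← h x]
      exact ⟨_, rfl⟩
  intro P' hP'
  obtain ⟨Q₁, hPQ, hA₁, hR₁, -⟩ := IsSaturated.exists_rep hS hF (preimageAlong_le θ P')
  obtain ⟨φ₁, hφ₁, rfl⟩ := hPQ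
  obtain ⟨φ₁', hφ₁'⟩ := exists_induced hT hθ (hrg hP') hφ₁
  have hφ₁E : φ₁' ∈ E.Hom P' := (hiff _ _).2 ⟨hP', φ₁, hφ₁, hφ₁'⟩
  set Q' := φ₁'.range with hQ'def
  have hQ'S : Q' ≤ S' := hom_range_le hφ₁E
  have hQeq : φ₁.range = preimageAlong θ Q' := by
    rw [hQ'def, himage hP' hφ₁ hφ₁', preimageAlong_imageAlong hTS hθ (hom_range_le hφ₁),
      sup_eq_left.2 (hrange hφ₁)]
  rw [hQeq] at hA₁ hR₁
  refine ⟨Q', ⟨φ₁', hφ₁E, rfl⟩, ?_⟩
  set Q := preimageAlong θ Q' with hQdef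
  have hQS : Q ≤ S := preimageAlong_le θ Q'
  have := finite_le hQS
  have := finite_mulAut_of_le (S := S) hQS
  have hmem : ∀ q : Q, θ ⟨q, hQS q.2⟩ ∈ Q' := fun q => mem_preimageAlong.1 q.2
  have hsurj : ∀ y : Q', ∃ q : Q, θ ⟨q, hQS q.2⟩ = y := exists_preimage (hrg hQ'S)
  have huniq : ∀ b c : MulAut Q',
      (∀ q : Q, (b ⟨_, hmem q⟩ : Ω') = c ⟨_, hmem q⟩) → b = c := fun b c h => by
    refine MulEquiv.ext fun y => Subtype.ext ?_
    obtain ⟨q, hq⟩ := hsurj y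
    rw [show y = ⟨_, hmem q⟩ from Subtype.ext hq.symm]
    exact h q
  set A := F.autGroup Q with hAdef
  have hex : ∀ a : A, ∃ b : MulAut Q', b ∈ E.autGroup Q' ∧ ∀ q : Q,
      (b ⟨_, hmem q⟩ : Ω') = θ ⟨((a : MulAut Q) q : Q), hQS ((a : MulAut Q) q).2⟩ := by
    intro a
    have ha := (mem_autGroup_iff hQS).1 a.2
    obtain ⟨a', ha'⟩ := exists_induced hT hθ (hrg hQ'S) ha
    have ha'E : a' ∈ E.Hom Q' := (hiff _ _).2 ⟨hQ'S, _, ha, ha'⟩
    have hr : a'.range = Q' := by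
      rw [himage hQ'S ha ha',
        show (Q.subtype.comp (a : MulAut Q).toMonoidHom).range = Q from
          isoHom_range ((a : MulAut Q) : Q ≃* Q)]
      exact imageAlong_preimageAlong (hrg hQ'S)
    obtain ⟨b, hb, hbv⟩ := exists_iso ha'E hr
    refine ⟨b, (mem_autGroup_iff_isoIn hQ'S).2 hb, fun q => ?_⟩
    rw [hbv]
    exact inducedAlong_apply ha' q (hQS q.2) (hQS ((a : MulAut Q) q).2) (hmem q)
  choose Φ₀ hΦE hΦ using hex
  let Φ : A →* MulAut Q' := MonoidHom.mk' Φ₀ fun a b => huniq _ _ fun q => by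
    rw [hΦ, MulAut.mul_apply,
      show Φ₀ b ⟨_, hmem q⟩ = ⟨_, hmem ((b : MulAut Q) q)⟩ from Subtype.ext (hΦ b q), hΦ]
    rfl
  have hΦrange : Φ.range = E.autGroup Q' := by
    refine le_antisymm (by rintro _ ⟨a, rfl⟩; exact hΦE a) fun b hb => ?_
    obtain ⟨-, φ, hφ, hind⟩ := (hiff Q' _).1 ((mem_autGroup_iff hQ'S).1 hb)
    have hr : φ.range = Q := by
      rw [← sup_eq_left.2 (hrange hφ), ← preimageAlong_imageAlong hTS hθ (hom_range_le hφ),
        ← himage hQ'S hφ hind, show (Q'.subtype.comp b.toMonoidHom).range = Q' from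
          isoHom_range (b : Q' ≃* Q')]
    obtain ⟨a, ha, hav⟩ := exists_iso hφ hr
    refine ⟨⟨(a : MulAut Q), (mem_autGroup_iff_isoIn hQS).2 ha⟩, huniq _ _ fun q => ?_⟩
    refine (hΦ _ q).trans ((congrArg θ (Subtype.ext (hav q) :
      (⟨(a q : Q), hQS (a q).2⟩ : S) = ⟨φ q, hom_apply_mem hφ q⟩)).trans ?_)
    exact (inducedAlong_apply hind q (hQS q.2) (hom_apply_mem hφ q) (hmem q)).symm
  constructor
  · -- fully automized
    refine ⟨hQ'S, ?_⟩
    obtain ⟨R, hR⟩ := hA₁.2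
    let f : A →* E.autGroup Q' := Φ.codRestrict _ hΦE
    have hf : Function.Surjective f := fun b => by
      obtain ⟨a, ha⟩ := hΦrange.ge b.2
      exact ⟨a, Subtype.ext ha⟩
    refine ⟨R.mapSurjective hf, ?_⟩
    ext b
    constructor
    · rintro ⟨a, ha, rfl⟩
      replace ha : a ∈ (autInducedBy S Q).subgroupOf A := hR ▸ ha
      obtain ⟨g, hg, hgv⟩ := mem_autInducedBy_iff.1 ha
      refine mem_autInducedBy_iff.2 ⟨θ ⟨g, hg⟩, hS' ▸ ⟨_, rfl⟩, fun y => ?_⟩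
      obtain ⟨q, hq⟩ := hsurj y
      rw [show y = ⟨_, hmem q⟩ from Subtype.ext hq.symm]
      refine (hΦ a q).trans ?_
      rw [show (⟨((a : MulAut Q) q : Q), hQS ((a : MulAut Q) q).2⟩ : S) =
        ⟨g, hg⟩ * ⟨q, hQS q.2⟩ * ⟨g, hg⟩⁻¹ from Subtype.ext (hgv q), map_mul, map_mul, map_inv]
    · intro hb
      obtain ⟨g', hg', hgv⟩ := mem_autInducedBy_iff.1 hb
      obtain ⟨g, rfl⟩ := hS'.ge hg'
      have hgn : (g : Ω) ∈ Subgroup.normalizer (Q : Set Ω) := by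
        rw [Subgroup.mem_normalizer_iff_map_conj_eq]
        refine Subgroup.eq_of_le_of_card_ge ?_ ?_
        · rintro _ ⟨q, hq, rfl⟩
          refine (mem_preimageAlong (θ := θ) (x := g * (⟨q, hQS hq⟩ : S) * g⁻¹)).2 ?_
          rw [map_mul, map_mul, map_inv]
          exact hgv ⟨_, hmem ⟨q, hq⟩⟩ ▸ ((b : MulAut Q') _).2
        · exact (Subgroup.card_map_of_injective (MulAut.conj (g : Ω)).injective).ge
      refine ⟨⟨Q.normalizerMonoidHom ⟨g, hgn⟩, autInducedBy_le_autGroup hQS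
        (mem_autInducedBy_iff.2 ⟨g, g.2, fun x => rfl⟩)⟩, ?_, Subtype.ext (huniq _ _ fun q => ?_)⟩
      · show _ ∈ (R : Subgroup A)
        rw [hR]
        exact mem_autInducedBy_iff.2 ⟨g, g.2, fun x => rfl⟩
      · refine (hΦ _ q).trans (Eq.trans ?_ (hgv ⟨_, hmem q⟩).symm)
        show θ (g * ⟨q, hQS q.2⟩ * g⁻¹) = θ g * θ ⟨q, hQS q.2⟩ * (θ g)⁻¹
        rw [map_mul, map_mul, map_inv]
  · -- receptive
    refine ⟨hQ'S, fun R' φ' hφ' hr => ?_⟩
    set R := preimageAlong θ R' with hRdef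
    have hRS : R ≤ S := preimageAlong_le θ R'
    obtain ⟨hR'S, φ, hφ, hind⟩ := (hiff _ _).1 hφ'
    have hφr : φ.range = Q := by
      rw [← sup_eq_left.2 (hrange hφ), ← preimageAlong_imageAlong hTS hθ (hom_range_le hφ),
        ← himage hR'S hφ hind, hr]
    obtain ⟨e, he, hev⟩ := exists_iso hφ hφr
    set N' := extender S' R' φ'
    have hN'S : N' ≤ S' := (Subgroup.closure_le _).2 fun x hx => hx.1
    set N := preimageAlong θ N' with hNdef
    have hRN : R ≤ N := preimageAlong_mono (le_extender hR'S (hom_apply_mem hφ'))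
    have hNnorm : ∀ g : N, (g : Ω) ∈ Subgroup.normalizer (R : Set Ω) := by
      intro g
      rw [Subgroup.mem_normalizer_iff_map_conj_eq]
      have := finite_le hRS
      refine Subgroup.eq_of_le_of_card_ge ?_
        (Subgroup.card_map_of_injective (MulAut.conj (g : Ω)).injective).ge
      rintro _ ⟨r, hr', rfl⟩
      have hgn := (mem_extender_iff.1 ((mem_preimageAlong (θ := θ) (P' := N') (x := ⟨g, preimageAlong_le θ N' g.2⟩)).1 g.2)).2.1
      refine (mem_preimageAlong (θ := θ) (x := (⟨g, preimageAlong_le θ N' g.2⟩ : S) * (⟨r, hRS hr'⟩ : S) *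
        (⟨g, preimageAlong_le θ N' g.2⟩ : S)⁻¹)).2 ?_
      rw [map_mul, map_mul, map_inv]
      exact conj_mem_of_mem_normalizer hgn (mem_preimageAlong.1 hr')
    set K : Subgroup (MulAut Q) := Φ.ker.map A.subtype with hKdef
    set AS := autInducedBy S Q
    have hASA : AS ≤ A := autInducedBy_le_autGroup hQS
    have hKA : K ≤ A := Subgroup.map_subtype_le _
    have hnorm : AS ≤ Subgroup.normalizer (K : Set (MulAut Q)) := by
      refine hASA.trans fun a ha => ?_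
      rw [Subgroup.mem_normalizer_iff_map_conj_eq]
      refine Subgroup.eq_of_le_of_card_ge ?_
        (Subgroup.card_map_of_injective (MulAut.conj a).injective).ge
      rintro _ ⟨_, ⟨c, hc, rfl⟩, rfl⟩
      exact ⟨⟨a, ha⟩ * c * ⟨a, ha⟩⁻¹, (inferInstance : Φ.ker.Normal).conj_mem c hc _, rfl⟩
    set L := AS ⊔ K with hL
    have hLA : L ≤ A := sup_le hASA hKA
    set B := (autInducedBy N R).map (MulAut.congr e).toMonoidHom with hB
    have hBL : B ≤ L := by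
      rintro _ ⟨c, hc, rfl⟩
      obtain ⟨g, hg, hgv⟩ := mem_autInducedBy_iff.1 hc
      have hgS := preimageAlong_le θ N' hg
      obtain ⟨-, hgn, h', hh', hhv⟩ := mem_extender_iff.1 ((mem_preimageAlong (x := ⟨g, hgS⟩)).1 hg)
      obtain ⟨h, rfl⟩ := hS'.ge hh'
      set d : MulAut Q := MulAut.congr e c with hd
      have hdA : d ∈ A := by
        rw [hAdef, ← he.congr_autGroup]
        refine ⟨c, autInducedBy_le_autGroup hRS (mem_autInducedBy_iff.2 ⟨g, hgS, hgv⟩), ?_⟩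
        rfl
      have hde : ∀ x : R, θ ⟨(d (e x) : Q), hQS (d (e x)).2⟩ =
          θ h * θ ⟨e x, hQS (e x).2⟩ * (θ h)⁻¹ := by
        intro x
        have h2 : d (e x) = e (c x) := by simp [hd, MulAut.congr]
        have hgx : θ ⟨g, hgS⟩ * θ ⟨x, hRS x.2⟩ * (θ ⟨g, hgS⟩)⁻¹ = θ ⟨(c x : R), hRS (c x).2⟩ := by
          rw [← map_inv, ← map_mul, ← map_mul]
          exact congrArg θ (Subtype.ext (hgv x).symm)
        have hR'x : θ ⟨x, hRS x.2⟩ ∈ R' := mem_preimageAlong.1 x.2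
        have hcx : θ ⟨(c x : R), hRS (c x).2⟩ ∈ R' := mem_preimageAlong.1 (c x).2
        have h3 := hhv ⟨_, hR'x⟩ (hgx.symm ▸ hcx)
        have h4 : (⟨θ ⟨g, hgS⟩ * θ ⟨x, hRS x.2⟩ * (θ ⟨g, hgS⟩)⁻¹, hgx.symm ▸ hcx⟩ : R') =
            ⟨_, hcx⟩ := Subtype.ext hgx
        rw [h4, inducedAlong_apply hind x _ (hom_apply_mem hφ x),
          inducedAlong_apply hind (c x) _ (hom_apply_mem hφ (c x))] at h3
        rw [h2]
        refine ((congrArg θ (Subtype.ext (hev (c x)) : (⟨(e (c x) : Q), hQS (e (c x)).2⟩ : S) = ⟨φ (c x), hom_apply_mem hφ _⟩)).trans h3).trans ?_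
        rw [show (⟨φ x, hom_apply_mem hφ x⟩ : S) = ⟨e x, hQS (e x).2⟩ from Subtype.ext (hev x).symm]
      have hhn : (h : Ω) ∈ Subgroup.normalizer (Q : Set Ω) := by
        rw [Subgroup.mem_normalizer_iff_map_conj_eq]
        refine Subgroup.eq_of_le_of_card_ge ?_
          (Subgroup.card_map_of_injective (MulAut.conj (h : Ω)).injective).ge
        rintro _ ⟨q, hq, rfl⟩
        obtain ⟨x, hx⟩ := e.surjective ⟨q, hq⟩
        refine (mem_preimageAlong (θ := θ) (x := h * (⟨q, hQS hq⟩ : S) * h⁻¹)).2 ?_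
        rw [map_mul, map_mul, map_inv,
          show (⟨q, hQS hq⟩ : S) = ⟨e x, hQS (e x).2⟩ from Subtype.ext (congrArg Subtype.val hx).symm,
          ← hde x]
        exact hmem _
      set ch : MulAut Q := Q.normalizerMonoidHom ⟨h, hhn⟩
      have hchA : ch ∈ AS := mem_autInducedBy_iff.2 ⟨h, h.2, fun x => rfl⟩
      have hker : ch⁻¹ * d ∈ K := by
        refine ⟨⟨ch, hASA hchA⟩⁻¹ * ⟨d, hdA⟩, ?_, rfl⟩
        rw [SetLike.mem_coe, MonoidHom.mem_ker, map_mul, map_inv, inv_mul_eq_one]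
        refine huniq _ _ fun q => ?_
        obtain ⟨x, rfl⟩ := e.surjective q
        refine (hΦ _ _).trans ((hΦ _ _).trans ?_).symm
        rw [hde x, ← map_inv, ← map_mul, ← map_mul]
        rfl
      rw [show (MulAut.congr e).toMonoidHom c = ch * (ch⁻¹ * d) from (mul_inv_cancel_left ch d).symm]
      exact mul_mem (Subgroup.mem_sup_left hchA) (Subgroup.mem_sup_right hker)
    have hsyl : IsSylowIn p AS L := IsSylowIn.of_le hA₁.2 hASA hLA le_sup_left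
    obtain ⟨l, hl, hlc⟩ := hsyl.exists_conj_mem hBL
      ((isPGroup_autInducedBy (hS.to_le (preimageAlong_le θ N'))).map _)
    have hl' : l ∈ (↑(AS ⊔ K) : Set (MulAut Q)) := hl
    rw [Subgroup.coe_mul_of_left_le_normalizer_right AS K hnorm] at hl'
    obtain ⟨a, ha, κ, hκ, rfl⟩ := hl'
    set f : R ≃* Q := e.trans (κ : Q ≃* Q) with hfdef
    have hf : IsoIn F f := he.trans ((mem_autGroup_iff_isoIn hQS).1 (hKA hκ))
    have hNext : N ≤ extender S R (isoHom f) := by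
      intro g hg
      have hgS := preimageAlong_le θ N' hg
      set c : MulAut R := R.normalizerMonoidHom ⟨g, hNnorm ⟨g, hg⟩⟩
      have hb : MulAut.congr e c ∈ B :=
        ⟨c, mem_autInducedBy_iff.2 ⟨g, hg, fun x => rfl⟩, rfl⟩
      have hκb : κ * MulAut.congr e c * κ⁻¹ ∈ AS := by
        have := AS.mul_mem (AS.mul_mem (AS.inv_mem ha) (hlc _ hb)) ha
        simpa [mul_assoc] using this
      obtain ⟨h, hh, hhv⟩ := mem_autInducedBy_iff.1 hκb
      refine mem_extender_iff.2 ⟨hgS, hNnorm ⟨g, hg⟩, h, hh, fun x hx => ?_⟩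
      have h3 := hhv (f x)
      rw [show (⟨g * x * g⁻¹, hx⟩ : R) = c x from Subtype.ext rfl, isoHom_apply, isoHom_apply, ← h3]
      simp [f, MulAut.congr]
    obtain ⟨ψ, hψ, hag⟩ := exists_extension hR₁ hf hRN hNext
    obtain ⟨ψ', hψ'⟩ := exists_induced hT hθ (hrg hN'S) hψ
    refine ⟨ψ', (hiff _ _).2 ⟨hN'S, ψ, hψ, hψ'⟩, fun x hx hN => ?_⟩
    obtain ⟨r, hr'⟩ := exists_preimage (hrg hR'S) ⟨x, hx⟩
    simp only at hr'
    subst hr'
    rw [inducedAlong_apply hind r _ (hom_apply_mem hφ r)]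
    refine (inducedAlong_apply hψ' (Subgroup.inclusion hRN r) _ (hom_apply_mem hψ _) hN).trans ?_
    obtain ⟨k, hk, hkκ⟩ := hκ
    have h5 := hΦ k (e r)
    rw [show Φ₀ k = 1 from hk] at h5
    refine (congrArg θ (Subtype.ext (hag r) : (⟨ψ (Subgroup.inclusion hRN r), hom_apply_mem hψ _⟩ : S) = ⟨(f r : Q), hQS (f r).2⟩)).trans ?_
    refine Eq.trans ?_ (congrArg θ (Subtype.ext (hev r) : (⟨(e r : Q), hQS (e r).2⟩ : S) = ⟨φ r, hom_apply_mem hφ r⟩))
    refine Eq.trans ?_ (h5.symm.trans rfl)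
    subst hkκ
    rfl

end CfsgLib.Fusion
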