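import Cfsg.Agent.Lib.Fusion.Saturated
import Cfsg.Agent.Lib.Fusion.Alperin
import Cfsg.Agent.Lib.Fusion.Normal

/-!
# Saturation of `K`-normalizer systems
-/

set_option autoImplicit false

namespace CfsgLib.Fusion

open Cfsg Cfsg.FusionSystem
open scoped Pointwise

variable {Ω : Type*} [Group Ω] {S : Subgroup Ω} {F : FusionSystem S} {p : ℕ}

/-- The elements of `S` inducing on `R` members of `A`. -/
def autPre (S R : Subgroup Ω) (A : Subgroup (MulAut R)) : Subgroup Ω where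
  carrier := {g | g ∈ S ∧ ∃ κ ∈ A, ∀ x : R, ((κ x : R) : Ω) = g * (x : Ω) * g⁻¹}
  one_mem' := ⟨S.one_mem, 1, A.one_mem, fun x => by simp⟩
  mul_mem' := by
    rintro a b ⟨haS, κ, hκ, ha⟩ ⟨hbS, μ, hμ, hb⟩
    refine ⟨S.mul_mem haS hbS, κ * μ, A.mul_mem hκ hμ, fun x => ?_⟩
    rw [MulAut.mul_apply, ha, hb]
    group
  inv_mem' := by
    rintro a ⟨haS, κ, hκ, ha⟩
    refine ⟨S.inv_mem haS, κ⁻¹, A.inv_mem hκ, fun x => ?_⟩
    have h := ha (κ⁻¹ x)
    rw [MulAut.apply_inv_self] at h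
    rw [h]
    group

theorem autPre_le_normalizerIn {R : Subgroup Ω} {A : Subgroup (MulAut R)} :
    autPre S R A ≤ normalizerIn S R :=
  fun _ ⟨hgS, κ, _, hg⟩ => ⟨hgS, mem_normalizer_of_conj_eq κ hg⟩

/-- Extension to the preimage of a subgroup of automorphisms. -/
theorem exists_kExtension [Fact p.Prime] [Finite S] (hS : IsPGroup p S) {R R' : Subgroup Ω}
    {e : R ≃* R'} (he : IsoIn F e) (hrec : F.IsReceptive R') {A' : Subgroup (MulAut R')}
    (hA' : A' ≤ F.autGroup R') (hsyl : IsSylowIn p (autInducedBy S R' ⊓ A') A') :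
    ∃ α ∈ A', ∃ ψ ∈ F.Hom (autPre S R (A'.map (MulAut.congr e.symm).toMonoidHom) ⊔ R),
      (∀ x : R, ψ (Subgroup.inclusion le_sup_right x) = ((α (e x) : R') : Ω)) ∧
      ∀ g : ↥(autPre S R (A'.map (MulAut.congr e.symm).toMonoidHom) ⊔ R),
        (g : Ω) ∈ autPre S R (A'.map (MulAut.congr e.symm).toMonoidHom) →
        ψ g ∈ autPre S R' A' := by
  set A := A'.map (MulAut.congr e.symm).toMonoidHom with hA
  have := finite_mulAut_of_le (S := S) he.le_right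
  set X := (autInducedBy S R ⊓ A).map (MulAut.congr e).toMonoidHom with hXdef
  have hX : X ≤ A' := by
    rintro _ ⟨c, ⟨-, ⟨a, ha, rfl⟩⟩, rfl⟩
    rw [show (MulAut.congr e).toMonoidHom ((MulAut.congr e.symm).toMonoidHom a) = a from
      MulEquiv.ext fun x => by simp [MulAut.congr]]
    exact ha
  have hXp : IsPGroup p X := ((isPGroup_autInducedBy hS).to_le inf_le_left).map _
  obtain ⟨α, hα, hconj⟩ := IsSylowIn.exists_conj_mem hsyl hX hXp
  have hf : IsoIn F (e.trans (α : R' ≃* R')) :=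
    he.trans ((mem_autGroup_iff_isoIn he.le_right).1 (hA' hα))
  have hpre : ∀ g ∈ autPre S R A, ∃ h ∈ S, ∃ γ ∈ A', (∀ y : R', ((γ y : R') : Ω) = h * y * h⁻¹) ∧
      ∃ κ : MulAut R, (∀ x : R, ((κ x : R) : Ω) = g * (x : Ω) * g⁻¹) ∧
      ∀ x : R, α (e (κ x)) = γ (α (e x)) := by
    rintro g ⟨hgS, κ, hκ, hg⟩
    obtain ⟨hh, hh'⟩ := hconj _ ⟨κ, ⟨mem_autInducedBy_iff.2 ⟨g, hgS, hg⟩, hκ⟩, rfl⟩
    obtain ⟨h, hS', hv⟩ := mem_autInducedBy_iff.1 hh
    refine ⟨h, hS', _, hh', hv, κ, hg, fun x => ?_⟩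
    simp [MulAut.congr, MulAut.mul_apply]
  have hN : autPre S R A ⊔ R ≤ extender S R (isoHom (e.trans (α : R' ≃* R'))) := by
    refine sup_le (fun g hg => ?_) (le_extender he.le_left fun x => hom_apply_mem hf.mem x)
    obtain ⟨h, hh, γ, -, hγ, κ, hκ, hrel⟩ := hpre g hg
    refine mem_extender_iff.2 ⟨hg.1, (autPre_le_normalizerIn hg).2, h, hh, fun x hx => ?_⟩
    rw [isoHom_apply, isoHom_apply, show (⟨g * x * g⁻¹, hx⟩ : R) = κ x from Subtype.ext (hκ x).symm]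
    simp only [MulEquiv.trans_apply, hrel, hγ]
  obtain ⟨ψ, hψ, hag⟩ := exists_extension hrec hf le_sup_right hN
  refine ⟨α, hα, ψ, hψ, fun x => hag x, fun g hg => ⟨hom_apply_mem hψ g, ?_⟩⟩
  obtain ⟨h, -, γ, hγA, hγ, κ, hκ, hrel⟩ := hpre g hg
  refine ⟨γ, hγA, fun y => ?_⟩
  obtain ⟨x, rfl⟩ := (e.trans (α : R' ≃* R')).surjective y
  have h1 := hag (κ x)
  rw [show (Subgroup.inclusion le_sup_right (κ x) : ↥(autPre S R A ⊔ R)) =
    g * Subgroup.inclusion le_sup_right x * g⁻¹ from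
    Subtype.ext (hκ x), map_mul, map_mul, map_inv, hag] at h1
  simp only [MulEquiv.trans_apply] at h1 ⊢
  rw [h1, hrel]

/-- The automorphisms of `P ⊔ Q` in the system preserving `P` and acting on `Q` as members of
`K₀`. -/
def pairAut (F : FusionSystem S) (P Q : Subgroup Ω) (K₀ : Subgroup (MulAut Q)) :
    Subgroup (MulAut ↥(P ⊔ Q)) where
  carrier := {β | β ∈ F.autGroup (P ⊔ Q) ∧ (∀ x : ↥(P ⊔ Q), (x : Ω) ∈ P ↔ (β x : Ω) ∈ P) ∧
    ∃ κ ∈ K₀, ∀ q : Q, (β (Subgroup.inclusion le_sup_right q) : Ω) = ((κ q : Q) : Ω)}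
  one_mem' := ⟨one_mem _, fun _ => Iff.rfl, 1, one_mem _, fun _ => rfl⟩
  mul_mem' := by
    rintro a b ⟨ha, haP, κ, hκ, haQ⟩ ⟨hb, hbP, μ, hμ, hbQ⟩
    refine ⟨mul_mem ha hb, fun x => (hbP x).trans (haP (b x)), κ * μ, mul_mem hκ hμ, fun q => ?_⟩
    rw [MulAut.mul_apply, show b (Subgroup.inclusion le_sup_right q) =
      Subgroup.inclusion le_sup_right (μ q) from Subtype.ext (hbQ q), haQ]
    rfl
  inv_mem' := by
    rintro a ⟨ha, haP, κ, hκ, haQ⟩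
    refine ⟨inv_mem ha, fun x => ?_, κ⁻¹, inv_mem hκ, fun q => ?_⟩
    · rw [haP (a⁻¹ x), MulAut.apply_inv_self]
    · have h : a (Subgroup.inclusion le_sup_right (κ⁻¹ q)) = Subgroup.inclusion le_sup_right q := by
        refine Subtype.ext ?_
        rw [haQ, MulAut.apply_inv_self]
        rfl
      rw [← h, MulAut.inv_apply_self]
      rfl

theorem pairAut_map_le {P P₀ Q : Subgroup Ω} {K₀ : Subgroup (MulAut Q)}
    {f : ↥(P ⊔ Q) ≃* ↥(P₀ ⊔ Q)} (hf : IsoIn F f)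
    (hfP : ∀ x : ↥(P ⊔ Q), (x : Ω) ∈ P ↔ (f x : Ω) ∈ P₀)
    (hfQ : ∃ κ ∈ K₀, ∀ q : Q, (f (Subgroup.inclusion le_sup_right q) : Ω) = ((κ q : Q) : Ω)) :
    (pairAut F P Q K₀).map (MulAut.congr f).toMonoidHom = pairAut F P₀ Q K₀ := by
  have key : ∀ {P P₀ : Subgroup Ω} {f : ↥(P ⊔ Q) ≃* ↥(P₀ ⊔ Q)}, IsoIn F f →
      (∀ x : ↥(P ⊔ Q), (x : Ω) ∈ P ↔ (f x : Ω) ∈ P₀) →
      (∃ κ ∈ K₀, ∀ q : Q, (f (Subgroup.inclusion le_sup_right q) : Ω) = ((κ q : Q) : Ω)) →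
      ∀ β ∈ pairAut F P Q K₀, MulAut.congr f β ∈ pairAut F P₀ Q K₀ := by
    rintro P P₀ f hf hfP ⟨κ, hκ, hfQ⟩ β ⟨hβ, hβP, μ, hμ, hβQ⟩
    refine ⟨?_, fun y => ?_, κ * μ * κ⁻¹, mul_mem (mul_mem hκ hμ) (inv_mem hκ), fun q => ?_⟩
    · exact hf.congr_autGroup.le ⟨β, hβ, rfl⟩
    · obtain ⟨x, rfl⟩ := f.surjective y
      rw [← hfP, hβP, hfP]
      simp [MulAut.congr]
    · have h1 : f.symm (Subgroup.inclusion le_sup_right q) =
          Subgroup.inclusion le_sup_right (κ⁻¹ q) := by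
        rw [MulEquiv.symm_apply_eq]
        refine Subtype.ext ?_
        rw [hfQ, MulAut.apply_inv_self]
        rfl
      show (f (β (f.symm (Subgroup.inclusion le_sup_right q))) : Ω) = _
      rw [h1, show β (Subgroup.inclusion le_sup_right (κ⁻¹ q)) =
        Subgroup.inclusion le_sup_right (μ (κ⁻¹ q)) from Subtype.ext (hβQ _), hfQ]
      rfl
  refine le_antisymm (Subgroup.map_le_iff_le_comap.2 fun β hβ => key hf hfP hfQ β hβ)
    fun γ hγ => ⟨MulAut.congr f.symm γ, key hf.symm (fun y => ?_) ?_ γ hγ, ?_⟩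
  · rw [hfP (f.symm y), MulEquiv.apply_symm_apply]
  · obtain ⟨κ, hκ, hfQ⟩ := hfQ
    refine ⟨κ⁻¹, inv_mem hκ, fun q => ?_⟩
    have h : f (Subgroup.inclusion le_sup_right (κ⁻¹ q)) = Subgroup.inclusion le_sup_right q := by
      refine Subtype.ext ?_
      rw [hfQ, MulAut.apply_inv_self]
      rfl
    rw [← h, MulEquiv.symm_apply_apply]
    rfl
  · exact MulEquiv.ext fun y => by simp [MulAut.congr]

/-- The `K₀`-normalizer system of a receptive subgroup `Q` with Sylow `K₀`-automizer is saturated. -/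
theorem kNormalizer_saturated [Fact p.Prime] [Finite S] (hS : IsPGroup p S) (hF : F.IsSaturated p)
    {Q : Subgroup Ω} (hQS : Q ≤ S) (K₀ : Subgroup (MulAut Q)) (hQrec : F.IsReceptive Q)
    (hQsyl : IsSylowIn p (autInducedBy S Q ⊓ (F.autGroup Q ⊓ K₀)) (F.autGroup Q ⊓ K₀))
    {T : Subgroup Ω}
    (hT : ∀ g, g ∈ T ↔ g ∈ S ∧ ∃ κ ∈ K₀, ∀ q : Q, ((κ q : Q) : Ω) = g * (q : Ω) * g⁻¹)
    (E : FusionSystem T)
    (hE : ∀ (P : Subgroup Ω) (φ : P →* Ω), φ ∈ E.Hom P ↔ P ≤ T ∧ (∀ x, φ x ∈ T) ∧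
      ∃ ψ ∈ F.Hom (P ⊔ Q), (∀ x : P, ψ (Subgroup.inclusion le_sup_left x) = φ x) ∧
        ∃ κ ∈ K₀, ∀ q : Q, ψ (Subgroup.inclusion le_sup_right q) = ((κ q : Q) : Ω)) :
    E.IsSaturated p := by
  have hTS : T ≤ S := fun g hg => ((hT g).1 hg).1
  have hTN : T ≤ Subgroup.normalizer (Q : Set Ω) := fun g hg => by
    obtain ⟨-, κ, -, hκ⟩ := (hT g).1 hg
    exact mem_normalizer_of_conj_eq κ hκ
  -- maps of `E` as isomorphisms of the joins
  have hjoinψ : ∀ {P P₀ : Subgroup Ω} {φ : P →* Ω} {ψ : ↥(P ⊔ Q) →* Ω}, ψ ∈ F.Hom (P ⊔ Q) →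
      (∀ x : P, ψ (Subgroup.inclusion le_sup_left x) = φ x) → ∀ κ ∈ K₀,
      (∀ q : Q, ψ (Subgroup.inclusion le_sup_right q) = ((κ q : Q) : Ω)) → φ.range = P₀ →
      ∃ f : ↥(P ⊔ Q) ≃* ↥(P₀ ⊔ Q), IsoIn F f ∧
        (∀ x : ↥(P ⊔ Q), (x : Ω) ∈ P ↔ (f x : Ω) ∈ P₀) ∧
        (∀ x : P, (f (Subgroup.inclusion le_sup_left x) : Ω) = φ x) ∧
        (∃ κ ∈ K₀, ∀ q : Q, (f (Subgroup.inclusion le_sup_right q) : Ω) = ((κ q : Q) : Ω)) ∧
        ∀ x, (f x : Ω) = ψ x := by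
    intro P P₀ φ ψ hψ hψP κ hκ hψQ hr
    have hQ' : (Q.subgroupOf (P ⊔ Q)).map ψ = Q := by
      ext y
      constructor
      · rintro ⟨x, hx, rfl⟩
        rw [show x = Subgroup.inclusion le_sup_right ⟨(x : Ω), hx⟩ from rfl, hψQ]
        exact (κ _).2
      · intro hy
        refine ⟨Subgroup.inclusion le_sup_right (κ⁻¹ ⟨y, hy⟩), (κ⁻¹ ⟨y, hy⟩).2, ?_⟩
        rw [hψQ, MulAut.apply_inv_self]
    obtain ⟨f, hf, hfv⟩ := exists_iso hψ ((ext_range hψP hQ').trans (by rw [hr]))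
    refine ⟨f, hf, fun x => ?_, fun x => (hfv _).trans (hψP x),
      ⟨κ, hκ, fun q => (hfv _).trans (hψQ q)⟩, hfv⟩
    rw [hfv]
    constructor
    · intro hx
      rw [← hr]
      exact ⟨⟨x, hx⟩, (hψP _).symm⟩
    · intro hx
      rw [← hr] at hx
      obtain ⟨y, hy⟩ := hx
      rw [← hψP] at hy
      have := F.injective_of_mem hψ hy
      rw [← this]
      exact y.2
  have hjoin : ∀ {P P₀ : Subgroup Ω} {φ : P →* Ω}, φ ∈ E.Hom P → φ.range = P₀ →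
      ∃ f : ↥(P ⊔ Q) ≃* ↥(P₀ ⊔ Q), IsoIn F f ∧
        (∀ x : ↥(P ⊔ Q), (x : Ω) ∈ P ↔ (f x : Ω) ∈ P₀) ∧
        (∀ x : P, (f (Subgroup.inclusion le_sup_left x) : Ω) = φ x) ∧
        ∃ κ ∈ K₀, ∀ q : Q, (f (Subgroup.inclusion le_sup_right q) : Ω) = ((κ q : Q) : Ω) := by
    intro P P₀ φ hφ hr
    obtain ⟨-, -, ψ, hψ, hψP, κ, hκ, hψQ⟩ := (hE P φ).1 hφ
    obtain ⟨f, hf, h₁, h₂, h₃, -⟩ := hjoinψ hψ hψP κ hκ hψQ hr
    exact ⟨f, hf, h₁, h₂, h₃⟩
  intro P hP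
  have hPS := hP.trans hTS
  have hRS : P ⊔ Q ≤ S := sup_le hPS hQS
  -- a representative of the pair
  obtain ⟨R', hRR', h₁, -, hR'n⟩ := IsSaturated.exists_rep hS hF hRS
  obtain ⟨e₀, he₀⟩ := isConj_iff.1 hRR'
  have hR'S := isConj_le_right hRR'
  have := finite_mulAut_of_le (S := S) hR'S
  set A := pairAut F P Q K₀
  have hAF : A ≤ F.autGroup (P ⊔ Q) := fun β hβ => hβ.1
  obtain ⟨X, -, hXA, hXp, hXsyl⟩ := exists_isSylowIn_ge (X := (⊥ : Subgroup (MulAut R')))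
    (K := A.map (MulAut.congr e₀).toMonoidHom) bot_le IsPGroup.of_bot
  have hA₀ : A.map (MulAut.congr e₀).toMonoidHom ≤ F.autGroup R' :=
    (Subgroup.map_mono hAF).trans he₀.congr_autGroup.le
  obtain ⟨α₀, hα₀, hconj⟩ := IsSylowIn.exists_conj_mem h₁.2 (hXA.trans hA₀) hXp
  set e₁ : ↥(P ⊔ Q) ≃* R' := e₀.trans (α₀ : R' ≃* R') with he₁def
  have he₁ : IsoIn F e₁ := he₀.trans ((mem_autGroup_iff_isoIn hR'S).1 hα₀)
  set A' := A.map (MulAut.congr e₁).toMonoidHom with hA'def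
  have hA'F : A' ≤ F.autGroup R' := (Subgroup.map_mono hAF).trans he₁.congr_autGroup.le
  have hsylA' : IsSylowIn p (autInducedBy S R' ⊓ A') A' := by
    rw [isSylowIn_iff_card inf_le_right]
    refine Nat.dvd_antisymm
      (card_le_sylowPart inf_le_right ((isPGroup_autInducedBy hS).to_le inf_le_left)) ?_
    have hc : Nat.card A' = Nat.card (A.map (MulAut.congr e₀).toMonoidHom) := by
      rw [hA'def, Subgroup.card_map_of_injective (MulAut.congr e₁).injective,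
        Subgroup.card_map_of_injective (MulAut.congr e₀).injective]
    rw [hc, ← (isSylowIn_iff_card hXA).1 hXsyl,
      ← Subgroup.card_map_of_injective (K := X) (f := (MulAut.conj α₀).toMonoidHom)
        (MulAut.conj α₀).injective]
    refine Subgroup.card_dvd_of_le (show X.map (MulAut.conj α₀).toMonoidHom ≤ _ from ?_)
    rintro _ ⟨x, hx, rfl⟩
    refine ⟨hconj x hx, ?_⟩
    obtain ⟨a, ha, rfl⟩ := hXA hx
    exact ⟨a, ha, MulEquiv.ext fun y => by simp [he₁def, MulAut.congr, MulAut.mul_apply]⟩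
  -- move the image of `Q` back
  set Q' := img (isoHom e₁) Q
  have hQR : Q ≤ P ⊔ Q := le_sup_right
  obtain ⟨eq, heq, heqv⟩ := exists_iso (restrict_mem he₁.mem hQR) (range_restrict _ hQR)
  set AQ := F.autGroup Q ⊓ K₀
  set AQ' := AQ.map (MulAut.congr eq.symm.symm).toMonoidHom
  obtain ⟨α, hα, ψ, hψ, hψQ', hψpre⟩ :=
    exists_kExtension hS heq.symm hQrec (A' := AQ) inf_le_left hQsyl
  have hQ'R' : Q' ≤ R' := (img_le_range _ _).trans (isoHom_range e₁).le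
  have hN'Q : autPre S R' A' ≤ autPre S Q' AQ' := by
    rintro g ⟨hgS, _, ⟨β, hβ, rfl⟩, hg⟩
    obtain ⟨hβF, -, κ, hκ, hβQ⟩ := hβ
    have hκF : κ ∈ F.autGroup Q := (mem_autGroup_iff hQS).2
      (restrict_mem' ((mem_autGroup_iff hRS).1 hβF) hQR fun q => (hβQ q).symm)
    refine ⟨hgS, _, ⟨κ, ⟨hκF, hκ⟩, rfl⟩, fun y => ?_⟩
    obtain ⟨q, rfl⟩ := eq.surjective y
    rw [show ((MulAut.congr eq.symm.symm).toMonoidHom κ) (eq q) = eq (κ q) by simp [MulAut.congr],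
      heqv, heqv]
    show (e₁ (Subgroup.inclusion hQR (κ q)) : Ω) = g * (e₁ (Subgroup.inclusion hQR q) : Ω) * g⁻¹
    rw [← hg]
    congr 1
    simp only [MulEquiv.toMonoidHom_eq_coe, MonoidHom.coe_coe, MulAut.congr, MulEquiv.coe_mk,
      Equiv.coe_fn_mk, MulEquiv.trans_apply, MulEquiv.symm_apply_apply]
    exact congrArg e₁ (Subtype.ext (hβQ q).symm)
  have hPQ' : ∀ x : ↥(P ⊔ Q), (x : Ω) ∈ P → (e₁ x : Ω) ∈ autPre S Q' AQ' := by
    intro x hx
    obtain ⟨-, κ, hκ, hκv⟩ := (hT x).1 (hP hx)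
    have hκF : κ ∈ F.autGroup Q := (mem_autGroup_iff hQS).2 (conj_mem' hQS (hPS hx) hκv)
    refine ⟨hom_apply_mem he₁.mem x, _, ⟨κ, ⟨hκF, hκ⟩, rfl⟩, fun y => ?_⟩
    obtain ⟨q, rfl⟩ := eq.surjective y
    rw [show ((MulAut.congr eq.symm.symm).toMonoidHom κ) (eq q) = eq (κ q) by simp [MulAut.congr],
      heqv, heqv]
    show (e₁ (Subgroup.inclusion hQR (κ q)) : Ω) = (e₁ x : Ω) * (e₁ (Subgroup.inclusion hQR q) : Ω) * (e₁ x : Ω)⁻¹
    rw [← Subgroup.coe_inv, ← Subgroup.coe_mul, ← Subgroup.coe_mul, ← map_inv, ← map_mul, ← map_mul]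
    exact congrArg (fun z => (e₁ z : Ω)) (Subtype.ext (hκv q))
  have hdom : ∀ x : ↥(P ⊔ Q), (e₁ x : Ω) ∈ autPre S Q' AQ' ⊔ Q' := by
    have hle : P ⊔ Q ≤ (((autPre S Q' AQ' ⊔ Q').comap (isoHom e₁)).map (P ⊔ Q).subtype) := by
      refine sup_le (fun x hx => ?_) fun x hx => ?_
      · exact ⟨⟨x, le_sup_left (b := Q) hx⟩, le_sup_left (b := Q') (hPQ' _ hx), rfl⟩
      · exact ⟨⟨x, hQR hx⟩, le_sup_right (a := autPre S Q' AQ') ⟨_, hx, rfl⟩, rfl⟩
    intro x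
    obtain ⟨y, hy, hyx⟩ := hle x.2
    rw [← Subtype.ext hyx]
    exact hy
  have hR'dom : R' ≤ autPre S Q' AQ' ⊔ Q' := fun y hy => by
    have := hdom (e₁.symm ⟨y, hy⟩)
    rwa [MulEquiv.apply_symm_apply] at this
  -- the representative
  let π₀ : ↥(P ⊔ Q) →* Ω := ψ.comp ((isoHom e₁).codRestrict _ hdom)
  have hπ : π₀ ∈ F.Hom (P ⊔ Q) := F.comp_mem he₁.mem hψ hdom
  have hπQ : ∀ q : Q, π₀ (Subgroup.inclusion le_sup_right q) = ((α q : Q) : Ω) := fun q => by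
    show ψ ⟨(e₁ (Subgroup.inclusion hQR q) : Ω), _⟩ = _
    have h := hψQ' (eq q)
    rw [MulEquiv.symm_apply_apply] at h
    rw [← h]
    exact congrArg ψ (Subtype.ext (heqv q).symm)
  let φ₀ : P →* Ω := π₀.comp (Subgroup.inclusion le_sup_left)
  have hφ₀T : ∀ x, φ₀ x ∈ T := fun x => by
    obtain ⟨hS', κ, hκ, hv⟩ := hψpre ⟨_, hdom (Subgroup.inclusion le_sup_left x)⟩ (hPQ' _ x.2)
    exact (hT _).2 ⟨hS', κ, hκ.2, hv⟩
  have hφ₀E : φ₀ ∈ E.Hom P :=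
    (hE P φ₀).2 ⟨hP, hφ₀T, π₀, hπ, fun x => rfl, α, hα.2, hπQ⟩
  set P₀ := φ₀.range with hP₀
  have hP₀T : P₀ ≤ T := fun y hy => by obtain ⟨x, rfl⟩ := hy; exact hφ₀T x
  set R₀ := P₀ ⊔ Q
  set A₀ := pairAut F P₀ Q K₀
  obtain ⟨ē, hē, hēP, hēv, hēQ, hēπ⟩ := hjoinψ (φ := φ₀) hπ (fun x => rfl) α hα.2 hπQ hP₀.symm
  have hA₀map : A.map (MulAut.congr ē).toMonoidHom = A₀ := pairAut_map_le hē hēP hēQ
  have hR₀S : R₀ ≤ S := sup_le (hP₀T.trans hTS) hQS
  have := finite_mulAut_of_le (S := S) hR₀S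
  have hA₀F : A₀ ≤ F.autGroup R₀ := fun β hβ => hβ.1
  -- `ψ` carries `R'` onto `R₀`
  have hψē : ∀ x : ↥(P ⊔ Q), ψ ⟨_, hdom x⟩ = (ē x : Ω) := fun x => (hēπ x).symm
  have hN'dom : autPre S R' A' ≤ autPre S Q' AQ' ⊔ Q' := hN'Q.trans le_sup_left
  have hsyl₀ : IsSylowIn p (autInducedBy S R₀ ⊓ A₀) A₀ := by
    rw [isSylowIn_iff_card inf_le_right]
    refine Nat.dvd_antisymm
      (card_le_sylowPart inf_le_right ((isPGroup_autInducedBy hS).to_le inf_le_left)) ?_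
    have hc : Nat.card A₀ = Nat.card A' := by
      rw [← hA₀map, hA'def, Subgroup.card_map_of_injective (MulAut.congr ē).injective,
        Subgroup.card_map_of_injective (MulAut.congr e₁).injective]
    rw [hc, ← (isSylowIn_iff_card inf_le_right).1 hsylA', ← Subgroup.card_map_of_injective
      (K := autInducedBy S R' ⊓ A') (f := (MulAut.congr (e₁.symm.trans ē)).toMonoidHom)
        (MulAut.congr (e₁.symm.trans ē)).injective]
    refine Subgroup.card_dvd_of_le (show Subgroup.map _ _ ≤ _ from ?_)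
    rintro _ ⟨c, ⟨hc', hcA⟩, rfl⟩
    obtain ⟨g, hg, hgc⟩ := mem_autInducedBy_iff.1 hc'
    have hgN : g ∈ autPre S R' A' := ⟨hg, c, hcA, hgc⟩
    obtain ⟨β, hβ, hβc⟩ := hcA
    refine ⟨mem_autInducedBy_iff.2 ⟨ψ ⟨g, hN'dom hgN⟩, hom_apply_mem hψ _, fun y => ?_⟩,
      hA₀map.le ⟨β, hβ, ?_⟩⟩
    · obtain ⟨x, rfl⟩ := ē.surjective y
      rw [show ((MulAut.congr (e₁.symm.trans ē)).toMonoidHom c) (ē x) = ē (e₁.symm (c (e₁ x))) by
        simp [MulAut.congr], ← hψē, ← hψē, ← map_inv, ← map_mul, ← map_mul]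
      refine congrArg ψ (Subtype.ext ?_)
      show (e₁ (e₁.symm (c (e₁ x))) : Ω) = g * (e₁ x : Ω) * g⁻¹
      rw [MulEquiv.apply_symm_apply, hgc]
    · rw [← hβc]
      exact MulEquiv.ext fun y => by simp [MulAut.congr]
  have hR₀rec : F.IsReceptive R₀ := by
    refine IsSaturated.receptive hS hF ⟨hR₀S, fun R'' hR'' => ?_⟩
    refine le_trans ((IsSaturated.fullyCentralized hS hF hR'n).2 R''
      (isConj_trans (isConj_symm he₁.isConj) (isConj_trans hē.isConj hR''))) ?_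
    have := finite_le (centralizerIn_le (S := S) R₀)
    have hC : centralizerIn S R' ≤ autPre S R' A' := fun g hg =>
      ⟨hg.1, 1, one_mem _, fun x => by
        rw [MulAut.one_apply, ← (mem_centralizerIn.1 hg).2 x x.2, mul_inv_cancel_right]⟩
    have hmem : ∀ g : centralizerIn S R', ψ ⟨(g : Ω), hN'dom (hC g.2)⟩ ∈ centralizerIn S R₀ := by
      intro g
      refine mem_centralizerIn.2 ⟨hom_apply_mem hψ _, fun y hy => ?_⟩
      obtain ⟨x, hx⟩ := ē.surjective ⟨y, hy⟩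
      rw [← show (ē x : Ω) = y from congrArg Subtype.val hx, ← hψē, ← map_mul, ← map_mul]
      exact congrArg ψ (Subtype.ext ((mem_centralizerIn.1 g.2).2 _ (e₁ x).2))
    exact Nat.card_le_card_of_injective (fun g => (⟨_, hmem g⟩ : centralizerIn S R₀))
      fun a b h => Subtype.ext
        (congrArg Subtype.val (F.injective_of_mem hψ (congrArg Subtype.val h)) :)
  -- elements of `N_T(P₀)`
  have hNT : ∀ g ∈ T, g ∈ Subgroup.normalizer (P₀ : Set Ω) → g ∈ autPre S R₀ A₀ := by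
    intro g hg hgP
    obtain ⟨hgS, κ, hκ, hκv⟩ := (hT g).1 hg
    have hgR : g ∈ Subgroup.normalizer (R₀ : Set Ω) := by
      rw [Subgroup.mem_normalizer_iff_map_conj_eq, Subgroup.map_sup,
        Subgroup.mem_normalizer_iff_map_conj_eq.1 hgP,
        Subgroup.mem_normalizer_iff_map_conj_eq.1 (hTN hg)]
    refine ⟨hgS, conjAut (⟨g, hgS, hgR⟩ : normalizerIn S R₀),
      ⟨autInducedBy_le_autGroup hR₀S (conjAut_mem _), fun x => ?_, κ, hκ, fun q => (hκv q).symm⟩,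
      fun x => rfl⟩
    exact Subgroup.mem_normalizer_iff.1 hgP x
  have hNT' : ∀ g ∈ autPre S R₀ A₀, g ∈ T ∧ g ∈ Subgroup.normalizer (P₀ : Set Ω) := by
    rintro g ⟨hgS, β, ⟨-, hβP, κ, hκ, hβQ⟩, hg⟩
    refine ⟨(hT g).2 ⟨hgS, κ, hκ, fun q => (hβQ q).symm.trans (hg _)⟩,
      Subgroup.mem_normalizer_iff.2 fun x => ⟨fun hx => ?_, fun hx => ?_⟩⟩
    · have h1 := (hβP ⟨x, le_sup_left (b := Q) hx⟩).1 hx
      rwa [hg] at h1
    · have h1 := (hβP (β⁻¹ ⟨_, le_sup_left (b := Q) hx⟩)).2 (by rwa [MulAut.apply_inv_self])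
      have h2 := hg (β⁻¹ ⟨_, le_sup_left (b := Q) hx⟩)
      rw [MulAut.apply_inv_self] at h2
      rwa [← mul_left_cancel (mul_right_cancel h2)] at h1
  refine ⟨P₀, ⟨φ₀, hφ₀E, rfl⟩, ⟨hP₀T, ?_⟩, hP₀T, ?_⟩
  · -- fully automized
    have hres : ∀ β : A₀, ∀ x : P₀, (((β : MulAut ↥R₀) (Subgroup.inclusion le_sup_left x)) : Ω) ∈ P₀ :=
      fun β x => (β.2.2.1 _).1 x.2
    let r : A₀ →* MulAut P₀ :=
      { toFun := fun β =>
          { toFun := fun x => ⟨_, hres β x⟩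
            invFun := fun x => ⟨_, hres β⁻¹ x⟩
            left_inv := fun x => Subtype.ext (congrArg Subtype.val
              ((β : MulAut ↥R₀).symm_apply_apply (Subgroup.inclusion le_sup_left x)) :)
            right_inv := fun x => Subtype.ext (congrArg Subtype.val
              ((β : MulAut ↥R₀).apply_symm_apply (Subgroup.inclusion le_sup_left x)) :)
            map_mul' := fun x y => Subtype.ext (by simp [map_mul]) }
        map_one' := rfl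
        map_mul' := fun a b => rfl }
    have hrange : r.range = E.autGroup P₀ := by
      ext γ
      rw [mem_autGroup_iff hP₀T]
      constructor
      · rintro ⟨β, rfl⟩
        obtain ⟨hβF, -, κ, hκ, hβQ⟩ := β.2
        exact (hE P₀ _).2 ⟨hP₀T, fun x => hP₀T (hres β x), _, (mem_autGroup_iff hR₀S).1 hβF,
          fun x => rfl, κ, hκ, hβQ⟩
      · intro hγ
        obtain ⟨f, hf, hfP, hfv, hfQ⟩ := hjoin hγ (P₀ := P₀) (by
          rw [MonoidHom.range_comp, MonoidHom.range_eq_top.2 γ.surjective, ← MonoidHom.range_eq_map,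
            Subgroup.range_subtype])
        exact ⟨⟨f, (mem_autGroup_iff_isoIn hR₀S).2 hf, hfP, hfQ⟩,
          MulEquiv.ext fun x => Subtype.ext (hfv x)⟩
    obtain ⟨R, hR⟩ := hsyl₀
    let r' : A₀ →* E.autGroup P₀ := r.codRestrict _ fun β => hrange.le ⟨β, rfl⟩
    have hr' : Function.Surjective r' := fun γ => by
      obtain ⟨β, hβ⟩ := hrange.ge γ.2
      exact ⟨β, Subtype.ext hβ⟩
    refine ⟨R.mapSurjective hr', ?_⟩
    rw [Sylow.coe_mapSurjective, hR]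
    ext γ
    rw [Subgroup.mem_subgroupOf, mem_autInducedBy_iff]
    constructor
    · rintro ⟨β, ⟨hβ, -⟩, rfl⟩
      obtain ⟨g, hg, hgv⟩ := mem_autInducedBy_iff.1 hβ
      exact ⟨g, (hNT' g ⟨hg, β, β.2, hgv⟩).1, fun x => hgv _⟩
    · rintro ⟨g, hg, hgv⟩
      obtain ⟨-, β, hβA, hβv⟩ := hNT g hg (mem_normalizer_of_conj_eq _ hgv)
      refine ⟨⟨β, hβA⟩, ⟨mem_autInducedBy_iff.2 ⟨g, hTS hg, hβv⟩, hβA⟩,
        Subtype.ext (MulEquiv.ext fun x => Subtype.ext ?_)⟩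
      exact (hβv _).trans (hgv x).symm
  · -- receptive
    intro P₁ θ hθ hθr
    obtain ⟨f₁, hf₁, hf₁P, hf₁v, hf₁Q⟩ := hjoin hθ hθr
    have hθT := ((hE P₁ θ).1 hθ).1
    set N := extender T P₁ θ
    have hNA : ∀ g ∈ N, g ∈ autPre S (P₁ ⊔ Q) (pairAut F P₁ Q K₀) := by
      intro g hg
      obtain ⟨hgT, hgP, -⟩ := mem_extender_iff.1 hg
      obtain ⟨hgS, κ, hκ, hκv⟩ := (hT g).1 hgT
      have hgR : g ∈ Subgroup.normalizer ((P₁ ⊔ Q : Subgroup Ω) : Set Ω) := by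
        rw [Subgroup.mem_normalizer_iff_map_conj_eq, Subgroup.map_sup,
          Subgroup.mem_normalizer_iff_map_conj_eq.1 hgP,
          Subgroup.mem_normalizer_iff_map_conj_eq.1 (hTN hgT)]
      refine ⟨hgS, conjAut (⟨g, hgS, hgR⟩ : normalizerIn S (P₁ ⊔ Q)),
        ⟨autInducedBy_le_autGroup (sup_le (hθT.trans hTS) hQS) (conjAut_mem _), fun x => ?_,
          κ, hκ, fun q => (hκv q).symm⟩, fun x => rfl⟩
      exact Subgroup.mem_normalizer_iff.1 hgP x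
    have hmap := pairAut_map_le hf₁ hf₁P hf₁Q
    set AS := autInducedBy S R₀ ⊓ A₀
    let C : Subgroup (MulAut ↥R₀) :=
      { carrier := {β | β ∈ A₀ ∧ ∀ x : P₀, β (Subgroup.inclusion le_sup_left x) =
          Subgroup.inclusion le_sup_left x}
        one_mem' := ⟨one_mem _, fun _ => rfl⟩
        mul_mem' := fun {a b} ha hb => ⟨mul_mem ha.1 hb.1, fun x => by
          rw [MulAut.mul_apply, hb.2, ha.2]⟩
        inv_mem' := fun {a} ha => ⟨inv_mem ha.1, fun x => a.injective (by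
          rw [MulAut.apply_inv_self, ha.2])⟩ }
    have hnorm : ∀ a ∈ A₀, ∀ c ∈ C, a * c * a⁻¹ ∈ C := by
      rintro a ha c ⟨hcA, hc⟩
      refine ⟨mul_mem (mul_mem ha hcA) (inv_mem ha), fun x => ?_⟩
      have hx : ((a⁻¹ (Subgroup.inclusion le_sup_left x)) : Ω) ∈ P₀ :=
        ((inv_mem ha).2.1 _).1 x.2
      rw [MulAut.mul_apply, MulAut.mul_apply,
        show a⁻¹ (Subgroup.inclusion le_sup_left x) = Subgroup.inclusion le_sup_left ⟨_, hx⟩ from rfl,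
        hc]
      exact MulAut.apply_inv_self _ a _
    have hASN : AS ≤ Subgroup.normalizer (C : Set (MulAut ↥R₀)) := fun a ha =>
      Subgroup.mem_normalizer_iff.2 fun c => ⟨hnorm a ha.2 c, fun h => by
        have := hnorm a⁻¹ (inv_mem ha.2) _ h
        simpa [mul_assoc] using this⟩
    set M := AS ⊔ C
    have hMA : M ≤ A₀ := sup_le inf_le_right fun _ h => h.1
    have hsylM : IsSylowIn p AS M := by
      rw [isSylowIn_iff_card le_sup_left]
      refine Nat.dvd_antisymm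
        (card_le_sylowPart le_sup_left ((isPGroup_autInducedBy hS).to_le inf_le_left)) ?_
      rw [(isSylowIn_iff_card inf_le_right).1 hsyl₀]
      exact Nat.pow_dvd_pow _ ((Nat.factorization_le_iff_dvd Nat.card_pos.ne' Nat.card_pos.ne').2
        (Subgroup.card_dvd_of_le hMA) p)
    set Xs := (autInducedBy N (P₁ ⊔ Q)).map (MulAut.congr f₁).toMonoidHom
    have hXM : Xs ≤ M := by
      rintro _ ⟨c, hc, rfl⟩
      obtain ⟨g, hg, hgc⟩ := mem_autInducedBy_iff.1 hc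
      obtain ⟨-, κ', hκ', hκ'v⟩ := hNA g hg
      have hcA : MulAut.congr f₁ c ∈ A₀ := hmap.le ⟨κ', hκ', by
        rw [show c = κ' from MulEquiv.ext fun x => Subtype.ext ((hgc x).trans (hκ'v x).symm)]
        rfl⟩
      obtain ⟨hgT, hgP, h, hh, hgh⟩ := mem_extender_iff.1 hg
      have hhP : h ∈ Subgroup.normalizer (P₀ : Set Ω) := by
        have hfwd : ∀ y ∈ P₀, h * y * h⁻¹ ∈ P₀ := fun y hy => by
          rw [← hθr] at hy ⊢
          obtain ⟨x, rfl⟩ := hy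
          exact ⟨⟨_, conj_mem_of_mem_normalizer hgP x.2⟩, hgh x _⟩
        have := finite_le (hP₀T.trans hTS)
        rw [Subgroup.mem_normalizer_iff_map_conj_eq]
        refine Subgroup.eq_of_le_of_card_ge ?_
          (Subgroup.card_map_of_injective (MulAut.conj h).injective).ge
        rintro _ ⟨y, hy, rfl⟩
        exact hfwd y hy
      obtain ⟨-, γ, hγA, hγ⟩ := hNT h hh hhP
      have hγS : γ ∈ AS := ⟨mem_autInducedBy_iff.2 ⟨h, hTS hh, hγ⟩, hγA⟩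
      refine (Subgroup.mul_mem_cancel_left M (le_sup_left (b := C) (AS.inv_mem hγS))).1
        (le_sup_right (a := AS) ⟨mul_mem (inv_mem hγA) hcA, fun y => ?_⟩)
      obtain ⟨x, hx⟩ : (y : Ω) ∈ θ.range := hθr.ge y.2
      rw [MulAut.mul_apply]
      apply γ.injective
      rw [MulAut.apply_inv_self]
      refine Subtype.ext ?_
      have hy : Subgroup.inclusion le_sup_left y = f₁ (Subgroup.inclusion le_sup_left x) :=
        Subtype.ext (hx.symm.trans (hf₁v x).symm)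
      rw [hγ, hy]
      show ((MulAut.congr f₁ c) (f₁ (Subgroup.inclusion le_sup_left x)) : Ω) = _
      rw [show MulAut.congr f₁ c (f₁ (Subgroup.inclusion le_sup_left x)) =
        f₁ (c (Subgroup.inclusion le_sup_left x)) by simp [MulAut.congr]]
      rw [show c (Subgroup.inclusion le_sup_left x) =
        Subgroup.inclusion le_sup_left ⟨_, conj_mem_of_mem_normalizer hgP x.2⟩ from
        Subtype.ext (hgc _), hf₁v, hf₁v, hgh x]
    have hXp : IsPGroup p Xs :=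
      (isPGroup_autInducedBy (hS.to_le (extender_le_sup.trans hTS))).map _
    obtain ⟨k, hk, hkX⟩ := IsSylowIn.exists_conj_mem hsylM hXM hXp
    have hk' : k ∈ (AS : Set (MulAut ↥R₀)) * (C : Set (MulAut ↥R₀)) := by
      rw [← Subgroup.coe_mul_of_left_le_normalizer_right AS C hASN]
      exact hk
    obtain ⟨a, ha, c, hc, rfl⟩ := hk'
    have hf : IsoIn F (f₁.trans (c : ↥R₀ ≃* ↥R₀)) :=
      hf₁.trans ((mem_autGroup_iff_isoIn hR₀S).1 (hA₀F hc.1))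
    have hdomN : N ⊔ (P₁ ⊔ Q) ≤ extender S (P₁ ⊔ Q) (isoHom (f₁.trans (c : ↥R₀ ≃* ↥R₀))) := by
      refine sup_le (fun g hg => ?_) (le_extender hf.le_left fun x => hom_apply_mem hf.mem x)
      obtain ⟨hgS, κ, hκ, hκv⟩ := hNA g hg
      have h1 := hkX _ ⟨κ, mem_autInducedBy_iff.2 ⟨g, hg, hκv⟩, rfl⟩
      have h2 : c * MulAut.congr f₁ κ * c⁻¹ ∈ AS := by
        have := AS.mul_mem (AS.mul_mem (AS.inv_mem ha) h1) ha
        simpa [mul_assoc] using this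
      obtain ⟨h, hh, hv⟩ := mem_autInducedBy_iff.1 h2.1
      refine mem_extender_iff.2 ⟨hgS, mem_normalizer_of_conj_eq κ hκv, h, hh, fun x hx => ?_⟩
      rw [isoHom_apply, isoHom_apply, show (⟨g * x * g⁻¹, hx⟩ : ↥(P₁ ⊔ Q)) = κ x from
        Subtype.ext (hκv x).symm, ← hv]
      simp [MulAut.congr, MulAut.mul_apply]
    obtain ⟨ψ', hψ', hag⟩ := exists_extension hR₀rec hf le_sup_right hdomN
    obtain ⟨κ₁, hκ₁, hf₁Q'⟩ := hf₁Q
    obtain ⟨μ, hμ, hcQ⟩ := hc.1.2.2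
    have hψQ : ∀ q : Q, ψ' (Subgroup.inclusion le_sup_right (Subgroup.inclusion le_sup_right q :
        ↥(P₁ ⊔ Q))) = (((μ * κ₁) q : Q) : Ω) := fun q => by
      rw [hag]
      show (c (f₁ (Subgroup.inclusion le_sup_right q)) : Ω) = _
      rw [show f₁ (Subgroup.inclusion le_sup_right q) = Subgroup.inclusion le_sup_right (κ₁ q) from
        Subtype.ext (hf₁Q' q), hcQ]
      rfl
    have hNQ : N ⊔ Q ≤ N ⊔ (P₁ ⊔ Q) := sup_le_sup_left le_sup_right N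
    have hψT : ∀ g : N, ψ' (Subgroup.inclusion le_sup_left g) ∈ T := fun g => by
      obtain ⟨-, κ, hκ, hκv⟩ := (hT g).1 (mem_extender_iff.1 g.2).1
      refine (hT _).2 ⟨hom_apply_mem hψ' _, (μ * κ₁) * κ * (μ * κ₁)⁻¹,
        mul_mem (mul_mem (mul_mem hμ hκ₁) hκ) (inv_mem (mul_mem hμ hκ₁)), fun q => ?_⟩
      obtain ⟨q, rfl⟩ := (μ * κ₁).surjective q
      rw [MulAut.mul_apply, MulAut.mul_apply, MulAut.inv_apply_self, ← hψQ, ← hψQ, ← map_inv,
        ← map_mul, ← map_mul]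
      exact congrArg ψ' (Subtype.ext (hκv q))
    refine ⟨ψ'.comp (Subgroup.inclusion le_sup_left), (hE N _).2 ⟨fun g hg => (mem_extender_iff.1 hg).1,
      hψT, ψ'.comp (Subgroup.inclusion hNQ), restrict_mem hψ' hNQ, fun x => rfl, μ * κ₁,
      mul_mem hμ hκ₁, hψQ⟩, fun x hx hN => ?_⟩
    have h := hag (Subgroup.inclusion le_sup_left (⟨x, hx⟩ : P₁))
    refine h.trans ?_
    obtain ⟨y, hy⟩ : θ ⟨x, hx⟩ ∈ θ.range := ⟨_, rfl⟩
    show (c (f₁ (Subgroup.inclusion le_sup_left (⟨x, hx⟩ : P₁))) : Ω) = θ ⟨x, hx⟩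
    have hθP : θ ⟨x, hx⟩ ∈ P₀ := hθr ▸ ⟨_, rfl⟩
    rw [show f₁ (Subgroup.inclusion le_sup_left (⟨x, hx⟩ : P₁)) =
      Subgroup.inclusion le_sup_left ⟨θ ⟨x, hx⟩, hθP⟩ from Subtype.ext (hf₁v _), hc.2]
    rfl

/-- The normalizer system of a fully normalized subgroup is saturated. -/
theorem normalizerSystem_saturated [Fact p.Prime] [Finite S] (hS : IsPGroup p S)
    (hF : F.IsSaturated p) {Q : Subgroup Ω} (hQ : F.IsFullyNormalized Q)
    {E : FusionSystem (normalizerIn S Q)} (hE : F.IsNormalizerSystem Q E) : E.IsSaturated p := by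
  refine kNormalizer_saturated hS hF hQ.1 ⊤
    (IsSaturated.receptive hS hF (IsSaturated.fullyCentralized hS hF hQ)) ?_ (fun g => ?_) E
    fun P φ => ?_
  · rw [inf_top_eq, inf_eq_left.2 (autInducedBy_le_autGroup hQ.1)]
    exact (IsSaturated.fullyAutomized hS hF hQ).2
  · exact ⟨fun hg => ⟨hg.1, conjAut (⟨g, hg⟩ : normalizerIn S Q), trivial, fun _ => rfl⟩,
      fun ⟨hg, κ, _, hκ⟩ => ⟨hg, mem_normalizer_of_conj_eq κ hκ⟩⟩
  rw [hE P]
  constructor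
  · rintro ⟨-, hP, hφ, ψ, hψ, hψP, hψQ⟩
    obtain ⟨f, -, hfv⟩ := exists_iso (restrict_mem hψ (le_sup_right : Q ≤ P ⊔ Q))
      ((range_restrict _ _).trans hψQ)
    exact ⟨hP, hφ, ψ, hψ, hψP, f, trivial, fun q => (hfv q).symm⟩
  · rintro ⟨hP, hφ, ψ, hψ, hψP, κ, -, hψQ⟩
    refine ⟨restrict_mem' hψ le_sup_left fun x => (hψP x).symm, hP, hφ, ψ, hψ, hψP, ?_⟩
    ext y
    constructor
    · rintro ⟨x, hx, rfl⟩
      rw [show x = Subgroup.inclusion le_sup_right ⟨(x : Ω), hx⟩ from rfl, hψQ]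
      exact (κ _).2
    · intro hy
      refine ⟨Subgroup.inclusion le_sup_right (κ⁻¹ ⟨y, hy⟩), (κ⁻¹ ⟨y, hy⟩).2, ?_⟩
      rw [hψQ, MulAut.apply_inv_self]

/-- The centralizer system of a fully centralized subgroup is saturated. -/
theorem centralizerSystem_saturated [Fact p.Prime] [Finite S] (hS : IsPGroup p S)
    (hF : F.IsSaturated p) {Q : Subgroup Ω} (hQ : F.IsFullyCentralized Q)
    {E : FusionSystem (centralizerIn S Q)} (hE : F.IsCentralizerSystem Q E) : E.IsSaturated p := by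
  refine kNormalizer_saturated hS hF hQ.1 ⊥ (IsSaturated.receptive hS hF hQ) ?_ (fun g => ?_) E
    fun P φ => ?_
  · rw [inf_bot_eq, inf_bot_eq, isSylowIn_iff_card le_rfl]
    simp
  · constructor
    · exact fun hg => ⟨hg.1, 1, one_mem _, fun q => by
        rw [MulAut.one_apply, ← (mem_centralizerIn.1 hg).2 q q.2, mul_inv_cancel_right]⟩
    · rintro ⟨hg, κ, hκ, hκv⟩
      rw [Subgroup.mem_bot] at hκ
      subst hκ
      refine mem_centralizerIn.2 ⟨hg, fun q hq => ?_⟩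
      have h := hκv ⟨q, hq⟩
      rw [MulAut.one_apply] at h
      exact eq_mul_inv_iff_mul_eq.1 h
  rw [hE P]
  constructor
  · rintro ⟨-, hP, hφ, ψ, hψ, hψP, hψQ⟩
    exact ⟨hP, hφ, ψ, hψ, hψP, 1, one_mem _, hψQ⟩
  · rintro ⟨hP, hφ, ψ, hψ, hψP, κ, hκ, hψQ⟩
    rw [Subgroup.mem_bot] at hκ
    subst hκ
    exact ⟨restrict_mem' hψ le_sup_left fun x => (hψP x).symm, hP, hφ, ψ, hψ, hψP, hψQ⟩

end CfsgLib.Fusion
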