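import Cfsg.Agent.Lib.Fusion.SmallAbelian
import Cfsg.Agent.Lib.Fusion.KNormalizer
import Cfsg.Agent.Lib.Fusion.Factor
import Cfsg.Agent.Lib.Fusion.NormalCriterion
import Cfsg.Agent.Lib.Fusion.CoprimeCriterion
import Cfsg.Agent.Lib.Transfer.PResidual

/-!
Abelian subgroups of small exponent control fusion.
-/

set_option autoImplicit false

namespace CfsgLib.Fusion

open Cfsg Cfsg.FusionSystem

variable {Ω : Type*} [Group Ω] {S : Subgroup Ω} {F E : FusionSystem S} {p : ℕ}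

/-- The maps of `F` between subgroups of `T` lying in `E`. -/
def restrictSystem (E : FusionSystem S) {T : Subgroup Ω} (hT : T ≤ S) : FusionSystem T where
  Hom P := {φ | φ ∈ E.Hom P ∧ P ≤ T ∧ ∀ x : P, φ x ∈ T}
  le_of_mem h := h.2
  injective_of_mem h := E.injective_of_mem h.1
  conj_mem {P g} hP hg := ⟨E.conj_mem (hP.trans hT) (hT hg), hP,
    fun x => T.mul_mem (T.mul_mem hg (hP x.2)) (T.inv_mem hg)⟩
  comp_mem := by
    rintro P Q φ ψ ⟨hφ, hP, -⟩ ⟨hψ, -, hψT⟩ h
    exact ⟨E.comp_mem hφ hψ h, hP, fun x => hψT _⟩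
  inv_mem := by
    rintro P φ ⟨hφ, hP, hφT⟩
    obtain ⟨χ, hχ, hr, hv, -⟩ := exists_inv hφ rfl
    refine ⟨χ, ⟨hχ, ?_, fun y => hP (hr.le (MonoidHom.mem_range.2 ⟨y, rfl⟩))⟩, fun x => hv x _⟩
    rintro _ ⟨x, rfl⟩
    exact hφT x

/-- The `K`-normalizer system. -/
def kSystem (F : FusionSystem S) {Q : Subgroup Ω} (hQ : Q ≤ S) (K : Subgroup (MulAut Q)) :
    FusionSystem (autPre S Q K) where
  Hom P := {φ | P ≤ autPre S Q K ∧ (∀ x, φ x ∈ autPre S Q K) ∧
    ∃ ψ ∈ F.Hom (P ⊔ Q), (∀ x : P, ψ (Subgroup.inclusion le_sup_left x) = φ x) ∧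
      ∃ κ ∈ K, ∀ q : Q, ψ (Subgroup.inclusion le_sup_right q) = ((κ q : Q) : Ω)}
  le_of_mem h := ⟨h.1, h.2.1⟩
  injective_of_mem := by
    rintro P φ ⟨-, -, ψ, hψ, hv, -⟩ a b hab
    exact Subgroup.inclusion_injective le_sup_left
      (F.injective_of_mem hψ ((hv a).trans (hab.trans (hv b).symm)))
  conj_mem := by
    intro P g hP hg
    have hTS : autPre S Q K ≤ S := fun x hx => hx.1
    obtain ⟨κ, hκ, hκv⟩ := hg.2
    exact ⟨hP, fun x => (autPre S Q K).mul_mem ((autPre S Q K).mul_mem hg (hP x.2))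
        ((autPre S Q K).inv_mem hg),
      conjHom _ g, F.conj_mem (sup_le (hP.trans hTS) hQ) hg.1, fun x => rfl, κ, hκ,
      fun q => (hκv q).symm⟩
  comp_mem := by
    rintro P R φ χ ⟨hP, hφT, a, ha, haP, κ, hκ, haQ⟩ ⟨-, hχT, b, hb, hbR, μ, hμ, hbQ⟩ h
    have hmem : ∀ z, a z ∈ R ⊔ Q := apply_mem_of_sup
      (fun x => haP x ▸ Subgroup.mem_sup_left (h x))
      (fun q => haQ q ▸ Subgroup.mem_sup_right (κ q).2)
    refine ⟨hP, fun x => hχT _, _, F.comp_mem ha hb hmem, fun x => ?_, μ * κ, K.mul_mem hμ hκ,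
      fun q => ?_⟩
    · show b ⟨a (Subgroup.inclusion le_sup_left x), _⟩ = χ ⟨φ x, h x⟩
      rw [← hbR]
      congr 1
      exact Subtype.ext (haP x)
    · show b ⟨a (Subgroup.inclusion le_sup_right q), _⟩ = _
      rw [MulAut.mul_apply, ← hbQ]
      congr 1
      exact Subtype.ext (haQ q)
  inv_mem := by
    rintro P φ ⟨hP, hφT, a, ha, haP, κ, hκ, haQ⟩
    have hinj : Function.Injective φ := fun x y h => Subgroup.inclusion_injective le_sup_left
      (F.injective_of_mem ha ((haP x).trans (h.trans (haP y).symm)))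
    obtain ⟨θ, hθ, -, hθv, -⟩ := exists_inv ha rfl
    have hle : φ.range ⊔ Q ≤ a.range := by
      refine sup_le ?_ fun q hq => ?_
      · rintro _ ⟨x, rfl⟩
        exact ⟨_, haP x⟩
      · exact ⟨Subgroup.inclusion le_sup_right (κ⁻¹ ⟨q, hq⟩),
          by rw [haQ, MulAut.apply_inv_self]⟩
    have hmem : ∀ y : φ.range, θ (Subgroup.inclusion hle (Subgroup.inclusion le_sup_left y)) ∈ P := by
      rintro ⟨_, x, rfl⟩
      rw [show Subgroup.inclusion hle (Subgroup.inclusion le_sup_left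
        (⟨φ x, x, rfl⟩ : φ.range)) = ⟨a (Subgroup.inclusion le_sup_left x), MonoidHom.mem_range.2 ⟨_, rfl⟩⟩
        from Subtype.ext (haP x).symm, hθv]
      exact x.2
    refine ⟨(θ.comp (Subgroup.inclusion hle)).comp (Subgroup.inclusion le_sup_left),
      ⟨?_, fun y => hP (hmem y), θ.comp (Subgroup.inclusion hle), restrict_mem hθ hle,
        fun y => rfl, κ⁻¹, K.inv_mem hκ, fun q => ?_⟩, fun x => ?_⟩
    · rintro _ ⟨x, rfl⟩
      exact hφT x
    · show θ _ = _
      rw [show Subgroup.inclusion hle (Subgroup.inclusion le_sup_right q) =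
        ⟨a (Subgroup.inclusion le_sup_right (κ⁻¹ q)), MonoidHom.mem_range.2 ⟨_, rfl⟩⟩ from
        Subtype.ext ((haQ _).trans (congrArg Subtype.val (MulAut.apply_inv_self _ κ q))).symm, hθv]
      rfl
    · show θ _ = _
      rw [show Subgroup.inclusion hle (Subgroup.inclusion le_sup_left
        (⟨φ x, x, rfl⟩ : φ.range)) = ⟨a (Subgroup.inclusion le_sup_left x), MonoidHom.mem_range.2 ⟨_, rfl⟩⟩
        from Subtype.ext (haP x).symm, hθv]
      rfl

/-- If `E ≤ F` share the maps between abelian subgroups of small exponent of a strongly closed `H`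
containing the differences of all automorphisms of order prime to `p`, then `F ≤ E`. -/
theorem le_of_small_abelian [Fact p.Prime] [Finite S] (hS : IsPGroup p S) (hF : F.IsSaturated p)
    (hE : E.IsSaturated p) (hEF : E.IsSubsystemOf F) {H : Subgroup Ω} (hH : F.StronglyClosed H)
    (hdiff : ∀ (P : Subgroup Ω) (α : MulAut P), P ≤ S → α ∈ F.autGroup P →
      (orderOf α).Coprime p → ∀ x : P, (x : Ω)⁻¹ * α x ∈ H)
    (n : ℕ) (hn : p ^ n ≠ 2) (hsmall : ∀ {P : Subgroup Ω} (x : P),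
      Transfer.IsSmall p x → x ^ p ^ n = 1)
    (hyp : ∀ A : Subgroup Ω, A ≤ H → IsMulCommutative A → (∀ a ∈ A, a ^ p ^ n = 1) →
      ∀ φ ∈ F.Hom A, φ ∈ E.Hom A) : F ≤ E := by
  have hp : p.Prime := Fact.out
  suffices main : ∀ (k : ℕ) (A : Subgroup Ω), Nat.card S - Nat.card A = k → A ≤ H →
      IsMulCommutative A → (∀ a ∈ A, a ^ p ^ n = 1) → F.IsFullyNormalized A → ∀ hA : A ≤ S,
      ∀ (P : Subgroup Ω) (φ : P →* Ω),
        φ ∈ (kSystem F hA (autInducedBy S A)).Hom P → φ ∈ E.Hom P by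
    intro P φ hφ
    have htriv : ∀ q : (⊥ : Subgroup Ω), q = 1 := fun q => Subtype.ext (Subgroup.mem_bot.1 q.2)
    have hS0 : ∀ g ∈ S, g ∈ autPre S ⊥ (autInducedBy S (⊥ : Subgroup Ω)) := fun g hg =>
      ⟨hg, 1, one_mem _, fun q => by rw [htriv q]; simp⟩
    refine main _ ⊥ rfl bot_le inferInstance (fun a ha => by rw [Subgroup.mem_bot.1 ha, one_pow])
      ⟨bot_le, fun Q hQ => ?_⟩ bot_le P φ ⟨fun x hx => hS0 x (hom_le hφ hx),
        fun x => hS0 _ (hom_apply_mem hφ x), φ.comp (Subgroup.inclusion (sup_le le_rfl bot_le)),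
        restrict_mem hφ _, fun x => rfl, 1, one_mem _, fun q => by
          rw [htriv q, map_one, map_one]
          rfl⟩
    rw [Subgroup.eq_bot_of_card_eq Q ((isConj_card hQ).symm.trans Subgroup.card_bot)]
  intro k
  induction k using Nat.strong_induction_on with
  | _ k ih =>
  intro A hk hAH hAab hAexp hAn hAS
  set K := autInducedBy S A with hKdef
  set T := autPre S A K with hTdef
  set G := kSystem F hAS K with hGdef
  have hTS : T ≤ S := fun x hx => hx.1
  have hfinT : Finite T := finite_le hTS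
  have := finite_mulAut_of_le (S := S) hAS
  have hKF : K ≤ F.autGroup A := autInducedBy_le_autGroup hAS
  have hGsat : G.IsSaturated p := by
    refine kNormalizer_saturated hS hF hAS K
      (IsSaturated.receptive hS hF (IsSaturated.fullyCentralized hS hF hAn)) ?_
      (fun g => Iff.rfl) G fun P φ => Iff.rfl
    rw [inf_eq_right.2 hKF, inf_idem]
    obtain ⟨W, hW, hWK, -, hWs⟩ := exists_isSylowIn_ge (le_refl K) (isPGroup_autInducedBy hS)
    rwa [le_antisymm hWK hW] at hWs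
  have hAT : A ≤ T := fun a ha => ⟨hAS ha, _, mem_autInducedBy_iff.2 ⟨a, hAS ha,
    fun x => show ((conjAut (⟨a, hAS ha, Subgroup.le_normalizer ha⟩ : normalizerIn S A) x : A) : Ω) =
      _ from rfl⟩, fun x => rfl⟩
  have hAG : G.IsNormal A := by
    refine ⟨hAT, fun P φ ⟨hP, hφT, ψ, hψ, hψP, κ, hκ, hψA⟩ => ⟨ψ, ⟨sup_le hP hAT,
      apply_mem_of_sup (fun x => hψP x ▸ hφT x) (fun q => hψA q ▸ hAT (κ q).2),
      ψ.comp (Subgroup.inclusion (sup_le le_rfl le_sup_right)), restrict_mem hψ _,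
      fun x => rfl, κ, hκ, fun q => hψA q⟩, hψP, ?_⟩⟩
    ext y
    constructor
    · rintro ⟨x, hx, rfl⟩
      rw [show x = Subgroup.inclusion le_sup_right (⟨(x : Ω), hx⟩ : A) from rfl, hψA]
      exact (κ _).2
    · intro hy
      exact ⟨Subgroup.inclusion le_sup_right (κ⁻¹ ⟨y, hy⟩), (κ⁻¹ ⟨y, hy⟩).2,
        by rw [hψA, MulAut.apply_inv_self]⟩
  intro P₀ φ₀ hφ₀
  refine ((alperin (hS.to_le hTS) hGsat (restrictSystem E hTS) fun V hV => ?_) P₀ hφ₀).1
  have hVn : G.IsFullyNormalized V := by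
    rcases hV with rfl | h
    · exact isFullyNormalized_self
    · exact h.2.1
  have hVT : V ≤ T := hVn.1
  have hVS : V ≤ S := hVT.trans hTS
  have hAV : A ≤ V := by
    rcases hV with rfl | h
    · exact hAT
    · exact IsNormal.le_centric_radical (hS.to_le hTS) hAG h.1 (IsEssential.isRadical (hS.to_le hTS) h)
  have := finite_mulAut_of_le (S := S) hVS
  have hfinV := finite_le hVS
  have hVp := hS.to_le hVS
  suffices hco : ∀ b ∈ G.autGroup V, (orderOf b).Coprime p → b ∈ E.autGroup V by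
    intro α hα
    obtain ⟨R, hR⟩ := (IsSaturated.fullyAutomized (hS.to_le hTS) hGsat hVn).2
    obtain ⟨a, ha, c, hc, hac⟩ := Transfer.exists_mul_mem_pResidual R (⟨α, hα⟩ : G.autGroup V)
    have hcE : (c : MulAut V) ∈ E.autGroup V := by
      refine (?_ : pResidual p (G.autGroup V) ≤ (E.autGroup V).comap (G.autGroup V).subtype) hc
      rw [pResidual, Subgroup.closure_le]
      exact fun d hd => hco d d.2 (by rwa [Subgroup.orderOf_coe])
    rw [hR] at ha
    have haE : (a : MulAut V) ∈ E.autGroup V :=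
      autInducedBy_le_autGroup hVS (autInducedBy_mono hTS (Subgroup.mem_subgroupOf.1 ha))
    refine (mem_autGroup_iff hVT).2 ⟨(mem_autGroup_iff hVS).1 ?_, hVT, fun x => hVT (α x).2⟩
    have := Subgroup.mul_mem _ haE hcE
    rwa [show (a : MulAut V) * c = α from congrArg Subtype.val hac.symm] at this
  intro b hbG hbc
  obtain ⟨-, -, ψb, hψb, hψbV, κ, hκ, hψbA⟩ := (mem_autGroup_iff hVT).1 hbG
  have hbF : b ∈ F.autGroup V :=
    (mem_autGroup_iff hVS).2 (restrict_mem' hψb le_sup_left fun x => (hψbV x).symm)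
  -- `b` fixes `A`
  obtain ⟨g, hg, hgv⟩ := mem_autInducedBy_iff.1 hκ
  have hbA : ∀ x : V, (x : Ω) ∈ A → b x = x := by
    intro x hx
    have h1 : ∀ y : V, (y : Ω) ∈ A → ((b y : V) : Ω) = g * (y : Ω) * g⁻¹ := fun y hy => by
      refine ((hψbV y).symm.trans ?_).trans (hgv ⟨y, hy⟩)
      exact hψbA ⟨y, hy⟩
    have h2 : ∀ (i : ℕ) (y : V), (y : Ω) ∈ A → ((b ^ i) y : V) = (b ^ i) y ∧
        (((b ^ i) y : V) : Ω) = g ^ i * (y : Ω) * (g ^ i)⁻¹ ∧ (((b ^ i) y : V) : Ω) ∈ A := by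
      intro i
      induction i with
      | zero => exact fun y hy => ⟨rfl, by simp, hy⟩
      | succ i ih2 =>
          intro y hy
          obtain ⟨-, he, hm⟩ := ih2 y hy
          refine ⟨rfl, ?_, ?_⟩
          · rw [pow_succ', MulAut.mul_apply, h1 _ hm, he, pow_succ']
            group
          · rw [pow_succ', MulAut.mul_apply, h1 _ hm, ← hgv ⟨_, hm⟩]
            exact (κ _).2
    obtain ⟨m, hm⟩ := hS ⟨g, hg⟩
    rcases Nat.lt_or_ge 1 (orderOf b) with hr | hr
    · obtain ⟨u, -, hu⟩ := Nat.exists_mul_mod_eq_one_of_coprime (hbc.symm.pow_left m) hr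
      have hb1 : b ^ (p ^ m * u) = b := by
        rw [← pow_mod_orderOf, hu, pow_one]
      have hg1 : g ^ (p ^ m * u) = 1 := by
        rw [pow_mul, show g ^ p ^ m = 1 from congrArg Subtype.val hm, one_pow]
      obtain ⟨-, h3, -⟩ := h2 (p ^ m * u) x hx
      rw [hb1, hg1] at h3
      exact Subtype.ext (by simpa using h3)
    · have hb1 : b = 1 := orderOf_eq_one_iff.1 (by have := orderOf_pos b; omega)
      rw [hb1]
      rfl
  -- a maximal normal abelian subgroup of small exponent of `V` inside `H`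
  set A₀ := A.subgroupOf V with hA₀
  set W := H.subgroupOf V with hW
  have hA₀n : A₀.Normal := ⟨fun a ha v =>
    (conj_mem_of_mem_normalizer (P := A) (autPre_le_normalizerIn (hVT v.2)).2
      (show ((a : V) : Ω) ∈ A from ha) : (v : Ω) * (a : Ω) * (v : Ω)⁻¹ ∈ A)⟩
  have hWn : W.Normal := ⟨fun a ha v =>
    (conj_mem_of_mem_normalizer (P := H) (StronglyClosed.normal_in hH (hVS v.2))
      (show ((a : V) : Ω) ∈ H from ha) : (v : Ω) * (a : Ω) * (v : Ω)⁻¹ ∈ H)⟩
  have hA₀ab : IsMulCommutative A₀ := ⟨⟨fun a c => Subtype.ext <| Subtype.ext <| by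
    exact (congrArg Subtype.val (hAab.is_comm.comm (⟨((a : V) : Ω), a.2⟩ : A) ⟨((c : V) : Ω), c.2⟩) :
      ((a : V) : Ω) * ((c : V) : Ω) = ((c : V) : Ω) * ((a : V) : Ω))⟩⟩
  obtain ⟨B₀, ⟨hBn, hBab, hBexp, hBW, hAB⟩, hBmax⟩ :=
    (Set.toFinite {B : Subgroup V | B.Normal ∧ IsMulCommutative B ∧ (∀ x ∈ B, x ^ p ^ n = 1) ∧
      B ≤ W ∧ A₀ ≤ B}).exists_maximalFor (fun B : Subgroup V => Nat.card B) _
      ⟨A₀, hA₀n, hA₀ab, fun x hx => Subtype.ext (hAexp _ hx), fun x hx => hAH hx, le_rfl⟩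
  rcases eq_or_lt_of_le hAB with hBA | hBA
  · -- maximality forces `b = 1`
    suffices b = 1 by rw [this]; exact one_mem _
    have hBA' : A₀ = B₀ := hBA
    set N := Subgroup.centralizer (A₀ : Set V) ⊓ W with hN
    have hmemA : ∀ x ∈ N, x ^ p ^ n = 1 → x ∈ A₀ := fun x hx hxn =>
      mem_of_maximal_normal_exponent_in hVp W n hn A₀ (fun y hy => hAH hy) hA₀ab
        (fun y hy => Subtype.ext (hAexp _ hy))
        (fun B h1 h2 h3 h4 h5 => (Subgroup.eq_of_le_of_card_ge h5 (by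
          rw [hBA']
          rcases le_total (Nat.card B) (Nat.card B₀) with h | h
          · exact h
          · exact hBmax ⟨h1, h2, h3, h4, h5⟩ h)).symm)
        x hx.1 hx.2 hxn
    have hbW : ∀ x : V, x⁻¹ * b x ∈ W := fun x => hdiff V b hVS hbF hbc x
    have hNn : N.Normal := inferInstance
    have hNa : N.map b.toMonoidHom = N := by
      refine Subgroup.eq_of_le_of_card_ge ?_ (by rw [Subgroup.card_map_of_injective b.injective])
      rintro _ ⟨x, ⟨hxc, hxW⟩, rfl⟩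
      refine ⟨Subgroup.mem_centralizer_iff.2 fun a ha => ?_, ?_⟩
      · show a * b x = b x * a
        rw [← hbA a ha, ← map_mul, ← map_mul, Subgroup.mem_centralizer_iff.1 hxc a ha]
      · show b x ∈ W
        rw [← mul_inv_cancel_left x (b x)]
        exact W.mul_mem hxW (hbW x)
    have hNfix := Transfer.fixes_of_fixes_small hVp b hbc (pow_orderOf_eq_one b) hNa
      fun x hx hxs => hbA x (hmemA x hx (hsmall x hxs))
    have hWfix : ∀ y ∈ W, b y = y := fun y hy => by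
      refine Transfer.eq_of_fixed_diff hVp b hbc (pow_orderOf_eq_one b) (hNfix _ ⟨?_, hbW y⟩)
      have hc := Transfer.mem_centralizer_of_fixed_normal b (N := N) hNfix y
      refine Subgroup.centralizer_le (fun a ha => ?_) hc
      exact ⟨Subgroup.mem_centralizer_iff.2 fun a' ha' =>
        congrArg Subtype.val (hA₀ab.is_comm.comm ⟨a', ha'⟩ ⟨a, ha⟩), hAH ha⟩
    exact MulEquiv.ext fun x =>
      Transfer.eq_of_fixed_diff hVp b hbc (pow_orderOf_eq_one b) (hWfix _ (hbW x))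
  · -- pass to the larger subgroup
    set B := B₀.map V.subtype with hB
    have hBV : B ≤ V := Subgroup.map_subtype_le _
    have hBH : B ≤ H := by
      rintro _ ⟨x, hx, rfl⟩
      exact hBW hx
    have hBcard : Nat.card B = Nat.card B₀ := Subgroup.card_map_of_injective V.subtype_injective
    have hVB : V ≤ Subgroup.normalizer (B : Set Ω) := by
      rw [Subgroup.le_normalizer_iff]
      rintro v hv _ ⟨x, hx, rfl⟩
      exact ⟨_, hBn.conj_mem x hx ⟨v, hv⟩, rfl⟩
    have hBab' : IsMulCommutative B := ⟨⟨by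
      rintro ⟨_, x, hx, rfl⟩ ⟨_, y, hy, rfl⟩
      exact Subtype.ext (congrArg V.subtype
        (congrArg Subtype.val (hBab.is_comm.comm ⟨x, hx⟩ ⟨y, hy⟩)))⟩⟩
    have hBexp' : ∀ x ∈ B, x ^ p ^ n = 1 := by
      rintro _ ⟨x, hx, rfl⟩
      rw [← map_pow, hBexp x hx, map_one]
    -- a fully normalized conjugate of the image of `B`
    have hbH := (mem_autGroup_iff hVS).1 hbF
    set e₁ := (V.subtype.comp b.toMonoidHom).comp (Subgroup.inclusion hBV) with he₁
    have he₁F : e₁ ∈ F.Hom B := restrict_mem hbH hBV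
    obtain ⟨B'', hB'B'', hB''n⟩ := exists_fullyNormalized (F := F) (hom_range_le he₁F)
    have hBconj : F.IsConj B B'' := isConj_trans ⟨e₁, he₁F, rfl⟩ hB'B''
    have hclosed : ∀ {C : Subgroup Ω}, F.IsConj B C → C ≤ H ∧ IsMulCommutative C ∧
        ∀ c ∈ C, c ^ p ^ n = 1 := by
      rintro C ⟨χ, hχ, rfl⟩
      refine ⟨?_, ⟨⟨?_⟩⟩, ?_⟩
      · rintro _ ⟨x, rfl⟩
        exact StronglyClosed.apply_mem hH hχ (hBH x.2)
      · rintro ⟨_, x, rfl⟩ ⟨_, y, rfl⟩
        refine Subtype.ext ?_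
        show χ x * χ y = χ y * χ x
        rw [← map_mul, ← map_mul, hBab'.is_comm.comm x y]
      · rintro _ ⟨x, rfl⟩
        rw [← map_pow, show x ^ p ^ n = 1 from Subtype.ext (hBexp' x x.2), map_one]
    obtain ⟨hB'H, hB'ab, hB'exp⟩ := hclosed (C := e₁.range) ⟨e₁, he₁F, rfl⟩
    obtain ⟨hB''H, hB''ab, hB''exp⟩ := hclosed hBconj
    have hEconj : E.IsConj e₁.range B'' := by
      obtain ⟨χ, hχ, hχr⟩ := hB'B''
      exact ⟨χ, hyp _ hB'H hB'ab hB'exp χ hχ, hχr⟩
    have hB''E : E.IsFullyNormalized B'' :=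
      ⟨hB''n.1, fun Q ⟨χ, hχ, hχr⟩ => hB''n.2 Q ⟨χ, hEF _ hχ, hχr⟩⟩
    have h₂ := IsSaturated.receptive hS hE (IsSaturated.fullyCentralized hS hE hB''E)
    obtain ⟨f, hf, hfN, himg⟩ := exists_normalizer_map hS (IsSaturated.fullyAutomized hS hE hB''E)
      h₂ hEconj
    have hVN : ∀ v : V, ((b v : V) : Ω) ∈ normalizerIn S e₁.range := by
      intro v
      refine ⟨hVS (b v).2, ?_⟩
      have : V ≤ Subgroup.normalizer (e₁.range : Set Ω) := by
        rw [Subgroup.le_normalizer_iff]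
        rintro w hw _ ⟨x, rfl⟩
        refine ⟨⟨_, conj_mem_of_mem_normalizer (hVB (b⁻¹ ⟨w, hw⟩).2) x.2⟩, ?_⟩
        show ((b (b⁻¹ ⟨w, hw⟩ * Subgroup.inclusion hBV x * (b⁻¹ ⟨w, hw⟩)⁻¹) : V) : Ω) =
          w * ((b (Subgroup.inclusion hBV x) : V) : Ω) * w⁻¹
        rw [map_mul, map_mul, map_inv, MulAut.apply_inv_self]
        rfl
      exact this (b v).2
    set χ := f.comp ((V.subtype.comp b.toMonoidHom).codRestrict _ hVN) with hχdef
    have hχ : χ ∈ F.Hom V := F.comp_mem hbH (hEF _ hf) hVN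
    have hχr : (χ.comp (Subgroup.inclusion hBV)).range = B'' := by
      rw [← himg]
      ext y
      constructor
      · rintro ⟨x, rfl⟩
        exact ⟨⟨_, hVN (Subgroup.inclusion hBV x)⟩, ⟨x, rfl⟩, rfl⟩
      · rintro ⟨z, ⟨x, hx⟩, rfl⟩
        exact ⟨x, congrArg f (Subtype.ext hx)⟩
    obtain ⟨e, he, hev⟩ := exists_iso (restrict_mem hχ hBV) hχr
    have heE : IsoIn E e := hyp B hBH hBab' hBexp' _ he
    have hext : V ≤ extender S B (isoHom e) :=
      le_extender_of_extends hχ hBV hVB fun x => (hev x).symm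
    obtain ⟨ψ, hψ, hψv⟩ := exists_extension h₂ heE hBV hext
    obtain ⟨θ, hθ, -, hθv, hθv'⟩ := exists_inv hψ rfl
    have hθV : ∀ y, θ y ∈ V := fun y => (hθv' y).choose
    set γ := χ.comp (θ.codRestrict V hθV) with hγ
    have hγF : γ ∈ F.Hom ψ.range := F.comp_mem (hEF _ hθ) hχ hθV
    have hpre : ∀ y ∈ normalizerIn S B'', y ∈ autPre S B'' (autInducedBy S B'') := fun y hy =>
      ⟨hy.1, _, conjAut_mem ⟨y, hy⟩, fun x => rfl⟩
    have hB''le : B'' ≤ ψ.range := fun y hy =>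
      ⟨Subgroup.inclusion hBV (e.symm ⟨y, hy⟩), by rw [hψv, MulEquiv.apply_symm_apply]⟩
    have hcard : Nat.card S - Nat.card B'' < k := by
      have h1 : Nat.card A < Nat.card B'' := by
        rw [← isConj_card hBconj, hBcard,
          show Nat.card A = Nat.card A₀ from (card_subgroupOf_eq hAV).symm]
        exact lt_of_le_of_ne (Subgroup.card_le_of_le hAB) fun h =>
          hBA.ne (Subgroup.eq_of_le_of_card_ge hAB h.ge)
      have h2 : Nat.card B'' ≤ Nat.card S := Subgroup.card_le_of_le hB''n.1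
      omega
    have hγE : γ ∈ E.Hom ψ.range := by
      refine ih _ hcard B'' rfl hB''H hB''ab hB''exp hB''n hB''n.1 _ γ ⟨?_, fun y => ?_,
        γ.comp (Subgroup.inclusion (sup_le le_rfl hB''le)), restrict_mem hγF _, fun y => rfl,
        1, one_mem _, fun q => ?_⟩
      · rintro _ ⟨v, rfl⟩
        exact hpre _ (extension_mem_normalizerIn hψ hBV hVB hψv v)
      · exact hpre _ (hfN _)
      · show χ ⟨θ ⟨(q : Ω), _⟩, _⟩ = (q : Ω)
        have hq := hψv (e.symm q)
        rw [MulEquiv.apply_symm_apply] at hq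
        have h1 : θ ⟨(q : Ω), hB''le q.2⟩ = ((Subgroup.inclusion hBV (e.symm q) : V) : Ω) := by
          rw [← hθv (Subgroup.inclusion hBV (e.symm q)) (hq.symm ▸ hB''le q.2)]
          congr 1
          exact Subtype.ext hq.symm
        have h2 := hev (e.symm q)
        rw [MulEquiv.apply_symm_apply] at h2
        refine Eq.trans ?_ h2.symm
        show χ _ = χ (Subgroup.inclusion hBV (e.symm q))
        congr 1
        exact Subtype.ext h1
    have hχE : χ ∈ E.Hom V := by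
      refine comp_mem' hψ hγE (fun v => ⟨v, rfl⟩) fun v => ?_
      show χ v = χ ⟨θ ⟨ψ v, _⟩, _⟩
      congr 1
      exact Subtype.ext (hθv v _).symm
    obtain ⟨θf, hθf, -, hθfv, -⟩ := exists_inv hf rfl
    refine (mem_autGroup_iff hVS).2 (comp_mem' hχE hθf (fun v => ⟨_, rfl⟩) fun v => ?_)
    exact (hθfv ⟨_, hVN v⟩ _).symm

end CfsgLib.Fusion
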