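import Cfsg.Agent.Lib.Fusion.InnerQuot
import Cfsg.Agent.Lib.Fusion.SmallControl
import Cfsg.Agent.Lib.Fusion.NormalCriterion

/-!
Subgroups whose normalizer systems are not inner.
-/

set_option autoImplicit false

namespace CfsgLib.Fusion

open Cfsg Cfsg.FusionSystem

variable {Ω : Type*} [Group Ω] {S : Subgroup Ω} {F : FusionSystem S} {p : ℕ}

theorem copySystem_saturated {T : Subgroup Ω} (h : T = S) {E : FusionSystem T}
    (hE : E.IsSaturated p) : (copySystem h E).IsSaturated p := by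
  subst h
  exact hE

theorem copySystem_isNormal {T : Subgroup Ω} (h : T = S) {E : FusionSystem T} {Q : Subgroup Ω}
    (hQ : E.IsNormal Q) : (copySystem h E).IsNormal Q := by
  subst h
  exact hQ

/-- A system that is not inner has a bad subgroup. -/
theorem exists_bad [Fact p.Prime] [Finite S] (hS : IsPGroup p S) (hF : F.IsSaturated p)
    (hne : F ≠ innerFusionSystem S) :
    ∃ X : Subgroup Ω, X ≠ ⊥ ∧ X ≤ S ∧ ¬ LocTriv F p X := by
  by_contra hall
  refine hne (eq_inner_of_coprime_trivial hS hF fun R hR b hb hc => ?_)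
  by_contra hb1
  refine hall ⟨R, ?_, hR, fun h => hb1 (h R le_rfl (le_normalizerIn hR) b hb hc fun x _ => (b x).2)⟩
  rintro rfl
  exact hb1 (MulEquiv.ext fun x => Subtype.ext ((Subgroup.mem_bot.1 (b x).2).trans
    (Subgroup.mem_bot.1 x.2).symm))

/-- A bad subgroup has a bad fully normalized conjugate. -/
theorem exists_bad_fn [Fact p.Prime] [Finite S] (hS : IsPGroup p S) (hF : F.IsSaturated p)
    {X : Subgroup Ω} (hX : X ≤ S) (hne : X ≠ ⊥) (hbad : ¬ LocTriv F p X) :
    ∃ X' : Subgroup Ω, X' ≠ ⊥ ∧ ¬ LocTriv F p X' ∧ F.IsFullyNormalized X' ∧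
      Nat.card (normalizerIn S X) ≤ Nat.card (normalizerIn S X') := by
  obtain ⟨X', hconj, hA, hR, hn⟩ := IsSaturated.exists_rep hS hF hX
  obtain ⟨f, hf, hfm, hfX⟩ := exists_normalizer_map hS hA hR hconj
  refine ⟨X', fun h => ?_, ?_, hn, card_normalizerIn_le_of_map hf hfm⟩
  · subst h
    have := finite_le hX
    exact hne (Subgroup.eq_bot_of_card_eq X ((isConj_card hconj).trans Subgroup.card_bot))
  · simp only [LocTriv, not_forall] at hbad
    obtain ⟨R, hXR, hR, b, hb, hc, hbX, hb1⟩ := hbad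
    exact exists_bad_of_transport hf hfm hfX hXR hR hb hc hb1 hbX

theorem LocTriv.mono {T : Subgroup Ω} {N : FusionSystem T} (hN : N.IsSubsystemOf F) (hTS : T ≤ S)
    {X : Subgroup Ω} (h : LocTriv F p X) : LocTriv N p X := by
  intro R hXR hR b hb hc hbX
  have hRT : R ≤ T := hR.trans inf_le_left
  refine h R hXR (hR.trans (inf_le_inf_right _ hTS)) b ?_ hc hbX
  exact (mem_autGroup_iff (hRT.trans hTS)).2 (hN R ((mem_autGroup_iff hRT).1 hb))

/-- For a bad normal subgroup, either the normalizer system is constrained, or there is a subsystem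
in which every automorphism acts on it as an element of `S`. -/
theorem bad_normal_dichotomy [Fact p.Prime] [Finite S] (hS : IsPGroup p S) (hF : F.IsSaturated p)
    {Q : Subgroup Ω} (hQS : Q ≤ S) (hQN : S ≤ Subgroup.normalizer (Q : Set Ω))
    (hbad : ¬ LocTriv F p Q) :
    ∃ N : FusionSystem S, N ≤ F ∧ N.IsSaturated p ∧ N.IsNormal Q ∧ N ≠ innerFusionSystem S ∧
      ((∀ R : Subgroup Ω, Q ≤ R → R ≤ S → ∀ b ∈ N.autGroup R, (orderOf b).Coprime p →
          (∀ y : R, (y : Ω) ∈ Q → b y = y) → b = 1) ∨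
        ∀ R : Subgroup Ω, Q ≤ R → R ≤ S → ∀ b ∈ N.autGroup R, ∃ g ∈ S,
          ∀ x : R, (x : Ω) ∈ Q → ((b x : R) : Ω) = g * (x : Ω) * g⁻¹) := by
  have hNS : normalizerIn S Q = S := inf_eq_left.2 hQN
  have hfn : F.IsFullyNormalized Q := ⟨hQS, fun R _ => by
    rw [hNS]; exact Subgroup.card_le_of_le inf_le_left⟩
  have hNsys := normSystem_isNormalizerSystem F Q hQS
  simp only [LocTriv, not_forall] at hbad
  obtain ⟨R₁, hQR₁, hR₁, b₁, hb₁, hc₁, hbQ₁, hb₁1⟩ := hbad
  by_cases hfix : ∀ R : Subgroup Ω, Q ≤ R → R ≤ S → ∀ b ∈ (normSystem F Q hQS).autGroup R,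
      (orderOf b).Coprime p → (∀ y : R, (y : Ω) ∈ Q → b y = y) → b = 1
  · refine ⟨copySystem hNS (normSystem F Q hQS), fun P φ hφ => normalizerSystem_le hNsys hφ,
      copySystem_saturated hNS (normalizerSystem_saturated hS hF hfn hNsys),
      copySystem_isNormal hNS (normalizerSystem_isNormal hQS hNsys), fun h => hb₁1 ?_, Or.inl hfix⟩
    refine locTriv_of_inner_normalizer hS hQS (fun N hN P => ?_) R₁ hQR₁ hR₁ b₁ hb₁ hc₁ hbQ₁
    have h1 : (copySystem hNS (normSystem F Q hQS)).Hom P = (innerFusionSystem S).Hom P := by rw [h]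
    rw [hN P, hNS]
    exact h1
  · simp only [not_forall] at hfix
    obtain ⟨R, hQR, hR, b, hb, hc, hbQ, hb1⟩ := hfix
    set K := autInducedBy S Q with hK
    have hT : autPre S Q K = S := le_antisymm (fun g hg => hg.1) fun g hg =>
      ⟨hg, conjAut ⟨g, hg, hQN hg⟩, conjAut_mem _, fun x => rfl⟩
    have := finite_mulAut_of_le (S := S) hQS
    have hKF : K ≤ F.autGroup Q := autInducedBy_le_autGroup hQS
    have hsat : (kSystem F hQS K).IsSaturated p := by
      refine kNormalizer_saturated hS hF hQS K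
        (IsSaturated.receptive hS hF (IsSaturated.fullyCentralized hS hF hfn)) ?_ (fun g => Iff.rfl)
        (kSystem F hQS K) fun P φ => Iff.rfl
      rw [inf_of_le_right hKF, inf_idem]
      exact isSylowIn_self (isPGroup_autInducedBy hS)
    have hQT : Q ≤ autPre S Q K := hQS.trans hT.ge
    have hnorm : (kSystem F hQS K).IsNormal Q := by
      refine ⟨hQT, fun P φ hφ => ?_⟩
      obtain ⟨hP, hφT, ψ, hψ, hψP, κ, hκ, hψQ⟩ := hφ
      have h : P ⊔ Q ⊔ Q ≤ P ⊔ Q := sup_le le_rfl le_sup_right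
      refine ⟨ψ, ⟨sup_le hP hQT, fun x => hT.ge (hom_apply_mem hψ x), ψ.comp (Subgroup.inclusion h),
        restrict_mem hψ h, fun x => rfl, κ, hκ, hψQ⟩, hψP, ?_⟩
      ext y
      constructor
      · rintro ⟨x, hx, rfl⟩
        rw [show x = Subgroup.inclusion le_sup_right ⟨(x : Ω), hx⟩ from rfl, hψQ]
        exact (κ _).2
      · intro hy
        refine ⟨Subgroup.inclusion le_sup_right (κ⁻¹ ⟨y, hy⟩), (κ⁻¹ ⟨y, hy⟩).2, ?_⟩
        rw [hψQ, MulAut.apply_inv_self]
    refine ⟨copySystem hT (kSystem F hQS K), ?_, copySystem_saturated hT hsat,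
      copySystem_isNormal hT hnorm, fun h => hb1 ?_, Or.inr ?_⟩
    · rintro P φ ⟨-, -, ψ, hψ, hv, -⟩
      exact restrict_mem' hψ le_sup_left fun x => (hv x).symm
    · have hbF : R.subtype.comp b.toMonoidHom ∈ F.Hom R :=
        normalizerSystem_le hNsys ((mem_autGroup_iff (hR.trans hNS.ge)).1 hb)
      have hs : R ⊔ Q ≤ R := sup_le le_rfl hQR
      have hmem : R.subtype.comp b.toMonoidHom ∈ (copySystem hT (kSystem F hQS K)).Hom R :=
        ⟨hR.trans hT.ge, fun x => hT.ge (hR (b x).2),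
          (R.subtype.comp b.toMonoidHom).comp (Subgroup.inclusion hs), restrict_mem hbF hs,
          fun x => rfl, 1, one_mem _, fun q => congrArg Subtype.val (hbQ _ q.2)⟩
      rw [h] at hmem
      obtain ⟨-, g, hg, hv⟩ := hmem
      exact eq_one_of_conj hS hc hg hv
    · intro R' hQR' hR' b' hb'
      obtain ⟨-, -, ψ, hψ, hψP, κ, hκ, hψQ⟩ := (mem_autGroup_iff hR').1 hb'
      obtain ⟨g, hg, hgv⟩ := mem_autInducedBy_iff.1 hκ
      refine ⟨g, hg, fun x hx => ?_⟩
      have h1 := hψQ ⟨x, hx⟩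
      rw [show Subgroup.inclusion le_sup_right (⟨x, hx⟩ : Q) = Subgroup.inclusion le_sup_left x from
        Subtype.ext rfl, hψP, hgv] at h1
      exact h1

/-- If every system as below has a bad normal subgroup, the factor case cannot occur for a maximal
bad normal subgroup. -/
theorem exists_bad_above [Fact p.Prime] [Finite S] (hS : IsPGroup p S) {N : FusionSystem S}
    (hN : N.IsSaturated p) {Q : Subgroup Ω} (hQ : N.IsNormal Q) (hne : N ≠ innerFusionSystem S)
    (hact : ∀ R : Subgroup Ω, Q ≤ R → R ≤ S → ∀ b ∈ N.autGroup R, ∃ g ∈ S,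
      ∀ x : R, (x : Ω) ∈ Q → ((b x : R) : Ω) = g * (x : Ω) * g⁻¹)
    {Ω' : Type*} [Group Ω'] {θ : S →* Ω'} {S' : Subgroup Ω'} {E : FusionSystem S'}
    (hE : N.IsFactorSystem Q θ E)
    (hbn : E ≠ innerFusionSystem S' → ∃ Y : Subgroup Ω', Y ≠ ⊥ ∧ Y ≤ S' ∧
      S' ≤ Subgroup.normalizer (Y : Set Ω') ∧ ¬ LocTriv E p Y) :
    ∃ X : Subgroup Ω, Q < X ∧ X ≤ S ∧ S ≤ Subgroup.normalizer (X : Set Ω) ∧ ¬ LocTriv N p X := by
  obtain ⟨Y, hY1, hYS, hYN, hbad⟩ := hbn fun h => hne (inner_of_factor_inner hS hN hQ hact hE h)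
  refine ⟨preimageAlong θ Y, lt_preimageAlong hE.1 hE.2.1 (hYS.trans hE.2.2.1.ge) hY1,
    preimageAlong_le θ Y, le_normalizer_preimageAlong hE.2.2.1 hYN,
    fun h => hbad (locTriv_factor hE h)⟩

end CfsgLib.Fusion
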