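import Mathlib.Algebra.Polynomial.AlgebraMap
import Mathlib.RingTheory.Ideal.Quotient.Basic
import Mathlib.GroupTheory.Commutator.Basic
import Mathlib.RingTheory.Nilpotent.Basic
import Mathlib.Tactic.Ring
import Mathlib.Tactic.LinearCombination
import Mathlib.Data.Nat.Choose.Dvd
import Mathlib.Algebra.CharP.Lemmas

/-!
An operator of order `p` with short commutator chains fixes high powers.
-/

set_option autoImplicit false

namespace CfsgLib.Fusion

open Finset Polynomial

theorem pow_mul_eq_zero_of_comm {R : Type*} [CommRing R] {p : ℕ} (hp : p.Prime) (f : R)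
    (h1 : (f + 1) ^ p = 1) : ∀ n : ℕ, f ^ (n * (p - 1) + 1) = 0 → (p : R) ^ n * f = 0 := by
  obtain ⟨q, hq⟩ : ∃ q : R, (f + 1) ^ p = f ^ p + 1 + (p : R) * f * (1 + f * q) := by
    refine ⟨∑ k ∈ Ioo 1 p, f ^ (k - 2) * ((p.choose k / p : ℕ) : R), ?_⟩
    have hI : Ioo 0 p = insert 1 (Ioo 1 p) := by
      ext k
      have := hp.one_lt
      simp only [mem_Ioo, mem_insert]
      omega
    have hsum : ∑ k ∈ Ioo 0 p, f ^ (k - 1) * (1 : R) ^ (p - k - 1) * ((p.choose k / p : ℕ) : R) =
        1 + f * ∑ k ∈ Ioo 1 p, f ^ (k - 2) * ((p.choose k / p : ℕ) : R) := by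
      rw [hI, sum_insert (by simp), mul_sum]
      congr 1
      · simp [Nat.div_self hp.pos]
      · refine sum_congr rfl fun k hk => ?_
        obtain ⟨j, rfl⟩ : ∃ j, k = j + 2 := ⟨k - 2, by have := (mem_Ioo.1 hk).1; omega⟩
        rw [one_pow, mul_one, show j + 2 - 1 = (j + 2 - 2) + 1 by omega, pow_succ']
        ring
    rw [add_pow_prime_eq hp f 1, one_pow, mul_one, hsum]
  intro n hn
  have hnil : IsNilpotent (f * q) := ⟨n * (p - 1) + 1, by rw [mul_pow, hn, zero_mul]⟩
  obtain ⟨v, hv⟩ := hnil.isUnit_one_add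
  set r : R := -((v⁻¹ : Rˣ) : R) with hrdef
  have hpf : (p : R) * f = f ^ p * r := by
    have h2 : (p : R) * f * (v : R) = -f ^ p := by
      rw [hv]
      linear_combination (-1 : R) * hq + h1
    calc (p : R) * f = (p : R) * f * (v : R) * ((v⁻¹ : Rˣ) : R) := by
          rw [mul_assoc, Units.mul_inv, mul_one]
      _ = f ^ p * r := by rw [h2, hrdef]; ring
  have key : ∀ m : ℕ, ∃ t : R, (p : R) ^ m * f = f ^ (m * (p - 1) + 1) * t := by
    intro m
    induction m with
    | zero => exact ⟨1, by simp⟩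
    | succ m ih =>
        obtain ⟨t, ht⟩ := ih
        refine ⟨r * t, ?_⟩
        have h3 : f ^ ((m + 1) * (p - 1) + 1) = f ^ (m * (p - 1)) * f ^ p := by
          rw [← pow_add]
          congr 1
          have := hp.one_lt
          rw [add_mul, one_mul]
          omega
        calc (p : R) ^ (m + 1) * f = (p : R) * ((p : R) ^ m * f) := by ring
          _ = (p : R) * (f ^ (m * (p - 1) + 1) * t) := by rw [ht]
          _ = f ^ (m * (p - 1)) * ((p : R) * f) * t := by ring
          _ = _ := by rw [hpf, h3]; ring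
  obtain ⟨t, ht⟩ := key n
  rw [ht, hn, zero_mul]

theorem pow_mul_eq_zero_of_ring {R : Type*} [Ring R] {p : ℕ} (hp : p.Prime) (f : R)
    (h1 : (f + 1) ^ p = 1) (n : ℕ) (hn : f ^ (n * (p - 1) + 1) = 0) : (p : R) ^ n * f = 0 := by
  set I : Ideal ℤ[X] := Ideal.span {X ^ (n * (p - 1) + 1), (X + 1) ^ p - 1} with hI
  have hm1 : Ideal.Quotient.mk I (X ^ (n * (p - 1) + 1)) = 0 :=
    Ideal.Quotient.eq_zero_iff_mem.2 (Ideal.subset_span (by simp))
  have hm2 : Ideal.Quotient.mk I ((X + 1) ^ p - 1) = 0 :=
    Ideal.Quotient.eq_zero_iff_mem.2 (Ideal.subset_span (by simp))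
  rw [map_sub, sub_eq_zero, map_pow, map_add, map_one] at hm2
  have h := pow_mul_eq_zero_of_comm hp (Ideal.Quotient.mk I X) hm2 n (by rw [← map_pow]; exact hm1)
  rw [← map_natCast (Ideal.Quotient.mk I), ← map_pow, ← map_mul,
    Ideal.Quotient.eq_zero_iff_mem, hI, Ideal.mem_span_pair] at h
  obtain ⟨a, b, hab⟩ := h
  have := congrArg (aeval f) hab
  simpa [h1, hn] using this.symm

/-- Group form: an element acting on a commutative `W` with trivial `p`th power and commutator
chains of length at most `n(p-1)+1` fixes the `p^n`th powers. -/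
theorem fixes_pow_of_chain {W : Type*} [CommGroup W] {p : ℕ} (hp : p.Prime) (σ : W →* W)
    (hσ : ∀ w, (σ^[p]) w = w) (n : ℕ)
    (hn : ∀ w, ((fun w => σ w / w)^[n * (p - 1) + 1]) w = 1) (w : W) :
    σ (w ^ p ^ n) = w ^ p ^ n := by
  set e : AddMonoid.End (Additive W) := MonoidHom.toAdditive σ
  set f : AddMonoid.End (Additive W) := e - 1 with hf
  have hpow : ∀ (k : ℕ) (x : W),
      (f ^ k) (Additive.ofMul x) = Additive.ofMul (((fun w => σ w / w)^[k]) x) := by
    intro k
    induction k with
    | zero => intro x; rfl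
    | succ k ih =>
        intro x
        rw [pow_succ', Function.iterate_succ', Function.comp_apply, AddMonoid.End.coe_mul,
          Function.comp_apply, ih]
        rfl
  have h1 : (f + 1) ^ p = 1 := by
    rw [hf, sub_add_cancel]
    refine DFunLike.ext _ _ fun x => ?_
    rw [AddMonoid.End.coe_pow]
    have : ∀ k : ℕ, (⇑e)^[k] x = Additive.ofMul ((σ^[k]) (Additive.toMul x)) := by
      intro k
      induction k with
      | zero => rfl
      | succ k ih =>
          rw [Function.iterate_succ', Function.comp_apply, ih, Function.iterate_succ',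
            Function.comp_apply]
          rfl
    rw [this, hσ]
    rfl
  have h2 : f ^ (n * (p - 1) + 1) = 0 := DFunLike.ext _ _ fun x => by
    have := hpow (n * (p - 1) + 1) (Additive.toMul x)
    rw [hn] at this
    exact this
  have h := DFunLike.congr_fun (pow_mul_eq_zero_of_ring hp f h1 n h2) (Additive.ofMul w)
  rw [← Nat.cast_pow, AddMonoid.End.coe_mul, Function.comp_apply,
    AddMonoid.End.natCast_apply, ← map_nsmul] at h
  exact div_eq_one.1 h

end CfsgLib.Fusion
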