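import Cfsg.Agent.Lib.Fusion.AlperinGen
import Cfsg.Agent.Lib.Fusion.PowerFix
import Cfsg.Agent.Lib.Fusion.NormalCriterion
import Cfsg.Prelude.Def_PLocal
import Mathlib.GroupTheory.Nilpotent

/-!
Agemo subgroups of the centres of subgroups in a saturated fusion system.
-/

set_option autoImplicit false

namespace CfsgLib.Fusion

open Cfsg Cfsg.FusionSystem
open scoped commutatorElement

variable {Ω : Type*} [Group Ω] {S : Subgroup Ω} {F : FusionSystem S} {p : ℕ}

/-- The centre of a subgroup, inside the ambient group. -/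
def centerOf (P : Subgroup Ω) : Subgroup Ω := P ⊓ Subgroup.centralizer (P : Set Ω)

theorem centerOf_comm {P : Subgroup Ω} {x y : Ω} (hx : x ∈ centerOf P) (hy : y ∈ P) :
    y * x = x * y := Subgroup.mem_centralizer_iff.1 hx.2 y hy

theorem powerClosure_le {n : ℕ} (H : Subgroup Ω) : powerClosure p n H ≤ H :=
  (Subgroup.closure_le _).2 fun _ ⟨x, hx, hy⟩ => hy ▸ H.pow_mem hx _

/-- An element with trivial `p`th power action and short chains fixes the agemo. -/
theorem conj_fixes_powerClosure [Fact p.Prime] {W : Subgroup Ω}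
    (hW : ∀ a ∈ W, ∀ b ∈ W, a * b = b * a) {g : Ω} (hg : g ∈ Subgroup.normalizer (W : Set Ω))
    (hgp : ∀ w ∈ W, g ^ p * w = w * g ^ p) (n : ℕ)
    (hchain : ∀ w ∈ W, ((fun w => g * w * g⁻¹ * w⁻¹)^[n * (p - 1) + 1]) w = 1) :
    ∀ v ∈ powerClosure p n W, g * v * g⁻¹ = v := by
  intro v hv
  suffices h : powerClosure p n W ≤ Subgroup.centralizer {g} by
    rw [← Subgroup.mem_centralizer_singleton_iff.1 (h hv), mul_inv_cancel_right]
  refine (Subgroup.closure_le _).2 ?_
  rintro _ ⟨x, hx, rfl⟩
  let _ : CommGroup W := { (inferInstance : Group W) with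
    mul_comm := fun a b => Subtype.ext (hW a a.2 b b.2) }
  let σ : W →* W := MonoidHom.mk'
    (fun w => ⟨g * w * g⁻¹, (Subgroup.mem_normalizer_iff.1 hg w).1 w.2⟩)
    fun a b => Subtype.ext (by simp [mul_assoc])
  have hit : ∀ (k : ℕ) (w : W), (((σ^[k]) w : W) : Ω) = g ^ k * (w : Ω) * (g ^ k)⁻¹ := by
    intro k
    induction k with
    | zero => intro w; simp
    | succ k ih =>
        intro w
        rw [Function.iterate_succ', Function.comp_apply]
        show g * ((σ^[k] w : W) : Ω) * g⁻¹ = _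
        rw [ih, pow_succ']
        group
  have hσ : ∀ w, (σ^[p]) w = w := fun w => Subtype.ext (by
    rw [hit, hgp _ w.2, mul_inv_cancel_right])
  have hd : ∀ (k : ℕ) (w : W), ((((fun w => σ w / w)^[k]) w : W) : Ω) =
      ((fun w => g * w * g⁻¹ * w⁻¹)^[k]) (w : Ω) := by
    intro k
    induction k with
    | zero => intro w; rfl
    | succ k ih =>
        intro w
        rw [Function.iterate_succ', Function.comp_apply, Function.iterate_succ',
          Function.comp_apply, ← ih]
        rw [div_eq_mul_inv]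
        rfl
  have h := fixes_pow_of_chain (Fact.out : p.Prime) σ hσ n
    (fun w => Subtype.ext ((hd _ w).trans (hchain w w.2))) ⟨x, hx⟩
  have h1 := congrArg Subtype.val h
  exact Subgroup.mem_centralizer_singleton_iff.2 (mul_inv_eq_iff_eq_mul.1 h1).symm

theorem iterate_mem_lowerCentralSeries {g : Ω} (hg : g ∈ S) {w : Ω} (hw : w ∈ S) (k : ℕ) :
    ((fun w => g * w * g⁻¹ * w⁻¹)^[k]) w ∈ S.lowerCentralSeries k := by
  induction k with
  | zero => exact hw
  | succ k ih =>
      rw [Function.iterate_succ', Function.comp_apply, Subgroup.lowerCentralSeries_succ]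
      set u := ((fun w => g * w * g⁻¹ * w⁻¹)^[k]) w
      rw [show g * u * g⁻¹ * u⁻¹ = ⁅u, g⁆⁻¹ by rw [commutatorElement_def]; group]
      exact inv_mem (Subgroup.commutator_mem_commutator ih hg)

/-- The agemo of the centre is invariant under automorphisms. -/
theorem aut_mem_powerClosure_center {R : Subgroup Ω} (a : MulAut R) {n : ℕ} {x : R}
    (hx : (x : Ω) ∈ powerClosure p n (centerOf R)) :
    ((a x : R) : Ω) ∈ powerClosure p n (centerOf R) := by
  have hle : powerClosure p n (centerOf R) ≤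
      (((powerClosure p n (centerOf R)).subgroupOf R).comap a.toMonoidHom).map R.subtype := by
    refine (Subgroup.closure_le _).2 ?_
    rintro _ ⟨z, hz, rfl⟩
    refine ⟨⟨z, hz.1⟩ ^ p ^ n, ?_, rfl⟩
    refine Subgroup.subset_closure ⟨((a ⟨z, hz.1⟩ : R) : Ω), ⟨(a _).2, ?_⟩, ?_⟩
    · refine Subgroup.mem_centralizer_iff.2 fun y hy => ?_
      have h : a (a⁻¹ ⟨y, hy⟩ * ⟨z, hz.1⟩) = a (⟨z, hz.1⟩ * a⁻¹ ⟨y, hy⟩) :=
        congrArg a (Subtype.ext (centerOf_comm hz (a⁻¹ ⟨y, hy⟩).2))
      rw [map_mul, map_mul, MulAut.apply_inv_self] at h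
      exact congrArg Subtype.val h
    · show ((R.subtype (a.toMonoidHom (⟨z, hz.1⟩ ^ p ^ n)))) = _
      rw [map_pow, map_pow]
      rfl
  obtain ⟨y, hy, hyx⟩ := hle hx
  obtain rfl : y = x := Subtype.ext hyx
  exact hy

theorem centerOf_le_of_isCentric {P : Subgroup Ω} (hP : F.IsCentric P) : centerOf S ≤ centerOf P := by
  intro z hz
  have hzP : z ∈ P := hP.2 P (isConj_refl hP.1)
    (mem_centralizerIn.2 ⟨hz.1, fun y hy => centerOf_comm hz (hP.1 hy)⟩)
  exact ⟨hzP, Subgroup.mem_centralizer_iff.2 fun y hy => centerOf_comm hz (hP.1 hy)⟩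

/-- The maps of `E` that are maps of `N`. -/
def meetSystem {T : Subgroup Ω} (E : FusionSystem S) (N : FusionSystem T) (hT : T ≤ S) :
    FusionSystem T where
  Hom P := {φ | φ ∈ N.Hom P ∧ φ ∈ E.Hom P}
  le_of_mem h := N.le_of_mem h.1
  injective_of_mem h := N.injective_of_mem h.1
  conj_mem hP hg := ⟨N.conj_mem hP hg, E.conj_mem (hP.trans hT) (hT hg)⟩
  comp_mem h₁ h₂ h := ⟨N.comp_mem h₁.1 h₂.1 h, E.comp_mem h₁.2 h₂.2 h⟩
  inv_mem := by
    rintro P φ ⟨h₁, h₂⟩
    obtain ⟨ψ, hψ, hv⟩ := N.inv_mem h₁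
    obtain ⟨χ, hχ, hv'⟩ := E.inv_mem h₂
    refine ⟨ψ, ⟨hψ, hom_congr hχ fun y => ?_⟩, hv⟩
    obtain ⟨_, x, rfl⟩ := y
    exact (hv x).trans (hv' x).symm

theorem lt_normalizer_element [Fact p.Prime] [Finite S] (hS : IsPGroup p S) {P : Subgroup Ω}
    (hP : P < S) : ∃ g ∈ normalizerIn S P, g ∉ P ∧ g ^ p ∈ P := by
  classical
  obtain ⟨g, hg, hg'⟩ := exists_mem_normalizerIn_not_mem hS hP
  have hex : ∃ k, g ^ p ^ k ∈ P := by
    obtain ⟨k, hk⟩ := hS ⟨g, hg.1⟩
    refine ⟨k, ?_⟩
    have := congrArg Subtype.val hk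
    rw [SubmonoidClass.coe_pow] at this
    rw [this]
    exact one_mem _
  have hk0 : Nat.find hex ≠ 0 := fun h => hg' (by simpa [h] using Nat.find_spec hex)
  obtain ⟨k, hk⟩ := Nat.exists_eq_succ_of_ne_zero hk0
  refine ⟨g ^ p ^ k, pow_mem hg _, Nat.find_min hex (by omega), ?_⟩
  rw [← pow_mul, ← pow_succ, ← Nat.succ_eq_add_one, ← hk]
  exact Nat.find_spec hex

/-- The agemo of the centre of `S` is normal when the class of `S` is small. -/
theorem isNormal_powerClosure_center [Fact p.Prime] [Finite S] (hS : IsPGroup p S)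
    (hF : F.IsSaturated p) (n : ℕ) (hcl : S.lowerCentralSeries (n * (p - 1) + 1) = ⊥) :
    F.IsNormal (powerClosure p n (centerOf S)) := by
  set V := powerClosure p n (centerOf S) with hV
  have hVS : V ≤ S := (powerClosure_le _).trans inf_le_left
  have hN : normalizerIn S V = S := le_antisymm (normalizerIn_le V) fun g hg => ⟨hg, by
    refine Subgroup.centralizer_le_normalizer _ (Subgroup.mem_centralizer_iff.2 fun y hy => ?_)
    exact (centerOf_comm (powerClosure_le _ hy) hg).symm⟩
  -- automorphisms preserving `V` belong to the normalizer system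
  have hmem : ∀ (P : Subgroup Ω), P ≤ S → V ≤ P → ∀ a ∈ F.autGroup P,
      (∀ x : P, (x : Ω) ∈ V → ((a x : P) : Ω) ∈ V) →
      a ∈ (copySystem hN (normSystem F V hVS)).autGroup P := by
    intro P hP hVP a ha hav
    refine (mem_autGroup_iff hP).2 ?_
    have haF := (mem_autGroup_iff hP).1 ha
    refine ⟨haF, hP.trans hN.ge, fun x => hN.ge (hom_apply_mem haF x),
      (P.subtype.comp a.toMonoidHom).comp (Subgroup.inclusion (sup_le le_rfl hVP)),
      restrict_mem haF _, fun x => rfl, ?_⟩
    have := finite_le hVS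
    refine Subgroup.eq_of_le_of_card_ge ?_ ?_
    · rintro _ ⟨x, hx, rfl⟩
      exact hav (Subgroup.inclusion (sup_le le_rfl hVP) x) hx
    · exact (card_img (F.injective_of_mem (restrict_mem haF _)) le_sup_right).ge
  have hle : F ≤ copySystem hN (normSystem F V hVS) := by
    refine alperin_gen hS hF _ (fun a ha => ?_) fun R hRS hess _ => ?_
    · refine hmem S le_rfl hVS a ha fun x hx => ?_
      exact aut_mem_powerClosure_center a hx
    have hc := hess.1
    have hVR : V ≤ powerClosure p n (centerOf R) :=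
      Subgroup.closure_mono fun _ ⟨x, hx, hy⟩ => ⟨x, centerOf_le_of_isCentric hc hx, hy⟩
    obtain ⟨g, hgN, hgR, hgp⟩ := lt_normalizer_element hS hRS
    have hgW : g ∈ Subgroup.normalizer (centerOf R : Set Ω) := by
      have h1 := hgN.2
      have h2 : g ∈ Subgroup.normalizer ((Subgroup.centralizer (R : Set Ω) : Subgroup Ω) : Set Ω) := by
        refine Subgroup.mem_normalizer_iff.2 fun z => ?_
        simp only [Subgroup.mem_centralizer_iff]
        constructor
        · intro hz y hy
          have h := hz (g⁻¹ * y * g) ((Subgroup.mem_normalizer_iff''.1 h1 y).1 hy)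
          have h' := congrArg (fun t => g * t * g⁻¹) h
          simpa [mul_assoc] using h'
        · intro hz y hy
          have h := hz (g * y * g⁻¹) ((Subgroup.mem_normalizer_iff.1 h1 y).1 hy)
          have h' := congrArg (fun t => g⁻¹ * t * g) h
          simpa [mul_assoc] using h'
      exact Subgroup.inf_normalizer_le_normalizer_inf ⟨h1, h2⟩
    refine autGroup_le_fix_sup_ext hS hF hess.2.1 ((powerClosure p n (centerOf R)).subgroupOf R)
      (fun a _ x hx => aut_mem_powerClosure_center a hx) ⟨g, hgN⟩ hgR (fun x hx => ?_) _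
      fun a ha hfix => hmem R hRS.le (hVR.trans ((powerClosure_le _).trans inf_le_left)) a ha
        fun x hx => (congrArg Subtype.val (hfix x (hVR hx))).symm ▸ hx
    refine Subtype.ext ?_
    exact conj_fixes_powerClosure (fun a ha b hb => (centerOf_comm hb ha.1)) hgW
      (fun w hw => centerOf_comm hw hgp) n
      (fun w hw => by
        have := iterate_mem_lowerCentralSeries hgN.1 (hRS.le hw.1) (n * (p - 1) + 1)
        rwa [hcl, Subgroup.mem_bot] at this) _ hx
  refine ⟨hVS, fun P φ hφ => (hle P hφ).2.2.2⟩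

theorem pow_mem_upperCentralSeries {G : Type*} [Group G] {m : ℕ}
    (h : ∀ z ∈ Subgroup.center G, z ^ m = 1) :
    ∀ (i : ℕ), ∀ x ∈ Subgroup.upperCentralSeries G (i + 1),
      x ^ m ∈ Subgroup.upperCentralSeries G i := by
  intro i
  induction i with
  | zero =>
      intro x hx
      rw [Subgroup.upperCentralSeries_one] at hx
      rw [h x hx]
      exact one_mem _
  | succ i ih =>
      intro x hx
      rw [Subgroup.mem_upperCentralSeries_succ_iff]
      intro y
      set Z := Subgroup.upperCentralSeries G i with hZ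
      set c := x * y * x⁻¹ * y⁻¹ with hc
      have hcm : c ∈ Subgroup.upperCentralSeries G (i + 1) :=
        (Subgroup.mem_upperCentralSeries_succ_iff.1 hx) y
      have hcen : ∀ t, (QuotientGroup.mk c : G ⧸ Z) * QuotientGroup.mk t =
          QuotientGroup.mk t * QuotientGroup.mk c := by
        intro t
        have h1 := (Subgroup.mem_upperCentralSeries_succ_iff.1 hcm) t
        rw [← commutatorElement_eq_one_iff_mul_comm, commutatorElement_def, ← QuotientGroup.mk_inv,
          ← QuotientGroup.mk_inv, ← QuotientGroup.mk_mul, ← QuotientGroup.mk_mul,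
          ← QuotientGroup.mk_mul, QuotientGroup.eq_one_iff]
        exact h1
      rw [← QuotientGroup.eq_one_iff]
      have hyx : y * x * y⁻¹ = c⁻¹ * x := by rw [hc]; group
      have h2 : (QuotientGroup.mk (y * x ^ m * y⁻¹) : G ⧸ Z) = QuotientGroup.mk (x ^ m) := by
        rw [← conj_pow, hyx, QuotientGroup.mk_pow, QuotientGroup.mk_mul, QuotientGroup.mk_inv,
          Commute.mul_pow (Commute.inv_left (hcen x)), inv_pow, ← QuotientGroup.mk_pow,
          (QuotientGroup.eq_one_iff _).2 (ih c hcm), inv_one, one_mul, QuotientGroup.mk_pow]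
      rw [show ⁅x ^ m, y⁆ = x ^ m * (y * x ^ m * y⁻¹)⁻¹ by rw [commutatorElement_def]; group,
        QuotientGroup.mk_mul, QuotientGroup.mk_inv, h2, mul_inv_cancel]

theorem exponent_dvd_pow_of_center {G : Type*} [Group G] {m c : ℕ}
    (h : ∀ z ∈ Subgroup.center G, z ^ m = 1) (hc : Subgroup.upperCentralSeries G c = ⊤) :
    Monoid.exponent G ∣ m ^ c := by
  have key : ∀ i, ∀ x ∈ Subgroup.upperCentralSeries G i, x ^ m ^ i = 1 := by
    intro i
    induction i with
    | zero => intro x hx; simpa using hx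
    | succ i ih =>
        intro x hx
        rw [pow_succ', pow_mul]
        exact ih _ (pow_mem_upperCentralSeries h i x hx)
  exact Monoid.exponent_dvd_of_forall_pow_eq_one fun x => key c x (hc ▸ Subgroup.mem_top x)

end CfsgLib.Fusion
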