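import Cfsg.Agent.Lib.Fusion.JTools
import Cfsg.Agent.Lib.Fusion.CenterPowers
import Cfsg.Agent.Lib.Fusion.KNormalizer
import Cfsg.Agent.Lib.Fusion.Factor
import Cfsg.Agent.Lib.Fusion.NormalExtend

/-!
A saturated system is generated by the centralizer of `℧₁(Z(S))` and the normalizer of `J(S)`.
-/

set_option autoImplicit false

namespace CfsgLib.Fusion

open Cfsg Cfsg.FusionSystem
open scoped Pointwise

variable {Ω : Type*} [Group Ω] {S : Subgroup Ω} {F : FusionSystem S} {p : ℕ}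

theorem img_eq_map_of_extends {P Q : Subgroup Ω} {φ : P →* Ω} (hQP : Q ≤ P) :
    (φ.comp (Subgroup.inclusion hQP)).range = img φ Q := range_restrict φ hQP

/-- A map in a normalizer system of `Y` is a map of `E` as soon as its transport to a conjugate
`Y'` is. -/
theorem mem_of_transport [Finite S] {E : FusionSystem S} {Y Y' : Subgroup Ω}
    {f : normalizerIn S Y →* Ω} (hf : f ∈ F.Hom (normalizerIn S Y))
    (hfE : f ∈ E.Hom (normalizerIn S Y)) (hfm : ∀ x, f x ∈ normalizerIn S Y')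
    (hfY : img f Y = Y') (hY : Y ≤ S)
    (hM : ∀ (P : Subgroup Ω) (φ : P →* Ω), φ ∈ F.normalizerHom Y' P → φ ∈ E.Hom P)
    {P : Subgroup Ω} {φ : P →* Ω} (hφ : φ ∈ F.normalizerHom Y P) : φ ∈ E.Hom P := by
  obtain ⟨hφF, hP, hφm, ψ, hψ, hψP, hψY⟩ := hφ
  have hA : P ⊔ Y ≤ normalizerIn S Y := sup_le hP (le_normalizerIn hY)
  have hψm : ∀ x, ψ x ∈ normalizerIn S Y := apply_mem_of_sup (fun x => hψP x ▸ hφm x) fun y =>
    le_normalizerIn hY (hψY.le ⟨_, y.2, rfl⟩)
  set fA := f.comp (Subgroup.inclusion hA) with hfA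
  set fψ := f.comp (ψ.codRestrict _ hψm) with hfψ
  have hfψF : fψ ∈ F.Hom (P ⊔ Y) := F.comp_mem hψ hf hψm
  obtain ⟨g, hg, hgr, hgv, -⟩ := exists_inv (restrict_mem hf hA : fA ∈ F.Hom _) rfl
  have hgm : ∀ y, g y ∈ P ⊔ Y := fun y => hgr.le ⟨y, rfl⟩
  set χ := fψ.comp (g.codRestrict _ hgm) with hχ
  have hχF : χ ∈ F.Hom fA.range := F.comp_mem hg hfψF hgm
  have hfAE : fA ∈ E.Hom (P ⊔ Y) := restrict_mem hfE hA
  have hχv : ∀ x, χ ⟨fA x, ⟨x, rfl⟩⟩ = fψ x := fun x => by
    show fψ ⟨g ⟨fA x, _⟩, _⟩ = fψ x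
    congr 1
    exact Subtype.ext (hgv x _)
  have hYr : Y' ≤ fA.range := by
    rw [← hfY]
    rintro _ ⟨x, hx, rfl⟩
    exact ⟨⟨x, Subgroup.mem_sup_right hx⟩, rfl⟩
  have hsup : fA.range ⊔ Y' ≤ fA.range := sup_le le_rfl hYr
  have hY'S : Y' ≤ S := hYr.trans (hom_range_le (restrict_mem hf hA))
  have hχY : (Y'.subgroupOf (fA.range ⊔ Y')).map (χ.comp (Subgroup.inclusion hsup)) = Y' := by
    have := finite_le hY'S
    refine Subgroup.eq_of_le_of_card_ge ?_ ?_
    · rintro _ ⟨z, hz, rfl⟩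
      obtain ⟨x, hx, hxz⟩ := mem_img.1 (hfY.ge hz)
      have hxA : (x : Ω) ∈ P ⊔ Y := Subgroup.mem_sup_right hx
      refine hfY.le (mem_img.2 ⟨⟨ψ ⟨x, hxA⟩, hψm _⟩, hψY.le ⟨⟨x, hxA⟩, hx, rfl⟩, ?_⟩)
      show fψ ⟨x, hxA⟩ = χ (Subgroup.inclusion hsup z)
      rw [← hχv ⟨x, hxA⟩]
      congr 1
      exact Subtype.ext hxz
    · exact (card_img (F.injective_of_mem (restrict_mem hχF hsup)) le_sup_right).ge
  have hχn : χ ∈ F.normalizerHom Y' fA.range :=
    ⟨hχF, by rintro _ ⟨x, rfl⟩; exact hfm _, fun y => hfm _,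
      χ.comp (Subgroup.inclusion hsup), restrict_mem hχF hsup, fun y => rfl, hχY⟩
  have hχE := hM _ χ hχn
  have hfψE : fψ ∈ E.Hom (P ⊔ Y) :=
    hom_congr (E.comp_mem hfAE hχE (fun x => ⟨x, rfl⟩)) fun x => (hχv x).symm
  obtain ⟨fi, hfi, -, hfiv, -⟩ := exists_inv hfE rfl
  have hψE : ψ ∈ E.Hom (P ⊔ Y) :=
    hom_congr (E.comp_mem hfψE hfi (fun x => ⟨⟨ψ x, hψm x⟩, rfl⟩)) fun x =>
      (hfiv ⟨ψ x, hψm x⟩ _).symm
  exact restrict_mem' hψE le_sup_left fun x => (hψP x).symm

theorem normalizer_le_normalizer_thompsonA (T : Subgroup Ω) :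
    Subgroup.normalizer (T : Set Ω) ≤
      Subgroup.normalizer ((thompsonSubgroupAOf T : Subgroup Ω) : Set Ω) := by
  intro g hg
  rw [Subgroup.mem_normalizer_iff_map_conj_eq] at hg ⊢
  have h := Techniques.thompsonAOf_map (MulAut.conj g).toMonoidHom T (by
    rw [(MonoidHom.ker_eq_bot_iff _).2 (MulAut.conj g).injective]; exact disjoint_bot_right)
  rw [show T.map (MulAut.conj g).toMonoidHom = T from hg] at h
  exact h

/-- `J(T)` inside a centric `Y` with normalizer `T` is centric. -/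
theorem isCentric_thompsonA [Fact p.Prime] [Finite S] (hS : IsPGroup p S) (hF : F.IsSaturated p)
    {Y : Subgroup Ω} (hYc : F.IsCentric Y) (hYn : F.IsFullyNormalized Y)
    (hJ : thompsonSubgroupAOf (normalizerIn S Y) ≤ Y) :
    F.IsCentric (thompsonSubgroupAOf (normalizerIn S Y)) := by
  set T := normalizerIn S Y with hT
  set X := thompsonSubgroupAOf T with hX
  have hTS : T ≤ S := normalizerIn_le Y
  have hXS : X ≤ S := (thompsonAOf_le T).trans hTS
  obtain ⟨X', hXX', hX'1, hX'2, hX'n⟩ := IsSaturated.exists_rep hS hF hXS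
  obtain ⟨f, hf, hfm, hfX⟩ := exists_normalizer_map hS hX'1 hX'2 hXX'
  have hTN : T ≤ normalizerIn S X := fun t ht =>
    ⟨hTS ht, normalizer_le_normalizer_thompsonA T (Subgroup.le_normalizer ht)⟩
  have hYT : Y ≤ T := le_normalizerIn hYc.1
  set Y' := img f Y with hY'
  have hfY : Y ≤ normalizerIn S X := hYT.trans hTN
  have hY'c : F.IsCentric Y' := isCentric_of_isConj hYc (isConj_img hf hfY)
  refine isCentric_of_isConj (isCentric_of_centralizerIn_le hS hF
    (IsSaturated.fullyCentralized hS hF hX'n) ?_) (isConj_symm hXX')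
  -- the normalizer of `Y'` is the image of `T`
  have hTimg : img f T = normalizerIn S Y' := by
    have := finite_le (normalizerIn_le (S := S) Y')
    refine Subgroup.eq_of_le_of_card_ge ?_ ?_
    · rintro _ ⟨t, ht, rfl⟩
      refine ⟨hom_apply_mem hf t, Subgroup.mem_normalizer_iff_map_conj_eq.2 ?_⟩
      have hfinY := finite_le (img_le_range f Y |>.trans (hom_range_le hf))
      refine Subgroup.eq_of_le_of_card_ge ?_
        (le_of_eq (Subgroup.card_map_of_injective (MulEquiv.injective _)).symm)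
      rintro _ ⟨_, ⟨y, hy, rfl⟩, rfl⟩
      exact ⟨t * y * t⁻¹, (Subgroup.mem_normalizer_iff.1 (ht : (t : Ω) ∈ T).2 _).1 hy,
        by simp [map_mul, map_inv]⟩
    · rw [card_img (F.injective_of_mem hf) hTN]
      exact hYn.2 Y' (isConj_img hf hfY)
  have hX'eq : X' = thompsonSubgroupAOf (normalizerIn S Y') := by
    rw [← hTimg, thompsonA_img (F.injective_of_mem hf) hTN, ← hfX]
  have hX'Y : X' ≤ Y' := by
    rw [← hfX]
    exact img_mono f hJ
  intro c hc
  obtain ⟨hcS, hcX⟩ := mem_centralizerIn.1 hc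
  -- a normalizer element of `Y'` centralising `X'` lies in `X'`
  have hin : ∀ d, d ∈ normalizerIn S Y' → (∀ y ∈ X', y * d = d * y) → d ∈ X' := fun d hd h => by
    rw [hX'eq] at h ⊢
    exact mem_thompsonA_of_centralizes (normalizerIn_le Y') hd h
  by_contra hcnot
  set C := centralizerIn S X' with hC
  have hY'N : Y' ≤ Subgroup.normalizer (C : Set Ω) := by
    refine fun y hy => Subgroup.mem_normalizer_iff.2 fun d => ?_
    have hyX : ∀ x, x ∈ X' ↔ y * x * y⁻¹ ∈ X' := by
      have hyT : y ∈ normalizerIn S Y' := le_normalizerIn hY'c.1 hy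
      intro x
      rw [← hTimg] at hyT
      obtain ⟨t, ht, rfl⟩ := hyT
      have hnorm := hfm t
      exact Subgroup.mem_normalizer_iff.1 hnorm.2 x
    have hyS := hY'c.1 hy
    simp only [hC, mem_centralizerIn]
    constructor
    · rintro ⟨hdS, hd⟩
      refine ⟨S.mul_mem (S.mul_mem hyS hdS) (S.inv_mem hyS), fun x hx => ?_⟩
      have := congrArg (fun z => y * z * y⁻¹) (hd (y⁻¹ * x * y) ((hyX _).2 (by simpa [mul_assoc] using hx)))
      simpa [mul_assoc] using this
    · rintro ⟨hdS, hd⟩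
      refine ⟨by simpa [mul_assoc] using S.mul_mem (S.mul_mem (S.inv_mem hyS) hdS) hyS, fun x hx => ?_⟩
      have := congrArg (fun z => y⁻¹ * z * y) (hd (y * x * y⁻¹) ((hyX x).1 hx))
      simpa [mul_assoc] using this
  have hHS : Y' ⊔ C ≤ S := sup_le hY'c.1 (centralizerIn_le X')
  have hlt : Y' < Y' ⊔ C := by
    refine lt_of_le_of_ne le_sup_left fun h => hcnot ?_
    have hcY : c ∈ Y' := h.ge (Subgroup.mem_sup_right hc)
    exact hin c (le_normalizerIn hY'c.1 hcY) hcX
  have := finite_le hHS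
  obtain ⟨h, hh, hhY⟩ := exists_mem_normalizerIn_not_mem (hS.to_le hHS) hlt
  obtain ⟨hhH, hhN⟩ := hh
  replace hhH : h ∈ (Y' : Set Ω) * (C : Set Ω) :=
    (Subgroup.coe_mul_of_left_le_normalizer_right Y' C hY'N) ▸ hhH
  obtain ⟨y, hy, d, hd, rfl⟩ := hhH
  refine hhY (Y'.mul_mem hy (hX'Y (hin d ⟨(mem_centralizerIn.1 hd).1, ?_⟩
    (mem_centralizerIn.1 hd).2)))
  have := mul_mem (inv_mem (Subgroup.le_normalizer (H := Y') hy)) hhN
  simpa using this

/-- The generation theorem. -/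
theorem le_of_center_powers_thompsonA [Fact p.Prime] [Finite S] (hS : IsPGroup p S)
    (hF : F.IsSaturated p) (E : FusionSystem S)
    (hC : ∀ (P : Subgroup Ω) (φ : P →* Ω),
      φ ∈ F.centralizerHom (powerClosure p 1 (centerOf S)) P → φ ∈ E.Hom P)
    (hN : ∀ (P : Subgroup Ω) (φ : P →* Ω),
      φ ∈ F.normalizerHom (thompsonSubgroupAOf S) P → φ ∈ E.Hom P) :
    F ≤ E := by
  set V := powerClosure p 1 (centerOf S) with hV
  set J := thompsonSubgroupAOf S with hJ
  have hJchar : ∀ a ∈ F.autGroup S, ∀ x : S, (x : Ω) ∈ J → ((a x : S) : Ω) ∈ J := by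
    intro a _ x hx
    have h1 := thompsonA_img (φ := S.subtype.comp a.toMonoidHom)
      (S.subtype_injective.comp a.injective) (le_refl S)
    rw [img_self, show (S.subtype.comp a.toMonoidHom).range = S by
      rw [MonoidHom.range_comp, MonoidHom.range_eq_top.2 a.surjective, ← MonoidHom.range_eq_map,
        Subgroup.range_subtype]] at h1
    rw [hJ, h1]
    exact mem_img.2 ⟨x, hx, rfl⟩
  -- extending to the normalizer of `J`
  have hnormJ : ∀ (P : Subgroup Ω) (φ : P →* Ω), φ ∈ F.Hom P →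
      ∀ (A : Subgroup Ω) (ψ : A →* Ω), ψ ∈ F.Hom A → ∀ hPA : P ≤ A, J ≤ A →
      (∀ x : P, ψ (Subgroup.inclusion hPA x) = φ x) → img ψ J = J → φ ∈ E.Hom P := by
    intro P φ hφ A ψ hψ hPA hJA hag himg
    have hle : P ⊔ J ≤ A := sup_le hPA hJA
    have hJn : S ≤ normalizerIn S J := fun g hg =>
      ⟨hg, normalizer_le_normalizer_thompsonA S (Subgroup.le_normalizer hg)⟩
    refine hN P φ ⟨hφ, (hom_le hφ).trans hJn, fun x => hJn (hom_apply_mem hφ x),
      ψ.comp (Subgroup.inclusion hle), restrict_mem hψ hle, hag, ?_⟩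
    have := finite_le ((thompsonAOf_le S) : J ≤ S)
    refine Subgroup.eq_of_le_of_card_ge ?_ ?_
    · rintro _ ⟨x, hx, rfl⟩
      exact himg.le (mem_img.2 ⟨Subgroup.inclusion hle x, hx, rfl⟩)
    · exact (card_img (F.injective_of_mem (restrict_mem hψ hle)) le_sup_right).ge
  refine alperin_gen hS hF E (fun a ha => ?_) fun R hRS hess hup => ?_
  · have haF := (mem_autGroup_iff le_rfl).1 ha
    refine (mem_autGroup_iff le_rfl).2 (hnormJ S _ haF S _ haF le_rfl (thompsonAOf_le S)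
      (fun x => rfl) ?_)
    have := finite_le (thompsonAOf_le S : J ≤ S)
    refine Subgroup.eq_of_le_of_card_ge ?_ ?_
    · intro y hy
      obtain ⟨x, hx, rfl⟩ := mem_img.1 hy
      exact hJchar a ha x hx
    · exact (card_img (F.injective_of_mem haF) (thompsonAOf_le S)).ge
  -- maps defined above `R` are given; climb through normalizers of centric subgroups
  suffices main : ∀ (m : ℕ) (Y : Subgroup Ω), (Nat.card S - Nat.card (normalizerIn S Y)) *
      (Nat.card S + 1) + (Nat.card S - Nat.card Y) < m → F.IsCentric Y → F.IsFullyNormalized Y →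
      Nat.card R < Nat.card (normalizerIn S Y) →
      ∀ (P : Subgroup Ω) (φ : P →* Ω), φ ∈ F.normalizerHom Y P → φ ∈ E.Hom P by
    intro a ha
    refine Subgroup.mem_sup_left ((mem_autGroup_iff hRS.le).2 (main _ R (Nat.lt_succ_self _)
      hess.1 hess.2.1 ?_ R _ ?_))
    · have := finite_le (normalizerIn_le (S := S) R)
      exact lt_of_le_of_ne (Subgroup.card_le_of_le (le_normalizerIn hRS.le)) fun h =>
        (lt_normalizerIn hS hRS).ne (Subgroup.eq_of_le_of_card_ge (le_normalizerIn hRS.le) h.ge)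
    · have haF := (mem_autGroup_iff hRS.le).1 ha
      refine ⟨haF, le_normalizerIn hRS.le, fun x => le_normalizerIn hRS.le (a x).2,
        (R.subtype.comp a.toMonoidHom).comp (Subgroup.inclusion (sup_le le_rfl le_rfl)),
        restrict_mem haF _, fun x => rfl, ?_⟩
      have := finite_le hRS.le
      refine Subgroup.eq_of_le_of_card_ge ?_ ?_
      · rintro _ ⟨x, -, rfl⟩
        exact (a _).2
      · exact (card_img (F.injective_of_mem (restrict_mem haF _)) le_sup_right).ge
  intro m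
  induction m with
  | zero => intro Y h; omega
  | succ m ih =>
  intro Y hm hYc hYn hRT
  have hYS := hYc.1
  set T := normalizerIn S Y with hT
  have hTS : T ≤ S := normalizerIn_le Y
  have hYT : Y ≤ T := le_normalizerIn hYS
  have := finite_le hTS
  -- one step upwards
  have move : ∀ Y2 : Subgroup Ω, F.IsCentric Y2 → T ≤ normalizerIn S Y2 →
      (Nat.card T < Nat.card (normalizerIn S Y2) ∨ Nat.card Y < Nat.card Y2) →
      ∀ (P : Subgroup Ω) (φ : P →* Ω), φ ∈ F.normalizerHom Y2 P → φ ∈ E.Hom P := by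
    intro Y2 hc hTN hlt P φ hφ
    obtain ⟨Y', hconj, h1, h2, hY'n⟩ := IsSaturated.exists_rep hS hF hc.1
    obtain ⟨f, hf, hfm, hfY⟩ := exists_normalizer_map hS h1 h2 hconj
    have hcard := card_normalizerIn_le_of_map hf hfm
    have hfin2 := finite_le (normalizerIn_le (S := S) Y2)
    have hTc := Subgroup.card_le_of_le hTN
    refine mem_of_transport hf (hup _ (lt_of_lt_of_le hRT hTc) hf) hfm hfY hc.1 ?_ hφ
    refine ih Y' ?_ (isCentric_of_isConj hc hconj) hY'n (hRT.trans_le (hTc.trans hcard))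
    have hYY' := isConj_card hconj
    have hb1 := Subgroup.card_le_of_le (normalizerIn_le (S := S) Y')
    have hb2 := Subgroup.card_le_of_le hc.1
    have hb3 := Subgroup.card_le_of_le hYS
    set s := Nat.card S
    set t := Nat.card T
    set t' := Nat.card (normalizerIn S Y')
    rcases eq_or_lt_of_le (hTc.trans hcard) with heq | hlt'
    · rw [← heq]
      rcases hlt with h | h <;> omega
    · have : (s - t' + 1) * (s + 1) ≤ (s - t) * (s + 1) := Nat.mul_le_mul_right _ (by omega)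
      rw [add_mul, one_mul] at this
      omega
  -- the dichotomy
  set W := centerOf Y with hW
  have hWc : ∀ a ∈ W, ∀ b ∈ W, a * b = b * a := fun a ha b hb => centerOf_comm hb ha.1
  have hTW : T ≤ Subgroup.normalizer (W : Set Ω) := fun t ht => by
    refine Subgroup.inf_normalizer_le_normalizer_inf ⟨ht.2, Subgroup.mem_normalizer_iff.2 fun z => ?_⟩
    simp only [Subgroup.mem_centralizer_iff]
    constructor
    · intro hz y hy
      have h := congrArg (fun w => t * w * t⁻¹)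
        (hz (t⁻¹ * y * t) ((Subgroup.mem_normalizer_iff''.1 ht.2 y).1 hy))
      simpa [mul_assoc] using h
    · intro hz y hy
      have h := congrArg (fun w => t⁻¹ * w * t)
        (hz (t * y * t⁻¹) ((Subgroup.mem_normalizer_iff.1 ht.2 y).1 hy))
      simpa [mul_assoc] using h
  intro P φ hφ
  by_cases hJY : thompsonSubgroupAOf T ≤ Y
  · set X := thompsonSubgroupAOf T with hX
    obtain ⟨hφF, hP, hφm, ψ, hψ, hψP, hψY⟩ := hφ
    have hXY : thompsonSubgroupAOf Y = X := thompsonA_eq_of_le hYT hTS hJY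
    have hψX : img ψ X = X := by
      conv_rhs => rw [← hXY, ← show img ψ Y = Y from hψY,
        thompsonA_img (F.injective_of_mem hψ) le_sup_right, hXY]
    have hXN : ∀ x, x ∈ T → x ∈ normalizerIn S X := fun x hx =>
      ⟨hTS hx, normalizer_le_normalizer_thompsonA T (Subgroup.le_normalizer hx)⟩
    rcases eq_or_lt_of_le hTS with hTeq | hTlt
    · refine hnormJ P φ hφF _ ψ hψ le_sup_left ?_ hψP ?_
      · rw [hJ, ← hTeq]; exact hJY.trans le_sup_right
      · rw [hJ, ← hTeq]; exact hψX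
    · have hle : P ⊔ X ≤ P ⊔ Y := sup_le_sup_left hJY P
      refine move X (isCentric_thompsonA hS hF hYc hYn hJY) hXN (Or.inl ?_) P φ
        ⟨hφF, hP.trans hXN, fun x => hXN _ (hφm x), ψ.comp (Subgroup.inclusion hle),
          restrict_mem hψ hle, hψP, ?_⟩
      · have hlt : T < normalizerIn S X := by
          exact lt_of_lt_of_le (lt_normalizerIn hS hTlt) fun x hx =>
            ⟨hx.1, normalizer_le_normalizer_thompsonA T hx.2⟩
        have := finite_le (normalizerIn_le (S := S) X)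
        exact lt_of_le_of_ne (Subgroup.card_le_of_le hlt.le) fun h =>
          hlt.ne (Subgroup.eq_of_le_of_card_ge hlt.le h.ge)
      · have := finite_le (hJY.trans hYS)
        refine Subgroup.eq_of_le_of_card_ge ?_ ?_
        · rintro _ ⟨x, hx, rfl⟩
          exact hψX.le (mem_img.2 ⟨Subgroup.inclusion hle x, hx, rfl⟩)
        · exact (card_img (F.injective_of_mem (restrict_mem hψ hle)) le_sup_right).ge
  set U := powerClosure p 1 W with hU
  have hUY : U ≤ Y := (powerClosure_le W).trans inf_le_left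
  set D := T ⊓ Subgroup.centralizer (U : Set Ω) with hD
  have hYD : Y ≤ D := fun y hy => ⟨hYT hy, Subgroup.mem_centralizer_iff.2 fun u hu =>
    (centerOf_comm (powerClosure_le W hu) hy).symm⟩
  have hYDne : Y ≠ D := by
    intro hYD'
    by_cases hJC : thompsonSubgroupAOf T ≤ Subgroup.centralizer (W : Set Ω)
    · exact hJY (hYD'.symm ▸ le_inf (thompsonAOf_le T)
        (hJC.trans (Subgroup.centralizer_le (SetLike.coe_subset_coe.2 (powerClosure_le W)))))
    obtain ⟨g, hgT, hgW, hgp, hq⟩ := exists_quadratic hS hTS (inf_le_left.trans hYT) hTW hWc hJC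
    refine hgW ?_
    have hgY : g ∈ Y := hYD'.symm ▸ (⟨hgT, Subgroup.mem_centralizer_iff.2 fun u hu => ?_⟩ : g ∈ D)
    · exact Subgroup.mem_centralizer_iff.2 fun w hw => (centerOf_comm hw hgY).symm
    have h := conj_fixes_powerClosure hWc (hTW hgT)
      (fun w hw => (Subgroup.mem_centralizer_iff.1 hgp w hw).symm) 1 (fun w hw => ?_) u hu
    · exact (mul_inv_eq_iff_eq_mul.1 h).symm
    have h2 : ((fun w => g * w * g⁻¹ * w⁻¹)^[2]) w = 1 := by
      show g * (g * w * g⁻¹ * w⁻¹) * g⁻¹ * (g * w * g⁻¹ * w⁻¹)⁻¹ = 1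
      rw [hq w hw, mul_inv_cancel]
    obtain ⟨k, hk⟩ : ∃ k, 1 * (p - 1) + 1 = k + 2 := ⟨p - 2, by
      have := (Fact.out : p.Prime).two_le; omega⟩
    rw [hk, Function.iterate_add_apply, h2]
    clear hk
    induction k with
    | zero => rfl
    | succ k ih => rw [Function.iterate_succ', Function.comp_apply, ih]; group
  have hDS : D ≤ S := inf_le_left.trans hTS
  have hDc : F.IsCentric D := isCentric_mono hYc hYD hDS
  have hTD : ∀ t ∈ T, t ∈ Subgroup.normalizer (D : Set Ω) := by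
    intro t ht
    refine Subgroup.inf_normalizer_le_normalizer_inf ⟨Subgroup.le_normalizer ht, ?_⟩
    have hWU : ∀ t ∈ T, ∀ u ∈ U, t * u * t⁻¹ ∈ U := by
      intro t ht u hu
      exact aut_mem_powerClosure_center (conjAut (⟨t, hTS ht, ht.2⟩ : normalizerIn S Y))
        (x := ⟨u, hUY hu⟩) hu
    refine Subgroup.mem_normalizer_iff.2 fun z => ?_
    simp only [Subgroup.mem_centralizer_iff]
    constructor
    · intro hz y hy
      have h := congrArg (fun w => t * w * t⁻¹) (hz (t⁻¹ * y * t) (by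
        simpa using hWU t⁻¹ (inv_mem ht) y hy))
      simpa [mul_assoc] using h
    · intro hz y hy
      have h := congrArg (fun w => t⁻¹ * w * t) (hz (t * y * t⁻¹) (hWU t ht y hy))
      simpa [mul_assoc] using h
  have hcardD : Nat.card Y < Nat.card D := by
    have := finite_le hDS
    exact lt_of_le_of_ne (Subgroup.card_le_of_le hYD) fun h =>
      hYDne (Subgroup.eq_of_le_of_card_ge hYD h.ge)
  -- the normalizer system of `Y`
  set N := normSystem F Y hYS with hNdef
  have hNs := normalizerSystem_saturated hS hF hYn (normSystem_isNormalizerSystem F Y hYS)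
  have hNY : N.IsNormal Y := by
    refine ⟨hYT, fun A χ hχ => ?_⟩
    obtain ⟨-, hA, hχT, ψ, hψ, hψA, hψY⟩ := hχ
    have hle : A ⊔ Y ≤ T := sup_le hA hYT
    refine ⟨ψ, ⟨hψ, hle, apply_mem_of_sup (fun x => hψA x ▸ hχT x)
      (fun y => hYT (hψY.le ⟨_, y.2, rfl⟩)), ψ.comp (Subgroup.inclusion (sup_le le_rfl le_sup_right)),
      restrict_mem hψ _, fun x => rfl, ?_⟩, hψA, hψY⟩
    ext y
    constructor
    · rintro ⟨x, hx, rfl⟩
      exact hψY.le ⟨_, hx, rfl⟩
    · intro hy
      obtain ⟨x, hx, rfl⟩ := hψY.ge hy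
      exact ⟨⟨x, Subgroup.mem_sup_left x.2⟩, hx, rfl⟩
  suffices hle : N ≤ meetSystem E N hTS from (hle P (show φ ∈ N.Hom P from hφ)).2
  -- automorphisms fixing `D` as a set
  have hkeepD : ∀ P', Y ≤ P' → D ≤ P' → ∀ a ∈ N.autGroup P', P' ≤ T →
      a ∈ (meetSystem E N hTS).autGroup P' := by
    intro P' hYP hDP a ha hP'T
    have haN := (mem_autGroup_iff hP'T).1 ha
    refine (mem_autGroup_iff hP'T).2 ⟨haN, ?_⟩
    have hpU : ∀ x : P', (x : Ω) ∈ U → ((a x : P') : Ω) ∈ U := by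
      intro x hx
      obtain ⟨b, hb, hbv⟩ := IsNormal.exists_aut hNY (le_refl Y)
        (restrict_mem haN hYP)
      have h1 := hbv ⟨x, hUY hx⟩
      rw [show ((a x : P') : Ω) = ((b ⟨x, hUY hx⟩ : Y) : Ω) from h1.symm]
      exact aut_mem_powerClosure_center b hx
    have hpD : ∀ x : P', (x : Ω) ∈ D → ((a x : P') : Ω) ∈ D := by
      intro x hx
      refine ⟨hP'T (a x).2, Subgroup.mem_centralizer_iff.2 fun u hu => ?_⟩
      have hu' : ((a⁻¹ ⟨u, hYP (hUY hu)⟩ : P') : Ω) ∈ U := by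
        have hset : (U.subgroupOf P').map a.toMonoidHom = U.subgroupOf P' :=
          map_subgroupOf_eq (S := S) (hP'T.trans hTS) (by
            rintro _ ⟨y, hy, rfl⟩
            exact hpU y hy)
        obtain ⟨y, hy, hyu⟩ := hset.ge (show (⟨u, hYP (hUY hu)⟩ : P') ∈ U.subgroupOf P' from hu)
        have : a⁻¹ ⟨u, hYP (hUY hu)⟩ = y := by rw [← hyu]; exact MulAut.inv_apply_self _ a y
        rw [this]; exact hy
      have h1 : a⁻¹ ⟨u, hYP (hUY hu)⟩ * x = x * a⁻¹ ⟨u, hYP (hUY hu)⟩ :=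
        Subtype.ext (Subgroup.mem_centralizer_iff.1 hx.2 _ hu')
      have h2 := congrArg (fun z => ((a z : P') : Ω)) h1
      simp only [map_mul, MulAut.apply_inv_self, Subgroup.coe_mul] at h2
      exact h2
    refine move D hDc (fun t ht => ⟨hTS ht, hTD t ht⟩) (Or.inr hcardD) P' _ ?_
    have haF := haN.1
    have hsup : P' ⊔ D ≤ P' := sup_le le_rfl hDP
    refine ⟨haF, fun x hx => ⟨hTS (hP'T hx), hTD x (hP'T hx)⟩,
      fun x => ⟨hTS (hP'T (a x).2), hTD _ (hP'T (a x).2)⟩,
      (P'.subtype.comp a.toMonoidHom).comp (Subgroup.inclusion hsup), restrict_mem haF hsup,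
      fun x => rfl, ?_⟩
    have := finite_le hDS
    refine Subgroup.eq_of_le_of_card_ge ?_ ?_
    · rintro _ ⟨x, hx, rfl⟩
      exact hpD (Subgroup.inclusion hsup x) hx
    · exact (card_img (F.injective_of_mem (restrict_mem haF hsup)) le_sup_right).ge
  refine alperin_gen (hS.to_le hTS) hNs _ (fun a ha => hkeepD T hYT inf_le_left a ha le_rfl)
    fun P' hP'T hess' _ => ?_
  have hYP : Y ≤ P' := IsNormal.le_centric_radical (hS.to_le hTS) hNY hess'.1
    (IsEssential.isRadical (hS.to_le hTS) hess')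
  by_cases hDP : D ≤ P'
  · exact fun a ha => Subgroup.mem_sup_left (hkeepD P' hYP hDP a ha hP'T.le)
  have hHT : P' ⊔ D ≤ T := sup_le hP'T.le inf_le_left
  have := finite_le (hHT.trans hTS)
  obtain ⟨h, hh, hhP⟩ := exists_mem_normalizerIn_not_mem (hS.to_le (hHT.trans hTS))
    (left_lt_sup.2 hDP)
  obtain ⟨hhH, hhN⟩ := hh
  have hP'D : P' ≤ Subgroup.normalizer (D : Set Ω) := fun x hx => hTD x (hP'T.le hx)
  replace hhH : h ∈ (P' : Set Ω) * (D : Set Ω) :=
    (Subgroup.coe_mul_of_left_le_normalizer_right P' D hP'D) ▸ hhH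
  obtain ⟨y, hy, d, hd, rfl⟩ := hhH
  have hdP : d ∉ P' := fun hd' => hhP (P'.mul_mem hy hd')
  have hdN : d ∈ normalizerIn T P' := ⟨hd.1, by
    have := mul_mem (inv_mem (Subgroup.le_normalizer (H := P') hy)) hhN
    simpa using this⟩
  refine autGroup_le_fix_sup_ext (hS.to_le hTS) hNs hess'.2.1 (U.subgroupOf P') ?_ ⟨d, hdN⟩ hdP
    (fun x hx => Subtype.ext ?_) _ fun a ha hfix => ?_
  · intro a ha x hx
    obtain ⟨b, hb, hbv⟩ := IsNormal.exists_aut hNY (le_refl Y)
      (restrict_mem ((mem_autGroup_iff hP'T.le).1 ha) hYP)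
    show ((a x : P') : Ω) ∈ U
    rw [show ((a x : P') : Ω) = ((b ⟨x, hUY hx⟩ : Y) : Ω) from (hbv ⟨x, hUY hx⟩).symm]
    exact aut_mem_powerClosure_center b hx
  · show d * (x : Ω) * d⁻¹ = x
    have h := Subgroup.mem_centralizer_iff.1 hd.2 (x : Ω) hx
    exact mul_inv_eq_iff_eq_mul.2 h.symm
  have haN := (mem_autGroup_iff hP'T.le).1 ha
  refine (mem_autGroup_iff hP'T.le).2 ⟨haN, hC P' _ ?_⟩
  have hVU : V ≤ U := Subgroup.closure_mono fun _ ⟨x, hx, hy⟩ =>
    ⟨x, centerOf_le_of_isCentric hYc hx, hy⟩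
  have hVP : V ≤ P' := hVU.trans (hUY.trans hYP)
  have hSC : ∀ x ∈ S, x ∈ centralizerIn S V := fun x hx => mem_centralizerIn.2
    ⟨hx, fun v hv => (centerOf_comm (powerClosure_le _ hv) hx).symm⟩
  refine ⟨haN.1, fun x hx => hSC x (hTS (hP'T.le hx)), fun x => hSC _ (hom_apply_mem haN.1 x),
    (P'.subtype.comp a.toMonoidHom).comp (Subgroup.inclusion (sup_le le_rfl hVP)),
    restrict_mem haN.1 _, fun x => rfl, fun v => ?_⟩
  exact congrArg Subtype.val (hfix ⟨v, hVP v.2⟩ (hVU v.2))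

end CfsgLib.Fusion
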