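import Cfsg.Agent.Lib.Fusion.Alperin
import Cfsg.Agent.Lib.Fusion.Centric
import Cfsg.Agent.Lib.PLocal.ZJ
import Cfsg.Agent.Lib.Techniques2.ThompsonA

/-!
The abelian Thompson subgroup inside a fusion system: replacement and functoriality.
-/

set_option autoImplicit false

namespace CfsgLib.Fusion

open Cfsg Cfsg.FusionSystem
open scoped commutatorElement

variable {Ω : Type*} [Group Ω] {S : Subgroup Ω} {F : FusionSystem S} {p : ℕ}

theorem thompsonA_subgroupOf {U P : Subgroup Ω} (h : U ≤ P) :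
    (thompsonSubgroupAOf (U.subgroupOf P)).map P.subtype = thompsonSubgroupAOf U := by
  rw [Techniques.thompsonAOf_map P.subtype _ (by rw [P.ker_subtype]; exact disjoint_bot_right),
    Subgroup.subgroupOf_map_subtype, inf_of_le_left h]

theorem thompsonAOf_le (U : Subgroup Ω) : thompsonSubgroupAOf U ≤ U := Subgroup.map_subtype_le _

theorem thompsonA_img {P U : Subgroup Ω} {φ : P →* Ω} (hφ : Function.Injective φ) (hU : U ≤ P) :
    thompsonSubgroupAOf (img φ U) = img φ (thompsonSubgroupAOf U) := by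
  have h1 : img φ (thompsonSubgroupAOf U) = (thompsonSubgroupAOf (U.subgroupOf P)).map φ := by
    rw [img]
    congr 1
    rw [← thompsonA_subgroupOf hU, Subgroup.subgroupOf,
      Subgroup.comap_map_eq_self_of_injective P.subtype_injective]
  rw [h1, Techniques.thompsonAOf_map φ _ (by
    rw [(MonoidHom.ker_eq_bot_iff φ).2 hφ]; exact disjoint_bot_right)]
  rfl

theorem thompsonA_eq_of_le [Finite S] {U P : Subgroup Ω} (hUP : U ≤ P) (hPS : P ≤ S)
    (hJ : thompsonSubgroupAOf P ≤ U) : thompsonSubgroupAOf U = thompsonSubgroupAOf P := by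
  rw [← thompsonA_subgroupOf (hUP.trans hPS), ← thompsonA_subgroupOf hPS]
  congr 1
  refine Techniques.thompsonAOf_eq_of_le (fun x hx => hUP hx) fun A hA => ?_
  obtain ⟨B, hB, rfl⟩ := (PLocal.maxAbelian_image (P.subgroupOf S)).ge hA
  refine (Subgroup.map_mono (le_sSup hB)).trans fun x hx => hJ ?_
  rw [← thompsonA_subgroupOf hPS]
  exact ⟨x, hx, rfl⟩

/-- An element of `P` centralising `J(P)` lies in it. -/
theorem mem_thompsonA_of_centralizes [Finite S] {P : Subgroup Ω} (hPS : P ≤ S) {c : Ω}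
    (hc : c ∈ P) (h : ∀ y ∈ thompsonSubgroupAOf P, y * c = c * y) :
    c ∈ thompsonSubgroupAOf P := by
  have := finite_le hPS
  obtain ⟨A, hA⟩ := PLocal.exists_maxIn (PLocal.goodPred_abelian (G := P) 1) (⊤ : Subgroup P)
  have hAmem : A ∈ maxAbelianSubgroups P := ⟨hA.2.1, fun B hB => hA.2.2 B le_top hB⟩
  set z : P := ⟨c, hc⟩ with hz
  have hcomm : Subgroup.zpowers z ≤ Subgroup.centralizer (A : Set P) :=
    Subgroup.zpowers_le.2 (Subgroup.mem_centralizer_iff.2 fun y hy => Subtype.ext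
      (h (y : Ω) ⟨y, le_sSup hAmem hy, rfl⟩))
  have hab := Techniques.abelian_sup (A := Subgroup.zpowers z) (B := A) inferInstance hA.2.1 hcomm
  have heq := Subgroup.eq_of_le_of_card_ge (le_sup_right : A ≤ Subgroup.zpowers z ⊔ A)
    (hA.2.2 _ le_top hab)
  exact ⟨z, le_sSup hAmem (heq.ge (Subgroup.mem_sup_left (Subgroup.mem_zpowers z))), rfl⟩

theorem center_le_thompsonA [Finite S] {P : Subgroup Ω} (hPS : P ≤ S) :
    P ⊓ Subgroup.centralizer (P : Set Ω) ≤ thompsonSubgroupAOf P := fun _ hz =>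
  mem_thompsonA_of_centralizes hPS hz.1 fun y hy =>
    Subgroup.mem_centralizer_iff.1 hz.2 y (thompsonAOf_le P hy)

/-- Thompson replacement: a quadratically acting element of `p`th power acting trivially. -/
theorem exists_quadratic [Fact p.Prime] [Finite S] (hS : IsPGroup p S) {T W : Subgroup Ω}
    (hTS : T ≤ S) (hWT : W ≤ T) (hTW : T ≤ Subgroup.normalizer (W : Set Ω))
    (hW : ∀ x ∈ W, ∀ y ∈ W, x * y = y * x)
    (hJ : ¬ thompsonSubgroupAOf T ≤ Subgroup.centralizer (W : Set Ω)) :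
    ∃ g ∈ T, g ∉ Subgroup.centralizer (W : Set Ω) ∧ g ^ p ∈ Subgroup.centralizer (W : Set Ω) ∧
      ∀ w ∈ W, g * (g * w * g⁻¹ * w⁻¹) * g⁻¹ = g * w * g⁻¹ * w⁻¹ := by
  have := finite_le hTS
  set W₀ := W.subgroupOf T with hW₀
  have hW₀c : IsMulCommutative W₀ := Subgroup.le_centralizer_iff_isMulCommutative.1 fun x hx =>
    Subgroup.mem_centralizer_iff.2 fun y hy => Subtype.ext (hW _ hy _ hx)
  have hW₀n : (⊤ : Subgroup T) ≤ Subgroup.normalizer (W₀ : Set T) := by
    intro t _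
    refine Subgroup.mem_normalizer_iff.2 fun x => ?_
    exact Subgroup.mem_normalizer_iff.1 (hTW t.2) (x : Ω)
  obtain ⟨A₁, hA₁, hA₁C⟩ : ∃ A : Subgroup T, A ∈ maxAbelianSubgroups T ∧
      ¬ A ≤ Subgroup.centralizer (W₀ : Set T) := by
    by_contra h
    push Not at h
    refine hJ ?_
    rintro _ ⟨x, hx, rfl⟩
    have hx' := (sSup_le fun A hA => h A hA : thompsonSubgroupA T ≤ _) hx
    exact Subgroup.mem_centralizer_iff.2 fun y hy =>
      congrArg Subtype.val (Subgroup.mem_centralizer_iff.1 hx' ⟨y, hWT hy⟩ hy)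
  obtain ⟨A, ⟨hA, hAC⟩, hmax⟩ := Set.exists_max_image
    {A : Subgroup T | A ∈ maxAbelianSubgroups T ∧ ¬ A ≤ Subgroup.centralizer (W₀ : Set T)}
    (fun A => Nat.card ↥(A ⊓ W₀)) (Set.toFinite _) ⟨A₁, hA₁, hA₁C⟩
  have hWA : W₀ ≤ Subgroup.normalizer (A : Set T) := by
    by_contra hnot
    have hWW : ⁅W₀, W₀⁆ = ⊥ := (Subgroup.commutator_self_eq_bot_iff (H := W₀)).2 hW₀c
    obtain ⟨A', hcard, hcomm, -, hlt, hltW, -, -⟩ := PLocal.replace_exists (p := p)
      ((hS.to_le hTS).to_subgroup ⊤) le_top hW₀n (fun _ => hW₀c) le_top hA.1 (hWW ▸ bot_le) hnot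
    have hA' : A' ∈ maxAbelianSubgroups T := ⟨hcomm, fun B hB => (hA.2 B hB).trans hcard.ge⟩
    by_cases hA'C : A' ≤ Subgroup.centralizer (W₀ : Set T)
    · have hab := Techniques.abelian_sup hcomm hW₀c hA'C
      have heq := Subgroup.eq_of_le_of_card_ge (le_sup_left : A' ≤ A' ⊔ W₀) (hA'.2 _ hab)
      exact hltW.ne (inf_eq_right.2 (le_sup_right.trans heq.ge))
    · exact absurd (hmax A' ⟨hA', hA'C⟩) (not_le.2 (Set.Finite.card_lt_card (Set.toFinite _)
        (SetLike.coe_ssubset_coe.2 hlt)))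
  obtain ⟨a, ha, haC⟩ := SetLike.not_le_iff_exists.1 hAC
  have hex : ∃ k, a ^ p ^ k ∈ Subgroup.centralizer (W₀ : Set T) := by
    obtain ⟨k, hk⟩ := (hS.to_le hTS) a
    exact ⟨k, hk.symm ▸ one_mem _⟩
  classical
  have hk0 : Nat.find hex ≠ 0 := fun h => haC (by simpa [h] using Nat.find_spec hex)
  obtain ⟨k, hk⟩ := Nat.exists_eq_succ_of_ne_zero hk0
  set g := a ^ p ^ k with hg
  have hgA : g ∈ A := pow_mem ha _
  have hgC : g ∉ Subgroup.centralizer (W₀ : Set T) := Nat.find_min hex (by omega)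
  have hgp : g ^ p ∈ Subgroup.centralizer (W₀ : Set T) := by
    rw [hg, ← pow_mul, ← pow_succ, ← Nat.succ_eq_add_one, ← hk]
    exact Nat.find_spec hex
  have hcent : ∀ t : T, t ∈ Subgroup.centralizer (W₀ : Set T) ↔
      (t : Ω) ∈ Subgroup.centralizer (W : Set Ω) := fun t =>
    ⟨fun h => Subgroup.mem_centralizer_iff.2 fun y hy =>
      congrArg Subtype.val (Subgroup.mem_centralizer_iff.1 h ⟨y, hWT hy⟩ hy),
    fun h => Subgroup.mem_centralizer_iff.2 fun y hy =>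
      Subtype.ext (Subgroup.mem_centralizer_iff.1 h y hy)⟩
  refine ⟨g, g.2, fun h => hgC ((hcent g).2 h), ?_, fun w hw => ?_⟩
  · exact_mod_cast (hcent (g ^ p)).1 hgp
  set w₀ : T := ⟨w, hWT hw⟩
  have hd : g * w₀ * g⁻¹ * w₀⁻¹ ∈ A := by
    rw [mul_assoc, mul_assoc]
    refine mul_mem hgA ?_
    have := (Subgroup.mem_normalizer_iff.1 (hWA (show w₀ ∈ W₀ from hw)) g⁻¹).1 (inv_mem hgA)
    rwa [mul_assoc] at this
  have h1 : g * (g * w₀ * g⁻¹ * w₀⁻¹) * g⁻¹ = g * w₀ * g⁻¹ * w₀⁻¹ := by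
    rw [PLocal.comm_of_mem hA.1 hgA hd, mul_inv_cancel_right]
  exact congrArg Subtype.val h1

end CfsgLib.Fusion
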