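import Cfsg.Agent.Lib.Fusion.Alperin

/-!
The fusion theorem, where only automorphisms not extending have to be controlled.
-/

set_option autoImplicit false

namespace CfsgLib.Fusion

open Cfsg Cfsg.FusionSystem

variable {Ω : Type*} [Group Ω] {S : Subgroup Ω} {F : FusionSystem S} {p : ℕ}

/-- The fusion theorem with the maps on larger subgroups as given. -/
theorem alperin_gen [Fact p.Prime] [Finite S] (hS : IsPGroup p S) (hF : F.IsSaturated p)
    (E : FusionSystem S) (hES : F.autGroup S ≤ E.autGroup S)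
    (hE : ∀ P : Subgroup Ω, P < S → F.IsEssential p P →
      (∀ Q : Subgroup Ω, Nat.card P < Nat.card Q → F.Hom Q ⊆ E.Hom Q) →
      F.autGroup P ≤ E.autGroup P ⊔ extGroup F P) :
    F ≤ E := by
  suffices h : ∀ (n : ℕ) (P : Subgroup Ω), Nat.card S - Nat.card P ≤ n → F.Hom P ⊆ E.Hom P from
    fun P => h _ P le_rfl
  intro n
  induction n with
  | zero =>
      intro P hle φ hφ
      have hPS : P = S := Subgroup.eq_of_le_of_card_ge (hom_le hφ) (by omega)
      subst hPS
      have hr : φ.range = P := Subgroup.eq_of_le_of_card_ge (hom_range_le hφ)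
        (le_of_eq (Nat.card_congr (MonoidHom.ofInjective (F.injective_of_mem hφ)).toEquiv))
      obtain ⟨e, he, hev⟩ := exists_iso hφ hr
      have h1 := hES ((mem_autGroup_iff_isoIn le_rfl).2 (show IsoIn F (e : MulAut P) from he))
      exact hom_congr ((mem_autGroup_iff_isoIn le_rfl).1 h1) fun x => (hev x).symm
  | succ n ih =>
      intro P hle φ hφ
      rcases eq_or_lt_of_le (hom_le hφ) with hPS | hPS
      · exact ih P (by rw [hPS]; omega) hφ
      have hup : ∀ Q : Subgroup Ω, Nat.card P < Nat.card Q → F.Hom Q ⊆ E.Hom Q :=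
        fun Q hQ => ih Q (by omega)
      have hgrow : ∀ {A : Subgroup Ω}, A ≤ S → Nat.card A = Nat.card P →
          ∀ Q : Subgroup Ω, A < Q → Q ≤ S → Nat.card P < Nat.card Q := by
        intro A _ hAP Q hAQ hQS
        have := finite_le hQS
        rw [← hAP]
        refine lt_of_le_of_ne (Subgroup.card_le_of_le hAQ.le) fun h => hAQ.ne ?_
        exact Subgroup.eq_of_le_of_card_ge hAQ.le h.ge
      obtain ⟨d, hd, hdv⟩ := exists_iso hφ rfl
      obtain ⟨T, hT, hTn⟩ := exists_fullyNormalized (F := F) (hom_le hφ)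
      have hTS : T < S := by
        refine lt_of_le_of_ne hTn.1 fun h => hPS.ne ?_
        subst h
        exact Subgroup.eq_of_le_of_card_ge (hom_le hφ) (isConj_card hT).ge
      have h₁ := IsSaturated.fullyAutomized hS hF hTn
      have h₂ := IsSaturated.receptive hS hF (IsSaturated.fullyCentralized hS hF hTn)
      have key : ∀ A : Subgroup Ω, F.IsConj A T → ∃ a : A ≃* T, IsoIn F a ∧ IsoIn E a := by
        intro A hA
        have hAS := isConj_le_left hA
        obtain ⟨f, hf, -, himg⟩ := exists_normalizer_map hS h₁ h₂ hA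
        have hcard : Nat.card A = Nat.card P := (isConj_card hA).trans (isConj_card hT).symm
        have hA' : A < S := lt_of_le_of_ne hAS fun h => by
          rw [h] at hcard
          exact hPS.ne (Subgroup.eq_of_le_of_card_ge (hom_le hφ) hcard.le)
        have hfE := hup _ (hgrow hAS hcard _ (lt_normalizerIn hS hA') (normalizerIn_le A)) hf
        obtain ⟨a, ha, hav⟩ := exists_iso (P := A) (Q := T)
          (restrict_mem hf (le_normalizerIn hAS)) (by rw [range_restrict, himg])
        exact ⟨a, ha, hom_congr (restrict_mem hfE (le_normalizerIn hAS)) fun x => hav x⟩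
      obtain ⟨a, ha, haE⟩ := key P hT
      obtain ⟨b, hb, hbE⟩ := key φ.range (isConj_trans (isConj_symm hd.isConj) hT)
      set α : MulAut T := a.symm.trans (d.trans b) with hα
      have hαF : α ∈ F.autGroup T :=
        (mem_autGroup_iff_isoIn hTn.1).2 (ha.symm.trans (hd.trans hb))
      have hαE : α ∈ E.autGroup T := by
        have hext : extGroup F T ≤ E.autGroup T := by
          refine (Subgroup.closure_le _).2 ?_
          rintro β ⟨Q, hTQ, ψ, hψ, hψβ⟩
          exact (mem_autGroup_iff hTn.1).2 (restrict_mem'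
            (hup Q (hgrow hTn.1 (isConj_card hT).symm Q hTQ (hom_le hψ)) hψ) hTQ.le
            fun x => (hψβ x).symm)
        rcases extGroup_dichotomy hS hF hTS hTn with ⟨-, heq⟩ | ⟨hess, -⟩
        · rw [← heq] at hαF
          exact hext hαF
        · exact sup_le le_rfl hext (hE T hTS hess
            (fun Q hQ => hup Q (by rw [isConj_card hT]; exact hQ)) hαF)
      have := haE.trans (((mem_autGroup_iff_isoIn hTn.1).1 hαE).trans hbE.symm)
      refine hom_congr this.mem fun x => ?_
      rw [← hdv, isoHom_apply, hα]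
      simp

/-- A subgroup invariant under `Aut_F(R)` whose fixer reaches outside `R` splits off the
extendable automorphisms. -/
theorem autGroup_le_fix_sup_ext [Fact p.Prime] [Finite S] (hS : IsPGroup p S)
    (hF : F.IsSaturated p) {R : Subgroup Ω} (hR : F.IsFullyNormalized R) (U : Subgroup R)
    (hU : ∀ a ∈ F.autGroup R, ∀ x ∈ U, (a : MulAut R) x ∈ U)
    (g : normalizerIn S R) (hg : (g : Ω) ∉ R) (hgU : ∀ x ∈ U, conjAut g x = x)
    (A : Subgroup (MulAut R))
    (hA : ∀ a ∈ F.autGroup R, (∀ x ∈ U, (a : MulAut R) x = x) → a ∈ A) :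
    F.autGroup R ≤ A ⊔ extGroup F R := by
  have := finite_mulAut_of_le (S := S) hR.1
  have hrec := IsSaturated.receptive hS hF (IsSaturated.fullyCentralized hS hF hR)
  obtain ⟨T, hT⟩ := (IsSaturated.fullyAutomized hS hF hR).2
  let K : Subgroup (F.autGroup R) :=
    { carrier := {a | ∀ x ∈ U, (a : MulAut R) x = x}
      one_mem' := fun x _ => rfl
      mul_mem' := fun {a b} ha hb x hx => by
        show (a : MulAut R) ((b : MulAut R) x) = x
        rw [hb x hx, ha x hx]
      inv_mem' := fun {a} ha x hx => by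
        show (a : MulAut R)⁻¹ x = x
        conv_lhs => rw [← ha x hx]
        exact MulAut.inv_apply_self R _ x }
  have : K.Normal := ⟨fun b hb a x hx => by
    have h : (a : MulAut R)⁻¹ x ∈ U := hU _ (inv_mem a.2) x hx
    show (a : MulAut R) ((b : MulAut R) ((a : MulAut R)⁻¹ x)) = x
    rw [hb _ h, MulAut.apply_inv_self]⟩
  set c : F.autGroup R := ⟨conjAut g, autInducedBy_le_autGroup hR.1 (conjAut_mem g)⟩ with hc
  have hcK : c ∈ K := hgU
  have hcT : c ∈ (T : Subgroup (F.autGroup R)) := hT.ge (conjAut_mem g)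
  obtain ⟨P, hPT⟩ : ∃ P : Sylow p K, ((P : Subgroup K).map K.subtype) =
      (T : Subgroup (F.autGroup R)) ⊓ K := by
    obtain ⟨P, hP⟩ := ((T.2.comap_of_injective K.subtype K.subtype_injective)).exists_le_sylow
    refine ⟨P, le_antisymm ?_ fun x hx => ⟨⟨x, hx.2⟩, hP hx.1, rfl⟩⟩
    obtain ⟨k, hk⟩ := (P.2.map K.subtype).exists_le_sylow
    obtain ⟨u, hu⟩ := MulAction.exists_smul_eq (F.autGroup R) k T
    -- compare orders
    have hcard : Nat.card ((P : Subgroup K).map K.subtype) ≤
        Nat.card ((T : Subgroup (F.autGroup R)) ⊓ K : Subgroup (F.autGroup R)) := by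
      have hle : ((P : Subgroup K).map K.subtype).map (MulAut.conj u).toMonoidHom ≤
          (T : Subgroup (F.autGroup R)) ⊓ K := by
        rintro _ ⟨y, hy, rfl⟩
        refine ⟨hu.le ⟨y, hk hy, rfl⟩, ?_⟩
        obtain ⟨z, -, rfl⟩ := hy
        exact (inferInstance : K.Normal).conj_mem _ z.2 u
      calc Nat.card ((P : Subgroup K).map K.subtype)
          = Nat.card (((P : Subgroup K).map K.subtype).map (MulAut.conj u).toMonoidHom) :=
            (Subgroup.card_map_of_injective (MulEquiv.injective _)).symm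
        _ ≤ _ := Subgroup.card_le_of_le hle
    have hge : (T : Subgroup (F.autGroup R)) ⊓ K ≤ (P : Subgroup K).map K.subtype :=
      fun x hx => ⟨⟨x, hx.2⟩, hP hx.1, rfl⟩
    exact (Subgroup.eq_of_le_of_card_ge hge hcard).ge
  intro a ha
  have hfr := (Sylow.normalizer_sup_eq_top P).ge (Subgroup.mem_top (⟨a, ha⟩ : F.autGroup R))
  rw [hPT] at hfr
  suffices hle : Subgroup.normalizer (((T : Subgroup (F.autGroup R)) ⊓ K : Subgroup _) : Set (F.autGroup R))
      ⊔ K ≤ (A ⊔ extGroup F R).subgroupOf (F.autGroup R) from hle hfr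
  refine sup_le (fun b hb => ?_) (fun b hb => Subgroup.mem_sup_left (hA b b.2 hb))
  refine Subgroup.mem_sup_right (mem_extGroup_of_conj hrec b.2 g hg ?_)
  exact hT.le (((Subgroup.mem_normalizer_iff.1 hb c).1 ⟨hcT, hcK⟩).1)

end CfsgLib.Fusion
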