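import Cfsg.Agent.Lib.Fusion.FourFree
import Cfsg.Agent.Lib.Fusion.Factor

/-!
Free systems have free models and free factor systems.
-/

set_option autoImplicit false

namespace CfsgLib.Fusion

open Cfsg Cfsg.FusionSystem
open scoped commutatorElement

universe u

variable {Ω : Type u} [Group Ω] {S : Subgroup Ω} {F : FusionSystem S} {p : ℕ}

set_option maxHeartbeats 800000 in
/-- Models of a free system have no section `S₄`. -/
theorem FourFree.not_involves_model [Fact p.Prime] [Finite S] (hfree : FourFree F) {L : Type*}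
    [Group L] {ι : S →* L} (hG : F.IsModel p L ι) : ¬ Involves (Equiv.Perm (Fin 4)) L := by
  rintro ⟨K, R, hn, ⟨e⟩⟩
  set π : K →* Equiv.Perm (Fin 4) := e.toMonoidHom.comp (QuotientGroup.mk' (R.subgroupOf K))
    with hπdef
  have hπ : Function.Surjective π := e.surjective.comp (QuotientGroup.mk'_surjective _)
  have hcore := model_pCore_le hG
  have hUn := model_isNormal_coreBack hG
  set U := coreBack p ι with hU
  have hUS : U ≤ S := hUn.1
  have := finite_le hUS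
  have hinj : Function.Injective ι := hG.2.1.1
  set jU : U →* L := ι.comp (Subgroup.inclusion hUS) with hjU
  have hjinj : Function.Injective jU := hinj.comp (Subgroup.inclusion_injective hUS)
  have hlift : ∀ k : L, ∃ a ∈ F.autGroup U, (k, a) ∈ conjPairs jU := by
    intro k
    obtain ⟨b, hb, -, hbv⟩ := model_exists_aut hG hUS (model_coreBack_conj hG k)
    exact ⟨b, hb, fun z => (eq_mul_inv_iff_mul_eq.1 (hbv z)).symm⟩
  choose act hact hactv using hlift
  have hcent := hG.2.2.2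
  set Z := Subgroup.centralizer ((pCore p L : Subgroup L) : Set L) with hZ
  have hZn : Z.Normal := inferInstance
  have hZc : ∀ v ∈ Z, ∀ w ∈ Z, v * w = w * v := fun v hv w hw =>
    Subgroup.mem_centralizer_iff.1 hw v (hcent hv)
  have hfix : ∀ k : L, act k = 1 → k ∈ Z := fun k hk => by
    refine Subgroup.mem_centralizer_iff.2 fun v hv => ?_
    obtain ⟨s, rfl⟩ := hcore hv
    have h := hactv k ⟨s, mem_coreBack.2 hv⟩
    rw [hk] at h
    exact h.symm
  by_cases hW : ∀ k : K, (k : L) ∈ Z → π k = 1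
  · refine (hfree U hUS).1 ?_
    let G₂ : Subgroup (K × MulAut U) :=
      (conjPairs jU).comap (K.subtype.prodMap (MonoidHom.id _)) ⊓
        (⊤ : Subgroup K).prod (F.autGroup U)
    let ψ : G₂ →* ↥(F.autGroup U) × Equiv.Perm (Fin 4) :=
      (((MonoidHom.snd K (MulAut U)).comp G₂.subtype).codRestrict _ fun t => t.2.2.2).prod
        (π.comp ((MonoidHom.fst K (MulAut U)).comp G₂.subtype))
    refine LocalEven.involves_of_section ((MonoidHom.fst _ _).comp ψ.range.subtype) ?_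
      ((MonoidHom.snd _ _).comp ψ.range.subtype) ?_
      ⟨⊤, ⊥, inferInstance, ⟨(QuotientGroup.quotientMulEquivOfEq
        (Subgroup.bot_subgroupOf _)).trans (QuotientGroup.quotientBot.trans Subgroup.topEquiv)⟩⟩
    · refine (injective_iff_map_eq_one _).2 ?_
      rintro ⟨_, t, rfl⟩ ht
      have ht1 : ((ψ t).1 : MulAut U) = 1 := congrArg Subtype.val ht
      have ha : (t : K × MulAut U).2 = 1 := ht1
      have hk : ((t : K × MulAut U).1 : L) ∈ Z := by
        refine Subgroup.mem_centralizer_iff.2 fun v hv => ?_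
        obtain ⟨s, rfl⟩ := hcore hv
        have h : ((t : K × MulAut U).1 : L) * jU ⟨s, mem_coreBack.2 hv⟩ =
            jU ((t : K × MulAut U).2 ⟨s, mem_coreBack.2 hv⟩) * ((t : K × MulAut U).1 : L) :=
          t.2.1 _
        rw [ha] at h
        exact h.symm
      exact Subtype.ext (Prod.ext ht (hW _ hk))
    · intro σ
      obtain ⟨k, rfl⟩ := hπ σ
      exact ⟨⟨ψ ⟨(k, act k), hactv k, trivial, hact k⟩, ⟨_, rfl⟩⟩, rfl⟩
  simp only [not_forall] at hW
  obtain ⟨k₀, hk₀Z, hk₀⟩ := hW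
  obtain ⟨kx, hkx⟩ := hπ (Equiv.swap 0 1)
  obtain ⟨ky, hky⟩ := hπ (Equiv.swap 0 1 * Equiv.swap 1 2)
  -- the section of the core
  let AL : Subgroup L := K ⊓ Z
  let BL : Subgroup L := π.ker.map K.subtype ⊓ Z
  set A := AL.comap jU with hA
  set B := BL.comap jU with hB
  have hBA : B ≤ A := fun z hz => ⟨Subgroup.map_subtype_le _ hz.1, hz.2⟩
  have hmemB : ∀ z : U, z ∈ A → ∀ k : K, (k : L) = jU z → π k = 1 → z ∈ B :=
    fun z hz k hk h1 => ⟨⟨k, h1, hk⟩, hz.2⟩
  have hpiB : ∀ z : U, z ∈ B → ∀ k : K, (k : L) = jU z → π k = 1 := by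
    rintro z ⟨⟨w, hw, hwz⟩, -⟩ k hk
    rw [show k = w from Subtype.ext (hk.trans hwz.symm)]
    exact hw
  have hinv : ∀ (k : K) (z : U), jU (act (k : L) z) = (k : L) * jU z * (k : L)⁻¹ := fun k z =>
    eq_mul_inv_iff_mul_eq.2 (hactv k z).symm
  have hmapA : ∀ k : K, A.map (act (k : L)).toMonoidHom = A := fun k => map_aut_eq_of_mem _
    fun z hz => show jU (act (k : L) z) ∈ AL by
      rw [hinv]
      exact ⟨K.mul_mem (K.mul_mem k.2 hz.1) (K.inv_mem k.2), hZn.conj_mem _ hz.2 _⟩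
  have hmapB : ∀ k : K, B.map (act (k : L)).toMonoidHom = B := fun k => map_aut_eq_of_mem _
    fun z hz => show jU (act (k : L) z) ∈ BL by
      rw [hinv]
      refine ⟨?_, hZn.conj_mem _ hz.2 _⟩
      obtain ⟨w, hw, hwz⟩ := hz.1
      exact ⟨k * w * k⁻¹, (inferInstance : π.ker.Normal).conj_mem _ hw k, by simp [← hwz]⟩
  -- elements of `π (K ∩ Z)` commute with their conjugates
  have hcomm : ∀ w v : K, (w : L) ∈ Z → (v : L) ∈ Z → π w * π v = π v * π w := fun w v hw hv => by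
    rw [← map_mul, ← map_mul]
    exact congrArg π (Subtype.ext (hZc _ hw _ hv))
  have hsqS : ∀ σ : Equiv.Perm (Fin 4),
      (∀ g : Equiv.Perm (Fin 4), σ * (g * σ * g⁻¹) = g * σ * g⁻¹ * σ) → σ * σ = 1 := by
    decide +kernel
  have hconjc : ∀ w : K, (w : L) ∈ Z → ∀ g : Equiv.Perm (Fin 4),
      π w * (g * π w * g⁻¹) = g * π w * g⁻¹ * π w := fun w hw g => by
    obtain ⟨k, rfl⟩ := hπ g
    rw [← map_inv, ← map_mul π k, ← map_mul π (k * w)]
    exact hcomm w _ hw (hZn.conj_mem _ hw k)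
  have hword : ∀ (m : MulAut U) (w : K), ((w : L), m) ∈ conjPairs jU →
      π w = 1 → ∀ a ∈ A, m a * a⁻¹ ∈ B := by
    intro m w hm hw a ha
    have hma : jU (m a) = (w : L) * jU a * (w : L)⁻¹ := eq_mul_inv_iff_mul_eq.2 (hm a).symm
    have hmaA : m a ∈ A := show jU (m a) ∈ AL by
      rw [hma]
      exact ⟨K.mul_mem (K.mul_mem w.2 ha.1) (K.inv_mem w.2), hZn.conj_mem _ ha.2 _⟩
    refine hmemB _ (A.mul_mem hmaA (A.inv_mem ha)) (w * ⟨jU a, ha.1⟩ * w⁻¹ * ⟨jU a, ha.1⟩⁻¹)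
      (by simp only [map_mul, map_inv, hma]; rfl) ?_
    simp [map_mul, map_inv, hw]
  have key := (hfree U hUS).2 A B hBA ?_ ?_ (act (kx : L)) (hact _) (act (ky : L)) (hact _)
    (hmapA kx) (hmapA ky) (hmapB kx) (hmapB ky) ?_ ?_
  · obtain ⟨s, hs⟩ := hcore (hcent hk₀Z)
    have hsU : (s : Ω) ∈ U := mem_coreBack.2 (hs.symm ▸ hcent hk₀Z)
    have hjs : jU ⟨s, hsU⟩ = k₀ := hs
    have ha : (⟨s, hsU⟩ : U) ∈ A := show jU _ ∈ AL from hjs.symm ▸ ⟨k₀.2, hk₀Z⟩
    have hya := key _ ha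
    have h1 : π (ky * k₀ * ky⁻¹ * k₀⁻¹) = 1 := hpiB _ hya _ (by
      simp only [map_mul, map_inv, hinv ky, hjs]; rfl)
    rw [map_mul, map_mul, map_mul, map_inv, map_inv, hky, mul_inv_eq_one, mul_inv_eq_iff_eq_mul]
      at h1
    have hkey : ∀ σ : Equiv.Perm (Fin 4),
        (∀ g : Equiv.Perm (Fin 4), σ * (g * σ * g⁻¹) = g * σ * g⁻¹ * σ) →
        Equiv.swap 0 1 * Equiv.swap 1 2 * σ = σ * (Equiv.swap 0 1 * Equiv.swap 1 2) → σ = 1 := by
      decide +kernel
    exact hk₀ (hkey _ (hconjc k₀ hk₀Z) h1)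
  · intro a ha
    refine hmemB _ (A.mul_mem ha ha) (⟨jU a, ha.1⟩ * ⟨jU a, ha.1⟩) (by rw [map_mul]; rfl) ?_
    rw [map_mul]
    exact hsqS _ (hconjc _ ha.2)
  · intro a ha b hb
    refine hmemB _ (A.mul_mem (A.mul_mem (A.mul_mem ha hb) (A.inv_mem ha)) (A.inv_mem hb))
      ⁅(⟨jU a, ha.1⟩ : K), ⟨jU b, hb.1⟩⁆ (by simp [commutatorElement_def]) ?_
    rw [map_commutatorElement, commutatorElement_eq_one_iff_mul_comm]
    exact hcomm _ _ ha.2 hb.2
  · refine hword _ (kx * ky * kx⁻¹ * ky)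
      (mul_mem (mul_mem (mul_mem (hactv kx) (hactv ky)) (inv_mem (hactv kx))) (hactv ky)) ?_
    rw [map_mul, map_mul, map_mul, map_inv, hkx, hky]
    decide +kernel
  · refine hword _ (ky ^ 3) (by simpa [Prod.pow_mk] using pow_mem (hactv (ky : L)) 3) ?_
    rw [map_pow, hky]
    decide +kernel

/-- Factor systems of free systems are free. -/
theorem FourFree.factor [Fact p.Prime] [Finite S] (hfree : FourFree F) {Ω' : Type*} [Group Ω']
    {θ : S →* Ω'} {T : Subgroup Ω} {S' : Subgroup Ω'} {E : FusionSystem S'}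
    (hE : F.IsFactorSystem T θ E) : FourFree E := by
  obtain ⟨hTS, hθ, hS', hiff⟩ := hE
  intro P' hP'
  set R := preimageAlong θ P' with hR
  have hRS : R ≤ S := preimageAlong_le θ P'
  have := finite_le hRS
  set f : R →* P' := (θ.comp (Subgroup.inclusion hRS)).codRestrict P'
    fun x => (mem_preimageAlong (θ := θ) (x := ⟨x, hRS x.2⟩)).1 x.2 with hf
  have hfs : Function.Surjective f := fun y => by
    obtain ⟨x, hx⟩ := exists_preimage (θ := θ) (hP'.trans hS'.ge) y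
    exact ⟨x, Subtype.ext hx⟩
  have hlift : ∀ b' ∈ E.autGroup P', ∃ b ∈ F.autGroup R, ∀ z : R, f (b z) = b' (f z) := by
    intro b' hb'
    obtain ⟨-, φ, hφ, hP, hφS, hm, hv⟩ := (hiff P' _).1 ((mem_autGroup_iff hP').1 hb')
    have hr : φ.range = R := Subgroup.eq_of_le_of_card_ge
      (by
        rintro _ ⟨x, rfl⟩
        exact (mem_preimageAlong (x := ⟨φ x, hφS x⟩)).2
          ((hv x).subst (motive := (· ∈ P')) (b' _).2))
      (le_of_eq (Nat.card_congr (MonoidHom.ofInjective (F.injective_of_mem hφ)).toEquiv))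
    obtain ⟨e, he, hev⟩ := exists_iso hφ hr
    refine ⟨e, (mem_autGroup_iff_isoIn hRS).2 he, fun z => Subtype.ext ?_⟩
    refine Eq.trans ?_ (hv z).symm
    exact congrArg θ (Subtype.ext (hev z))
  let G : Subgroup (MulAut R × MulAut P') :=
    { carrier := {t | t.1 ∈ F.autGroup R ∧ t.2 ∈ E.autGroup P' ∧ ∀ z, f (t.1 z) = t.2 (f z)}
      one_mem' := ⟨one_mem _, one_mem _, fun z => rfl⟩
      mul_mem' := fun {a b} ha hb => ⟨mul_mem ha.1 hb.1, mul_mem ha.2.1 hb.2.1, fun z => by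
        show f (a.1 (b.1 z)) = a.2 (b.2 (f z))
        rw [ha.2.2, hb.2.2]⟩
      inv_mem' := fun {a} ha => ⟨inv_mem ha.1, inv_mem ha.2.1, fun z => a.2.injective (by
        show a.2 (f (a.1⁻¹ z)) = a.2 (a.2⁻¹ (f z))
        rw [← ha.2.2, MulAut.apply_inv_self, MulAut.apply_inv_self])⟩ }
  have hdet : ∀ s t : G, (s : MulAut R × MulAut P').1 = (t : MulAut R × MulAut P').1 → s = t := by
    intro s t hst
    refine Subtype.ext (Prod.ext hst (MulEquiv.ext fun y => ?_))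
    obtain ⟨z, rfl⟩ := hfs y
    rw [← s.2.2.2, hst, t.2.2.2]
  obtain ⟨hfree1, hfree2⟩ := hfree R hRS
  refine ⟨fun hi => hfree1 (LocalEven.involves_of_section
    (((MonoidHom.fst _ _).comp G.subtype).codRestrict (F.autGroup R) fun t => t.2.1)
    (fun s t h => hdet s t (congrArg Subtype.val h))
    (((MonoidHom.snd _ _).comp G.subtype).codRestrict (E.autGroup P') fun t => t.2.2.1) ?_ hi), ?_⟩
  · intro b'
    obtain ⟨b, hb, hbv⟩ := hlift b' b'.2
    exact ⟨⟨(b, b'), hb, b'.2, hbv⟩, rfl⟩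
  intro A B hBA h1 h2 x hx y hy hxA hyA hxB hyB hinv hcube a ha
  obtain ⟨x₀, hx₀, hxv⟩ := hlift x hx
  obtain ⟨y₀, hy₀, hyv⟩ := hlift y hy
  have hmap : ∀ (C : Subgroup P') (w : MulAut P') (w₀ : MulAut R), (∀ z, f (w₀ z) = w (f z)) →
      C.map w.toMonoidHom = C → (C.comap f).map w₀.toMonoidHom = C.comap f := fun C w w₀ hw hC =>
    map_aut_eq_of_mem _ fun z hz => show f (w₀ z) ∈ C by
      rw [hw]; exact hC.le ⟨f z, hz, rfl⟩
  have hpair : ∀ w₀ w, (∀ z, f (w₀ z) = w (f z)) → w₀ ∈ F.autGroup R → w ∈ E.autGroup P' →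
      (w₀, w) ∈ G := fun w₀ w h h0 h1 => ⟨h0, h1, h⟩
  have hGx := hpair _ _ hxv hx₀ hx
  have hGy := hpair _ _ hyv hy₀ hy
  obtain ⟨a₀, rfl⟩ := hfs a
  have h := hfree2 (A.comap f) (B.comap f) (Subgroup.comap_mono hBA)
    (fun z hz => show f (z * z) ∈ B by rw [map_mul]; exact h1 _ hz)
    (fun z hz w hw => show f _ ∈ B by
      simp only [map_mul, map_inv]; exact h2 _ hz _ hw)
    x₀ hx₀ y₀ hy₀ (hmap A x x₀ hxv hxA) (hmap A y y₀ hyv hyA) (hmap B x x₀ hxv hxB)
    (hmap B y y₀ hyv hyB)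
    (fun z hz => show f _ ∈ B by
      have hm := (mul_mem (mul_mem (mul_mem hGx hGy) (inv_mem hGx)) hGy).2.2 z
      simp only [Prod.fst_mul, Prod.snd_mul, Prod.fst_inv, Prod.snd_inv] at hm
      rw [map_mul, map_inv, hm]
      exact hinv _ hz)
    (fun z hz => show f _ ∈ B by
      have hm := (pow_mem hGy 3).2.2 z
      simp only [Prod.pow_mk] at hm
      rw [map_mul, map_inv, hm]
      exact hcube _ hz) a₀ ha
  have h' : f (y₀ a₀ * a₀⁻¹) ∈ B := h
  rwa [map_mul, map_inv, hyv] at h'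

end CfsgLib.Fusion
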