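import Cfsg.Agent.Lib.Fusion.CentricNormal
import Cfsg.Agent.Lib.Fusion.Series
import Cfsg.Prelude.Def_FusionComponents

/-!
# Subnormal subsystems of constrained systems are constrained
-/

set_option autoImplicit false

namespace CfsgLib.Fusion

open Cfsg Cfsg.FusionSystem

variable {Ω : Type*} [Group Ω] {p : ℕ}

theorem exists_normal_centric_core {S : Subgroup Ω} {F : FusionSystem S} [Finite S]
    (h : F.IsConstrained p) : F.IsNormal F.core ∧ F.IsCentric F.core := by
  obtain ⟨Q, hQn, hQc⟩ := h.2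
  exact ⟨core_isNormal, isCentric_mono hQc (le_core hQn) core_le⟩

theorem isConstrained_of_isNormalIn {S T : Subgroup Ω} {F : FusionSystem S} {D : FusionSystem T}
    [Fact p.Prime] [Finite S] (hS : IsPGroup p S) (hF : F.IsConstrained p)
    (hD : D.IsNormalIn F p) : D.IsConstrained p := by
  obtain ⟨⟨hDsat, hFsat, hsub, hTc, -⟩, -⟩ := hD
  obtain ⟨hQn, hQc⟩ := exists_normal_centric_core hF
  set Q := F.core with hQdef
  have hTS := hTc.1
  have := finite_le hTS
  have hT : IsPGroup p T := hS.to_le hTS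
  have hQsc := IsNormal.stronglyClosed hQn
  have hclosed : ∀ C : Subgroup Ω, F.StronglyClosed C → D.StronglyClosed (C ⊓ T) := by
    intro C hC
    exact ⟨inf_le_right, fun R hR φ hφ x => ⟨hC.2 R (hR.trans inf_le_left) φ (hsub R hφ) x,
      hTc.2 R (hR.trans inf_le_right) φ (hsub R hφ) x⟩⟩
  obtain ⟨n, C, h0, hlast, hmono, hC, hcomm⟩ := IsNormal.exists_series hS hQn
  have hR : D.StronglyClosed (Q ⊓ T) := hclosed Q hQsc
  have hRn : D.IsNormal (Q ⊓ T) := by
    refine isNormal_of_series hT hDsat hR (fun i => C i ⊓ T) (by simp [h0]) (by simp [hlast])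
      (fun a b hab => inf_le_inf_right _ (hmono hab)) (fun i => ?_)
      (fun i => StronglyClosed.weaklyClosed (hclosed _ (hC _)))
    refine le_inf ((Subgroup.commutator_mono inf_le_left inf_le_left).trans (hcomm i))
      ((Subgroup.commutator_mono inf_le_right inf_le_right).trans ?_)
    exact Subgroup.commutator_le.2 fun a ha b hb =>
      T.mul_mem (T.mul_mem (T.mul_mem ha hb) (T.inv_mem ha)) (T.inv_mem hb)
  refine ⟨hDsat, Q ⊓ T, hRn, inf_le_right, fun R' hR' => ?_⟩
  obtain ⟨φ, hφ, hr⟩ := hR'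
  obtain rfl : R' = Q ⊓ T := hr.symm.trans ((StronglyClosed.weaklyClosed hR).2 φ hφ)
  intro x hx
  obtain ⟨hxT, hxc⟩ := mem_centralizerIn.1 hx
  refine ⟨?_, hxT⟩
  have hxS := hTS hxT
  have hQS : Q ≤ S := hQn.1
  have := finite_le hQS
  -- the stabiliser of `Q ⊓ T ≤ Q`
  have hAR : ∀ α ∈ F.autGroup Q, ∀ q : Q, (q : Ω) ∈ T → ((α q : Q) : Ω) ∈ T := by
    intro α hα q hq
    exact StronglyClosed.apply_mem hTc ((mem_autGroup_iff hQS).1 hα) (x := q) hq
  let K : Subgroup (MulAut Q) :=
    { carrier := {α | α ∈ F.autGroup Q ∧ (∀ q : Q, (q : Ω) ∈ T → α q = q) ∧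
        ∀ q : Q, ((q⁻¹ * α q : Q) : Ω) ∈ T}
      one_mem' := ⟨one_mem _, fun q _ => rfl, fun q => by simp⟩
      mul_mem' := by
        rintro a b ⟨haF, ha, ha'⟩ ⟨hbF, hb, hb'⟩
        refine ⟨mul_mem haF hbF, fun q hq => by rw [MulAut.mul_apply, hb q hq, ha q hq],
          fun q => ?_⟩
        have e : q⁻¹ * (a * b) q = q⁻¹ * a q * a (q⁻¹ * b q) := by
          rw [MulAut.mul_apply, map_mul, map_inv]; group
        rw [e, ha _ (hb' q), Subgroup.coe_mul]
        exact T.mul_mem (ha' q) (hb' q)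
      inv_mem' := by
        rintro a ⟨haF, ha, ha'⟩
        refine ⟨inv_mem haF, fun q hq => ?_, fun q => ?_⟩
        · apply a.injective
          rw [MulAut.apply_inv_self, ha q hq]
        · have h := T.inv_mem (ha' (a⁻¹ q))
          rw [MulAut.apply_inv_self, ← Subgroup.coe_inv, mul_inv_rev, inv_inv] at h
          exact h }
  refine mem_core_of_centric hS hFsat hQn hQc K (fun α hα => hα.1) ?_ ?_ hxS ?_
  · rintro α hα κ ⟨hκF, hκ, hκ'⟩
    refine ⟨mul_mem (mul_mem hα hκF) (inv_mem hα), fun q hq => ?_, fun q => ?_⟩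
    · rw [MulAut.mul_apply, MulAut.mul_apply, hκ _ (hAR _ (inv_mem hα) q hq),
        MulAut.apply_inv_self]
    · have h := hAR α hα _ (hκ' (α⁻¹ q))
      rw [map_mul, map_inv, MulAut.apply_inv_self] at h
      exact h
  · intro κ
    let N : Fin 3 → Subgroup Q := ![⊥, T.subgroupOf Q, ⊤]
    obtain ⟨k, hk⟩ := exists_pow_eq_one_of_stabilizes (hS.to_le hQS) N rfl rfl (κ : MulAut Q)
      (fun i y hy => by
        fin_cases i
        · simp only [N] at hy ⊢; simp at hy ⊢; simp [hy]
        · exact hAR _ κ.2.1 y hy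
        · exact Subgroup.mem_top _)
      (fun i y hy => by
        fin_cases i
        · show y⁻¹ * (κ : MulAut Q) y ∈ (⊥ : Subgroup Q)
          rw [κ.2.2.1 y hy, inv_mul_cancel]; exact one_mem _
        · exact κ.2.2.2 y)
    exact ⟨k, Subtype.ext hk⟩
  · have hxN : x ∈ Subgroup.normalizer (Q : Set Ω) := IsNormal.normal_in hQn hxS
    refine ⟨conjAut (⟨x, hxS, hxN⟩ : normalizerIn S Q),
      ⟨autInducedBy_le_autGroup hQS (conjAut_mem _), fun q hq => Subtype.ext ?_, fun q => ?_⟩,
      fun q => rfl⟩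
    · show x * (q : Ω) * x⁻¹ = q
      rw [← hxc q ⟨q.2, hq⟩, mul_inv_cancel_right]
    · show (q : Ω)⁻¹ * (x * (q : Ω) * x⁻¹) ∈ T
      have h1 : (q : Ω)⁻¹ * x * q ∈ T := by
        have := conj_mem_of_mem_normalizer (StronglyClosed.normal_in hTc (S.inv_mem (hQS q.2))) hxT
        simpa using this
      have := T.mul_mem h1 (T.inv_mem hxT)
      simpa [mul_assoc] using this

theorem isConstrained_of_isSubnormalIn {S T : Subgroup Ω} {F : FusionSystem S}
    {E : FusionSystem T} (hE : E.IsSubnormalIn F p) :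
    p.Prime → Finite S → IsPGroup p S → F.IsConstrained p → E.IsConstrained p := by
  induction hE with
  | refl F p => exact fun _ _ _ h => h
  | step h hn ih =>
      intro hq hfin hS hF
      have := Fact.mk hq
      have hU := hn.1.2.2.2.1.1
      exact ih hq (finite_le hU) (hS.to_le hU) (isConstrained_of_isNormalIn hS hF hn)

end CfsgLib.Fusion
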