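import Cfsg.Agent.Lib.Fusion.KNormalizer
import Cfsg.Agent.Lib.Fusion.Biset.ModelUnique

/-!
# Normalizer systems of centric radical subgroups
-/

set_option autoImplicit false

namespace CfsgLib.Fusion

open Cfsg Cfsg.FusionSystem

variable {Ω : Type*} [Group Ω] {S : Subgroup Ω} {F : FusionSystem S} {p : ℕ}

theorem le_normalizerIn_self {Q : Subgroup Ω} (hQ : Q ≤ S) : Q ≤ normalizerIn S Q :=
  le_inf hQ Subgroup.le_normalizer

theorem normalizerSystem_le {Q : Subgroup Ω} {E : FusionSystem (normalizerIn S Q)}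
    (hE : F.IsNormalizerSystem Q E) {P : Subgroup Ω} {φ : P →* Ω} (hφ : φ ∈ E.Hom P) :
    φ ∈ F.Hom P := by
  rw [hE P] at hφ
  exact hφ.1

theorem normalizerSystem_isNormal {Q : Subgroup Ω} (hQ : Q ≤ S)
    {E : FusionSystem (normalizerIn S Q)} (hE : F.IsNormalizerSystem Q E) : E.IsNormal Q := by
  have hQN := le_normalizerIn_self hQ
  refine ⟨hQN, fun P φ hφ => ?_⟩
  rw [hE P] at hφ
  obtain ⟨-, hP, hφN, ψ, hψ, hψP, hψQ⟩ := hφ
  refine ⟨ψ, ?_, hψP, hψQ⟩
  rw [hE (P ⊔ Q)]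
  have hv : ∀ x, ψ x ∈ normalizerIn S Q := by
    have hr : ψ.range ≤ normalizerIn S Q := by
      rw [ext_range hψP hψQ]
      exact sup_le (by rintro _ ⟨x, rfl⟩; exact hφN x) hQN
    exact fun x => hr ⟨x, rfl⟩
  have h : P ⊔ Q ⊔ Q ≤ P ⊔ Q := sup_le le_rfl le_sup_right
  refine ⟨hψ, sup_le hP hQN, hv, ψ.comp (Subgroup.inclusion h), restrict_mem hψ h,
    fun x => rfl, ?_⟩
  refine le_antisymm ?_ fun y hy => ?_
  · rintro _ ⟨x, hx, rfl⟩
    exact hψQ.le ⟨Subgroup.inclusion h x, hx, rfl⟩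
  · obtain ⟨x, hx, rfl⟩ := hψQ.ge hy
    exact ⟨Subgroup.inclusion le_sup_left x, hx, rfl⟩

theorem normalizerSystem_autGroup {Q : Subgroup Ω} (hQ : Q ≤ S)
    {E : FusionSystem (normalizerIn S Q)} (hE : F.IsNormalizerSystem Q E) :
    E.autGroup Q = F.autGroup Q := by
  have hQN := le_normalizerIn_self hQ
  ext α
  rw [mem_autGroup_iff hQN, mem_autGroup_iff hQ]
  refine ⟨fun h => normalizerSystem_le hE h, fun h => ?_⟩
  rw [hE Q]
  have h' : Q ⊔ Q ≤ Q := (sup_idem Q).le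
  refine ⟨h, hQN, fun x => hQN (α x).2,
    (Q.subtype.comp α.toMonoidHom).comp (Subgroup.inclusion h'), restrict_mem h h', fun x => rfl, ?_⟩
  refine le_antisymm ?_ fun y hy => ?_
  · rintro _ ⟨x, -, rfl⟩
    exact (α _).2
  · exact ⟨Subgroup.inclusion le_sup_left (α.symm ⟨y, hy⟩), (α.symm ⟨y, hy⟩).2,
      congrArg Subtype.val (α.apply_symm_apply ⟨y, hy⟩)⟩

theorem normalizerSystem_isCentric {Q : Subgroup Ω} (hQ : F.IsCentric Q)
    {E : FusionSystem (normalizerIn S Q)} (hE : F.IsNormalizerSystem Q E) : E.IsCentric Q := by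
  refine ⟨le_normalizerIn_self hQ.1, fun R hR => ?_⟩
  obtain ⟨φ, hφ, rfl⟩ := hR
  intro c hc
  obtain ⟨hcS, hcc⟩ := mem_centralizerIn.1 hc
  exact hQ.2 _ ⟨φ, normalizerSystem_le hE hφ, rfl⟩ (mem_centralizerIn.2 ⟨hcS.1, hcc⟩)

theorem normalizer_radical_constrained [Fact p.Prime] [Finite S] (hS : IsPGroup p S)
    (hF : F.IsSaturated p) {R : Subgroup Ω} (hRn : F.IsFullyNormalized R) (hRc : F.IsCentric R)
    {E : FusionSystem (normalizerIn S R)} (hE : F.IsNormalizerSystem R E) : E.IsConstrained p :=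
  ⟨normalizerSystem_saturated hS hF hRn hE, R, normalizerSystem_isNormal hRn.1 hE,
    normalizerSystem_isCentric hRc hE⟩

theorem normalizer_radical_pCore [Fact p.Prime] [Finite S] (hS : IsPGroup p S)
    {R : Subgroup Ω} (hRc : F.IsCentric R) (hRr : F.IsRadical p R)
    {E : FusionSystem (normalizerIn S R)} (hE : F.IsNormalizerSystem R E) {G : Type*} [Group G]
    {ι : ↥(normalizerIn S R) →* G} (hG : E.IsModel p G ι) :
    (pCore p G : Subgroup G) = (R.subgroupOf (normalizerIn S R)).map ι := by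
  have hRS := hRc.1
  have hRN := le_normalizerIn_self hRS
  have hn := normalizerSystem_isNormal hRS hE
  have hcore := model_pCore_le hG
  obtain ⟨hfin, hreal, -, -⟩ := id hG
  have hinj := hreal.1
  have hone : ∀ g : G, ∀ r : R, ∃ r' : R,
      g * ι (Subgroup.inclusion hRN r) * g⁻¹ = ι (Subgroup.inclusion hRN r') := by
    intro g r
    obtain ⟨α, -, hα⟩ := model_action hG hn g
    exact ⟨α r, by rw [hα r, mul_inv_cancel_right]⟩
  set M := (R.subgroupOf (normalizerIn S R)).map ι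
  have hM : M.Normal := by
    refine ⟨?_⟩
    rintro _ ⟨r, hr, rfl⟩ g
    obtain ⟨r', hr'⟩ := hone g ⟨r, hr⟩
    exact ⟨Subgroup.inclusion hRN r', r'.2, hr'.symm⟩
  have hMp : IsPGroup p M :=
    (((hS.to_le (normalizerIn_le R)).to_subgroup (R.subgroupOf _)).map ι)
  refine le_antisymm (fun x hx => ?_) (Core.le_pCore hMp)
  obtain ⟨s, rfl⟩ := hcore hx
  have hsQ : (s : Ω) ∈ coreBack p ι := mem_coreBack.2 hx
  set Qc := coreBack p ι
  have hQcN : Qc ≤ normalizerIn S R := Subgroup.map_subtype_le _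
  set H := autInducedBy Qc R
  have hHA : H ≤ F.autGroup R :=
    (autInducedBy_mono (hQcN.trans (normalizerIn_le R))).trans (autInducedBy_le_autGroup hRS)
  have := finite_mulAut_of_le (S := S) hRS
  have hHn : (H.subgroupOf (F.autGroup R)).Normal := by
    refine ⟨fun a ha b => ?_⟩
    obtain ⟨t, ht, hta⟩ := mem_autInducedBy_iff.1 ha
    obtain ⟨g, hg⟩ := (hreal.2 R hRN (R.subtype.comp (b : MulAut R).toMonoidHom)
      (fun x => hRN ((b : MulAut R) x).2)).1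
      ((mem_autGroup_iff hRN).1 (by rw [normalizerSystem_autGroup hRS hE]; exact b.2))
    have htQ : ι ⟨t, hQcN ht⟩ ∈ pCore p G := (mem_coreBack (s := ⟨t, hQcN ht⟩)).1 ht
    have h1 := (inferInstance : (pCore p G).Normal).conj_mem _ htQ g
    obtain ⟨t', ht'⟩ := hcore h1
    refine mem_autInducedBy_iff.2 ⟨t', mem_coreBack.2 (ht'.symm ▸ h1), fun y => ?_⟩
    obtain ⟨x, rfl⟩ := (b : MulAut R).surjective y
    have hl : (F.autGroup R).subtype (b * a * b⁻¹) ((b : MulAut R) x) =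
        (b : MulAut R) ((a : MulAut R) x) := by
      simp [MulAut.mul_apply]
    rw [hl]
    have hkey : (⟨((b : MulAut R) ((a : MulAut R) x) : Ω), hRN ((b : MulAut R) _).2⟩ : normalizerIn S R) =
        t' * ⟨((b : MulAut R) x : Ω), hRN ((b : MulAut R) x).2⟩ * t'⁻¹ := by
      apply hinj
      rw [map_mul, map_mul, map_inv, ht']
      refine (hg ((a : MulAut R) x)).trans ?_
      rw [show ι ⟨((b : MulAut R) x : Ω), hRN ((b : MulAut R) x).2⟩ =
        g * ι ⟨(x : Ω), hRN x.2⟩ * g⁻¹ from hg x,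
        show (⟨((a : MulAut R) x : Ω), hRN ((a : MulAut R) x).2⟩ : normalizerIn S R) =
          ⟨t, hQcN ht⟩ * ⟨(x : Ω), hRN x.2⟩ * ⟨t, hQcN ht⟩⁻¹ from Subtype.ext (hta x),
        map_mul, map_mul, map_inv]
      group
    exact congrArg Subtype.val hkey
  have hHp : IsPGroup p (H.subgroupOf (F.autGroup R)) :=
    (isPGroup_autInducedBy (hS.to_le (hQcN.trans (normalizerIn_le R)))).of_equiv
      (Subgroup.subgroupOfEquivOfLe hHA).symm
  obtain ⟨c, hc⟩ : conjAut (⟨(s : Ω), s.2⟩ : normalizerIn S R) ∈ Inn R := by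
    rw [← hRr.2]
    exact ⟨⟨_, hHA (mem_autInducedBy_iff.2 ⟨s, hsQ, fun _ => rfl⟩)⟩,
      Core.le_pCore hHp (mem_autInducedBy_iff.2 ⟨s, hsQ, fun _ => rfl⟩), rfl⟩
  refine ⟨s, ?_, rfl⟩
  have hz : (c : Ω)⁻¹ * s ∈ R := hRc.2 R (isConj_refl hRS) (mem_centralizerIn.2
    ⟨S.mul_mem (S.inv_mem (hRS c.2)) (normalizerIn_le R s.2), fun y hy => by
      have h : (c : Ω) * y * (c : Ω)⁻¹ = (s : Ω) * y * (s : Ω)⁻¹ :=
        congrArg (fun f : MulAut R => ((f ⟨y, hy⟩ : R) : Ω)) hc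
      calc y * ((c : Ω)⁻¹ * s) = (c : Ω)⁻¹ * ((c : Ω) * y * (c : Ω)⁻¹) * s := by group
        _ = (c : Ω)⁻¹ * s * y := by rw [h]; group⟩)
  have := R.mul_mem c.2 hz
  rwa [mul_inv_cancel_left] at this

end CfsgLib.Fusion
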