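import Cfsg.Agent.Lib.Fusion.WeakClosureLocal
import Cfsg.Agent.Lib.Fusion.CenterPowers
import Cfsg.Agent.Lib.Fusion.RadicalNormalizer
import Cfsg.Agent.Lib.Fusion.FourFreeModel
import Cfsg.Agent.Lib.LocalEven.WeaklyClosedCenter

/-!
The centre of a system is seen in suitable normalizer systems.
-/

set_option autoImplicit false

namespace CfsgLib.Fusion

open Cfsg Cfsg.FusionSystem

universe u

variable {Ω : Type u} [Group Ω] {S : Subgroup Ω} {F : FusionSystem S} {p : ℕ}

/-- A central element of the Sylow subgroup lies in the core of a model. -/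
theorem model_central_core [Fact p.Prime] {L : Type u} [Group L] {ι : S →* L}
    (hG : F.IsModel p L ι) {x : Ω} (hx : x ∈ S) (hxC : ∀ y ∈ S, y * x = x * y) :
    ι ⟨x, hx⟩ ∈ pCore p L := by
  have hc := model_coreBack_centric hG
  exact mem_coreBack.1 (hc.2 _ (isConj_refl hc.1)
    (mem_centralizerIn.2 ⟨hx, fun y hy => hxC y (hc.1 hy)⟩))

/-- The centre of the system lies in the centre of every normalizer system of a normal subgroup. -/
theorem center_le_normalizer_center [Finite S] {X : Subgroup Ω}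
    (hXN : S ≤ Subgroup.normalizer (X : Set Ω)) {N : FusionSystem (normalizerIn S X)}
    (hN : F.IsNormalizerSystem X N) : F.center ≤ N.center := by
  have hST : S ≤ normalizerIn S X := le_inf le_rfl hXN
  refine le_center ⟨center_le.trans hST, fun P φ hφ => ?_⟩
  rw [hN P] at hφ
  obtain ⟨-, hP, -, ψ, hψ, hψP, hψX⟩ := hφ
  obtain ⟨χ, hχ, hχv, hχc⟩ := center_isCentral.2 _ ψ hψ
  have hle : P ⊔ F.center ≤ (P ⊔ X) ⊔ F.center := sup_le_sup_right le_sup_left _
  refine ⟨χ.comp (Subgroup.inclusion hle), ?_, fun z => ?_, fun z => hχc z⟩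
  · rw [hN]
    have hle' : P ⊔ F.center ⊔ X ≤ (P ⊔ X) ⊔ F.center :=
      sup_le hle (le_sup_right.trans le_sup_left)
    refine ⟨restrict_mem hχ hle, (sup_le (hom_le hψ |>.trans' le_sup_left) center_le).trans hST,
      fun z => hST (hom_apply_mem hχ _), χ.comp (Subgroup.inclusion hle'), restrict_mem hχ hle',
      fun z => rfl, ?_⟩
    ext y
    constructor
    · rintro ⟨z, hz, rfl⟩
      have h1 := hχv ⟨z, Subgroup.mem_sup_right hz⟩
      show χ _ ∈ X
      rw [show Subgroup.inclusion hle' z = Subgroup.inclusion le_sup_left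
        (⟨(z : Ω), Subgroup.mem_sup_right hz⟩ : ↥(P ⊔ X)) from rfl, h1]
      exact hψX.le ⟨⟨(z : Ω), Subgroup.mem_sup_right hz⟩, hz, rfl⟩
    · intro hy
      obtain ⟨z, hz, rfl⟩ := hψX.ge hy
      exact ⟨⟨(z : Ω), Subgroup.mem_sup_right hz⟩, hz, (hχv z)⟩
  · show χ _ = φ z
    rw [show Subgroup.inclusion hle (Subgroup.inclusion le_sup_left z) =
      Subgroup.inclusion le_sup_left (Subgroup.inclusion le_sup_left z : ↥(P ⊔ X)) from rfl, hχv, hψP]

/-- A central element of `N(Wf S)` is central, given this in models. -/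
theorem mem_center_of_local [Fact p.Prime] [Finite S] (hS : IsPGroup p S) (hF : F.IsSaturated p)
    {x : Ω} (Wf : Subgroup Ω → Subgroup Ω) (hle : ∀ T, Wf T ≤ T)
    (hnorm : ∀ T : Subgroup Ω, Subgroup.normalizer (T : Set Ω) ≤ Subgroup.normalizer (Wf T : Set Ω))
    (P₀ : ∀ (T : Subgroup Ω), FusionSystem T → Prop)
    (hP₀ : ∀ {S : Subgroup Ω} [Finite S] {F : FusionSystem S} {T : Subgroup Ω}
      {N : FusionSystem T}, P₀ S F → T ≤ S → centerOf S ≤ T → N.IsSubsystemOf F → P₀ T N)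
    (hxW : ∀ {T : Subgroup Ω} [Finite T] (F : FusionSystem T), IsPGroup p T → P₀ T F →
      x ∈ T → (∀ y ∈ T, y * x = x * y) → x ∈ Wf T)
    (hgrp : ∀ {T : Subgroup Ω} [Finite T] (N : FusionSystem T), IsPGroup p T → P₀ T N →
      ∀ (hx : x ∈ T), (∀ y ∈ T, y * x = x * y) → ∀ (L : Type u) [Group L] (ι : T →* L),
        N.IsModel p L ι →
        (∀ h ∈ Subgroup.normalizer ((((Wf T).subgroupOf T).map ι : Subgroup L) : Set L),
          h * ι ⟨x, hx⟩ * h⁻¹ = ι ⟨x, hx⟩) → ∀ g : L, g * ι ⟨x, hx⟩ * g⁻¹ = ι ⟨x, hx⟩)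
    (hP : P₀ S F) {N : FusionSystem (normalizerIn S (Wf S))} (hN : F.IsNormalizerSystem (Wf S) N)
    (hx : x ∈ N.center) : x ∈ F.center := by
  have := finite_le (normalizerIn_le (S := S) (Wf S))
  have hxS : x ∈ S := normalizerIn_le _ (center_le hx)
  have hST : S ≤ normalizerIn S (Wf S) := le_inf le_rfl (Subgroup.le_normalizer.trans (hnorm S))
  have hxC : ∀ y ∈ S, y * x = x * y := fun y hy =>
    Subgroup.mem_centralizer_iff.1 (center_le_centralizer N hx) y (hST hy)
  have hall := fixes_of_local x Wf hle hnorm P₀ hP₀ hxW hgrp _ rfl hS hF hP hxS hxC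
    fun P φ hφ => by
      obtain ⟨ψ, hψ, hψP, hψc⟩ := center_isCentral.2 P φ ((hN P).ge hφ)
      exact centralizerHom_of_fixes hxC hφ.1 (normalizerSystem_le hN hψ) le_sup_left hψP
        (Subgroup.mem_sup_right hx) (hψc ⟨x, hx⟩)
  refine le_center ⟨Subgroup.zpowers_le.2 hxS, fun P φ hφ => ?_⟩ (Subgroup.mem_zpowers x)
  obtain ⟨-, -, -, ψ, hψ, hψP, hψx⟩ := hall P φ hφ
  exact ⟨ψ, hψ, hψP, hψx⟩

/-- Elements of the closure of the `p`th powers of an abelian subgroup are `p`th powers. -/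
theorem exists_pow_of_mem_closure {A : Subgroup Ω} (hA : ∀ a ∈ A, ∀ b ∈ A, a * b = b * a) {n : ℕ}
    {x : Ω} (hx : x ∈ Subgroup.closure ((fun z : Ω => z ^ n) '' (A : Set Ω))) :
    ∃ z ∈ A, z ^ n = x := by
  induction hx using Subgroup.closure_induction with
  | mem y hy => exact hy
  | one => exact ⟨1, A.one_mem, one_pow n⟩
  | mul a b _ _ iha ihb =>
    obtain ⟨z, hz, rfl⟩ := iha
    obtain ⟨w, hw, rfl⟩ := ihb
    exact ⟨z * w, A.mul_mem hz hw, (Commute.mul_pow (hA z hz w hw) n)⟩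
  | inv a _ iha =>
    obtain ⟨z, hz, rfl⟩ := iha
    exact ⟨z⁻¹, A.inv_mem hz, inv_pow z n⟩

/-- `J` in a model. -/
theorem model_thompsonA {T : Subgroup Ω} {L : Type u} [Group L] {ι : T →* L}
    (hinj : Function.Injective ι) :
    thompsonSubgroupAOf ι.range = ((thompsonSubgroupAOf T).subgroupOf T).map ι := by
  rw [← thompsonA_subgroupOf (le_refl T), Subgroup.subgroupOf_self, Subgroup.subgroupOf,
    Subgroup.comap_map_eq_self_of_injective T.subtype_injective, MonoidHom.range_eq_map,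
    Techniques.thompsonAOf_map ι _ (by
      rw [(MonoidHom.ker_eq_bot_iff ι).2 hinj]; exact disjoint_bot_right)]

/-- The property making the centre visible in `N(J(S))`. -/
def JCenterCond (p : ℕ) (x : Ω) (T : Subgroup Ω) (N : FusionSystem T) : Prop :=
  p ≠ 2 ∨ (∃ z ∈ centerOf T, z ^ p = x) ∨ FourFree N

theorem jCenterCond_mono {T : Subgroup Ω} {N : FusionSystem T} {x : Ω}
    (h : JCenterCond p x S F) (hTS : T ≤ S) (hZ : centerOf S ≤ T) (hN : N.IsSubsystemOf F) :
    JCenterCond p x T N := by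
  rcases h with h | ⟨z, hz, hzx⟩ | h
  · exact Or.inl h
  · exact Or.inr (Or.inl ⟨z, ⟨hZ hz, Subgroup.centralizer_le (SetLike.coe_subset_coe.2 hTS) hz.2⟩,
      hzx⟩)
  · exact Or.inr (Or.inr (h.mono hN hTS))

/-- Central elements of `N(J(S))` are central. -/
theorem mem_center_of_thompsonA [Fact p.Prime] [Finite S] (hS : IsPGroup p S)
    (hF : F.IsSaturated p) {x : Ω} (hP : JCenterCond p x S F)
    {N : FusionSystem (normalizerIn S (thompsonSubgroupAOf S))}
    (hN : F.IsNormalizerSystem (thompsonSubgroupAOf S) N) (hx : x ∈ N.center) :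
    x ∈ F.center := by
  refine mem_center_of_local hS hF thompsonSubgroupAOf thompsonAOf_le
    normalizer_le_normalizer_thompsonA (JCenterCond p x)
    (fun h hTS hZ hN => jCenterCond_mono h hTS hZ hN)
    (fun {T} _ _ _ _ hxT hxC => center_le_thompsonA (S := T) le_rfl
      ⟨hxT, Subgroup.mem_centralizer_iff.2 hxC⟩)
    (fun {T} _ M _ hcond hxT hxC L _ ι hG hcent => ?_) hP hN hx
  have := hG.1
  have hinj : Function.Injective ι := hG.2.1.1
  obtain ⟨TL, hTL⟩ := hG.2.2.1
  have hxL : ι ⟨x, hxT⟩ ∈ (TL : Subgroup L) := hTL.ge ⟨_, rfl⟩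
  have hcore := model_central_core hG hxT hxC
  intro g
  refine LocalEven.WClosed.weaklyClosed_center TL hxL (fun h hh => ?_) ?_ g
    (Core.pCore_le_sylow TL ((inferInstance : (pCore p L).Normal).conj_mem _ hcore g))
  · rw [hTL, model_thompsonA hinj] at hh
    exact Subgroup.mem_centralizer_singleton_iff.2 (mul_inv_eq_iff_eq_mul.1 (hcent h hh))
  · rcases hcond with h | ⟨z, hz, hzx⟩ | h
    · exact Or.inl h
    · refine Or.inr (Or.inl ⟨ι ⟨z, hz.1⟩, ⟨hTL.ge ⟨_, rfl⟩, Subgroup.mem_centralizer_iff.2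
        fun t ht => ?_⟩, ?_⟩)
      · obtain ⟨s, rfl⟩ := hTL.le ht
        rw [← map_mul, ← map_mul]
        exact congrArg ι (Subtype.ext (centerOf_comm hz s.2))
      · rw [← map_pow]
        exact congrArg ι (Subtype.ext hzx)
    · exact Or.inr (Or.inr (h.not_involves_model hG))

/-- A subgroup functor read inside `Ω`. -/
noncomputable def functorOf (p : ℕ) (W : ∀ (Q : Type u) [Group Q], Subgroup Q) (T : Subgroup Ω) :
    Subgroup Ω :=
  open Classical in if Finite T ∧ IsPGroup p T then (W ↥T).map T.subtype else ⊥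

theorem functorOf_eq {W : ∀ (Q : Type u) [Group Q], Subgroup Q} {T : Subgroup Ω} [Finite T]
    (hT : IsPGroup p T) : functorOf p W T = (W ↥T).map T.subtype :=
  if_pos ⟨‹_›, hT⟩

theorem functorOf_le {W : ∀ (Q : Type u) [Group Q], Subgroup Q} (T : Subgroup Ω) :
    functorOf p W T ≤ T := by
  rw [functorOf]
  split_ifs
  · exact Subgroup.map_subtype_le _
  · exact bot_le

theorem normalizer_le_normalizer_functorOf {W : ∀ (Q : Type u) [Group Q], Subgroup Q}
    (hW2 : ∀ (Q R : Type u) [Group Q] [Group R] [Finite Q], IsPGroup p Q → ∀ φ : Q ≃* R,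
      (W Q).map φ.toMonoidHom = W R) (T : Subgroup Ω) :
    Subgroup.normalizer (T : Set Ω) ≤
      Subgroup.normalizer (functorOf p W T : Set Ω) := by
  rw [functorOf]
  split_ifs with h
  swap
  · rw [Subgroup.normalizer_eq_top (H := (⊥ : Subgroup Ω))]
    exact le_top
  obtain ⟨hfin, hp⟩ := h
  intro g hg
  refine Subgroup.mem_normalizer_iff_map_conj_eq.2 ?_
  set c : MulAut T := T.normalizerMonoidHom ⟨g, hg⟩
  conv_rhs => rw [← hW2 ↥T ↥T hp c]
  rw [Subgroup.map_map, Subgroup.map_map]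
  rfl

/-- The image of the functor in a model. -/
theorem model_functorOf {W : ∀ (Q : Type u) [Group Q], Subgroup Q}
    (hW2 : ∀ (Q R : Type u) [Group Q] [Group R] [Finite Q], IsPGroup p Q → ∀ φ : Q ≃* R,
      (W Q).map φ.toMonoidHom = W R) {T : Subgroup Ω} [Finite T] (hT : IsPGroup p T)
    {L : Type u} [Group L] {ι : T →* L} (hinj : Function.Injective ι) (TL : Sylow p L)
    (hTL : (TL : Subgroup L) = ι.range) :
    (W ↥(TL : Subgroup L)).map (TL : Subgroup L).subtype =
      ((functorOf p W T).subgroupOf T).map ι := by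
  rw [functorOf_eq hT, Subgroup.subgroupOf,
    Subgroup.comap_map_eq_self_of_injective T.subtype_injective,
    ← hW2 ↥T ↥(TL : Subgroup L) hT
      ((MonoidHom.ofInjective hinj).trans (MulEquiv.subgroupCongr hTL.symm)), Subgroup.map_map]
  rfl

/-- Central elements of a normalizer of a functor with local centre condition are central. -/
theorem mem_center_of_functor [Fact p.Prime] [Finite S] (hS : IsPGroup p S) (hF : F.IsSaturated p)
    {W : ∀ (Q : Type u) [Group Q], Subgroup Q}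
    (hW2 : ∀ (Q R : Type u) [Group Q] [Group R] [Finite Q], IsPGroup p Q → ∀ φ : Q ≃* R,
      (W Q).map φ.toMonoidHom = W R)
    (hWZ : ∀ (Q : Type u) [Group Q] [Finite Q], IsPGroup p Q → Subgroup.center Q ≤ W Q) {x : Ω}
    (C : ∀ (G : Type u) [Group G], Subgroup G → G → Prop)
    (hC : ∀ (G : Type u) [Group G] [Finite G] (P : Sylow p G) (y : G),
      Subgroup.centralizer ((pCore p G : Subgroup G) : Set G) ≤ pCore p G →
      y ∈ pCore p G → C G P y →
      (∀ h ∈ Subgroup.normalizer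
        (((W ↥(P : Subgroup G)).map (P : Subgroup G).subtype : Subgroup G) : Set G),
        h * y * h⁻¹ = y) → ∀ g : G, g * y * g⁻¹ = y)
    (P₀ : ∀ (T : Subgroup Ω), FusionSystem T → Prop)
    (hP₀ : ∀ {S : Subgroup Ω} [Finite S] {F : FusionSystem S} {T : Subgroup Ω}
      {N : FusionSystem T}, P₀ S F → T ≤ S → centerOf S ≤ T → N.IsSubsystemOf F → P₀ T N)
    (htrans : ∀ {T : Subgroup Ω} (N : FusionSystem T) (hx : x ∈ T), P₀ T N →
      ∀ (L : Type u) [Group L] (ι : T →* L), C L ι.range (ι ⟨x, hx⟩))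
    (hP : P₀ S F) {N : FusionSystem (normalizerIn S ((W ↥S).map S.subtype))}
    (hN : F.IsNormalizerSystem ((W ↥S).map S.subtype) N) (hx : x ∈ N.center) : x ∈ F.center := by
  revert N
  rw [← functorOf_eq hS (W := W)]
  intro N hN hx
  refine mem_center_of_local hS hF (functorOf p W) functorOf_le
    (normalizer_le_normalizer_functorOf hW2) P₀ hP₀
    (fun {T} _ _ hT _ hxT hxC => ?_)
    (fun {T} _ M hT hcond hxT hxC L _ ι hG hcent => ?_) hP hN hx
  · rw [functorOf_eq hT]
    exact ⟨⟨x, hxT⟩, hWZ ↥T hT (Subgroup.mem_center_iff.2 fun y => Subtype.ext (hxC y y.2)), rfl⟩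
  · have := hG.1
    obtain ⟨TL, hTL⟩ := hG.2.2.1
    refine hC L TL _ hG.2.2.2 (model_central_core hG hxT hxC)
      (hTL.symm ▸ htrans M hxT hcond L ι) fun h hh => hcent h ?_
    rwa [model_functorOf hW2 hT hG.2.1.1 TL hTL] at hh

end CfsgLib.Fusion
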