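import Cfsg.Agent.Lib.Fusion.InnerBasic
import Cfsg.Agent.Lib.Fusion.BadNormal
import Cfsg.Agent.Lib.PLocal.ZJ
import Cfsg.Prelude.Def_TwoFusion

/-!
Normal `p`-complement criteria for saturated systems from criteria on constrained groups.
-/

set_option autoImplicit false

namespace CfsgLib.Fusion

open Cfsg Cfsg.FusionSystem
open scoped Pointwise

universe u

variable {p : ℕ}

/-- A subgroup functor deciding `p`-nilpotency of constrained groups through strongly closed
subgroups. -/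
structure LocalCrit (p : ℕ) [Fact p.Prime] : Type (u + 1) where
  W : ∀ {G : Type u} [Group G], Subgroup G → Subgroup G
  W_le : ∀ {G : Type u} [Group G] (D : Subgroup G), W D ≤ D
  W_ne : ∀ {G : Type u} [Group G] [Finite G] {D : Subgroup G}, IsPGroup p D → D ≠ ⊥ → W D ≠ ⊥
  W_map : ∀ {G H : Type u} [Group G] [Group H] (f : G →* H) (D : Subgroup G), Disjoint D f.ker →
    (W D).map f = W (D.map f)
  group_crit : ∀ {L : Type u} [Group L] [Finite L] (T : Sylow p L) (D : Subgroup L),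
    IsStronglyClosed D (T : Subgroup L) → D ≠ ⊥ →
    Subgroup.centralizer ((pCore p L : Subgroup L) : Set L) ≤ pCore p L →
    Subgroup.normalizer ((W D : Subgroup L) : Set L) ≤ (T : Subgroup L) → (T : Subgroup L) = ⊤

variable [Fact p.Prime] (𝒲 : LocalCrit.{u} p)
variable {Ω : Type u} [Group Ω] {S : Subgroup Ω} {F : FusionSystem S}

theorem LocalCrit.W_ne' [Finite S] (hS : IsPGroup p S) {D : Subgroup Ω} (hD : D ≤ S) (hne : D ≠ ⊥) :
    𝒲.W D ≠ ⊥ := by
  have hf : Disjoint (D.subgroupOf S) S.subtype.ker := by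
    rw [S.ker_subtype]; exact disjoint_bot_right
  have h := 𝒲.W_map S.subtype _ hf
  rw [Subgroup.subgroupOf_map_subtype, inf_of_le_left hD] at h
  rw [← h, Ne, Subgroup.map_eq_bot_iff_of_injective _ S.subtype_injective]
  refine 𝒲.W_ne ((hS.to_le hD).of_equiv (Subgroup.subgroupOfEquivOfLe hD).symm) fun h0 => hne ?_
  rw [Subgroup.subgroupOf_eq_bot] at h0
  rw [← h0.eq_bot, inf_of_le_left hD]

theorem LocalCrit.normalizer_le (D : Subgroup Ω) :
    Subgroup.normalizer (D : Set Ω) ≤ Subgroup.normalizer ((𝒲.W D : Subgroup Ω) : Set Ω) := by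
  intro g hg
  rw [Subgroup.mem_normalizer_iff_map_conj_eq] at hg ⊢
  have h := 𝒲.W_map (MulAut.conj g).toMonoidHom D (by
    rw [(MonoidHom.ker_eq_bot_iff _).2 (MulAut.conj g).injective]; exact disjoint_bot_right)
  rw [show D.map (MulAut.conj g).toMonoidHom = D from hg] at h
  exact h

theorem stronglyClosed_inf {T : Subgroup Ω} {N : FusionSystem T} (hN : N.IsSubsystemOf F)
    {D : Subgroup Ω} (hD : F.StronglyClosed D) : N.StronglyClosed (D ⊓ T) :=
  ⟨inf_le_right, fun R hR φ hφ x =>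
    ⟨hD.2 R (hR.trans inf_le_left) φ (hN R hφ) x, hom_apply_mem hφ x⟩⟩

/-- A normal centric subgroup reduces the criterion to groups. -/
theorem inner_of_normal_centric [Finite S] (hS : IsPGroup p S) (hF : F.IsSaturated p)
    {R₀ : Subgroup Ω} (hn : F.IsNormal R₀) (hc : F.IsCentric R₀) {D : Subgroup Ω}
    (hD : F.StronglyClosed D) (hD1 : D ≠ ⊥) (hloc : LocTriv F p (𝒲.W D)) :
    F = innerFusionSystem S := by
  obtain ⟨L, _, ι, hG⟩ := exists_model_of_normal_centric hS hF hn hc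
  have hcb := model_isNormal_coreBack hG
  have hact := fun g => model_action hG hcb g
  have hcore := model_pCore_le hG
  obtain ⟨hfin, ⟨hinj, hiff⟩, ⟨T, hT⟩, hcent⟩ := hG
  set D' := (D.subgroupOf S).map ι with hD'
  have hDS := hD.1
  -- conjugation maps between cyclic subgroups
  have hsc : IsStronglyClosed D' (T : Subgroup L) := by
    refine ⟨fun x ⟨s, _, hsx⟩ => hT.ge ⟨s, hsx⟩, ?_⟩
    rintro _ ⟨s, hs, rfl⟩ g hg
    rw [hT] at hg
    have hle : Subgroup.zpowers (s : Ω) ≤ D := Subgroup.zpowers_le.2 hs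
    have hmem : ∀ z : Subgroup.zpowers (s : Ω), g * ι ⟨z, hDS (hle z.2)⟩ * g⁻¹ ∈ ι.range := by
      rintro ⟨z, hz⟩
      obtain ⟨k, rfl⟩ := Subgroup.mem_zpowers_iff.1 hz
      rw [show (⟨(s : Ω) ^ k, hDS (hle hz)⟩ : S) = s ^ k from Subtype.ext (by simp), map_zpow,
        ← conj_zpow]
      exact zpow_mem hg k
    let φ : Subgroup.zpowers (s : Ω) →* Ω := S.subtype.comp
      ((MonoidHom.ofInjective hinj).symm.toMonoidHom.comp
        (((MulAut.conj g).toMonoidHom.comp (ι.comp (Subgroup.inclusion (hle.trans hDS)))).codRestrict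
          ι.range hmem))
    have hφS : ∀ z, φ z ∈ S := fun z => ((MonoidHom.ofInjective hinj).symm _).2
    have hφv : ∀ z, ι ⟨φ z, hφS z⟩ = g * ι ⟨z, hDS (hle z.2)⟩ * g⁻¹ := fun z =>
      MonoidHom.apply_ofInjective_symm hinj ⟨_, hmem z⟩
    have h := hD.2 _ hle φ ((hiff _ (hle.trans hDS) φ hφS).2 ⟨g, hφv⟩)
      ⟨s, Subgroup.mem_zpowers _⟩
    exact ⟨⟨_, hφS _⟩, h, hφv _⟩
  have hD'1 : D' ≠ ⊥ := by
    rw [hD', Ne, Subgroup.map_eq_bot_iff_of_injective _ hinj, Subgroup.subgroupOf_eq_bot]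
    intro h
    exact hD1 (by rw [← inf_of_le_left hDS, h.eq_bot])
  have hWD : (((𝒲.W D).subgroupOf S).map ι : Subgroup L) = 𝒲.W D' := by
    have hdis : Disjoint (D.subgroupOf S) S.subtype.ker := by
      rw [S.ker_subtype]; exact disjoint_bot_right
    have h1 := 𝒲.W_map S.subtype _ hdis
    rw [Subgroup.subgroupOf_map_subtype, inf_of_le_left hDS] at h1
    rw [← h1, Subgroup.subgroupOf, Subgroup.comap_map_eq_self_of_injective S.subtype_injective,
      hD', 𝒲.W_map ι _ (by rw [(MonoidHom.ker_eq_bot_iff ι).2 hinj]; exact disjoint_bot_right)]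
  have hWS : 𝒲.W D ≤ S := (𝒲.W_le D).trans hDS
  set U := coreBack p ι with hU
  have hTN : (T : Subgroup L) ≤ Subgroup.normalizer ((𝒲.W D' : Subgroup L) : Set L) := by
    refine fun t ht => 𝒲.normalizer_le D' (Subgroup.mem_normalizer_iff.2 fun y => ?_)
    have h : ∀ t ∈ (T : Subgroup L), ∀ y ∈ D', t * y * t⁻¹ ∈ D' := fun t ht y hy =>
      hsc.2 y hy t ((T : Subgroup L).mul_mem ((T : Subgroup L).mul_mem ht (hsc.1 hy))
        ((T : Subgroup L).inv_mem ht))
    exact ⟨h t ht y, fun hy => by simpa [mul_assoc] using h t⁻¹ (inv_mem ht) _ hy⟩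
  have hTtop : (T : Subgroup L) = ⊤ := by
    refine 𝒲.group_crit T D' hsc hD'1 hcent (le_sylow_of_coprime_trivial T hTN fun h hh hco => ?_)
    -- a `p'`-element normalizing `W` centralizes the core
    set R := U ⊔ 𝒲.W D with hR
    have hRS : R ≤ S := sup_le hcb.1 hWS
    have hhR : ∀ z : R, h * ι ⟨z, hRS z.2⟩ * h⁻¹ ∈ ι.range ∧
        ∀ (hz : h * ι ⟨z, hRS z.2⟩ * h⁻¹ ∈ ι.range),
          ((MonoidHom.ofInjective hinj).symm ⟨_, hz⟩ : Ω) ∈ R := by
      have hle : R ≤ (((R.subgroupOf S).map ι).comap (MulAut.conj h).toMonoidHom |>.comap ι).map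
          S.subtype := by
        refine sup_le (fun x hx => ⟨⟨x, hcb.1 hx⟩, ?_, rfl⟩) fun x hx => ⟨⟨x, hWS hx⟩, ?_, rfl⟩
        · show h * ι ⟨x, hcb.1 hx⟩ * h⁻¹ ∈ (R.subgroupOf S).map ι
          obtain ⟨α, -, hα⟩ := hact h
          have := hα ⟨x, hx⟩
          refine ⟨Subgroup.inclusion hcb.1 (α ⟨x, hx⟩), Subgroup.mem_sup_left (α ⟨x, hx⟩).2, ?_⟩
          rw [eq_mul_inv_iff_mul_eq]
          exact this.symm
        · show h * ι ⟨x, hWS hx⟩ * h⁻¹ ∈ (R.subgroupOf S).map ι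
          have h1 : h * ι ⟨x, hWS hx⟩ * h⁻¹ ∈ 𝒲.W D' :=
            (Subgroup.mem_normalizer_iff.1 hh _).1 (hWD.le ⟨⟨x, hWS hx⟩, hx, rfl⟩)
          obtain ⟨s, hs, hsx⟩ := hWD.ge h1
          exact ⟨s, Subgroup.mem_sup_right (hs : (s : Ω) ∈ 𝒲.W D), hsx⟩
      intro z
      obtain ⟨s, hs, hsz⟩ := hle z.2
      obtain rfl : s = ⟨z, hRS z.2⟩ := Subtype.ext hsz
      obtain ⟨r, hr, hrv⟩ := hs
      refine ⟨⟨r, hrv⟩, fun hz => ?_⟩
      have he : (MonoidHom.ofInjective hinj).symm ⟨_, hz⟩ = r :=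
        hinj ((MonoidHom.apply_ofInjective_symm hinj ⟨_, hz⟩).trans hrv.symm)
      rw [he]
      exact hr
    let φ : R →* Ω := S.subtype.comp ((MonoidHom.ofInjective hinj).symm.toMonoidHom.comp
      (((MulAut.conj h).toMonoidHom.comp (ι.comp (Subgroup.inclusion hRS))).codRestrict ι.range
        fun z => (hhR z).1))
    have hφS : ∀ z, φ z ∈ S := fun z => ((MonoidHom.ofInjective hinj).symm _).2
    have hφv : ∀ z, ι ⟨φ z, hφS z⟩ = h * ι ⟨z, hRS z.2⟩ * h⁻¹ := fun z =>
      MonoidHom.apply_ofInjective_symm hinj ⟨_, (hhR z).1⟩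
    have hφF : φ ∈ F.Hom R := (hiff R hRS φ hφS).2 ⟨h, hφv⟩
    have := finite_le hRS
    have hφr : φ.range = R := Subgroup.eq_of_le_of_card_ge
      (by rintro _ ⟨z, rfl⟩; exact (hhR z).2 (hhR z).1)
      (le_of_eq (Nat.card_congr (MonoidHom.ofInjective (F.injective_of_mem hφF)).toEquiv))
    obtain ⟨b, hb, hbv⟩ := exists_iso hφF hφr
    have hbι : ∀ (k : ℕ) (z : R), ι ⟨(((b : MulAut R) ^ k) z : R), hRS (((b : MulAut R) ^ k) z).2⟩ =
        h ^ k * ι ⟨z, hRS z.2⟩ * (h ^ k)⁻¹ := by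
      intro k
      induction k with
      | zero => intro z; simp
      | succ k ih =>
          intro z
          rw [show (⟨((((b : MulAut R) ^ (k + 1)) z : R) : Ω), hRS (((b : MulAut R) ^ (k + 1)) z).2⟩ : S)
              = ⟨φ (((b : MulAut R) ^ k) z), hφS _⟩ from Subtype.ext (by
                rw [pow_succ', MulAut.mul_apply]; exact hbv _), hφv, ih, pow_succ']
          group
    have hb1 : (b : MulAut R) = 1 := by
      refine hloc R le_sup_right ?_ b ((mem_autGroup_iff_isoIn hRS).2 hb)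
        (hco.coprime_dvd_left ?_) fun z hz => ?_
      · refine fun x hx => ⟨hRS hx, 𝒲.normalizer_le D ?_⟩
        exact StronglyClosed.normal_in hD (hRS hx)
      · refine orderOf_dvd_of_pow_eq_one (MulEquiv.ext fun z => Subtype.ext ?_)
        have h1 := hbι (orderOf h) z
        rw [pow_orderOf_eq_one h, one_mul, inv_one, mul_one] at h1
        exact (congrArg Subtype.val (hinj h1) :)
      · have h1 := hbι 1 z
        rw [pow_one, pow_one] at h1
        have h2 : h * ι ⟨z, hRS z.2⟩ * h⁻¹ ∈ 𝒲.W D' :=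
          (Subgroup.mem_normalizer_iff.1 hh _).1 (hWD.le ⟨⟨z, hRS z.2⟩, hz, rfl⟩)
        rw [← h1] at h2
        obtain ⟨s, hs, hsx⟩ := hWD.ge h2
        rw [hinj hsx] at hs
        exact hs
    have hhc : h ∈ pCore p L := by
      refine hcent (Subgroup.mem_centralizer_iff.2 fun y hy => ?_)
      obtain ⟨s, hs⟩ := hcore hy
      have hsU : (s : Ω) ∈ U := mem_coreBack.2 (hs.symm ▸ hy)
      have h1 := hbι 1 ⟨s, Subgroup.mem_sup_left hsU⟩
      rw [pow_one, pow_one, hb1] at h1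
      rw [← hs]
      exact (mul_inv_eq_iff_eq_mul.1 h1.symm).symm
    obtain ⟨k, hk⟩ := Core.isPGroup_pCore p L ⟨h, hhc⟩
    exact orderOf_eq_one_iff.1 (Nat.eq_one_of_dvd_coprimes (hco.pow_right k) dvd_rfl
      (orderOf_dvd_of_pow_eq_one (congrArg Subtype.val hk)))
  refine fusionSystem_antisymm (fun P φ hφ => ?_) (innerFusionSystem_le F)
  have hPS := hom_le hφ
  obtain ⟨g, hg⟩ := (hiff P hPS φ (hom_apply_mem hφ)).1 hφ
  obtain ⟨s, rfl⟩ : g ∈ ι.range := by rw [← hT, hTtop]; trivial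
  refine ⟨hPS, s, s.2, fun x => ?_⟩
  have h := hg x
  rw [← map_inv, ← map_mul, ← map_mul] at h
  exact congrArg Subtype.val (hinj h)

/-- Without `p'`-automorphisms fixing a normal `Q`, the subgroup `Q C_S(Q)` is normal and centric. -/
theorem normal_centric_of_fixless [Finite S] (hS : IsPGroup p S) (hF : F.IsSaturated p)
    {Q : Subgroup Ω} (hQn : F.IsNormal Q)
    (h : ∀ R : Subgroup Ω, Q ≤ R → R ≤ S → ∀ b ∈ F.autGroup R, (orderOf b).Coprime p →
      (∀ y : R, (y : Ω) ∈ Q → b y = y) → b = 1) :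
    ∃ R₀ : Subgroup Ω, F.IsNormal R₀ ∧ F.IsCentric R₀ := by
  have hQS := hQn.1
  have hQsc := IsNormal.stronglyClosed hQn
  set R₀ := Q ⊔ centralizerIn S Q with hR₀
  have hR₀S : R₀ ≤ S := sup_le hQS (centralizerIn_le Q)
  have hcr : ∀ R : Subgroup Ω, F.IsCentric R → F.IsRadical p R → R₀ ≤ R := by
    intro R hc hr
    have hQR := IsNormal.le_centric_radical hS hQn hc hr
    by_contra hnot
    have hle : R ⊔ centralizerIn S Q ≤ S := sup_le hc.1 (centralizerIn_le Q)
    have := finite_le hle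
    have hlt : R < R ⊔ centralizerIn S Q := left_lt_sup.2 fun hC => hnot (sup_le hQR hC)
    obtain ⟨g, hg, hgR⟩ := exists_mem_normalizerIn_not_mem (hS.to_le hle) hlt
    obtain ⟨hgH, hgN⟩ := hg
    have hRC : R ≤ Subgroup.normalizer (centralizerIn S Q : Set Ω) := by
      intro r hr'
      refine Subgroup.inf_normalizer_le_normalizer_inf ⟨Subgroup.le_normalizer (hc.1 hr'), ?_⟩
      refine Subgroup.mem_normalizer_iff.2 fun z => ?_
      have hrQ := IsNormal.normal_in hQn (hc.1 hr')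
      simp only [Subgroup.mem_centralizer_iff]
      constructor
      · intro hz y hy
        have h := congrArg (fun w => r * w * r⁻¹)
          (hz (r⁻¹ * y * r) ((Subgroup.mem_normalizer_iff''.1 hrQ y).1 hy))
        simpa [mul_assoc] using h
      · intro hz y hy
        have h := congrArg (fun w => r⁻¹ * w * r)
          (hz (r * y * r⁻¹) ((Subgroup.mem_normalizer_iff.1 hrQ y).1 hy))
        simpa [mul_assoc] using h
    replace hgH : g ∈ (R : Set Ω) * (centralizerIn S Q : Set Ω) :=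
      (Subgroup.coe_mul_of_left_le_normalizer_right R _ hRC) ▸ hgH
    obtain ⟨r, hr', q, hq, rfl⟩ := hgH
    have hqN : q ∈ normalizerIn S R := ⟨(mem_centralizerIn.1 hq).1, by
      have := mul_mem (inv_mem (Subgroup.le_normalizer (H := R) hr')) hgN
      simpa using this⟩
    let K : Subgroup (F.autGroup R) :=
      { carrier := {a | ∀ y : R, (y : Ω) ∈ Q → (a : MulAut R) y = y}
        one_mem' := fun y _ => rfl
        mul_mem' := fun {a b} ha hb y hy => by
          show (a : MulAut R) ((b : MulAut R) y) = y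
          rw [hb y hy, ha y hy]
        inv_mem' := fun {a} ha y hy => by
          show (a : MulAut R)⁻¹ y = y
          conv_lhs => rw [← ha y hy]
          exact MulAut.inv_apply_self R _ y }
    have : K.Normal := ⟨fun b hb a y hy => by
      have h := StronglyClosed.apply_mem hQsc ((mem_autGroup_iff hc.1).1 (inv_mem a.2)) hy
      show (a : MulAut R) ((b : MulAut R) ((a : MulAut R)⁻¹ y)) = y
      rw [hb ((a : MulAut R)⁻¹ y) h, MulAut.apply_inv_self]⟩
    refine hgR (R.mul_mem hr' (mem_of_kernel hS hc hr K (fun b hb hbc => Subtype.ext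
      (h R hQR hc.1 b b.2 (by rwa [Subgroup.orderOf_coe]) hb)) ⟨q, hqN⟩ fun y hy => Subtype.ext ?_))
    show q * (y : Ω) * q⁻¹ = y
    rw [← (mem_centralizerIn.1 hq).2 _ hy, mul_inv_cancel_right]
  refine ⟨R₀, ?_, ?_⟩
  · refine isNormal_of_invariant hS hF fun P hP => ?_
    have hR₀P : R₀ ≤ P := by
      rcases hP with rfl | hP
      · exact hR₀S
      · exact hcr P hP.1 (IsEssential.isRadical hS hP)
    have hPS : P ≤ S := by
      rcases hP with rfl | hP
      · exact le_rfl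
      · exact hP.1.1
    have hQP : Q ≤ P := le_sup_left.trans hR₀P
    refine ⟨hR₀P, fun α hα => map_subgroupOf_eq hPS ?_⟩
    have hfinP := finite_le hPS
    have hsur : ∀ y : P, (y : Ω) ∈ Q → ((α⁻¹ y : P) : Ω) ∈ Q := fun y hy =>
      StronglyClosed.apply_mem hQsc ((mem_autGroup_iff hPS).1 (inv_mem hα)) hy
    have hle : R₀ ≤ (((R₀.subgroupOf P).comap α.toMonoidHom).map P.subtype) := by
      refine sup_le (fun y hy => ⟨⟨y, hQP hy⟩, ?_, rfl⟩) fun y hy =>
        ⟨⟨y, hR₀P (Subgroup.mem_sup_right hy)⟩, ?_, rfl⟩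
      · exact Subgroup.mem_sup_left
          (StronglyClosed.apply_mem hQsc ((mem_autGroup_iff hPS).1 hα) (x := ⟨y, hQP hy⟩) hy)
      · refine Subgroup.mem_sup_right (mem_centralizerIn.2 ⟨hPS (α _).2, fun q hq => ?_⟩)
        have h1 : α⁻¹ ⟨q, hQP hq⟩ * ⟨y, hR₀P (Subgroup.mem_sup_right hy)⟩ =
            ⟨y, hR₀P (Subgroup.mem_sup_right hy)⟩ * α⁻¹ ⟨q, hQP hq⟩ :=
          Subtype.ext ((mem_centralizerIn.1 hy).2 _ (hsur _ hq))
        have h2 := congrArg (fun z => ((α z : P) : Ω)) h1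
        simp only [map_mul, MulAut.apply_inv_self, Subgroup.coe_mul] at h2
        exact h2
    rintro _ ⟨y, hy, rfl⟩
    obtain ⟨z, hz, hzy⟩ := hle hy
    obtain rfl : z = y := Subtype.ext hzy
    exact hz
  · have hn : F.IsNormal R₀ := by
      refine (isNormal_iff_stronglyClosed_le hS hF).2 ⟨?_, hcr⟩
      refine ⟨hR₀S, fun P hP φ hφ x => ?_⟩
      obtain ⟨ψ, hψ, hψP, hψQ⟩ := hQn.2 P φ hφ
      have hmem : P ⊔ Q ≤ (((R₀.comap ψ)).map (P ⊔ Q).subtype) := by
        have hle : P ⊔ Q ≤ R₀ := sup_le hP le_sup_left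
        have key : ∀ z : ↥(P ⊔ Q), ψ z ∈ R₀ := by
          intro z
          obtain ⟨q, hq, c, hc, hqc⟩ : ∃ q ∈ Q, ∃ c ∈ centralizerIn S Q, q * c = (z : Ω) := by
            have hz : (z : Ω) ∈ ((Q ⊔ centralizerIn S Q : Subgroup Ω) : Set Ω) := hle z.2
            rw [Subgroup.coe_mul_of_right_le_normalizer_left Q _
              ((centralizerIn_le Q).trans (IsNormal.normal_in hQn))] at hz
            obtain ⟨q, hq, c, hc, h⟩ := hz
            exact ⟨q, hq, c, hc, h⟩
          have hc' : c ∈ P ⊔ Q := by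
            rw [show c = q⁻¹ * (z : Ω) by rw [← hqc]; group]
            exact mul_mem (inv_mem (Subgroup.mem_sup_right hq)) z.2
          rw [show z = ⟨q, Subgroup.mem_sup_right hq⟩ * ⟨c, hc'⟩ from Subtype.ext hqc.symm, map_mul]
          refine mul_mem (Subgroup.mem_sup_left (hψQ.le ⟨_, hq, rfl⟩))
            (Subgroup.mem_sup_right (mem_centralizerIn.2 ⟨hom_apply_mem hψ _, fun y hy => ?_⟩))
          obtain ⟨w, hw, rfl⟩ := hψQ.ge hy
          rw [← map_mul, ← map_mul]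
          exact congrArg ψ (Subtype.ext ((mem_centralizerIn.1 hc).2 _ hw))
        exact fun z hz => ⟨⟨z, hz⟩, key ⟨z, hz⟩, rfl⟩
      obtain ⟨z, hz, hzx⟩ := hmem (Subgroup.mem_sup_left x.2)
      rw [← hψP x, show Subgroup.inclusion le_sup_left x = z from Subtype.ext hzx.symm]
      exact hz
    refine ⟨hR₀S, fun P ⟨φ, hφ, hP⟩ => ?_⟩
    rw [← hP, (StronglyClosed.weaklyClosed (IsNormal.stronglyClosed hn)).2 φ hφ]
    exact (centralizerIn_antitone le_sup_left).trans le_sup_right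

/-- A factor system on the quotient group. -/
theorem exists_factor_quotient [Finite S] (hS : IsPGroup p S) (hF : F.IsSaturated p)
    {Q : Subgroup Ω} (hQ : F.StronglyClosed Q) :
    ∃ (Ω' : Type u) (_ : Group Ω') (θ : S →* Ω') (S' : Subgroup Ω') (E : FusionSystem S'),
      Finite S' ∧ IsPGroup p S' ∧ F.IsFactorSystem Q θ E ∧ E.IsSaturated p ∧
        (Q ≠ ⊥ → Nat.card S' < Nat.card S) := by
  have : (Q.subgroupOf S).Normal :=
    (Subgroup.normal_subgroupOf_iff_le_normalizer hQ.1).2 (StronglyClosed.normal_in hQ)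
  let θ : S →* S ⧸ Q.subgroupOf S := QuotientGroup.mk' _
  have hθ : ∀ s : S, θ s = 1 ↔ (s : Ω) ∈ Q := fun s => QuotientGroup.eq_one_iff s
  have hE : F.IsFactorSystem Q θ (factorSystem F hQ θ hθ (rfl : θ.range = θ.range)) :=
    ⟨hQ.1, hθ, rfl, fun _ _ => Iff.rfl⟩
  refine ⟨S ⧸ Q.subgroupOf S, inferInstance, θ, θ.range, _, inferInstance,
    IsPGroup.of_surjective hS θ.rangeRestrict θ.rangeRestrict_surjective, hE,
    factor_saturated hS hF hQ hE, fun hne => ?_⟩
  refine lt_of_le_of_lt (Subgroup.card_le_card_group θ.range) ?_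
  rw [Subgroup.card_eq_card_quotient_mul_card_subgroup (Q.subgroupOf S)]
  refine lt_mul_of_one_lt_right Nat.card_pos ((Subgroup.one_lt_card_iff_ne_bot _).2 fun h => hne ?_)
  rw [Subgroup.subgroupOf_eq_bot] at h
  rw [← h.eq_bot, inf_of_le_left hQ.1]

/-- The local criterion: the system is inner if `W D` has no bad automorphism. -/
theorem LocalCrit.criterion : ∀ (n : ℕ) {Ω : Type u} [Group Ω] {S : Subgroup Ω} [Finite S]
    {F : FusionSystem S}, Nat.card S = n → IsPGroup p S → F.IsSaturated p →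
    ∀ {D : Subgroup Ω}, F.StronglyClosed D → D ≠ ⊥ → LocTriv F p (𝒲.W D) →
      F = innerFusionSystem S := by
  intro n
  induction n using Nat.strong_induction_on with
  | _ n ih =>
  intro Ω _ S _ F hn hS hF D hD hD1 hloc
  by_contra hne
  have hDN := StronglyClosed.normal_in hD
  -- a bad subgroup with largest normalizer
  obtain ⟨X₀, hX₀1, hX₀S, hX₀⟩ := exists_bad hS hF hne
  obtain ⟨X₁, hX₁1, hX₁, hX₁n, -⟩ := exists_bad_fn hS hF hX₀S hX₀1 hX₀
  obtain ⟨X, ⟨hX1, hXn, hXbad⟩, hmax⟩ := Set.Finite.exists_maximalFor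
    (fun X => Nat.card (normalizerIn S X))
    {X | X ≠ ⊥ ∧ F.IsFullyNormalized X ∧ ¬ LocTriv F p X}
    (Set.Finite.subset (finite_setOf_le (S := S)) fun X hX => hX.2.1.1)
    ⟨X₁, hX₁1, hX₁n, hX₁⟩
  have hXS := hXn.1
  have hXN : S ≤ Subgroup.normalizer (X : Set Ω) := by
    by_contra hXN
    set T := normalizerIn S X with hT
    have hTS : T ≤ S := normalizerIn_le X
    have hTlt : T < S := lt_of_le_of_ne hTS fun h => hXN (h.ge.trans inf_le_right)
    have := finite_le hTS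
    have hNsys := normSystem_isNormalizerSystem F X hXS
    have hsub : (normSystem F X hXS).IsSubsystemOf F := fun P φ hφ => normalizerSystem_le hNsys hφ
    have hDT : D ⊓ T ≠ ⊥ := by
      intro h0
      have : (D.subgroupOf S).Normal := (Subgroup.normal_subgroupOf_iff_le_normalizer hD.1).2 hDN
      have hDS : D.subgroupOf S ≠ ⊥ := by
        rw [Ne, Subgroup.subgroupOf_eq_bot]
        exact fun h => hD1 (by rw [← h.eq_bot, inf_of_le_left hD.1])
      refine PGroups.inf_center_ne_bot hS hDS ((Subgroup.eq_bot_iff_forall _).2 ?_)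
      rintro z ⟨hzD, hzZ⟩
      have hzT : (z : Ω) ∈ T := centralizerIn_le_normalizerIn X (mem_centralizerIn.2
        ⟨z.2, fun x hx => congrArg Subtype.val (Subgroup.mem_center_iff.1 hzZ ⟨x, hXS hx⟩)⟩)
      exact Subtype.ext (Subgroup.mem_bot.1 (h0.le ⟨hzD, hzT⟩))
    have hNne : normSystem F X hXS ≠ innerFusionSystem T := fun h =>
      hXbad (locTriv_of_inner_normalizer hS hXS fun N hN P => by
        rw [hN P, ← hT, ← h]; rfl)
    have hbad2 : ¬ LocTriv F p (𝒲.W (D ⊓ T)) := fun h =>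
      hNne (ih (Nat.card T) (hn ▸ lt_of_le_of_ne (Subgroup.card_le_of_le hTS) fun e =>
          hTlt.ne (Subgroup.eq_of_le_of_card_ge hTS e.ge)) rfl (hS.to_le hTS)
        (normalizerSystem_saturated hS hF hXn hNsys) (stronglyClosed_inf hsub hD) hDT
        (h.mono hsub hTS))
    obtain ⟨X₂, hX₂1, hX₂, hX₂n, hcard⟩ := exists_bad_fn hS hF
      ((𝒲.W_le _).trans (inf_le_right.trans hTS))
      (𝒲.W_ne' hS (inf_le_right.trans hTS) hDT) hbad2
    have hlt : Nat.card T < Nat.card (normalizerIn S (𝒲.W (D ⊓ T))) := by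
      obtain ⟨g, ⟨hgS, hgT⟩, hgnot⟩ := exists_mem_normalizerIn_not_mem hS hTlt
      have hle : T ⊔ Subgroup.zpowers g ≤ normalizerIn S (𝒲.W (D ⊓ T)) := by
        refine sup_le (fun t ht => ⟨hTS ht, 𝒲.normalizer_le _ ?_⟩)
          (Subgroup.zpowers_le.2 ⟨hgS, 𝒲.normalizer_le _ ?_⟩)
        · exact Subgroup.inf_normalizer_le_normalizer_inf ⟨hDN (hTS ht), Subgroup.le_normalizer ht⟩
        · exact Subgroup.inf_normalizer_le_normalizer_inf ⟨hDN hgS, hgT⟩
      have := finite_le (normalizerIn_le (S := S) (𝒲.W (D ⊓ T)))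
      have hT2 : T < normalizerIn S (𝒲.W (D ⊓ T)) :=
        lt_of_le_of_ne (le_sup_left.trans hle) fun e =>
          hgnot (e.ge (hle (Subgroup.mem_sup_right (Subgroup.mem_zpowers g))))
      exact lt_of_le_of_ne (Subgroup.card_le_of_le hT2.le) fun e =>
        hT2.ne (Subgroup.eq_of_le_of_card_ge hT2.le e.ge)
    have := hmax ⟨hX₂1, hX₂n, hX₂⟩ (hlt.le.trans hcard)
    exact absurd this (not_le.2 (hlt.trans_le hcard))
  -- a largest bad normal subgroup
  obtain ⟨Q, ⟨hQ1, hQS, hQN, hQbad⟩, hQmax⟩ := Set.Finite.exists_maximal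
    (s := {Q | Q ≠ ⊥ ∧ Q ≤ S ∧ S ≤ Subgroup.normalizer (Q : Set Ω) ∧ ¬ LocTriv F p Q})
    (Set.Finite.subset (finite_setOf_le (S := S)) fun Q hQ => hQ.2.1) ⟨X, hX1, hXS, hXN, hXbad⟩
  obtain ⟨N, hNF, hNsat, hNQ, hNne, hcase⟩ := bad_normal_dichotomy hS hF hQS hQN hQbad
  have hNsub : N.IsSubsystemOf F := hNF
  have hDN' : N.StronglyClosed D := by
    have := stronglyClosed_inf hNsub hD
    rwa [inf_of_le_left hD.1] at this
  have hlocN := hloc.mono hNsub le_rfl
  rcases hcase with hfix | hact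
  · obtain ⟨R₀, hn₀, hc₀⟩ := normal_centric_of_fixless hS hNsat hNQ hfix
    exact hNne (inner_of_normal_centric 𝒲 hS hNsat hn₀ hc₀ hDN' hD1 hlocN)
  · by_cases hDQ : D ≤ Q
    · refine hNne (eq_inner_over hS hNsat hNQ fun R hQR hR b hb hc => ?_)
      refine hlocN R ((𝒲.W_le D).trans (hDQ.trans hQR))
        (fun x hx => ⟨hR hx, 𝒲.normalizer_le D (hDN (hR hx))⟩) b hb hc fun x hx => ?_
      obtain ⟨g, hg, hgQ⟩ := hact R hQR hR b hb
      obtain ⟨l, hl⟩ := hS ⟨g, hg⟩
      rw [eq_of_conj_on (fun x : R => (x : Ω)) (s := {x : R | (x : Ω) ∈ Q})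
        (fun y hy => StronglyClosed.apply_mem (IsNormal.stronglyClosed hNQ)
          ((mem_autGroup_iff hR).1 hb) hy) hc
        (show g ^ p ^ l = 1 by simpa using congrArg Subtype.val hl) hgQ x (hDQ (𝒲.W_le D hx))]
      exact hx
    · obtain ⟨Ω', _, θ, S', E, _, hS', hE, hEsat, hlt⟩ :=
        exists_factor_quotient hS hNsat (IsNormal.stronglyClosed hNQ)
      have hDbar := stronglyClosed_imageAlong hE (IsNormal.stronglyClosed hNQ) hDN'
      have hD1' : imageAlong θ D ≠ ⊥ := fun h => hDQ fun d hd =>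
        (hE.2.1 ⟨d, hD.1 hd⟩).1 (Subgroup.mem_bot.1 (h.le ⟨⟨d, hD.1 hd⟩, hd, rfl⟩))
      obtain ⟨Y, hQY, hYS, hYN, hY⟩ := exists_bad_above hS hNsat hNQ hNne hact hE fun hEne =>
        ⟨𝒲.W (imageAlong θ D), 𝒲.W_ne' hS' hDbar.1 hD1', (𝒲.W_le _).trans hDbar.1,
          (StronglyClosed.normal_in hDbar).trans (𝒲.normalizer_le _),
          fun h => hEne (ih _ (hn ▸ hlt hQ1) rfl hS' hEsat hDbar hD1' h)⟩
      have hY1 : Y ≠ ⊥ := fun h => not_lt_bot (h ▸ hQY)
      exact hQY.not_ge (hQmax ⟨hY1, hYS, hYN, fun h => hY (h.mono hNsub le_rfl)⟩ hQY.le)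

end CfsgLib.Fusion
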