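import Cfsg.Agent.Lib.Fusion.Alperin

/-!
Extending automorphisms of centric subgroups over a normalising element.
-/

set_option autoImplicit false

namespace CfsgLib.Fusion

open Cfsg Cfsg.FusionSystem

variable {Ω : Type*} [Group Ω] {S : Subgroup Ω} {F : FusionSystem S} {p : ℕ}

/-- Centric subgroups are fully centralised. -/
theorem fullyCentralized_of_centric [Finite S] {R : Subgroup Ω} (hc : F.IsCentric R) :
    F.IsFullyCentralized R := by
  refine ⟨hc.1, fun Q hQ => ?_⟩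
  obtain ⟨e, -⟩ := isConj_iff.1 hQ
  have := finite_le (centralizerIn_le (S := S) R)
  refine Nat.card_le_card_of_injective (fun x : centralizerIn S Q =>
    (⟨(e.symm ⟨x, hc.2 Q hQ x.2⟩ : R), hc.1 (e.symm ⟨x, hc.2 Q hQ x.2⟩).2, ?_⟩ :
      centralizerIn S R)) fun a b h => ?_
  · refine Subgroup.mem_centralizer_iff.2 fun y hy => ?_
    have h1 : (e ⟨y, hy⟩ : Ω) * x = x * e ⟨y, hy⟩ :=
      Subgroup.mem_centralizer_iff.1 x.2.2 _ (e ⟨y, hy⟩).2
    have h2 : (⟨y, hy⟩ : R) * e.symm ⟨x, hc.2 Q hQ x.2⟩ = e.symm ⟨x, hc.2 Q hQ x.2⟩ * ⟨y, hy⟩ :=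
      e.injective (by rw [map_mul, map_mul, MulEquiv.apply_symm_apply]; exact Subtype.ext h1)
    exact congrArg Subtype.val h2
  · have h' := e.symm.injective (Subtype.ext (congrArg Subtype.val h :) :
      e.symm ⟨a, hc.2 Q hQ a.2⟩ = e.symm ⟨b, hc.2 Q hQ b.2⟩)
    exact Subtype.ext (congrArg Subtype.val h' :)

/-- An automorphism of a centric subgroup carrying the action of `g` to that of `h` extends over
`g`, sending it into the coset of `h`. -/
theorem centric_extend [Fact p.Prime] [Finite S] (hS : IsPGroup p S) (hF : F.IsSaturated p)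
    {R : Subgroup Ω} (hc : F.IsCentric R) {α : MulAut R} (hα : α ∈ F.autGroup R)
    (g h : normalizerIn S R) (hgh : α * conjAut g = conjAut h * α) :
    ∃ ψ ∈ F.Hom (R ⊔ Subgroup.zpowers (g : Ω)),
      (∀ x : R, ψ (Subgroup.inclusion le_sup_left x) = (α x : Ω)) ∧
      ∃ r : R, ψ ⟨g, Subgroup.mem_sup_right (Subgroup.mem_zpowers _)⟩ = (r : Ω) * h := by
  have hφ : R.subtype.comp α.toMonoidHom ∈ F.Hom R := (mem_autGroup_iff hc.1).1 hα
  have hrange : (R.subtype.comp α.toMonoidHom).range = R := by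
    ext y
    exact ⟨fun ⟨x, hx⟩ => hx ▸ (α x).2, fun hy =>
      ⟨α.symm ⟨y, hy⟩, congrArg Subtype.val (α.apply_symm_apply ⟨y, hy⟩)⟩⟩
  have hv : ∀ x : R, (α ⟨g * x * (g : Ω)⁻¹, conj_mem_of_mem_normalizer g.2.2 x.2⟩ : Ω) =
      h * (α x : Ω) * (h : Ω)⁻¹ := fun x =>
    congrArg Subtype.val (DFunLike.congr_fun hgh x)
  obtain ⟨ψ, hψ, hψv⟩ := (IsSaturated.receptive hS hF (fullyCentralized_of_centric hc)).2 R _ hφ
    hrange
  have hle : R ⊔ Subgroup.zpowers (g : Ω) ≤ extender S R (R.subtype.comp α.toMonoidHom) :=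
    sup_le (le_extender hc.1 fun x => hc.1 (α x).2) (Subgroup.zpowers_le.2 (mem_extender_iff.2
      ⟨g.2.1, g.2.2, h, h.2.1, fun x _ => hv x⟩))
  refine ⟨ψ.comp (Subgroup.inclusion hle), restrict_mem hψ hle,
    fun x => hψv x x.2 (hle (Subgroup.mem_sup_left x.2)), ?_⟩
  set χ := ψ.comp (Subgroup.inclusion hle) with hχ
  set g' := χ ⟨g, Subgroup.mem_sup_right (Subgroup.mem_zpowers _)⟩ with hg'
  have hxv : ∀ x : R, χ (Subgroup.inclusion le_sup_left x) = (α x : Ω) := fun x =>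
    hψv x x.2 (hle (Subgroup.mem_sup_left x.2))
  have hkey : (h : Ω)⁻¹ * g' ∈ R := hc.2 R (isConj_refl hc.1) (mem_centralizerIn.2
    ⟨S.mul_mem (S.inv_mem h.2.1) (hom_apply_mem (restrict_mem hψ hle) _), fun y hy => ?_⟩)
  · refine ⟨⟨h * ((h : Ω)⁻¹ * g') * (h : Ω)⁻¹, conj_mem_of_mem_normalizer h.2.2 hkey⟩, ?_⟩
    simp [hg', mul_assoc]
  obtain ⟨x, hx⟩ : ∃ x : R, α x = ⟨y, hy⟩ := α.surjective _
  have h1 : g' * y * g'⁻¹ = (h : Ω) * y * (h : Ω)⁻¹ := by
    have e2 := hv x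
    rw [← hxv] at e2
    have hy' : y = χ (Subgroup.inclusion le_sup_left x) := by rw [hxv, hx]
    rw [show ((α x : R) : Ω) = y from congrArg Subtype.val hx, hy'] at e2
    rw [hy']
    rw [← e2, hg', ← map_inv, ← map_mul, ← map_mul]
    rfl
  calc y * ((h : Ω)⁻¹ * g') = (h : Ω)⁻¹ * ((h : Ω) * y * (h : Ω)⁻¹) * g' := by group
    _ = (h : Ω)⁻¹ * (g' * y * g'⁻¹) * g' := by rw [h1]
    _ = (h : Ω)⁻¹ * g' * y := by group

end CfsgLib.Fusion
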