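import Cfsg.Agent.Lib.Fusion.CenterIndexSquareOdd
import Cfsg.Agent.Lib.Fusion.AlperinGen
import Mathlib.GroupTheory.Nilpotent

/-!
# Fusion systems over groups with an abelian subgroup of index `p`

The essential subgroups outside the abelian subgroup and their automisers.
-/

set_option autoImplicit false

namespace CfsgLib.Fusion

open Cfsg Cfsg.FusionSystem
open scoped commutatorElement

variable {Ω : Type*} [Group Ω] {S A : Subgroup Ω} {F : FusionSystem S} {p : ℕ}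

/-- A nonabelian group `S` with an abelian subgroup `A` of index `p`. -/
structure AbIndex (S A : Subgroup Ω) (p : ℕ) : Prop where
  le : A ≤ S
  comm : ∀ a ∈ A, ∀ b ∈ A, a * b = b * a
  conj : ∀ g ∈ S, ∀ a ∈ A, g * a * g⁻¹ ∈ A
  gen : ∀ x ∈ S, x ∉ A → ∀ g ∈ S, ∃ a ∈ A, ∃ j : ℕ, g = a * x ^ j
  pow : ∀ g ∈ S, g ^ p ∈ A
  nonab : ∃ a ∈ S, ∃ b ∈ S, a * b ≠ b * a

theorem exists_abIndex [hp : Fact p.Prime] [Finite S] (hS : IsPGroup p S) (hna : ¬ IsMulCommutative S)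
    (hAS : A ≤ S) (hAc : IsMulCommutative A) (hidx : (A.subgroupOf S).index = p) : AbIndex S A p := by
  have hp' : p.Prime := hp.out
  have hN : (A.subgroupOf S).Normal := by
    refine Subgroup.normal_of_index_eq_minFac_card ?_
    obtain ⟨n, hn⟩ := hS.exists_card_eq
    have h : p ∣ Nat.card S := hidx ▸ (A.subgroupOf S).index_dvd_card
    rw [hidx, hn, hp'.pow_minFac]
    rintro rfl
    rw [hn, pow_zero, Nat.dvd_one] at h
    exact hp'.one_lt.ne' h
  have hcard : Nat.card (S ⧸ A.subgroupOf S) = p := by rw [← Subgroup.index_eq_card, hidx]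
  refine ⟨hAS, fun a ha b hb => congrArg Subtype.val (hAc.is_comm.comm (⟨a, ha⟩ : A) ⟨b, hb⟩),
    fun g hg a ha => hN.conj_mem (⟨a, hAS ha⟩ : S) ha ⟨g, hg⟩, fun x hx hxA g hg => ?_,
    fun g hg => ?_, ?_⟩
  · have h1 : (QuotientGroup.mk (⟨x, hx⟩ : S) : S ⧸ A.subgroupOf S) ≠ 1 := fun h =>
      hxA ((QuotientGroup.eq_one_iff (N := A.subgroupOf S) (⟨x, hx⟩ : S)).1 h)
    obtain ⟨j, hj⟩ := mem_powers_iff_mem_zpowers.2 (show (QuotientGroup.mk (⟨g, hg⟩ : S) :
      S ⧸ A.subgroupOf S) ∈ Subgroup.zpowers (QuotientGroup.mk (⟨x, hx⟩ : S)) from by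
        rw [zpowers_eq_top_of_prime_card hcard h1]; trivial)
    refine ⟨g * (x ^ j)⁻¹, ?_, j, by rw [inv_mul_cancel_right]⟩
    have : ((⟨g, hg⟩ : S) * ((⟨x, hx⟩ : S) ^ j)⁻¹) ∈ A.subgroupOf S := by
      rw [← QuotientGroup.eq_one_iff, QuotientGroup.mk_mul, QuotientGroup.mk_inv,
        QuotientGroup.mk_pow]
      simp only at hj
      rw [hj, mul_inv_cancel]
    exact this
  · have h := Subgroup.pow_index_mem (A.subgroupOf S) (⟨g, hg⟩ : S)
    rw [hidx] at h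
    exact h
  · by_contra h
    push Not at h
    exact hna ⟨⟨fun a b => Subtype.ext (h a a.2 b b.2)⟩⟩

/-- The intersection of the centre with the derived subgroup. -/
def centerDerived (S : Subgroup Ω) : Subgroup Ω := centerOf S ⊓ (commutator S).map S.subtype

variable (hA : AbIndex S A p) {x : Ω}

include hA

theorem AbIndex.center_le : centerOf S ≤ A := by
  intro c hc
  by_contra hcA
  obtain ⟨a, ha, b, hb, hab⟩ := hA.nonab
  obtain ⟨a', ha', i, rfl⟩ := hA.gen c (centerOf_le S hc) hcA a ha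
  obtain ⟨b', hb', j, rfl⟩ := hA.gen c (centerOf_le S hc) hcA b hb
  have hcc : ∀ y ∈ S, Commute c y := fun y hy => (centerOf_comm hc hy).symm
  refine hab (Commute.mul_left (Commute.mul_right (hA.comm a' ha' b' hb')
    ((hcc a' (hA.le ha')).symm.pow_right j)) (Commute.mul_right ((hcc b' (hA.le hb')).pow_left i)
    (Commute.pow_pow_self c i j))).eq

theorem AbIndex.fix_mem (hx : x ∈ S) (hxA : x ∉ A) {a : Ω} (ha : a ∈ A) (h : a * x = x * a) :
    a ∈ centerOf S := by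
  refine ⟨hA.le ha, Subgroup.mem_centralizer_iff.2 fun g hg => ?_⟩
  obtain ⟨b, hb, j, rfl⟩ := hA.gen x hx hxA g hg
  exact (Commute.mul_left (hA.comm b hb a ha) ((show Commute a x from h).symm.pow_left j)).eq

theorem AbIndex.pow_center (hx : x ∈ S) (hxA : x ∉ A) : x ^ p ∈ centerOf S :=
  hA.fix_mem hx hxA (hA.pow x hx) (Commute.pow_self x p).eq

theorem AbIndex.br_mem {a : Ω} (ha : a ∈ A) {y : Ω} (hy : y ∈ S) : ⁅a, y⁆ ∈ A := by
  rw [commutatorElement_def, show a * y * a⁻¹ * y⁻¹ = a * (y * a⁻¹ * y⁻¹) by group]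
  exact A.mul_mem ha (hA.conj y hy _ (A.inv_mem ha))

theorem AbIndex.br_mul {a b : Ω} (ha : a ∈ A) (hb : b ∈ A) {y : Ω} (hy : y ∈ S) :
    ⁅a * b, y⁆ = ⁅a, y⁆ * ⁅b, y⁆ := by
  rw [show ⁅a * b, y⁆ = a * ⁅b, y⁆ * a⁻¹ * ⁅a, y⁆ by simp only [commutatorElement_def]; group,
    hA.comm a ha _ (hA.br_mem hb hy), mul_inv_cancel_right,
    hA.comm _ (hA.br_mem hb hy) _ (hA.br_mem ha hy)]

/-- Every commutator is a commutator of an element of `A` with `x`. -/
theorem AbIndex.derived_le (hx : x ∈ S) (hxA : x ∉ A) {w : Ω}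
    (hw : w ∈ (commutator S).map S.subtype) : ∃ a ∈ A, ⁅a, x⁆ = w := by
  let B : Subgroup Ω :=
    { carrier := {w | ∃ a ∈ A, ⁅a, x⁆ = w}
      one_mem' := ⟨1, A.one_mem, commutatorElement_one_left x⟩
      mul_mem' := by
        rintro _ _ ⟨a, ha, rfl⟩ ⟨b, hb, rfl⟩
        exact ⟨a * b, A.mul_mem ha hb, hA.br_mul ha hb hx⟩
      inv_mem' := by
        rintro _ ⟨a, ha, rfl⟩
        refine ⟨a⁻¹, A.inv_mem ha, eq_inv_of_mul_eq_one_left ?_⟩
        rw [← hA.br_mul (A.inv_mem ha) ha hx, inv_mul_cancel, commutatorElement_one_left] }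
  have hpow : ∀ (j : ℕ) (a : Ω), a ∈ A → ⁅a, x ^ j⁆ ∈ B := by
    intro j
    induction j with
    | zero => intro a _; rw [pow_zero, commutatorElement_one_right]; exact B.one_mem
    | succ j ih =>
      intro a ha
      rw [show ⁅a, x ^ (j + 1)⁆ = ⁅a, x ^ j⁆ * ⁅x ^ j * a * (x ^ j)⁻¹, x⁆ by
        simp only [commutatorElement_def]; group]
      exact B.mul_mem (ih a ha) ⟨_, hA.conj _ (pow_mem hx j) a ha, rfl⟩
  suffices h : (commutator S).map S.subtype ≤ B from h hw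
  rw [Subgroup.map_le_iff_le_comap, commutator_def, Subgroup.commutator_le]
  rintro ⟨g, hg⟩ - ⟨h, hh⟩ -
  show ⁅g, h⁆ ∈ B
  obtain ⟨a, ha, i, rfl⟩ := hA.gen x hx hxA g hg
  obtain ⟨b, hb, j, rfl⟩ := hA.gen x hx hxA h hh
  have hbi := hA.conj _ (pow_mem hx i) b hb
  have haj := hA.conj _ (pow_mem hx j) _ (A.inv_mem ha)
  have key : ⁅a * x ^ i, b * x ^ j⁆ = a * (x ^ i * b * (x ^ i)⁻¹) * (x ^ j * a⁻¹ * (x ^ j)⁻¹) * b⁻¹ := by
    simp only [commutatorElement_def]; group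
  rw [key, mul_assoc a, hA.comm _ hbi _ haj, ← mul_assoc a, mul_assoc _ _ b⁻¹,
    show a * (x ^ j * a⁻¹ * (x ^ j)⁻¹) = ⁅a, x ^ j⁆ by simp only [commutatorElement_def]; group,
    show x ^ i * b * (x ^ i)⁻¹ * b⁻¹ = ⁅b, x ^ i⁆⁻¹ by simp only [commutatorElement_def]; group]
  exact B.mul_mem (hpow j a ha) (B.inv_mem (hpow i b hb))

theorem AbIndex.br_derived {a : Ω} (ha : a ∈ A) {y : Ω} (hy : y ∈ S) :
    ⁅a, y⁆ ∈ (commutator S).map S.subtype :=
  ⟨⁅(⟨a, hA.le ha⟩ : S), ⟨y, hy⟩⁆, Subgroup.commutator_mem_commutator (Subgroup.mem_top _)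
    (Subgroup.mem_top _), rfl⟩

theorem AbIndex.centerDerived_ne_bot [Fact p.Prime] [Finite S] (hS : IsPGroup p S) :
    centerDerived S ≠ ⊥ := by
  intro h
  have hne : commutator S ≠ ⊥ := by
    intro hb
    obtain ⟨a, ha, b, hb', hab⟩ := hA.nonab
    have : ⁅(⟨a, ha⟩ : S), ⟨b, hb'⟩⁆ ∈ commutator S :=
      Subgroup.commutator_mem_commutator (Subgroup.mem_top _) (Subgroup.mem_top _)
    rw [hb, Subgroup.mem_bot, commutatorElement_eq_one_iff_mul_comm] at this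
    exact hab (congrArg Subtype.val this)
  refine PGroups.inf_center_ne_bot hS (N := commutator S) hne (eq_bot_iff.2 fun s hs => ?_)
  refine Subgroup.mem_bot.2 (Subtype.ext (Subgroup.mem_bot.1 (h.le ?_)))
  exact ⟨(mem_centerOf_iff s).2 hs.2, s, hs.1, rfl⟩

/-- An essential subgroup is not inside `A` unless it equals `A`. -/
theorem AbIndex.ess_shape {E : Subgroup Ω} (hE : F.IsEssential p E) (hne : E ≠ A) :
    centerOf S ≤ E ∧ ∃ x ∈ E, x ∉ A ∧
      ((∀ a ∈ E, ∀ b ∈ E, a * b = b * a) → E = centerOf S ⊔ Subgroup.zpowers x) ∧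
      (¬ (∀ a ∈ E, ∀ b ∈ E, a * b = b * a) →
        (∀ c ∈ E, (∀ g ∈ E, c * g = g * c) → c ∈ centerOf S) ∧
        ∃ b ∈ E, b ∈ A ∧ b ∉ centerOf S) := by
  have hES : E ≤ S := hE.1.1
  have hCE : centralizerIn S E ≤ E := hE.1.2 E (isConj_refl hES)
  have hZE : centerOf S ≤ E := fun c hc => hCE (mem_centralizerIn.2
    ⟨hc.1, fun y hy => centerOf_comm hc (hES hy)⟩)
  obtain ⟨x, hxE, hxA⟩ : ∃ x ∈ E, x ∉ A := by
    by_contra h
    push Not at h
    have : A ≤ E := fun a ha => hCE (mem_centralizerIn.2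
      ⟨hA.le ha, fun y hy => hA.comm y (h y hy) a ha⟩)
    exact hne (le_antisymm h this)
  refine ⟨hZE, x, hxE, hxA, fun hab => le_antisymm (fun g hg => ?_)
    (sup_le hZE (Subgroup.zpowers_le.2 hxE)), fun hnab => ?_⟩
  · obtain ⟨a, ha, j, rfl⟩ := hA.gen x (hES hxE) hxA g (hES hg)
    have haE : a ∈ E := by simpa using E.mul_mem hg (E.inv_mem (E.pow_mem hxE j))
    exact Subgroup.mul_mem_sup (hA.fix_mem (hES hxE) hxA ha (hab a haE x hxE))
      (Subgroup.pow_mem _ (Subgroup.mem_zpowers x) j)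
  · have hb : ∃ b ∈ E, b ∈ A ∧ b ∉ centerOf S := by
      by_contra h
      push Not at h
      refine hnab fun g hg g' hg' => ?_
      obtain ⟨a, ha, j, rfl⟩ := hA.gen x (hES hxE) hxA g (hES hg)
      obtain ⟨a', ha', j', rfl⟩ := hA.gen x (hES hxE) hxA g' (hES hg')
      have hc : ∀ (c : Ω) (i : ℕ), c * x ^ i ∈ E → c ∈ A → ∀ y ∈ S, Commute c y :=
        fun c i hci hcA y hy => (centerOf_comm (h c
          (by simpa using E.mul_mem hci (E.inv_mem (E.pow_mem hxE i))) hcA) hy).symm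
      have hca := hc a j hg ha
      have hca' := hc a' j' hg' ha'
      exact (Commute.mul_left (Commute.mul_right (hca _ (hA.le ha'))
        (hca _ (pow_mem (hES hxE) j'))) (Commute.mul_right ((hca' _ (pow_mem (hES hxE) j)).symm)
        (Commute.pow_pow_self x j j'))).eq
    refine ⟨fun c hc hcc => ?_, hb⟩
    obtain ⟨b, hbE, hbA, hbZ⟩ := hb
    by_cases hcA : c ∈ A
    · exact hA.fix_mem (hES hxE) hxA hcA (hcc x hxE)
    · exact absurd (hA.fix_mem (hES hc) hcA hbA (hcc b hbE).symm) hbZ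

omit hA in
/-- `Aut(S)` preserves the centre. -/
theorem aut_centerOf {σ : MulAut S} {s : S} (hs : (s : Ω) ∈ centerOf S) :
    ((σ s : S) : Ω) ∈ centerOf S := by
  rw [mem_centerOf_iff, Subgroup.mem_center_iff] at *
  intro g
  have := congrArg σ (hs (σ⁻¹ g))
  rwa [map_mul, map_mul, MulAut.apply_inv_self] at this

omit hA in
theorem aut_centerDerived {σ : MulAut S} {s : S} (hs : (s : Ω) ∈ centerDerived S) :
    ((σ s : S) : Ω) ∈ centerDerived S := by
  obtain ⟨hc, t, ht, hts⟩ := hs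
  refine ⟨aut_centerOf hc, σ t, ?_, congrArg (fun w : S => ((σ w : S) : Ω)) (Subtype.ext hts)⟩
  exact (Subgroup.characteristic_iff_map_le.1 inferInstance σ) ⟨t, ht, rfl⟩

omit hA in
theorem card_sup_zpowers_of_pow_mem [hp : Fact p.Prime] {Z : Subgroup Ω} [Finite Z] {x : Ω}
    (hcomm : ∀ c ∈ Z, c * x = x * c) (hxp : x ^ p ∈ Z) (hxZ : x ∉ Z) :
    Nat.card (Z ⊔ Subgroup.zpowers x : Subgroup Ω) = p * Nat.card Z ∧
      ∀ g ∈ Z ⊔ Subgroup.zpowers x, ∃ c ∈ Z, ∃ j : ℕ, g = c * x ^ j := by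
  have hp' : p.Prime := hp.out
  have hxk : ∀ k : ℤ, x ^ k ∈ Z → (p : ℤ) ∣ k := by
    intro k hk
    by_contra hd
    obtain ⟨a, b, hab⟩ := (Nat.prime_iff_prime_int.1 hp').coprime_iff_not_dvd.2 hd
    refine hxZ ?_
    rw [← zpow_one x, ← hab, zpow_add, zpow_mul', zpow_mul']
    exact Z.mul_mem (Z.zpow_mem (by rw [zpow_natCast]; exact hxp) a) (Z.zpow_mem hk b)
  let B : Subgroup Ω :=
    { carrier := {g | ∃ c ∈ Z, ∃ k : ℤ, g = c * x ^ k}
      one_mem' := ⟨1, Z.one_mem, 0, by simp⟩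
      mul_mem' := by
        rintro _ _ ⟨c, hc, k, rfl⟩ ⟨d, hd, l, rfl⟩
        refine ⟨c * d, Z.mul_mem hc hd, k + l, ?_⟩
        rw [zpow_add, mul_assoc c, ← mul_assoc (x ^ k),
          ← ((show Commute d x from hcomm d hd).zpow_right k).eq]
        group
      inv_mem' := by
        rintro _ ⟨c, hc, k, rfl⟩
        refine ⟨c⁻¹, Z.inv_mem hc, -k, ?_⟩
        rw [mul_inv_rev, ← zpow_neg]
        exact (((show Commute c x from hcomm c hc).zpow_right (-k)).inv_left).eq.symm }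
  have hB : Z ⊔ Subgroup.zpowers x = B := by
    refine le_antisymm (sup_le (fun c hc => ⟨c, hc, 0, by simp⟩)
      (Subgroup.zpowers_le.2 ⟨1, Z.one_mem, 1, by simp⟩)) ?_
    rintro _ ⟨c, hc, k, rfl⟩
    exact Subgroup.mul_mem_sup hc (Subgroup.zpow_mem _ (Subgroup.mem_zpowers x) k)
  let f : Z × Fin p → B := fun t => ⟨t.1 * x ^ (t.2 : ℕ), t.1, t.1.2, (t.2 : ℕ), by rw [zpow_natCast]⟩
  have hsurj : ∀ g ∈ B, ∃ c ∈ Z, ∃ j : ℕ, j < p ∧ g = c * x ^ j := by
    rintro _ ⟨c, hc, k, rfl⟩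
    have hp0 : (p : ℤ) ≠ 0 := by exact_mod_cast hp'.ne_zero
    refine ⟨c * x ^ ((p : ℤ) * (k / p)), Z.mul_mem hc (by
      rw [zpow_mul, zpow_natCast]; exact Z.zpow_mem hxp _), (k % p).toNat, ?_, ?_⟩
    · have := Int.emod_lt_of_pos k (show (0 : ℤ) < p by exact_mod_cast hp'.pos)
      have := Int.emod_nonneg k hp0
      omega
    · rw [← zpow_natCast x (k % p).toNat, Int.toNat_of_nonneg (Int.emod_nonneg k hp0), mul_assoc,
        ← zpow_add, Int.mul_ediv_add_emod]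
  have hf : Function.Bijective f := by
    constructor
    · rintro ⟨c, i⟩ ⟨d, j⟩ h
      have h' : (c : Ω) * x ^ (i : ℕ) = d * x ^ (j : ℕ) := congrArg Subtype.val h
      have h1 : x ^ ((i : ℤ) - j) ∈ Z := by
        rw [zpow_sub, zpow_natCast, zpow_natCast,
          show x ^ (i : ℕ) = (c : Ω)⁻¹ * (d * x ^ (j : ℕ)) by rw [← h', inv_mul_cancel_left]]
        simpa [mul_assoc] using Z.mul_mem (Z.inv_mem c.2) d.2
      have hij : i = j := by
        have := hxk _ h1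
        have := Int.eq_zero_of_abs_lt_dvd this (by
          have := i.2; have := j.2
          rw [abs_lt]; constructor <;> omega)
        exact Fin.ext (by omega)
      subst hij
      exact Prod.ext (Subtype.ext (mul_right_cancel h')) rfl
    · rintro ⟨g, hg⟩
      obtain ⟨c, hc, j, hj, rfl⟩ := hsurj g hg
      exact ⟨(⟨c, hc⟩, ⟨j, hj⟩), rfl⟩
  rw [hB]
  refine ⟨?_, fun g hg => ?_⟩
  · rw [← Nat.card_eq_of_bijective f hf, Nat.card_prod, Nat.card_fin, mul_comm]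
  · obtain ⟨c, hc, j, -, h⟩ := hsurj g hg
    exact ⟨c, hc, j, h⟩

/-- Maps on subgroups larger than `Z(S)⟨x⟩` agree on the centre with automorphisms of `S`. -/
theorem AbIndex.map_center [hp : Fact p.Prime] [Finite S] (hS : IsPGroup p S) (hF : F.IsSaturated p)
    (hAe : ¬ F.IsEssential p A) {P : Subgroup Ω} {φ : P →* Ω} (hφ : φ ∈ F.Hom P)
    (hZP : centerOf S ≤ P) (hlt : p * Nat.card (centerOf S) < Nat.card P) :
    ∃ σ ∈ F.autGroup S, ∀ (c : Ω) (hc : c ∈ P) (hs : c ∈ S), c ∈ centerOf S →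
      φ ⟨c, hc⟩ = ((σ ⟨c, hs⟩ : S) : Ω) := by
  let Good : (P : Subgroup Ω) → (P →* Ω) → Prop := fun P φ =>
    (centerOf S ≤ P ∨ centerOf S ≤ φ.range) → p * Nat.card (centerOf S) < Nat.card P →
      centerOf S ≤ P ∧ ∃ σ ∈ F.autGroup S, ∀ (c : Ω) (hc : c ∈ P) (hs : c ∈ S), c ∈ centerOf S →
        φ ⟨c, hc⟩ = ((σ ⟨c, hs⟩ : S) : Ω)
  let E' : FusionSystem S :=
    { Hom := fun P => {φ | φ ∈ F.Hom P ∧ Good P φ}
      le_of_mem := fun h => F.le_of_mem h.1
      injective_of_mem := fun h => F.injective_of_mem h.1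
      conj_mem := by
        intro P g hP hg
        refine ⟨F.conj_mem hP hg, fun hZ _ => ⟨?_, MulAut.conj (⟨g, hg⟩ : S),
          inn_le_autGroup le_rfl ⟨⟨g, hg⟩, rfl⟩, fun c _ _ _ => rfl⟩⟩
        rcases hZ with hZ | hZ
        · exact hZ
        intro c hc
        obtain ⟨y, hy⟩ := hZ hc
        have h1 : g * (y : Ω) * g⁻¹ = c := hy
        have h2 : (y : Ω) = c := by
          rw [show (y : Ω) = g⁻¹ * (g * (y : Ω) * g⁻¹) * g by group, h1, mul_assoc,
            ← centerOf_comm hc hg, inv_mul_cancel_left]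
        exact h2 ▸ y.2
      comp_mem := by
        rintro P Q φ ψ ⟨hφ, gφ⟩ ⟨hψ, gψ⟩ h
        refine ⟨F.comp_mem hφ hψ h, fun hZ hlt => ?_⟩
        have := finite_le (hom_le hψ)
        have hcard : Nat.card P ≤ Nat.card Q :=
          Nat.card_le_card_of_injective (fun y : P => (⟨φ y, h y⟩ : Q)) fun a b hab =>
            F.injective_of_mem hφ (congrArg Subtype.val hab)
        have hpre : centerOf S ≤ P ∨ centerOf S ≤ φ.range := by
          rcases hZ with hZ | hZ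
          · exact Or.inl hZ
          obtain ⟨hZQ, τ, hτ, hτv⟩ := gψ (Or.inr fun c hc => by
            obtain ⟨y, hy⟩ := hZ hc
            exact ⟨⟨φ y, h y⟩, hy⟩) (hlt.trans_le hcard)
          refine Or.inr fun c hc => ?_
          have hcS := centerOf_le S hc
          have hd : ((τ ⟨c, hcS⟩ : S) : Ω) ∈ centerOf S := aut_centerOf (σ := τ) (s := ⟨c, hcS⟩) hc
          obtain ⟨y, hy⟩ := hZ hd
          refine ⟨y, ?_⟩
          have h1 : ψ ⟨φ y, h y⟩ = ψ ⟨c, hZQ hc⟩ := hy.trans (hτv c (hZQ hc) hcS hc).symm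
          exact congrArg Subtype.val (F.injective_of_mem hψ h1)
        obtain ⟨hZP, σ, hσ, hσv⟩ := gφ hpre hlt
        have hZQ : centerOf S ≤ Q := fun c hc => by
          have hc' : ((σ⁻¹ ⟨c, hc.1⟩ : S) : Ω) ∈ centerOf S :=
            aut_centerOf (σ := σ⁻¹) (s := ⟨c, hc.1⟩) hc
          have h1 := hσv _ (hZP hc') (σ⁻¹ ⟨c, hc.1⟩).2 hc'
          rw [Subtype.coe_eta, MulAut.apply_inv_self] at h1
          have h2 := h ⟨_, hZP hc'⟩
          rw [h1] at h2
          exact h2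
        obtain ⟨-, τ, hτ, hτv⟩ := gψ (Or.inl hZQ) (hlt.trans_le hcard)
        refine ⟨hZP, τ * σ, mul_mem hτ hσ, fun c hc hs hcZ => ?_⟩
        have h1 := hσv c hc hs hcZ
        have h2 : φ ⟨c, hc⟩ ∈ centerOf S := h1.symm ▸ aut_centerOf (σ := σ) (s := ⟨c, hs⟩) hcZ
        show ψ ⟨φ ⟨c, hc⟩, h ⟨c, hc⟩⟩ = _
        rw [hτv _ _ (centerOf_le S h2) h2, MulAut.mul_apply]
        exact congrArg (fun w : S => ((τ w : S) : Ω)) (Subtype.ext h1)
      inv_mem := by
        rintro P φ ⟨hφ, gφ⟩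
        obtain ⟨ψ, hψ, hψv⟩ := F.inv_mem hφ
        refine ⟨ψ, ⟨hψ, fun hZ hlt => ?_⟩, hψv⟩
        have hcard : Nat.card φ.range = Nat.card P :=
          (Nat.card_congr (MonoidHom.ofInjective (F.injective_of_mem hφ)).toEquiv).symm
        have hpre : centerOf S ≤ P ∨ centerOf S ≤ φ.range := by
          rcases hZ with hZ | hZ
          · exact Or.inr hZ
          · refine Or.inl fun c hc => ?_
            obtain ⟨⟨_, y, rfl⟩, hy⟩ := hZ hc
            rw [hψv y] at hy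
            exact hy ▸ y.2
        obtain ⟨hZP, σ, hσ, hσv⟩ := gφ hpre (hcard ▸ hlt)
        refine ⟨fun c hc => ?_, σ⁻¹, inv_mem hσ, fun c hc hs hcZ => ?_⟩
        · have hd : ((σ⁻¹ ⟨c, hc.1⟩ : S) : Ω) ∈ centerOf S :=
            aut_centerOf (σ := σ⁻¹) (s := ⟨c, hc.1⟩) hc
          have h1 := hσv _ (hZP hd) (σ⁻¹ ⟨c, hc.1⟩).2 hd
          rw [Subtype.coe_eta, MulAut.apply_inv_self] at h1
          exact ⟨_, h1⟩
        · have hd : ((σ⁻¹ ⟨c, hs⟩ : S) : Ω) ∈ centerOf S :=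
            aut_centerOf (σ := σ⁻¹) (s := ⟨c, hs⟩) hcZ
          have h1 := hσv _ (hZP hd) (σ⁻¹ ⟨c, hs⟩).2 hd
          rw [Subtype.coe_eta, MulAut.apply_inv_self] at h1
          rw [← hψv ⟨_, hZP hd⟩]
          exact congrArg ψ (Subtype.ext h1.symm) }
  have hle : F ≤ E' := by
    refine alperin_gen hS hF E' (fun α hα => ?_) fun P hPS hP _ => ?_
    · refine (mem_autGroup_iff (F := E') le_rfl).2 ⟨(mem_autGroup_iff le_rfl).1 hα, fun _ _ =>
        ⟨centerOf_le S, α, hα, fun c hc hs _ => rfl⟩⟩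
    by_cases hlt : p * Nat.card (centerOf S) < Nat.card P
    swap
    · exact le_trans (fun α hα => (mem_autGroup_iff (F := E') hP.1.1).2 ⟨(mem_autGroup_iff hP.1.1).1 hα,
        fun _ h => absurd h hlt⟩) le_sup_left
    obtain ⟨hZP, x, hxP, hxA, hab, hnab⟩ := hA.ess_shape hP fun h => hAe (h ▸ hP)
    have hna : ¬ (∀ a ∈ P, ∀ b ∈ P, a * b = b * a) := by
      intro h
      have := finite_le (S := S) (centerOf_le S)
      rw [hab h, (card_sup_zpowers_of_pow_mem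
        (fun c hc => (centerOf_comm hc (hP.1.1 hxP)).symm) (hA.pow_center (hP.1.1 hxP) hxA)
        (fun h => hxA (hA.center_le h))).1] at hlt
      exact lt_irrefl _ hlt
    obtain ⟨hcen, -⟩ := hnab hna
    obtain ⟨g, hg, hgP⟩ := exists_mem_normalizerIn_not_mem hS hPS
    refine autGroup_le_fix_sup_ext hS hF hP.2.1 ((centerOf S).subgroupOf P) (fun a _ c hc => ?_)
      ⟨g, hg⟩ hgP (fun c hc => ?_) _ fun a ha hfix => ?_
    · refine Subgroup.mem_subgroupOf.2 (hcen _ (a c).2 fun y hy => ?_)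
      have h1 : c * a⁻¹ ⟨y, hy⟩ = a⁻¹ ⟨y, hy⟩ * c :=
        Subtype.ext (centerOf_comm (Subgroup.mem_subgroupOf.1 hc) (hP.1.1 (a⁻¹ ⟨y, hy⟩).2)).symm
      have h2 := congrArg a h1
      rw [map_mul, map_mul, MulAut.apply_inv_self] at h2
      exact congrArg Subtype.val h2
    · refine Subtype.ext ?_
      rw [conjAut_apply, centerOf_comm (Subgroup.mem_subgroupOf.1 hc) hg.1, mul_inv_cancel_right]
    · refine (mem_autGroup_iff (F := E') hP.1.1).2 ⟨(mem_autGroup_iff hP.1.1).1 ha, fun _ _ =>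
        ⟨hZP, 1, one_mem _, fun c hc hs hcZ => ?_⟩⟩
      exact congrArg Subtype.val (hfix ⟨c, hc⟩ hcZ)
  exact ((hle P hφ).2 (Or.inl hZP) hlt).2

omit hA in
/-- The stabiliser of the series `1 ≤ D ≤ E` in `G`. -/
theorem exists_seriesStab [Fact p.Prime] {E : Type*} [Group E] [Finite E] (hE : IsPGroup p E)
    (G : Subgroup (MulAut E)) (D : Subgroup E) :
    ∃ K : Subgroup (MulAut E), K ≤ G ∧ IsPGroup p K ∧
      (∀ σ, σ ∈ K ↔ σ ∈ G ∧ (∀ d ∈ D, σ d = d) ∧ ∀ e, e⁻¹ * σ e ∈ D) ∧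
      ∀ γ ∈ G, (∀ d ∈ D, γ d ∈ D) → γ ∈ Subgroup.normalizer (K : Set (MulAut E)) := by
  let K : Subgroup (MulAut E) :=
    { carrier := {σ | σ ∈ G ∧ (∀ d ∈ D, σ d = d) ∧ ∀ e, e⁻¹ * σ e ∈ D}
      one_mem' := ⟨G.one_mem, fun d _ => rfl, fun e => by simp⟩
      mul_mem' := by
        rintro σ τ ⟨hσ, hσd, hσe⟩ ⟨hτ, hτd, hτe⟩
        refine ⟨G.mul_mem hσ hτ, fun d hd => by rw [MulAut.mul_apply, hτd d hd, hσd d hd],
          fun e => ?_⟩
        have h := D.mul_mem (hτe e) (hσe (τ e))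
        rwa [mul_assoc, mul_inv_cancel_left] at h
      inv_mem' := by
        rintro σ ⟨hσ, hσd, hσe⟩
        refine ⟨G.inv_mem hσ, fun d hd => σ.injective (by rw [MulAut.apply_inv_self, hσd d hd]),
          fun e => ?_⟩
        have h := D.inv_mem (hσe (σ⁻¹ e))
        rwa [MulAut.apply_inv_self, mul_inv_rev, inv_inv] at h }
  refine ⟨K, fun σ h => h.1, ?_, fun σ => Iff.rfl, fun γ hγ hγD => ?_⟩
  · obtain ⟨k, hk⟩ := hE.exists_card_eq
    intro σ
    refine ⟨k, Subtype.ext (MulEquiv.ext fun e => ?_)⟩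
    show ((σ : MulAut E) ^ p ^ k) e = e
    exact PGroups.Transvections.pow_fix (v := e⁻¹ * (σ : MulAut E) e) (by rw [mul_inv_cancel_left])
      (σ.2.2.1 _ (σ.2.2.2 e)) (by rw [← hk]; exact pow_card_eq_one')
  · have hsurj : ∀ d ∈ D, γ⁻¹ d ∈ D := by
      intro d hd
      have hmap : D.map γ.toMonoidHom = D := Subgroup.eq_of_le_of_card_ge
        (by rintro _ ⟨y, hy, rfl⟩; exact hγD y hy)
        (le_of_eq (Subgroup.card_map_of_injective γ.injective).symm)
      obtain ⟨y, hy, rfl⟩ := hmap.ge hd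
      rw [show γ.toMonoidHom y = γ y from rfl, MulAut.inv_apply_self]
      exact hy
    haveI : Finite (MulAut E) := Finite.of_injective _ (DFunLike.coe_injective (F := E ≃* E))
    refine Subgroup.mem_normalizer_iff_map_conj_eq.2 (Subgroup.eq_of_le_of_card_ge ?_
      (le_of_eq (Subgroup.card_map_of_injective (MulAut.conj γ).injective).symm))
    rintro _ ⟨σ, ⟨hσ, hσd, hσe⟩, rfl⟩
    refine ⟨G.mul_mem (G.mul_mem hγ hσ) (G.inv_mem hγ), fun d hd => ?_, fun e => ?_⟩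
    · show γ (σ (γ⁻¹ d)) = d
      rw [hσd _ (hsurj d hd), MulAut.apply_inv_self]
    · have h := hγD _ (hσe (γ⁻¹ e))
      rwa [map_mul, map_inv, MulAut.apply_inv_self] at h

/-- An automorphism of `S` inverting `Z(S) ∩ S'` and centralizing `Z(S)` modulo it. -/
def InvertsCenter (F : FusionSystem S) (σ : MulAut S) : Prop :=
  σ ∈ F.autGroup S ∧ (∀ c : S, (c : Ω) ∈ centerDerived S → σ c = c⁻¹) ∧
    ∀ c : S, (c : Ω) ∈ centerOf S → ((c⁻¹ * σ c : S) : Ω) ∈ centerDerived S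

omit hA in
theorem invertsCenter_agree [hp : Fact p.Prime] [Finite S] (hS : IsPGroup p S) (hF : F.IsSaturated p)
    (hW : Nat.card (centerDerived S) = p) {σ σ' : MulAut S} (h : InvertsCenter F σ)
    (h' : InvertsCenter F σ') {c : S} (hc : (c : Ω) ∈ centerOf S) : σ' c = σ c := by
  obtain ⟨m, hpm, hm⟩ := exists_pow_mem_inn hS hF
  have key : ∀ α β : MulAut S, InvertsCenter F α → InvertsCenter F β → α (β c) = c := by
    intro α β hα hβ
    set δ := α * β with hδ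
    have hmove : ((c⁻¹ * δ c : S) : Ω) ∈ centerDerived S := by
      obtain ⟨w, hwc⟩ : ∃ w : S, β c = c * w := ⟨c⁻¹ * β c, (mul_inv_cancel_left c _).symm⟩
      have hw : (w : Ω) ∈ centerDerived S := by
        have := hβ.2.2 c hc
        rwa [hwc, inv_mul_cancel_left] at this
      rw [hδ, MulAut.mul_apply, hwc, map_mul, hα.2.1 w hw, ← mul_assoc, Subgroup.coe_mul]
      exact (centerDerived S).mul_mem (hα.2.2 c hc) ((centerDerived S).inv_mem hw)
    have hfix : δ (c⁻¹ * δ c) = c⁻¹ * δ c := by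
      rw [hδ, MulAut.mul_apply, hβ.2.1 _ hmove, map_inv, hα.2.1 _ hmove, inv_inv]
    have hwp : (c⁻¹ * δ c : S) ^ p = 1 := Subtype.ext (by
      have := congrArg Subtype.val
        (pow_card_eq_one' (G := centerDerived S) (x := ⟨_, hmove⟩))
      rw [hW] at this
      simpa using this)
    have h1 : (δ ^ p) c = c :=
      PGroups.Transvections.pow_fix (v := c⁻¹ * δ c) (by rw [mul_inv_cancel_left]) hfix hwp
    have h2 : (δ ^ m) c = c := by
      obtain ⟨g, hg⟩ := hm δ (mul_mem hα.1 hβ.1)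
      rw [← hg, MulAut.conj_apply, Subgroup.mem_center_iff.1 ((mem_centerOf_iff c).1 hc) g,
        mul_inv_cancel_right]
    have h3 : δ ∈ MulAction.stabilizer (MulAut S) c := by
      obtain ⟨a, b, hab⟩ := (Nat.isCoprime_iff_coprime.2
        ((hp.out.coprime_iff_not_dvd.2 hpm) : Nat.Coprime p m))
      rw [← zpow_one δ, ← hab, zpow_add, zpow_mul', zpow_mul', zpow_natCast, zpow_natCast]
      exact Subgroup.mul_mem _ (Subgroup.zpow_mem _ h1 a) (Subgroup.zpow_mem _ h2 b)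
    exact h3
  have h1 := key σ σ h h
  have h2 := key σ σ' h h'
  exact σ.injective (h2.trans h1.symm)

/-- The first facts about an abelian essential subgroup other than `A`. -/
theorem AbIndex.ess_abelian_base [hp : Fact p.Prime] [Finite S] (hS : IsPGroup p S) (hF : F.IsSaturated p)
    {E : Subgroup Ω} (hE : F.IsEssential p E) (hne : E ≠ A) (hab : ∀ a ∈ E, ∀ b ∈ E, a * b = b * a) :
    Nat.card (centerDerived S) = p := by
  have hp' : p.Prime := hp.out
  obtain ⟨hZE, x, hxE, hxA, hEx, -⟩ := hA.ess_shape hE hne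
  have hES : E ≤ S := hE.1.1
  have hxS := hES hxE
  have := finite_le hES
  have := finite_mulAut_of_le (S := S) hES
  have := finite_le (S := S) (centerOf_le S)
  set G := F.autGroup E with hG
  have habE : ∀ a b : E, a * b = b * a := fun a b => Subtype.ext (hab a a.2 b b.2)
  have hxZ : x ∉ centerOf S := fun h => hxA (hA.center_le h)
  have hxp : x ^ p ∈ centerOf S := hA.pow_center hxS hxA
  obtain ⟨hcardE, hdec⟩ := card_sup_zpowers_of_pow_mem
    (fun c hc => (centerOf_comm hc hxS).symm) hxp hxZ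
  rw [← hEx hab] at hcardE hdec
  have hxk : ∀ j : ℕ, x ^ j ∈ centerOf S → p ∣ j := by
    intro j hj
    by_contra hd
    obtain ⟨a, b, hab'⟩ := (Nat.isCoprime_iff_coprime.2 (hp'.coprime_iff_not_dvd.2 hd))
    refine hxZ ?_
    rw [← zpow_one x, ← hab', zpow_add, zpow_mul', zpow_mul', zpow_natCast, zpow_natCast]
    exact Subgroup.mul_mem _ (Subgroup.zpow_mem _ hxp a) (Subgroup.zpow_mem _ hj b)
  set ZE := (centerOf S).subgroupOf E with hZEdef
  have hQle : autInducedBy S E ≤ G := autInducedBy_le_autGroup hES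
  have hQ : IsSylowIn p (autInducedBy S E) G := (IsSaturated.fullyAutomized hS hF hE.2.1).2
  have hQfix : ∀ q ∈ autInducedBy S E, ∀ c ∈ ZE, q c = c := by
    intro q hq c hc
    obtain ⟨g, hg, hgq⟩ := mem_autInducedBy_iff.1 hq
    refine Subtype.ext ?_
    rw [hgq, centerOf_comm (Subgroup.mem_subgroupOf.1 hc) hg, mul_inv_cancel_right]
  have hQmove : ∀ q ∈ autInducedBy S E, ∀ e : E, e⁻¹ * q e ∈ ZE := by
    intro q hq e
    obtain ⟨g, hg, hgq⟩ := mem_autInducedBy_iff.1 hq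
    have h1 : (e : Ω)⁻¹ * ((q e : E) : Ω) ∈ A := by
      obtain ⟨a, ha, i, hgax⟩ := hA.gen x hxS hxA g hg
      obtain ⟨c, hc, j, hej⟩ := hdec e e.2
      have hcx : Commute (x ^ i) (e : Ω) :=
        (show Commute x (e : Ω) from hab x hxE e e.2).pow_left i
      rw [hgq, hgax, show a * x ^ i * (e : Ω) * (a * x ^ i)⁻¹ = a * (x ^ i * e * (x ^ i)⁻¹) * a⁻¹ by
        group, hcx.eq, mul_inv_cancel_right,
        show (e : Ω)⁻¹ * (a * e * a⁻¹) = (e : Ω)⁻¹ * a * ((e : Ω)⁻¹)⁻¹ * a⁻¹ by group]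
      exact A.mul_mem (hA.conj _ (S.inv_mem (hES e.2)) a ha) (A.inv_mem ha)
    refine Subgroup.mem_subgroupOf.2 (hA.fix_mem hxS hxA h1 ?_)
    exact hab _ (E.mul_mem (E.inv_mem e.2) (q e).2) x hxE
  -- some automorphism moves the centre
  have hγex : ∃ γ ∈ G, ∃ c ∈ ZE, γ c ∉ ZE := by
    by_contra h
    push Not at h
    obtain ⟨K, hKG, hKp, hKmem, hKn⟩ := exists_seriesStab (hS.to_le hES) G ZE
    have : (K.subgroupOf G).Normal := ⟨fun k hk g =>
      (Subgroup.mem_normalizer_iff.1 (hKn g g.2 (h g g.2)) k).1 hk⟩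
    have hES' : E < S := lt_of_le_of_ne hES (isEssential_ne_self hS hF hE)
    obtain ⟨g, hg, hgE⟩ := exists_mem_normalizerIn_not_mem hS hES'
    refine hgE (mem_of_conjAut_inn hE.1 ⟨g, hg⟩ ?_)
    have hq := conjAut_mem (⟨g, hg⟩ : normalizerIn S E)
    exact (isRadical_iff_le hS hES).1 (IsEssential.isRadical hS hE) (Core.le_pCore
      (isPGroup_subgroupOf hKG hKp)
      (show (⟨_, hQle hq⟩ : G) ∈ K.subgroupOf G from
        (hKmem _).2 ⟨hQle hq, hQfix _ hq, hQmove _ hq⟩))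
  -- realising elements of the intersection of centre and derived subgroup
  have hrep : ∀ w ∈ centerDerived S, ∃ q ∈ autInducedBy S E, ∀ e : E, ∀ (c : Ω) (j : ℕ),
      c ∈ centerOf S → (e : Ω) = c * x ^ j → ((q e : E) : Ω) = (e : Ω) * w ^ j := by
    intro w hw
    obtain ⟨a, ha, haw⟩ := hA.derived_le hxS hxA hw.2
    have hwZ := hw.1
    have hval : ∀ (c : Ω) (j : ℕ), c ∈ centerOf S → a * (c * x ^ j) * a⁻¹ = c * x ^ j * w ^ j := by
      intro c j hc
      have h1 : a * x * a⁻¹ = x * w := by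
        rw [centerOf_comm hwZ hxS, ← haw, commutatorElement_def]; group
      calc a * (c * x ^ j) * a⁻¹ = c * (a * x * a⁻¹) ^ j := by
            rw [conj_pow, ← mul_assoc a c, centerOf_comm hc (hA.le ha)]; group
        _ = _ := by rw [h1, (show Commute x w from (centerOf_comm hwZ hxS)).mul_pow, mul_assoc]
    have hN : a ∈ Subgroup.normalizer (E : Set Ω) := by
      refine Subgroup.mem_normalizer_iff_map_conj_eq.2 (Subgroup.eq_of_le_of_card_ge ?_
        (le_of_eq (Subgroup.card_map_of_injective (MulAut.conj a).injective).symm))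
      rintro _ ⟨e, he, rfl⟩
      obtain ⟨c, hc, j, rfl⟩ := hdec e he
      show a * (c * x ^ j) * a⁻¹ ∈ E
      rw [hval c j hc]
      exact E.mul_mem he (E.pow_mem (hZE hwZ) j)
    refine ⟨conjAut (⟨a, hA.le ha, hN⟩ : normalizerIn S E), conjAut_mem _, fun e c j hc he => ?_⟩
    rw [conjAut_apply]
    show a * (e : Ω) * a⁻¹ = _
    rw [he, hval c j hc]
  have hpow1 : ∀ (w : Ω) (j : ℕ), w ∈ S → ¬ p ∣ j → w ^ j = 1 → w = 1 := by
    intro w j hw hj h
    obtain ⟨k, hk⟩ := hS ⟨w, hw⟩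
    have h2 : w ^ p ^ k = 1 := congrArg Subtype.val hk
    have h1 : w ^ Nat.gcd j (p ^ k) = 1 := pow_gcd_eq_one.2 ⟨h, h2⟩
    rwa [(Nat.Coprime.pow_right k (hp'.coprime_iff_not_dvd.2 hj).symm : Nat.Coprime j (p ^ k)),
      pow_one] at h1
  have hZEcard : Nat.card ZE = Nat.card (centerOf S) :=
    Nat.card_congr (Subgroup.subgroupOfEquivOfLe hZE).toEquiv
  have hmovesym : ∀ γ ∈ G, (∃ c ∈ ZE, γ c ∉ ZE) → ∃ c, c ∉ ZE ∧ γ⁻¹ c ∈ ZE := by
    rintro γ - ⟨c, hc, hc'⟩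
    exact ⟨γ c, hc', by rwa [MulAut.inv_apply_self]⟩
  -- no element of the intersection is central after moving
  have hWγ : ∀ γ ∈ G, (∃ c ∈ ZE, γ c ∉ ZE) → ∀ w : E, (w : Ω) ∈ centerDerived S →
      γ⁻¹ w ∈ ZE → w = 1 := by
    intro γ hγ hγm w hw hwγ
    obtain ⟨y, hy, hyγ⟩ := hmovesym γ hγ hγm
    obtain ⟨q, hq, hqv⟩ := hrep _ hw
    set D : Subgroup E := ZE ⊓ ZE.map γ.toMonoidHom with hD
    have hmapmem : ∀ e : E, e ∈ ZE.map γ.toMonoidHom ↔ γ⁻¹ e ∈ ZE := fun e => by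
      constructor
      · rintro ⟨c, hc, rfl⟩
        rwa [show γ.toMonoidHom c = γ c from rfl, MulAut.inv_apply_self]
      · exact fun h => ⟨_, h, MulAut.apply_inv_self _ γ e⟩
    have hwD : w ∈ D := ⟨hw.1, (hmapmem w).2 hwγ⟩
    obtain ⟨K, hKG, hKp, hKmem, hKn⟩ := exists_seriesStab (hS.to_le hES) G D
    have hqK : q ∈ K := by
      refine (hKmem q).2 ⟨hQle hq, fun d hd => hQfix q hq d hd.1, fun e => ?_⟩
      obtain ⟨c, hc, j, hej⟩ := hdec e e.2
      rw [show e⁻¹ * q e = w ^ j from Subtype.ext (by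
        rw [Subgroup.coe_mul, InvMemClass.coe_inv, hqv e c j hc hej, inv_mul_cancel_left,
          Subgroup.coe_pow])]
      exact D.pow_mem hwD j
    set R := (autInducedBy S E).map (MulAut.conj γ).toMonoidHom with hR
    have hRG : R ≤ G := by
      rintro _ ⟨r, hr, rfl⟩
      exact G.mul_mem (G.mul_mem hγ (hQle hr)) (G.inv_mem hγ)
    have hRfix : ∀ r ∈ R, ∀ c : E, γ⁻¹ c ∈ ZE → r c = c := by
      rintro _ ⟨r, hr, rfl⟩ c hc
      show γ (r (γ⁻¹ c)) = c
      rw [hQfix r hr _ hc, MulAut.apply_inv_self]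
    have hRn : R ≤ Subgroup.normalizer (K : Set (MulAut E)) := fun r hr =>
      hKn r (hRG hr) fun d hd => by rw [hRfix r hr d ((hmapmem d).1 hd.2)]; exact hd
    have hRp : IsPGroup p R := (isPGroup_autInducedBy hS).map _
    have hHp : IsPGroup p (R ⊔ K : Subgroup (MulAut E)) :=
      IsPGroup.to_sup_of_normal_right' hRp hKp hRn
    have hcard : Nat.card (R ⊔ K : Subgroup (MulAut E)) ≤ Nat.card R := by
      rw [hR, Subgroup.card_map_of_injective (MulAut.conj γ).injective]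
      obtain ⟨k, -, hk'⟩ := hQ.exists_conj_mem (sup_le hRG hKG) hHp
      exact Nat.card_le_card_of_injective
        (fun h : (R ⊔ K : Subgroup (MulAut E)) => (⟨_, hk' h h.2⟩ : autInducedBy S E))
        fun a b h => Subtype.ext (mul_left_cancel (mul_right_cancel (congrArg Subtype.val h)))
    have hqR : q ∈ R :=
      (Subgroup.eq_of_le_of_card_ge (le_sup_left : R ≤ R ⊔ K) hcard) ▸ Subgroup.mem_sup_right hqK
    obtain ⟨c, hc, j, hyj⟩ := hdec y y.2
    have h1 := hqv y c j hc hyj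
    rw [hRfix q hqR y hyγ, left_eq_mul] at h1
    refine Subtype.ext (hpow1 _ j (hES w.2) (fun hd => hy ?_) h1)
    obtain ⟨k, rfl⟩ := hd
    refine Subgroup.mem_subgroupOf.2 (hyj ▸ Subgroup.mul_mem _ hc ?_)
    rw [pow_mul]
    exact Subgroup.pow_mem _ hxp k
  obtain ⟨γ₀, hγ₀, hγ₀m⟩ := hγex
  have hW : Nat.card (centerDerived S) = p := by
    have hWE : centerDerived S ≤ E := fun w hw => hZE hw.1
    have := finite_le (S := S) (P := centerDerived S) (fun w hw => hw.1.1)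
    set N := ZE.map γ₀.toMonoidHom with hN
    have hidx : N.index = p := by
      have h := N.card_mul_index
      rw [hN, Subgroup.card_map_of_injective γ₀.injective, hZEcard, hcardE, mul_comm p] at h
      exact Nat.eq_of_mul_eq_mul_left Nat.card_pos h
    have hle : Nat.card (centerDerived S) ≤ p := by
      rw [← hidx, Subgroup.index_eq_card]
      refine Nat.card_le_card_of_injective
        (fun w : centerDerived S => (QuotientGroup.mk (⟨w, hWE w.2⟩ : E) : E ⧸ N)) fun a b h => ?_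
      obtain ⟨c, hc, hcv⟩ := QuotientGroup.eq.1 h
      have h1 := hWγ γ₀ hγ₀ hγ₀m ((⟨a, hWE a.2⟩ : E)⁻¹ * ⟨b, hWE b.2⟩)
        ((centerDerived S).mul_mem ((centerDerived S).inv_mem a.2) b.2)
        (by rw [← hcv]; exact (by rwa [show γ₀.toMonoidHom c = γ₀ c from rfl, MulAut.inv_apply_self]))
      exact Subtype.ext (congrArg Subtype.val (inv_mul_eq_one.1 h1) :)
    obtain ⟨k, hk⟩ := (hS.to_le (fun w (hw : w ∈ centerDerived S) => hw.1.1)).exists_card_eq
    rw [hk] at hle ⊢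
    rcases Nat.eq_zero_or_pos k with rfl | hk0
    · exact absurd (Subgroup.card_eq_one.1 (hk.trans (pow_zero p))) (hA.centerDerived_ne_bot hS)
    · exact le_antisymm hle (Nat.le_self_pow hk0.ne' p)
  exact hW

/-- An abelian essential subgroup. -/
theorem AbIndex.ess_abelian [hp : Fact p.Prime] [Finite S] (hS : IsPGroup p S) (hF : F.IsSaturated p)
    (hAe : ¬ F.IsEssential p A) (hp2 : p ≠ 2) {E : Subgroup Ω} (hE : F.IsEssential p E)
    (hab : ∀ a ∈ E, ∀ b ∈ E, a * b = b * a) :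
    Nat.card (centerDerived S) = p ∧ (∃ σ, InvertsCenter F σ) ∧
      (∀ c ∈ centerOf S, ∃ d ∈ centerOf S, ∃ w ∈ centerDerived S, c = d * w ∧
        ∀ σ, InvertsCenter F σ → ∀ h : d ∈ S, σ ⟨d, h⟩ = ⟨d, h⟩) ∧
      ∀ c : E, ((∀ δ ∈ F.autGroup E, ((δ c : E) : Ω) ∈ centerOf S) ↔
        ((c : Ω) ∈ centerOf S ∧ ∀ σ, InvertsCenter F σ → ∀ h : (c : Ω) ∈ S, σ ⟨c, h⟩ = ⟨c, h⟩)) := by
  have hp' : p.Prime := hp.out
  obtain ⟨hZE, x, hxE, hxA, hEx, -⟩ := hA.ess_shape hE fun h => hAe (h ▸ hE)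
  have hES : E ≤ S := hE.1.1
  have hxS := hES hxE
  have := finite_le hES
  have := finite_mulAut_of_le (S := S) hES
  have := finite_le (S := S) (centerOf_le S)
  set G := F.autGroup E with hG
  have habE : ∀ a b : E, a * b = b * a := fun a b => Subtype.ext (hab a a.2 b b.2)
  have hxZ : x ∉ centerOf S := fun h => hxA (hA.center_le h)
  have hxp : x ^ p ∈ centerOf S := hA.pow_center hxS hxA
  obtain ⟨hcardE, hdec⟩ := card_sup_zpowers_of_pow_mem
    (fun c hc => (centerOf_comm hc hxS).symm) hxp hxZ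
  rw [← hEx hab] at hcardE hdec
  have hxk : ∀ j : ℕ, x ^ j ∈ centerOf S → p ∣ j := by
    intro j hj
    by_contra hd
    obtain ⟨a, b, hab'⟩ := (Nat.isCoprime_iff_coprime.2 (hp'.coprime_iff_not_dvd.2 hd))
    refine hxZ ?_
    rw [← zpow_one x, ← hab', zpow_add, zpow_mul', zpow_mul', zpow_natCast, zpow_natCast]
    exact Subgroup.mul_mem _ (Subgroup.zpow_mem _ hxp a) (Subgroup.zpow_mem _ hj b)
  set ZE := (centerOf S).subgroupOf E with hZEdef
  have hQle : autInducedBy S E ≤ G := autInducedBy_le_autGroup hES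
  have hQ : IsSylowIn p (autInducedBy S E) G := (IsSaturated.fullyAutomized hS hF hE.2.1).2
  have hQfix : ∀ q ∈ autInducedBy S E, ∀ c ∈ ZE, q c = c := by
    intro q hq c hc
    obtain ⟨g, hg, hgq⟩ := mem_autInducedBy_iff.1 hq
    refine Subtype.ext ?_
    rw [hgq, centerOf_comm (Subgroup.mem_subgroupOf.1 hc) hg, mul_inv_cancel_right]
  have hQmove : ∀ q ∈ autInducedBy S E, ∀ e : E, e⁻¹ * q e ∈ ZE := by
    intro q hq e
    obtain ⟨g, hg, hgq⟩ := mem_autInducedBy_iff.1 hq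
    have h1 : (e : Ω)⁻¹ * ((q e : E) : Ω) ∈ A := by
      obtain ⟨a, ha, i, hgax⟩ := hA.gen x hxS hxA g hg
      obtain ⟨c, hc, j, hej⟩ := hdec e e.2
      have hcx : Commute (x ^ i) (e : Ω) :=
        (show Commute x (e : Ω) from hab x hxE e e.2).pow_left i
      rw [hgq, hgax, show a * x ^ i * (e : Ω) * (a * x ^ i)⁻¹ = a * (x ^ i * e * (x ^ i)⁻¹) * a⁻¹ by
        group, hcx.eq, mul_inv_cancel_right,
        show (e : Ω)⁻¹ * (a * e * a⁻¹) = (e : Ω)⁻¹ * a * ((e : Ω)⁻¹)⁻¹ * a⁻¹ by group]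
      exact A.mul_mem (hA.conj _ (S.inv_mem (hES e.2)) a ha) (A.inv_mem ha)
    refine Subgroup.mem_subgroupOf.2 (hA.fix_mem hxS hxA h1 ?_)
    exact hab _ (E.mul_mem (E.inv_mem e.2) (q e).2) x hxE
  -- some automorphism moves the centre
  have hγex : ∃ γ ∈ G, ∃ c ∈ ZE, γ c ∉ ZE := by
    by_contra h
    push Not at h
    obtain ⟨K, hKG, hKp, hKmem, hKn⟩ := exists_seriesStab (hS.to_le hES) G ZE
    have : (K.subgroupOf G).Normal := ⟨fun k hk g =>
      (Subgroup.mem_normalizer_iff.1 (hKn g g.2 (h g g.2)) k).1 hk⟩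
    have hES' : E < S := lt_of_le_of_ne hES (isEssential_ne_self hS hF hE)
    obtain ⟨g, hg, hgE⟩ := exists_mem_normalizerIn_not_mem hS hES'
    refine hgE (mem_of_conjAut_inn hE.1 ⟨g, hg⟩ ?_)
    have hq := conjAut_mem (⟨g, hg⟩ : normalizerIn S E)
    exact (isRadical_iff_le hS hES).1 (IsEssential.isRadical hS hE) (Core.le_pCore
      (isPGroup_subgroupOf hKG hKp)
      (show (⟨_, hQle hq⟩ : G) ∈ K.subgroupOf G from
        (hKmem _).2 ⟨hQle hq, hQfix _ hq, hQmove _ hq⟩))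
  -- realising elements of the intersection of centre and derived subgroup
  have hrep : ∀ w ∈ centerDerived S, ∃ q ∈ autInducedBy S E, ∀ e : E, ∀ (c : Ω) (j : ℕ),
      c ∈ centerOf S → (e : Ω) = c * x ^ j → ((q e : E) : Ω) = (e : Ω) * w ^ j := by
    intro w hw
    obtain ⟨a, ha, haw⟩ := hA.derived_le hxS hxA hw.2
    have hwZ := hw.1
    have hval : ∀ (c : Ω) (j : ℕ), c ∈ centerOf S → a * (c * x ^ j) * a⁻¹ = c * x ^ j * w ^ j := by
      intro c j hc
      have h1 : a * x * a⁻¹ = x * w := by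
        rw [centerOf_comm hwZ hxS, ← haw, commutatorElement_def]; group
      calc a * (c * x ^ j) * a⁻¹ = c * (a * x * a⁻¹) ^ j := by
            rw [conj_pow, ← mul_assoc a c, centerOf_comm hc (hA.le ha)]; group
        _ = _ := by rw [h1, (show Commute x w from (centerOf_comm hwZ hxS)).mul_pow, mul_assoc]
    have hN : a ∈ Subgroup.normalizer (E : Set Ω) := by
      refine Subgroup.mem_normalizer_iff_map_conj_eq.2 (Subgroup.eq_of_le_of_card_ge ?_
        (le_of_eq (Subgroup.card_map_of_injective (MulAut.conj a).injective).symm))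
      rintro _ ⟨e, he, rfl⟩
      obtain ⟨c, hc, j, rfl⟩ := hdec e he
      show a * (c * x ^ j) * a⁻¹ ∈ E
      rw [hval c j hc]
      exact E.mul_mem he (E.pow_mem (hZE hwZ) j)
    refine ⟨conjAut (⟨a, hA.le ha, hN⟩ : normalizerIn S E), conjAut_mem _, fun e c j hc he => ?_⟩
    rw [conjAut_apply]
    show a * (e : Ω) * a⁻¹ = _
    rw [he, hval c j hc]
  have hpow1 : ∀ (w : Ω) (j : ℕ), w ∈ S → ¬ p ∣ j → w ^ j = 1 → w = 1 := by
    intro w j hw hj h
    obtain ⟨k, hk⟩ := hS ⟨w, hw⟩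
    have h2 : w ^ p ^ k = 1 := congrArg Subtype.val hk
    have h1 : w ^ Nat.gcd j (p ^ k) = 1 := pow_gcd_eq_one.2 ⟨h, h2⟩
    rwa [(Nat.Coprime.pow_right k (hp'.coprime_iff_not_dvd.2 hj).symm : Nat.Coprime j (p ^ k)),
      pow_one] at h1
  have hZEcard : Nat.card ZE = Nat.card (centerOf S) :=
    Nat.card_congr (Subgroup.subgroupOfEquivOfLe hZE).toEquiv
  have hmovesym : ∀ γ ∈ G, (∃ c ∈ ZE, γ c ∉ ZE) → ∃ c, c ∉ ZE ∧ γ⁻¹ c ∈ ZE := by
    rintro γ - ⟨c, hc, hc'⟩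
    exact ⟨γ c, hc', by rwa [MulAut.inv_apply_self]⟩
  -- no element of the intersection is central after moving
  have hWγ : ∀ γ ∈ G, (∃ c ∈ ZE, γ c ∉ ZE) → ∀ w : E, (w : Ω) ∈ centerDerived S →
      γ⁻¹ w ∈ ZE → w = 1 := by
    intro γ hγ hγm w hw hwγ
    obtain ⟨y, hy, hyγ⟩ := hmovesym γ hγ hγm
    obtain ⟨q, hq, hqv⟩ := hrep _ hw
    set D : Subgroup E := ZE ⊓ ZE.map γ.toMonoidHom with hD
    have hmapmem : ∀ e : E, e ∈ ZE.map γ.toMonoidHom ↔ γ⁻¹ e ∈ ZE := fun e => by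
      constructor
      · rintro ⟨c, hc, rfl⟩
        rwa [show γ.toMonoidHom c = γ c from rfl, MulAut.inv_apply_self]
      · exact fun h => ⟨_, h, MulAut.apply_inv_self _ γ e⟩
    have hwD : w ∈ D := ⟨hw.1, (hmapmem w).2 hwγ⟩
    obtain ⟨K, hKG, hKp, hKmem, hKn⟩ := exists_seriesStab (hS.to_le hES) G D
    have hqK : q ∈ K := by
      refine (hKmem q).2 ⟨hQle hq, fun d hd => hQfix q hq d hd.1, fun e => ?_⟩
      obtain ⟨c, hc, j, hej⟩ := hdec e e.2
      rw [show e⁻¹ * q e = w ^ j from Subtype.ext (by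
        rw [Subgroup.coe_mul, InvMemClass.coe_inv, hqv e c j hc hej, inv_mul_cancel_left,
          Subgroup.coe_pow])]
      exact D.pow_mem hwD j
    set R := (autInducedBy S E).map (MulAut.conj γ).toMonoidHom with hR
    have hRG : R ≤ G := by
      rintro _ ⟨r, hr, rfl⟩
      exact G.mul_mem (G.mul_mem hγ (hQle hr)) (G.inv_mem hγ)
    have hRfix : ∀ r ∈ R, ∀ c : E, γ⁻¹ c ∈ ZE → r c = c := by
      rintro _ ⟨r, hr, rfl⟩ c hc
      show γ (r (γ⁻¹ c)) = c
      rw [hQfix r hr _ hc, MulAut.apply_inv_self]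
    have hRn : R ≤ Subgroup.normalizer (K : Set (MulAut E)) := fun r hr =>
      hKn r (hRG hr) fun d hd => by rw [hRfix r hr d ((hmapmem d).1 hd.2)]; exact hd
    have hRp : IsPGroup p R := (isPGroup_autInducedBy hS).map _
    have hHp : IsPGroup p (R ⊔ K : Subgroup (MulAut E)) :=
      IsPGroup.to_sup_of_normal_right' hRp hKp hRn
    have hcard : Nat.card (R ⊔ K : Subgroup (MulAut E)) ≤ Nat.card R := by
      rw [hR, Subgroup.card_map_of_injective (MulAut.conj γ).injective]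
      obtain ⟨k, -, hk'⟩ := hQ.exists_conj_mem (sup_le hRG hKG) hHp
      exact Nat.card_le_card_of_injective
        (fun h : (R ⊔ K : Subgroup (MulAut E)) => (⟨_, hk' h h.2⟩ : autInducedBy S E))
        fun a b h => Subtype.ext (mul_left_cancel (mul_right_cancel (congrArg Subtype.val h)))
    have hqR : q ∈ R :=
      (Subgroup.eq_of_le_of_card_ge (le_sup_left : R ≤ R ⊔ K) hcard) ▸ Subgroup.mem_sup_right hqK
    obtain ⟨c, hc, j, hyj⟩ := hdec y y.2
    have h1 := hqv y c j hc hyj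
    rw [hRfix q hqR y hyγ, left_eq_mul] at h1
    refine Subtype.ext (hpow1 _ j (hES w.2) (fun hd => hy ?_) h1)
    obtain ⟨k, rfl⟩ := hd
    refine Subgroup.mem_subgroupOf.2 (hyj ▸ Subgroup.mul_mem _ hc ?_)
    rw [pow_mul]
    exact Subgroup.pow_mem _ hxp k
  obtain ⟨γ₀, hγ₀, hγ₀m⟩ := hγex
  have hW : Nat.card (centerDerived S) = p := by
    have hWE : centerDerived S ≤ E := fun w hw => hZE hw.1
    have := finite_le (S := S) (P := centerDerived S) (fun w hw => hw.1.1)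
    set N := ZE.map γ₀.toMonoidHom with hN
    have hidx : N.index = p := by
      have h := N.card_mul_index
      rw [hN, Subgroup.card_map_of_injective γ₀.injective, hZEcard, hcardE, mul_comm p] at h
      exact Nat.eq_of_mul_eq_mul_left Nat.card_pos h
    have hle : Nat.card (centerDerived S) ≤ p := by
      rw [← hidx, Subgroup.index_eq_card]
      refine Nat.card_le_card_of_injective
        (fun w : centerDerived S => (QuotientGroup.mk (⟨w, hWE w.2⟩ : E) : E ⧸ N)) fun a b h => ?_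
      obtain ⟨c, hc, hcv⟩ := QuotientGroup.eq.1 h
      have h1 := hWγ γ₀ hγ₀ hγ₀m ((⟨a, hWE a.2⟩ : E)⁻¹ * ⟨b, hWE b.2⟩)
        ((centerDerived S).mul_mem ((centerDerived S).inv_mem a.2) b.2)
        (by rw [← hcv]; exact (by rwa [show γ₀.toMonoidHom c = γ₀ c from rfl, MulAut.inv_apply_self]))
      exact Subtype.ext (congrArg Subtype.val (inv_mul_eq_one.1 h1) :)
    obtain ⟨k, hk⟩ := (hS.to_le (fun w (hw : w ∈ centerDerived S) => hw.1.1)).exists_card_eq
    rw [hk] at hle ⊢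
    rcases Nat.eq_zero_or_pos k with rfl | hk0
    · exact absurd (Subgroup.card_eq_one.1 (hk.trans (pow_zero p))) (hA.centerDerived_ne_bot hS)
    · exact le_antisymm hle (Nat.le_self_pow hk0.ne' p)
  have := finite_le (S := S) (P := centerDerived S) (fun w hw => hw.1.1)
  obtain ⟨⟨z, hzW⟩, hzo⟩ := exists_prime_orderOf_dvd_card' (G := centerDerived S) p (by rw [hW])
  have hzo : orderOf z = p := by rw [← hzo, ← Subgroup.orderOf_coe]
  have hgenW : ∀ w ∈ centerDerived S, ∃ k : ℕ, w = z ^ k := by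
    intro w hw
    have hlt := finite_le (S := S) (P := centerDerived S) (fun w hw => hw.1.1)
    have hne : (⟨z, hzW⟩ : centerDerived S) ≠ 1 := fun h => hp'.one_lt.ne' (by
      rw [← hzo, show z = 1 from congrArg Subtype.val h, orderOf_one])
    obtain ⟨k, hk⟩ := mem_powers_iff_mem_zpowers.2 (show (⟨w, hw⟩ : centerDerived S) ∈
      Subgroup.zpowers ⟨z, hzW⟩ by rw [zpowers_eq_top_of_prime_card hW hne]; trivial)
    exact ⟨k, (congrArg Subtype.val hk).symm⟩
  obtain ⟨u, huQ, huv⟩ := hrep z hzW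
  set zE : E := ⟨z, hZE hzW.1⟩ with hzE
  have hzp : zE ^ p = 1 := Subtype.ext (by
    rw [Subgroup.coe_pow, Subgroup.coe_one, ← hzo]; exact pow_orderOf_eq_one z)
  have hordzE : orderOf zE = p := by rw [← hzo, ← Subgroup.orderOf_coe]
  have hu : ∀ e, ∃ i : ℕ, u e = e * zE ^ i := fun e => by
    obtain ⟨c, hc, j, hej⟩ := hdec e e.2
    exact ⟨j, Subtype.ext (by rw [huv e c j hc hej]; rfl)⟩
  have huz : u zE = zE := hQfix u huQ zE hzW.1
  have hufix : ∀ e : E, u e = e → e ∈ ZE := by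
    intro e he
    obtain ⟨c, hc, j, hej⟩ := hdec e e.2
    have h1 := huv e c j hc hej
    rw [he, left_eq_mul] at h1
    obtain ⟨k, rfl⟩ : p ∣ j := hzo ▸ orderOf_dvd_of_pow_eq_one h1
    refine Subgroup.mem_subgroupOf.2 (hej ▸ Subgroup.mul_mem _ hc ?_)
    rw [pow_mul]
    exact Subgroup.pow_mem _ hxp k
  have hQgen : autInducedBy S E ≤ Subgroup.zpowers u := by
    intro q hq
    have hd := hQmove q hq ⟨x, hxE⟩
    have hwW : ((⟨x, hxE⟩ : E)⁻¹ * q ⟨x, hxE⟩ : E).1 ∈ centerDerived S := by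
      obtain ⟨g, hg, hgq⟩ := mem_autInducedBy_iff.1 hq
      refine ⟨hd, ⁅(⟨x, hxS⟩ : S)⁻¹, ⟨g, hg⟩⁆, Subgroup.commutator_mem_commutator
        (Subgroup.mem_top _) (Subgroup.mem_top _), ?_⟩
      rw [Subgroup.coe_mul, InvMemClass.coe_inv, hgq]
      show x⁻¹ * g * x⁻¹⁻¹ * g⁻¹ = x⁻¹ * (g * x * g⁻¹)
      group
    obtain ⟨k, hk⟩ := hgenW _ hwW
    refine ⟨k, MulEquiv.ext fun e => ?_⟩
    show (u ^ (k : ℤ)) e = q e
    rw [zpow_natCast]
    obtain ⟨c, hc, j, hej⟩ := hdec e e.2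
    have he : e = (⟨c, hZE hc⟩ : E) * ⟨x, hxE⟩ ^ j := Subtype.ext hej
    have hqx : q ⟨x, hxE⟩ = ⟨x, hxE⟩ * zE ^ k := Subtype.ext (by
      simp only [Subgroup.coe_mul, InvMemClass.coe_inv, inv_mul_eq_iff_eq_mul] at hk
      rw [Subgroup.coe_mul, Subgroup.coe_pow]; exact hk)
    have hux : (u ^ k) (⟨x, hxE⟩ : E) = ⟨x, hxE⟩ * zE ^ k :=
      PGroups.Transvections.iterate_shift u (Subtype.ext (by
        rw [huv ⟨x, hxE⟩ 1 1 (one_mem _) (by simp), pow_one]; rfl)) huz k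
    rw [he, map_mul, map_mul, map_pow, map_pow, hux, hqx, hQfix q hq ⟨c, hZE hc⟩ hc,
      hQfix (u ^ k) (Subgroup.pow_mem _ huQ k) ⟨c, hZE hc⟩ hc]
  have hmax : ∀ H : Subgroup (MulAut E), H ≤ G → IsPGroup p H → u ∈ H → H ≤ Subgroup.zpowers u := by
    intro H hH hHp huH
    refine (Subgroup.eq_of_le_of_card_ge (Subgroup.zpowers_le.2 huH) ?_).ge
    obtain ⟨k, -, hk'⟩ := hQ.exists_conj_mem hH hHp
    exact Nat.card_le_card_of_injective (fun h : H => (⟨_, hQgen (hk' h h.2)⟩ : Subgroup.zpowers u))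
      fun a b h => Subtype.ext (mul_left_cancel (mul_right_cancel (congrArg Subtype.val h)))
  -- the inverting automorphism of a moving `γ`
  have hinv : ∀ γ ∈ G, (∃ c ∈ ZE, γ c ∉ ZE) → ∃ σ, InvertsCenter F σ ∧
      (∀ c : E, (c : Ω) ∈ centerOf S →
        (σ ⟨c, hES c.2⟩ = ⟨c, hES c.2⟩ ↔ γ⁻¹ c ∈ ZE)) ∧
      ∀ c : E, (c : Ω) ∈ centerOf S → ∃ (d : E) (i : ℕ), d ∈ ZE ∧ γ⁻¹ d ∈ ZE ∧ c = d * zE ^ i := by
    intro γ hγ hγm
    have ht : γ * u * γ⁻¹ ∉ Subgroup.zpowers u := by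
      intro h
      obtain ⟨y, hy, hyγ⟩ := hmovesym γ hγ hγm
      have hle : ZE ≤ ZE.map γ.toMonoidHom := fun c hc => by
        refine ⟨γ⁻¹ c, hufix _ (γ.injective ?_), MulAut.apply_inv_self _ γ c⟩
        rw [MulAut.apply_inv_self]
        exact hQfix _ ((Subgroup.zpowers_le.2 huQ) h) c hc
      have heq := Subgroup.eq_of_le_of_card_ge hle
        (le_of_eq (Subgroup.card_map_of_injective γ.injective))
      exact hy (heq.ge ⟨_, hyγ, MulAut.apply_inv_self _ γ y⟩)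
    obtain ⟨τ, hτG, hτz, hτfix, -, hτu⟩ :=
      PGroups.Transvections.exists_inverting habE hzp (hQle huQ) hu huz hmax hγ ht
    obtain ⟨hγ1, -⟩ :=
      PGroups.Transvections.center_moved habE hzp (hQle huQ) hu huz hmax hγ ht
    have htfix : ∀ a, (γ * u * γ⁻¹) a = a → γ⁻¹ a ∈ ZE := fun a h => hufix _ (γ.injective (by
      rw [MulAut.apply_inv_self]; exact h))
    have hdecomp : ∀ c : E, (c : Ω) ∈ centerOf S → ∃ (d : E) (i : ℕ), u d = d ∧
        (γ * u * γ⁻¹) d = d ∧ c = d * zE ^ i := by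
      intro c hc
      obtain ⟨a, i, j, hua, hta, hca⟩ :=
        PGroups.Transvections.decomposition habE hzp (hQle huQ) hu huz hmax hγ ht c
      refine ⟨a, i, hua, hta, ?_⟩
      have hfc := hQfix u huQ c hc
      rw [hca, map_mul, map_mul, map_pow, map_pow, hua, huz, mul_right_inj] at hfc
      obtain ⟨k, hk⟩ := hu (γ zE)
      rw [hk, Commute.mul_pow (habE _ _), mul_eq_left, ← pow_mul] at hfc
      rcases hp'.dvd_mul.1 (hordzE ▸ orderOf_dvd_of_pow_eq_one hfc) with hd | hd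
      · obtain ⟨q, rfl⟩ := hd
        exact absurd (by rw [hk, pow_mul, hzp, one_pow, mul_one]) hγ1
      · obtain ⟨q, rfl⟩ := hd
        rw [hca, pow_mul (γ zE), ← map_pow, hzp, map_one, one_pow, mul_one]
    have hE' : E < normalizerIn S E := lt_normalizerIn hS (lt_of_le_of_ne hES
      (isEssential_ne_self hS hF hE))
    have hiso := (mem_autGroup_iff_isoIn (F := F) hES).1 hτG
    have hrec := IsSaturated.receptive hS hF (IsSaturated.fullyCentralized hS hF hE.2.1)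
    have hext : normalizerIn S E ≤ extender S E (isoHom (τ : E ≃* E)) := by
      intro g hg
      refine mem_extender_iff.2 ⟨hg.1, hg.2, g, hg.1, fun a ha => ?_⟩
      obtain ⟨k, hk⟩ := hQgen (conjAut_mem (⟨g, hg⟩ : normalizerIn S E))
      have hcm : Commute τ (conjAut (⟨g, hg⟩ : normalizerIn S E)) :=
        hk ▸ (show Commute τ u from MulEquiv.ext hτu).zpow_right k
      rw [isoHom_apply, isoHom_apply]
      exact congrArg Subtype.val (DFunLike.congr_fun hcm.eq a)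
    obtain ⟨ψ, hψ, hψv⟩ := exists_extension hrec hiso hE'.le hext
    have := finite_le (S := S) (normalizerIn_le E)
    obtain ⟨σ, hσ, hσv⟩ := hA.map_center hS hF hAe hψ (hZE.trans hE'.le) (by
      rw [← hcardE]
      exact lt_of_le_of_ne (Subgroup.card_le_of_le hE'.le) fun h =>
        hE'.ne (Subgroup.eq_of_le_of_card_ge hE'.le h.ge))
    have hval : ∀ c : E, (c : Ω) ∈ centerOf S → σ ⟨c, hES c.2⟩ = ⟨(τ c : E), hES (τ c).2⟩ :=
      fun c hc => Subtype.ext ((hσv c (hE'.le c.2) (hES c.2) hc).symm.trans (hψv c))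
    have hzinv : ∀ i : ℕ, τ (zE ^ i) = (zE ^ i)⁻¹ := fun i => by rw [map_pow, hτz, inv_pow]
    refine ⟨σ, ⟨hσ, fun c hc => ?_, fun c hc => ?_⟩, fun c hc => ⟨fun h => ?_, fun h => ?_⟩,
      fun c hc => ?_⟩
    · obtain ⟨k, hk⟩ := hgenW c hc
      have hck : (⟨c, hZE hc.1⟩ : E) = zE ^ k := Subtype.ext (by rw [Subgroup.coe_pow]; exact hk)
      refine Subtype.ext ((congrArg Subtype.val (hval ⟨c, hZE hc.1⟩ hc.1)).trans ?_)
      show ((τ ⟨c, hZE hc.1⟩ : E) : Ω) = (c : Ω)⁻¹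
      rw [hck, hzinv, InvMemClass.coe_inv, Subgroup.coe_pow, hk]
    · obtain ⟨d, i, hud, htd, hcd⟩ := hdecomp ⟨c, hZE hc⟩ hc
      rw [Subgroup.coe_mul, InvMemClass.coe_inv, congrArg Subtype.val (hval ⟨c, hZE hc⟩ hc)]
      have hcv : (c : Ω) = (d : Ω) * z ^ i := congrArg Subtype.val hcd
      rw [hcd, map_mul, hzinv, hτfix d hud htd, Subgroup.coe_mul, InvMemClass.coe_inv,
        Subgroup.coe_pow]
      show (c : Ω)⁻¹ * ((d : Ω) * (z ^ i)⁻¹) ∈ _
      rw [hcv, mul_inv_rev, mul_assoc, inv_mul_cancel_left]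
      exact (centerDerived S).mul_mem ((centerDerived S).inv_mem (Subgroup.pow_mem _ hzW i))
        ((centerDerived S).inv_mem (Subgroup.pow_mem _ hzW i))
    · rw [hval c hc] at h
      have hτc : τ c = c := Subtype.ext (congrArg (fun w : S => (w : Ω)) h :)
      obtain ⟨d, i, hud, htd, rfl⟩ := hdecomp c hc
      rw [map_mul, hzinv, hτfix d hud htd, mul_right_inj, inv_eq_iff_mul_eq_one, ← pow_add,
        ← two_mul] at hτc
      obtain ⟨q, rfl⟩ := (hp'.dvd_mul.1 (hordzE ▸ orderOf_dvd_of_pow_eq_one hτc)).resolve_left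
        fun hd => hp2 ((Nat.prime_dvd_prime_iff_eq hp' Nat.prime_two).1 hd)
      rw [pow_mul, hzp, one_pow, mul_one]
      exact htfix d htd
    · obtain ⟨d, i, hud, htd, hcd⟩ := hdecomp c hc
      have h1 : zE ^ i = 1 := hWγ γ hγ hγm _ (Subgroup.pow_mem _ hzW i) (by
        rw [show zE ^ i = d⁻¹ * c by rw [hcd, inv_mul_cancel_left], map_mul, map_inv]
        exact ZE.mul_mem (ZE.inv_mem (htfix d htd)) h)
      rw [h1, mul_one] at hcd
      rw [hval c hc]
      exact Subtype.ext (congrArg (fun w : E => (w : Ω)) (hcd ▸ hτfix d hud htd : τ c = c))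
    · obtain ⟨d, i, hud, htd, hcd⟩ := hdecomp c hc
      exact ⟨d, i, hufix d hud, htfix d htd, hcd⟩
  obtain ⟨σ₀, hσ₀, hσ₀fix, hσ₀dec⟩ := hinv γ₀ hγ₀ hγ₀m
  refine ⟨hW, ⟨σ₀, hσ₀⟩, fun c hc => ?_, fun c => ⟨fun h => ?_, fun h δ hδ => ?_⟩⟩
  · obtain ⟨d, i, hd, hdγ, hcd⟩ := hσ₀dec ⟨c, hZE hc⟩ hc
    refine ⟨d, hd, z ^ i, Subgroup.pow_mem _ hzW i, congrArg Subtype.val hcd, fun σ hσ hS' => ?_⟩
    rw [invertsCenter_agree hS hF hW hσ₀ hσ (c := ⟨d, hS'⟩) hd]
    exact (hσ₀fix d hd).2 hdγ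
  · have hc : (c : Ω) ∈ centerOf S := h 1 G.one_mem
    refine ⟨hc, fun σ hσ hS' => ?_⟩
    rw [invertsCenter_agree hS hF hW hσ₀ hσ (c := ⟨c, hS'⟩) hc]
    exact (hσ₀fix c hc).2 (h _ (G.inv_mem hγ₀))
  · by_cases hδm : ∃ a ∈ ZE, δ⁻¹ a ∉ ZE
    · obtain ⟨σ, hσ, hσfix, -⟩ := hinv δ⁻¹ (G.inv_mem hδ) hδm
      have := (hσfix c h.1).1 (h.2 σ hσ (hES c.2))
      rwa [inv_inv] at this
    · push Not at hδm
      have hmap : ZE.map (δ⁻¹).toMonoidHom = ZE := Subgroup.eq_of_le_of_card_ge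
        (by rintro _ ⟨y, hy, rfl⟩; exact hδm y hy)
        (le_of_eq (Subgroup.card_map_of_injective (δ⁻¹).injective).symm)
      obtain ⟨y, hy, hyc⟩ := hmap.ge (show c ∈ ZE from h.1)
      rw [← hyc, show (δ⁻¹).toMonoidHom y = δ⁻¹ y from rfl, MulAut.apply_inv_self]
      exact hy

end CfsgLib.Fusion

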