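import Cfsg.Agent.Lib.Fusion.AbelianIndexP

/-!
# Essential subgroups over a unique abelian subgroup of index `p`
-/

set_option autoImplicit false

namespace CfsgLib.Fusion

open Cfsg Cfsg.FusionSystem
open scoped commutatorElement

variable {Ω : Type*} [Group Ω] {S A : Subgroup Ω} {F : FusionSystem S} {p : ℕ} {x : Ω}

/-- The elements of `A` commuting with `x` modulo `Z(S)`. -/
def centerTwo (S A : Subgroup Ω) : Subgroup Ω :=
  (Subgroup.upperCentralSeries S 2).map S.subtype ⊓ A

variable (hA : AbIndex S A p)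
include hA

/-- The map `a ↦ [a, x]` on `A`. -/
def AbIndex.brHom (hx : x ∈ S) : A →* A where
  toFun a := ⟨⁅(a : Ω), x⁆, hA.br_mem a.2 hx⟩
  map_one' := Subtype.ext (commutatorElement_one_left x)
  map_mul' a b := Subtype.ext (hA.br_mul a.2 b.2 hx)

theorem AbIndex.brHom_ker (hx : x ∈ S) (hxA : x ∉ A) :
    (hA.brHom hx).ker = (centerOf S).subgroupOf A := by
  ext a
  rw [MonoidHom.mem_ker, Subgroup.mem_subgroupOf]
  constructor
  · intro h
    exact hA.fix_mem hx hxA a.2 (commutatorElement_eq_one_iff_mul_comm.1 (congrArg Subtype.val h))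
  · intro h
    exact Subtype.ext (commutatorElement_eq_one_iff_mul_comm.2 (centerOf_comm h hx).symm)

theorem AbIndex.brHom_range (hx : x ∈ S) (hxA : x ∉ A) :
    (hA.brHom hx).range = ((commutator S).map S.subtype).subgroupOf A := by
  ext a
  rw [Subgroup.mem_subgroupOf]
  constructor
  · rintro ⟨b, rfl⟩
    exact hA.br_derived b.2 hx
  · intro h
    obtain ⟨b, hb, hba⟩ := hA.derived_le hx hxA h
    exact ⟨⟨b, hb⟩, Subtype.ext hba⟩

/-- Counting along `a ↦ [a, x]`. -/
theorem AbIndex.card_comap [Finite S] (hx : x ∈ S) (hxA : x ∉ A) {K : Subgroup Ω} :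
    Nat.card ((K.subgroupOf A).comap (hA.brHom hx)) =
      Nat.card (centerOf S) * Nat.card (K ⊓ (commutator S).map S.subtype : Subgroup Ω) := by
  have := finite_le hA.le
  set f := hA.brHom hx with hf
  set C := (K.subgroupOf A).comap f with hC
  let g : C →* A := f.comp C.subtype
  have h1 := g.ker.card_mul_index
  rw [Subgroup.index_ker] at h1
  rw [← h1]
  congr 1
  · rw [← Nat.card_congr (Subgroup.subgroupOfEquivOfLe hA.center_le).toEquiv,
      ← hA.brHom_ker hx hxA, ← hf]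
    exact Nat.card_congr
      { toFun := fun a => ⟨((a : C) : A), a.2⟩
        invFun := fun a => ⟨⟨a, by
          show f (a : A) ∈ K.subgroupOf A
          rw [MonoidHom.mem_ker.1 a.2]
          exact one_mem _⟩, a.2⟩
        left_inv := fun a => rfl
        right_inv := fun a => rfl }
  · have hr : g.range = (K ⊓ (commutator S).map S.subtype).subgroupOf A := by
      rw [Subgroup.subgroupOf, Subgroup.comap_inf]
      show g.range = K.subgroupOf A ⊓ ((commutator S).map S.subtype).subgroupOf A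
      rw [← hA.brHom_range hx hxA, ← hf]
      ext a
      constructor
      · rintro ⟨b, rfl⟩
        exact ⟨b.2, ⟨b, rfl⟩⟩
      · rintro ⟨ha, b, hba⟩
        exact ⟨⟨b, show f b ∈ K.subgroupOf A from hba ▸ ha⟩, hba⟩
    rw [hr]
    refine Nat.card_congr (Subgroup.subgroupOfEquivOfLe ?_).toEquiv
    rintro w ⟨-, hw⟩
    obtain ⟨b, hb, rfl⟩ := hA.derived_le hx hxA hw
    exact hA.br_mem hb hx

theorem AbIndex.br_center_pow (hx : x ∈ S) {a : Ω} (ha : a ∈ A) (h : ⁅a, x⁆ ∈ centerOf S) :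
    ∀ j : ℕ, ⁅a, x ^ j⁆ ∈ centerOf S := by
  intro j
  induction j with
  | zero => rw [pow_zero, commutatorElement_one_right]; exact one_mem _
  | succ j ih =>
    rw [show ⁅a, x ^ (j + 1)⁆ = ⁅a, x ^ j⁆ * (x ^ j * ⁅a, x⁆ * (x ^ j)⁻¹) by
      simp only [commutatorElement_def]; group, centerOf_comm h (pow_mem hx j), mul_inv_cancel_right]
    exact mul_mem ih h

theorem AbIndex.mem_centerTwo (hx : x ∈ S) (hxA : x ∉ A) {a : Ω} :
    a ∈ centerTwo S A ↔ a ∈ A ∧ ⁅a, x⁆ ∈ centerOf S := by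
  constructor
  · rintro ⟨⟨g, hg, rfl⟩, hgA⟩
    rw [SetLike.mem_coe, Subgroup.mem_upperCentralSeries_succ_iff, Subgroup.upperCentralSeries_one] at hg
    exact ⟨hgA, (mem_centerOf_iff ⁅g, ⟨x, hx⟩⁆).2 (hg ⟨x, hx⟩)⟩
  · rintro ⟨ha, h⟩
    refine ⟨⟨⟨a, hA.le ha⟩, ?_, rfl⟩, ha⟩
    rw [SetLike.mem_coe, Subgroup.mem_upperCentralSeries_succ_iff, Subgroup.upperCentralSeries_one]
    intro y
    obtain ⟨b, hb, j, hy⟩ := hA.gen x hx hxA y y.2
    refine (mem_centerOf_iff _).1 ?_
    show ⁅a, (y : Ω)⁆ ∈ centerOf S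
    rw [hy, show ⁅a, b * x ^ j⁆ = ⁅a, b⁆ * (b * ⁅a, x ^ j⁆ * b⁻¹) by
      simp only [commutatorElement_def]; group,
      centerOf_comm (hA.br_center_pow hx ha h j) (hA.le hb), mul_inv_cancel_right,
      commutatorElement_eq_one_iff_mul_comm.2 (hA.comm a ha b hb), one_mul]
    exact hA.br_center_pow hx ha h j

theorem AbIndex.card_centerTwo [Finite S] (hx : x ∈ S) (hxA : x ∉ A) :
    Nat.card (centerTwo S A) = Nat.card (centerOf S) * Nat.card (centerDerived S) := by
  rw [centerDerived, ← hA.card_comap hx hxA (K := centerOf S)]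
  refine Nat.card_congr
    { toFun := fun a => ⟨⟨a, ((hA.mem_centerTwo hx hxA).1 a.2).1⟩, ((hA.mem_centerTwo hx hxA).1 a.2).2⟩
      invFun := fun a => ⟨(a : A), (hA.mem_centerTwo hx hxA).2 ⟨(a : A).2, a.2⟩⟩
      left_inv := fun a => rfl
      right_inv := fun a => rfl }

/-- A subgroup not inside `A` meets it in index `p`. -/
theorem AbIndex.card_inf_mul [hp : Fact p.Prime] [Finite S] (hS : IsPGroup p S)
    (hidx : (A.subgroupOf S).index = p) {H : Subgroup Ω} (hH : H ≤ S) (hne : ¬ H ≤ A) :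
    Nat.card H = p * Nat.card (H ⊓ A : Subgroup Ω) := by
  have := finite_le hH
  have h1 := Subgroup.relIndex_mul_relIndex ⊥ (H ⊓ A) H bot_le inf_le_left
  rw [Subgroup.relIndex_bot_left, Subgroup.relIndex_bot_left] at h1
  rw [← h1, mul_comm p]
  congr 1
  rw [inf_comm, Subgroup.inf_relIndex_right]
  have hfin : (A.subgroupOf S).index ≠ 0 := by rw [hidx]; exact hp.out.ne_zero
  have hle : A.relIndex H ≤ p := (Subgroup.relIndex_le_of_le_right hH hfin).trans_eq hidx
  obtain ⟨k, hk⟩ := (hS.to_le hH).index (A.subgroupOf H)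
  have hk' : A.relIndex H = p ^ k := hk
  rcases Nat.eq_zero_or_pos k with rfl | hk0
  · exact absurd (Subgroup.relIndex_eq_one.1 (hk'.trans (pow_zero p))) hne
  · exact le_antisymm hle (hk' ▸ Nat.le_self_pow hk0.ne' p)

omit hA in
/-- An essential subgroup contains the elements that fix a series invariant under its automisers. -/
theorem mem_of_seriesFix [Fact p.Prime] [Finite S] (hS : IsPGroup p S) {P : Subgroup Ω}
    (hP : F.IsEssential p P) (D : Subgroup P) (hD : ∀ γ ∈ F.autGroup P, ∀ d ∈ D, γ d ∈ D)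
    (g : normalizerIn S P) (hfix : ∀ d ∈ D, conjAut g d = d)
    (hmove : ∀ e, e⁻¹ * conjAut g e ∈ D) : (g : Ω) ∈ P := by
  have hPS := hP.1.1
  have := finite_le hPS
  obtain ⟨K, hKG, hKp, hKmem, hKn⟩ := exists_seriesStab (hS.to_le hPS) (F.autGroup P) D
  have : (K.subgroupOf (F.autGroup P)).Normal := ⟨fun k hk γ =>
    (Subgroup.mem_normalizer_iff.1 (hKn γ γ.2 (hD γ γ.2)) k).1 hk⟩
  refine mem_of_conjAut_inn hP.1 g ?_
  have hg := autInducedBy_le_autGroup (F := F) hPS (conjAut_mem g)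
  exact (isRadical_iff_le hS hPS).1 (IsEssential.isRadical hS hP) (Core.le_pCore
    (isPGroup_subgroupOf hKG hKp)
    (show (⟨_, hg⟩ : F.autGroup P) ∈ K.subgroupOf (F.autGroup P) from (hKmem _).2 ⟨hg, hfix, hmove⟩))

/-- A nonabelian essential subgroup other than `A`. -/
theorem AbIndex.ess_nonabelian [hp : Fact p.Prime] [Finite S] (hS : IsPGroup p S) (hF : F.IsSaturated p)
    (hidx : (A.subgroupOf S).index = p) {P : Subgroup Ω} (hP : F.IsEssential p P) (hne : P ≠ A)
    (hnab : ¬ ∀ a ∈ P, ∀ b ∈ P, a * b = b * a) :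
    Nat.card (centerDerived S) = p ∧ P ⊓ A = centerTwo S A := by
  have hp' : p.Prime := hp.out
  have hPS : P ≤ S := hP.1.1
  have := finite_le hPS
  obtain ⟨hZP, x, hxP, hxA, -, hna⟩ := hA.ess_shape hP hne
  obtain ⟨hcen, b₀, hb₀P, hb₀A, hb₀Z⟩ := hna hnab
  have hxS := hPS hxP
  set B := P ⊓ A with hB
  have hZB : centerOf S ≤ B := le_inf hZP hA.center_le
  have hBfin : Finite B := finite_le (inf_le_left.trans hPS)
  have hcardP : Nat.card P = p * Nat.card B := hA.card_inf_mul hS hidx hPS fun h => hxA (h hxP)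
  -- `B` is not invariant
  obtain ⟨α, hα, c, hcB, hcα⟩ : ∃ α ∈ F.autGroup P, ∃ c ∈ B.subgroupOf P, α c ∉ B.subgroupOf P := by
    by_contra h
    push Not at h
    have hPS' : P < S := lt_of_le_of_ne hPS (isEssential_ne_self hS hF hP)
    obtain ⟨g, hg, hgP⟩ := exists_mem_normalizerIn_not_mem hS hPS'
    obtain ⟨a, ha, j, hga⟩ := hA.gen x hxS hxA g hg.1
    have haN : a ∈ normalizerIn S P := by
      have hx' : x ^ j ∈ normalizerIn S P := le_normalizerIn hPS (P.pow_mem hxP j)
      have := mul_mem hg (inv_mem hx')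
      rwa [hga, mul_inv_cancel_right] at this
    refine hgP ?_
    rw [hga]
    refine P.mul_mem (mem_of_seriesFix hS hP (B.subgroupOf P) h ⟨a, haN⟩ (fun d hd => Subtype.ext ?_)
      fun e => ?_) (P.pow_mem hxP j)
    · rw [conjAut_apply]
      show a * (d : Ω) * a⁻¹ = d
      rw [hA.comm a ha d hd.2, mul_inv_cancel_right]
    · refine ⟨(e⁻¹ * conjAut (⟨a, haN⟩ : normalizerIn S P) e).2, ?_⟩
      show (e : Ω)⁻¹ * (a * (e : Ω) * a⁻¹) ∈ A
      rw [show (e : Ω)⁻¹ * (a * e * a⁻¹) = (e : Ω)⁻¹ * a * ((e : Ω)⁻¹)⁻¹ * a⁻¹ by group]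
      exact A.mul_mem (hA.conj _ (S.inv_mem (hPS e.2)) a ha) (A.inv_mem ha)
  have hyA : ((α c : P) : Ω) ∉ A := fun h => hcα ⟨(α c).2, h⟩
  -- `B` has index `p` over the centre
  have hcardB : Nat.card B = p * Nat.card (centerOf S) := by
    set B' := B.subgroupOf P with hB'
    have hB'card : Nat.card B' = Nat.card B :=
      Nat.card_congr (Subgroup.subgroupOfEquivOfLe inf_le_left).toEquiv
    set C := B' ⊓ B'.map α.toMonoidHom with hC
    have hCle : C ≤ (centerOf S).subgroupOf P := by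
      rintro d ⟨hd, e, he, rfl⟩
      refine hA.fix_mem (hPS (α c).2) hyA hd.2 ?_
      have h1 : e * c = c * e := Subtype.ext (hA.comm _ he.2 _ hcB.2)
      have h2 := congrArg α h1
      rw [map_mul, map_mul] at h2
      exact congrArg Subtype.val h2
    have h1 := Subgroup.relIndex_mul_relIndex ⊥ C B' bot_le inf_le_left
    rw [Subgroup.relIndex_bot_left, Subgroup.relIndex_bot_left, hB'card] at h1
    have h2 : C.relIndex B' ≤ p := by
      rw [hC, inf_comm, Subgroup.inf_relIndex_right]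
      refine (Subgroup.relIndex_le_of_le_right (le_top : B' ≤ ⊤) ?_).trans_eq ?_
      · exact Subgroup.index_ne_zero_of_finite
      · rw [Subgroup.relIndex_top_right, show α.toMonoidHom = (α : P →* P) from rfl, Subgroup.index_map_equiv]
        have h := B'.card_mul_index
        rw [hB'card, hcardP, mul_comm p] at h
        exact Nat.eq_of_mul_eq_mul_left Nat.card_pos h
    have hle : Nat.card B ≤ p * Nat.card (centerOf S) := by
      rw [← h1, mul_comm p]
      refine Nat.mul_le_mul ?_ h2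
      rw [← Nat.card_congr (Subgroup.subgroupOfEquivOfLe hZP).toEquiv]
      exact Subgroup.card_le_of_le hCle
    refine le_antisymm hle ?_
    have := finite_le (S := S) (centerOf_le S)
    obtain ⟨i, hi⟩ := (hS.to_le (centerOf_le S)).exists_card_eq
    obtain ⟨j, hj⟩ := (hS.to_le (inf_le_left.trans hPS : B ≤ S)).exists_card_eq
    have hlt : Nat.card (centerOf S) < Nat.card B := lt_of_le_of_ne (Subgroup.card_le_of_le hZB)
      fun h => hb₀Z ((Subgroup.eq_of_le_of_card_ge hZB h.ge).ge ⟨hb₀P, hb₀A⟩)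
    rw [hi, hj] at hlt ⊢
    rw [← pow_succ']
    exact Nat.pow_le_pow_right hp'.pos ((Nat.pow_lt_pow_iff_right hp'.one_lt).1 hlt)
  -- the centre of `P`
  set ZP := (centerOf S).subgroupOf P with hZPdef
  have hZPn : ZP.Normal := ⟨fun d hd e => by
    rw [show e * d * e⁻¹ = d from Subtype.ext (by
      show (e : Ω) * d * (e : Ω)⁻¹ = d
      rw [centerOf_comm (Subgroup.mem_subgroupOf.1 hd) (hPS e.2), mul_inv_cancel_right])]
    exact hd⟩
  have := finite_le (S := S) (centerOf_le S)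
  have hquot : Nat.card (P ⧸ ZP) = p ^ 2 := by
    have h := ZP.card_eq_card_quotient_mul_card_subgroup
    rw [hcardP, hcardB, hZPdef, Nat.card_congr (Subgroup.subgroupOfEquivOfLe hZP).toEquiv,
      ← mul_assoc, ← pow_two] at h
    exact (Nat.eq_of_mul_eq_mul_right Nat.card_pos h).symm
  have := finite_le (S := S) (centerOf_le S)
  have hcomm : ∀ u v : P, ⁅(u : Ω), (v : Ω)⁆ ∈ centerOf S := fun u v => by
    have h : ((⁅u, v⁆ : P) : P ⧸ ZP) = 1 := by
      rw [← QuotientGroup.mk'_apply, map_commutatorElement, commutatorElement_eq_one_iff_mul_comm]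
      exact (IsPGroup.isMulCommutative_of_card_eq_prime_sq hquot).is_comm.comm _ _
    exact Subgroup.mem_subgroupOf.1 ((QuotientGroup.eq_one_iff _).1 h)
  have hle1 : B ≤ centerTwo S A := fun a ha =>
    (hA.mem_centerTwo hxS hxA).2 ⟨ha.2, hcomm ⟨a, ha.1⟩ ⟨x, hxP⟩⟩
  have hle2 : centerTwo S A ≤ B := by
    intro a ha
    obtain ⟨haA, hax⟩ := (hA.mem_centerTwo hxS hxA).1 ha
    have hmv : ∀ e ∈ P, ⁅a, e⁆ ∈ centerOf S := by
      intro e he
      obtain ⟨b, hb, j, rfl⟩ := hA.gen x hxS hxA e (hPS he)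
      rw [show ⁅a, b * x ^ j⁆ = ⁅a, b⁆ * (b * ⁅a, x ^ j⁆ * b⁻¹) by
        simp only [commutatorElement_def]; group,
        centerOf_comm (hA.br_center_pow hxS haA hax j) (hA.le hb), mul_inv_cancel_right,
        commutatorElement_eq_one_iff_mul_comm.2 (hA.comm a haA b hb), one_mul]
      exact hA.br_center_pow hxS haA hax j
    have hval : ∀ e ∈ P, a * e * a⁻¹ = ⁅a, e⁆ * e := fun e _ => by
      rw [commutatorElement_def]; group
    have haN : a ∈ normalizerIn S P := by
      refine ⟨hA.le haA, Subgroup.mem_normalizer_iff_map_conj_eq.2 (Subgroup.eq_of_le_of_card_ge ?_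
        (le_of_eq (Subgroup.card_map_of_injective (MulAut.conj a).injective).symm))⟩
      rintro _ ⟨e, he, rfl⟩
      show a * e * a⁻¹ ∈ P
      rw [hval e he]
      exact P.mul_mem (hZP (hmv e he)) he
    refine ⟨mem_of_seriesFix hS hP ZP (fun γ _ d hd => Subgroup.mem_subgroupOf.2
      (hcen _ (γ d).2 fun y hy => ?_)) ⟨a, haN⟩ (fun d hd => Subtype.ext ?_) fun e => ?_, haA⟩
    · have h1 : d * γ⁻¹ ⟨y, hy⟩ = γ⁻¹ ⟨y, hy⟩ * d :=
        Subtype.ext (centerOf_comm (Subgroup.mem_subgroupOf.1 hd) (hPS (γ⁻¹ ⟨y, hy⟩).2)).symm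
      have h2 := congrArg γ h1
      rw [map_mul, map_mul, MulAut.apply_inv_self] at h2
      exact congrArg Subtype.val h2
    · rw [conjAut_apply]
      show a * (d : Ω) * a⁻¹ = d
      rw [centerOf_comm (Subgroup.mem_subgroupOf.1 hd) (hA.le haA), mul_inv_cancel_right]
    · refine Subgroup.mem_subgroupOf.2 ?_
      show (e : Ω)⁻¹ * (a * (e : Ω) * a⁻¹) ∈ centerOf S
      rw [hval e e.2, centerOf_comm (hmv e e.2) (hPS e.2) |>.symm, inv_mul_cancel_left]
      exact hmv e e.2
  have heq : B = centerTwo S A := le_antisymm hle1 hle2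
  refine ⟨?_, heq⟩
  have h := hA.card_centerTwo hxS hxA
  rw [← heq, hcardB, mul_comm p] at h
  have := finite_le (S := S) (centerOf_le S)
  exact (Nat.eq_of_mul_eq_mul_left Nat.card_pos h).symm

/-- Every essential subgroup other than `A`. -/
theorem AbIndex.ess_structure [hp : Fact p.Prime] [Finite S] (hS : IsPGroup p S) (hF : F.IsSaturated p)
    (hidx : (A.subgroupOf S).index = p)
    (huniq : ∀ B : Subgroup Ω, B ≤ S → IsMulCommutative B → (B.subgroupOf S).index = p → B = A)
    {P : Subgroup Ω} (hP : F.IsEssential p P) (hne : P ≠ A) :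
    Nat.card (centerDerived S) = p ∧ (Subgroup.upperCentralSeries S 2).map S.subtype = centerTwo S A ∧
      ∃ x ∈ S, x ∉ A ∧ (P = centerOf S ⊔ Subgroup.zpowers x ∨
        P = centerTwo S A ⊔ Subgroup.zpowers x) ∧
      (P.subgroupOf (normalizerIn S P)).index = p := by
  have hp' : p.Prime := hp.out
  have hPS : P ≤ S := hP.1.1
  have := finite_le hPS
  have := finite_le (S := S) (centerOf_le S)
  obtain ⟨hZP, x, hxP, hxA, hPx, -⟩ := hA.ess_shape hP hne
  have hxS := hPS hxP
  have hPA : ¬ P ≤ A := fun h => hxA (h hxP)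
  have hW : Nat.card (centerDerived S) = p := by
    by_cases hab : ∀ a ∈ P, ∀ b ∈ P, a * b = b * a
    · exact hA.ess_abelian_base hS hF hP hne hab
    · exact (hA.ess_nonabelian hS hF hidx hP hne hab).1
  have hdecP : P = (P ⊓ A) ⊔ Subgroup.zpowers x := by
    refine le_antisymm (fun g hg => ?_) (sup_le inf_le_left (Subgroup.zpowers_le.2 hxP))
    obtain ⟨a, ha, j, rfl⟩ := hA.gen x hxS hxA g (hPS hg)
    have haP : a ∈ P := by simpa using P.mul_mem hg (P.inv_mem (P.pow_mem hxP j))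
    exact Subgroup.mul_mem_sup ⟨haP, ha⟩ (Subgroup.pow_mem _ (Subgroup.mem_zpowers x) j)
  have hZ2 : (Subgroup.upperCentralSeries S 2).map S.subtype = centerTwo S A := by
    refine le_antisymm (fun g hg => ⟨hg, ?_⟩) inf_le_left
    by_contra hgA
    obtain ⟨g, hg, rfl⟩ := hg
    rw [SetLike.mem_coe, Subgroup.mem_upperCentralSeries_succ_iff, Subgroup.upperCentralSeries_one] at hg
    have hAle : A ≤ centerTwo S A := fun a ha => (hA.mem_centerTwo g.2 hgA).2 ⟨ha, by
      have h1 := (mem_centerOf_iff _).2 (hg ⟨a, hA.le ha⟩)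
      rw [← commutatorElement_inv]
      exact inv_mem h1⟩
    have hAeq : Nat.card A = p * Nat.card (centerOf S) := by
      rw [show A = centerTwo S A from le_antisymm hAle inf_le_right, hA.card_centerTwo g.2 hgA, hW,
        mul_comm]
    have hgZ : (g : Ω) ∉ centerOf S := fun h => hgA (hA.center_le h)
    set B := centerOf S ⊔ Subgroup.zpowers (g : Ω) with hB
    have hBS : B ≤ S := sup_le (centerOf_le S) (Subgroup.zpowers_le.2 g.2)
    obtain ⟨hcardB, hdec⟩ := card_sup_zpowers_of_pow_mem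
      (fun c hc => (centerOf_comm hc g.2).symm) (hA.pow_center g.2 hgA) hgZ
    refine hgA (huniq B hBS ⟨⟨fun a b => Subtype.ext ?_⟩⟩ ?_ ▸
      Subgroup.mem_sup_right (Subgroup.mem_zpowers _))
    · obtain ⟨c, hc, i, hac⟩ := hdec a a.2
      obtain ⟨d, hd, j, hbd⟩ := hdec b b.2
      show (a : Ω) * b = b * a
      rw [hac, hbd]
      have hcc : ∀ y ∈ S, Commute c y := fun y hy => (centerOf_comm hc hy).symm
      have hdd : ∀ y ∈ S, Commute d y := fun y hy => (centerOf_comm hd hy).symm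
      exact (Commute.mul_left (Commute.mul_right (hcc d hd.1) (hcc _ (pow_mem g.2 j)))
        (Commute.mul_right (hdd _ (pow_mem g.2 i)).symm (Commute.pow_pow_self _ i j))).eq
    · have h := (B.subgroupOf S).card_mul_index
      have h' := (A.subgroupOf S).card_mul_index
      rw [Nat.card_congr (Subgroup.subgroupOfEquivOfLe hBS).toEquiv, hcardB] at h
      rw [Nat.card_congr (Subgroup.subgroupOfEquivOfLe hA.le).toEquiv, hidx, hAeq] at h'
      exact Nat.eq_of_mul_eq_mul_left (Nat.mul_pos hp'.pos Nat.card_pos) (h.trans h'.symm)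
  refine ⟨hW, hZ2, x, hxS, hxA, ?_, ?_⟩
  · by_cases hab : ∀ a ∈ P, ∀ b ∈ P, a * b = b * a
    · exact Or.inl (hPx hab)
    · exact Or.inr (by rw [← (hA.ess_nonabelian hS hF hidx hP hne hab).2]; exact hdecP)
  -- the index in the normalizer
  set N := normalizerIn S P with hN
  have hNS : N ≤ S := normalizerIn_le P
  have := finite_le hNS
  have hPN : P < N := lt_normalizerIn hS (lt_of_le_of_ne hPS (isEssential_ne_self hS hF hP))
  have hcN := hA.card_inf_mul hS hidx hNS fun h => hxA (h (hPN.le hxP))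
  have hcP := hA.card_inf_mul hS hidx hPS hPA
  have hPAle : P ⊓ A ≤ P := inf_le_left
  have hNA : Nat.card (N ⊓ A : Subgroup Ω) ≤ p * Nat.card (P ⊓ A : Subgroup Ω) := by
    have := finite_le hA.le
    have h1 : Nat.card (N ⊓ A : Subgroup Ω) ≤
        Nat.card (((P ⊓ A).subgroupOf A).comap (hA.brHom hxS)) := by
      rw [← Nat.card_congr (Subgroup.subgroupOfEquivOfLe (inf_le_right : N ⊓ A ≤ A)).toEquiv]
      refine Subgroup.card_le_of_le fun a ha => ?_
      obtain ⟨haN, -⟩ := (Subgroup.mem_subgroupOf.1 ha : (a : Ω) ∈ N ⊓ A)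
      refine ⟨?_, (hA.brHom hxS a).2⟩
      show (a : Ω) * x * (a : Ω)⁻¹ * x⁻¹ ∈ P
      exact P.mul_mem (conj_mem_of_mem_normalizer haN.2 hxP) (P.inv_mem hxP)
    rw [hA.card_comap hxS hxA] at h1
    refine h1.trans ?_
    set W := (P ⊓ A) ⊓ (commutator S).map S.subtype with hW'
    have hWS : W ≤ S := inf_le_left.trans (inf_le_left.trans hPS)
    have := finite_le hWS
    have := finite_le (inf_le_left.trans hPS : P ⊓ A ≤ S)
    have hmeet : centerOf S ⊓ W = centerDerived S :=
      le_antisymm (fun w hw => ⟨hw.1, hw.2.2⟩) fun w hw => ⟨hw.1, ⟨hZP hw.1, hA.center_le hw.1⟩, hw.2⟩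
    have h2 := Subgroup.relIndex_mul_relIndex ⊥ (centerOf S ⊓ W) W bot_le inf_le_right
    rw [Subgroup.relIndex_bot_left, Subgroup.relIndex_bot_left, Subgroup.inf_relIndex_right, hmeet,
      hW] at h2
    have h3 := Subgroup.relIndex_mul_relIndex ⊥ (centerOf S) (P ⊓ A) bot_le
      (le_inf hZP hA.center_le)
    rw [Subgroup.relIndex_bot_left, Subgroup.relIndex_bot_left] at h3
    rw [← h2, ← h3, ← mul_assoc, mul_comm _ p, mul_assoc]
    refine Nat.mul_le_mul_left _ (Nat.mul_le_mul_left _ ?_)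
    exact Subgroup.relIndex_le_of_le_right inf_le_left Subgroup.index_ne_zero_of_finite
  have h4 := (P.subgroupOf N).card_mul_index
  rw [Nat.card_congr (Subgroup.subgroupOfEquivOfLe hPN.le).toEquiv, hcN, hcP] at h4
  obtain ⟨k, hk⟩ := (hS.to_le hNS).index (P.subgroupOf N)
  refine le_antisymm ?_ ?_
  · have h5 : p * Nat.card (P ⊓ A : Subgroup Ω) * (P.subgroupOf N).index ≤
        p * Nat.card (P ⊓ A : Subgroup Ω) * p := by
      rw [h4, mul_assoc, mul_comm (Nat.card (P ⊓ A : Subgroup Ω))]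
      exact Nat.mul_le_mul_left _ hNA
    have := finite_le (inf_le_left.trans hPS : P ⊓ A ≤ S)
    exact Nat.le_of_mul_le_mul_left h5 (Nat.mul_pos hp'.pos Nat.card_pos)
  · rw [hk]
    refine Nat.le_self_pow (fun h0 => hPN.not_ge ?_) p
    rw [h0, pow_zero, Subgroup.index_eq_one] at hk
    exact Subgroup.subgroupOf_eq_top.1 hk

end CfsgLib.Fusion
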