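import Cfsg.Agent.Lib.Fusion.RadicalCriterion

/-!
# Simplicity from centric subgroups
-/

set_option autoImplicit false

namespace CfsgLib.Fusion

open Cfsg Cfsg.FusionSystem

variable {Ω : Type*} [Group Ω] {S : Subgroup Ω} {F : FusionSystem S} {p : ℕ}

/-- An automorphism of `S` in the system carries fully normalized subgroups to such. -/
theorem fullyNormalized_aut_image [Finite S] {Q R : Subgroup Ω} {α : MulAut S}
    (hα : α ∈ F.autGroup S) (hQS : Q ≤ S)
    (hmap : (Q.subgroupOf S).map (S.subtype.comp α.toMonoidHom) = R) (hR : F.IsFullyNormalized R) :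
    F.IsFullyNormalized Q := by
  refine ⟨hQS, fun P hQP => ?_⟩
  have hconj : F.IsConj Q R := by
    refine ⟨(S.subtype.comp α.toMonoidHom).comp (Subgroup.inclusion hQS),
      restrict_mem ((mem_autGroup_iff le_rfl).1 hα) hQS, ?_⟩
    rw [range_restrict]
    exact hmap
  refine (hR.2 P (isConj_trans (isConj_symm hconj) hQP)).trans ?_
  have hmem : ∀ x : normalizerIn S R,
      ((α.symm ⟨(x : Ω), x.2.1⟩ : S) : Ω) ∈ normalizerIn S Q := by
    intro x
    set m := α.symm ⟨(x : Ω), x.2.1⟩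
    have hm : α m = ⟨(x : Ω), x.2.1⟩ := α.apply_symm_apply _
    have hiff : ∀ q : S, (q : Ω) ∈ Q ↔ ((α q : S) : Ω) ∈ R := fun q => by
      rw [← hmap]
      refine ⟨fun hq => ⟨q, hq, rfl⟩, fun ⟨q', hq', h⟩ => ?_⟩
      exact α.injective (Subtype.ext h) ▸ hq'
    refine ⟨m.2, Subgroup.mem_normalizer_iff.2 fun q => ?_⟩
    have hx := Subgroup.mem_normalizer_iff.1 x.2.2
    constructor
    · intro hq
      have h1 := (hx _).1 ((hiff ⟨q, hQS hq⟩).1 hq)
      have := (hiff (m * ⟨q, hQS hq⟩ * m⁻¹)).2 (by rw [map_mul, map_mul, map_inv, hm]; exact h1)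
      exact this
    · intro hq
      have hqS : q ∈ S := by
        have := S.mul_mem (S.mul_mem (S.inv_mem m.2) (hQS hq)) m.2
        simpa [mul_assoc] using this
      have h1 := (hiff (m * ⟨q, hqS⟩ * m⁻¹)).1 hq
      rw [map_mul, map_mul, map_inv, hm] at h1
      exact (hiff ⟨q, hqS⟩).2 ((hx _).2 h1)
  have := finite_le (normalizerIn_le (S := S) Q)
  exact Nat.card_le_card_of_injective (fun x => (⟨_, hmem x⟩ : normalizerIn S Q)) fun a b h =>
    Subtype.ext (congrArg Subtype.val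
      (α.symm.injective (Subtype.ext (congrArg Subtype.val h :))) :)

/-- An invariant subsystem on `S` contains every automorphism of `p`-power order. -/
theorem invariant_mem_of_orderOf [Fact p.Prime] [Finite S] (hS : IsPGroup p S)
    (hF : F.IsSaturated p) {E : FusionSystem S} (hE : E.IsInvariantIn F) {R : Subgroup Ω}
    (hR : R ≤ S) {a : MulAut R} (ha : a ∈ F.autGroup R) {k : ℕ} (hk : orderOf a ∣ p ^ k) :
    a ∈ E.autGroup R := by
  obtain ⟨R', hRR', -, -, hn⟩ := IsSaturated.exists_rep hS hF hR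
  obtain ⟨ψ, hψ, hψr⟩ := hRR'
  obtain ⟨hsub, -, hinv, hfr⟩ := id hE
  obtain ⟨α, hα, φ₀, hφ₀, hval⟩ := hfr R hR ψ hψ
  obtain ⟨e, he, hev⟩ := exists_iso hφ₀ rfl
  have hR''S : φ₀.range ≤ S := he.le_right
  have hfn : F.IsFullyNormalized φ₀.range := by
    refine fullyNormalized_aut_image hα hR''S ?_ hn
    rw [← hψr]
    ext y
    constructor
    · rintro ⟨z, ⟨x, hx⟩, rfl⟩
      refine ⟨x, (hval x (hom_apply_mem hφ₀ x)).trans ?_⟩
      exact congrArg (fun z : S => ((α z : S) : Ω)) (Subtype.ext hx)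
    · rintro ⟨x, rfl⟩
      exact ⟨⟨φ₀ x, hom_apply_mem hφ₀ x⟩, ⟨x, rfl⟩, (hval x _).symm⟩
  have heF : IsoIn F e := hsub R he.mem
  have hb : MulAut.congr e a ∈ F.autGroup φ₀.range := heF.congr_autGroup.le ⟨a, ha, rfl⟩
  have := finite_mulAut_of_le (S := S) hR''S
  have hbE : MulAut.congr e a ∈ E.autGroup φ₀.range :=
    mem_of_sylow_le (IsSaturated.fullyAutomized hS hF hfn).2
      (fun x hx y hy => invariant_conj_mem hE hR''S hy hx)
      (autInducedBy_le_autGroup hR''S) hb (k := k)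
      ((orderOf_map_dvd (MulAut.congr e).toMonoidHom a).trans hk)
  obtain ⟨c, hc, hce⟩ := he.congr_autGroup.ge hbE
  have heq : c = a := (MulAut.congr e).injective hce
  exact heq ▸ hc

/-- Simplicity of the fusion system of a group from generation of `Aut_G(S)` by the normalizers
of centric subgroups. -/
theorem groupFusion_isSimple_of_centrics {G : Type*} [Group G] [Finite G] {p : ℕ} [Fact p.Prime]
    (S : Sylow p G) (hne : (S : Subgroup G) ≠ ⊥)
    (hT : ∀ T : Subgroup G, T ≤ (S : Subgroup G) → T ≠ ⊥ →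
      (∀ x ∈ T, ∀ c : G, c * x * c⁻¹ ∈ (S : Subgroup G) → c * x * c⁻¹ ∈ T) →
      T = (S : Subgroup G))
    (Rs : Set (Subgroup G))
    (hRs : ∀ R ∈ Rs, R ≤ (S : Subgroup G) ∧
      ∀ c ∈ Subgroup.centralizer (R : Set G), (∃ k : ℕ, c ^ p ^ k = 1) → c ∈ R)
    (hgen : Subgroup.normalizer ((S : Subgroup G) : Set G) ≤ Subgroup.closure
      {n : G | n ∈ Subgroup.normalizer ((S : Subgroup G) : Set G) ∧
        ∃ R ∈ Rs, n ∈ pGenNormalizer p R}) :
    (groupFusionSystem (S : Subgroup G)).IsSimple p := by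
  set F := groupFusionSystem (S : Subgroup G) with hFdef
  have hF := groupFusion_saturated S
  have hSp := S.isPGroup'
  refine isSimple_of_top hF hne
    (fun T hTc => or_iff_not_imp_left.2 fun hb => hT T hTc.1 hb fun x hx c hc =>
      stronglyClosed_conj_mem hTc hx hc) fun E hE => ?_
  obtain ⟨⟨hEsat, -, hinv⟩, -⟩ := hE
  rw [groupFusion_autGroup le_rfl]
  intro α₀ hα₀
  obtain ⟨n₀, -, hn₀⟩ := mem_autInducedBy_iff.1 hα₀
  let θ := (S : Subgroup G).normalizerMonoidHom
  have hle : Subgroup.normalizer ((S : Subgroup G) : Set G) ≤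
      ((E.autGroup (S : Subgroup G)).comap θ).map
        (Subgroup.normalizer ((S : Subgroup G) : Set G)).subtype := by
    refine hgen.trans ((Subgroup.closure_le _).2 ?_)
    rintro g ⟨hgS, R, hR, hg⟩
    refine ⟨⟨g, hgS⟩, ?_, rfl⟩
    obtain ⟨hRS, hcent⟩ := hRs R hR
    have hc : F.IsCentric R := by
      refine ⟨hRS, fun Q hQ => ?_⟩
      obtain ⟨φ, hφ, rfl⟩ := hQ
      obtain ⟨-, -, h, hh⟩ := mem_groupFusion_iff.1 hφ
      intro z hz
      obtain ⟨hzS, hzc⟩ := mem_centralizerIn.1 hz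
      obtain ⟨k, hk⟩ := hSp ⟨z, hzS⟩
      have hmem : h⁻¹ * z * h ∈ R := by
        refine hcent _ (Subgroup.mem_centralizer_iff.2 fun r hr => ?_) ⟨k, ?_⟩
        · have := hzc _ ⟨⟨r, hr⟩, rfl⟩
          rw [hh] at this
          calc r * (h⁻¹ * z * h) = h⁻¹ * (h * r * h⁻¹ * z) * h := by group
            _ = h⁻¹ * z * h * r := by rw [this]; group
        · have h1 : (h⁻¹ * z * h⁻¹⁻¹) ^ p ^ k = h⁻¹ * z ^ p ^ k * h⁻¹⁻¹ := conj_pow
          rw [inv_inv] at h1
          rw [h1, show z ^ p ^ k = 1 from congrArg Subtype.val hk]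
          simp
      exact ⟨⟨_, hmem⟩, (hh _).trans (by simp [mul_assoc])⟩
    have hcl : pGenNormalizer p R ≤ Subgroup.normalizer (R : Set G) :=
      (Subgroup.closure_le _).2 fun x hx => hx.1
    have hgK : R.normalizerMonoidHom ⟨g, hcl hg⟩ ∈ E.autGroup R := by
      suffices H : pGenNormalizer p R ≤
          ((E.autGroup R).comap R.normalizerMonoidHom).map
            (Subgroup.normalizer (R : Set G)).subtype by
        obtain ⟨y, hy, hyg⟩ := H hg
        obtain rfl : y = ⟨g, hcl hg⟩ := Subtype.ext hyg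
        exact hy
      rw [pGenNormalizer, Subgroup.closure_le]
      rintro x ⟨hxN, k, hk⟩
      refine ⟨⟨x, hxN⟩, invariant_mem_of_orderOf hSp hF hinv hRS ?_ (k := k) ?_, rfl⟩
      · rw [groupFusion_autGroup hRS]
        exact mem_autInducedBy_iff.2 ⟨x, trivial, fun _ => rfl⟩
      · refine (orderOf_map_dvd _ _).trans ?_
        rw [← Subgroup.orderOf_coe, hk]
    have hαF : θ ⟨g, hgS⟩ ∈ F.autGroup (S : Subgroup G) := by
      rw [hFdef, groupFusion_autGroup le_rfl]
      exact mem_autInducedBy_iff.2 ⟨g, trivial, fun _ => rfl⟩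
    refine climb hSp hF hEsat hinv.1 hαF hc (map_subgroupOf_eq le_rfl ?_) ?_
    · rintro _ ⟨x, hx, rfl⟩
      exact conj_mem_of_mem_normalizer (hcl hg) hx
    · exact hom_congr ((mem_autGroup_iff hRS).1 hgK) fun x => rfl
  obtain ⟨m, hm, hmn⟩ := hle (mem_normalizer_of_conj_eq α₀ hn₀)
  have : θ m = α₀ := MulEquiv.ext fun x => Subtype.ext (by
    rw [hn₀, ← show (m : G) = n₀ from hmn]
    rfl)
  exact this ▸ hm

end CfsgLib.Fusion
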