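import Cfsg.Agent.Lib.Fusion.InnerBasic
import Cfsg.Agent.Lib.LocalEvenB.StronglyClosedComplement
import Cfsg.Agent.Lib.PLocal.SLTwo.PStableCrit
import Cfsg.Agent.Lib.PLocal.SLTwo.Faithful
import Cfsg.Agent.Lib.PLocal.ZJ
import Cfsg.Agent.Lib.PGroups.Basic

/-!
The intersection of an axiomatic Thompson family is normal in stable groups.
-/

set_option autoImplicit false

namespace CfsgLib.Fusion.Axiomatic

open Cfsg Subgroup
open scoped commutatorElement

universe u

variable {G : Type u} [Group G] [Finite G] {p : ℕ} [Fact p.Prime]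

/-- If the Sylow subgroup is maximal and not everything, there is no section `SL(2, p)`. -/
theorem noSL_of_coatom (hp : p ≠ 2) (T : Sylow p G)
    (hc : centralizer (pCore p G : Set G) ≤ pCore p G) (hT : IsCoatom (T : Subgroup G))
    (hne : ¬ (T : Subgroup G).Normal) : CfsgLib.PLocal.SLTwo.NoSL p G := by
  classical
  have hPp : p.Prime := Fact.out
  set U := pCore p G with hU
  let π := QuotientGroup.mk' U
  have hπ : Function.Surjective π := QuotientGroup.mk'_surjective U
  have hUT : U ≤ T := Core.pCore_le_sylow T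
  set Tb := (T : Subgroup G).map π with hTb
  have hTbc : Tb.comap π = T := by
    rw [hTb, comap_map_eq, QuotientGroup.ker_mk', sup_eq_left.2 hUT]
  have hmax : ∀ H : Subgroup (G ⧸ U), Tb ≤ H → H = Tb ∨ H = ⊤ := by
    intro H hH
    rcases (hT.le_iff.1 (hTbc ▸ comap_mono (f := π) hH)) with h | h
    · exact Or.inr (comap_injective hπ (h.trans (comap_top π).symm))
    · exact Or.inl (comap_injective hπ (h.trans hTbc.symm))
  have hnormal : ∀ N : Subgroup (G ⧸ U), N.Normal → IsPGroup p N → N = ⊥ := by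
    intro N hN hNp
    obtain ⟨a, ha⟩ := IsPGroup.iff_card.1 hNp
    have hMp : IsPGroup p (N.comap π) := by
      have := hNp.comap_of_ker_isPGroup π (by
        rw [QuotientGroup.ker_mk']; exact Core.isPGroup_pCore p G)
      exact this
    have hle : N.comap π ≤ U := Core.le_pCore hMp
    refine (Subgroup.eq_bot_iff_forall _).2 fun x hx => ?_
    obtain ⟨g, rfl⟩ := hπ x
    exact (QuotientGroup.eq_one_iff g).2 (hle hx)
  let T' : Sylow p (G ⧸ U) := T.mapSurjective hπ
  have hT' : (T' : Subgroup (G ⧸ U)) = Tb := rfl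
  -- the quotient has a normal complement
  have hTb1 : Tb ≠ ⊥ := by
    intro h
    have : (T : Subgroup G) = U := le_antisymm (fun g hg => (QuotientGroup.eq_one_iff g).1
      (Subgroup.mem_bot.1 (h ▸ mem_map_of_mem π hg : π g ∈ (⊥ : Subgroup (G ⧸ U))))) hUT
    exact hne (this ▸ inferInstance)
  have hZ : Tb ≤ normalizer (centerThompsonAOf Tb : Set (G ⧸ U)) :=
    le_normalizer.trans (CfsgLib.PLocal.normalizer_le_normalizer_centerThompsonA Tb)
  have hNT : normalizer (centerThompsonAOf Tb : Set (G ⧸ U)) = Tb := by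
    rcases hmax _ hZ with h | h
    · exact h
    · exfalso
      refine CfsgLib.PLocal.centerThompsonA_ne_bot (p := p) T'.isPGroup' (hT' ▸ hTb1) ?_
      exact hnormal _ (normalizer_eq_top_iff.1 h)
        (T'.isPGroup'.to_le (CfsgLib.PLocal.centerThompsonA_le _))
  have hnpc : HasNormalPComplement p (G ⧸ U) := by
    refine CfsgLib.LocalEvenB.hasNormalPComplement_centerThompsonA_stronglyClosed hp T' Tb ?_ ?_
    · exact ⟨le_of_eq hT'.symm, fun x _ g hx => hT' ▸ hx⟩
    · rw [hNT]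
      exact CfsgLib.Transfer.hasNormalPComplement_of_isPGroup T'.isPGroup'
  obtain ⟨K, hKn, hKc, hKp⟩ := Transfer.hasNormalPComplement_iff_exists.1 hnpc
  have : Fact (Nat.Prime 2) := ⟨Nat.prime_two⟩
  refine CfsgLib.PLocal.SLTwo.noSL_of_abelian_sylow hp fun S => ?_
  -- the image of `S` lies in `K`
  have hSK : ∀ g ∈ (S : Subgroup G), π g ∈ K := by
    intro g hg
    obtain ⟨a, ha⟩ := S.isPGroup' ⟨g, hg⟩
    obtain ⟨b, hb⟩ := hKp (QuotientGroup.mk' K (π g))
    rw [← QuotientGroup.eq_one_iff]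
    show QuotientGroup.mk' K (π g) = 1
    have h1 : QuotientGroup.mk' K (π g) ^ 2 ^ a = 1 := by
      rw [← map_pow, ← map_pow, show g ^ 2 ^ a = 1 from congrArg Subtype.val ha, map_one, map_one]
    exact orderOf_eq_one_iff.1 (Nat.eq_one_of_dvd_coprimes
      (Nat.Coprime.pow a b ((Nat.coprime_primes Nat.prime_two hPp).2 (Ne.symm hp)))
      (orderOf_dvd_of_pow_eq_one h1) (orderOf_dvd_of_pow_eq_one hb))
  have hSi : ∀ a ∈ (S : Subgroup G), π a = 1 → a = 1 := fun a ha h => by
    obtain ⟨i, hi⟩ := S.isPGroup' ⟨a, ha⟩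
    obtain ⟨j, hj⟩ := Core.isPGroup_pCore p G ⟨a, (QuotientGroup.eq_one_iff a).1 h⟩
    exact orderOf_eq_one_iff.1 (Nat.eq_one_of_dvd_coprimes
      (Nat.Coprime.pow i j ((Nat.coprime_primes Nat.prime_two hPp).2 (Ne.symm hp)))
      (orderOf_dvd_of_pow_eq_one (show a ^ 2 ^ i = 1 from congrArg Subtype.val hi))
      (orderOf_dvd_of_pow_eq_one (show a ^ p ^ j = 1 from congrArg Subtype.val hj)))
  suffices hab : ∀ a ∈ (S : Subgroup G), ∀ b ∈ (S : Subgroup G), π a * π b = π b * π a by
    refine ⟨⟨fun a b => Subtype.ext ?_⟩⟩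
    have h := hSi ⁅(a : G), (b : G)⁆ (by
      rw [commutatorElement_def]
      exact mul_mem (mul_mem (mul_mem a.2 b.2) (inv_mem a.2)) (inv_mem b.2)) (by
      rw [map_commutatorElement, commutatorElement_eq_one_iff_mul_comm]
      exact hab a a.2 b b.2)
    exact commutatorElement_eq_one_iff_mul_comm.1 h
  -- an invariant Sylow `2`-subgroup of the complement
  have hcop : (Nat.card Tb).Coprime (Nat.card K) := by
    obtain ⟨k, hk⟩ := IsPGroup.iff_card.1 T'.isPGroup'
    rw [hT'] at hk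
    rw [hk]
    exact hKc.symm.pow_left k
  have hTK : Tb ≤ normalizer (K : Set (G ⧸ U)) := by rw [normalizer_eq_top]; exact le_top
  have hTbn : Group.IsNilpotent Tb := T'.isPGroup'.isNilpotent
  obtain ⟨P, hP⟩ := CfsgLib.Core.exists_invariant_sylow hTK hcop (Or.inl inferInstance) 2
  set Q := (P : Subgroup K).map K.subtype with hQ
  have hQp : IsPGroup 2 Q := P.isPGroup'.map _
  have hKle : ∀ M : Subgroup (G ⧸ U), M ≤ K → Tb ≤ normalizer (M : Set (G ⧸ U)) →
      M ⊔ Tb = ⊤ → K ≤ M := by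
    intro M hMK hMN hM x hx
    have hx' : x ∈ M ⊔ Tb := hM ▸ mem_top x
    rw [← SetLike.mem_coe, coe_mul_of_right_le_normalizer_left M Tb hMN] at hx'
    obtain ⟨m, hm, t, ht, rfl⟩ := hx'
    have ht' : t ∈ K := by simpa using K.mul_mem (K.inv_mem (hMK hm)) hx
    have : t = 1 := by
      have h0 : Tb ⊓ K = ⊥ := (disjoint_of_coprime_natCard hcop).eq_bot
      exact mem_bot.1 (h0 ▸ ⟨ht, ht'⟩)
    show m * t ∈ M
    rw [this, mul_one]
    exact hm
  intro a ha b hb
  by_cases hQ1 : Q = ⊥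
  · -- the complement has odd order
    have hP1 : (P : Subgroup K) = ⊥ :=
      (map_eq_bot_iff_of_injective _ K.subtype_injective).1 hQ1
    have h2 : ∀ x : K, (∃ i : ℕ, x ^ 2 ^ i = 1) → x = 1 := fun x ⟨i, hi⟩ => by
      have hp2 : IsPGroup 2 (zpowers x) := by
        rintro ⟨y, z, rfl⟩
        refine ⟨i, Subtype.ext ?_⟩
        push_cast
        rw [← zpow_natCast, ← zpow_mul, mul_comm, zpow_mul, zpow_natCast, hi, one_zpow]
      obtain ⟨R, hR⟩ := hp2.exists_le_sylow
      obtain ⟨k, hk⟩ := MulAction.exists_smul_eq K P R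
      have : (R : Subgroup K) = ⊥ := by
        rw [← hk, Sylow.coe_subgroup_smul, hP1]
        exact Subgroup.smul_bot _
      exact mem_bot.1 (this ▸ hR (mem_zpowers x))
    have h1 : π a = 1 := by
      obtain ⟨i, hi⟩ := S.isPGroup' ⟨a, ha⟩
      exact congrArg Subtype.val (h2 ⟨π a, hSK a ha⟩ ⟨i, Subtype.ext (by
        push_cast
        rw [← map_pow, show a ^ 2 ^ i = 1 from congrArg Subtype.val hi, map_one])⟩)
    rw [h1, one_mul, mul_one]
  -- the complement is elementary
  have hKQ : K ≤ Q := by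
    refine hKle Q (map_subtype_le _) hP ?_
    rcases hmax (Q ⊔ Tb) le_sup_right with h | h
    · refine absurd ?_ hQ1
      refine le_bot_iff.1 fun x hx => ?_
      have : x ∈ Tb ⊓ K := ⟨h.le (mem_sup_left hx), map_subtype_le _ hx⟩
      rwa [(disjoint_of_coprime_natCard hcop).eq_bot] at this
    · exact h
  have hKp2 : IsPGroup 2 K := hQp.to_le hKQ
  set Φ := (frattini K).map K.subtype with hΦ
  have hΦN : Tb ≤ normalizer (Φ : Set (G ⧸ U)) := by
    have : Φ.Normal := inferInstance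
    rw [normalizer_eq_top]
    exact le_top
  have hΦ1 : Φ = ⊥ := by
    rcases hmax (Φ ⊔ Tb) le_sup_right with h | h
    · refine le_bot_iff.1 fun x hx => ?_
      have : x ∈ Tb ⊓ K := ⟨h.le (mem_sup_left hx), map_subtype_le _ hx⟩
      rwa [(disjoint_of_coprime_natCard hcop).eq_bot] at this
    · exfalso
      have hKΦ := hKle Φ (map_subtype_le _) hΦN h
      have htop : frattini K = ⊤ := eq_top_iff.2 fun x _ => by
        obtain ⟨y, hy, hyx⟩ := hKΦ x.2
        exact (Subtype.ext hyx : y = x) ▸ hy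
      have : Nontrivial K := by
        refine (nontrivial_iff_ne_bot K).2 fun h0 => hQ1 ?_
        exact le_bot_iff.1 (h0 ▸ map_subtype_le _)
      exact CfsgLib.PGroups.frattini_ne_top htop
  have hc2 : IsMulCommutative K := by
    refine ⟨⟨fun x y => ?_⟩⟩
    have h1 : ⁅x, y⁆ ∈ frattini K := (CfsgLib.PGroups.commutator_le_frattini' hKp2)
      (commutator_mem_commutator (mem_top x) (mem_top y))
    have h2 : ((⁅x, y⁆ : K) : G ⧸ U) = 1 := mem_bot.1 (hΦ1 ▸ mem_map_of_mem K.subtype h1)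
    exact commutatorElement_eq_one_iff_mul_comm.1 (Subtype.ext h2)
  exact congrArg Subtype.val (hc2.is_comm.comm ⟨π a, hSK a ha⟩ ⟨π b, hSK b hb⟩)

/-- The members of the family inside `Q` meet in this subgroup. -/
def core (𝒜 : Set (Subgroup G)) (Q : Subgroup G) : Subgroup G :=
  sInf {A | A ∈ 𝒜 ∧ A ≤ Q}

/-- Glauberman's argument for an axiomatic Thompson family. -/
theorem sInf_normal (T : Sylow p G) (hc : centralizer (pCore p G : Set G) ≤ pCore p G)
    (hst : CfsgLib.PLocal.StableAt p (T : Subgroup G)) (𝒜 : Set (Subgroup G))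
    (hle : ∀ A ∈ 𝒜, A ≤ (T : Subgroup G)) (hcomm : ∀ A ∈ 𝒜, IsMulCommutative A)
    (hne : 𝒜.Nonempty)
    (hinv : ∀ Q : Subgroup G, Q ≤ T → (∃ A ∈ 𝒜, A ≤ Q) →
      ∀ g ∈ normalizer (Q : Set G), ∀ x ∈ core 𝒜 Q, g * x * g⁻¹ ∈ core 𝒜 Q)
    (hrep : ∀ B : Subgroup G, B ≤ T → ⁅⁅B, B⁆, B⁆ = ⊥ → (∃ A ∈ 𝒜, ⁅B, B⁆ ≤ A ∧ ¬ B ≤ A) →
      ∃ A ∈ 𝒜, ⁅B, B⁆ ≤ A ∧ ¬ B ≤ A ∧ B ≤ normalizer (A : Set G)) :
    (sInf 𝒜).Normal := by
  obtain ⟨A₀, hA₀⟩ := hne
  set S₀ := (T : Subgroup G) with hS₀
  set Z := sInf 𝒜 with hZ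
  have hcoreS : core 𝒜 S₀ = Z := by
    show sInf {A | A ∈ 𝒜 ∧ A ≤ S₀} = sInf 𝒜
    congr 1
    exact Set.ext fun A => ⟨fun h => h.1, fun h => ⟨h, hle A h⟩⟩
  have hZA : ∀ A ∈ 𝒜, Z ≤ A := fun A hA => sInf_le hA
  have hSZ : ∀ g ∈ S₀, ∀ x ∈ Z, g * x * g⁻¹ ∈ Z := fun g hg x hx => by
    have := hinv S₀ le_rfl ⟨A₀, hA₀, hle _ hA₀⟩ g (le_normalizer hg) x (hcoreS.ge hx)
    rwa [hcoreS] at this
  have main : ∀ B : Subgroup G, B.Normal → IsPGroup p B → (B ⊓ Z).Normal := by
    intro B
    induction hn : Nat.card B using Nat.strong_induction_on generalizing B with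
    | _ n ih =>
    intro hB hBp
    have hBS : B ≤ S₀ := hBp.le_sylow_of_normal T
    set X := B ⊓ Z with hX
    set B₁ := normalClosure (X : Set G) with hB₁
    have hB₁n : B₁.Normal := normalClosure_normal
    have hB₁B : B₁ ≤ B := normalClosure_le_normal (SetLike.coe_subset_coe.2 inf_le_left)
    have hXB₁ : X ≤ B₁ := fun x hx => subset_normalClosure hx
    rcases hB₁B.lt_or_eq with hlt | hBeq
    · have := ih _ (hn ▸ Set.Finite.card_lt_card (Set.toFinite _) (SetLike.coe_ssubset_coe.2 hlt))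
        B₁ rfl hB₁n (hBp.to_le hB₁B)
      have heq : B₁ ⊓ Z = X := le_antisymm (inf_le_inf_right _ hB₁B) (le_inf hXB₁ inf_le_right)
      rwa [heq] at this
    rcases eq_or_ne B ⊥ with hbot | hbot
    · have : X = ⊥ := by rw [hX, hbot]; simp
      rw [this]; exact normal_bot
    haveI : Nontrivial B := (nontrivial_iff_ne_bot _).2 hbot
    haveI := hBp.isNilpotent
    have hB'le : ⁅B, B⁆ ≤ B := commutator_le_self B
    have hB'lt : ⁅B, B⁆ < B := by
      refine lt_of_le_of_ne hB'le fun h => ?_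
      have hm : (_root_.commutator B).map B.subtype = ⁅B, B⁆ := map_subtype_commutator B
      have h1 : _root_.commutator B = ⊤ := by
        refine map_injective B.subtype_injective ?_
        rw [hm, h, ← MonoidHom.range_eq_map, range_subtype]
      exact (Group.IsSolvable.commutator_lt_top_of_nontrivial B).ne h1
    have hY : (⁅B, B⁆ ⊓ Z).Normal := ih _
      (hn ▸ Set.Finite.card_lt_card (Set.toFinite _) (SetLike.coe_ssubset_coe.2 hB'lt))
      _ rfl (commutator_normal B B) (hBp.to_le hB'lt.le)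
    set Y := ⁅B, B⁆ ⊓ Z with hYdef
    have hB'Z : ⁅B, B⁆ ≤ Z := by
      set π := QuotientGroup.mk' Y with hπ
      set K := (centralizer ((B.map π : Subgroup (G ⧸ Y)) : Set (G ⧸ Y))).comap π with hK
      have hBn : (B.map π).Normal := hB.map π (QuotientGroup.mk'_surjective _)
      have hXK : X ≤ K := by
        intro x hx
        rw [hK, mem_comap, mem_centralizer_iff]
        rintro _ ⟨b, hb, rfl⟩
        rw [← map_mul, ← map_mul, ← mul_inv_eq_one, ← map_inv, ← map_mul]
        refine (QuotientGroup.eq_one_iff _).2 ?_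
        have e : b * x * (x * b)⁻¹ = ⁅b, x⁆ := by rw [commutatorElement_def]; group
        rw [e]
        exact ⟨commutator_mem_commutator hb hx.1,
          Z.mul_mem (hSZ b (hBS hb) x hx.2) (Z.inv_mem hx.2)⟩
      have hBK : B ≤ K := hBeq ▸ normalClosure_le_normal (SetLike.coe_subset_coe.2 hXK)
      refine le_trans ?_ (inf_le_right : Y ≤ Z)
      refine commutator_le.2 fun a ha b hb => (QuotientGroup.eq_one_iff _).1 ?_
      show π ⁅a, b⁆ = 1
      rw [map_commutatorElement, commutatorElement_eq_one_iff_mul_comm]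
      exact mem_centralizer_iff.1 (hBK hb) _ ⟨a, ha, rfl⟩
    have hcl : ⁅⁅B, B⁆, B⁆ = ⊥ := by
      rw [commutator_eq_bot_iff_le_centralizer]
      suffices hXC : X ≤ centralizer ((⁅B, B⁆ : Subgroup G) : Set G) by
        have hBC : B ≤ centralizer ((⁅B, B⁆ : Subgroup G) : Set G) := by
          have := commutator_normal B B
          exact hBeq.symm.le.trans (normalClosure_le_normal (SetLike.coe_subset_coe.2 hXC))
        exact fun d hd => mem_centralizer_iff.2 fun b hb => (mem_centralizer_iff.1 (hBC hb) d hd).symm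
      intro x hx
      refine mem_centralizer_iff.2 fun d hd => ?_
      have := hcomm A₀ hA₀
      exact congrArg Subtype.val
        (mul_comm' (⟨d, hZA _ hA₀ (hB'Z hd)⟩ : A₀) ⟨x, hZA _ hA₀ hx.2⟩)
    by_cases hall : ∀ A ∈ 𝒜, B ≤ A
    · have : X = B := inf_eq_left.2 (le_sInf hall)
      rwa [this]
    exfalso
    obtain ⟨A₁, hA₁, hA₁B⟩ : ∃ A ∈ 𝒜, ¬ B ≤ A := by
      by_contra h
      exact hall fun A hA => by_contra fun h' => h ⟨A, hA, h'⟩
    obtain ⟨A, hA, -, hAB, hBA⟩ := hrep B hBS hcl ⟨A₁, hA₁, hB'Z.trans (hZA _ hA₁), hA₁B⟩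
    apply hAB
    set C := centralizer (B : Set G) with hC
    set K := (pCore p (G ⧸ C)).comap (QuotientGroup.mk' C) with hK
    have hAK : A ≤ K := by
      intro a ha
      refine hst B hBp a (hle A hA ha) ?_
      refine eq_bot_iff.2 ((commutator_mono (commutator_mono le_rfl (zpowers_le.2 ha))
        (zpowers_le.2 ha)).trans ?_)
      refine (commutator_mono (le_normalizer_iff_commutator_le_right.1 hBA) le_rfl).trans ?_
      exact ((commutator_self_eq_bot_iff (H := A)).2 (hcomm A hA)).le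
    obtain ⟨k, hk⟩ := IsPGroup.iff_card.1 (Core.isPGroup_pCore p (G ⧸ C))
    have hidx : C.relIndex K = p ^ k := by
      have h := relIndex_ker (QuotientGroup.mk' C) (K := K)
      rw [QuotientGroup.ker_mk', hK,
        map_comap_eq_self_of_surjective (QuotientGroup.mk'_surjective _)] at h
      rw [hK, h, hk]
    have hCK : C ≤ K := le_of_eq_of_le (QuotientGroup.ker_mk' _).symm (ker_le_comap _ _)
    have hsup := CfsgLib.PLocal.pGroup_mod_eq_sup hCK ⟨k, hidx⟩ T
    set T₁ := S₀ ⊓ K with hT₁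
    have hnd : ¬ p ∣ S₀.relIndex K := fun hd =>
      T.not_dvd_index (hd.trans (CfsgLib.HallGen.relIndex_dvd_index_right _ _))
    let T' : Sylow p K := (T.2.comap_subtype).toSylow hnd
    have hT' : (T' : Subgroup K).map K.subtype = T₁ := subgroupOf_map_subtype _ _
    have hfr : normalizer (T₁ : Set G) ⊔ C = ⊤ := by
      have h := Sylow.normalizer_sup_eq_top T'
      rw [hT'] at h
      refine eq_top_iff.2 (h ▸ sup_le le_sup_left ?_)
      rw [← hsup]
      exact sup_le (le_normalizer.trans le_sup_left) le_sup_right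
    have hAT : A ≤ T₁ := le_inf (hle A hA) hAK
    have hBle : B ≤ core 𝒜 T₁ := by
      rw [← hBeq, hB₁, normalClosure, Subgroup.closure_le]
      intro y hy
      obtain ⟨x, hx, hxy⟩ := Group.mem_conjugatesOfSet_iff.1 hy
      obtain ⟨g, rfl⟩ := _root_.isConj_iff.1 hxy
      have hg : g ∈ normalizer (T₁ : Set G) ⊔ C := hfr.symm ▸ mem_top g
      rw [← SetLike.mem_coe,
        coe_mul_of_left_le_normalizer_right _ C le_normalizer_of_normal] at hg
      obtain ⟨m, hm, l, hl, rfl⟩ := hg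
      have h1 : l * x * l⁻¹ = x := by
        rw [← mem_centralizer_iff.1 hl x hx.1, mul_inv_cancel_right]
      have hxI : x ∈ core 𝒜 T₁ := (le_sInf fun A' hA' => hZA A' hA'.1) hx.2
      have h2 := hinv T₁ inf_le_left ⟨A, hA, hAT⟩ m hm x hxI
      show m * l * x * (m * l)⁻¹ ∈ core 𝒜 T₁
      rw [show m * l * x * (m * l)⁻¹ = m * (l * x * l⁻¹) * m⁻¹ by group, h1]
      exact h2
    exact hBle.trans (sInf_le ⟨hA, hAT⟩)
  -- conclusion
  set U := pCore p G with hU
  have hUT : U ≤ S₀ := Core.pCore_le_sylow T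
  have hZU : Z ≤ U := by
    intro a ha
    have hq : ⁅⁅U, zpowers a⁆, zpowers a⁆ = ⊥ := by
      refine eq_bot_iff.2 ((commutator_mono (commutator_mono le_rfl (zpowers_le.2 ha))
        (zpowers_le.2 ha)).trans ?_)
      have hUZ : U ≤ normalizer (Z : Set G) := by
        rw [le_normalizer_iff]
        exact fun g hg x hx => hSZ g (hUT hg) x hx
      refine (commutator_mono (le_normalizer_iff_commutator_le_right.1 hUZ) le_rfl).trans ?_
      have hZc : IsMulCommutative Z := by
        have := hcomm A₀ hA₀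
        exact ⟨⟨fun x y => Subtype.ext (congrArg Subtype.val
          (mul_comm' (⟨x, hZA _ hA₀ x.2⟩ : A₀) ⟨y, hZA _ hA₀ y.2⟩) :)⟩⟩
      exact ((commutator_self_eq_bot_iff (H := Z)).2 hZc).le
    have hmem := hst U (Core.isPGroup_pCore p G) a (hle A₀ hA₀ (hZA _ hA₀ ha)) hq
    set M := (pCore p (G ⧸ centralizer (U : Set G))).comap
      (QuotientGroup.mk' (centralizer (U : Set G))) with hM
    have hMp : IsPGroup p M := by
      exact (Core.isPGroup_pCore p _).comap_of_ker_isPGroup _ (by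
        rw [QuotientGroup.ker_mk']; exact (Core.isPGroup_pCore p G).to_le hc)
    exact Core.le_pCore hMp hmem
  have := main U inferInstance (Core.isPGroup_pCore p G)
  rwa [inf_eq_right.2 hZU] at this

end CfsgLib.Fusion.Axiomatic
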