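import Cfsg.Prelude.Def_CaseTheorems
import Cfsg.Agent.Lib.Fusion.NormalCriterion
import Cfsg.Agent.Lib.Fusion.NormalExtend
import Cfsg.Agent.Lib.Fusion.Series
import Cfsg.Agent.Lib.Techniques.MetacyclicAut
import Cfsg.Agent.Lib.ClassSizes.BurnsideAut

/-!
Strongly closed metacyclic subgroups for `p = 2`.
-/

set_option autoImplicit false

namespace CfsgLib.Fusion

open Cfsg Cfsg.FusionSystem
open scoped commutatorElement

universe u

/-- The dihedral, generalised quaternion or semidihedral groups. -/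
def IsSmallList (X : Type*) [Group X] : Prop :=
  (∃ m : ℕ, Nonempty (X ≃* DihedralGroup m)) ∨ (∃ m : ℕ, Nonempty (X ≃* QuaternionGroup m)) ∨
    Cfsg.IsQuasiDihedral X

theorem isMetacyclic_of_injective {H R : Type*} [Group H] [Group R] (hR : Cfsg.IsMetacyclic R)
    (f : H →* R) (hf : Function.Injective f) : Cfsg.IsMetacyclic H := by
  obtain ⟨N, hNn, hNc, hQc⟩ := hR
  refine ⟨N.comap f, inferInstance, ?_, ?_⟩
  · exact isCyclic_of_injective (f.subgroupComap N) fun u v h =>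
      Subtype.ext (hf (congrArg Subtype.val h :))
  · refine isCyclic_of_injective (QuotientGroup.map (N.comap f) N f le_rfl) ?_
    refine (injective_iff_map_eq_one _).2 fun v => QuotientGroup.induction_on v fun x hx => ?_
    exact (QuotientGroup.eq_one_iff x).2 ((QuotientGroup.eq_one_iff (f x)).1 hx)

theorem eq_of_sq_eq_one_of_cyclic {G : Type*} [Group G] [Finite G] [IsCyclic G] {u v : G}
    (hu : u ^ 2 = 1) (hv : v ^ 2 = 1) (hu1 : u ≠ 1) (hv1 : v ≠ 1) : u = v := by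
  classical
  letI := Fintype.ofFinite G
  by_contra hne
  have hle := IsCyclic.card_pow_eq_one_le (α := G) (n := 2) two_pos
  have h3 : ({1, u, v} : Finset G).card = 3 := by
    rw [Finset.card_insert_of_notMem (by simp [Ne.symm hu1, Ne.symm hv1]),
      Finset.card_insert_of_notMem (by simpa using hne), Finset.card_singleton]
  have hsub : ({1, u, v} : Finset G) ⊆ Finset.univ.filter fun a => a ^ 2 = 1 := by
    intro a ha
    simp only [Finset.mem_insert, Finset.mem_singleton] at ha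
    rcases ha with rfl | rfl | rfl <;> simp [hu, hv]
  have := (Finset.card_le_card hsub).trans hle
  omega

/-- The cyclic subgroups of a cyclic `p`-group form a chain. -/
theorem le_total_zpowers {G : Type*} [Group G] [Finite G] [IsCyclic G] {p : ℕ} [Fact p.Prime]
    (hG : IsPGroup p G) (u v : G) :
    Subgroup.zpowers u ≤ Subgroup.zpowers v ∨ Subgroup.zpowers v ≤ Subgroup.zpowers u := by
  obtain ⟨g, hg⟩ := IsCyclic.exists_generator (α := G)
  obtain ⟨t, ht⟩ := IsPGroup.iff_orderOf.1 hG g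
  have key : ∀ w : G, ∃ c, Subgroup.zpowers w = Subgroup.zpowers (g ^ p ^ c) := by
    intro w
    obtain ⟨i, hi⟩ := mem_powers_iff_mem_zpowers.2 (hg w)
    rcases Nat.eq_zero_or_pos i with rfl | hi0
    · refine ⟨t, ?_⟩
      rw [← hi, ← ht, pow_orderOf_eq_one]
      exact congrArg Subgroup.zpowers (pow_zero g)
    obtain ⟨c, d, hd, hid⟩ := Nat.exists_eq_pow_mul_and_not_dvd hi0.ne' p
      (Fact.out : p.Prime).ne_one
    refine ⟨c, le_antisymm (Subgroup.zpowers_le.2 ?_) (Subgroup.zpowers_le.2 ?_)⟩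
    · rw [← hi, hid]
      show g ^ (p ^ c * d) ∈ _
      rw [pow_mul]
      exact Subgroup.pow_mem _ (Subgroup.mem_zpowers _) d
    · obtain ⟨m, hm⟩ := exists_pow_eq_self_of_coprime (x := g ^ p ^ c) (n := d) (by
        obtain ⟨t', ht'⟩ := IsPGroup.iff_orderOf.1 hG (g ^ p ^ c)
        rw [ht']
        exact ((Fact.out : p.Prime).coprime_iff_not_dvd.2 hd).symm.pow_right t')
      rw [← hm, ← pow_mul g, ← hid]
      exact Subgroup.pow_mem _ (hi ▸ Subgroup.mem_zpowers _) m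
  obtain ⟨c, hc⟩ := key u
  obtain ⟨d, hd⟩ := key v
  rw [hc, hd]
  rcases le_total c d with h | h
  · obtain ⟨e, he⟩ := Nat.exists_eq_add_of_le h
    refine Or.inr (Subgroup.zpowers_le.2 ?_)
    rw [he, pow_add, pow_mul]
    exact Subgroup.pow_mem _ (Subgroup.mem_zpowers _) _
  · obtain ⟨e, he⟩ := Nat.exists_eq_add_of_le h
    refine Or.inl (Subgroup.zpowers_le.2 ?_)
    rw [he, pow_add, pow_mul]
    exact Subgroup.pow_mem _ (Subgroup.mem_zpowers _) _

variable {X : Type u} [Group X] [Finite X]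

/-- An element outside the cyclic kernel inverting one of its elements of order `4`. -/
theorem isSmallList_of_inverted (hX : IsPGroup 2 X) {N : Subgroup X} [N.Normal] [IsCyclic N]
    [IsCyclic (X ⧸ N)] {s r : X} (hs : s ∉ N) (hs2 : s ^ 2 ∈ N) (hr : r ∈ N) (hr4 : orderOf r = 4)
    (hsr : s * r * s⁻¹ = r⁻¹) : IsSmallList X := by
  obtain ⟨⟨a, haN⟩, hagen⟩ := IsCyclic.exists_generator (α := N)
  have hN : ∀ n ∈ N, ∃ i : ℕ, a ^ i = n := fun n hn => by
    obtain ⟨i, hi⟩ := mem_powers_iff_mem_zpowers.2 (hagen ⟨n, hn⟩)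
    exact ⟨i, congrArg Subtype.val hi⟩
  have hNz : ∀ n ∈ N, n ∈ Subgroup.zpowers a := fun n hn => by
    obtain ⟨i, rfl⟩ := hN n hn
    exact Subgroup.pow_mem _ (Subgroup.mem_zpowers a) i
  obtain ⟨m, hm⟩ := IsPGroup.iff_orderOf.1 hX a
  have hr2 : r ^ 2 ≠ 1 := fun h => by
    have := Nat.le_of_dvd two_pos (orderOf_dvd_of_pow_eq_one h)
    omega
  have hr4' : r ^ 4 = 1 := hr4 ▸ pow_orderOf_eq_one r
  -- the quotient has order two
  have hindex : ∀ g : X, g ∈ N ∨ g * s⁻¹ ∈ N := by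
    intro g
    obtain ⟨b', hb'⟩ := IsCyclic.exists_generator (α := X ⧸ N)
    obtain ⟨b, rfl⟩ := QuotientGroup.mk_surjective b'
    have hfix : ∀ h : X, h * r * h⁻¹ = r ∨ h * r * h⁻¹ = r⁻¹ := by
      intro h
      obtain ⟨i, hi⟩ := hN r hr
      obtain ⟨j, hj⟩ := hN _ (‹N.Normal›.conj_mem r hr h)
      have ho : orderOf (h * r * h⁻¹) = 4 := by
        rw [← hr4]
        exact orderOf_injective (MulAut.conj h).toMonoidHom (MulAut.conj h).injective r
      -- the elements of order `4` of a cyclic group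
      have hz : (h * r * h⁻¹) ^ 2 = r ^ 2 := by
        have e1 : (⟨_, N.pow_mem (‹N.Normal›.conj_mem r hr h) 2⟩ : N) = ⟨_, N.pow_mem hr 2⟩ :=
          eq_of_sq_eq_one_of_cyclic (Subtype.ext (by
              show ((h * r * h⁻¹) ^ 2) ^ 2 = 1
              rw [← pow_mul, show 2 * 2 = orderOf (h * r * h⁻¹) from ho.symm, pow_orderOf_eq_one]))
            (Subtype.ext (by show (r ^ 2) ^ 2 = 1; rw [← pow_mul]; exact hr4'))
            (fun e => by
              have e' : (h * r * h⁻¹) ^ 2 = 1 := congrArg Subtype.val e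
              have := Nat.le_of_dvd two_pos (orderOf_dvd_of_pow_eq_one e')
              omega)
            (fun e => hr2 (congrArg Subtype.val e))
        exact congrArg Subtype.val e1
      have hcom : Commute (h * r * h⁻¹) r := by
        rw [← hj, ← hi]; exact Commute.pow_pow_self a j i
      set r' := h * r * h⁻¹
      by_cases he : r' = r
      · exact Or.inl he
      right
      have h1 : (r' * r⁻¹) ^ 2 = 1 := by rw [hcom.inv_right.mul_pow, hz, inv_pow, mul_inv_cancel]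
      have e2 : (⟨_, N.mul_mem (‹N.Normal›.conj_mem r hr h) (N.inv_mem hr)⟩ : N) =
          ⟨_, N.pow_mem hr 2⟩ :=
        eq_of_sq_eq_one_of_cyclic (Subtype.ext h1)
          (Subtype.ext (by show (r ^ 2) ^ 2 = 1; rw [← pow_mul]; exact hr4'))
          (fun e => he (mul_inv_eq_one.1 (congrArg Subtype.val e)))
          (fun e => hr2 (congrArg Subtype.val e))
      have e2' : r' * r⁻¹ = r ^ 2 := congrArg Subtype.val e2
      rw [mul_inv_eq_iff_eq_mul, ← pow_succ] at e2'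
      rw [e2', eq_inv_iff_mul_eq_one, ← pow_succ]
      exact hr4'
    obtain ⟨i, hi⟩ := mem_powers_iff_mem_zpowers.2 (hb' (QuotientGroup.mk s))
    have hs' : (b ^ i)⁻¹ * s ∈ N := by
      rw [← QuotientGroup.eq, QuotientGroup.mk_pow]; exact hi
    rcases Nat.even_or_odd i with ⟨j, hj⟩ | ⟨j, hj⟩
    · exfalso
      -- an even power of `b` fixes `r`
      have hb2 : b ^ j * (b ^ j * r * (b ^ j)⁻¹) * (b ^ j)⁻¹ = r := by
        rcases hfix (b ^ j) with e | e
        · rw [e, e]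
        · rw [e, ← conj_inv, e, inv_inv]
      obtain ⟨k, hk⟩ := hN _ hs'
      obtain ⟨l, hl⟩ := hN r hr
      have hc : (b ^ i)⁻¹ * s * r * ((b ^ i)⁻¹ * s)⁻¹ = r := by
        rw [← hk, ← hl, Commute.pow_pow_self a k l |>.eq, mul_inv_cancel_right]
      have : s * r * s⁻¹ = r := by
        calc s * r * s⁻¹ = b ^ i * ((b ^ i)⁻¹ * s * r * ((b ^ i)⁻¹ * s)⁻¹) * (b ^ i)⁻¹ := by group
          _ = b ^ j * (b ^ j * r * (b ^ j)⁻¹) * (b ^ j)⁻¹ := by rw [hc, hj, pow_add]; group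
          _ = r := hb2
      refine hr2 ?_
      rw [this] at hsr
      rw [pow_two]; exact eq_inv_iff_mul_eq_one.1 hsr
    · -- an odd power generates
      have hsq : (QuotientGroup.mk s : X ⧸ N) ^ 2 = 1 := by
        rw [← QuotientGroup.mk_pow, QuotientGroup.eq_one_iff]; exact hs2
      obtain ⟨t, ht⟩ := IsPGroup.iff_orderOf.1 (hX.to_quotient N) (QuotientGroup.mk b : X ⧸ N)
      have hbs : (QuotientGroup.mk b : X ⧸ N) ∈ Subgroup.zpowers (QuotientGroup.mk s : X ⧸ N) := by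
        obtain ⟨d, hd⟩ := exists_pow_eq_self_of_coprime (x := (QuotientGroup.mk b : X ⧸ N)) (n := i)
          (by rw [ht]; exact Nat.Coprime.pow_right t (Nat.coprime_two_right.2 ⟨j, hj⟩))
        rw [← hd]
        exact Subgroup.pow_mem _ (hi ▸ Subgroup.mem_zpowers _) d
      obtain ⟨k, hk⟩ := Subgroup.mem_zpowers_iff.1 hbs
      obtain ⟨l, hl⟩ := Subgroup.mem_zpowers_iff.1 (hb' (QuotientGroup.mk g))
      rw [← hk, ← zpow_mul] at hl
      rcases Int.even_or_odd (k * l) with ⟨c, hc⟩ | ⟨c, hc⟩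
      · refine Or.inl ((QuotientGroup.eq_one_iff g).1 ?_)
        rw [← hl, hc, ← two_mul, zpow_mul, show (QuotientGroup.mk s : X ⧸ N) ^ (2 : ℤ) = 1 by
          rw [zpow_two, ← pow_two, hsq], one_zpow]
      · refine Or.inr ((QuotientGroup.eq_one_iff _).1 ?_)
        rw [QuotientGroup.mk_mul, QuotientGroup.mk_inv, ← hl, hc, zpow_add, zpow_mul,
          show (QuotientGroup.mk s : X ⧸ N) ^ (2 : ℤ) = 1 by rw [zpow_two, ← pow_two, hsq],
          one_zpow, one_mul, zpow_one, mul_inv_cancel]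
  have hcard : Nat.card X = 2 * 2 ^ m := by
    have hi2 : N.index = 2 := Subgroup.index_eq_two_iff.2 ⟨s⁻¹, fun b => by
      rcases hindex b with hb | hb
      · exact Or.inr ⟨hb, fun h => hs (inv_mem_iff.1 ((N.mul_mem_cancel_left hb).1 h))⟩
      · exact Or.inl ⟨hb, fun h => hs (inv_mem_iff.1 ((N.mul_mem_cancel_left h).1 hb))⟩⟩
    have hNc : Nat.card N = 2 ^ m := by
      rw [← hm, ← Nat.card_zpowers]
      exact congrArg (fun H : Subgroup X => Nat.card H)
        (le_antisymm hNz (Subgroup.zpowers_le.2 haN))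
    rw [← N.card_mul_index, hi2, hNc]; ring
  obtain ⟨i, hi⟩ := hN r hr
  obtain ⟨k, hk⟩ := hN _ (‹N.Normal›.conj_mem a haN s)
  -- `k ≡ 3 (mod 4)`
  have hm2 : 2 ≤ m := by
    by_contra h
    have h4 : 4 ∣ 2 ^ m := by
      rw [← hr4, ← hm]
      exact hi ▸ orderOf_pow_dvd i
    have : 2 ^ m ≤ 2 ^ 1 := Nat.pow_le_pow_right two_pos (by omega)
    have := Nat.le_of_dvd (pow_pos two_pos m) h4
    omega
  have hk4 : k % 4 = 3 := by
    have h1 : r ^ (k + 1) = 1 := by
      rw [pow_succ, ← hi, ← pow_mul, mul_comm i k, pow_mul, hk, conj_pow, hi, hsr, inv_mul_cancel]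
    have := orderOf_dvd_of_pow_eq_one h1
    rw [hr4] at this
    omega
  have hcenS : ∀ j : ℕ, s * a ^ j * s⁻¹ = a ^ (k * j) := fun j => by
    rw [← conj_pow, ← hk, ← pow_mul]
  have hk2 : 2 ^ m ∣ (k + 1) * (k - 1) := by
    have h1 : a ^ (k * k) = a ^ 1 := by
      obtain ⟨j, hj⟩ := hN _ hs2
      calc a ^ (k * k) = s * (s * a * s⁻¹) * s⁻¹ := by rw [← hk, hcenS]
        _ = s ^ 2 * a * (s ^ 2)⁻¹ := by rw [pow_two]; group
        _ = a ^ 1 := by rw [← hj, ← pow_succ, pow_succ', mul_inv_cancel_right, pow_one]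
    have h2 := pow_eq_pow_iff_modEq.1 h1
    rw [hm] at h2
    have h3 := (Nat.modEq_iff_dvd' (Nat.one_le_iff_ne_zero.2 (Nat.mul_ne_zero (by omega) (by omega)))).1 h2.symm
    have e : k * k - 1 = (k + 1) * (k - 1) := by
      have := Nat.sq_sub_sq k 1
      simpa [pow_two] using this
    rwa [e] at h3
  have hk1 : 2 ^ (m - 1) ∣ k + 1 := by
    obtain ⟨c, hc⟩ : ∃ c, k - 1 = 2 * c ∧ Odd c := ⟨(k - 1) / 2, by omega, ⟨(k - 3) / 4, by omega⟩⟩
    rw [show (k + 1) * (k - 1) = 2 * ((k + 1) * c) by rw [hc.1]; ring,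
      show 2 ^ m = 2 * 2 ^ (m - 1) by rw [← pow_succ']; congr 1; omega] at hk2
    exact (Nat.Coprime.pow_left (m - 1) (Nat.coprime_two_left.2 hc.2)).dvd_of_dvd_mul_right
      (Nat.dvd_of_mul_dvd_mul_left two_pos hk2)
  obtain ⟨e, he⟩ := hk1
  have hapow : ∀ j : ℕ, a ^ j = 1 ↔ 2 ^ m ∣ j := fun j => by
    rw [← orderOf_dvd_iff_pow_eq_one, hm]
  have hm1 : 2 ^ m = 2 * 2 ^ (m - 1) := by rw [← pow_succ']; congr 1; omega
  set z := a ^ 2 ^ (m - 1) with hz
  have hzz : z * z = 1 := by rw [hz, ← pow_add, hapow, ← two_mul, ← hm1]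
  have hsz : s * z * s⁻¹ = z := by
    rw [hz, hcenS, show k * 2 ^ (m - 1) = 2 ^ (m - 1) + 2 ^ m * (k / 2) by
      conv_lhs => rw [show k = 1 + 2 * (k / 2) by omega]
      rw [hm1]; ring, pow_add, pow_mul, (hapow _).2 dvd_rfl, one_pow, mul_one]
  -- the square of `s`
  obtain ⟨j, hj⟩ := hN _ hs2
  have hjfix : 2 ^ m ∣ j * (k - 1) := by
    have h1 : a ^ (k * j) = a ^ j := by rw [← hcenS, hj]; group
    have h2 := pow_eq_pow_iff_modEq.1 h1
    rw [hm] at h2
    have h3 := (Nat.modEq_iff_dvd' (Nat.le_mul_of_pos_left j (by omega))).1 h2.symm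
    rwa [show k * j - j = j * (k - 1) by rw [Nat.mul_sub, mul_one, mul_comm]] at h3
  have hj1 : s ^ 2 = 1 ∨ s ^ 2 = z := by
    obtain ⟨c, hc⟩ : ∃ c, k - 1 = 2 * c ∧ Odd c := ⟨(k - 1) / 2, by omega, ⟨(k - 3) / 4, by omega⟩⟩
    rw [hc.1, show j * (2 * c) = 2 * (j * c) by ring, hm1] at hjfix
    obtain ⟨d, hd⟩ := (Nat.Coprime.pow_left (m - 1) (Nat.coprime_two_left.2 hc.2)).dvd_of_dvd_mul_right
      (Nat.dvd_of_mul_dvd_mul_left two_pos hjfix)
    rw [← hj, hd, pow_mul, ← hz]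
    rcases Nat.even_or_odd' d with ⟨q, rfl | rfl⟩
    · left; rw [pow_mul, pow_two, hzz, one_pow]
    · right; rw [pow_succ, pow_mul, pow_two, hzz, one_pow, one_mul]
  have hsa : s ∉ Subgroup.zpowers a := fun h => hs (Subgroup.zpowers_le.2 haN h)
  rcases Nat.even_or_odd' e with ⟨q, rfl | rfl⟩
  · -- `s` inverts `a`
    have hinv : s * a * s⁻¹ = a⁻¹ := by
      rw [← hk, eq_inv_iff_mul_eq_one, ← pow_succ, hapow, he, hm1]
      exact ⟨q, by ring⟩
    rcases hj1 with h | h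
    · have : NeZero (2 ^ m) := ⟨pow_ne_zero _ two_ne_zero⟩
      exact Or.inl ⟨2 ^ m, CfsgLib.TwoGroups.nonempty_mulEquiv_dihedralGroup hm
        (by rw [← pow_two, h]) hsa hinv hcard⟩
    · have : NeZero (2 ^ (m - 1)) := ⟨pow_ne_zero _ two_ne_zero⟩
      exact Or.inr (Or.inl ⟨2 ^ (m - 1), CfsgLib.TwoGroups.nonempty_mulEquiv_quaternionGroup
        (hm.trans hm1) (by rw [← pow_two, h]) hsa hinv (by rw [hcard, hm1]; ring)⟩)
  · -- semidihedral
    have hk' : s * a * s⁻¹ = a⁻¹ * z := by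
      rw [← hk, hz, eq_inv_mul_iff_mul_eq, ← pow_succ', he,
        show 2 ^ (m - 1) * (2 * q + 1) = 2 ^ (m - 1) + 2 ^ m * q by rw [hm1]; ring,
        pow_add, pow_mul, (hapow _).2 dvd_rfl, one_pow, mul_one]
    have hm3 : 3 ≤ m := by
      by_contra h
      obtain rfl : m = 2 := by omega
      omega
    have hk'' : s * a * s⁻¹ = a ^ (2 ^ (m - 1) - 1) := by
      rw [hk', hz, inv_mul_eq_iff_eq_mul, ← pow_succ', Nat.sub_add_cancel Nat.one_le_two_pow]
    refine Or.inr (Or.inr ?_)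
    obtain ⟨y, hy, hyy, hya⟩ : ∃ y, y ∉ N ∧ y * y = 1 ∧ y * a * y⁻¹ = a ^ (2 ^ (m - 1) - 1) := by
      rcases hj1 with h | h
      · exact ⟨s, hs, by rw [← pow_two, h], hk''⟩
      · refine ⟨a * s, fun h' => hs ((N.mul_mem_cancel_left haN).1 h'), ?_, ?_⟩
        · calc a * s * (a * s) = a * (s * a * s⁻¹) * s ^ 2 := by group
            _ = 1 := by rw [hk', h, mul_inv_cancel_left, hzz]
        · calc a * s * a * (a * s)⁻¹ = a * (s * a * s⁻¹) * a⁻¹ := by group
            _ = a ^ (2 ^ (m - 1) - 1) := by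
              rw [hk'', ← pow_succ', pow_succ, mul_inv_cancel_right]
    refine ⟨m, hm3, by rw [hcard, pow_succ'], a, y, hm, ?_, hya⟩
    exact orderOf_eq_prime (by rw [pow_two, hyy]) fun h => hy (h ▸ N.one_mem)

/-- A quaternion subgroup. -/
theorem isSmallList_of_quaternion (hX : IsPGroup 2 X) (hm : Cfsg.IsMetacyclic X)
    {Q : Subgroup X} (e : Q ≃* QuaternionGroup 2) : IsSmallList X := by
  obtain ⟨N, hN, hNc, hQc⟩ := hm
  set x : X := (e.symm (QuaternionGroup.a 1) : X) with hx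
  set y : X := (e.symm (QuaternionGroup.xa 0) : X) with hy
  have hxy : ((x * y : X)) = (e.symm (QuaternionGroup.a 1 * QuaternionGroup.xa 0) : X) := by
    rw [hx, hy, ← Subgroup.coe_mul, ← map_mul]
  have key : ∀ u v : QuaternionGroup 2, v * u * v⁻¹ = u⁻¹ → u ^ 2 ≠ 1 → u ^ 4 = 1 → v ^ 2 = u ^ 2 →
      ((e.symm u : Q) : X) ∈ N → IsSmallList X := by
    intro u v h1 h2 h4 hv hu
    have hc : ((e.symm v : Q) : X) * (e.symm u : Q) * ((e.symm v : Q) : X)⁻¹ =
        ((e.symm u : Q) : X)⁻¹ := by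
      rw [← Subgroup.coe_mul, ← Subgroup.coe_inv, ← Subgroup.coe_mul, ← Subgroup.coe_inv, ← map_mul,
        ← map_inv, ← map_mul, h1, map_inv]
    have hu2 : ((e.symm u : Q) : X) ^ 2 ≠ 1 := fun h => h2 (e.symm.injective (by
      rw [map_pow, map_one]; exact Subtype.ext (by simpa using h)))
    have hu4 : ((e.symm u : Q) : X) ^ 4 = 1 := by
      rw [← SubgroupClass.coe_pow, ← map_pow, h4, map_one]; rfl
    refine isSmallList_of_inverted hX (N := N) (fun hvN => hu2 ?_) ?_ hu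
      (orderOf_eq_prime_pow (p := 2) (n := 1) (by simpa using hu2) (by simpa using hu4)) hc
    · have hcom : Commute (⟨_, hvN⟩ : N) ⟨_, hu⟩ := (IsCyclic.commutative (α := N)).is_comm.comm _ _
      have hcom' := congrArg Subtype.val hcom.eq
      simp only [Subgroup.coe_mul] at hcom'
      rw [hcom', mul_inv_cancel_right] at hc
      rw [pow_two]; exact eq_inv_iff_mul_eq_one.1 hc
    · rw [← SubgroupClass.coe_pow, ← map_pow, hv, map_pow, SubgroupClass.coe_pow]
      exact N.pow_mem hu 2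
  by_cases hxN : x ∈ N
  · exact key (QuaternionGroup.a 1) (QuaternionGroup.xa 0) (by decide) (by decide) (by decide)
      (by decide) hxN
  by_cases hyN : y ∈ N
  · exact key (QuaternionGroup.xa 0) (QuaternionGroup.a 1) (by decide) (by decide) (by decide)
      (by decide) hyN
  refine key (QuaternionGroup.a 1 * QuaternionGroup.xa 0) (QuaternionGroup.a 1) (by decide)
    (by decide) (by decide) (by decide) (hxy ▸ ?_)
  -- squares of `x` and `y` are the commutator
  have hz : x ^ 2 ∈ N := by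
    have : x ^ 2 = ⁅x, y⁆ := by
      rw [hx, hy, ← SubgroupClass.coe_pow, ← map_pow]
      show _ = ((⁅e.symm (QuaternionGroup.a 1), e.symm (QuaternionGroup.xa 0)⁆ : Q) : X)
      rw [← map_commutatorElement,
        show ⁅(QuaternionGroup.a 1 : QuaternionGroup 2), QuaternionGroup.xa 0⁆ =
          QuaternionGroup.a 1 ^ 2 from by decide]
    rw [this]
    exact (Subgroup.Normal.quotient_commutative_iff_commutator_le.mp IsCyclic.commutative)
      (Subgroup.commutator_mem_commutator (Subgroup.mem_top _) (Subgroup.mem_top _))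
  have hzy : y ^ 2 = x ^ 2 := by
    rw [hx, hy, ← SubgroupClass.coe_pow, ← map_pow, ← SubgroupClass.coe_pow, ← map_pow,
      show (QuaternionGroup.xa 0 : QuaternionGroup 2) ^ 2 = QuaternionGroup.a 1 ^ 2 from by decide]
  have := eq_of_sq_eq_one_of_cyclic (G := X ⧸ N) (u := QuotientGroup.mk x⁻¹) (v := QuotientGroup.mk y)
    (by rw [← QuotientGroup.mk_pow, QuotientGroup.eq_one_iff, inv_pow]; exact N.inv_mem hz)
    (by rw [← QuotientGroup.mk_pow, QuotientGroup.eq_one_iff, hzy]; exact hz)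
    (fun h => hxN (inv_mem_iff.1 ((QuotientGroup.eq_one_iff _).1 h)))
    (fun h => hyN ((QuotientGroup.eq_one_iff _).1 h))
  rw [QuotientGroup.eq, inv_inv] at this
  exact this

/-- A four group moved by an element of its normaliser. -/
theorem isSmallList_of_four (hX : IsPGroup 2 X) (hm : Cfsg.IsMetacyclic X) {Q : Subgroup X}
    (hQe : ∀ v ∈ Q, v ^ 2 = 1) {g v : X} (hgQ : ∀ u ∈ Q, g * u * g⁻¹ ∈ Q) (hg2 : g ^ 2 ∈ Q)
    (hv : v ∈ Q) (hgv : g * v * g⁻¹ ≠ v) : IsSmallList X := by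
  obtain ⟨N, hN, hNc, hQc⟩ := hm
  have hinv : ∀ u ∈ Q, u⁻¹ = u := fun u hu =>
    inv_eq_of_mul_eq_one_right (by rw [← pow_two]; exact hQe u hu)
  have hab : ∀ u ∈ Q, ∀ w ∈ Q, u * w = w * u := fun u hu w hw => by
    rw [← hinv _ (Q.mul_mem hu hw), mul_inv_rev, hinv u hu, hinv w hw]
  set w := g * v * g⁻¹ * v with hw
  have hwQ : w ∈ Q := Q.mul_mem (hgQ v hv) hv
  have hw1 : w ≠ 1 := fun h => hgv ((eq_inv_of_mul_eq_one_left h).trans (hinv v hv))
  have hgg : g * (g * v * g⁻¹) * g⁻¹ = v := by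
    calc g * (g * v * g⁻¹) * g⁻¹ = g ^ 2 * v * (g ^ 2)⁻¹ := by rw [pow_two]; group
      _ = v := by rw [hab _ hg2 v hv, mul_inv_cancel_right]
  -- an element of order `4` inverted by `v`
  obtain ⟨r, hrQ, hr2, hr4, hvr⟩ : ∃ r : X, r * v * r⁻¹ = g * v * g⁻¹ ∧
      r ^ 2 ∈ Q ∧ r ^ 2 ≠ 1 ∧ v * r * v⁻¹ = r⁻¹ := by
    have hg' : g⁻¹ * v * g = g * v * g⁻¹ := by
      calc g⁻¹ * v * g = g⁻¹ * (g * (g * v * g⁻¹) * g⁻¹) * g := by rw [hgg]
        _ = g * v * g⁻¹ := by group
    have hgv2 : (g * v) ^ 2 = g * v * g⁻¹ * g ^ 2 * v := by rw [pow_two, pow_two]; group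
    by_cases h : g ^ 2 = 1
    · refine ⟨g * v, by group, ?_, ?_, ?_⟩
      · rw [hgv2, h, mul_one]; exact hwQ
      · rw [hgv2, h, mul_one]; exact hw1
      · have hgi : g⁻¹ = g := inv_eq_of_mul_eq_one_right (by rw [← pow_two]; exact h)
        rw [mul_inv_rev, hinv v hv, hgi]
        calc v * (g * v) * v = v * g * (v * v) := by group
          _ = v * g := by rw [← pow_two, hQe v hv, mul_one]
    · by_cases h' : g ^ 2 = w
      · refine ⟨g, rfl, hg2, h, ?_⟩
        rw [eq_inv_iff_mul_eq_one, hinv v hv]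
        calc v * g * v * g = g * ((g⁻¹ * v * g) * v) * g := by group
          _ = g * w * g := by rw [hg']
          _ = 1 := by rw [← h', show g * g ^ 2 * g = (g ^ 2) ^ 2 by group, hQe _ hg2]
      · -- `g²` is fixed by `g`, so equals `w` unless trivial
        exfalso
        have hfix : g * g ^ 2 * g⁻¹ = g ^ 2 := by group
        have hwfix : g * w * g⁻¹ = w := by
          rw [hw, ← conj_mul, hgg, hab v hv _ (hgQ v hv)]
        have hwN : w ∈ N := by
          have : w = ⁅g, v⁆ := by rw [hw, commutatorElement_def, hinv v hv]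
          rw [this]
          exact (Subgroup.Normal.quotient_commutative_iff_commutator_le.mp IsCyclic.commutative)
            (Subgroup.commutator_mem_commutator (Subgroup.mem_top _) (Subgroup.mem_top _))
        have hgN : g ^ 2 ∉ N := fun hgN => h' (congrArg Subtype.val
          (eq_of_sq_eq_one_of_cyclic (G := N) (u := ⟨_, hgN⟩) (v := ⟨w, hwN⟩)
            (Subtype.ext (hQe _ hg2)) (Subtype.ext (hQe _ hwQ))
            (fun e => h (congrArg Subtype.val e)) (fun e => hw1 (congrArg Subtype.val e))))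
        have hvN : v ∉ N := fun hvN => by
          have e := congrArg Subtype.val (eq_of_sq_eq_one_of_cyclic (G := N) (u := ⟨v, hvN⟩)
            (v := ⟨w, hwN⟩) (Subtype.ext (hQe _ hv)) (Subtype.ext (hQe _ hwQ))
            (fun e => hgv (by rw [show v = 1 from congrArg Subtype.val e, mul_one, mul_inv_cancel]))
            (fun e => hw1 (congrArg Subtype.val e)))
          have e' : v = g * v * g⁻¹ * v := e
          rw [right_eq_mul, conj_eq_one_iff] at e'
          exact hgv (by rw [e', mul_one, mul_inv_cancel])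
        have e := eq_of_sq_eq_one_of_cyclic (G := X ⧸ N) (u := QuotientGroup.mk (g ^ 2))
          (v := QuotientGroup.mk v)
          (by rw [← QuotientGroup.mk_pow, hQe _ hg2]; rfl)
          (by rw [← QuotientGroup.mk_pow, hQe _ hv]; rfl)
          (fun e => hgN ((QuotientGroup.eq_one_iff _).1 e))
          (fun e => hvN ((QuotientGroup.eq_one_iff _).1 e))
        rw [QuotientGroup.eq] at e
        rw [hinv _ hg2] at e
        have e1 : (g ^ 2 * v) = w := by
          refine congrArg Subtype.val (eq_of_sq_eq_one_of_cyclic (G := N) (u := ⟨_, e⟩)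
            (v := ⟨w, hwN⟩) (Subtype.ext (hQe _ (Q.mul_mem hg2 hv))) (Subtype.ext (hQe _ hwQ))
            (fun e' => ?_) (fun e' => hw1 (congrArg Subtype.val e')))
          have e'' : g ^ 2 * v = 1 := congrArg Subtype.val e'
          refine hgv ?_
          rw [show v = g ^ 2 by rw [← hinv v hv]; exact (eq_inv_of_mul_eq_one_left e'').symm, hfix]
        refine hgv ?_
        have e2 : v = g ^ 2 * w := by
          rw [← e1, ← mul_assoc, ← pow_two, hQe _ hg2, one_mul]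
        rw [e2, ← conj_mul, hfix, hwfix]
  have hr4' : r ^ 4 = 1 := by rw [show (4 : ℕ) = 2 * 2 from rfl, pow_mul]; exact hQe _ hr2
  have hr24 : orderOf r = 4 :=
    orderOf_eq_prime_pow (p := 2) (n := 1) (by simpa using hr4) (by simpa using hr4')
  have hzN : r ^ 2 ∈ N := by
    have : r ^ 2 = ⁅r, v⁆ := by
      rw [commutatorElement_def, mul_assoc r v, mul_assoc r (v * r⁻¹)]
      calc r ^ 2 = r * (v * r * v⁻¹)⁻¹ := by rw [hvr, inv_inv, pow_two]
        _ = r * (v * r⁻¹ * v⁻¹) := by group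
    rw [this]
    exact (Subgroup.Normal.quotient_commutative_iff_commutator_le.mp IsCyclic.commutative)
      (Subgroup.commutator_mem_commutator (Subgroup.mem_top _) (Subgroup.mem_top _))
  have hvw : v ≠ r ^ 2 := fun h => by
    rw [h, show r ^ 2 * r * (r ^ 2)⁻¹ = r by group] at hvr
    exact hr4 (by rw [pow_two]; exact eq_inv_iff_mul_eq_one.1 hvr)
  have hv1 : v ≠ 1 := fun h => hgv (by rw [h, mul_one, mul_inv_cancel])
  have hvN : v ∉ N := fun h => hvw (congrArg Subtype.val (eq_of_sq_eq_one_of_cyclic (G := N)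
    (u := ⟨v, h⟩) (v := ⟨_, hzN⟩) (Subtype.ext (hQe v hv)) (Subtype.ext (hQe _ hr2))
    (fun e => hv1 (congrArg Subtype.val e)) (fun e => hr4 (congrArg Subtype.val e))))
  have hrN : r ∈ N := by
    by_contra hrN
    have e := eq_of_sq_eq_one_of_cyclic (G := X ⧸ N) (u := QuotientGroup.mk r)
      (v := QuotientGroup.mk v)
      (by rw [← QuotientGroup.mk_pow, QuotientGroup.eq_one_iff]; exact hzN)
      (by rw [← QuotientGroup.mk_pow, hQe _ hv]; rfl)
      (fun e => hrN ((QuotientGroup.eq_one_iff _).1 e))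
      (fun e => hvN ((QuotientGroup.eq_one_iff _).1 e))
    rw [QuotientGroup.eq] at e
    have h2 : (r⁻¹ * v) ^ 2 = 1 := by
      calc (r⁻¹ * v) ^ 2 = r⁻¹ * (v * r * v⁻¹)⁻¹ * v ^ 2 := by rw [pow_two, pow_two]; group
        _ = 1 := by rw [hvr, inv_inv, hQe v hv, inv_mul_cancel, one_mul]
    have h3 := congrArg Subtype.val (eq_of_sq_eq_one_of_cyclic (G := N) (u := ⟨_, e⟩)
      (v := ⟨_, hzN⟩) (Subtype.ext h2) (Subtype.ext (hQe _ hr2))
      (fun e' => by
        have : r = v := inv_mul_eq_one.1 (congrArg Subtype.val e')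
        exact hr4 (this ▸ hQe v hv)) (fun e' => hr4 (congrArg Subtype.val e')))
    have h4 : v = r ^ 3 := by
      rw [show r ^ 3 = r * r ^ 2 by rw [← pow_succ']]
      have h3' : r⁻¹ * v = r ^ 2 := h3
      rw [← h3', mul_inv_cancel_left]
    rw [h4, show r ^ 3 * r * (r ^ 3)⁻¹ = r by group] at hvr
    exact hr4 (by rw [pow_two]; exact eq_inv_iff_mul_eq_one.1 hvr)
  exact isSmallList_of_inverted hX hvN (by rw [hQe v hv]; exact N.one_mem) hrN hr24 hvr

/-- An abelian subgroup with all involutions squares is not moved like a transvection. -/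
theorem false_of_transvection (hX : IsPGroup 2 X) (hm : Cfsg.IsMetacyclic X) {Q : Subgroup X}
    (hab : ∀ u ∈ Q, ∀ w ∈ Q, u * w = w * u) (hinv : ∀ u ∈ Q, u ^ 2 = 1 → ∃ w ∈ Q, w ^ 2 = u)
    {g v : X} (hgQ : ∀ u ∈ Q, g * u * g⁻¹ ∈ Q) (hg2 : g ^ 2 ∈ Q) (hgQ' : g ∉ Q) (hv : v ∈ Q)
    (hw : ∀ u ∈ Q, u ^ 2 ≠ g * v * g⁻¹ * v⁻¹) : False := by
  obtain ⟨N, hN, hNc, hQc⟩ := hm
  obtain ⟨w, hwdef⟩ : ∃ w, w = g * v * g⁻¹ * v⁻¹ := ⟨_, rfl⟩
  simp only [← hwdef] at hw
  have hwQ : w ∈ Q := hwdef ▸ Q.mul_mem (hgQ v hv) (Q.inv_mem hv)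
  have hwN : w ∈ N := hwdef ▸ (Subgroup.Normal.quotient_commutative_iff_commutator_le.mp
    IsCyclic.commutative) (Subgroup.commutator_mem_commutator (Subgroup.mem_top g) (Subgroup.mem_top v))
  have hw2 : w ^ 2 ≠ 1 := fun h => by
    obtain ⟨u, hu, hu'⟩ := hinv w hwQ h
    exact hw u hu hu'
  have hgw : g * w * g⁻¹ = w⁻¹ := by
    calc g * w * g⁻¹ = (g ^ 2 * v * (g ^ 2)⁻¹) * (g * v * g⁻¹)⁻¹ := by rw [hwdef, pow_two]; group
      _ = v * (g * v * g⁻¹)⁻¹ := by rw [hab _ hg2 v hv, mul_inv_cancel_right]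
      _ = w⁻¹ := by rw [hwdef]; group
  have hout : ∀ q ∈ Q, g * q ∉ N := by
    intro q hq h
    have hc : Commute (⟨_, h⟩ : N) ⟨w, hwN⟩ := (IsCyclic.commutative (α := N)).is_comm.comm _ _
    have hc' : g * q * w = w * (g * q) := congrArg Subtype.val hc.eq
    rw [mul_assoc g q, hab q hq w hwQ, ← mul_assoc, ← mul_assoc, mul_left_inj] at hc'
    rw [hc', mul_inv_cancel_right] at hgw
    exact hw2 (by rw [pow_two]; exact eq_inv_iff_mul_eq_one.1 hgw)
  -- every element of `Q ∩ N` is a power of `w`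
  have hgen : ∀ n ∈ Q, n ∈ N → ∃ k : ℤ, n = w ^ k := by
    intro n hn hnN
    have : IsCyclic (Q ⊓ N : Subgroup X) :=
      isCyclic_of_injective (Subgroup.inclusion inf_le_right) (Subgroup.inclusion_injective _)
    obtain ⟨⟨a, ha⟩, hagen⟩ := IsCyclic.exists_generator (α := (Q ⊓ N : Subgroup X))
    obtain ⟨k, hk⟩ := Subgroup.mem_zpowers_iff.1 (hagen ⟨w, hwQ, hwN⟩)
    obtain ⟨l, hl⟩ := Subgroup.mem_zpowers_iff.1 (hagen ⟨n, hn, hnN⟩)
    have hk' : a ^ k = w := congrArg Subtype.val hk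
    have hodd : ¬ (2 : ℤ) ∣ k := fun ⟨c, hc⟩ => hw (a ^ c) (Q.zpow_mem ha.1 c) (by
      rw [← zpow_natCast, ← zpow_mul, mul_comm, ← hk', hc]; rfl)
    obtain ⟨t, ht⟩ := IsPGroup.iff_orderOf.1 hX a
    obtain ⟨c, d, hcd⟩ : IsCoprime ((2 : ℤ) ^ t) k :=
      (((Nat.prime_iff_prime_int.1 Nat.prime_two).coprime_iff_not_dvd.2 hodd).pow_left)
    refine ⟨d * l, ?_⟩
    have e : a ^ (d * k) = a := by
      conv_rhs => rw [← zpow_one a, ← hcd, zpow_add, mul_comm c, zpow_mul,
        show ((2 : ℤ) ^ t) = ((2 ^ t : ℕ) : ℤ) by push_cast; rfl, zpow_natCast, ← ht,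
        pow_orderOf_eq_one, one_zpow, one_mul]
    rw [← hk', ← zpow_mul, ← mul_assoc, mul_comm k d, zpow_mul, e]
    exact (congrArg Subtype.val hl).symm
  -- the image of `g` generates
  obtain ⟨b', hb'⟩ := IsCyclic.exists_generator (α := X ⧸ N)
  obtain ⟨i, hi⟩ : ∃ i : ℤ, (g ^ i)⁻¹ * v ∈ N := by
    by_contra hne
    push Not at hne
    have hvg : (QuotientGroup.mk g : X ⧸ N) ∈ Subgroup.zpowers (QuotientGroup.mk v : X ⧸ N) := by
      rcases le_total_zpowers (hX.to_quotient N) (QuotientGroup.mk g : X ⧸ N) (QuotientGroup.mk v)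
        with h | h
      · exact h (Subgroup.mem_zpowers _)
      · obtain ⟨k, hk⟩ := Subgroup.mem_zpowers_iff.1 (h (Subgroup.mem_zpowers _))
        exact absurd (QuotientGroup.eq.1 ((QuotientGroup.mk_zpow N g k).trans hk)) (hne k)
    obtain ⟨k, hk⟩ := Subgroup.mem_zpowers_iff.1 hvg
    rw [← QuotientGroup.mk_zpow, eq_comm, QuotientGroup.eq] at hk
    have := hN.conj_mem _ hk g
    rw [mul_inv_cancel_left] at this
    refine hout _ (Q.zpow_mem hv (-k)) ?_
    have h2 : g * v ^ (-k) = (v ^ k * g⁻¹)⁻¹ := by group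
    rw [h2]
    exact N.inv_mem this
  set n := (g ^ i)⁻¹ * v with hn
  rcases Int.even_or_odd i with ⟨j, hj⟩ | ⟨j, hj⟩
  · have hgi : g ^ i ∈ Q := by
      rw [hj, ← two_mul, zpow_mul, zpow_two, ← pow_two]; exact Q.zpow_mem hg2 j
    obtain ⟨l, hl⟩ := hgen n (Q.mul_mem (Q.inv_mem hgi) hv) hi
    have hv' : v = g ^ i * n := by rw [hn, mul_inv_cancel_left]
    have hδ : w = g * n * g⁻¹ * n⁻¹ := by
      rw [hwdef, hv', hn]
      calc g * (g ^ i * ((g ^ i)⁻¹ * v)) * g⁻¹ * (g ^ i * ((g ^ i)⁻¹ * v))⁻¹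
          = g ^ i * (g * ((g ^ i)⁻¹ * v) * g⁻¹ * ((g ^ i)⁻¹ * v)⁻¹) * (g ^ i)⁻¹ := by group
        _ = _ := by
          rw [hab _ hgi _ (Q.mul_mem (hgQ _ (Q.mul_mem (Q.inv_mem hgi) hv))
            (Q.inv_mem (Q.mul_mem (Q.inv_mem hgi) hv))), mul_inv_cancel_right]
    refine hw (w ^ (-l)) (Q.zpow_mem hwQ _) ?_
    rw [hδ]
    conv_rhs => rw [hl, ← conj_zpow, hgw, inv_zpow]
    rw [← hδ, pow_two]
    group
  · refine hout ((g ^ (2 * (j + 1)))⁻¹ * v) (Q.mul_mem (Q.inv_mem ?_) hv) ?_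
    · rw [zpow_mul, zpow_two, ← pow_two]; exact Q.zpow_mem hg2 _
    · have : g * ((g ^ (2 * (j + 1)))⁻¹ * v) = n := by rw [hn, hj]; group
      rw [this]; exact hi

end CfsgLib.Fusion
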