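import Cfsg.Agent.Lib.Fusion.TransvectionEssential
import Cfsg.Agent.Lib.Fusion.CentricExtend

/-!
# Diagonal automorphisms of elementary essential subgroups and extension along invariant chains
-/

set_option autoImplicit false

namespace CfsgLib.Fusion.TransvAut

open Cfsg Cfsg.FusionSystem CfsgLib.Fusion

variable {Ω : Type*} [Group Ω] {S : Subgroup Ω} [Finite S] {F : FusionSystem S} {p : ℕ}
  [hp : Fact p.Prime] {P : Subgroup Ω}

/-- The induced automorphisms as a homomorphism. -/
noncomputable def conjHomAut (S P : Subgroup Ω) : normalizerIn S P →* MulAut P :=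
  P.normalizerMonoidHom.comp (Subgroup.inclusion inf_le_right)

theorem conjHomAut_eq (g : normalizerIn S P) : conjHomAut S P g = conjAut g := rfl

theorem conjAut_zpow (g : normalizerIn S P) (i : ℤ) : conjAut (g ^ i) = conjAut g ^ i :=
  map_zpow (conjHomAut S P) g i

/-- An essential subgroup of order `p²`: all induced automorphisms are powers of one. -/
theorem conjAut_mem_zpowers_of_sq (hS : IsPGroup p S) (hPS : P ≤ S) (hcard : Nat.card P = p ^ 2)
    (hel : IsElementaryAbelian p P) (g : normalizerIn S P) (hg : conjAut g ≠ 1)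
    (g' : normalizerIn S P) : ∃ i : ℤ, conjAut g' = conjAut g ^ i := by
  have := finite_le hPS
  letI : CommGroup P := { (inferInstance : Group P) with mul_comm := fun u v => hel.1.is_comm.comm u v }
  have hN : IsPGroup p (normalizerIn S P) := hS.to_le (normalizerIn_le P)
  have hQ : IsPGroup p (conjHomAut S P).range :=
    hN.of_surjective (conjHomAut S P).rangeRestrict (MonoidHom.rangeRestrict_surjective _)
  obtain ⟨i, hi⟩ := Subgroup.mem_zpowers_iff.1
    (le_zpowers_of_sq (fun v => Subtype.ext (hel.2 _ v.2)) hcard hQ (σ := conjAut g) ⟨g, rfl⟩ hg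
      (⟨g', rfl⟩ : conjAut g' ∈ (conjHomAut S P).range))
  exact ⟨i, hi.symm⟩

set_option maxHeartbeats 800000 in
/-- Diagonal automorphisms of an elementary abelian essential subgroup with a transvection. -/
theorem exists_torus (hS : IsPGroup p S) (hF : F.IsSaturated p) (hP : F.IsEssential p P)
    (hel : IsElementaryAbelian p P) (g : normalizerIn S P) (hg : (g : Ω) ∉ P) (a₀ : P)
    (himg : ∀ x, ∃ i : ℤ, conjAut g x * x⁻¹ = a₀ ^ i)
    (hT : ∀ g' : normalizerIn S P, ∃ i : ℤ, conjAut g' = conjAut g ^ i) {t s : ℤ}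
    (hts : (p : ℤ) ∣ t * s - 1) :
    ∃ d ∈ F.autGroup P, d a₀ = a₀ ^ t ∧ d * conjAut g = conjAut g ^ (t * t) * d ∧
      ∀ v, conjAut g v = v → ∃ i : ℤ, d v * v⁻¹ = a₀ ^ i := by
  classical
  have hPS := hP.1.1
  have := finite_le hPS
  have := finite_mulAut_of_le (S := S) hPS
  letI : CommGroup P := { (inferInstance : Group P) with mul_comm := fun u v => hel.1.is_comm.comm u v }
  have hexp : ∀ v : P, v ^ p = 1 := fun v => Subtype.ext (hel.2 _ v.2)
  set c : F.autGroup P := ⟨conjAut g, autInducedBy_le_autGroup hPS (conjAut_mem g)⟩ with hc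
  let L : F.autGroup P →* MulAut P := (F.autGroup P).subtype
  have hne : conjAut g ≠ 1 := fun h => hg (mem_of_conjAut_inn hP.1 g (h ▸ one_mem _))
  obtain ⟨k, hk⟩ := hS.to_le (normalizerIn_le P) g
  have hgk : conjAut g ^ p ^ k = 1 := by rw [← conjHomAut_eq, ← map_pow, hk, map_one]
  have himg' : ∀ v, L c v * v⁻¹ ∈ Subgroup.zpowers a₀ := fun v => by
    obtain ⟨i, hi⟩ := himg v
    exact Subgroup.mem_zpowers_iff.2 ⟨i, hi.symm⟩
  have hfix : L c a₀ = a₀ := fix_of_img hexp himg' (σ := L c) hgk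
  have hcp : L c ^ p = 1 := by
    refine MulEquiv.ext fun v => ?_
    obtain ⟨i, hi⟩ := Subgroup.mem_zpowers_iff.1 (himg' v)
    rw [MulAut.one_apply]
    exact PGroups.Transvections.pow_fix (v := a₀ ^ i) (by rw [hi, mul_comm v, inv_mul_cancel_right])
      (by rw [map_zpow, hfix]) (hexp _)
  have hco : orderOf (L c) = p := orderOf_eq_prime hcp hne
  obtain ⟨T, hTeq⟩ := (IsSaturated.fullyAutomized hS hF hP.2.1).2
  have hTz : ∀ u ∈ (T : Subgroup (F.autGroup P)), L u ∈ Subgroup.zpowers (L c) := fun u hu => by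
    obtain ⟨g', hg', hgu⟩ := mem_autInducedBy_iff.1 (Subgroup.mem_subgroupOf.1 (hTeq.le hu))
    obtain ⟨i, hi⟩ := hT ⟨g', hg', mem_normalizer_of_conj_eq _ hgu⟩
    refine Subgroup.mem_zpowers_iff.2 ⟨i, ?_⟩
    show conjAut g ^ i = (u : MulAut P)
    rw [← hi]
    exact (MulEquiv.ext fun x => Subtype.ext (hgu x)).symm
  have hTr : Transv p L c a₀ :=
    ⟨hexp, himg', hfix, hne, fun d hd1 hd2 => alone_of_sylow L T hTz hco hd1 hd2⟩
  obtain ⟨y, hy⟩ : ∃ y : F.autGroup P, L (y * c * y⁻¹) ∉ Subgroup.zpowers (L c) := by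
    by_contra h
    push Not at h
    set K := Subgroup.zpowers c with hK
    have hKn : K.Normal := ⟨fun x hx y => by
      obtain ⟨i, rfl⟩ := Subgroup.mem_zpowers_iff.1 hx
      rw [← conj_zpow]
      refine Subgroup.zpow_mem _ ?_ i
      obtain ⟨j, hj⟩ := Subgroup.mem_zpowers_iff.1 (h y)
      refine Subgroup.mem_zpowers_iff.2 ⟨j, Subtype.ext ?_⟩
      rw [SubgroupClass.coe_zpow]
      exact hj⟩
    have hKp : IsPGroup p K := IsPGroup.of_card (n := 1) (by
      rw [Nat.card_zpowers, ← Subgroup.orderOf_coe, pow_one]; exact hco)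
    exact hg (mem_of_conjAut_inn hP.1 g ((isRadical_iff_le hS hPS).1 (IsEssential.isRadical hS hP)
      (Core.le_pCore hKp (Subgroup.mem_zpowers c))))
  obtain ⟨-, -, -, htor⟩ := hTr.exists_elements hy
  obtain ⟨d, hd0, -, hdz, hdv, -⟩ := htor t s hts
  refine ⟨(d : MulAut P), d.2, hd0, ?_, fun v hv => ?_⟩
  · have h1 : (d : MulAut P) * conjAut g * (d : MulAut P)⁻¹ = conjAut g ^ (t * t) := hdz
    rw [← h1, inv_mul_cancel_right]
  · obtain ⟨i, hi⟩ := Subgroup.mem_zpowers_iff.1 (hdv v hv)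
    exact ⟨i, hi.symm⟩

omit [Finite S] in
/-- A `p`-element fixes the sections of order `p` of an invariant chain. -/
theorem fix_section {E : Type*} [Group E] [Finite E] {D T : Subgroup E} (hDT : D ≤ T) [D.Normal]
    (hidx : Nat.card T = p * Nat.card D) {σ : MulAut E} (hσT : ∀ e ∈ T, σ e ∈ T)
    (hσD : ∀ e ∈ D, σ e ∈ D) {k : ℕ} (hk : σ ^ p ^ k = 1) {e : E} (he : e ∈ T) : e⁻¹ * σ e ∈ D := by
  have hcard : Nat.card (T ⧸ D.subgroupOf T) = p := by
    have h := (D.subgroupOf T).card_eq_card_quotient_mul_card_subgroup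
    rw [Nat.card_congr (Subgroup.subgroupOfEquivOfLe hDT).toEquiv, hidx] at h
    exact (Nat.eq_of_mul_eq_mul_right Nat.card_pos h).symm
  haveI : IsCyclic (T ⧸ D.subgroupOf T) := isCyclic_of_prime_card hcard
  let f : T ⧸ D.subgroupOf T →* T ⧸ D.subgroupOf T :=
    QuotientGroup.map (D.subgroupOf T) (D.subgroupOf T)
      ((σ.toMonoidHom.comp T.subtype).codRestrict T fun t => hσT t t.2) fun d hd => hσD d hd
  obtain ⟨a, ha⟩ := MonoidHom.map_cyclic f
  have hiter : ∀ n : ℕ, ∀ t : T, ∃ ht : (σ ^ n) (t : E) ∈ T,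
      (QuotientGroup.mk ⟨(σ ^ n) (t : E), ht⟩ : T ⧸ D.subgroupOf T) =
        (QuotientGroup.mk t : T ⧸ D.subgroupOf T) ^ (a ^ n) := by
    intro n
    induction n with
    | zero =>
      intro t
      refine ⟨by rw [pow_zero]; exact t.2, ?_⟩
      rw [pow_zero a, zpow_one]
      exact congrArg QuotientGroup.mk (Subtype.ext (DFunLike.congr_fun (pow_zero σ) (t : E)))
    | succ n ih =>
      intro t
      obtain ⟨ht, h⟩ := ih t
      refine ⟨by rw [pow_succ', MulAut.mul_apply]; exact hσT _ ht, ?_⟩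
      calc _ = f (QuotientGroup.mk ⟨(σ ^ n) (t : E), ht⟩) := by
            show _ = QuotientGroup.mk _
            refine congrArg QuotientGroup.mk (Subtype.ext ?_)
            show (σ ^ (n + 1)) (t : E) = σ ((σ ^ n) (t : E))
            rw [pow_succ', MulAut.mul_apply]
        _ = _ := by rw [h, map_zpow, ha, ← zpow_mul, pow_succ, mul_comm]
  obtain ⟨ht, h⟩ := hiter (p ^ k) ⟨e, he⟩
  set q : T ⧸ D.subgroupOf T := QuotientGroup.mk (⟨e, he⟩ : T) with hq
  have h1 : q ^ ((1 : ℤ)) = q ^ (a ^ p ^ k) := by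
    rw [zpow_one, ← h, hq]
    exact congrArg QuotientGroup.mk (Subtype.ext (by show e = (σ ^ p ^ k) e; rw [hk]; rfl))
  have h2 : f q = q := by
    rcases eq_or_ne q 1 with hq1 | hq1
    · rw [hq1, map_one]
    have hoq : orderOf q = p := orderOf_eq_prime (by rw [← hcard]; exact pow_card_eq_one') hq1
    have h3 := zpow_eq_zpow_iff_modEq.1 h1
    rw [hoq, ← ZMod.intCast_eq_intCast_iff, Int.cast_pow, ZMod.pow_card_pow] at h3
    rw [ha]
    conv_rhs => rw [← zpow_one q]
    exact zpow_eq_zpow_iff_modEq.2 (by rw [hoq, ← ZMod.intCast_eq_intCast_iff]; exact h3.symm)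
  have h3 := QuotientGroup.eq.1 (show (QuotientGroup.mk (⟨e, he⟩ : T) : T ⧸ D.subgroupOf T) =
    QuotientGroup.mk (⟨σ e, hσT e he⟩ : T) from h2.symm)
  exact h3

/-- The induced automorphisms form a normal Sylow subgroup when the automizer stabilizes a chain
with factors of order `p`; then every automorphism extends to the normalizer. -/
theorem extend_of_chain (hS : IsPGroup p S) (hF : F.IsSaturated p) (hPn : F.IsFullyNormalized P)
    (n : ℕ) (D : ℕ → Subgroup P) (h0 : D 0 = ⊥) (hn : D n = ⊤) (hmono : ∀ i < n, D i ≤ D (i + 1))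
    (hcard : ∀ i < n, Nat.card (D (i + 1)) = p * Nat.card (D i))
    (hinv : ∀ i ≤ n, ∀ σ ∈ F.autGroup P, ∀ e ∈ D i, σ e ∈ D i) {α : MulAut P}
    (hα : α ∈ F.autGroup P) :
    ∃ ψ ∈ F.autGroup (normalizerIn S P), ∀ x : P,
      ψ (Subgroup.inclusion (le_normalizerIn hPn.1) x) =
        Subgroup.inclusion (le_normalizerIn hPn.1) (α x) := by
  classical
  have hPS := hPn.1
  have := finite_le hPS
  have := finite_mulAut_of_le (S := S) hPS
  have := finite_le (normalizerIn_le (S := S) P)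
  set G := F.autGroup P with hG
  let K : Subgroup G :=
    { carrier := {σ | ∀ i < n, ∀ e ∈ D (i + 1), e⁻¹ * (σ : MulAut P) e ∈ D i}
      one_mem' := fun i _ e _ => by simp
      mul_mem' := by
        intro σ τ hσ hτ i hi e he
        have h := (D i).mul_mem (hτ i hi e he) (hσ i hi _ (hinv (i + 1) hi _ τ.2 e he))
        rwa [mul_assoc, mul_inv_cancel_left] at h
      inv_mem' := by
        intro σ hσ i hi e he
        have h := (D i).inv_mem (hσ i hi _ (hinv (i + 1) hi _ (inv_mem σ.2) e he))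
        rwa [MulAut.apply_inv_self, mul_inv_rev, inv_inv] at h }
  have hKn : K.Normal := ⟨fun σ hσ γ i hi e he => by
    have h := hinv i hi.le _ γ.2 _ (hσ i hi _ (hinv (i + 1) hi _ (inv_mem γ.2) e he))
    rwa [map_mul, map_inv, MulAut.apply_inv_self] at h⟩
  obtain ⟨d, hd⟩ := (hS.to_le hPS).exists_card_eq
  have hKp : IsPGroup p K := by
    intro σ
    refine ⟨n * d, ?_⟩
    have key : ∀ i ≤ n, ∀ e ∈ D i, (((σ : G) : MulAut P) ^ p ^ (i * d)) e = e := by
      intro i
      induction i with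
      | zero =>
        intro _ e he
        rw [h0, Subgroup.mem_bot] at he
        rw [he, map_one]
      | succ i ih =>
        intro hi e he
        set τ := ((σ : G) : MulAut P) ^ p ^ (i * d) with hτ
        have hτK := (K.pow_mem σ.2 (p ^ (i * d))) i hi e he
        rw [Subgroup.coe_pow] at hτK
        rw [show (i + 1) * d = i * d + d by ring, pow_add, pow_mul, ← hτ]
        exact PGroups.Transvections.pow_fix (v := e⁻¹ * τ e) (by rw [mul_inv_cancel_left])
          (ih (by omega) _ hτK) (by rw [← hd]; exact pow_card_eq_one')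
    refine Subtype.ext (Subtype.ext (MulEquiv.ext fun e => ?_))
    exact key n le_rfl e (hn ▸ Subgroup.mem_top e)
  obtain ⟨T, hT⟩ := (IsSaturated.fullyAutomized hS hF hPn).2
  have hTK : (T : Subgroup G) ≤ K := fun t ht i hi e he => by
    haveI : (D i).Normal := ⟨fun x hx u => hinv i hi.le (MulAut.conj u) (inn_le_autGroup hPS ⟨u, rfl⟩) x hx⟩
    obtain ⟨k, hk⟩ := T.2 ⟨t, ht⟩
    exact fix_section (hmono i hi) (hcard i hi) (hinv (i + 1) hi _ t.2) (hinv i hi.le _ t.2)
      (show (t : MulAut P) ^ p ^ k = 1 from congrArg (fun z : (T : Subgroup G) => ((z : G) : MulAut P)) hk)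
      he
  have hTeq : K = (T : Subgroup G) := T.3 hKp hTK
  have hrec := IsSaturated.receptive hS hF (IsSaturated.fullyCentralized hS hF hPn)
  have he : IsoIn F (α : P ≃* P) := (mem_autGroup_iff_isoIn hPS).1 hα
  have hR : normalizerIn S P ≤ extender S P (isoHom (α : P ≃* P)) := by
    intro g hg
    set gN : normalizerIn S P := ⟨g, hg⟩
    have h1 : (⟨α, hα⟩ : G) * ⟨conjAut gN, autInducedBy_le_autGroup hPS (conjAut_mem gN)⟩ *
        (⟨α, hα⟩ : G)⁻¹ ∈ (T : Subgroup G) := by
      rw [← hTeq]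
      refine hKn.conj_mem _ ?_ _
      rw [hTeq, hT]
      exact conjAut_mem gN
    rw [hT] at h1
    obtain ⟨k, hk, hk'⟩ := mem_autInducedBy_iff.1 (Subgroup.mem_subgroupOf.1 h1)
    refine mem_extender_iff.2 ⟨hg.1, hg.2, k, hk, fun x hx => ?_⟩
    have := hk' (α x)
    simp only [Subgroup.coe_mul, InvMemClass.coe_inv, MulAut.mul_apply, MulAut.inv_apply_self] at this
    exact this
  obtain ⟨ψ, hψ, hag⟩ := exists_extension hrec he (le_normalizerIn hPS) hR
  have hmem : ∀ x, ψ x ∈ normalizerIn S P :=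
    extension_mem_normalizerIn hψ _ inf_le_right hag
  set ψ₀ := ψ.codRestrict (normalizerIn S P) hmem with hψ₀
  have hinj : Function.Injective ψ₀ := fun a b hab =>
    F.injective_of_mem hψ (congrArg Subtype.val hab)
  refine ⟨MulEquiv.ofBijective ψ₀ ⟨hinj, Finite.injective_iff_surjective.1 hinj⟩, ?_,
    fun x => Subtype.ext (hag x)⟩
  exact (mem_autGroup_iff (normalizerIn_le P)).2 (hom_congr hψ fun x => rfl)

end CfsgLib.Fusion.TransvAut
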