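import Cfsg.Agent.Lib.Fusion.TransvectionEssential
import Cfsg.Agent.Lib.Fusion.ChainExtend
import Cfsg.Agent.Lib.Fusion.RankTwoRadical

/-!
# Essential subgroups with three generators: the automizer on the Frattini quotient

The automizer of an essential subgroup `E` acts on `E / Φ(E)` with kernel `Inn(E)`. When `|E / Φ(E)| = p³`,
`|N_S(E) : E| = p`, and an invariant line of `E / Φ(E)` forces the elements of `N_S(E)` to act quadratically.
-/

set_option autoImplicit false

namespace CfsgLib.Fusion.RankThree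

open Cfsg Cfsg.FusionSystem CfsgLib CfsgLib.Fusion CfsgLib.Fusion.TransvAut CfsgLib.SmallEssential

/-- The action of the automorphisms on the Frattini quotient. -/
noncomputable def frattiniAut (X : Type*) [Group X] : MulAut X →* MulAut (X ⧸ frattini X) where
  toFun σ := QuotientGroup.congr (frattini X) (frattini X) σ
    (Subgroup.characteristic_iff_map_eq.1 (inferInstance : (frattini X).Characteristic) σ)
  map_one' := MulEquiv.ext fun v => by
    obtain ⟨x, rfl⟩ := QuotientGroup.mk'_surjective _ v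
    rfl
  map_mul' σ τ := MulEquiv.ext fun v => by
    obtain ⟨x, rfl⟩ := QuotientGroup.mk'_surjective _ v
    rfl

theorem frattiniAut_apply {X : Type*} [Group X] (σ : MulAut X) (x : X) :
    frattiniAut X σ (x : X ⧸ frattini X) = ((σ x : X) : X ⧸ frattini X) := rfl

variable {p : ℕ} [hp : Fact p.Prime]

/-- The Frattini quotient of a finite `p`-group is abelian. -/
theorem quot_comm {X : Type*} [Group X] [Finite X] (hX : IsPGroup p X) (u v : X ⧸ frattini X) :
    u * v = v * u := by
  obtain ⟨x, rfl⟩ := QuotientGroup.mk'_surjective _ u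
  obtain ⟨y, rfl⟩ := QuotientGroup.mk'_surjective _ v
  rw [← map_mul, ← map_mul]
  refine QuotientGroup.eq.2 (PGroups.commutator_le_frattini' hX ?_)
  rw [show (x * y)⁻¹ * (y * x) = y⁻¹ * x⁻¹ * y⁻¹⁻¹ * x⁻¹⁻¹ by group, ← commutatorElement_def]
  exact Subgroup.commutator_mem_commutator trivial trivial

/-- The Frattini quotient of a finite `p`-group has exponent `p`. -/
theorem quot_pow {X : Type*} [Group X] [Finite X] (hX : IsPGroup p X) (u : X ⧸ frattini X) :
    u ^ p = 1 := by
  obtain ⟨x, rfl⟩ := QuotientGroup.mk'_surjective _ u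
  rw [← map_pow, QuotientGroup.mk'_apply, QuotientGroup.eq_one_iff]
  exact PGroups.pow_mem_frattini hX x

variable {Ω : Type*} [Group Ω] {S : Subgroup Ω} [Finite S] {F : FusionSystem S} {E : Subgroup Ω}

/-- The action of `Aut_F(E)` on `E / Φ(E)`. -/
noncomputable def outAut (F : FusionSystem S) (E : Subgroup Ω) :
    F.autGroup E →* MulAut (E ⧸ frattini E) :=
  (frattiniAut E).comp (F.autGroup E).subtype

omit [Finite S] in
theorem outAut_apply (σ : F.autGroup E) (x : E) :
    outAut F E σ (x : E ⧸ frattini E) = (((σ : MulAut E) x : E) : E ⧸ frattini E) := rfl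

/-- The kernel of the action is inner. -/
theorem outAut_ker (hS : IsPGroup p S) (hE : F.IsEssential p E) {σ : F.autGroup E}
    (h : outAut F E σ = 1) : (σ : MulAut E) ∈ Inn E := by
  have hES := hE.1.1
  have := finite_le hES
  refine mem_inn_of_normal hS hES (IsEssential.isRadical hS hE)
    (K := F.autGroup E ⊓ frattiniFix E) inf_le_left (fun α hα κ hκ => ?_) ?_ ⟨σ.2, fun y => ?_⟩
  · exact ⟨Subgroup.mul_mem _ (Subgroup.mul_mem _ hα hκ.1) (Subgroup.inv_mem _ hα),
      frattiniFix_conj α κ hκ.2⟩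
  · exact isPGroup_frattini_stabilizer (hS.to_le hES) _ fun e he => he.2
  · have h1 : (((σ : MulAut E) y : E) : E ⧸ frattini E) = y := by rw [← outAut_apply, h]; rfl
    have h2 := QuotientGroup.eq.1 h1.symm
    have h3 := (inferInstance : (frattini E).Normal).conj_mem _ h2 y
    simpa [mul_assoc] using h3

/-- Inner automorphisms act trivially. -/
theorem outAut_inn (hS : IsPGroup p S) (hES : E ≤ S) {σ : F.autGroup E}
    (h : (σ : MulAut E) ∈ Inn E) : outAut F E σ = 1 := by
  have := finite_le hES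
  obtain ⟨u, hu⟩ := h
  refine MulEquiv.ext fun v => ?_
  obtain ⟨x, rfl⟩ := QuotientGroup.mk'_surjective _ v
  rw [QuotientGroup.mk'_apply, outAut_apply, ← hu, MulAut.one_apply, MulAut.conj_apply,
    QuotientGroup.mk_mul, QuotientGroup.mk_mul, quot_comm (hS.to_le hES) (u : E ⧸ frattini E),
    QuotientGroup.mk_inv, mul_inv_cancel_right]

/-- A subgroup of the image containing the centralizers of its elements of order `p`, and a conjugate
of a given element of order `p` outside it. -/
theorem exists_embedded_range (hS : IsPGroup p S) (hE : F.IsEssential p E)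
    (z : (outAut F E).range) (hzo : orderOf z = p) :
    ∃ M : Subgroup (outAut F E).range, HasCents p M ∧ z ∈ M ∧ ∃ g, g * z * g⁻¹ ∉ M ∧
      g⁻¹ * z * g ∉ M := by
  have hES := hE.1.1
  have := finite_le hES
  have := finite_mulAut_of_le (S := S) hES
  obtain ⟨hN, Y, hY⟩ := hE.2.2
  haveI := hN
  obtain ⟨hYtop, hYp, hYc⟩ := LocalEven.stronglyPEmbedded_iff.1 hY
  -- the quotient by `Inn(E)` is the image
  have hker : ((Inn E).subgroupOf (F.autGroup E)) = (outAut F E).ker := by
    ext σ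
    exact ⟨fun h => outAut_inn hS hES h, fun h => outAut_ker hS hE h⟩
  let π : F.autGroup E ⧸ (Inn E).subgroupOf (F.autGroup E) ≃* (outAut F E).range :=
    (QuotientGroup.quotientMulEquivOfEq hker).trans (QuotientGroup.quotientKerEquivRange _)
  have hzo' : orderOf (π.symm z) = p := by rw [MulEquiv.orderOf_eq, hzo]
  obtain ⟨P₀, hP₀, hP₀1⟩ := LocalEven.exists_sylow_le hYc hYp
  obtain ⟨P, hP⟩ := (LocalEven.isPGroup_zpowers hzo').exists_le_sylow
  obtain ⟨t, ht⟩ := LocalEven.sylow_conj P₀ P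
  have htz : t⁻¹ * π.symm z * t ∈ Y := by
    have h : π.symm z ∈ (P₀ : Subgroup _).map (MulAut.conj t).toMonoidHom :=
      ht ▸ hP (Subgroup.mem_zpowers _)
    have h2 := LocalEven.mem_conj.1 h
    exact hP₀ (by simpa using h2)
  set M := Y.comap ((MulAut.conj t⁻¹).toMonoidHom.comp π.symm.toMonoidHom) with hM
  have hmem : ∀ v, v ∈ M ↔ t⁻¹ * π.symm v * t ∈ Y := fun v => by simp [hM]
  obtain ⟨u, hu⟩ : ∃ u, u ∉ Y := by
    by_contra h
    push Not at h
    exact hYtop (eq_top_iff.2 fun x _ => h x)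
  have ho : orderOf (t⁻¹ * π.symm z * t) = p := by
    rw [show t⁻¹ * π.symm z * t = MulAut.conj t⁻¹ (π.symm z) by simp,
      MulEquiv.orderOf_eq (MulAut.conj t⁻¹), hzo']
  refine ⟨M, ?_, (hmem z).2 htz, π (t * u * t⁻¹), fun h => hu ?_, fun h => hu ?_⟩
  · intro x hx hx1 hxp c hc
    have hxo : orderOf x = p := orderOf_eq_prime hxp hx1
    have hc' : c * x = x * c := Subgroup.mem_centralizer_singleton_iff.1 hc
    refine (hmem c).2 (LocalEven.mem_of_conj_mem hYc (x := t⁻¹ * π.symm x * t) ?_ ((hmem x).1 hx) ?_)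
    · rw [show t⁻¹ * π.symm x * t = MulAut.conj t⁻¹ (π.symm x) by simp,
        MulEquiv.orderOf_eq (MulAut.conj t⁻¹), MulEquiv.orderOf_eq, hxo]
    · have he : π.symm c * π.symm x = π.symm x * π.symm c := by rw [← map_mul, ← map_mul, hc']
      convert (hmem x).1 hx using 1
      calc t⁻¹ * π.symm c * t * (t⁻¹ * π.symm x * t) * (t⁻¹ * π.symm c * t)⁻¹
          = t⁻¹ * (π.symm c * π.symm x) * (π.symm c)⁻¹ * t := by group
        _ = t⁻¹ * (π.symm x * π.symm c) * (π.symm c)⁻¹ * t := by rw [he]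
        _ = t⁻¹ * π.symm x * t := by group
  · refine LocalEven.mem_of_conj_mem hYc ho htz ?_
    have h' := (hmem _).1 h
    rw [map_mul, map_mul, map_inv, π.symm_apply_apply] at h'
    convert h' using 1
    group
  · have h' := (hmem _).1 h
    rw [map_mul, map_mul, map_inv, π.symm_apply_apply] at h'
    refine inv_mem_iff.1 (LocalEven.mem_of_conj_mem hYc ho htz (g := u⁻¹) ?_)
    convert h' using 1
    group

set_option maxHeartbeats 800000 in
/-- A `p`-subgroup of the image has order at most `p` when `|E / Φ(E)| = p³`. -/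
theorem card_pGroup_le (hS : IsPGroup p S) (hE : F.IsEssential p E)
    (hrk : (frattini E).index = p ^ 3) {U : Subgroup (outAut F E).range} (hU : IsPGroup p U) :
    Nat.card U ≤ p := by
  classical
  have hp' := hp.out
  have hES := hE.1.1
  have := finite_le hES
  have := finite_mulAut_of_le (S := S) hES
  have hEp : IsPGroup p E := hS.to_le hES
  letI : CommGroup (E ⧸ frattini E) :=
    { (inferInstance : Group (E ⧸ frattini E)) with mul_comm := quot_comm hEp }
  have hexp : ∀ v : E ⧸ frattini E, v ^ p = 1 := quot_pow hEp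
  letI : Module (ZMod p) (Additive (E ⧸ frattini E)) :=
    AddCommGroup.zmodModule (G := Additive (E ⧸ frattini E)) (n := p)
      fun v => congrArg Additive.ofMul (hexp (Additive.toMul v))
  have hVc : Nat.card (E ⧸ frattini E) = p ^ 3 := hrk
  by_contra hlt
  push Not at hlt
  -- `U` acting on the quotient
  set U' : Subgroup (MulAut (E ⧸ frattini E)) := U.map (outAut F E).range.subtype with hU'
  have hU'p : IsPGroup p U' := hU.map _
  have hU'c : Nat.card U' = Nat.card U :=
    Subgroup.card_map_of_injective (outAut F E).range.subtype_injective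
  -- a fixed point, and an invariant subgroup of order `p ^ 2`
  obtain ⟨a₁, ha₁, hne₁⟩ := hU'p.exists_fixed_point_of_prime_dvd_card_of_fixed_point
    (E ⧸ frattini E) (hVc ▸ dvd_pow_self p (by norm_num)) (a := 1) (fun q => map_one (q.1))
  have hfix₁ : ∀ q ∈ U', q a₁ = a₁ := fun q hq => ha₁ ⟨q, hq⟩
  set D := Subgroup.zpowers a₁ with hD
  have hDc : Nat.card D = p := by rw [hD, Nat.card_zpowers, orderOf_eq_prime (hexp _) hne₁.symm]
  have hDfix : ∀ q ∈ U', ∀ x ∈ D, q x = x := fun q hq x hx => by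
    obtain ⟨i, rfl⟩ := Subgroup.mem_zpowers_iff.1 hx
    rw [map_zpow, hfix₁ q hq]
  -- the action on the quotient by `D`
  let act : U' →* MulAut ((E ⧸ frattini E) ⧸ D) :=
    { toFun := fun q => QuotientGroup.congr D D q.1 (le_antisymm
        (fun x ⟨y, hy, hyx⟩ => hyx ▸ (hDfix q.1 q.2 y hy).symm ▸ hy)
        (fun x hx => ⟨x, hx, hDfix q.1 q.2 x hx⟩))
      map_one' := MulEquiv.ext fun v => by
        obtain ⟨x, rfl⟩ := QuotientGroup.mk'_surjective _ v
        rfl
      map_mul' := fun σ τ => MulEquiv.ext fun v => by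
        obtain ⟨x, rfl⟩ := QuotientGroup.mk'_surjective _ v
        rfl }
  have hQc : Nat.card ((E ⧸ frattini E) ⧸ D) = p ^ 2 := by
    have h := D.card_eq_card_quotient_mul_card_subgroup
    rw [hVc, hDc, pow_succ] at h
    exact (Nat.eq_of_mul_eq_mul_right hp'.pos h).symm
  letI : MulAction U' ((E ⧸ frattini E) ⧸ D) := MulAction.compHom _ act
  obtain ⟨b₁, hb₁, hneb⟩ := hU'p.exists_fixed_point_of_prime_dvd_card_of_fixed_point
    ((E ⧸ frattini E) ⧸ D) (hQc ▸ dvd_pow_self p two_ne_zero) (a := 1) (fun q => map_one (act q))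
  obtain ⟨b, rfl⟩ := QuotientGroup.mk'_surjective D b₁
  set A := Subgroup.zpowers b ⊔ D with hA
  have hbD : b ∉ D := fun h => hneb ((QuotientGroup.eq_one_iff b).2 h).symm
  have hAc : Nat.card A = p ^ 2 := by
    have h1 : D < A := lt_of_le_of_ne le_sup_right fun h =>
      hbD (h ▸ Subgroup.mem_sup_left (Subgroup.mem_zpowers b))
    obtain ⟨e, he, hcA⟩ := (Nat.dvd_prime_pow hp').1 (hVc ▸ Subgroup.card_subgroup_dvd_card A)
    have h2 : p < Nat.card A := by
      rw [← hDc]
      refine lt_of_le_of_ne (Subgroup.card_le_of_le h1.le) fun h => h1.ne ?_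
      exact Subgroup.eq_of_le_of_card_ge h1.le h.ge
    have h3 : Nat.card A ≤ p ^ 2 := by
      have h4 : A.map (QuotientGroup.mk' D) ≤ Subgroup.zpowers (QuotientGroup.mk' D b) := by
        rw [hA, Subgroup.map_sup, MonoidHom.map_zpowers]
        refine sup_le le_rfl ?_
        rintro _ ⟨x, hx, rfl⟩
        rw [show QuotientGroup.mk' D x = 1 from (QuotientGroup.eq_one_iff x).2 hx]
        exact one_mem _
      have h5 := Subgroup.relIndex_mul_relIndex ⊥ D A bot_le le_sup_right
      rw [Subgroup.relIndex_bot_left, Subgroup.relIndex_bot_left, hDc] at h5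
      rw [← h5, pow_two]
      refine Nat.mul_le_mul_left p ?_
      have h6 : D.relIndex A = Nat.card (A.map (QuotientGroup.mk' D)) := by
        rw [← Subgroup.relIndex_ker A (QuotientGroup.mk' D), QuotientGroup.ker_mk']
      rw [h6]
      refine (Subgroup.card_le_of_le h4).trans ?_
      rw [Nat.card_zpowers]
      exact Nat.le_of_dvd hp'.pos (orderOf_dvd_of_pow_eq_one (by rw [← map_pow, hexp, map_one]))
    rw [hcA] at h2 h3 ⊢
    have := (Nat.pow_lt_pow_iff_right hp'.one_lt).1 (by rwa [pow_one] : p ^ 1 < p ^ e)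
    have := (Nat.pow_le_pow_iff_right hp'.one_lt).1 h3
    rw [show e = 2 by omega]
  have hAinv : ∀ q ∈ U', ∀ x ∈ A, q x ∈ A := by
    intro q hq x hx
    have hb : q b ∈ A := by
      have h : ((q b : E ⧸ frattini E) : (E ⧸ frattini E) ⧸ D) = (b : (E ⧸ frattini E) ⧸ D) :=
        hb₁ ⟨q, hq⟩
      have h' := QuotientGroup.eq.1 h.symm
      have := A.mul_mem (Subgroup.mem_sup_left (Subgroup.mem_zpowers b)) (Subgroup.mem_sup_right h')
      rwa [mul_inv_cancel_left] at this
    have : (A.map q.toMonoidHom) ≤ A := by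
      rw [hA, Subgroup.map_sup, MonoidHom.map_zpowers]
      exact sup_le (Subgroup.zpowers_le.2 hb)
        (fun y ⟨w, hw, hwy⟩ => hwy ▸ (hDfix q hq w hw).symm ▸ Subgroup.mem_sup_right hw)
    exact this ⟨x, hx, rfl⟩
  -- the restriction to `A`
  have hAeq : ∀ q ∈ U', A.map q.toMonoidHom = A := fun q hq =>
    Subgroup.eq_of_le_of_card_ge (fun y ⟨w, hw, hwy⟩ => hwy ▸ hAinv q hq w hw)
      (Subgroup.card_map_of_injective q.injective).ge
  let res : U' →* MulAut A :=
    { toFun := fun q => (q.1.subgroupMap A).trans (MulEquiv.subgroupCongr (hAeq q.1 q.2))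
      map_one' := MulEquiv.ext fun v => rfl
      map_mul' := fun σ τ => MulEquiv.ext fun v => rfl }
  have hresv : ∀ (q : U') (v : A), ((res q v : A) : E ⧸ frattini E) = q.1 v := fun q v => rfl
  have hAexp : ∀ v : A, v ^ p = 1 := fun v => Subtype.ext (hexp v)
  obtain ⟨w, hwA⟩ : ∃ w, w ∉ A := by
    by_contra h
    push Not at h
    have h2 : Nat.card A = p ^ 3 := by rw [(Subgroup.eq_top_iff' A).2 h, Subgroup.card_top, hVc]
    rw [hAc] at h2
    exact absurd (Nat.pow_right_injective hp'.two_le h2) (by norm_num)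
  -- a nontrivial element centralizing `A`
  obtain ⟨q₀, hq₀, hq₀1⟩ : ∃ q : U', res q = 1 ∧ q ≠ 1 := by
    by_contra h
    push Not at h
    have hinj : Function.Injective res :=
      (injective_iff_map_eq_one res).2 fun q hq => h q hq
    have hle : Nat.card res.range ≤ p := by
      by_cases h0 : res.range = ⊥
      · rw [h0, Subgroup.card_bot]; exact hp'.pos
      obtain ⟨⟨σ, hσ⟩, hσ1'⟩ := Subgroup.ne_bot_iff_exists_ne_one.1 h0
      have hσ1 : σ ≠ 1 := fun e => hσ1' (Subtype.ext e)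
      have hrp : IsPGroup p res.range := hU'p.of_surjective _ res.rangeRestrict_surjective
      obtain ⟨k, hk⟩ := hrp ⟨σ, hσ⟩
      have hk' : σ ^ p ^ k = 1 := congrArg Subtype.val hk
      obtain ⟨a₀, -, himg⟩ := exists_img_of_sq hAexp hAc hk'
      have hfix := fix_of_img hAexp himg hk'
      have hσp : σ ^ p = 1 := MulEquiv.ext fun v => by
        obtain ⟨i, hi⟩ := Subgroup.mem_zpowers_iff.1 (himg v)
        rw [MulAut.one_apply]
        exact PGroups.Transvections.pow_fix (v := a₀ ^ i)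
          (by rw [hi, mul_comm v, inv_mul_cancel_right]) (by rw [map_zpow, hfix]) (hAexp _)
      refine (Subgroup.card_le_of_le (le_zpowers_of_sq hAexp hAc hrp hσ hσ1)).trans ?_
      rw [Nat.card_zpowers, orderOf_eq_prime hσp hσ1]
    rw [← Nat.card_congr (MonoidHom.ofInjective hinj).toEquiv] at hle
    omega
  -- it is a transvection
  obtain ⟨k, hk⟩ := hU'p q₀
  have hk' : (q₀ : MulAut (E ⧸ frattini E)) ^ p ^ k = 1 := congrArg Subtype.val hk
  have hAfix : ∀ v ∈ A, (q₀ : MulAut (E ⧸ frattini E)) v = v := fun v hv => by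
    have := congrArg Subtype.val (DFunLike.congr_fun hq₀ ⟨v, hv⟩)
    rwa [hresv, MulAut.one_apply] at this
  have hwq : w⁻¹ * (q₀ : MulAut (E ⧸ frattini E)) w ∈ A := by
    refine fix_section (T := ⊤) le_top ?_ (fun _ _ => trivial) (fun x hx => hAinv _ q₀.2 x hx) hk'
      trivial
    rw [Subgroup.card_top, hVc, hAc, pow_succ']
  set a₀ := w⁻¹ * (q₀ : MulAut (E ⧸ frattini E)) w with ha₀
  have himg : ∀ v, (q₀ : MulAut (E ⧸ frattini E)) v * v⁻¹ ∈ Subgroup.zpowers a₀ := by
    intro v
    obtain ⟨x, hx, i, rfl⟩ : ∃ x ∈ A, ∃ i : ℤ, v = x * w ^ i := by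
      have htop : A ⊔ Subgroup.zpowers w = ⊤ := by
        refine Subgroup.eq_top_of_le_card _ ?_
        obtain ⟨e, he, hce⟩ := (Nat.dvd_prime_pow hp').1
          (hVc ▸ Subgroup.card_subgroup_dvd_card (A ⊔ Subgroup.zpowers w))
        have hlt : p ^ 2 < p ^ e := by
          rw [← hce, ← hAc]
          refine lt_of_le_of_ne (Subgroup.card_le_of_le le_sup_left) fun h => hwA ?_
          rw [Subgroup.eq_of_le_of_card_ge (le_sup_left : A ≤ A ⊔ Subgroup.zpowers w) h.ge]
          exact Subgroup.mem_sup_right (Subgroup.mem_zpowers w)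
        have := (Nat.pow_lt_pow_iff_right hp'.one_lt).1 hlt
        rw [hce, hVc, show e = 3 by omega]
      obtain ⟨x, hx, y, hy, hxy⟩ := Subgroup.mem_sup.1 (htop.ge (Subgroup.mem_top v))
      obtain ⟨i, rfl⟩ := Subgroup.mem_zpowers_iff.1 hy
      exact ⟨x, hx, i, hxy.symm⟩
    refine Subgroup.mem_zpowers_iff.2 ⟨i, ?_⟩
    have hid : ∀ a b c : E ⧸ frattini E, a * b * (a * c)⁻¹ = c⁻¹ * b := fun a b c => by
      rw [mul_inv_rev, mul_comm c⁻¹, mul_comm a b, mul_assoc b a, mul_inv_cancel_left, mul_comm]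
    rw [map_mul, map_zpow, hAfix x hx, ha₀, hid, mul_zpow, inv_zpow]
  have hfix : (q₀ : MulAut (E ⧸ frattini E)) a₀ = a₀ := hAfix _ hwq
  have hq₀p : (q₀ : MulAut (E ⧸ frattini E)) ^ p = 1 := MulEquiv.ext fun v => by
    obtain ⟨i, hi⟩ := Subgroup.mem_zpowers_iff.1 (himg v)
    rw [MulAut.one_apply]
    exact PGroups.Transvections.pow_fix (v := a₀ ^ i)
      (by rw [hi, mul_comm v, inv_mul_cancel_right]) (by rw [map_zpow, hfix]) (hexp _)
  obtain ⟨z₀, hz₀, hzq⟩ := q₀.2
  have hzv : (z₀ : MulAut (E ⧸ frattini E)) = q₀ := hzq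
  have hz1 : z₀ ≠ 1 := fun h => hq₀1 (Subtype.ext (by rw [← hzv, h]; rfl))
  have hzo : orderOf z₀ = p := orderOf_eq_prime
    (Subtype.ext (by rw [SubgroupClass.coe_pow, hzv, hq₀p]; rfl)) hz1
  obtain ⟨M, hM, hzM, g, hg, hg'⟩ := exists_embedded_range hS hE z₀ hzo
  obtain ⟨-, -, -, -, -, -, -, -, -, hle, -⟩ := exists_frame (p := p) hVc
    (outAut F E).range.subtype (outAut F E).range.subtype_injective hM hzM hg hg'
    (a₀ := a₀) (by rw [Subgroup.coe_subtype, hzv]; exact hfix)
    (by rw [Subgroup.coe_subtype, hzv]; exact himg) hz1 hU hz₀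
  have := Subgroup.card_le_of_le hle
  rw [Nat.card_zpowers, hzo] at this
  omega

/-- `|N_S(E)| = p |E|`. -/
theorem card_normalizerIn (hS : IsPGroup p S) (hF : F.IsSaturated p) (hE : F.IsEssential p E)
    (hrk : (frattini E).index = p ^ 3) : Nat.card (normalizerIn S E) = p * Nat.card E := by
  have hp' := hp.out
  have hES := hE.1.1
  have := finite_le hES
  have := finite_le (normalizerIn_le (S := S) E)
  let f : normalizerIn S E →* (outAut F E).range :=
    (outAut F E).rangeRestrict.comp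
      ((conjHomAut S E).codRestrict (F.autGroup E) fun g =>
        (conjHomAut_eq g).symm ▸ conjAut_mem_autGroup hES g)
  have hfker : f.ker = E.subgroupOf (normalizerIn S E) := by
    ext g
    refine ⟨fun h => ?_, fun h => ?_⟩
    · have h1 : outAut F E ⟨conjAut g, conjAut_mem_autGroup hES g⟩ = 1 := by
        have := congrArg Subtype.val (show f g = 1 from h)
        simpa [f, conjHomAut_eq] using this
      exact Subgroup.mem_subgroupOf.2 (mem_of_conjAut_inn hE.1 g (outAut_ker hS hE h1))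
    · refine Subtype.ext ?_
      show outAut F E ⟨conjHomAut S E g, _⟩ = 1
      refine outAut_inn hS hES ?_
      show conjHomAut S E g ∈ Inn E
      rw [conjHomAut_eq]
      exact ⟨⟨g, Subgroup.mem_subgroupOf.1 h⟩, MulEquiv.ext fun x => Subtype.ext rfl⟩
  have hrp : IsPGroup p f.range :=
    (hS.to_le (normalizerIn_le E)).of_surjective _ f.rangeRestrict_surjective
  have hle := card_pGroup_le hS hE hrk hrp
  have hcard : Nat.card (normalizerIn S E) = Nat.card f.range * Nat.card E := by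
    rw [f.ker.card_eq_card_quotient_mul_card_subgroup,
      Nat.card_congr (QuotientGroup.quotientKerEquivRange f).toEquiv, hfker,
      Nat.card_congr (Subgroup.subgroupOfEquivOfLe (le_normalizerIn hES)).toEquiv]
  obtain ⟨j, hj⟩ := IsPGroup.iff_card.1 hrp
  have hj0 : j ≠ 0 := fun h0 => by
    obtain ⟨g, hg, hgE⟩ := exists_mem_normalizerIn_not_mem hS
      (lt_of_le_of_ne hES (isEssential_ne_self hS hF hE))
    rw [h0, pow_zero] at hj
    refine hgE (Subgroup.mem_subgroupOf.1 (hfker ▸ (?_ : (⟨g, hg⟩ : normalizerIn S E) ∈ f.ker)))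
    have h2 := Subgroup.eq_bot_of_card_eq _ hj
    exact Subgroup.mem_bot.1 (h2 ▸ (⟨⟨g, hg⟩, rfl⟩ : f ⟨g, hg⟩ ∈ f.range))
  rw [hcard, hj]
  rw [hj] at hle
  have h1 := (Nat.pow_le_pow_iff_right hp'.one_lt).1 (hle.trans (pow_one p).ge)
  rw [show j = 1 by omega, pow_one]

set_option maxHeartbeats 800000 in
/-- If `Aut_F(E)` fixes a subgroup of order `p` of `E / Φ(E)`, the elements of `N_S(E)` act
quadratically. -/
theorem quadratic_of_line (hS : IsPGroup p S) (hF : F.IsSaturated p) (hE : F.IsEssential p E)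
    (hp2 : p ≠ 2) (hrk : (frattini E).index = p ^ 3) {D : Subgroup E} (hΦD : frattini E ≤ D)
    (hDi : D.index = p ^ 2) (hDinv : ∀ σ : F.autGroup E, ∀ x ∈ D, (σ : MulAut E) x ∈ D)
    (g : normalizerIn S E) (x : E) :
    (conjAut g x * x⁻¹)⁻¹ * conjAut g (conjAut g x * x⁻¹) ∈ frattini E := by
  classical
  have hp' := hp.out
  have hES := hE.1.1
  have := finite_le hES
  have := finite_mulAut_of_le (S := S) hES
  have hEp : IsPGroup p E := hS.to_le hES
  letI : CommGroup (E ⧸ frattini E) :=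
    { (inferInstance : Group (E ⧸ frattini E)) with mul_comm := quot_comm hEp }
  have hexp : ∀ v : E ⧸ frattini E, v ^ p = 1 := quot_pow hEp
  have hVc : Nat.card (E ⧸ frattini E) = p ^ 3 := hrk
  let π := QuotientGroup.mk' (frattini E)
  let L := outAut F E
  set D' := D.map π with hD'
  have hD'c : Nat.card D' = p := by
    have h1 : D'.index = p ^ 2 := by
      rw [hD', Subgroup.index_map, QuotientGroup.ker_mk', sup_of_le_left hΦD,
        MonoidHom.range_eq_top.2 (QuotientGroup.mk'_surjective _), Subgroup.index_top, mul_one, hDi]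
    have h2 := D'.card_mul_index
    rw [h1, hVc, pow_succ p 2] at h2
    exact Nat.eq_of_mul_eq_mul_right (pow_pos hp'.pos 2) (h2.trans (mul_comm _ _))
  have hLπ : ∀ (σ : F.autGroup E) (y : E), L σ (π y) = π ((σ : MulAut E) y) := fun σ y => rfl
  have hD'inv : ∀ σ, ∀ v ∈ D', L σ v ∈ D' := fun σ v hv => by
    obtain ⟨y, hy, rfl⟩ := hv
    exact ⟨_, hDinv σ y hy, rfl⟩
  have hD'eq : ∀ σ, D'.map (L σ).toMonoidHom = D' := fun σ =>
    Subgroup.eq_of_le_of_card_ge (fun y ⟨w, hw, hwy⟩ => hwy ▸ hD'inv σ w hw)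
      (Subgroup.card_map_of_injective (L σ).injective).ge
  set Q := (E ⧸ frattini E) ⧸ D'
  have hQc : Nat.card Q = p ^ 2 := by
    have h := D'.card_eq_card_quotient_mul_card_subgroup
    rw [hVc, hD'c, pow_succ] at h
    exact (Nat.eq_of_mul_eq_mul_right hp'.pos h).symm
  have hQexp : ∀ v : Q, v ^ p = 1 := fun v => by
    obtain ⟨u, rfl⟩ := QuotientGroup.mk'_surjective D' v
    rw [← map_pow, hexp, map_one]
  let Lq : F.autGroup E →* MulAut Q :=
    { toFun := fun σ => QuotientGroup.congr D' D' (L σ) (hD'eq σ)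
      map_one' := MulEquiv.ext fun v => by
        obtain ⟨u, rfl⟩ := QuotientGroup.mk'_surjective _ v
        show ((L 1 u : E ⧸ frattini E) : Q) = _
        rw [map_one]; rfl
      map_mul' := fun σ τ => MulEquiv.ext fun v => by
        obtain ⟨u, rfl⟩ := QuotientGroup.mk'_surjective _ v
        show ((L (σ * τ) u : E ⧸ frattini E) : Q) = _
        rw [map_mul]; rfl }
  have hLq : ∀ σ (v : E ⧸ frattini E), Lq σ (v : Q) = ((L σ v : E ⧸ frattini E) : Q) :=
    fun σ v => rfl
  set c : F.autGroup E := ⟨conjAut g, conjAut_mem_autGroup hES g⟩ with hc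
  obtain ⟨k, hk⟩ := conjAut_pow_eq_one hS g
  have hck : c ^ p ^ k = 1 := Subtype.ext (by rw [SubgroupClass.coe_pow]; exact hk)
  -- `p`-elements fix `D'` pointwise
  have hpfix : ∀ (σ : F.autGroup E) (k : ℕ), σ ^ p ^ k = 1 → ∀ v ∈ D', L σ v = v := by
    intro σ k hσ v hv
    have h := fix_section (D := (⊥ : Subgroup (E ⧸ frattini E))) (T := D') bot_le
      (by rw [hD'c, Subgroup.card_bot, mul_one]) (σ := L σ) (hD'inv σ)
      (fun e he => by rw [Subgroup.mem_bot] at he ⊢; rw [he, map_one])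
      (by rw [← map_pow, hσ, map_one]) hv
    exact (inv_mul_eq_one.1 (Subgroup.mem_bot.1 h)).symm
  suffices hmain : ∀ v, L c (L c v * v⁻¹) = L c v * v⁻¹ by
    have h := hmain (π x)
    rw [hLπ, ← map_inv, ← map_mul, hLπ] at h
    exact QuotientGroup.eq.1 h.symm
  by_cases hc1 : Lq c = 1
  · intro v
    refine hpfix c k hck _ ?_
    have h : ((L c v : E ⧸ frattini E) : Q) = v := by rw [← hLq, hc1]; rfl
    have h2 := QuotientGroup.eq.1 h.symm
    rwa [mul_comm]
  have hLck : Lq c ^ p ^ k = 1 := by rw [← map_pow, hck, map_one]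
  obtain ⟨a₀, -, himg⟩ := exists_img_of_sq hQexp hQc hLck
  have hfix := fix_of_img hQexp himg hLck
  have hcp : Lq c ^ p = 1 := MulEquiv.ext fun v => by
    obtain ⟨i, hi⟩ := Subgroup.mem_zpowers_iff.1 (himg v)
    rw [MulAut.one_apply]
    exact PGroups.Transvections.pow_fix (v := a₀ ^ i)
      (by rw [hi, mul_comm v, inv_mul_cancel_right]) (by rw [map_zpow, hfix]) (hQexp _)
  have hco : orderOf (Lq c) = p := orderOf_eq_prime hcp hc1
  obtain ⟨T, hTeq⟩ := (IsSaturated.fullyAutomized hS hF hE.2.1).2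
  have hcT : c ∈ (T : Subgroup (F.autGroup E)) := hTeq.ge (conjAut_mem g)
  have hTz : ∀ u ∈ (T : Subgroup (F.autGroup E)), Lq u ∈ Subgroup.zpowers (Lq c) := fun u hu =>
    le_zpowers_of_sq hQexp hQc (T.2.map Lq) ⟨c, hcT, rfl⟩ hc1 ⟨u, hu, rfl⟩
  have hTr : Transv p Lq c a₀ :=
    ⟨hQexp, himg, hfix, hc1, fun d hd1 hd2 => alone_of_sylow Lq T hTz hco hd1 hd2⟩
  -- the kernel on the two sections acts trivially
  let K₀ : Subgroup (F.autGroup E) :=
    { carrier := {σ | Lq σ = 1 ∧ ∀ v ∈ D', L σ v = v}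
      one_mem' := ⟨map_one _, fun v _ => by rw [map_one]; rfl⟩
      mul_mem' := fun {σ τ} hσ hτ => ⟨by rw [map_mul, hσ.1, hτ.1, one_mul],
        fun v hv => by rw [map_mul, MulAut.mul_apply, hτ.2 v hv, hσ.2 v hv]⟩
      inv_mem' := fun {σ} hσ => ⟨by rw [map_inv, hσ.1, inv_one], fun v hv => by
        conv_lhs => rw [← hσ.2 v hv]
        rw [map_inv, MulAut.inv_apply_self]⟩ }
  have hK₀ : ∀ σ ∈ K₀, L σ = 1 := by
    intro σ hσ
    have hKn : K₀.Normal := ⟨fun τ hτ γ => ⟨by rw [map_mul, map_mul, hτ.1, mul_one, ← map_mul,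
      mul_inv_cancel, map_one], fun v hv => by
      rw [map_mul, map_mul, MulAut.mul_apply, MulAut.mul_apply, hτ.2 _ (hD'inv _ v hv),
        ← MulAut.mul_apply, ← map_mul, mul_inv_cancel, map_one]; rfl⟩⟩
    have hKp : IsPGroup p K₀ := by
      intro τ
      have hτp : L (τ : F.autGroup E) ^ p = 1 := MulEquiv.ext fun v => by
        have h : ((L (τ : F.autGroup E) v : E ⧸ frattini E) : Q) = v := by
          rw [← hLq, τ.2.1]; rfl
        have h2 := QuotientGroup.eq.1 h.symm
        rw [MulAut.one_apply]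
        exact PGroups.Transvections.pow_fix (v := v⁻¹ * L (τ : F.autGroup E) v)
          (by rw [mul_inv_cancel_left]) (τ.2.2 _ h2) (hexp _)
      rw [← map_pow] at hτp
      obtain ⟨u, hu⟩ := outAut_ker hS hE hτp
      obtain ⟨m, hm⟩ := hEp u
      refine ⟨m + 1, Subtype.ext (Subtype.ext ?_)⟩
      rw [pow_succ', pow_mul, SubgroupClass.coe_pow, SubgroupClass.coe_pow, SubgroupClass.coe_pow,
        SubgroupClass.coe_pow, ← SubgroupClass.coe_pow (τ : F.autGroup E), ← hu, ← map_pow, hm,
        map_one]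
      rfl
    have h1 := (isRadical_iff_le hS hES).1 (IsEssential.isRadical hS hE) (Core.le_pCore hKp hσ)
    exact outAut_inn hS hES (Subgroup.mem_subgroupOf.1 h1)
  obtain ⟨y, hy⟩ : ∃ y : F.autGroup E, Lq (y * c * y⁻¹) ∉ Subgroup.zpowers (Lq c) := by
    by_contra h
    push Not at h
    set K := (Subgroup.zpowers (Lq c)).comap Lq with hK
    set K' := Subgroup.normalClosure ({c} : Set (F.autGroup E)) with hK'
    have hle : K' ≤ K := by
      refine Subgroup.closure_le K |>.2 ?_
      intro w hw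
      obtain ⟨a, ha, hconj⟩ := Group.mem_conjugatesOfSet_iff.1 hw
      rw [Set.mem_singleton_iff] at ha
      subst ha
      obtain ⟨y, rfl⟩ := _root_.isConj_iff.1 hconj
      exact h y
    have hfixK : ∀ τ ∈ K', ∀ v ∈ D', L τ v = v := by
      intro τ hτ
      induction hτ using Subgroup.closure_induction with
      | mem w hw =>
        obtain ⟨a, ha, hconj⟩ := Group.mem_conjugatesOfSet_iff.1 hw
        rw [Set.mem_singleton_iff] at ha
        subst ha
        obtain ⟨y, rfl⟩ := _root_.isConj_iff.1 hconj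
        exact hpfix _ k (by rw [conj_pow, hck, mul_one, mul_inv_cancel])
      | one => intro v _; rw [map_one]; rfl
      | mul a b _ _ iha ihb => intro v hv; rw [map_mul, MulAut.mul_apply, ihb v hv, iha v hv]
      | inv a _ iha =>
        intro v hv
        conv_lhs => rw [← iha v hv]
        rw [map_inv, MulAut.inv_apply_self]
    have hKp : IsPGroup p K' := by
      intro τ
      have hm : Lq ((τ : F.autGroup E) ^ p) = 1 := by
        obtain ⟨i, hi⟩ := Subgroup.mem_zpowers_iff.1 (show Lq (τ : F.autGroup E) ∈ _ from hle τ.2)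
        rw [map_pow, ← hi, ← zpow_natCast, ← zpow_mul, mul_comm, zpow_mul, zpow_natCast, hcp,
          one_zpow]
      have hK0 : ((τ : F.autGroup E) ^ p) ∈ K₀ := ⟨hm, hfixK _ (pow_mem τ.2 p)⟩
      obtain ⟨u, hu⟩ := outAut_ker hS hE (hK₀ _ hK0)
      obtain ⟨m, hm'⟩ := hEp u
      refine ⟨m + 1, Subtype.ext (Subtype.ext ?_)⟩
      rw [pow_succ', pow_mul, SubgroupClass.coe_pow, SubgroupClass.coe_pow, SubgroupClass.coe_pow,
        SubgroupClass.coe_pow, ← SubgroupClass.coe_pow (τ : F.autGroup E), ← hu, ← map_pow, hm',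
        map_one]
      rfl
    have h1 := (isRadical_iff_le hS hES).1 (IsEssential.isRadical hS hE)
      (Core.le_pCore hKp (Subgroup.subset_normalClosure rfl))
    refine hc1 (MulEquiv.ext fun v => ?_)
    obtain ⟨u, rfl⟩ := QuotientGroup.mk'_surjective D' v
    rw [QuotientGroup.mk'_apply, hLq, outAut_inn hS hES (Subgroup.mem_subgroupOf.1 h1)]
    rfl
  obtain ⟨-, -, -, htor⟩ := hTr.exists_elements hy
  obtain ⟨d, hd0, -, hdz, -, hdcl⟩ := htor (-1) (-1) (by simp)
  -- `d` fixes `D'` and centralizes `c`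
  have hdfix : ∀ v ∈ D', L d v = v := by
    suffices ∀ w, w ∈ Subgroup.closure {c, y * c * y⁻¹} → ∀ v ∈ D', L w v = v from this d hdcl
    clear! d
    intro w0 hw0
    induction hw0 using Subgroup.closure_induction with
    | mem w hw =>
      intro v hv
      rcases hw with rfl | rfl
      · exact hpfix _ k hck v hv
      · exact hpfix _ k (by rw [conj_pow, hck, mul_one, mul_inv_cancel]) v hv
    | one => intro v _; rw [map_one]; rfl
    | mul a b _ _ iha ihb => intro v hv; rw [map_mul, MulAut.mul_apply, ihb v hv, iha v hv]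
    | inv a _ iha =>
      intro v hv
      conv_lhs => rw [← iha v hv]
      rw [map_inv, MulAut.inv_apply_self]
  rw [neg_mul_neg, mul_one, zpow_one] at hdz
  have hcomm : L (d * c * d⁻¹ * c⁻¹) = 1 := hK₀ _
    ⟨by rw [map_mul Lq _ c⁻¹, hdz, ← map_mul, mul_inv_cancel, map_one], fun v hv => by
      have e1 : ∀ w ∈ D', L c⁻¹ w = w := fun w hw => by
        conv_lhs => rw [← hpfix c k hck w hw]
        rw [map_inv, MulAut.inv_apply_self]
      have e2 : ∀ w ∈ D', L d⁻¹ w = w := fun w hw => by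
        conv_lhs => rw [← hdfix w hw]
        rw [map_inv, MulAut.inv_apply_self]
      rw [map_mul, map_mul, map_mul, MulAut.mul_apply, MulAut.mul_apply, MulAut.mul_apply, e1 v hv,
        e2 v hv, hpfix c k hck v hv, hdfix v hv]⟩
  have hdc : ∀ w, L d (L c w) = L c (L d w) := fun w => by
    have h : L (d * c) = L (c * d) := by
      calc L (d * c) = L (d * c * d⁻¹ * c⁻¹ * (c * d)) := by
            rw [show d * c * d⁻¹ * c⁻¹ * (c * d) = d * c by group]
        _ = L (c * d) := by rw [map_mul, hcomm, one_mul]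
    rw [map_mul, map_mul] at h
    exact DFunLike.congr_fun h w
  intro v
  obtain ⟨u, hu⟩ : ∃ u, u = L c v * v⁻¹ := ⟨_, rfl⟩
  rw [← hu]
  obtain ⟨i, hi⟩ := Subgroup.mem_zpowers_iff.1 (himg (v : Q))
  have hu' : (u : Q) = a₀ ^ i := by rw [hi, hu, hLq]; rfl
  have hdu : u * L d u ∈ D' := by
    rw [← QuotientGroup.eq_one_iff, QuotientGroup.mk_mul, ← hLq, hu', map_zpow, hd0, zpow_neg_one,
      inv_zpow, mul_inv_cancel]
  have hw : L c u * u⁻¹ ∈ D' := by
    rw [← QuotientGroup.eq_one_iff, QuotientGroup.mk_mul, QuotientGroup.mk_inv, ← hLq, hu',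
      map_zpow, hfix, mul_inv_cancel]
  obtain ⟨δ, hδ⟩ : ∃ δ, δ = u * L d u := ⟨_, rfl⟩
  have e3 : L d u = u⁻¹ * δ := by rw [hδ, inv_mul_cancel_left]
  have e4 : L c u * u⁻¹ = (L c u * u⁻¹)⁻¹ := by
    calc L c u * u⁻¹ = L d (L c u * u⁻¹) := (hdfix _ hw).symm
      _ = L c (L d u) * (L d u)⁻¹ := by rw [map_mul, map_inv, hdc]
      _ = _ := by
        rw [e3, map_mul, map_inv, hpfix c k hck δ (hδ ▸ hdu), mul_inv_rev, inv_inv, mul_inv_rev, inv_inv]
        rw [mul_assoc, ← mul_assoc δ δ⁻¹, mul_inv_cancel, one_mul, mul_comm]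
  have e5 : (L c u * u⁻¹) ^ 2 = 1 := by rw [pow_two, mul_eq_one_iff_eq_inv]; exact e4
  have e6 : L c u * u⁻¹ = 1 := orderOf_eq_one_iff.1 (Nat.dvd_one.1 (by
    rw [← Nat.Coprime.gcd_eq_one ((Nat.coprime_primes hp' Nat.prime_two).2 hp2)]
    exact Nat.dvd_gcd (orderOf_dvd_of_pow_eq_one (hexp _)) (orderOf_dvd_of_pow_eq_one e5)))
  exact mul_inv_eq_one.1 e6

end CfsgLib.Fusion.RankThree
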