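import Cfsg.Agent.Lib.Fusion.MetacyclicTwo

/-!
A strongly closed metacyclic subgroup outside the dihedral, quaternion and semidihedral list is
normal, `p = 2`.
-/

set_option autoImplicit false

namespace CfsgLib.Fusion

open Cfsg Cfsg.FusionSystem
open scoped commutatorElement

universe u

theorem exists_sq_of_involution {n : ℕ} (hn : 2 ≤ n)
    (u : Multiplicative (ZMod (2 ^ n)) × Multiplicative (ZMod (2 ^ n))) (hu : u ^ 2 = 1) :
    ∃ w, w ^ 2 = u := by
  have key : ∀ a : ZMod (2 ^ n), a + a = 0 → ∃ b, b + b = a := by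
    intro a ha
    haveI : NeZero (2 ^ n) := ⟨pow_ne_zero _ two_ne_zero⟩
    have h1 : (2 ^ n) ∣ a.val + a.val := by
      rw [← ZMod.natCast_eq_zero_iff, Nat.cast_add, ZMod.natCast_zmod_val, ha]
    obtain ⟨c, hc⟩ := h1
    refine ⟨((2 ^ (n - 2) * c : ℕ) : ZMod (2 ^ n)), ?_⟩
    rw [← Nat.cast_add, show 2 ^ (n - 2) * c + 2 ^ (n - 2) * c = a.val by
      have e : 2 ^ n = 2 ^ (n - 2) * 4 := by
        rw [show (4 : ℕ) = 2 ^ 2 from rfl, ← pow_add]; congr 1; omega
      have : a.val + a.val = 4 * (2 ^ (n - 2) * c) := by rw [hc, e]; ring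
      omega, ZMod.natCast_zmod_val]
  obtain ⟨x, y⟩ := u
  rw [pow_two, Prod.mk_mul_mk, Prod.mk_eq_one] at hu
  obtain ⟨b, hb⟩ := key x.toAdd (congrArg Multiplicative.toAdd hu.1)
  obtain ⟨c, hc⟩ := key y.toAdd (congrArg Multiplicative.toAdd hu.2)
  refine ⟨(Multiplicative.ofAdd b, Multiplicative.ofAdd c), ?_⟩
  rw [pow_two, Prod.mk_mul_mk, ← ofAdd_add, ← ofAdd_add, hb, hc]
  rfl

variable {Ω : Type u} [Group Ω] {S : Subgroup Ω} {F : FusionSystem S}

/-- The automorphisms centralising the Frattini quotient form a `p`-group. -/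
theorem isPGroup_frattini_stabilizer {X : Type*} [Group X] [Finite X] {p : ℕ} [Fact p.Prime]
    (hX : IsPGroup p X) (A : Subgroup (MulAut X))
    (hA : ∀ e ∈ A, ∀ x : X, e x * x⁻¹ ∈ frattini X) : IsPGroup p A := by
  obtain ⟨n, hn⟩ := IsPGroup.iff_card.1 hX
  obtain ⟨r, hr⟩ : ∃ r, (frattini X).index = p ^ r := IsPGroup.iff_card.1 (hX.to_quotient _) |>.imp
    fun k hk => by rw [Subgroup.index_eq_card, hk]
  obtain ⟨k, -, hk⟩ := (Nat.dvd_prime_pow Fact.out).1
    (CfsgLib.ClassSizes.card_stabilizing_aut_dvd hn hr A hA)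
  exact IsPGroup.of_card hk

set_option maxHeartbeats 800000 in
theorem metacyclic_two_stronglyClosed_normal [Finite S] (hS : IsPGroup 2 S)
    (hF : F.IsSaturated 2) {P : Subgroup Ω} (hP : F.StronglyClosed P)
    (hm : Cfsg.IsMetacyclic P) (hlist : ¬ IsSmallList P) : F.IsNormal P := by
  classical
  haveI : Fact (Nat.Prime 2) := ⟨Nat.prime_two⟩
  have hPS := hP.1
  have := finite_le hPS
  have hP2 := hS.to_le hPS
  refine (isNormal_iff_stronglyClosed_le hS hF).2 ⟨hP, fun R hc hr => ?_⟩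
  by_contra hnle
  have hPN := StronglyClosed.normal_in hP
  have hRS := hc.1
  have := finite_le hRS
  have hfinA := finite_mulAut_of_le (S := S) hRS
  -- an element of `P` normalising `R` whose square lies in `R`
  obtain ⟨g₀, hg₀P, hg₀N, hg₀R⟩ : ∃ g ∈ P, g ∈ Subgroup.normalizer (R : Set Ω) ∧ g ∉ R := by
    have hle : R ⊔ P ≤ S := sup_le hRS hPS
    have := finite_le hle
    obtain ⟨g, hg, hgR⟩ := exists_mem_normalizerIn_not_mem (hS.to_le hle) (left_lt_sup.2 hnle)
    obtain ⟨hgRP, hgN⟩ := hg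
    have hgRP' : g ∈ ((R ⊔ P : Subgroup Ω) : Set Ω) := hgRP
    rw [Subgroup.coe_mul_of_left_le_normalizer_right R P (hRS.trans hPN)] at hgRP'
    obtain ⟨x, hx, q, hq, rfl⟩ := hgRP'
    refine ⟨q, hq, ?_, fun h => hgR (R.mul_mem hx h)⟩
    have := mul_mem (inv_mem (Subgroup.le_normalizer (H := R) hx)) hgN
    simpa using this
  obtain ⟨g, hgP, hgN, hgR, hg2R⟩ : ∃ g ∈ P, g ∈ Subgroup.normalizer (R : Set Ω) ∧ g ∉ R ∧
      g ^ 2 ∈ R := by
    have hex : ∃ k : ℕ, g₀ ^ 2 ^ k ∈ R := by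
      obtain ⟨t, ht⟩ := hP2 ⟨g₀, hg₀P⟩
      refine ⟨t, ?_⟩
      rw [show g₀ ^ 2 ^ t = 1 from congrArg Subtype.val ht]
      exact R.one_mem
    have hk0 : Nat.find hex ≠ 0 := fun h => hg₀R (by simpa [h] using Nat.find_spec hex)
    obtain ⟨k, hk⟩ := Nat.exists_eq_succ_of_ne_zero hk0
    refine ⟨g₀ ^ 2 ^ k, P.pow_mem hg₀P _, Subgroup.pow_mem _ hg₀N _,
      Nat.find_min hex (by omega), ?_⟩
    rw [← pow_mul, ← pow_succ, show k + 1 = Nat.find hex from hk.symm]
    exact Nat.find_spec hex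
  set A := F.autGroup R with hA
  let gn : normalizerIn S R := ⟨g, hPS hgP, hgN⟩
  have hgA : conjAut gn ∈ A := autInducedBy_le_autGroup hRS (conjAut_mem gn)
  -- restriction to `Q = R ⊓ P`
  set Q : Subgroup R := P.subgroupOf R with hQ
  have hinvQ : ∀ α ∈ A, Q.map α.toMonoidHom = Q := fun α hα => StronglyClosed.map_eq hP hRS hα
  let res : A →* MulAut Q :=
    { toFun := fun α => ((α : MulAut R).subgroupMap Q).trans (MulEquiv.subgroupCongr (hinvQ α α.2))
      map_one' := MulEquiv.ext fun x => Subtype.ext rfl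
      map_mul' := fun α β => MulEquiv.ext fun x => Subtype.ext rfl }
  have hres : ∀ (α : A) (x : Q), ((res α x : Q) : R) = (α : MulAut R) x := fun α x => rfl
  have hQ2 : IsPGroup 2 Q := (hS.to_le hRS).to_subgroup Q
  have hQm : Cfsg.IsMetacyclic Q := isMetacyclic_of_injective hm
    { toFun := fun x => ⟨((x : R) : Ω), x.2⟩, map_one' := rfl, map_mul' := fun _ _ => rfl }
    fun x y h => Subtype.ext (Subtype.ext (congrArg Subtype.val h :))
  -- the automorphisms centralising `R / Q`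
  let K1 : Subgroup A :=
    { carrier := {α | ∀ x : R, x⁻¹ * (α : MulAut R) x ∈ Q}
      one_mem' := fun x => by simp
      mul_mem' := fun {α β} hα hβ x => by
        have := Q.mul_mem (hβ x) (hα ((β : MulAut R) x))
        rwa [mul_assoc, mul_inv_cancel_left] at this
      inv_mem' := fun {α} hα x => by
        have := Q.inv_mem (hα ((α : MulAut R)⁻¹ x))
        rw [MulAut.apply_inv_self, mul_inv_rev, inv_inv] at this
        exact this }
  have hK1n : K1.Normal := by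
    refine ⟨fun a ha b x => ?_⟩
    show x⁻¹ * (b : MulAut R) ((a : MulAut R) ((b : MulAut R)⁻¹ x)) ∈ Q
    have h1 : (b : MulAut R) (((b : MulAut R)⁻¹ x)⁻¹ * (a : MulAut R) ((b : MulAut R)⁻¹ x)) ∈ Q :=
      (hinvQ b b.2).le ⟨_, ha _, rfl⟩
    rwa [map_mul, map_inv, MulAut.apply_inv_self] at h1
  let Φs : Subgroup (MulAut Q) :=
    { carrier := {β | ∀ y : Q, β y * y⁻¹ ∈ frattini Q}
      one_mem' := fun y => by simp
      mul_mem' := fun {α β} hα hβ y => by
        have := (frattini Q).mul_mem (hα (β y)) (hβ y)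
        rwa [mul_assoc, inv_mul_cancel_left] at this
      inv_mem' := fun {α} hα y => by
        have := (frattini Q).inv_mem (hα (α⁻¹ y))
        rwa [MulAut.apply_inv_self, mul_inv_rev, inv_inv] at this }
  have hΦn : Φs.Normal := by
    refine ⟨fun a ha b y => ?_⟩
    show b (a (b⁻¹ y)) * y⁻¹ ∈ frattini Q
    have h1 : b (a (b⁻¹ y) * (b⁻¹ y)⁻¹) ∈ frattini Q :=
      (Subgroup.characteristic_iff_map_eq.1 (inferInstance : (frattini Q).Characteristic) b).le
        ⟨_, ha _, rfl⟩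
    rwa [map_mul, map_inv, MulAut.apply_inv_self] at h1
  -- `K1` modulo its kernel on `Q`
  have hkey : ∀ (α : A), α ∈ K1 → (∃ j, res α ^ 2 ^ j = 1) → ∃ k, α ^ 2 ^ k = 1 := by
    intro α hα ⟨j, hj⟩
    set β := α ^ 2 ^ j with hβ
    have hβK : β ∈ K1 := K1.pow_mem hα _
    have hβQ : ∀ y : R, y ∈ Q → (β : MulAut R) y = y := fun y hy => by
      have h1 : res β = 1 := by rw [hβ, map_pow, hj]
      have := congrArg (fun e : MulAut Q => ((e ⟨y, hy⟩ : Q) : R)) h1
      exact this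
    obtain ⟨k, hk⟩ := exists_pow_eq_one_of_stabilizes (hS.to_le hRS)
      (![⊥, Q, ⊤] : Fin 3 → Subgroup R) rfl rfl (β : MulAut R) (by
        intro i y hy
        fin_cases i
        · rw [show y = 1 from Subgroup.mem_bot.1 hy, map_one]; exact one_mem _
        · show _ ∈ Q
          rw [hβQ y hy]; exact hy
        · trivial) (by
        intro i y hy
        fin_cases i
        · show _ ∈ (⊥ : Subgroup R)
          rw [hβQ y hy, inv_mul_cancel]; exact one_mem _
        · exact hβK y)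
    refine ⟨j + k, Subtype.ext ?_⟩
    rw [pow_add, pow_mul, ← hβ, SubgroupClass.coe_pow, hk]
    rfl
  set cg : A := ⟨conjAut gn, hgA⟩ with hcg
  have hcgK : cg ∈ K1 := fun x => by
    show ((x⁻¹ * conjAut gn x : R) : Ω) ∈ P
    rw [Subgroup.coe_mul, Subgroup.coe_inv, conjAut_apply]
    have h1 := conj_mem_of_mem_normalizer (hPN (hRS (R.inv_mem x.2))) hgP
    have := P.mul_mem h1 (P.inv_mem hgP)
    simpa [gn, mul_assoc] using this
  have hcgnot : ∀ K : Subgroup A, K.Normal → IsPGroup 2 K → cg ∉ K := fun K hKn hKp hmem => by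
    haveI := hKn
    exact hgR (mem_of_conjAut_inn hc gn
      ((isRadical_iff_le hS hRS).1 hr (Core.le_pCore hKp hmem)))
  -- `g` moves `Q` modulo its Frattini subgroup
  obtain ⟨y₀, hy₀⟩ : ∃ y : Q, res cg y * y⁻¹ ∉ frattini Q := by
    by_contra hne
    push Not at hne
    refine hcgnot (K1 ⊓ Φs.comap res) inferInstance (fun a => ?_) ⟨hcgK, hne⟩
    obtain ⟨j, hj⟩ := isPGroup_frattini_stabilizer hQ2 Φs (fun e he => he) ⟨res a, a.2.2⟩
    obtain ⟨k, hk⟩ := hkey a a.2.1 ⟨j, congrArg Subtype.val hj⟩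
    exact ⟨k, Subtype.ext hk⟩
  have hAut : ¬ IsPGroup 2 (MulAut Q) := fun h => hcgnot K1 hK1n (fun a => by
    obtain ⟨j, hj⟩ := h (res a)
    obtain ⟨k, hk⟩ := hkey a a.2 ⟨j, hj⟩
    exact ⟨k, Subtype.ext hk⟩) hcgK
  -- inside `P`
  set QP : Subgroup P := R.subgroupOf P with hQP
  let ι : QP ≃* Q :=
    { toFun := fun x => ⟨⟨((x : P) : Ω), x.2⟩, (x : P).2⟩
      invFun := fun x => ⟨⟨((x : R) : Ω), x.2⟩, (x : R).2⟩
      left_inv := fun x => rfl
      right_inv := fun x => rfl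
      map_mul' := fun x y => rfl }
  rcases CfsgLib.Techniques.metacyclic_two_aut hQ2 hQm hAut with ⟨⟨e⟩⟩ | ⟨n, ⟨e⟩⟩
  · exact hlist (isSmallList_of_quaternion hP2 hm (ι.trans e))
  have hab : ∀ u ∈ QP, ∀ w ∈ QP, u * w = w * u := fun u hu w hw =>
    congrArg Subtype.val ((ι.trans e).injective (a₁ := (⟨u, hu⟩ : QP) * ⟨w, hw⟩)
      (a₂ := ⟨w, hw⟩ * ⟨u, hu⟩) (by rw [map_mul, map_mul, mul_comm]))
  set gP : P := ⟨g, hgP⟩ with hgPdef
  have hgQ : ∀ u ∈ QP, gP * u * gP⁻¹ ∈ QP := fun u hu =>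
    Subgroup.mem_subgroupOf.2 (conj_mem_of_mem_normalizer hgN (Subgroup.mem_subgroupOf.1 hu))
  have hgout : gP ∉ QP := hgR
  have hg2 : gP ^ 2 ∈ QP := hg2R
  set v : P := ((ι.symm y₀ : QP) : P) with hv
  have hvQ : v ∈ QP := (ι.symm y₀).2
  have hmove : ∀ hmem : gP * v * gP⁻¹ * v⁻¹ ∈ QP,
      ι ⟨_, hmem⟩ = res cg y₀ * y₀⁻¹ := fun hmem => Subtype.ext (Subtype.ext rfl)
  have hwQ : gP * v * gP⁻¹ * v⁻¹ ∈ QP := QP.mul_mem (hgQ v hvQ) (QP.inv_mem hvQ)
  rcases lt_trichotomy n 1 with hn | rfl | hn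
  · obtain rfl : n = 0 := by omega
    refine hAut ?_
    have : Subsingleton (Multiplicative (ZMod (2 ^ 0))) := inferInstanceAs (Subsingleton (ZMod 1))
    have hsub : Subsingleton Q := e.toEquiv.subsingleton
    exact fun a => ⟨0, MulEquiv.ext fun x => Subsingleton.elim _ _⟩
  · refine hlist (isSmallList_of_four hP2 hm (Q := QP) (fun u hu => ?_) hgQ hg2 hvQ fun h => hy₀ ?_)
    · have h2 : ∀ a : Multiplicative (ZMod 2) × Multiplicative (ZMod 2), a ^ 2 = 1 := by
        decide +revert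
      exact congrArg Subtype.val ((ι.trans e).injective (a₁ := (⟨u, hu⟩ : QP) ^ 2) (a₂ := 1)
        (by rw [map_pow, map_one, h2]))
    · rw [← hmove hwQ]
      have : (⟨_, hwQ⟩ : QP) = 1 := Subtype.ext (show gP * v * gP⁻¹ * v⁻¹ = 1 by rw [h, mul_inv_cancel])
      rw [this, map_one]
      exact one_mem _
  · refine false_of_transvection hP2 hm (Q := QP) hab (fun u hu hu2 => ?_) hgQ hg2 hgout hvQ
      fun u hu h => hy₀ ?_
    · obtain ⟨w, hw⟩ := exists_sq_of_involution hn ((ι.trans e) ⟨u, hu⟩)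
        (by rw [← map_pow, ← map_one (ι.trans e)]; exact congrArg _ (Subtype.ext hu2))
      refine ⟨((ι.trans e).symm w : QP), SetLike.coe_mem _, ?_⟩
      rw [← SubgroupClass.coe_pow, ← map_pow, hw, MulEquiv.symm_apply_apply]
    · rw [← hmove hwQ, show (⟨_, hwQ⟩ : QP) = ⟨u, hu⟩ ^ 2 from Subtype.ext h.symm, map_pow]
      exact CfsgLib.Techniques.frattini_sq hQ2 _

theorem metacyclic_two_inner [Finite S] (hS : IsPGroup 2 S) (hF : F.IsSaturated 2)
    (hm : Cfsg.IsMetacyclic S) (hlist : ¬ IsSmallList S) (hAut : IsPGroup 2 (MulAut S))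
    (P : Subgroup Ω) : F.Hom P = (innerFusionSystem S).Hom P := by
  haveI : Fact (Nat.Prime 2) := ⟨Nat.prime_two⟩
  have hn := metacyclic_two_stronglyClosed_normal hS hF stronglyClosed_top hm hlist
  have := finite_mulAut_of_le (S := S) le_rfl
  obtain ⟨T, hT⟩ := IsSaturated.top_autGroup_sylow hS hF
  have htop := T.is_maximal' ((hAut.to_subgroup (F.autGroup S)).to_subgroup ⊤) le_top
  refine Set.Subset.antisymm (fun φ hφ => ?_) (innerFusionSystem_le F P)
  have hPS := hom_le hφ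
  obtain ⟨α, hα, hαv⟩ := IsNormal.exists_aut hn hPS hφ
  obtain ⟨g, hg⟩ : (α : MulAut S) ∈ Inn S := hT.le (htop.le (Subgroup.mem_top (⟨α, hα⟩ : F.autGroup S)))
  refine ⟨hPS, g, g.2, fun x => ?_⟩
  rw [← hαv x, ← hg]
  rfl

theorem homocyclic_two_to_pi {X : Type*} [Group X] {N : ℕ}
    (e : X ≃* Multiplicative (ZMod N) × Multiplicative (ZMod N)) :
    Nonempty (X ≃* Multiplicative (Fin 2 → ZMod N)) :=
  ⟨e.trans
    { toFun := fun q => Multiplicative.ofAdd ![q.1.toAdd, q.2.toAdd]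
      invFun := fun f => (Multiplicative.ofAdd (f.toAdd 0), Multiplicative.ofAdd (f.toAdd 1))
      left_inv := fun q => rfl
      right_inv := fun f => by
        refine congrArg Multiplicative.ofAdd (funext fun i => ?_)
        fin_cases i <;> rfl
      map_mul' := fun q r => by
        refine congrArg Multiplicative.ofAdd (funext fun i => ?_)
        fin_cases i <;> rfl }⟩

end CfsgLib.Fusion
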