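import Cfsg.Agent.Lib.Fusion.Centric
import Cfsg.Agent.Lib.Fusion.Normal
import Cfsg.Agent.Lib.Core.Cores

/-!
# The preimage of a normal `p`-subgroup of automorphisms of a normal centric subgroup
-/

set_option autoImplicit false

namespace CfsgLib.Fusion

open Cfsg Cfsg.FusionSystem

variable {Ω : Type*} [Group Ω] {S : Subgroup Ω} {F : FusionSystem S} {p : ℕ}

theorem IsNormal.fullyNormalized [Finite S] {Q : Subgroup Ω} (hQ : F.IsNormal Q) :
    F.IsFullyNormalized Q := by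
  refine ⟨hQ.1, fun R _ => ?_⟩
  rw [show normalizerIn S Q = S from le_antisymm (normalizerIn_le Q) (le_inf le_rfl (IsNormal.normal_in hQ))]
  exact Subgroup.card_le_of_le (normalizerIn_le R)

theorem IsFullyAutomized.le_autInducedBy [Finite S] [Fact p.Prime] {Q : Subgroup Ω}
    (hQ : F.IsFullyAutomized p Q) {K : Subgroup (MulAut Q)} (hKA : K ≤ F.autGroup Q)
    (hKn : ∀ α ∈ F.autGroup Q, ∀ κ ∈ K, α * κ * α⁻¹ ∈ K) (hKp : IsPGroup p K) :
    K ≤ autInducedBy S Q := by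
  obtain ⟨R, hR⟩ := hQ.2
  have := finite_mulAut_of_le (S := S) hQ.1
  have hn : (K.subgroupOf (F.autGroup Q)).Normal := ⟨fun a ha b => hKn _ b.2 _ ha⟩
  have hp : IsPGroup p (K.subgroupOf (F.autGroup Q)) :=
    hKp.of_equiv (Subgroup.subgroupOfEquivOfLe hKA).symm
  have hle : K.subgroupOf (F.autGroup Q) ≤ (R : Subgroup (F.autGroup Q)) :=
    (Core.le_pCore hp).trans (Core.pCore_le_sylow R)
  intro κ hκ
  have h1 := hle (x := ⟨κ, hKA hκ⟩) hκ
  rw [hR] at h1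
  exact h1

/-- Elements acting on a normal centric subgroup as members of a normal `p`-subgroup of the
automorphism group of that subgroup lie in the largest normal subgroup of the system. -/
theorem mem_core_of_centric [Finite S] [Fact p.Prime] (hS : IsPGroup p S) (hF : F.IsSaturated p)
    {Q : Subgroup Ω} (hQn : F.IsNormal Q) (hQc : F.IsCentric Q) (K : Subgroup (MulAut Q))
    (hKA : K ≤ F.autGroup Q) (hKn : ∀ α ∈ F.autGroup Q, ∀ κ ∈ K, α * κ * α⁻¹ ∈ K)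
    (hKp : IsPGroup p K) {x : Ω} (hx : x ∈ S)
    (hxK : ∃ κ ∈ K, ∀ q : Q, ((κ q : Q) : Ω) = x * (q : Ω) * x⁻¹) : x ∈ F.core := by
  have hfn := IsNormal.fullyNormalized hQn
  have hKS : K ≤ autInducedBy S Q :=
    IsFullyAutomized.le_autInducedBy (IsSaturated.fullyAutomized hS hF hfn) hKA hKn hKp
  let U : Subgroup Ω :=
    { carrier := {s | s ∈ S ∧ ∃ κ ∈ K, ∀ q : Q, ((κ q : Q) : Ω) = s * (q : Ω) * s⁻¹}
      one_mem' := ⟨S.one_mem, 1, K.one_mem, fun q => by simp⟩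
      mul_mem' := by
        rintro a b ⟨haS, κ, hκ, ha⟩ ⟨hbS, μ, hμ, hb⟩
        refine ⟨S.mul_mem haS hbS, κ * μ, K.mul_mem hκ hμ, fun q => ?_⟩
        rw [MulAut.mul_apply, ha, hb]
        group
      inv_mem' := by
        rintro a ⟨haS, κ, hκ, ha⟩
        refine ⟨S.inv_mem haS, κ⁻¹, K.inv_mem hκ, fun q => ?_⟩
        have h := ha (κ⁻¹ q)
        rw [MulAut.apply_inv_self] at h
        rw [h]
        group }
  have hzU : ∀ z : Ω, z ∈ S → z ∈ Subgroup.centralizer (Q : Set Ω) → z ∈ U := fun z hz hzc =>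
    ⟨hz, 1, K.one_mem, fun q => by
      rw [MulAut.one_apply, ← Subgroup.mem_centralizer_iff.1 hzc q q.2, mul_inv_cancel_right]⟩
  have hUS : U ≤ S := fun s hs => hs.1
  suffices hU : F.IsNormal U from le_core hU ⟨hx, hxK⟩
  refine ⟨hUS, fun P φ hφ => ?_⟩
  obtain ⟨ψ, hψ, hψP, hψQ⟩ := hQn.2 P φ hφ
  have hrange : (ψ.comp (Subgroup.inclusion (le_sup_right : Q ≤ P ⊔ Q))).range = Q := by
    rw [range_restrict]; exact hψQ
  obtain ⟨α, hα, hαv⟩ := exists_iso (restrict_mem hψ (le_sup_right : Q ≤ P ⊔ Q)) hrange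
  have hαA : (α : MulAut Q) ∈ F.autGroup Q := (mem_autGroup_iff_isoIn hQn.1).2 hα
  obtain ⟨-, hrec⟩ := IsSaturated.receptive hS hF (IsSaturated.fullyCentralized hS hF hfn)
  obtain ⟨χ, hχ, hχQ⟩ := hrec Q (isoHom α) hα.mem (isoHom_range α)
  have hPQN : P ⊔ Q ≤ extender S Q (isoHom α) :=
    le_extender_of_extends hψ le_sup_right ((hom_le hψ).trans (IsNormal.normal_in hQn))
      fun q => (hαv q).symm
  -- elements of `U` extend, and their images are in `U`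
  have hUN : U ≤ extender S Q (isoHom α) := by
    rintro s ⟨hsS, κ, hκ, hs⟩
    obtain ⟨h, hh, hv⟩ := mem_autInducedBy_iff.1 (hKS (hKn _ hαA κ hκ))
    refine mem_extender_iff.2 ⟨hsS, IsNormal.normal_in hQn hsS, h, hh, fun q hq => ?_⟩
    rw [show (⟨s * q * s⁻¹, hq⟩ : Q) = κ q from Subtype.ext (hs q).symm]
    have := hv (α q)
    simpa [MulAut.mul_apply] using this
  have hRN : P ⊔ Q ⊔ U ≤ extender S Q (isoHom α) := sup_le hPQN hUN
  have hRS : P ⊔ Q ⊔ U ≤ S := hRN.trans extender_le_sup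
  have hagree : ∀ y : ↥(P ⊔ Q), (y : Ω) ∈ Q →
      χ.comp (Subgroup.inclusion hPQN) y = ψ y := fun y hy => by
    show χ ⟨(y : Ω), hPQN y.2⟩ = ψ y
    rw [hχQ (y : Ω) hy (hPQN y.2), isoHom_apply, hαv]
    rfl
  obtain ⟨z, -, hzc, hzy⟩ := maps_agree hS hF (le_sup_right : Q ≤ P ⊔ Q) hQc
    (restrict_mem hχ hPQN) hψ hagree
  let w : ↥(P ⊔ Q ⊔ U) := ⟨(z : Ω), (le_sup_left : P ⊔ Q ≤ P ⊔ Q ⊔ U) z.2⟩
  have hwU : (w : Ω) ∈ U := hzU _ (hom_le hψ z.2) hzc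
  let χ' : ↥(P ⊔ Q ⊔ U) →* Ω :=
    (χ.comp (Subgroup.inclusion hRN)).comp (MulAut.conj w).toMonoidHom
  have hχ' : χ' ∈ F.Hom (P ⊔ Q ⊔ U) :=
    comp_mem' (F.conj_mem hRS (hRS w.2)) (restrict_mem hχ hRN) (fun y => (w * y * w⁻¹).2)
      fun y => rfl
  have hχU : ∀ y : ↥(P ⊔ Q ⊔ U), (y : Ω) ∈ U → χ' y ∈ U := by
    intro y hy
    have hy' : ((w * y * w⁻¹ : ↥(P ⊔ Q ⊔ U)) : Ω) ∈ U :=
      U.mul_mem (U.mul_mem hwU hy) (U.inv_mem hwU)
    obtain ⟨-, κ, hκ, hκv⟩ := hy'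
    set y' := Subgroup.inclusion hRN (w * y * w⁻¹) with hy'def
    refine ⟨hom_apply_mem hχ _, α * κ * (α : MulAut Q)⁻¹, hKn _ hαA κ hκ, fun q => ?_⟩
    have hq0 := hRN ((le_sup_left : P ⊔ Q ≤ P ⊔ Q ⊔ U)
      ((le_sup_right : Q ≤ P ⊔ Q) ((α : MulAut Q)⁻¹ q).2))
    have h1 : χ ⟨_, hq0⟩ = (q : Ω) := by
      rw [hχQ _ ((α : MulAut Q)⁻¹ q).2 hq0, isoHom_apply]
      exact congrArg Subtype.val (MulAut.apply_inv_self Q α q)
    have h2 : χ (y' * ⟨_, hq0⟩ * y'⁻¹) = ((α (κ ((α : MulAut Q)⁻¹ q)) : Q) : Ω) := by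
      have hmem : ((y' * ⟨_, hq0⟩ * y'⁻¹ : ↥(extender S Q (isoHom α))) : Ω) ∈ Q := by
        have h := (κ ((α : MulAut Q)⁻¹ q)).2
        rwa [hκv] at h
      rw [hχQ _ hmem (y' * ⟨_, hq0⟩ * y'⁻¹).2, isoHom_apply]
      congr 1
      exact congrArg α (Subtype.ext (hκv _).symm)
    rw [MulAut.mul_apply, MulAut.mul_apply, ← h2, map_mul, map_mul, map_inv, h1]
    rfl
  have hPU : P ⊔ U ≤ P ⊔ Q ⊔ U := sup_le (le_sup_left.trans le_sup_left) le_sup_right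
  refine ⟨χ'.comp (Subgroup.inclusion hPU), restrict_mem hχ' hPU, fun y => ?_, ?_⟩
  · have h := hzy (Subgroup.inclusion (le_sup_left : P ≤ P ⊔ Q) y)
    rw [← hψP, h]
    rfl
  · have : Finite U := finite_le hUS
    refine Subgroup.eq_of_le_of_card_ge ?_ ?_
    · rintro _ ⟨y, hy, rfl⟩
      exact hχU _ hy
    · exact (card_img (φ := χ'.comp (Subgroup.inclusion hPU))
        ((F.injective_of_mem (restrict_mem hχ' hPU))) le_sup_right).ge

end CfsgLib.Fusion
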