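import Cfsg.Agent.Lib.Fusion.Normal
import Cfsg.Agent.Lib.Fusion.NormalCriterion
import Cfsg.Agent.Lib.Transfer.PResidual

/-!
# The focal subgroup is the hyperfocal subgroup times the derived subgroup
-/

set_option autoImplicit false

namespace CfsgLib.Fusion

open Cfsg Cfsg.FusionSystem

variable {Ω : Type*} [Group Ω] {S : Subgroup Ω} {F : FusionSystem S} {p : ℕ}

/-- The maps of `F` moving no element out of its coset modulo a `T ≥ S'`. -/
def cosetSystem (F : FusionSystem S) (T : Subgroup Ω) (hd : ⁅S, S⁆ ≤ T) : FusionSystem S where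
  Hom P := {φ | φ ∈ F.Hom P ∧ ∀ x : P, (x : Ω)⁻¹ * φ x ∈ T}
  le_of_mem h := F.le_of_mem h.1
  injective_of_mem h := F.injective_of_mem h.1
  conj_mem {P g} hP hg := ⟨F.conj_mem hP hg, fun x => by
    have h := hd (Subgroup.commutator_mem_commutator (S.inv_mem (hP x.2)) hg)
    show (x : Ω)⁻¹ * (g * (x : Ω) * g⁻¹) ∈ T
    rw [commutatorElement_def, inv_inv] at h
    simpa [mul_assoc] using h⟩
  comp_mem := by
    rintro P Q φ ψ ⟨hφ, hv⟩ ⟨hψ, hw⟩ h
    refine ⟨F.comp_mem hφ hψ h, fun x => ?_⟩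
    have := T.mul_mem (hv x) (hw ⟨φ x, h x⟩)
    rwa [mul_assoc, mul_inv_cancel_left] at this
  inv_mem := by
    rintro P φ ⟨hφ, hv⟩
    obtain ⟨ψ, hψ, hψv⟩ := F.inv_mem hφ
    refine ⟨ψ, ⟨hψ, ?_⟩, hψv⟩
    rintro ⟨_, x, rfl⟩
    show (φ x)⁻¹ * ψ ⟨φ x, ⟨x, rfl⟩⟩ ∈ T
    rw [hψv x]
    simpa [mul_inv_rev] using T.inv_mem (hv x)

theorem focal_eq_hyperfocal_sup [Fact p.Prime] [Finite S] (hS : IsPGroup p S)
    (hF : F.IsSaturated p) :
    F.focalSubgroup = F.hyperfocalSubgroup p ⊔ ⁅S, S⁆ := by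
  refine le_antisymm ?_ (sup_le ?_ ?_)
  · have hle : F ≤ cosetSystem F (F.hyperfocalSubgroup p ⊔ ⁅S, S⁆) le_sup_right := by
      refine alperin hS hF _ fun P hP α hα => ?_
      have hPn : F.IsFullyNormalized P := by
        rcases hP with rfl | h
        · exact isFullyNormalized_self
        · exact h.2.1
      have hPS := hPn.1
      have := finite_mulAut_of_le (S := S) hPS
      obtain ⟨R, hR⟩ := (IsSaturated.fullyAutomized hS hF hPn).2
      obtain ⟨a, ha, k, hk, hak⟩ := Transfer.exists_mul_mem_pResidual R (⟨α, hα⟩ : F.autGroup P)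
      rw [hR] at ha
      obtain ⟨g, hg, hgv⟩ := mem_autInducedBy_iff.1 (Subgroup.mem_subgroupOf.1 ha)
      refine (mem_autGroup_iff hPS).2 ⟨(mem_autGroup_iff hPS).1 hα, fun x => ?_⟩
      set y : P := (k : MulAut P) x with hy
      have h1 : (x : Ω)⁻¹ * (y : Ω) ∈ F.hyperfocalSubgroup p ⊔ ⁅S, S⁆ :=
        Subgroup.mem_sup_left (Subgroup.subset_closure ⟨P, k, x, hPS, hk, rfl⟩)
      have h2 : (y : Ω)⁻¹ * (g * (y : Ω) * g⁻¹) ∈ F.hyperfocalSubgroup p ⊔ ⁅S, S⁆ := by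
        refine Subgroup.mem_sup_right ?_
        have h := Subgroup.commutator_mem_commutator (S.inv_mem (hPS y.2)) hg
        rw [commutatorElement_def, inv_inv] at h
        simpa [mul_assoc] using h
      have h3 : ((α x : P) : Ω) = g * (y : Ω) * g⁻¹ := by
        rw [← hgv y, hy]
        exact congrArg (fun z : MulAut P => ((z x : P) : Ω)) (congrArg Subtype.val hak)
      show (x : Ω)⁻¹ * ((α x : P) : Ω) ∈ _
      rw [h3, show (x : Ω)⁻¹ * (g * (y : Ω) * g⁻¹) = (x : Ω)⁻¹ * (y : Ω) * ((y : Ω)⁻¹ * (g * (y : Ω) * g⁻¹)) by group]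
      exact mul_mem h1 h2
    rw [FusionSystem.focalSubgroup, Subgroup.closure_le]
    rintro _ ⟨P, φ, x, hφ, rfl⟩
    exact (hle P hφ).2 x
  · rw [FusionSystem.hyperfocalSubgroup, Subgroup.closure_le]
    rintro _ ⟨P, α, x, hP, -, rfl⟩
    exact Subgroup.subset_closure ⟨P, _, x, (mem_autGroup_iff hP).1 α.2, rfl⟩
  · rw [Subgroup.commutator_le]
    intro a ha b hb
    refine Subgroup.subset_closure ⟨S, conjHom S b, ⟨a⁻¹, S.inv_mem ha⟩, F.conj_mem le_rfl hb, ?_⟩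
    show a * b * a⁻¹ * b⁻¹ = (a⁻¹)⁻¹ * (b * a⁻¹ * b⁻¹)
    group

end CfsgLib.Fusion
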