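import Cfsg.Agent.Lib.Fusion.CenterPowers
import Cfsg.Agent.Lib.Fusion.Focal
import Cfsg.Agent.Lib.Fusion.NormalCriterion
import Cfsg.Agent.Lib.PGroups.Transvections
import Cfsg.Agent.Lib.PGroups.CenterIndexSquare

/-!
# Fusion systems over groups with centre of index `p²`

Essential subgroups and their automisers.
-/

set_option autoImplicit false

namespace CfsgLib.Fusion

open Cfsg Cfsg.FusionSystem
open scoped commutatorElement

variable {Ω : Type*} [Group Ω] {S : Subgroup Ω} {F : FusionSystem S} {p : ℕ}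

theorem centerOf_le (S : Subgroup Ω) : centerOf S ≤ S := inf_le_left

theorem mem_centerOf_iff (s : S) : (s : Ω) ∈ centerOf S ↔ s ∈ Subgroup.center S := by
  rw [Subgroup.mem_center_iff]
  constructor
  · exact fun h g => Subtype.ext (centerOf_comm h g.2)
  · exact fun h => ⟨s.2, Subgroup.mem_centralizer_iff.2 fun g hg =>
      congrArg Subtype.val (h ⟨g, hg⟩)⟩

/-- The data of a nonabelian group with centre of index `p²`. -/
structure CenterSquare (S : Subgroup Ω) (p : ℕ) (z : Ω) : Prop where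
  mem : z ∈ centerOf S
  order : orderOf z = p
  comm : ∀ a ∈ S, ∀ b ∈ S, ⁅a, b⁆ ∈ Subgroup.zpowers z
  pow : ∀ a ∈ S, a ^ p ∈ centerOf S
  span : ∀ a ∈ S, ∀ b ∈ S, a * b ≠ b * a → ∀ g ∈ S, ∃ c ∈ centerOf S, ∃ j k : ℕ,
    g = c * a ^ j * b ^ k
  nonab : ∃ a ∈ S, ∃ b ∈ S, a * b ≠ b * a

theorem exists_centerSquare [Fact p.Prime] [Finite S] (hS : IsPGroup p S)
    (hna : ¬ IsMulCommutative S) (hidx : (Subgroup.center S).index ≤ p ^ 2) :
    ∃ z : Ω, CenterSquare S p z := by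
  obtain ⟨z, hz, hzc, hcm, hpow, hspan⟩ := PGroups.center_square_facts hS hna hidx
  refine ⟨z, (mem_centerOf_iff z).2 hzc, by rw [Subgroup.orderOf_coe, hz], fun a ha b hb => ?_,
    fun a ha => ?_, fun a ha b hb hab g hg => ?_, ?_⟩
  · obtain ⟨k, hk⟩ := hcm ⟨a, ha⟩ ⟨b, hb⟩
    exact ⟨k, congrArg Subtype.val hk⟩
  · exact (mem_centerOf_iff (⟨a, ha⟩ ^ p : S)).2 (hpow ⟨a, ha⟩)
  · obtain ⟨c, hc, j, k, h⟩ := hspan ⟨a, ha⟩ ⟨b, hb⟩ (fun h => hab (congrArg Subtype.val h.eq)) ⟨g, hg⟩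
    exact ⟨c, (mem_centerOf_iff c).2 hc, j, k, by simpa using congrArg Subtype.val h⟩
  · by_contra h
    push Not at h
    exact hna ⟨⟨fun a b => Subtype.ext (h a a.2 b b.2)⟩⟩

variable {z : Ω}

theorem CenterSquare.pow_eq_one (hz : CenterSquare S p z) : z ^ p = 1 := by
  rw [← hz.order, pow_orderOf_eq_one]

theorem CenterSquare.ne_one [hp : Fact p.Prime] (hz : CenterSquare S p z) : z ≠ 1 := fun h =>
  hp.out.one_lt.ne (by rw [← hz.order, h, orderOf_one])

theorem CenterSquare.mem_S (hz : CenterSquare S p z) : z ∈ S := centerOf_le S hz.mem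

theorem CenterSquare.conj [Finite S] (hz : CenterSquare S p z) {a b : Ω} (ha : a ∈ S) (hb : b ∈ S) :
    ∃ i : ℕ, a * b * a⁻¹ = b * z ^ i := by
  have := finite_le (Subgroup.zpowers_le.2 hz.mem_S : Subgroup.zpowers z ≤ S)
  have hf : IsOfFinOrder z := by
    rw [show z = ((⟨z, hz.mem_S⟩ : S) : Ω) from rfl, Submonoid.isOfFinOrder_coe]
    exact isOfFinOrder_of_finite (⟨z, hz.mem_S⟩ : S)
  obtain ⟨i, hi⟩ := hf.mem_powers_iff_mem_zpowers.2 (hz.comm _ (S.inv_mem hb) a ha)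
  exact ⟨i, by rw [show z ^ i = ⁅b⁻¹, a⁆ from hi, commutatorElement_def]; group⟩

/-- `S` itself is never essential. -/
theorem isEssential_ne_self [Fact p.Prime] [Finite S] (hS : IsPGroup p S) (hF : F.IsSaturated p)
    {P : Subgroup Ω} (hP : F.IsEssential p P) : P ≠ S := by
  intro h
  subst h
  obtain ⟨-, -, hN, E, hE⟩ := hP
  have := finite_mulAut_of_le (S := P) le_rfl
  obtain ⟨-, hd, -⟩ := LocalEven.stronglyPEmbedded_iff.1 hE
  obtain ⟨R, hR⟩ := IsSaturated.top_autGroup_sylow hS hF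
  refine R.not_dvd_index ?_
  rw [hR]
  exact hd.trans (Subgroup.card_subgroup_dvd_card E |>.trans
    (by rw [← Subgroup.index_eq_card]))

theorem ess_facts [Fact p.Prime] [Finite S] (hS : IsPGroup p S) (hF : F.IsSaturated p)
    (hz : CenterSquare S p z) {E : Subgroup Ω} (hE : F.IsEssential p E) :
    centerOf S ≤ E ∧ (∀ a ∈ E, ∀ b ∈ E, a * b = b * a) ∧ (∃ x ∈ S, x ∉ E) ∧
      ∀ x ∈ S, x ∉ E → ∃ e ∈ E, e * x ≠ x * e ∧
        (∀ g ∈ E, x * g = g * x → g ∈ centerOf S) ∧ (∀ g ∈ S, g * e = e * g → g ∈ E) := by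
  have hES : E ≤ S := hE.1.1
  have hp' : p.Prime := Fact.out
  have hCE : centralizerIn S E ≤ E := hE.1.2 E (isConj_refl hES)
  have hZE : centerOf S ≤ E := fun c hc => hCE (mem_centralizerIn.2
    ⟨hc.1, fun y hy => centerOf_comm hc (hES hy)⟩)
  obtain ⟨x₀, hx₀, hx₀E⟩ : ∃ x ∈ S, x ∉ E := by
    by_contra h
    push Not at h
    exact isEssential_ne_self hS hF hE (le_antisymm hES h)
  have hab : ∀ a ∈ E, ∀ b ∈ E, a * b = b * a := by
    intro a ha b hb
    by_contra h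
    obtain ⟨c, hc, j, k, hg⟩ := hz.span a (hES ha) b (hES hb) h x₀ hx₀
    exact hx₀E (hg ▸ E.mul_mem (E.mul_mem (hZE hc) (E.pow_mem ha j)) (E.pow_mem hb k))
  refine ⟨hZE, hab, ⟨x₀, hx₀, hx₀E⟩, fun x hx hxE => ?_⟩
  obtain ⟨e, he, hex⟩ : ∃ e ∈ E, e * x ≠ x * e := by
    by_contra h
    push Not at h
    exact hxE (hCE (mem_centralizerIn.2 ⟨hx, h⟩))
  have root : ∀ (v w : Ω) (k : ℕ), v ∈ S → w ∈ S → ¬ p ∣ k → w * v ^ k = v ^ k * w →
      w * v = v * w := by
    intro v w k hv hw hk h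
    obtain ⟨m, -, hm⟩ := Nat.exists_mul_mod_eq_one_of_coprime
      (hp'.coprime_iff_not_dvd.2 hk).symm hp'.one_lt
    have h1 : Commute w (v ^ (k * m)) := by rw [pow_mul]; exact Commute.pow_right h m
    have h2 : Commute w ((v ^ p) ^ (k * m / p)) :=
      Commute.pow_right (centerOf_comm (hz.pow v hv) hw) _
    have h3 : v = ((v ^ p) ^ (k * m / p))⁻¹ * v ^ (k * m) := by
      conv_rhs => arg 2; rw [← Nat.div_add_mod (k * m) p, hm, pow_add, pow_mul, pow_one]
      rw [inv_mul_cancel_left]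
    rw [h3]
    exact (h2.inv_right.mul_right h1).eq
  refine ⟨e, he, hex, fun g hg hxg => ?_, fun g hg hge => ?_⟩
  · refine ⟨hES hg, Subgroup.mem_centralizer_iff.2 fun y hy => ?_⟩
    obtain ⟨c, hc, j, k, rfl⟩ := hz.span e (hES he) x hx hex y hy
    have h1 : Commute g c := centerOf_comm hc (hES hg)
    have h2 : Commute g e := hab g hg e he
    exact ((h1.mul_right (h2.pow_right j)).mul_right
      ((show Commute g x from hxg.symm).pow_right k)).eq.symm
  · obtain ⟨c, hc, j, k, hgk⟩ := hz.span e (hES he) x hx hex g hg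
    by_cases hk : p ∣ k
    · obtain ⟨q, rfl⟩ := hk
      rw [hgk, pow_mul]
      exact E.mul_mem (E.mul_mem (hZE hc) (E.pow_mem he j)) (E.pow_mem (hZE (hz.pow x hx)) q)
    · refine absurd (root x e k hx (hES he) hk ?_) hex
      have h1 : Commute e (c * e ^ j) :=
        (centerOf_comm hc (hES he) : e * c = c * e) |> fun h => Commute.mul_right h
          (Commute.self_pow e j)
      have h2 : Commute e ((c * e ^ j)⁻¹ * g) := h1.inv_right.mul_right hge.symm
      rw [hgk, inv_mul_cancel_left] at h2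
      exact h2.eq

/-- The action on an essential subgroup. -/
theorem ess_action [Fact p.Prime] [Finite S] (hS : IsPGroup p S) (hF : F.IsSaturated p)
    (hz : CenterSquare S p z) {E : Subgroup Ω} (hE : F.IsEssential p E) {x : Ω} (hx : x ∈ S)
    (hxE : x ∉ E) :
    ∃ (u : MulAut E) (zE : E), (zE : Ω) = z ∧ (∀ a b : E, a * b = b * a) ∧ u ∈ F.autGroup E ∧
      (∀ a : E, ((u a : E) : Ω) = x * (a : Ω) * x⁻¹) ∧ (∀ a, ∃ i : ℕ, u a = a * zE ^ i) ∧
      u zE = zE ∧ zE ^ p = 1 ∧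
      (∀ H : Subgroup (MulAut E), H ≤ F.autGroup E → IsPGroup p H → u ∈ H →
        H ≤ Subgroup.zpowers u) ∧
      (∀ a : E, u a = a ↔ (a : Ω) ∈ centerOf S) ∧
      (∃ γ ∈ F.autGroup E, γ * u * γ⁻¹ ∉ Subgroup.zpowers u) ∧
      ∀ δ ∈ F.autGroup E, δ * u = u * δ → ∃ σ ∈ F.autGroup S,
        ∀ a : E, ((σ ⟨a, hE.1.1 a.2⟩ : S) : Ω) = ((δ a : E) : Ω) := by
  obtain ⟨hZE, hab, -, hx'⟩ := ess_facts hS hF hz hE
  obtain ⟨e₀, he₀, hex, hfixC, -⟩ := hx' x hx hxE
  have hES : E ≤ S := hE.1.1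
  have := finite_mulAut_of_le (S := S) hES
  have := finite_le hES
  have habE : ∀ a b : E, a * b = b * a := fun a b => Subtype.ext (hab a a.2 b b.2)
  have hSN : S ≤ Subgroup.normalizer (E : Set Ω) := by
    rw [Subgroup.le_normalizer_iff]
    intro g hg a ha
    obtain ⟨i, hi⟩ := hz.conj hg (hES ha)
    rw [hi]
    exact E.mul_mem ha (E.pow_mem (hZE hz.mem) i)
  set u : MulAut E := conjAut (⟨x, hx, hSN hx⟩ : normalizerIn S E) with hu
  have huval : ∀ a : E, ((u a : E) : Ω) = x * (a : Ω) * x⁻¹ := fun a => rfl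
  have huG : u ∈ F.autGroup E := autInducedBy_le_autGroup hES (conjAut_mem _)
  let zE : E := ⟨z, hZE hz.mem⟩
  have humove : ∀ a : E, ∃ i : ℕ, u a = a * zE ^ i := fun a => by
    obtain ⟨i, hi⟩ := hz.conj hx (hES a.2)
    exact ⟨i, Subtype.ext (by rw [huval, hi]; rfl)⟩
  have huz : u zE = zE := Subtype.ext (by
    rw [huval]
    show x * z * x⁻¹ = z
    rw [centerOf_comm hz.mem hx, mul_inv_cancel_right])
  have hfix : ∀ a : E, u a = a ↔ (a : Ω) ∈ centerOf S := fun a => by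
    constructor
    · intro h
      exact hfixC a a.2 (mul_inv_eq_iff_eq_mul.1 ((huval a).symm.trans (congrArg Subtype.val h)))
    · intro h
      refine Subtype.ext ?_
      rw [huval, centerOf_comm h hx, mul_inv_cancel_right]
  -- the automiser of `S` is generated by `u`
  have hgen : ∀ ψ ∈ autInducedBy S E, ψ ∈ Subgroup.zpowers u := by
    intro ψ hψ
    obtain ⟨g, hg, hψg⟩ := mem_autInducedBy_iff.1 hψ
    obtain ⟨c, hc, j, k, rfl⟩ := hz.span e₀ (hES he₀) x hx hex g hg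
    refine ⟨k, ?_⟩
    show u ^ (k : ℤ) = ψ
    rw [zpow_natCast]
    refine MulEquiv.ext fun a => Subtype.ext ?_
    have hk : ∀ n : ℕ, (((u ^ n) a : E) : Ω) = x ^ n * (a : Ω) * (x ^ n)⁻¹ := by
      intro n
      induction n with
      | zero => simp
      | succ n ih => rw [pow_succ', MulAut.mul_apply, huval, ih, pow_succ' x]; group
    rw [hψg, hk]
    have hb : x ^ k * (a : Ω) * (x ^ k)⁻¹ ∈ E := hk k ▸ ((u ^ k) a).2
    set b := x ^ k * (a : Ω) * (x ^ k)⁻¹ with hbd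
    have hce : Commute (c * e₀ ^ j) b :=
      (show Commute c b from (centerOf_comm hc (hES hb)).symm).mul_left
        ((show Commute e₀ b from hab e₀ he₀ b hb).pow_left j)
    calc b = c * e₀ ^ j * b * (c * e₀ ^ j)⁻¹ := by rw [hce.eq, mul_inv_cancel_right]
      _ = _ := by rw [hbd]; group
  obtain ⟨R, hR⟩ := (IsSaturated.fullyAutomized hS hF hE.2.1).2
  have hmax : ∀ H : Subgroup (MulAut E), H ≤ F.autGroup E → IsPGroup p H → u ∈ H →
      H ≤ Subgroup.zpowers u := by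
    intro H hH hHp huH h hh
    refine hgen h ?_
    have hle : (R : Subgroup (F.autGroup E)) ≤ H.subgroupOf (F.autGroup E) := by
      rw [hR]
      intro ψ hψ
      exact (Subgroup.zpowers_le.2 huH) (hgen ψ hψ)
    have heq := R.is_maximal' (hHp.comap_of_injective (F.autGroup E).subtype
      (Subgroup.subtype_injective _)) hle
    have : (⟨h, hH hh⟩ : F.autGroup E) ∈ (R : Subgroup (F.autGroup E)) := by
      rw [← heq]; exact hh
    rw [hR] at this
    exact this
  have hγ : ∃ γ ∈ F.autGroup E, γ * u * γ⁻¹ ∉ Subgroup.zpowers u := by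
    by_contra h
    push Not at h
    set N := (Subgroup.zpowers u).subgroupOf (F.autGroup E) with hNd
    have hN : N.Normal := ⟨fun n hn g => by
      obtain ⟨k, hk⟩ := (Subgroup.mem_subgroupOf.1 hn : (n : MulAut E) ∈ Subgroup.zpowers u)
      refine Subgroup.mem_subgroupOf.2 ?_
      rw [Subgroup.coe_mul, Subgroup.coe_mul, Subgroup.coe_inv, ← hk]
      simp only
      rw [← conj_zpow]
      exact Subgroup.zpow_mem _ (h g g.2) k⟩
    have hNp : IsPGroup p N :=
      ((isPGroup_autInducedBy (P := E) hS).to_le (Subgroup.zpowers_le.2 (conjAut_mem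
        (⟨x, hx, hSN hx⟩ : normalizerIn S E)))).comap_of_injective (F.autGroup E).subtype
        (Subgroup.subtype_injective _)
    have hin := (isRadical_iff_le hS hES).1 (IsEssential.isRadical hS hE) (Core.le_pCore hNp
      (show (⟨u, huG⟩ : F.autGroup E) ∈ N from Subgroup.mem_zpowers u))
    exact hxE (mem_of_conjAut_inn hE.1 (⟨x, hx, hSN hx⟩ : normalizerIn S E) hin)
  refine ⟨u, zE, rfl, habE, huG, huval, humove, huz, Subtype.ext hz.pow_eq_one, hmax, hfix, hγ,
    fun δ hδ hcm => ?_⟩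
  -- extension
  have hrec := IsSaturated.receptive hS hF (IsSaturated.fullyCentralized hS hF hE.2.1)
  have hiso := (mem_autGroup_iff_isoIn (F := F) hES).1 hδ
  have hext : S ≤ extender S E (isoHom (δ : E ≃* E)) := by
    intro g hg
    obtain ⟨c, hc, j, k, rfl⟩ := hz.span e₀ (hES he₀) x hx hex g hg
    have hEle := le_extender (φ := isoHom (δ : E ≃* E)) hES fun a => hom_apply_mem hiso.mem a
    refine mul_mem (mul_mem (hEle (hZE hc)) (pow_mem (hEle he₀) j)) (pow_mem ?_ k)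
    refine mem_extender_iff.2 ⟨hx, hSN hx, x, hx, fun a ha => ?_⟩
    rw [isoHom_apply, isoHom_apply, ← huval ((δ : E ≃* E) a)]
    exact congrArg Subtype.val (DFunLike.congr_fun hcm a)
  obtain ⟨ψ, hψ, hψv⟩ := exists_extension hrec hiso hES hext
  obtain ⟨σ, hσ, hσv⟩ := exists_iso hψ (hom_range_eq_self hψ)
  exact ⟨σ, (mem_autGroup_iff_isoIn le_rfl).2 hσ, fun a => (hσv _).trans (hψv a)⟩

end CfsgLib.Fusion
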