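import Cfsg.Agent.Lib.Fusion.CenterIndexSquare
import Cfsg.Agent.Lib.PGroups.Extraspecial

/-!
# Fusion systems with trivial core over groups with centre of index `p²`, `p` odd
-/

set_option autoImplicit false

namespace CfsgLib.Fusion

open Cfsg Cfsg.FusionSystem
open scoped commutatorElement

variable {Ω : Type*} [Group Ω] {S : Subgroup Ω} {F : FusionSystem S} {p : ℕ} {z : Ω}

theorem aut_center {σ : MulAut S} {s : S} (hs : (s : Ω) ∈ centerOf S) :
    ((σ s : S) : Ω) ∈ centerOf S := by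
  rw [mem_centerOf_iff, Subgroup.mem_center_iff] at *
  intro g
  have := congrArg σ (hs (σ⁻¹ g))
  rwa [map_mul, map_mul, MulAut.apply_inv_self] at this

theorem CenterSquare.aut_z [Fact p.Prime] [Finite S] (hz : CenterSquare S p z) (σ : MulAut S) :
    ∃ r : ℕ, σ ⟨z, hz.mem_S⟩ = (⟨z, hz.mem_S⟩ : S) ^ r := by
  have hp' : p.Prime := Fact.out
  obtain ⟨a, ha, b, hb, hab⟩ := hz.nonab
  have hmem : ∀ x y : S, ∃ k : ℕ, (⟨z, hz.mem_S⟩ : S) ^ k = ⁅x, y⁆ := fun x y => by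
    obtain ⟨k, hk⟩ := hz.comm x x.2 y y.2
    exact (mem_powers_iff_mem_zpowers (x := (⟨z, hz.mem_S⟩ : S))).2 ⟨k, Subtype.ext hk⟩
  obtain ⟨k, hk⟩ := hmem ⟨a, ha⟩ ⟨b, hb⟩
  obtain ⟨l, hl⟩ := hmem (σ ⟨a, ha⟩) (σ ⟨b, hb⟩)
  have hzp : (⟨z, hz.mem_S⟩ : S) ^ p = 1 := Subtype.ext hz.pow_eq_one
  have hk0 : ¬ p ∣ k := fun ⟨q, hq⟩ => hab (congrArg Subtype.val
    (commutatorElement_eq_one_iff_mul_comm.1 (show ⁅(⟨a, ha⟩ : S), ⟨b, hb⟩⁆ = 1 by
      rw [← hk, hq, pow_mul, hzp, one_pow])))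
  obtain ⟨m, -, hm⟩ := Nat.exists_mul_mod_eq_one_of_coprime
    (hp'.coprime_iff_not_dvd.2 hk0).symm hp'.one_lt
  refine ⟨l * m, ?_⟩
  rw [pow_mul, hl, ← map_commutatorElement σ, ← map_pow, ← hk, ← pow_mul, pow_eq_pow_mod _ hzp, hm,
    pow_one]

theorem exists_pow_mem_inn [Fact p.Prime] [Finite S] (hS : IsPGroup p S) (hF : F.IsSaturated p) :
    ∃ m : ℕ, ¬ p ∣ m ∧ ∀ σ ∈ F.autGroup S, σ ^ m ∈ Inn S := by
  have := finite_mulAut_of_le (S := S) le_rfl
  obtain ⟨R, hR⟩ := IsSaturated.top_autGroup_sylow hS hF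
  have hN : (innIn F S).Normal := inn_subgroupOf_normal F
  refine ⟨(innIn F S).index, fun h => R.not_dvd_index (by rw [hR]; exact h), fun σ hσ => ?_⟩
  exact Subgroup.pow_index_mem (innIn F S) ⟨σ, hσ⟩

theorem inn_fix_center {σ : MulAut S} (hσ : σ ∈ Inn S) {s : S} (hs : (s : Ω) ∈ centerOf S) :
    σ s = s := by
  obtain ⟨g, rfl⟩ := hσ
  rw [MulAut.conj_apply, Subgroup.mem_center_iff.1 ((mem_centerOf_iff s).1 hs) g,
    mul_inv_cancel_right]

/-- No essential subgroup means that `S` is normal. -/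
theorem exists_essential [Fact p.Prime] [Finite S] (hS : IsPGroup p S) (hF : F.IsSaturated p)
    (hcore : F.core = ⊥) (hS1 : S ≠ ⊥) : ∃ E, F.IsEssential p E := by
  by_contra h
  push Not at h
  refine hS1 (le_bot_iff.1 (hcore ▸ le_core (isNormal_of_invariant hS hF fun P hP => ?_)))
  rcases hP with rfl | hP
  · exact ⟨le_rfl, fun α _ => map_subgroupOf_eq le_rfl (fun y _ => y.2)⟩
  · exact absurd hP (h P)

/-- An automorphism of `S` inverting `z` and moving the centre along `⟨z⟩`. -/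
def Inverts (F : FusionSystem S) (z : Ω) (σ : MulAut S) : Prop :=
  σ ∈ F.autGroup S ∧ (∀ h : z ∈ S, σ ⟨z, h⟩ = (⟨z, h⟩ : S)⁻¹) ∧
    ∀ (h : z ∈ S) (s : S), (s : Ω) ∈ centerOf S → ∃ i : ℕ, σ s = s * (⟨z, h⟩ : S) ^ i

theorem inverts_agree [Fact p.Prime] [Finite S] (hS : IsPGroup p S) (hF : F.IsSaturated p)
    (hz : CenterSquare S p z) {σ σ' : MulAut S} (h : Inverts F z σ) (h' : Inverts F z σ') {s : S}
    (hs : (s : Ω) ∈ centerOf S) (hfix : σ s = s) : σ' s = s := by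
  have hp' : p.Prime := Fact.out
  obtain ⟨m, hpm, hm⟩ := exists_pow_mem_inn hS hF
  set zS : S := ⟨z, hz.mem_S⟩
  set δ := σ' * σ with hδ
  have hδz : δ zS = zS := by rw [MulAut.mul_apply, h.2.1, map_inv, h'.2.1, inv_inv]
  obtain ⟨i, hi⟩ := h'.2.2 hz.mem_S s hs
  have hδs : δ s = s * zS ^ i := by rw [MulAut.mul_apply, hfix, hi]
  have hzp : zS ^ p = 1 := Subtype.ext hz.pow_eq_one
  have hδi : δ (zS ^ i) = zS ^ i := by rw [map_pow, hδz]
  have h1 := PGroups.Transvections.iterate_shift δ hδs hδi m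
  rw [inn_fix_center (hm δ (mul_mem h'.1 h.1)) hs, left_eq_mul, ← pow_mul] at h1
  rcases hp'.dvd_mul.1 ((show orderOf zS = p by
    rw [← Subgroup.orderOf_coe, hz.order]) ▸ orderOf_dvd_of_pow_eq_one h1) with hd | hd
  · obtain ⟨q, rfl⟩ := hd
    rw [hi, pow_mul, hzp, one_pow, mul_one]
  · exact absurd hd hpm

/-- The inverting automorphism of an essential subgroup. -/
theorem exists_inverts [Fact p.Prime] [Finite S] (hz : CenterSquare S p z) (hodd : p ≠ 2)
    {E : Subgroup Ω} (hES : E ≤ S) (hZE : centerOf S ≤ E) {u γ : MulAut E} {zE : E} (hzE : (zE : Ω) = z)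
    (hab : ∀ a b : E, a * b = b * a) (hzp : zE ^ p = 1) (huG : u ∈ F.autGroup E)
    (hu : ∀ a, ∃ i : ℕ, u a = a * zE ^ i) (huz : u zE = zE)
    (hmax : ∀ H : Subgroup (MulAut E), H ≤ F.autGroup E → IsPGroup p H → u ∈ H →
      H ≤ Subgroup.zpowers u)
    (hfix : ∀ a : E, u a = a ↔ (a : Ω) ∈ centerOf S)
    (hext : ∀ δ ∈ F.autGroup E, δ * u = u * δ → ∃ σ ∈ F.autGroup S,
        ∀ a : E, ((σ ⟨a, hES a.2⟩ : S) : Ω) = ((δ a : E) : Ω))
    (hγ : γ ∈ F.autGroup E) (ht : γ * u * γ⁻¹ ∉ Subgroup.zpowers u) :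
    ∃ σ, Inverts F z σ ∧
      ∀ a : E, u a = a → (σ ⟨a, hES a.2⟩ = ⟨a, hES a.2⟩ ↔ (γ * u * γ⁻¹) a = a) := by
  have hp' : p.Prime := Fact.out
  have := finite_le hES
  obtain ⟨τ, hτG, hτz, hτfix, -, hτu⟩ :=
    PGroups.Transvections.exists_inverting hab hzp huG hu huz hmax hγ ht
  obtain ⟨σ, hσ, hσv⟩ := hext τ hτG (MulEquiv.ext hτu)
  obtain ⟨h1, -⟩ := PGroups.Transvections.center_moved hab hzp huG hu huz hmax hγ ht
  have hwp : γ zE ^ p = 1 := by rw [← map_pow, hzp, map_one]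
  -- central elements are `a * zE ^ i`
  have hdec : ∀ s : E, u s = s → ∃ (a : E) (i : ℕ), u a = a ∧ (γ * u * γ⁻¹) a = a ∧
      s = a * zE ^ i := by
    intro s hs
    obtain ⟨a, i, j, hua, hta, rfl⟩ :=
      PGroups.Transvections.decomposition hab hzp huG hu huz hmax hγ ht s
    refine ⟨a, i, hua, hta, ?_⟩
    obtain ⟨k, hk⟩ := hu (γ zE)
    rw [map_mul, map_mul, map_pow, map_pow, hua, huz, hk, Commute.mul_pow (hab _ _), ← mul_assoc,
      mul_eq_left, ← pow_mul] at hs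
    have hord : orderOf zE = p := orderOf_eq_prime hzp fun h =>
      hz.ne_one (by rw [← hzE, h, Subgroup.coe_one])
    rcases hp'.dvd_mul.1 (hord ▸ orderOf_dvd_of_pow_eq_one hs) with hd | hd
    · exact absurd (by
        obtain ⟨q, rfl⟩ := hd
        rw [hk, pow_mul, hzp, one_pow, mul_one]) h1
    · obtain ⟨q, rfl⟩ := hd
      rw [pow_mul (γ zE), hwp, one_pow, mul_one]
  have hzinv : ∀ i : ℕ, (zE⁻¹) ^ i = zE ^ ((p - 1) * i) := fun i => by
    rw [pow_mul, eq_inv_of_mul_eq_one_left (a := zE ^ (p - 1)) (b := zE) (by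
      rw [← pow_succ, Nat.sub_add_cancel hp'.one_le, hzp])]
  have hval : ∀ (s : E) (t : E), τ s = t → σ ⟨s, hES s.2⟩ = ⟨t, hES t.2⟩ := fun s t h =>
    Subtype.ext ((hσv s).trans (congrArg Subtype.val h))
  refine ⟨σ, ⟨hσ, fun h => ?_, fun h s hs => ?_⟩, fun a hua => ⟨fun hfa => ?_, fun hta => ?_⟩⟩
  · subst hzE
    exact hval zE zE⁻¹ hτz
  · set sE : E := ⟨s, hZE hs⟩ with hsE
    obtain ⟨a, i, hua, hta, hsa⟩ := hdec sE ((hfix sE).2 hs)
    refine ⟨(p - 1) * i + (p - 1) * i, Subtype.ext ?_⟩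
    have hτs : τ sE = sE * zE ^ ((p - 1) * i + (p - 1) * i) := by
      have e1 : zE ^ i * zE ^ ((p - 1) * i) = 1 := by
        rw [← pow_add, show i + (p - 1) * i = p * i by
          rw [add_comm, ← Nat.succ_mul, Nat.succ_eq_add_one, Nat.sub_add_cancel hp'.one_le],
          pow_mul, hzp, one_pow]
      rw [hsa, map_mul, map_pow, hτfix a hua hta, hτz, hzinv, pow_add zE, mul_assoc a,
        ← mul_assoc (zE ^ i), e1, one_mul]
    rw [Subgroup.coe_mul, Subgroup.coe_pow, show ((σ s : S) : Ω) = ((τ sE : E) : Ω) from hσv sE,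
      hτs, Subgroup.coe_mul, Subgroup.coe_pow, hzE]
  · obtain ⟨a', i, hua', hta', rfl⟩ := hdec a hua
    have h3 : τ (a' * zE ^ i) = a' * zE ^ i :=
      Subtype.ext ((hσv _).symm.trans (congrArg Subtype.val hfa))
    rw [map_mul, map_pow, hτfix a' hua' hta', hτz, mul_right_inj, inv_pow,
      inv_eq_iff_mul_eq_one, ← pow_add, ← two_mul] at h3
    have hord : orderOf zE = p := orderOf_eq_prime hzp fun h =>
      hz.ne_one (by rw [← hzE, h, Subgroup.coe_one])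
    rcases hp'.dvd_mul.1 (hord ▸ orderOf_dvd_of_pow_eq_one h3) with hd | hd
    · exact absurd ((Nat.prime_dvd_prime_iff_eq hp' Nat.prime_two).1 hd) hodd
    · obtain ⟨q, rfl⟩ := hd
      rw [pow_mul, hzp, one_pow, mul_one]
      exact hta'
  · exact hval a a (hτfix a hua hta)

/-- `p` odd: trivial core forces order `p³` and exponent `p`. -/
theorem centerIndexSquare_odd [Fact p.Prime] [Finite S] (hS : IsPGroup p S) (hF : F.IsSaturated p)
    (hz : CenterSquare S p z) (hcore : F.core = ⊥) (hodd : p ≠ 2) :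
    centerOf S = Subgroup.zpowers z ∧ ∀ s ∈ S, s ^ p = 1 := by
  have hp' : p.Prime := Fact.out
  have hS1 : S ≠ ⊥ := fun h => hz.ne_one (Subgroup.mem_bot.1 (h ▸ hz.mem_S))
  obtain ⟨E₀, hE₀⟩ := exists_essential hS hF hcore hS1
  -- the subgroup fixed by all inverting automorphisms
  let D : Subgroup Ω :=
    { carrier := {a | ∃ h : a ∈ centerOf S,
        ∀ σ, Inverts F z σ → σ ⟨a, centerOf_le S h⟩ = ⟨a, centerOf_le S h⟩}
      one_mem' := ⟨(centerOf S).one_mem, fun σ _ => map_one σ⟩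
      mul_mem' := by
        rintro a b ⟨ha, ha'⟩ ⟨hb, hb'⟩
        refine ⟨(centerOf S).mul_mem ha hb, fun σ hσ => ?_⟩
        rw [show (⟨a * b, centerOf_le S ((centerOf S).mul_mem ha hb)⟩ : S) =
          ⟨a, centerOf_le S ha⟩ * ⟨b, centerOf_le S hb⟩ from rfl, map_mul, ha' σ hσ, hb' σ hσ]
      inv_mem' := by
        rintro a ⟨ha, ha'⟩
        refine ⟨(centerOf S).inv_mem ha, fun σ hσ => ?_⟩
        rw [show (⟨a⁻¹, centerOf_le S ((centerOf S).inv_mem ha)⟩ : S) =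
          (⟨a, centerOf_le S ha⟩)⁻¹ from rfl, map_inv, ha' σ hσ] }
  have hzS := hz.mem_S
  have hDn : F.IsNormal D := by
    refine isNormal_of_invariant hS hF fun P hP => ?_
    rcases hP with rfl | hP
    · refine ⟨fun a ⟨ha, _⟩ => centerOf_le _ ha, fun α hα => map_subgroupOf_eq le_rfl ?_⟩
      rintro _ ⟨a, ⟨ha, ha'⟩, rfl⟩
      refine ⟨aut_center ha, fun σ hσ => ?_⟩
      obtain ⟨r, hr⟩ := hz.aut_z (S := P) α
      obtain ⟨r', hr'⟩ := hz.aut_z (S := P) α⁻¹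
      have hconj : Inverts F z (α⁻¹ * σ * α) := by
        refine ⟨mul_mem (mul_mem (inv_mem hα) hσ.1) hα, fun h => ?_, fun h s hs => ?_⟩
        · rw [MulAut.mul_apply, MulAut.mul_apply, hr, map_pow, hσ.2.1 h, inv_pow, map_inv, ← hr,
            MulAut.inv_apply_self]
        · obtain ⟨i, hi⟩ := hσ.2.2 h (α s) (aut_center hs)
          refine ⟨r' * i, ?_⟩
          rw [MulAut.mul_apply, MulAut.mul_apply, hi, map_mul, map_pow, MulAut.inv_apply_self, hr',
            ← pow_mul]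
      have h2 := ha' _ hconj
      rw [MulAut.mul_apply, MulAut.mul_apply] at h2
      have h3 := congrArg α h2
      rw [MulAut.apply_inv_self] at h3
      exact h3
    · obtain ⟨hZP, -, ⟨x, hx, hxP⟩, -⟩ := ess_facts hS hF hz hP
      refine ⟨fun a ⟨ha, _⟩ => hZP ha, fun α hα => map_subgroupOf_eq hP.1.1 ?_⟩
      obtain ⟨u, zE, hzE, hab, huG, -, hu, huz, hzp, hmax, hfix, ⟨γ, hγ, hγt⟩, hext⟩ :=
        ess_action hS hF hz hP hx hxP
      rintro _ ⟨a, ⟨ha, ha'⟩, rfl⟩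
      have hua : u a = a := (hfix a).2 ha
      have hall : ∀ δ ∈ F.autGroup P, (δ * u * δ⁻¹) a = a := by
        intro δ hδ
        by_cases hd : δ * u * δ⁻¹ ∈ Subgroup.zpowers u
        · obtain ⟨k, hk⟩ := hd
          have hmem : u ∈ MulAction.stabilizer (MulAut P) a := hua
          have : u ^ k ∈ MulAction.stabilizer (MulAut P) a := Subgroup.zpow_mem _ hmem k
          exact hk ▸ this
        · obtain ⟨σ, hσ, hσiff⟩ := exists_inverts hz hodd hP.1.1 hZP hzE hab hzp huG hu huz hmax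
            hfix hext hδ hd
          exact (hσiff a hua).1 (ha' σ hσ)
      have hαc : u (α a) = α a := by
        have := hall α⁻¹ (inv_mem hα)
        rw [inv_inv, MulAut.mul_apply, MulAut.mul_apply] at this
        have h := congrArg α this
        rwa [MulAut.apply_inv_self] at h
      refine ⟨(hfix _).1 hαc, fun σ' hσ' => ?_⟩
      obtain ⟨σ, hσ, hσiff⟩ := exists_inverts hz hodd hP.1.1 hZP hzE hab hzp huG hu huz hmax
        hfix hext hγ hγt
      refine inverts_agree hS hF hz hσ hσ' ((hfix _).1 hαc) ((hσiff _ hαc).2 ?_)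
      show (γ * u * γ⁻¹) (α a) = α a
      have := hall (α⁻¹ * γ) (mul_mem (inv_mem hα) hγ)
      rw [show α⁻¹ * γ * u * (α⁻¹ * γ)⁻¹ = α⁻¹ * (γ * u * γ⁻¹) * α by group, MulAut.mul_apply,
        MulAut.mul_apply] at this
      have h := congrArg α this
      rwa [MulAut.apply_inv_self] at h
  have hD : ∀ a ∈ D, a = 1 := fun a ha => Subgroup.mem_bot.1 (hcore ▸ le_core hDn ha)
  -- the structure of an essential subgroup
  have hE : ∀ E, F.IsEssential p E → ∀ e ∈ E, ∃ w : Ω, ∃ i j : ℕ,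
      w ^ p = 1 ∧ w * z = z * w ∧ e = z ^ i * w ^ j ∧ (e ∈ centerOf S → e = z ^ i) := by
    intro E hE e he
    obtain ⟨hZE, -, ⟨x, hx, hxE⟩, -⟩ := ess_facts hS hF hz hE
    obtain ⟨u, zE, hzE, hab, huG, -, hu, huz, hzp, hmax, hfix, ⟨γ, hγ, hγt⟩, hext⟩ :=
      ess_action hS hF hz hE hx hxE
    have := finite_le hE.1.1
    obtain ⟨σ, hσ, hσiff⟩ :=
      exists_inverts hz hodd hE.1.1 hZE hzE hab hzp huG hu huz hmax hfix hext hγ hγt
    obtain ⟨h1, -⟩ := PGroups.Transvections.center_moved hab hzp huG hu huz hmax hγ hγt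
    obtain ⟨a, i, j, hua, hta, hea⟩ :=
      PGroups.Transvections.decomposition hab hzp huG hu huz hmax hγ hγt ⟨e, he⟩
    have ha1 : a = 1 := Subtype.ext (hD a ⟨(hfix a).1 hua, fun σ' hσ' =>
      inverts_agree hS hF hz hσ hσ' ((hfix a).1 hua) ((hσiff a hua).2 hta)⟩)
    refine ⟨(γ zE : E), i, j, ?_, ?_, ?_, fun hc => ?_⟩
    · rw [← Subgroup.coe_pow, ← map_pow, hzp, map_one, Subgroup.coe_one]
    · rw [← hzE, ← Subgroup.coe_mul, hab, Subgroup.coe_mul]
    · rw [show e = ((⟨e, he⟩ : E) : Ω) from rfl, hea, ha1, one_mul, Subgroup.coe_mul,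
        Subgroup.coe_pow, Subgroup.coe_pow, hzE]
    · have hfe := (hfix ⟨e, he⟩).2 hc
      rw [hea, ha1, one_mul, map_mul, map_pow, map_pow, huz, mul_right_inj] at hfe
      obtain ⟨k, hk⟩ := hu (γ zE)
      rw [hk, Commute.mul_pow (hab _ _), mul_eq_left, ← pow_mul] at hfe
      have hord : orderOf zE = p := orderOf_eq_prime hzp fun h =>
        hz.ne_one (by rw [← hzE, h, Subgroup.coe_one])
      rcases hp'.dvd_mul.1 (hord ▸ orderOf_dvd_of_pow_eq_one hfe) with hd | hd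
      · exact absurd (by obtain ⟨q, rfl⟩ := hd; rw [hk, pow_mul, hzp, one_pow, mul_one]) h1
      · obtain ⟨q, rfl⟩ := hd
        rw [show e = ((⟨e, he⟩ : E) : Ω) from rfl, hea, ha1, one_mul, pow_mul (γ zE),
          ← map_pow γ, hzp, map_one, one_pow, mul_one, Subgroup.coe_pow, hzE]
  have hZ : centerOf S = Subgroup.zpowers z := by
    refine le_antisymm (fun c hc => ?_) (Subgroup.zpowers_le.2 hz.mem)
    obtain ⟨w, i, j, -, -, -, h⟩ := hE E₀ hE₀ c ((ess_facts hS hF hz hE₀).1 hc)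
    rw [h hc]
    exact Subgroup.pow_mem _ (Subgroup.mem_zpowers z) i
  refine ⟨hZ, ?_⟩
  by_contra hne
  push Not at hne
  obtain ⟨s₀, hs₀, hs₀p⟩ := hne
  let K : Subgroup Ω :=
    { carrier := {s | s ∈ S ∧ s ^ p = 1}
      one_mem' := ⟨S.one_mem, one_pow p⟩
      mul_mem' := by
        rintro a b ⟨ha, hap⟩ ⟨hb, hbp⟩
        refine ⟨S.mul_mem ha hb, ?_⟩
        have hc : ⁅(⟨b, hb⟩ : S), ⟨a, ha⟩⁆ ∈ Subgroup.center S :=
          (mem_centerOf_iff _).1 ((Subgroup.zpowers_le.2 hz.mem) (hz.comm b hb a ha))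
        have hcp : (⁅(⟨b, hb⟩ : S), (⟨a, ha⟩ : S)⁆ : S) ^ p = 1 := by
          obtain ⟨k, hk⟩ := hz.comm b hb a ha
          refine Subtype.ext ?_
          show ⁅b, a⁆ ^ p = 1
          rw [← hk]
          show (z ^ k) ^ p = 1
          rw [← zpow_natCast (z ^ k), zpow_comm, zpow_natCast, hz.pow_eq_one, one_zpow]
        have := congrArg Subtype.val
          (PGroups.mul_pow_of_central_odd hc (hp'.odd_of_ne_two hodd) hcp)
        simpa [hap, hbp] using this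
      inv_mem' := fun {a} ⟨ha, hap⟩ => ⟨S.inv_mem ha, by rw [inv_pow, hap, inv_one]⟩ }
  have hEK : ∀ E, F.IsEssential p E → E = K := by
    intro E hEe
    obtain ⟨hZE, -, -, hx'⟩ := ess_facts hS hF hz hEe
    have hle : E ≤ K := fun e he => by
      obtain ⟨w, i, j, hw, hwz, rfl, -⟩ := hE E hEe e he
      refine ⟨hEe.1.1 he, ?_⟩
      rw [Commute.mul_pow (Commute.pow_pow (show Commute z w from hwz.symm) i j), ← pow_mul,
        mul_comm i, pow_mul, hz.pow_eq_one, one_pow, one_mul, ← pow_mul, mul_comm, pow_mul, hw,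
        one_pow]
    refine le_antisymm hle fun g hg => ?_
    by_contra hgE
    obtain ⟨e, he, heg, -⟩ := hx' g hg.1 hgE
    obtain ⟨c, hc, j, k, hs⟩ := hz.span e (hEe.1.1 he) g hg.1 heg s₀ hs₀
    exact hs₀p (show s₀ ∈ K from hs ▸ K.mul_mem (K.mul_mem (hle (hZE hc)) (K.pow_mem (hle he) j))
      (K.pow_mem hg k)).2
  have hKn : F.IsNormal K := by
    refine isNormal_of_invariant hS hF fun P hP => ?_
    rcases hP with rfl | hP
    · refine ⟨fun s hs => hs.1, fun α _ => map_subgroupOf_eq le_rfl ?_⟩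
      rintro _ ⟨a, ⟨-, hap⟩, rfl⟩
      refine ⟨(α a).2, ?_⟩
      show ((α a : P) : Ω) ^ p = 1
      rw [← Subgroup.coe_pow, ← map_pow, show a ^ p = 1 from Subtype.ext hap, map_one,
        Subgroup.coe_one]
    · rw [hEK P hP]
      exact ⟨le_rfl, fun α _ => map_subgroupOf_eq (fun s (hs : s ∈ K) => hs.1) fun y _ => y.2⟩
  exact hz.ne_one (Subgroup.mem_bot.1 (hcore ▸ le_core hKn (show z ∈ K from ⟨hzS, hz.pow_eq_one⟩)))

end CfsgLib.Fusion
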