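import Cfsg.Agent.Lib.Fusion.CenterIndexSquareOdd
import Cfsg.Agent.Lib.PGroups.ExtraspecialTimesElementary

/-!
# Fusion systems with trivial core over groups with centre of index `4`
-/

set_option autoImplicit false

namespace CfsgLib.Fusion

open Cfsg Cfsg.FusionSystem
open scoped commutatorElement

variable {Ω : Type*} [Group Ω] {S : Subgroup Ω} {F : FusionSystem S} {z : Ω}

/-- An automorphism of `S` leaving `E` invariant restricts. -/
theorem restrict_aut [Finite S] {E : Subgroup Ω} (hES : E ≤ S) {σ : MulAut S}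
    (hσ : σ ∈ F.autGroup S) (h : ∀ a : E, ((σ ⟨a, hES a.2⟩ : S) : Ω) ∈ E) :
    ∃ δ ∈ F.autGroup E, ∀ a : E, ((δ a : E) : Ω) = ((σ ⟨a, hES a.2⟩ : S) : Ω) := by
  have := finite_le hES
  have hφ := restrict_mem ((mem_autGroup_iff_isoIn le_rfl).1 hσ).mem hES
  set φ := (isoHom (σ : S ≃* S)).comp (Subgroup.inclusion hES)
  have hle : φ.range ≤ E := by
    rintro _ ⟨a, rfl⟩
    exact h a
  have hrange : φ.range = E := Subgroup.eq_of_le_of_card_ge hle
    (le_of_eq (Nat.card_congr (MonoidHom.ofInjective (F.injective_of_mem hφ)).toEquiv))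
  obtain ⟨δ, hδ, hδv⟩ := exists_iso hφ hrange
  exact ⟨δ, (mem_autGroup_iff_isoIn hES).2 hδ, hδv⟩

/-- The central elements all of whose images under the automiser of `E` are central. -/
def autFixed (F : FusionSystem S) (E : Subgroup Ω) : Subgroup Ω where
  carrier := {a | ∃ h : a ∈ E, ∀ δ ∈ F.autGroup E, ((δ ⟨a, h⟩ : E) : Ω) ∈ centerOf S}
  one_mem' := ⟨E.one_mem, fun δ _ => by
    show ((δ (1 : E) : E) : Ω) ∈ _
    rw [map_one]; exact (centerOf S).one_mem⟩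
  mul_mem' := by
    rintro a b ⟨ha, ha'⟩ ⟨hb, hb'⟩
    refine ⟨E.mul_mem ha hb, fun δ hδ => ?_⟩
    rw [show (⟨a * b, E.mul_mem ha hb⟩ : E) = ⟨a, ha⟩ * ⟨b, hb⟩ from rfl, map_mul, Subgroup.coe_mul]
    exact (centerOf S).mul_mem (ha' δ hδ) (hb' δ hδ)
  inv_mem' := by
    rintro a ⟨ha, ha'⟩
    refine ⟨E.inv_mem ha, fun δ hδ => ?_⟩
    rw [show (⟨a⁻¹, E.inv_mem ha⟩ : E) = (⟨a, ha⟩)⁻¹ from rfl, map_inv, Subgroup.coe_inv]
    exact (centerOf S).inv_mem (ha' δ hδ)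

theorem autFixed_le_center {E : Subgroup Ω} {a : Ω} (ha : a ∈ autFixed F E) : a ∈ centerOf S := by
  obtain ⟨h, h'⟩ := ha
  exact h' 1 (one_mem _)

theorem autFixed_apply {E : Subgroup Ω} {δ : MulAut E} (hδ : δ ∈ F.autGroup E) {a : E}
    (ha : (a : Ω) ∈ autFixed F E) : ((δ a : E) : Ω) ∈ autFixed F E := by
  obtain ⟨h, h'⟩ := ha
  exact ⟨(δ a).2, fun δ' hδ' => h' (δ' * δ) (mul_mem hδ' hδ)⟩

/-- The action of the automiser of an essential subgroup, `p = 2`. -/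
theorem two_essential [Finite S] (hS : IsPGroup 2 S) (hF : F.IsSaturated 2)
    (hz : CenterSquare S 2 z) {E : Subgroup Ω} (hE : F.IsEssential 2 E) :
    ∃ w ∈ E, w ∉ centerOf S ∧ w ^ 2 = 1 ∧
      (∀ e ∈ E, ∃ a ∈ autFixed F E, ∃ i j : ℕ, e = a * z ^ i * w ^ j) ∧
      (∀ c ∈ centerOf S, ∃ a ∈ autFixed F E, ∃ i : ℕ, c = a * z ^ i) ∧
      ∀ δ ∈ F.autGroup E, ∃ σ ∈ F.autGroup S,
        (∀ a : E, (a : Ω) ∈ autFixed F E →
          ((σ ⟨a, hE.1.1 a.2⟩ : S) : Ω) = ((δ a : E) : Ω)) ∧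
        (∀ a : E, (a : Ω) = z ∨ (a : Ω) = w →
          ((δ a : E) : Ω) ∈ ({z, w, z * w} : Set Ω)) := by
  haveI : Fact (Nat.Prime 2) := ⟨Nat.prime_two⟩
  obtain ⟨hZE, -, ⟨x, hx, hxE⟩, -⟩ := ess_facts hS hF hz hE
  obtain ⟨u, zE, hzE, hab, huG, -, hu, huz, hzp, hmax, hfix, ⟨γ, hγ, hγt⟩, hext⟩ :=
    ess_action hS hF hz hE hx hxE
  have := finite_le hE.1.1
  obtain ⟨h1, -⟩ := PGroups.Transvections.center_moved hab hzp huG hu huz hmax hγ hγt
  have htwo := PGroups.Transvections.two_transvections hab hzp huG hu huz hmax hγ hγt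
  have hA : ∀ a : E, u a = a → (γ * u * γ⁻¹) a = a → (a : Ω) ∈ autFixed F E :=
    fun a hua hta => ⟨a.2, fun δ hδ => (hfix _).1 ((htwo δ hδ).2.1 a hua hta).1⟩
  have hA' : ∀ a : E, (a : Ω) ∈ autFixed F E → u a = a ∧ (γ * u * γ⁻¹) a = a := by
    rintro a ⟨h, h'⟩
    refine ⟨(hfix a).2 (h' 1 (one_mem _)), ?_⟩
    rw [MulAut.mul_apply, MulAut.mul_apply, (hfix _).2 (h' γ⁻¹ (inv_mem hγ)),
      MulAut.apply_inv_self]
  refine ⟨(γ zE : E), (γ zE).2, fun h => h1 ((hfix _).2 h), ?_, fun e he => ?_, fun c hc => ?_,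
    fun δ hδ => ?_⟩
  · rw [← Subgroup.coe_pow, ← map_pow, hzp, map_one, Subgroup.coe_one]
  · obtain ⟨a, i, j, hua, hta, hea⟩ :=
      PGroups.Transvections.decomposition hab hzp huG hu huz hmax hγ hγt ⟨e, he⟩
    refine ⟨a, hA a hua hta, i, j, ?_⟩
    rw [show e = ((⟨e, he⟩ : E) : Ω) from rfl, hea, Subgroup.coe_mul, Subgroup.coe_mul,
      Subgroup.coe_pow, Subgroup.coe_pow, hzE]
  · obtain ⟨a, i, j, hua, hta, hea⟩ :=
      PGroups.Transvections.decomposition hab hzp huG hu huz hmax hγ hγt ⟨c, hZE hc⟩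
    have hfe := (hfix ⟨c, hZE hc⟩).2 hc
    rw [hea, map_mul, map_mul, map_pow, map_pow, hua, huz, mul_right_inj] at hfe
    have hj : (γ zE) ^ j = 1 := by
      rw [← map_pow, pow_eq_pow_mod j (show γ zE ^ 2 = 1 by rw [← map_pow, hzp, map_one])] at hfe
      rw [pow_eq_pow_mod j (show γ zE ^ 2 = 1 by rw [← map_pow, hzp, map_one])]
      rcases Nat.mod_two_eq_zero_or_one j with h | h
      · rw [h, pow_zero]
      · rw [h, pow_one] at hfe
        exact absurd hfe h1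
    refine ⟨a, hA a hua hta, i, ?_⟩
    rw [show c = ((⟨c, hZE hc⟩ : E) : Ω) from rfl, hea, hj, mul_one, Subgroup.coe_mul,
      Subgroup.coe_pow, hzE]
  · obtain ⟨-, -, l, hlG, hla, hcm⟩ := htwo δ hδ
    obtain ⟨σ, hσ, hσv⟩ := hext (l * δ) (mul_mem hlG hδ) hcm
    refine ⟨σ, hσ, fun a ha => ?_, fun a ha => ?_⟩
    · rw [hσv a, MulAut.mul_apply]
      obtain ⟨h3, h4⟩ := hA' (δ a) (autFixed_apply hδ ha)
      rw [hla _ h3 h4]
    · have hz' : ∀ b : E, b = zE ∨ b = γ zE ∨ b = zE * γ zE →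
          ((b : E) : Ω) ∈ ({z, ((γ zE : E) : Ω), z * ((γ zE : E) : Ω)} : Set Ω) := by
        rintro b (rfl | rfl | rfl) <;> simp [hzE]
      rcases ha with ha | ha
      · rw [show a = zE from Subtype.ext (ha.trans hzE.symm)]
        exact hz' _ (htwo δ hδ).1
      · rw [show a = γ zE from Subtype.ext ha]
        exact hz' _ (htwo (δ * γ) (mul_mem hδ hγ)).1

/-- `p = 2`: trivial core and full hyperfocal subgroup force the dihedral group of order `8`. -/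
theorem centerIndexSquare_two [Finite S] (hS : IsPGroup 2 S) (hF : F.IsSaturated 2)
    (hz : CenterSquare S 2 z) (hcore : F.core = ⊥) (hhyp : F.hyperfocalSubgroup 2 = S) :
    Nat.card S = 2 ^ 3 ∧ Nonempty (S ≃* DihedralGroup 4) := by
  haveI : Fact (Nat.Prime 2) := ⟨Nat.prime_two⟩
  have hzS := hz.mem_S
  have hz1 := hz.ne_one
  have hzz : z * z = 1 := by rw [← pow_two, hz.pow_eq_one]
  have hz01 : ∀ i : ℕ, z ^ i = 1 ∨ z ^ i = z := fun i => by
    rw [pow_eq_pow_mod i hz.pow_eq_one]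
    rcases Nat.mod_two_eq_zero_or_one i with h | h <;> simp [h]
  have hsq : ∀ g h : Ω, g * h = h * g → (g * h) ^ 2 = g ^ 2 * h ^ 2 := fun g h hgh =>
    (show Commute g h from hgh).mul_pow 2
  have hS1 : S ≠ ⊥ := fun h => hz1 (Subgroup.mem_bot.1 (h ▸ hzS))
  -- the centre is elementary abelian
  let Φ : Subgroup Ω :=
    { carrier := {a | ∃ c ∈ centerOf S, a = c ^ 2}
      one_mem' := ⟨1, (centerOf S).one_mem, (one_pow 2).symm⟩
      mul_mem' := by
        rintro _ _ ⟨c, hc, rfl⟩ ⟨d, hd, rfl⟩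
        exact ⟨c * d, (centerOf S).mul_mem hc hd,
          (hsq c d (centerOf_comm hd (centerOf_le S hc))).symm⟩
      inv_mem' := by
        rintro _ ⟨c, hc, rfl⟩
        exact ⟨c⁻¹, (centerOf S).inv_mem hc, (inv_pow c 2).symm⟩ }
  have hΦn : F.IsNormal Φ := by
    refine isNormal_of_invariant hS hF fun P hP => ?_
    rcases hP with rfl | hP
    · refine ⟨fun _ ⟨c, hc, h⟩ => h ▸ P.pow_mem (centerOf_le P hc) 2, fun α _ =>
        map_subgroupOf_eq le_rfl ?_⟩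
      rintro _ ⟨a, ⟨c, hc, hac⟩, rfl⟩
      refine ⟨(α ⟨c, centerOf_le P hc⟩ : P), aut_center hc, ?_⟩
      show ((α a : P) : Ω) = _
      rw [show a = (⟨c, centerOf_le P hc⟩ : P) ^ 2 from Subtype.ext hac, map_pow, Subgroup.coe_pow]
    · obtain ⟨w, hwP, -, hw2, hdec, -, -⟩ := two_essential hS hF hz hP
      obtain ⟨hZP, -⟩ := ess_facts hS hF hz hP
      refine ⟨fun _ ⟨c, hc, h⟩ => h ▸ P.pow_mem (hZP hc) 2, fun α _ =>
        map_subgroupOf_eq hP.1.1 ?_⟩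
      rintro _ ⟨a, ⟨c, hc, hac⟩, rfl⟩
      obtain ⟨b, hb, i, j, hbij⟩ := hdec _ (α ⟨c, hZP hc⟩).2
      refine ⟨b, autFixed_le_center hb, ?_⟩
      show ((α a : P) : Ω) = _
      rw [show a = (⟨c, hZP hc⟩ : P) ^ 2 from Subtype.ext hac, map_pow, Subgroup.coe_pow, hbij]
      have hbc := autFixed_le_center hb
      have hwc : Commute (b * z ^ i) (w ^ j) :=
        (centerOf_comm ((centerOf S).mul_mem hbc (Subgroup.pow_mem _ hz.mem i))
          (S.pow_mem (hP.1.1 hwP) j)).symm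
      rw [hsq _ _ hwc.eq, hsq _ _ (centerOf_comm (Subgroup.pow_mem _ hz.mem i)
        (centerOf_le S hbc)), ← pow_mul, mul_comm i, pow_mul, hz.pow_eq_one, one_pow, mul_one,
        ← pow_mul, mul_comm, pow_mul, hw2, one_pow, mul_one]
  have hc2 : ∀ c ∈ centerOf S, c ^ 2 = 1 := fun c hc =>
    Subgroup.mem_bot.1 (hcore ▸ le_core hΦn (show c ^ 2 ∈ Φ from ⟨c, hc, rfl⟩))
  -- essential subgroups are elementary abelian centralisers
  have hEelem : ∀ E, F.IsEssential 2 E → ∀ e ∈ E, e ^ 2 = 1 := by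
    intro E hE e he
    obtain ⟨w, hwE, -, hw2, hdec, -, -⟩ := two_essential hS hF hz hE
    obtain ⟨b, hb, i, j, rfl⟩ := hdec e he
    have hbc : b * z ^ i ∈ centerOf S :=
      (centerOf S).mul_mem (autFixed_le_center hb) (Subgroup.pow_mem _ hz.mem i)
    rw [hsq _ _ (centerOf_comm hbc (S.pow_mem (hE.1.1 hwE) j)).symm, hc2 _ hbc,
      ← pow_mul, mul_comm, pow_mul, hw2, one_pow, mul_one]
  have hC : ∀ E, F.IsEssential 2 E → ∀ a ∈ E, a ∉ centerOf S → ∀ g ∈ S, g * a = a * g →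
      g ∈ E := by
    intro E hE a ha hac g hg hga
    by_contra hgE
    obtain ⟨e, -, -, hfix, -⟩ := (ess_facts hS hF hz hE).2.2.2 g hg hgE
    exact hac (hfix a ha hga)
  have hcoset : ∀ E, F.IsEssential 2 E → ∀ e ∈ E, e ∉ centerOf S → ∀ h ∈ E, h ∉ centerOf S →
      ∃ c ∈ centerOf S, h = c * e := by
    intro E hE e he hec h hh hhc
    have hES : E ≤ S := hE.1.1
    obtain ⟨hZE, hab, ⟨x, hx, hxE⟩, -⟩ := ess_facts hS hF hz hE
    have hex : e * x ≠ x * e := fun hc => hxE (hC E hE e he hec x hx hc.symm)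
    obtain ⟨c, hc, j, k, hk⟩ := hz.span e (hES he) x hx hex h (hES hh)
    rw [pow_eq_pow_mod j (hEelem E hE e he)] at hk
    have hk2 : k % 2 = 0 := by
      by_contra hne
      obtain ⟨q, hq⟩ : ∃ q, k = 2 * q + 1 := Nat.odd_iff.2 (Nat.mod_two_ne_zero.1 hne)
      refine hxE ?_
      have h2 : x = (c * e ^ (j % 2) * (x ^ 2) ^ q)⁻¹ * h := by
        rw [hk, hq, ← pow_mul, pow_succ x (2 * q)]; group
      rw [h2]
      exact E.mul_mem (E.inv_mem (E.mul_mem (E.mul_mem (hZE hc) (E.pow_mem he _))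
        (E.pow_mem (hZE (hz.pow x hx)) q))) hh
    obtain ⟨q, hq⟩ : ∃ q, k = 2 * q := ⟨k / 2, by omega⟩
    rw [hq, pow_mul] at hk
    have hxq : (x ^ 2) ^ q ∈ centerOf S := Subgroup.pow_mem _ (hz.pow x hx) q
    rcases Nat.mod_two_eq_zero_or_one j with hj | hj
    · rw [hj, pow_zero, mul_one] at hk
      exact absurd (hk ▸ (centerOf S).mul_mem hc hxq) hhc
    · rw [hj, pow_one] at hk
      exact ⟨c * (x ^ 2) ^ q, (centerOf S).mul_mem hc hxq, by
        rw [hk, mul_assoc c, centerOf_comm hxq (hES he), ← mul_assoc]⟩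
  have hinvol : ∀ E, F.IsEssential 2 E → ∀ g ∈ S, ∀ h ∈ S, g ∉ E → h ∉ E → g ^ 2 = 1 →
      h ^ 2 = 1 → g * h = h * g := by
    intro E hE g hg h hh hgE hhE hg2 hh2
    obtain ⟨hZE, hab, -, hx'⟩ := ess_facts hS hF hz hE
    obtain ⟨e, he, heg, -, -⟩ := hx' g hg hgE
    obtain ⟨c, hc, j, k, rfl⟩ := hz.span e (hE.1.1 he) g hg heg h hh
    have hgc : Commute g c := centerOf_comm hc hg
    rw [pow_eq_pow_mod k hg2, pow_eq_pow_mod j (hEelem E hE e he)] at hhE hh2 ⊢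
    rcases Nat.mod_two_eq_zero_or_one k with hk | hk
    · rw [hk, pow_zero, mul_one] at hhE
      exact absurd (E.mul_mem (hZE hc) (E.pow_mem he _)) hhE
    rcases Nat.mod_two_eq_zero_or_one j with hj | hj
    · rw [hj, hk, pow_zero, mul_one, pow_one]
      exact (hgc.mul_right (Commute.refl g)).eq
    · exfalso
      rw [hj, hk, pow_one, pow_one, mul_assoc,
        hsq c (e * g) ((show Commute e c from centerOf_comm hc (hE.1.1 he)).mul_left hgc).eq.symm,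
        hc2 c hc, one_mul, pow_two] at hh2
      refine heg ?_
      have he2 : e⁻¹ = e := inv_eq_of_mul_eq_one_left (by rw [← pow_two]; exact hEelem E hE e he)
      have hg2' : g⁻¹ = g := inv_eq_of_mul_eq_one_left (by rw [← pow_two]; exact hg2)
      calc e * g = (e * g)⁻¹ := eq_inv_of_mul_eq_one_left hh2
        _ = g * e := by rw [mul_inv_rev, he2, hg2']
  obtain ⟨m, hm2, hm⟩ := exists_pow_mem_inn hS hF
  have hoddm : m % 2 = 1 := Nat.two_dvd_ne_zero.1 hm2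
  -- automorphisms of `S` fix each essential subgroup
  have hpres : ∀ E, F.IsEssential 2 E → ∀ σ ∈ F.autGroup S, ∀ a : S, (a : Ω) ∈ E →
      ((σ a : S) : Ω) ∈ E := by
    intro E hE σ hσ a ha
    obtain ⟨w, hwE, hwc, hw2, -, -, -⟩ := two_essential hS hF hz hE
    obtain ⟨hZE, hab, -, -⟩ := ess_facts hS hF hz hE
    set wS : S := ⟨w, hE.1.1 hwE⟩ with hwS
    have hσc : ∀ (τ : MulAut S) (b : S), (b : Ω) ∉ centerOf S → ((τ b : S) : Ω) ∉ centerOf S :=
      fun τ b hb hc => hb (by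
        have := aut_center (σ := τ⁻¹) hc
        rwa [MulAut.inv_apply_self] at this)
    have hsq1 : ∀ (τ : MulAut S) (b : S), (b : Ω) ^ 2 = 1 → ((τ b : S) : Ω) ^ 2 = 1 :=
      fun τ b hb => by
        rw [← Subgroup.coe_pow, ← map_pow, show b ^ 2 = 1 from Subtype.ext hb, map_one,
          Subgroup.coe_one]
    suffices hw : ((σ wS : S) : Ω) ∈ E by
      refine hC E hE _ hw (hσc σ wS hwc) _ (σ a).2 ?_
      rw [← Subgroup.coe_mul, ← Subgroup.coe_mul, ← map_mul, ← map_mul,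
        show a * wS = wS * a from Subtype.ext (hab a ha w hwE)]
    by_contra hout
    have hswap : ∀ b : S, (b : Ω) ^ 2 = 1 → (b : Ω) ∉ centerOf S →
        (((σ b : S) : Ω) ∈ E ↔ (b : Ω) ∉ E) := by
      intro b hb hbc
      constructor
      · intro hσb hbE
        refine hout (hC E hE _ hσb (hσc σ b hbc) _ (σ wS).2 ?_)
        rw [← Subgroup.coe_mul, ← Subgroup.coe_mul, ← map_mul, ← map_mul,
          show wS * b = b * wS from Subtype.ext (hab w hwE b hbE)]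
      · intro hbE
        by_contra hσb
        have h := hinvol E hE _ (σ b).2 _ (σ wS).2 hσb hout (hsq1 σ b hb) (hsq1 σ wS hw2)
        rw [← Subgroup.coe_mul, ← Subgroup.coe_mul, ← map_mul, ← map_mul] at h
        exact hbE (hC E hE w hwE hwc b b.2 (congrArg Subtype.val (σ.injective (Subtype.ext h))))
    have hiter : ∀ n : ℕ, (((σ ^ n) wS : S) : Ω) ∈ E ↔ n % 2 = 0 := by
      intro n
      induction n with
      | zero => simp [hwS, hwE]
      | succ n ih =>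
        rw [pow_succ', MulAut.mul_apply,
          hswap _ (hsq1 (σ ^ n) wS hw2) (hσc (σ ^ n) wS hwc), ih]
        omega
    obtain ⟨g, hg⟩ := hm σ hσ
    have hmE : (((σ ^ m) wS : S) : Ω) ∈ E := by
      rw [← hg]
      obtain ⟨i, hi⟩ := hz.conj g.2 (hE.1.1 hwE)
      show (g : Ω) * w * (g : Ω)⁻¹ ∈ E
      rw [hi]
      exact E.mul_mem hwE (E.pow_mem (hZE hz.mem) i)
    have := (hiter m).1 hmE
    omega
  -- two essential subgroups
  obtain ⟨E₁, hE₁⟩ := exists_essential hS hF hcore hS1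
  have huniq : ∀ E, F.IsEssential 2 E → ∀ E', F.IsEssential 2 E' → ∀ a ∈ E, a ∉ centerOf S →
      a ∈ E' → E = E' := fun E hE E' hE' a ha hac ha' => le_antisymm
    (fun g hg => hC E' hE' a ha' hac g (hE.1.1 hg) ((ess_facts hS hF hz hE).2.1 g hg a ha))
    (fun g hg => hC E hE a ha hac g (hE'.1.1 hg) ((ess_facts hS hF hz hE').2.1 g hg a ha'))
  obtain ⟨E₂, hE₂, hne⟩ : ∃ E, F.IsEssential 2 E ∧ E ≠ E₁ := by
    by_contra h
    push Not at h
    have hn : F.IsNormal E₁ := by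
      refine isNormal_of_invariant hS hF fun P hP => ?_
      rcases hP with rfl | hP
      · refine ⟨hE₁.1.1, fun α hα => map_subgroupOf_eq le_rfl ?_⟩
        rintro _ ⟨a, ha, rfl⟩
        exact hpres E₁ hE₁ α hα a ha
      · rw [h P hP]
        exact ⟨le_rfl, fun α _ => map_subgroupOf_eq hE₁.1.1 fun y _ => y.2⟩
    exact hz1 (Subgroup.mem_bot.1 (hcore ▸ le_core hn
      ((ess_facts hS hF hz hE₁).1 hz.mem)))
  obtain ⟨w₁, hw₁E, hw₁c, hw₁2, hdec₁, hcdec₁, hmv₁⟩ := two_essential hS hF hz hE₁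
  obtain ⟨w₂, hw₂E, hw₂c, hw₂2, hdec₂, hcdec₂, hmv₂⟩ := two_essential hS hF hz hE₂
  have hw₂₁ : w₂ ∉ E₁ := fun h => hne (huniq E₂ hE₂ E₁ hE₁ w₂ hw₂E hw₂c h)
  have hall : ∀ E, F.IsEssential 2 E → E = E₁ ∨ E = E₂ := by
    intro E hE
    obtain ⟨w, hwE, hwc, hw2, -, -, -⟩ := two_essential hS hF hz hE
    by_cases hw : w ∈ E₁
    · exact Or.inl (huniq E hE E₁ hE₁ w hwE hwc hw)
    · exact Or.inr (huniq E hE E₂ hE₂ w hwE hwc (hC E₂ hE₂ w₂ hw₂E hw₂c w (hE.1.1 hwE)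
        (hinvol E₁ hE₁ w (hE.1.1 hwE) w₂ (hE₂.1.1 hw₂E) hw hw₂₁ hw2 hw₂2)))
  -- the fixed parts
  have hSA : ∀ E, F.IsEssential 2 E → ∀ σ ∈ F.autGroup S, ∀ a : S, (a : Ω) ∈ autFixed F E →
      ((σ a : S) : Ω) ∈ autFixed F E := by
    intro E hE σ hσ a ha
    obtain ⟨δ, hδ, hδv⟩ := restrict_aut hE.1.1 hσ fun b => hpres E hE σ hσ _ b.2
    have h := autFixed_apply hδ (a := ⟨(a : Ω), ha.1⟩) ha
    rwa [hδv] at h
  have hD : ∀ a, a ∈ autFixed F E₁ → a ∈ autFixed F E₂ → a = 1 := by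
    have hn : F.IsNormal (autFixed F E₁ ⊓ autFixed F E₂) := by
      refine isNormal_of_invariant hS hF fun P hP => ?_
      rcases hP with rfl | hP
      · refine ⟨fun a ha => centerOf_le _ (autFixed_le_center ha.1), fun α hα =>
          map_subgroupOf_eq le_rfl ?_⟩
        rintro _ ⟨a, ⟨ha₁, ha₂⟩, rfl⟩
        exact ⟨hSA E₁ hE₁ α hα a ha₁, hSA E₂ hE₂ α hα a ha₂⟩
      · refine ⟨fun a ha => (ess_facts hS hF hz hP).1 (autFixed_le_center ha.1), fun α hα =>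
          map_subgroupOf_eq hP.1.1 ?_⟩
        rintro _ ⟨a, ⟨ha₁, ha₂⟩, rfl⟩
        rcases hall P hP with rfl | rfl
        · obtain ⟨σ, hσ, hσa, -⟩ := hmv₁ α hα
          refine ⟨autFixed_apply hα ha₁, ?_⟩
          have h := hSA E₂ hE₂ σ hσ ⟨a, hP.1.1 a.2⟩ ha₂
          rwa [hσa a ha₁] at h
        · obtain ⟨σ, hσ, hσa, -⟩ := hmv₂ α hα
          refine ⟨?_, autFixed_apply hα ha₂⟩
          have h := hSA E₁ hE₁ σ hσ ⟨a, hP.1.1 a.2⟩ ha₁
          rwa [hσa a ha₂] at h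
    exact fun a h₁ h₂ => Subgroup.mem_bot.1 (hcore ▸ le_core hn ⟨h₁, h₂⟩)
  have hA₁ : ∀ a b, a ∈ autFixed F E₁ → b ∈ autFixed F E₁ → a ≠ 1 → b ≠ 1 → a = b := by
    intro a b ha hb ha1 hb1
    have key : ∀ c, c ∈ autFixed F E₁ → c ≠ 1 → c * z ∈ autFixed F E₂ := by
      intro c hc hc1
      obtain ⟨d, hd, i, hi⟩ := hcdec₂ c (autFixed_le_center hc)
      rcases hz01 i with h | h <;> rw [h] at hi
      · rw [mul_one] at hi
        exact absurd (hD c hc (hi ▸ hd)) hc1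
      · rwa [hi, mul_assoc, hzz, mul_one]
    have h := (autFixed F E₂).mul_mem (key a ha ha1) (key b hb hb1)
    rw [show a * z * (b * z) = a * b by
      rw [mul_assoc, ← mul_assoc z b, show z * b = b * z from
        (centerOf_comm hz.mem (centerOf_le S (autFixed_le_center hb))).symm, mul_assoc b, hzz,
        mul_one]] at h
    rw [mul_eq_one_iff_eq_inv.1 (hD _ ((autFixed F E₁).mul_mem ha hb) h),
      inv_eq_of_mul_eq_one_left (by rw [← pow_two]; exact hc2 b (autFixed_le_center hb))]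
  have hZfix : ∀ σ ∈ F.autGroup S, ∀ c : S, (c : Ω) ∈ centerOf S → σ c = c := by
    intro σ hσ c hc
    obtain ⟨a, ha, i, hi⟩ := hcdec₁ c hc
    set zS : S := ⟨z, hzS⟩
    set aS : S := ⟨a, centerOf_le S (autFixed_le_center ha)⟩
    have hσz : σ zS = zS := by
      obtain ⟨r, hr⟩ := hz.aut_z σ
      rcases hz01 r with h | h
      · refine absurd ((map_eq_one_iff σ σ.injective).1 (hr.trans (Subtype.ext h))) fun h' => ?_
        exact hz1 (congrArg Subtype.val h')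
      · exact hr.trans (Subtype.ext h)
    have hσa : σ aS = aS := by
      by_cases ha1 : a = 1
      · rw [show aS = 1 from Subtype.ext ha1, map_one]
      · refine Subtype.ext (hA₁ _ _ (hSA E₁ hE₁ σ hσ aS ha) ha (fun h => ha1 ?_) ha1)
        exact congrArg Subtype.val ((map_eq_one_iff σ σ.injective).1 (Subtype.ext h : σ aS = 1))
    rw [show c = aS * zS ^ i from Subtype.ext hi, map_mul, map_pow, hσa, hσz]
  -- the subgroup generated by the two planes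
  have hne12 : w₁ * w₂ ≠ w₂ * w₁ := fun h => hw₂₁
    (hC E₁ hE₁ w₁ hw₁E hw₁c w₂ (hE₂.1.1 hw₂E) h.symm)
  set zS : S := ⟨z, hzS⟩ with hzSd
  set v₁ : S := ⟨w₁, hE₁.1.1 hw₁E⟩ with hv₁
  set v₂ : S := ⟨w₂, hE₂.1.1 hw₂E⟩ with hv₂
  have hyw : v₂ * v₁ * v₂⁻¹ = v₁ * zS := by
    obtain ⟨i, hi⟩ := hz.conj v₂.2 v₁.2
    rcases hz01 i with h | h <;> rw [h] at hi
    · rw [mul_one, mul_inv_eq_iff_eq_mul] at hi
      exact absurd hi.symm hne12
    · exact Subtype.ext hi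
  have hzc : zS ∈ Subgroup.center S := (mem_centerOf_iff zS).1 hz.mem
  have hord : orderOf zS = 2 := by rw [← Subgroup.orderOf_coe]; exact hz.order
  have hcexp : ∀ a ∈ Subgroup.center S, a ^ 2 = 1 := fun a ha =>
    Subtype.ext (hc2 a ((mem_centerOf_iff a).2 ha))
  have hgen : ∀ g : S, ∃ a ∈ Subgroup.center S, ∃ j k : ℕ, g = a * v₁ ^ j * v₂ ^ k := fun g => by
    obtain ⟨c, hc, j, k, hg⟩ := hz.span w₁ v₁.2 w₂ v₂.2 hne12 g g.2
    refine ⟨⟨c, centerOf_le S hc⟩, (mem_centerOf_iff _).1 hc, j, k, Subtype.ext ?_⟩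
    simpa [hv₁, hv₂] using hg
  obtain ⟨T₀, A₀, hv₁T, hv₂T, -, hT₀, -, -⟩ :=
    PGroups.exists_times_elementary hord hzc (Subtype.ext hw₁2) (Subtype.ext hw₂2) hyw hcexp hgen
  have hzT : zS ∈ T₀ := by
    rw [show zS = v₁⁻¹ * (v₂ * v₁ * v₂⁻¹) by rw [hyw, inv_mul_cancel_left]]
    exact T₀.mul_mem (T₀.inv_mem hv₁T) (T₀.mul_mem (T₀.mul_mem hv₂T hv₁T) (T₀.inv_mem hv₂T))
  set T : Subgroup Ω := T₀.map S.subtype with hT
  have hzT' : z ∈ T := ⟨zS, hzT, rfl⟩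
  have hd : ⁅S, S⁆ ≤ T := Subgroup.commutator_le.2 fun a ha b hb =>
    (Subgroup.zpowers_le.2 hzT') (hz.comm a ha b hb)
  have hplane : ∀ w : Ω, w ∈ T → ∀ v ∈ ({z, w, z * w} : Set Ω), v ∈ T := by
    intro w hw v hv
    simp only [Set.mem_insert_iff, Set.mem_singleton_iff] at hv
    rcases hv with rfl | rfl | rfl
    · exact hzT'
    · exact hw
    · exact T.mul_mem hzT' hw
  -- every map moves elements within their cosets of `T`
  have hessmove : ∀ E (hE : F.IsEssential 2 E) (w : Ω) (hwE : w ∈ E), w ∈ T →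
      (∀ e ∈ E, ∃ a ∈ autFixed F E, ∃ i j : ℕ, e = a * z ^ i * w ^ j) →
      (∀ δ ∈ F.autGroup E, ∃ σ ∈ F.autGroup S,
        (∀ a : E, (a : Ω) ∈ autFixed F E →
          ((σ ⟨a, hE.1.1 a.2⟩ : S) : Ω) = ((δ a : E) : Ω)) ∧
        (∀ a : E, (a : Ω) = z ∨ (a : Ω) = w →
          ((δ a : E) : Ω) ∈ ({z, w, z * w} : Set Ω))) →
      ∀ δ ∈ F.autGroup E, ∀ e : E, (e : Ω)⁻¹ * ((δ e : E) : Ω) ∈ T := by
    intro E hE w hwE hwT hdec hmv δ hδ e
    obtain ⟨σ, hσ, hσa, hzw⟩ := hmv δ hδ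
    obtain ⟨a, ha, i, j, he⟩ := hdec e e.2
    have haE : a ∈ E := ha.1
    have hzE : z ∈ E := (ess_facts hS hF hz hE).1 hz.mem
    have hδa : ((δ ⟨a, haE⟩ : E) : Ω) = a := by
      rw [← hσa ⟨a, haE⟩ ha, hZfix σ hσ _ (autFixed_le_center ha)]
    rw [show e = (⟨a, haE⟩ : E) * (⟨z, hzE⟩ : E) ^ i * (⟨w, hwE⟩ : E) ^ j from Subtype.ext he,
      map_mul, map_mul, map_pow, map_pow]
    simp only [Subgroup.coe_mul, Subgroup.coe_pow, hδa]
    rw [show (a * z ^ i * w ^ j)⁻¹ * (a * ((δ ⟨z, hzE⟩ : E) : Ω) ^ i *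
        ((δ ⟨w, hwE⟩ : E) : Ω) ^ j) = (z ^ i * w ^ j)⁻¹ * (((δ ⟨z, hzE⟩ : E) : Ω) ^ i *
        ((δ ⟨w, hwE⟩ : E) : Ω) ^ j) by group]
    exact T.mul_mem (T.inv_mem (T.mul_mem (T.pow_mem hzT' i) (T.pow_mem hwT j)))
      (T.mul_mem (T.pow_mem (hplane w hwT _ (hzw _ (Or.inl rfl))) i)
        (T.pow_mem (hplane w hwT _ (hzw _ (Or.inr rfl))) j))
  have hSmove : ∀ σ ∈ F.autGroup S, ∀ s : S, (s : Ω)⁻¹ * ((σ s : S) : Ω) ∈ T := by
    intro σ hσ s
    have hcs : ∀ s : S, ∃ c : S, (c : Ω) ∈ centerOf S ∧ σ s = s * c := by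
      intro s
      have hfix1 : ∀ (E : Subgroup Ω) (hE : F.IsEssential 2 E) (v : S), (v : Ω) ∈ E →
          (v : Ω) ∉ centerOf S → ∃ c : S, (c : Ω) ∈ centerOf S ∧ σ v = c * v := by
        intro E hE v hv hvc
        obtain ⟨c, hc, h⟩ := hcoset E hE v hv hvc _ (hpres E hE σ hσ v hv) (fun h => hvc (by
          have := aut_center (σ := σ⁻¹) h
          rwa [MulAut.inv_apply_self] at this))
        exact ⟨⟨c, centerOf_le S hc⟩, hc, Subtype.ext h⟩
      obtain ⟨c₁, hc₁, h₁⟩ := hfix1 E₁ hE₁ v₁ hw₁E hw₁c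
      obtain ⟨c₂, hc₂, h₂⟩ := hfix1 E₂ hE₂ v₂ hw₂E hw₂c
      obtain ⟨a, ha, j, k, rfl⟩ := hgen s
      have hcom : ∀ (c : S), (c : Ω) ∈ centerOf S → ∀ g : S, Commute g c := fun c hc g =>
        Subgroup.mem_center_iff.1 ((mem_centerOf_iff c).1 hc) g
      refine ⟨c₁ ^ j * c₂ ^ k, (centerOf S).mul_mem (Subgroup.pow_mem _ hc₁ j)
        (Subgroup.pow_mem _ hc₂ k), ?_⟩
      rw [map_mul, map_mul, map_pow, map_pow, hZfix σ hσ a ((mem_centerOf_iff a).2 ha), h₁, h₂,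
        (hcom c₁ hc₁ v₁).symm.mul_pow, (hcom c₂ hc₂ v₂).symm.mul_pow,
        ((hcom c₁ hc₁ (v₁ ^ j)).pow_right j).symm.eq]
      have h4 : Commute (v₂ ^ k) (c₁ ^ j) := (hcom c₁ hc₁ _).pow_right j
      have h5 : Commute (v₂ ^ k) (c₂ ^ k) := (hcom c₂ hc₂ _).pow_right k
      simp only [mul_assoc]
      rw [h5.symm.eq, ← mul_assoc (c₁ ^ j), h4.symm.eq, mul_assoc]
    have hinv : σ * σ = 1 := by
      refine MulEquiv.ext fun s => ?_
      obtain ⟨c, hc, h⟩ := hcs s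
      show σ (σ s) = s
      rw [h, map_mul, h, hZfix σ hσ c hc, mul_assoc,
        show c * c = 1 from Subtype.ext (by rw [Subgroup.coe_mul, ← pow_two]; exact hc2 _ hc),
        mul_one]
    obtain ⟨g, hg⟩ := hm σ hσ
    rw [pow_eq_pow_mod m (show σ ^ 2 = 1 by rw [pow_two, hinv]), hoddm, pow_one] at hg
    obtain ⟨i, hi⟩ := hz.conj g.2 s.2
    rw [← hg]
    show (s : Ω)⁻¹ * ((g : Ω) * s * (g : Ω)⁻¹) ∈ T
    rw [hi, inv_mul_cancel_left]
    exact T.pow_mem hzT' i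
  have hle : F ≤ cosetSystem F T hd := alperin hS hF _ fun P hP α hα => by
    have hPS : P ≤ S := by
      rcases hP with rfl | h
      · exact le_rfl
      · exact h.1.1
    refine (mem_autGroup_iff hPS).2 ⟨(mem_autGroup_iff hPS).1 hα, fun x => ?_⟩
    rcases hP with rfl | hP
    · exact hSmove α hα x
    · rcases hall P hP with rfl | rfl
      · exact hessmove _ hP w₁ hw₁E ⟨v₁, hv₁T, rfl⟩ hdec₁ hmv₁ α hα x
      · exact hessmove _ hP w₂ hw₂E ⟨v₂, hv₂T, rfl⟩ hdec₂ hmv₂ α hα x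
  have hST : S ≤ T := by
    conv_lhs => rw [← hhyp]
    rw [FusionSystem.hyperfocalSubgroup, Subgroup.closure_le]
    rintro _ ⟨P, α, x, hP, -, rfl⟩
    exact (hle P ((mem_autGroup_iff hP).1 α.2)).2 x
  have hcardS : Nat.card S = 2 ^ 3 := by
    rw [le_antisymm hST (Subgroup.map_subtype_le T₀), hT, Subgroup.card_subtype, hT₀]
  refine ⟨hcardS, ?_⟩
  obtain ⟨A, iA, -, ⟨e⟩⟩ := (PGroups.extraspecial_times_elementary_shapes hord hzc
    (Subtype.ext hw₁2) (Subtype.ext hw₂2) hyw hcexp hgen).1 rfl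
  have hA1 : Nat.card A = 1 := by
    have h := Nat.card_congr e.toEquiv
    rw [hcardS, Nat.card_prod, DihedralGroup.nat_card] at h
    omega
  obtain ⟨hsub, -⟩ := Nat.card_eq_one_iff_unique.1 hA1
  letI : Unique A := { default := 1, uniq := fun a => Subsingleton.elim a 1 }
  exact ⟨e.trans MulEquiv.prodUnique⟩

end CfsgLib.Fusion
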