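import Cfsg.Agent.Lib.Fusion.LayerSplit

/-!
# The factors of a central product are normal in it
-/

set_option autoImplicit false
set_option maxHeartbeats 800000
set_option linter.unusedSectionVars false

namespace CfsgLib.Fusion.Closed

open Cfsg Cfsg.FusionSystem CfsgLib.Fusion

universe u

variable {Ω : Type u} [Group Ω] {S S₁ S₂ T : Subgroup Ω} {F : FusionSystem S}
  {F₁ : FusionSystem S₁} {F₂ : FusionSystem S₂} {p : ℕ}

/-- A subsystem over a commuting factor is normal. -/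
theorem normal_of_factor [Fact p.Prime] [Finite S] (hF : F.IsSaturated p) (h₁ : F₁.IsSaturated p)
    (hsub : F₁.IsSubsystemOf F) (hcomm : ∀ x ∈ S₁, ∀ y ∈ S₂, x * y = y * x)
    (hsplit : ∀ u ∈ S, ∃ x ∈ S₁, ∃ y ∈ S₂, u = x * y)
    (hres : ∀ (P : Subgroup Ω) (φ : P →* Ω), P ≤ S₁ → φ ∈ F.Hom P → φ ∈ F₁.Hom P)
    (hext : ∀ a ∈ F₁.Hom S₁, ∃ φ ∈ F.Hom S, (∀ (x : S₁) (h : (x : Ω) ∈ S), φ ⟨x, h⟩ = a x) ∧
      ∀ y : S, (y : Ω) ∈ S₂ → φ y = y) :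
    F₁.IsNormalIn F p := by
  have hS₁ : S₁ ≤ S := IsSubsystemOf.le hsub
  have := finite_le hS₁
  have haut : ∀ {α : MulAut S₁}, α ∈ F.autGroup S₁ → α ∈ F₁.autGroup S₁ := fun {α} hα =>
    (mem_autGroup_iff le_rfl).2 (hres _ _ le_rfl ((mem_autGroup_iff hS₁).1 hα))
  have hi := isInvariantIn_refl (F := F₁)
  refine ⟨⟨h₁, hF, hsub,
    ⟨hS₁, fun R hR φ hφ x => hom_apply_mem (hres R φ hR hφ) x⟩,
    fun P hP φ hφ α hα => hi.2.2.1 P hP φ hφ α (haut hα), fun P hP φ hφ => ?_⟩, fun α hα => ?_⟩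
  · exact ⟨1, one_mem _, φ, hres P φ hP hφ, fun x hx => rfl⟩
  obtain ⟨φ, hφ, hφ₁, hφ₂⟩ := hext _ ((mem_autGroup_iff le_rfl).1 hα)
  set M := S₁ ⊔ centralizerIn S S₁ with hM
  have hMS : M ≤ S := sup_centralizerIn_le_S hS₁
  have hcx : ∀ (c : Ω), c ∈ centralizerIn S S₁ → ∃ (x : S₁) (y : Ω), y ∈ S₂ ∧ c = x * y ∧
      ∀ v ∈ S₁, v * x = (x : Ω) * v := by
    intro c hc
    obtain ⟨x, hx, y, hy, rfl⟩ := hsplit c hc.1
    refine ⟨⟨x, hx⟩, y, hy, rfl, fun v hv => ?_⟩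
    have h1 := (mem_centralizerIn.1 hc).2 v hv
    rw [mul_assoc x y v, ← hcomm v hv y hy, ← mul_assoc, ← mul_assoc] at h1
    exact mul_right_cancel h1
  have hS₂C : ∀ y ∈ S₂, y ∈ S → y ∈ centralizerIn S S₁ := fun y hy hyS =>
    mem_centralizerIn.2 ⟨hyS, fun v hv => hcomm v hv y hy⟩
  have hSM : S ≤ M ⊔ ⊥ := fun u hu => by
    obtain ⟨x, hx, y, hy, rfl⟩ := hsplit u hu
    refine Subgroup.mem_sup_left (mul_mem (Subgroup.mem_sup_left hx) (Subgroup.mem_sup_right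
      (hS₂C y hy ?_)))
    have h1 := S.mul_mem (S.inv_mem (hS₁ hx)) hu
    rwa [inv_mul_cancel_left] at h1
  have := finite_le hMS
  obtain ⟨β, hβ, hβv⟩ := exists_iso (restrict_mem hφ hMS) (Q := M) (Subgroup.eq_of_le_of_card_ge
    (fun u hu => by
      obtain ⟨w, rfl⟩ := hu
      have := hSM (hom_apply_mem (restrict_mem hφ hMS) w)
      rwa [sup_bot_eq] at this)
    (Nat.card_congr (MonoidHom.ofInjective (F.injective_of_mem (restrict_mem hφ hMS))).toEquiv).le)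
  refine ⟨β, (mem_autGroup_iff_isoIn hMS).2 hβ, fun x => (hβv _).trans (hφ₁ x _), fun c hc => ?_⟩
  obtain ⟨x, y, hy, hcxy, hxc⟩ := hcx c hc
  have hyS : y ∈ S := by
    have h1 := S.mul_mem (S.inv_mem (hS₁ x.2)) hc.1
    rwa [hcxy, inv_mul_cancel_left] at h1
  have h1 : φ (Subgroup.inclusion hMS c) = (α x : Ω) * y := by
    rw [show Subgroup.inclusion hMS c = ⟨(x : Ω), hS₁ x.2⟩ * ⟨y, hyS⟩ from Subtype.ext hcxy,
      map_mul, hφ₁ x, hφ₂ ⟨y, hyS⟩ hy]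
    rfl
  have hmem : (x : Ω)⁻¹ * (α x : Ω) ∈ S₁ ⊓ Subgroup.centralizer (S₁ : Set Ω) := by
    refine ⟨S₁.mul_mem (S₁.inv_mem x.2) (α x).2, ?_⟩
    have hαx : ∀ v ∈ S₁, v * (α x : Ω) = (α x : Ω) * v := fun v hv => by
      have h2 := congrArg Subtype.val (congrArg α (Subtype.ext (hxc _ (α⁻¹ ⟨v, hv⟩).2) :
        α⁻¹ ⟨v, hv⟩ * x = x * α⁻¹ ⟨v, hv⟩))
      simpa only [map_mul, MulAut.apply_inv_self, Subgroup.coe_mul] using h2
    intro v hv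
    rw [← mul_assoc, show v * (x : Ω)⁻¹ = (x : Ω)⁻¹ * v by
      rw [eq_inv_mul_iff_mul_eq, ← mul_assoc, ← hxc v hv, mul_inv_cancel_right], mul_assoc,
      hαx v hv, mul_assoc]
  show (c : Ω)⁻¹ * ((β c : M) : Ω) ∈ _
  rw [hβv, MonoidHom.comp_apply, h1, hcxy, show ((x : Ω) * y)⁻¹ * ((α x : Ω) * y) =
    y⁻¹ * (((x : Ω)⁻¹ * (α x : Ω)) * y) by group, hcomm _ hmem.1 y hy, inv_mul_cancel_left]
  exact hmem

/-- The factors of a saturated central product are normal in it. -/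
theorem factors_normal [Fact p.Prime] [Finite S] (hF : F.IsSaturated p) (h₁ : F₁.IsSaturated p)
    (h₂ : F₂.IsSaturated p) (h₁F : F₁.IsSubsystemOf F) (h₂F : F₂.IsSubsystemOf F)
    (hc : IsCentralProductOf F₁ F₂ F) :
    F₁.IsNormalIn F p ∧ F₂.IsNormalIn F p ∧ (∀ x ∈ S₁, ∀ y ∈ S₂, x * y = y * x) ∧
      ∀ u ∈ S, ∃ x ∈ S₁, ∃ y ∈ S₂, u = x * y := by
  obtain ⟨D₀, hD₀, Z, θ, hZc, -, -, hθ1, hθ2, hZS, hθk, hr, hiff⟩ := hc
  obtain rfl : D₀ = prodSystem F₁ F₂ := eq_prodSystem hD₀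
  have := finite_le (IsSubsystemOf.le h₁F)
  have := finite_le (IsSubsystemOf.le h₂F)
  have : Finite ↥(S₁.prod S₂) := Finite.of_equiv _ (Subgroup.prodEquiv S₁ S₂).symm.toEquiv
  have hθ : ∀ w : S₁.prod S₂, θ w = (w : Ω × Ω).1 * (w : Ω × Ω).2 := by
    rintro ⟨⟨x, y⟩, hx, hy⟩
    have h1 : ((x, 1) : Ω × Ω) ∈ S₁.prod S₂ := ⟨hx, S₂.one_mem⟩
    have h2 : ((1, y) : Ω × Ω) ∈ S₁.prod S₂ := ⟨S₁.one_mem, hy⟩
    rw [show (⟨(x, y), hx, hy⟩ : S₁.prod S₂) = ⟨(x, 1), h1⟩ * ⟨(1, y), h2⟩ from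
      Subtype.ext (Prod.ext (mul_one x).symm (one_mul y).symm), map_mul, hθ1, hθ2]
    exact congrArg₂ (· * ·) (mul_one x).symm (one_mul y).symm
  have hcomm : ∀ x ∈ S₁, ∀ y ∈ S₂, x * y = y * x := fun x hx y hy => by
    have h1 : ((x, 1) : Ω × Ω) ∈ S₁.prod S₂ := ⟨hx, S₂.one_mem⟩
    have h2 : ((1, y) : Ω × Ω) ∈ S₁.prod S₂ := ⟨S₁.one_mem, hy⟩
    have h3 := map_mul θ ⟨(1, y), h2⟩ ⟨(x, 1), h1⟩
    rw [hθ, hθ2, hθ1] at h3
    simpa using h3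
  have hsplit : ∀ u ∈ S, ∃ x ∈ S₁, ∃ y ∈ S₂, u = x * y := fun u hu => by
    obtain ⟨w, rfl⟩ := hr.ge hu
    exact ⟨_, w.2.1, _, w.2.2, hθ w⟩
  have hzsc : (prodSystem F₁ F₂).StronglyClosed Z := ⟨hZS, fun R hR φ hφ x => by
    rw [show φ x = (x : Ω × Ω) from Central.center_fix (hZc (hR x.2)) hφ x.2]
    exact hR x.2⟩
  have hv : ∀ {P : Subgroup Ω} {φ₀ : preimageAlong θ P →* Ω × Ω} {φ : P →* Ω},
      InducedAlong θ φ₀ φ → ∀ (w : preimageAlong θ P) (hm : (w : Ω × Ω).1 * (w : Ω × Ω).2 ∈ P),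
      φ ⟨_, hm⟩ = (φ₀ w).1 * (φ₀ w).2 := fun {P φ₀ φ} h w hm => by
    obtain ⟨hle, hval, hmem, hvv⟩ := h
    exact (congrArg φ (Subtype.ext (hθ ⟨(w : Ω × Ω), hle w.2⟩).symm)).trans ((hvv w).trans (hθ _))
  have hpre : ∀ {P : Subgroup Ω} {x y : Ω}, x ∈ S₁ → y ∈ S₂ → x * y ∈ P →
      ((x, y) : Ω × Ω) ∈ preimageAlong θ P := fun {P x y} hx hy h =>
    (mem_preimageAlong (x := (⟨(x, y), hx, hy⟩ : S₁.prod S₂))).2 ((hθ _).symm ▸ h)
  have hres₁ : ∀ (P : Subgroup Ω) (φ : P →* Ω), P ≤ S₁ → φ ∈ F.Hom P → φ ∈ F₁.Hom P := by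
    intro P φ hP hφ
    obtain ⟨-, φ₀, ⟨-, a, ha, b, -, rfl⟩, hind⟩ := (hiff P φ).1 hφ
    have hle : P ≤ projL (preimageAlong θ P) := fun x hx =>
      ⟨(x, 1), hpre (hP hx) S₂.one_mem (by rwa [mul_one]), rfl⟩
    refine hom_congr (restrict_mem ha hle) fun x => ?_
    have hm : ((x : Ω), (1 : Ω)) ∈ preimageAlong θ P :=
      hpre (hP x.2) S₂.one_mem (by rw [mul_one]; exact x.2)
    refine (congrArg φ (Subtype.ext (mul_one _).symm)).trans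
      ((hv hind ⟨_, hm⟩ (by rw [mul_one]; exact x.2)).trans ?_)
    rw [pairHom_apply, show toProjR (preimageAlong θ P) ⟨_, hm⟩ = 1 from Subtype.ext rfl, map_one,
      mul_one]
    rfl
  have hres₂ : ∀ (P : Subgroup Ω) (φ : P →* Ω), P ≤ S₂ → φ ∈ F.Hom P → φ ∈ F₂.Hom P := by
    intro P φ hP hφ
    obtain ⟨-, φ₀, ⟨-, a, -, b, hb, rfl⟩, hind⟩ := (hiff P φ).1 hφ
    have hle : P ≤ projR (preimageAlong θ P) := fun x hx =>
      ⟨(1, x), hpre S₁.one_mem (hP hx) (by rwa [one_mul]), rfl⟩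
    refine hom_congr (restrict_mem hb hle) fun x => ?_
    have hm : ((1 : Ω), (x : Ω)) ∈ preimageAlong θ P :=
      hpre S₁.one_mem (hP x.2) (by rw [one_mul]; exact x.2)
    refine (congrArg φ (Subtype.ext (one_mul _).symm)).trans
      ((hv hind ⟨_, hm⟩ (by rw [one_mul]; exact x.2)).trans ?_)
    rw [pairHom_apply, show toProjL (preimageAlong θ P) ⟨_, hm⟩ = 1 from Subtype.ext rfl, map_one,
      one_mul]
    rfl
  have hpair : ∀ a ∈ F₁.Hom S₁, ∀ b ∈ F₂.Hom S₂, ∃ φ ∈ F.Hom S,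
      ∀ (x : S₁) (y : S₂) (h : (x : Ω) * y ∈ S), φ ⟨_, h⟩ = a x * b y := by
    intro a ha b hb
    have hL : projL (preimageAlong θ S) ≤ S₁ := by
      rintro _ ⟨_, ⟨w, -, rfl⟩, rfl⟩
      exact w.2.1
    have hR : projR (preimageAlong θ S) ≤ S₂ := by
      rintro _ ⟨_, ⟨w, -, rfl⟩, rfl⟩
      exact w.2.2
    have hφ₀ : pairHom (a.comp (Subgroup.inclusion hL)) (b.comp (Subgroup.inclusion hR)) ∈
        (prodSystem F₁ F₂).Hom (preimageAlong θ S) :=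
      ⟨preimageAlong_le _ _, _, restrict_mem ha hL, _, restrict_mem hb hR, rfl⟩
    obtain ⟨φ, hind⟩ := exists_induced hzsc hθk hr.ge hφ₀
    exact ⟨φ, (hiff S φ).2 ⟨le_rfl, _, hφ₀, hind⟩,
      fun x y h => hv hind ⟨_, hpre x.2 y.2 h⟩ h⟩
  refine ⟨normal_of_factor hF h₁ h₁F hcomm hsplit hres₁ fun a ha => ?_,
    normal_of_factor hF h₂ h₂F (fun y hy x hx => (hcomm x hx y hy).symm)
      (fun u hu => ?_) hres₂ fun b hb => ?_, hcomm, hsplit⟩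
  · obtain ⟨φ, hφ, hφv⟩ := hpair a ha S₂.subtype (incl_mem le_rfl)
    refine ⟨φ, hφ, fun x h => ?_, fun y hy => ?_⟩
    · exact (congrArg φ (Subtype.ext (mul_one _).symm)).trans
        ((hφv x 1 (by rw [OneMemClass.coe_one, mul_one]; exact h)).trans
          (by rw [map_one, mul_one]))
    · exact (congrArg φ (Subtype.ext (one_mul _).symm)).trans
        ((hφv 1 ⟨y, hy⟩ (by rw [OneMemClass.coe_one, one_mul]; exact y.2)).trans
          (by rw [map_one, one_mul]; rfl))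
  · obtain ⟨x, hx, y, hy, rfl⟩ := hsplit u hu
    exact ⟨y, hy, x, hx, hcomm x hx y hy⟩
  · obtain ⟨φ, hφ, hφv⟩ := hpair S₁.subtype (incl_mem le_rfl) b hb
    refine ⟨φ, hφ, fun y h => ?_, fun x hx => ?_⟩
    · exact (congrArg φ (Subtype.ext (one_mul _).symm)).trans
        ((hφv 1 y (by rw [OneMemClass.coe_one, one_mul]; exact h)).trans
          (by rw [map_one, one_mul]))
    · exact (congrArg φ (Subtype.ext (mul_one _).symm)).trans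
        ((hφv ⟨x, hx⟩ 1 (by rw [OneMemClass.coe_one, mul_one]; exact x.2)).trans
          (by rw [map_one, mul_one]; rfl))

/-- A component of a central product is a component of a factor. -/
theorem component_of_centralProduct [Fact p.Prime] [Finite S] (hS : IsPGroup p S)
    (hF : F.IsSaturated p) (h₁ : F₁.IsSaturated p) (h₂ : F₂.IsSaturated p)
    (h₁F : F₁.IsSubsystemOf F) (h₂F : F₂.IsSubsystemOf F) (hc : IsCentralProductOf F₁ F₂ F)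
    {C : FusionSystem T} (hC : C.IsComponentIn F p) :
    C.IsComponentIn F₁ p ∨ C.IsComponentIn F₂ p := by
  obtain ⟨hn₁, hn₂, -, hsplit⟩ := factors_normal hF h₁ h₂ h₁F h₂F hc
  by_cases hT₁ : T ≤ S₁
  · exact Or.inl (component_of_le hS hF hC hn₁ hT₁)
  by_cases hT₂ : T ≤ S₂
  · exact Or.inr (component_of_le hS hF hC hn₂ hT₂)
  refine (component_not_abelian hS hC fun t ht s hs => ?_).elim
  obtain ⟨x, hx, y, hy, rfl⟩ := hsplit s (component_le hC hs)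
  rw [← mul_assoc, component_commutes hS hF hC hn₁ hT₁ t ht x hx, mul_assoc,
    component_commutes hS hF hC hn₂ hT₂ t ht y hy, mul_assoc]

end CfsgLib.Fusion.Closed
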