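import Cfsg.Agent.Lib.Fusion.Centric
import Cfsg.Agent.Lib.Fusion.Series

/-!
Centricity inside a strongly closed subgroup: the traces of centric radical subgroups.
-/

set_option autoImplicit false

namespace CfsgLib.Fusion

open Cfsg Cfsg.FusionSystem
open scoped Pointwise

variable {Ω : Type*} [Group Ω] {S T : Subgroup Ω} {F : FusionSystem S} {p : ℕ}

/-- If `σ a = a * d` and `σ d = d` then `σ ^ n` moves `a` by `d ^ n`. -/
theorem pow_shift {M : Type*} [Group M] (σ : MulAut M) {a d : M} (h : σ a = a * d) (hd : σ d = d) :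
    ∀ n : ℕ, (σ ^ n) a = a * d ^ n := by
  intro n
  induction n with
  | zero => simp
  | succ n ih =>
    rw [pow_succ', MulAut.mul_apply, ih, map_mul, map_pow, h, hd, mul_assoc, pow_succ']

/-- Centric inside the strongly closed subgroup `T`, for all conjugates in `F`. -/
def TCentric (F : FusionSystem S) (T Q : Subgroup Ω) : Prop :=
  Q ≤ T ∧ ∀ Q' : Subgroup Ω, F.IsConj Q Q' → centralizerIn T Q' ≤ Q'

theorem TCentric.mono {Q N : Subgroup Ω} (hQ : TCentric F T Q) (hQN : Q ≤ N) (hN : N ≤ T) :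
    TCentric F T N := by
  refine ⟨hN, ?_⟩
  rintro _ ⟨φ, hφ, rfl⟩
  exact (centralizerIn_antitone (S := T) (img_le_range φ Q)).trans
    ((hQ.2 _ (isConj_img hφ hQN)).trans (img_le_range φ Q))

theorem TCentric.conj {Q Q' : Subgroup Ω} (hQ : TCentric F T Q) (hT : F.StronglyClosed T)
    (h : F.IsConj Q Q') : TCentric F T Q' := by
  refine ⟨?_, fun R hR => hQ.2 R (isConj_trans h hR)⟩
  obtain ⟨φ, hφ, rfl⟩ := h
  rintro _ ⟨x, rfl⟩
  exact hT.2 Q hQ.1 φ hφ x

/-- The trace of a centric radical subgroup on a strongly closed subgroup is centric in it. -/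
theorem tCentric_inf_of_radical [Fact p.Prime] [Finite S] (hS : IsPGroup p S)
    (hF : F.IsSaturated p) (hT : F.StronglyClosed T) {R : Subgroup Ω} (hc : F.IsCentric R)
    (hr : F.IsRadical p R)
    (hcongr : ∀ {A B : Subgroup Ω} {e : A ≃* B}, IsoIn F e → F.IsRadical p A → F.IsRadical p B) :
    TCentric F T (R ⊓ T) := by
  classical
  have hRS := hc.1
  have hQS : R ⊓ T ≤ S := inf_le_left.trans hRS
  obtain ⟨Qs, hQQs, hQsn⟩ := exists_fullyNormalized (F := F) hQS
  have hQsc := IsSaturated.fullyCentralized hS hF hQsn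
  obtain ⟨f, hf, -, himg⟩ := exists_normalizer_map hS (IsSaturated.fullyAutomized hS hF hQsn)
    (IsSaturated.receptive hS hF hQsc) hQQs
  have hnormT : ∀ s ∈ S, ∀ x ∈ T, s * x * s⁻¹ ∈ T := fun s hs x hx =>
    hT.2 T le_rfl _ (F.conj_mem hT.1 hs) ⟨x, hx⟩
  have hRN : R ≤ normalizerIn S (R ⊓ T) := fun r hr' => ⟨hRS hr', by
    refine Subgroup.mem_normalizer_iff.2 fun x => ⟨fun hx => ⟨?_, hnormT r (hRS hr') x hx.2⟩,
      fun hx => ⟨?_, ?_⟩⟩
    · exact R.mul_mem (R.mul_mem hr' hx.1) (R.inv_mem hr')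
    · have := R.mul_mem (R.mul_mem (R.inv_mem hr') hx.1) hr'
      simpa [mul_assoc] using this
    · have := hnormT r⁻¹ (S.inv_mem (hRS hr')) _ hx.2
      simpa [mul_assoc] using this⟩
  set R' := img f R with hR'
  obtain ⟨d, hd, hdv⟩ := exists_iso (Q := R') (restrict_mem hf hRN) (range_restrict f hRN)
  have hc' : F.IsCentric R' := isCentric_of_isConj hc hd.isConj
  have hr' : F.IsRadical p R' := hcongr hd hr
  have hR'S := hc'.1
  -- the trace of `R'`
  have htrace : R' ⊓ T = Qs := by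
    rw [← himg]
    refine le_antisymm ?_ ?_
    · rintro y ⟨⟨x, hx, rfl⟩, hyT⟩
      have h1 : ((d.symm ⟨f x, x, hx, rfl⟩ : R) : Ω) ∈ T := by
        have := hT.2 (R' ⊓ T) inf_le_right _
          (restrict_mem hd.symm.mem (inf_le_left : R' ⊓ T ≤ R')) ⟨f x, ⟨x, hx, rfl⟩, hyT⟩
        exact this
      have h2 : d.symm ⟨f x, x, hx, rfl⟩ = ⟨(x : Ω), hx⟩ := by
        rw [MulEquiv.symm_apply_eq]
        exact Subtype.ext (hdv ⟨(x : Ω), hx⟩).symm
      rw [h2] at h1
      exact ⟨x, ⟨hx, h1⟩, rfl⟩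
    · rintro _ ⟨x, hx, rfl⟩
      refine ⟨⟨x, hx.1, rfl⟩, ?_⟩
      exact hT.2 (R ⊓ T) inf_le_right _
        (restrict_mem hf (inf_le_left.trans hRN)) ⟨(x : Ω), hx⟩
  have hQsT : Qs ≤ T := htrace ▸ inf_le_right
  have hQsR : Qs ≤ R' := htrace ▸ inf_le_left
  have key : centralizerIn T Qs ≤ Qs := by
    by_contra hne
    have hnR : ¬ centralizerIn T Qs ≤ R' := fun h =>
      hne (fun x hx => htrace ▸ ⟨h hx, hx.1⟩)
    have hCS : centralizerIn T Qs ≤ S := (centralizerIn_le Qs).trans hT.1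
    have hR'C : R' ≤ Subgroup.normalizer (centralizerIn T Qs : Set Ω) := by
      have hconj : ∀ r ∈ R', ∀ x ∈ centralizerIn T Qs, r * x * r⁻¹ ∈ centralizerIn T Qs := by
        intro r hr x hx
        refine mem_centralizerIn.2 ⟨hnormT r (hR'S hr) x hx.1, fun q hq => ?_⟩
        have hq' : r⁻¹ * q * r ∈ Qs := by
          rw [← htrace] at hq ⊢
          refine ⟨R'.mul_mem (R'.mul_mem (R'.inv_mem hr) hq.1) hr, ?_⟩
          simpa using hnormT r⁻¹ (S.inv_mem (hR'S hr)) q hq.2
        have h1 := (mem_centralizerIn.1 hx).2 _ hq'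
        calc q * (r * x * r⁻¹) = r * (r⁻¹ * q * r * x) * r⁻¹ := by group
          _ = r * (x * (r⁻¹ * q * r)) * r⁻¹ := by rw [h1]
          _ = r * x * r⁻¹ * q := by group
      intro r hr
      refine Subgroup.mem_normalizer_iff.2 fun x => ⟨hconj r hr x, fun hx => ?_⟩
      have := hconj r⁻¹ (R'.inv_mem hr) _ hx
      simpa [mul_assoc] using this
    have hMS : R' ⊔ centralizerIn T Qs ≤ S := sup_le hR'S hCS
    have := finite_le hMS
    obtain ⟨g, hg, hgR⟩ := exists_mem_normalizerIn_not_mem (hS.to_le hMS)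
      (left_lt_sup.2 hnR)
    have hgm : g ∈ (R' : Set Ω) * (centralizerIn T Qs : Set Ω) := by
      rw [← Subgroup.coe_mul_of_left_le_normalizer_right R' _ hR'C]
      exact hg.1
    obtain ⟨r, hr₁, c, hc₁, rfl⟩ := hgm
    have hcR : c ∉ R' := fun h => hgR (R'.mul_mem hr₁ h)
    have hcN : c ∈ Subgroup.normalizer (R' : Set Ω) := by
      have := mul_mem (inv_mem (Subgroup.le_normalizer hr₁)) hg.2
      simpa using this
    set c' : normalizerIn S R' := ⟨c, hCS hc₁, hcN⟩ with hc'def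
    have hfin := finite_mulAut_of_le (S := S) hR'S
    have hQinv : ∀ a ∈ F.autGroup R', ∀ x : R', (x : Ω) ∈ Qs →
        (((a : MulAut R') x : R') : Ω) ∈ Qs := by
      intro a ha x hx
      rw [← htrace]
      exact ⟨(a x).2, hT.2 Qs hQsT _
        (restrict_mem ((mem_autGroup_iff hR'S).1 ha) hQsR) ⟨(x : Ω), hx⟩⟩
    let K : Subgroup (F.autGroup R') :=
      { carrier := {a | (∀ x : R', (x : Ω) ∈ Qs → (a : MulAut R') x = x) ∧
          ∀ x : R', ((x⁻¹ * (a : MulAut R') x : R') : Ω) ∈ Qs}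
        one_mem' := ⟨fun x _ => rfl, fun x => by simp⟩
        mul_mem' := fun {a b} ha hb => by
          refine ⟨fun x hx => ?_, fun x => ?_⟩
          · show (a : MulAut R') ((b : MulAut R') x) = x
            rw [hb.1 x hx, ha.1 x hx]
          · show ((x⁻¹ * (a : MulAut R') ((b : MulAut R') x) : R') : Ω) ∈ Qs
            have h1 : (a : MulAut R') ((b : MulAut R') x) =
                (a : MulAut R') x * (a : MulAut R') (x⁻¹ * (b : MulAut R') x) := by
              rw [← map_mul, mul_inv_cancel_left]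
            rw [h1, ha.1 _ (hb.2 x), ← mul_assoc]
            exact Qs.mul_mem (ha.2 x) (hb.2 x)
        inv_mem' := fun {a} ha => by
          refine ⟨fun x hx => ?_, fun x => ?_⟩
          · show (a : MulAut R')⁻¹ x = x
            conv_lhs => rw [← ha.1 x hx]
            exact MulAut.inv_apply_self R' _ x
          · show ((x⁻¹ * (a : MulAut R')⁻¹ x : R') : Ω) ∈ Qs
            have h2 := ha.2 ((a : MulAut R')⁻¹ x)
            rw [MulAut.apply_inv_self] at h2
            have h3 := Qs.inv_mem h2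
            simpa using h3 }
    have hKn : K.Normal := by
      refine ⟨fun b hb a => ⟨fun x hx => ?_, fun x => ?_⟩⟩
      · show (a : MulAut R') ((b : MulAut R') ((a : MulAut R')⁻¹ x)) = x
        rw [hb.1 _ (hQinv _ (Subgroup.inv_mem _ a.2) x hx), MulAut.apply_inv_self]
      · show ((x⁻¹ * (a : MulAut R') ((b : MulAut R') ((a : MulAut R')⁻¹ x)) : R') : Ω) ∈ Qs
        have h1 := hQinv _ a.2 _ (hb.2 ((a : MulAut R')⁻¹ x))
        rw [map_mul, map_inv, MulAut.apply_inv_self] at h1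
        exact h1
    have hKp : IsPGroup p K := by
      intro a
      have := finite_le (hQsR.trans hR'S)
      obtain ⟨n, hn⟩ := IsPGroup.iff_card.1 (hS.to_le (hQsR.trans hR'S))
      have := finite_le (hQsR.trans hR'S)
      refine ⟨n, Subtype.ext (Subtype.ext (MulEquiv.ext fun x => ?_))⟩
      have h2 := a.2.2 x
      have h1 := pow_shift ((a : F.autGroup R') : MulAut R')
        (mul_inv_cancel_left x _).symm (a.2.1 _ h2) (p ^ n)
      have := finite_le (hQsR.trans hR'S)
      have h3 : (x⁻¹ * ((a : F.autGroup R') : MulAut R') x) ^ p ^ n = 1 := Subtype.ext (by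
        have h4 := congrArg Subtype.val (pow_card_eq_one' (x := (⟨_, h2⟩ : Qs)))
        rw [hn] at h4
        rw [SubgroupClass.coe_pow] at h4 ⊢
        exact h4)
      rw [h3, mul_one] at h1
      rw [show ((((a ^ p ^ n : K) : F.autGroup R') : MulAut R') x) = x from by
        rw [SubgroupClass.coe_pow, SubgroupClass.coe_pow]; exact h1]
      rfl
    have hcK : (⟨conjAut c', autInducedBy_le_autGroup hR'S (conjAut_mem c')⟩ : F.autGroup R') ∈ K := by
      refine ⟨fun x hx => Subtype.ext ?_, fun x => ?_⟩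
      · show c * (x : Ω) * c⁻¹ = x
        have h1 := (mem_centralizerIn.1 hc₁).2 _ hx
        rw [← h1]
        group
      · have hxS := hR'S x.2
        have h2 : ((x⁻¹ * conjAut c' x : R') : Ω) ∈ R' ⊓ T := by
          refine ⟨(x⁻¹ * conjAut c' x).2, ?_⟩
          show (x : Ω)⁻¹ * (c * x * c⁻¹) ∈ T
          rw [show (x : Ω)⁻¹ * (c * x * c⁻¹) = (x : Ω)⁻¹ * c * ((x : Ω)⁻¹)⁻¹ * c⁻¹ by group]
          exact T.mul_mem (hnormT _ (S.inv_mem hxS) c hc₁.1) (T.inv_mem hc₁.1)
        rw [htrace] at h2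
        exact h2
    have := (isRadical_iff_le hS hR'S).1 hr' (Core.le_pCore hKp hcK)
    exact hcR (mem_of_conjAut_inn hc' c' this)
  refine ⟨inf_le_right, fun Q' hQ' y hy => ?_⟩
  have hQ'Qs : F.IsConj Q' Qs := isConj_trans (isConj_symm hQ') hQQs
  obtain ⟨e, he⟩ := isConj_iff.1 hQ'Qs
  obtain ⟨ψ, hψ, hag⟩ := exists_extension (IsSaturated.receptive hS hF hQsc) he le_sup_left
    (sup_le_extender he)
  have hyC : y ∈ centralizerIn S Q' := ⟨hT.1 hy.1, hy.2⟩
  set y' : ↥(Q' ⊔ centralizerIn S Q') := ⟨y, Subgroup.mem_sup_right hyC⟩ with hy'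
  have h1 : ψ y' ∈ centralizerIn T Qs := by
    refine ⟨?_, (extension_mem_centralizerIn hψ le_sup_left hag y' hyC).2⟩
    exact hT.2 (Subgroup.zpowers y) (Subgroup.zpowers_le.2 hy.1) _
      (restrict_mem hψ (Subgroup.zpowers_le.2 (Subgroup.mem_sup_right hyC)))
      ⟨y, Subgroup.mem_zpowers y⟩
  have h2 := key h1
  have h3 := hag (e.symm ⟨_, h2⟩)
  rw [MulEquiv.apply_symm_apply] at h3
  have h4 := F.injective_of_mem hψ h3
  rw [show y = ((e.symm ⟨_, h2⟩ : Q') : Ω) from (congrArg Subtype.val h4).symm]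
  exact SetLike.coe_mem _

end CfsgLib.Fusion
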