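import Cfsg.Agent.Lib.Fusion.KNormalizer
import Cfsg.Agent.Lib.Fusion.ClosedCentric
import Cfsg.Agent.Lib.Fusion.Biset.Park

/-!
# The focal subgroup of a centralizer system and automorphisms trivial modulo the centralized subgroup

For a fully centralized `R` an automorphism of `R C_S(R)` of order prime to `p` which preserves `R` and
is trivial on `C_S(R)` modulo `R` fixes the focal subgroup of `C_F(R)`.
-/

set_option autoImplicit false

namespace CfsgLib.Fusion

open Cfsg Cfsg.FusionSystem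
open scoped commutatorElement

universe u

variable {Ω : Type u} [Group Ω] {S : Subgroup Ω} {F : FusionSystem S} {p : ℕ}

/-- The automorphisms in the system of `W = R C_S(R)` preserving `R` and trivial modulo `R` on
`C_S(R)`. -/
def TrivAut (F : FusionSystem S) (R : Subgroup Ω)
    (x : MulAut ↥(R ⊔ centralizerIn S R)) : Prop :=
  x ∈ F.autGroup (R ⊔ centralizerIn S R) ∧
    (∀ r : ↥(R ⊔ centralizerIn S R), (r : Ω) ∈ R → ((x r : _) : Ω) ∈ R) ∧
    ∀ c : ↥(R ⊔ centralizerIn S R), (c : Ω) ∈ centralizerIn S R → ((c⁻¹ * x c : _) : Ω) ∈ R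

theorem sup_centralizerIn_le_S {R : Subgroup Ω} (hR : R ≤ S) : R ⊔ centralizerIn S R ≤ S :=
  sup_le hR (centralizerIn_le R)

theorem TrivAut.mul {R : Subgroup Ω} {x y : MulAut ↥(R ⊔ centralizerIn S R)}
    (hx : TrivAut F R x) (hy : TrivAut F R y) : TrivAut F R (x * y) := by
  refine ⟨mul_mem hx.1 hy.1, fun r hr => hx.2.1 _ (hy.2.1 r hr), fun c hc => ?_⟩
  have h1 : (x * y) c = x c * x (c⁻¹ * y c) := by
    rw [← map_mul, mul_inv_cancel_left]; rfl
  rw [h1, ← mul_assoc, Subgroup.coe_mul]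
  exact R.mul_mem (hx.2.2 c hc) (hx.2.1 _ (hy.2.2 c hc))

theorem TrivAut.one (R : Subgroup Ω) : TrivAut F R 1 :=
  ⟨one_mem _, fun r hr => hr, fun c _ => by simp⟩

theorem TrivAut.pow {R : Subgroup Ω} {x : MulAut ↥(R ⊔ centralizerIn S R)}
    (hx : TrivAut F R x) : ∀ n : ℕ, TrivAut F R (x ^ n) := by
  intro n
  induction n with
  | zero => rw [pow_zero]; exact TrivAut.one R
  | succ n ih => rw [pow_succ]; exact ih.mul hx

/-- A member of the system transported by an isomorphism of a larger subgroup. -/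
theorem exists_conjMap {W W' : Subgroup Ω} {e : W ≃* W'} (he : IsoIn F e) {K : Subgroup Ω}
    (hK : K ≤ W) {ψ : K →* Ω} (hψ : ψ ∈ F.Hom K) (hr : ∀ k, ψ k ∈ W) :
    ∃ χ ∈ F.Hom (img (isoHom e) K), ∀ (k : K) (h : ((e ⟨k, hK k.2⟩ : W') : Ω) ∈ img (isoHom e) K),
      χ ⟨_, h⟩ = ((e ⟨ψ k, hr k⟩ : W') : Ω) := by
  have hL : img (isoHom e) K ≤ W' := by
    rintro _ ⟨x, -, rfl⟩
    exact (e x).2
  have hι := restrict_mem he.symm.mem hL
  have hmem : ∀ y, ((isoHom e.symm).comp (Subgroup.inclusion hL)) y ∈ K := by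
    rintro ⟨_, x, hx, rfl⟩
    show ((e.symm ⟨((e x : W') : Ω), _⟩ : W) : Ω) ∈ K
    rw [show (⟨((e x : W') : Ω), hL ⟨x, hx, rfl⟩⟩ : W') = e x from rfl, MulEquiv.symm_apply_apply]
    exact hx
  have h1 := F.comp_mem hι hψ hmem
  refine ⟨(isoHom e).comp ((ψ.comp (((isoHom e.symm).comp (Subgroup.inclusion hL)).codRestrict K
      hmem)).codRestrict W fun y => hr _), comp_mem' h1 he.mem (fun y => hr _) (fun y => rfl),
    fun k h => ?_⟩
  show ((e ⟨ψ _, _⟩ : W') : Ω) = _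
  refine congrArg (fun z : W => ((e z : W') : Ω)) (Subtype.ext (congrArg ψ (Subtype.ext ?_)))
  show ((e.symm ⟨((e ⟨k, hK k.2⟩ : W') : Ω), _⟩ : W) : Ω) = k
  rw [show (⟨((e ⟨k, hK k.2⟩ : W') : Ω), hL h⟩ : W') = e ⟨k, hK k.2⟩ from rfl,
    MulEquiv.symm_apply_apply]

/-- The generators of the focal subgroup of the centralizer system of `R`. -/
def centFocal (F : FusionSystem S) (R : Subgroup Ω) : Subgroup Ω :=
  Subgroup.closure {y : Ω | ∃ (P : Subgroup Ω) (φ : P →* Ω) (x : P),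
    φ ∈ F.centralizerHom R P ∧ y = (x : Ω)⁻¹ * φ x}

theorem centFocal_eq {R : Subgroup Ω} {D : FusionSystem (centralizerIn S R)}
    (hD : F.IsCentralizerSystem R D) : D.focalSubgroup = centFocal F R := by
  refine congrArg Subgroup.closure (Set.ext fun y => ?_)
  simp only [Set.mem_setOf_eq, hD _]

theorem centFocal_le {R : Subgroup Ω} : centFocal F R ≤ centralizerIn S R := by
  refine (Subgroup.closure_le _).2 ?_
  rintro _ ⟨P, φ, x, hφ, rfl⟩
  exact mul_mem (Subgroup.inv_mem _ (hφ.2.1 x.2)) (hφ.2.2.1 x)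

theorem centFocal_antitone {R T : Subgroup Ω} (hRT : R ≤ T) :
    centFocal F T ≤ centFocal F R := by
  refine Subgroup.closure_mono ?_
  rintro _ ⟨P, φ, x, ⟨hφ, hP, hv, ψ, hψ, hψP, hψT⟩, rfl⟩
  have hanti : centralizerIn S T ≤ centralizerIn S R := centralizerIn_antitone hRT
  exact ⟨P, φ, x, ⟨hφ, hP.trans hanti, fun y => hanti (hv y), _,
    restrict_mem hψ (sup_le_sup_left hRT P), fun y => hψP y,
    fun r => hψT ⟨r, hRT r.2⟩⟩, rfl⟩

/-- A map fixing `R` displaces the elements of `C_S(R)` by focal elements. -/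
theorem shift_mem_centFocal {R L : Subgroup Ω} {χ : L →* Ω} (hχ : χ ∈ F.Hom L) (hRL : R ≤ L)
    (hfix : ∀ r : L, (r : Ω) ∈ R → χ r = r) (y : L) (hy : (y : Ω) ∈ centralizerIn S R) :
    (y : Ω)⁻¹ * χ y ∈ centFocal F R := by
  have hP : Subgroup.zpowers (y : Ω) ≤ L := Subgroup.zpowers_le.2 y.2
  refine Subgroup.subset_closure ⟨Subgroup.zpowers (y : Ω), χ.comp (Subgroup.inclusion hP),
    ⟨y, Subgroup.mem_zpowers _⟩, ⟨restrict_mem hχ hP, Subgroup.zpowers_le.2 hy, fun x => ?_,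
      _, restrict_mem hχ (sup_le hP hRL), fun x => rfl, fun r => hfix ⟨r, hRL r.2⟩ r.2⟩, rfl⟩
  refine mem_centralizerIn.2 ⟨hom_apply_mem hχ _, fun r hr => ?_⟩
  show r * χ (Subgroup.inclusion hP x) = χ (Subgroup.inclusion hP x) * r
  rw [show r = χ ⟨r, hRL hr⟩ from (hfix ⟨r, hRL hr⟩ hr).symm, ← map_mul, ← map_mul]
  refine congrArg χ (Subtype.ext ?_)
  exact (mem_centralizerIn.1 (Subgroup.zpowers_le.2 hy x.2)).2 r hr

theorem TrivAut.apply_centralizer {R : Subgroup Ω} {x : MulAut ↥(R ⊔ centralizerIn S R)}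
    (hR : R ≤ S) [Finite S] (hx : TrivAut F R x) (c : ↥(R ⊔ centralizerIn S R))
    (hc : (c : Ω) ∈ centralizerIn S R) : ((x c : _) : Ω) ∈ centralizerIn S R := by
  have hWS : R ⊔ centralizerIn S R ≤ S := sup_centralizerIn_le_S hR
  have := finite_le hWS
  have hpres : ∀ r : ↥(R ⊔ centralizerIn S R), (r : Ω) ∈ R → ∃ r' : ↥(R ⊔ centralizerIn S R), (r' : Ω) ∈ R ∧ x r' = r := by
    intro r hr
    let f : R → R := fun a => ⟨x ⟨a, le_sup_left (a := R) a.2⟩, hx.2.1 _ a.2⟩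
    have := finite_le hR
    have hf : Function.Injective f := fun a b h =>
      Subtype.ext (congrArg (fun z : ↥(R ⊔ centralizerIn S R) => (z : Ω)) (x.injective (Subtype.ext (congrArg Subtype.val h :))))
    obtain ⟨a, ha⟩ := Finite.surjective_of_injective hf ⟨r, hr⟩
    exact ⟨⟨a, le_sup_left (a := R) a.2⟩, a.2, Subtype.ext (congrArg Subtype.val ha :)⟩
  refine mem_centralizerIn.2 ⟨hWS (x c).2, fun r hr => ?_⟩
  obtain ⟨r', hr', hr'e⟩ := hpres ⟨r, le_sup_left (a := R) hr⟩ hr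
  have h : r' * c = c * r' := Subtype.ext ((mem_centralizerIn.1 hc).2 _ hr')
  have h' := congrArg x h
  rw [map_mul, map_mul, hr'e] at h'
  exact congrArg Subtype.val h'

/-- The displacement by such an automorphism is central in `C_S(R)`. -/
theorem TrivAut.shift_central {R : Subgroup Ω} {x : MulAut ↥(R ⊔ centralizerIn S R)}
    (hR : R ≤ S) [Finite S] (hx : TrivAut F R x) {c d : ↥(R ⊔ centralizerIn S R)}
    (hc : (c : Ω) ∈ centralizerIn S R) (hd : (d : Ω) ∈ centralizerIn S R) :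
    Commute (c⁻¹ * x c) d :=
  Subtype.ext ((mem_centralizerIn.1 hd).2 _ (hx.2.2 c hc))

theorem TrivAut.fix_commutator {R : Subgroup Ω} {x : MulAut ↥(R ⊔ centralizerIn S R)}
    (hR : R ≤ S) [Finite S] (hx : TrivAut F R x) (w : ↥(R ⊔ centralizerIn S R))
    (hw : (w : Ω) ∈ ⁅centralizerIn S R, centralizerIn S R⁆) : x w = w := by
  have hsub : ⁅(centralizerIn S R), (centralizerIn S R)⁆ ≤ ((x.toMonoidHom).eqLocus
      (MonoidHom.id _)).map (R ⊔ (centralizerIn S R)).subtype := by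
    refine Subgroup.commutator_le.2 fun a ha b hb => ?_
    let a' : ↥(R ⊔ (centralizerIn S R)) := ⟨a, le_sup_right (a := R) ha⟩
    let b' : ↥(R ⊔ (centralizerIn S R)) := ⟨b, le_sup_right (a := R) hb⟩
    refine ⟨⁅a', b'⁆, ?_, rfl⟩
    show x ⁅a', b'⁆ = ⁅a', b'⁆
    set u := a'⁻¹ * x a' with hu
    set v := b'⁻¹ * x b' with hv
    have hua : ∀ d : ↥(R ⊔ (centralizerIn S R)), (d : Ω) ∈ (centralizerIn S R) → u * d = d * u := fun d hd =>
      hx.shift_central hR (c := a') ha hd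
    have hvb : ∀ d : ↥(R ⊔ (centralizerIn S R)), (d : Ω) ∈ (centralizerIn S R) → v * d = d * v := fun d hd =>
      hx.shift_central hR (c := b') hb hd
    have hxa : x a' = a' * u := by rw [hu, mul_inv_cancel_left]
    have hxb : x b' = b' * v := by rw [hv, mul_inv_cancel_left]
    have hxbC : ((x b' : ↥(R ⊔ (centralizerIn S R))) : Ω) ∈ (centralizerIn S R) := hx.apply_centralizer hR b' hb
    rw [map_commutatorElement, commutatorElement_def, commutatorElement_def, hxa]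
    calc a' * u * x b' * (a' * u)⁻¹ * (x b')⁻¹ = a' * (u * x b' * u⁻¹) * a'⁻¹ * (x b')⁻¹ := by group
      _ = a' * x b' * a'⁻¹ * (x b')⁻¹ := by rw [hua _ hxbC, mul_inv_cancel_right]
      _ = a' * b' * (v * a'⁻¹) * v⁻¹ * b'⁻¹ := by rw [hxb]; group
      _ = a' * b' * a'⁻¹ * b'⁻¹ := by rw [hvb a'⁻¹ (Subgroup.inv_mem (centralizerIn S R) ha)]; group
  obtain ⟨z, hz, hzw⟩ := hsub hw
  rw [show w = z from Subtype.ext hzw.symm]
  exact hz

variable [Fact p.Prime] [Finite S]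

/-- An automorphism of order prime to `p` displacing `w` by an element it fixes fixes `w`. -/
theorem eq_one_of_shift_fixed (hS : IsPGroup p S) {W : Subgroup Ω} (hW : W ≤ S) {x : MulAut W}
    (hord : ∃ n : ℕ, x ^ n = 1 ∧ n.Coprime p) {w u : W} (h : x w = w * u) (hu : x u = u) :
    u = 1 := by
  obtain ⟨n, hn, hcop⟩ := hord
  have h1 := pow_shift x h hu n
  rw [hn, MulAut.one_apply] at h1
  have h2 : u ^ n = 1 := by
    have := h1.symm
    rwa [mul_eq_left] at this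
  obtain ⟨k, hk⟩ := (isPGroup_le hS hW) u
  exact orderOf_eq_one_iff.1 (Nat.eq_one_of_dvd_coprimes (hcop.symm.pow_left k)
    (orderOf_dvd_of_pow_eq_one hk) (orderOf_dvd_of_pow_eq_one h2))

/-- The key lemma: the focal subgroup of `C_F(R)` is fixed. -/
theorem TrivAut.fix_centFocal (hS : IsPGroup p S) (hF : F.IsSaturated p) {R : Subgroup Ω}
    (hR : F.IsFullyCentralized R) {x : MulAut ↥(R ⊔ centralizerIn S R)} (hx : TrivAut F R x)
    (hord : ∃ n : ℕ, x ^ n = 1 ∧ n.Coprime p) (w : ↥(R ⊔ centralizerIn S R))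
    (hw : (w : Ω) ∈ centFocal F R) : x w = w := by
  have hWS : R ⊔ (centralizerIn S R) ≤ S := sup_centralizerIn_le_S hR.1
  have hD := centSystem_isCentralizerSystem F R hR.1
  set D := centSystem F R hR.1 with hDdef
  have hDsat : D.IsSaturated p := centralizerSystem_saturated hS hF hR hD
  have := finite_le (centralizerIn_le (S := S) R)
  have hwC : (w : Ω) ∈ (centralizerIn S R) := centFocal_le hw
  -- `R ∩ C_S(R)` is central
  have hcent : R ⊓ (centralizerIn S R) ≤ D.center := by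
    refine le_center ⟨inf_le_right, fun P φ hφ => ?_⟩
    obtain ⟨-, hPC, hv, ψ, hψ, hψP, hψR⟩ := (hD P).le hφ
    have hle : P ⊔ (R ⊓ (centralizerIn S R)) ≤ P ⊔ R := sup_le_sup_left inf_le_left P
    refine ⟨ψ.comp (Subgroup.inclusion hle), (hD _).ge ⟨restrict_mem hψ hle,
      sup_le hPC inf_le_right, fun y => mem_centralizerIn.2 ⟨hom_apply_mem hψ _, fun r hr => ?_⟩,
      ψ.comp (Subgroup.inclusion (sup_le hle le_sup_right)), restrict_mem hψ _, fun y => rfl,
      fun r => hψR r⟩, fun y => hψP y, fun r => hψR ⟨r, r.2.1⟩⟩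
    show r * ψ (Subgroup.inclusion hle y) = ψ (Subgroup.inclusion hle y) * r
    rw [show r = ψ (Subgroup.inclusion (le_sup_right (a := P)) ⟨r, hr⟩) from (hψR ⟨r, hr⟩).symm,
      ← map_mul, ← map_mul]
    refine congrArg ψ (Subtype.ext ?_)
    exact (mem_centralizerIn.1 ((sup_le hPC inf_le_right : P ⊔ (R ⊓ (centralizerIn S R)) ≤ (centralizerIn S R)) y.2)).2 r hr
  -- the focal subgroup is invariant
  have hinv : centFocal F R ≤ (((centFocal F R).subgroupOf (R ⊔ (centralizerIn S R))).comap x.toMonoidHom).map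
      (R ⊔ (centralizerIn S R)).subtype := by
    refine (Subgroup.closure_le _).2 ?_
    rintro _ ⟨P, φ, a, ⟨hφ, hPC, hv, ψ, hψ, hψP, hψR⟩, rfl⟩
    have hPW : P ≤ R ⊔ (centralizerIn S R) := hPC.trans le_sup_right
    have hKW : P ⊔ R ≤ R ⊔ (centralizerIn S R) := sup_le hPW le_sup_left
    have hψW : ∀ k, ψ k ∈ R ⊔ (centralizerIn S R) := by
      intro k
      have hsub : ψ.range ≤ R ⊔ (centralizerIn S R) := by
        rw [MonoidHom.range_eq_map, ← Subgroup.subgroupOf_self (H := P ⊔ R),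
          Subgroup.subgroupOf_sup le_sup_left le_sup_right, Subgroup.map_sup]
        refine sup_le ?_ ?_
        · rintro _ ⟨y, hy, rfl⟩
          exact Subgroup.mem_sup_right (hψP ⟨y, hy⟩ ▸ hv ⟨y, hy⟩)
        · rintro _ ⟨y, hy, rfl⟩
          exact Subgroup.mem_sup_left ((hψR ⟨y, hy⟩).symm ▸ hy)
      exact hsub ⟨k, rfl⟩
    have he : IsoIn F (x : ↥(R ⊔ (centralizerIn S R)) ≃* ↥(R ⊔ (centralizerIn S R))) := (mem_autGroup_iff_isoIn hWS).1 hx.1
    obtain ⟨χ, hχ, hχv⟩ := exists_conjMap he hKW hψ hψW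
    let aW : ↥(R ⊔ (centralizerIn S R)) := ⟨a, hPW a.2⟩
    let bW : ↥(R ⊔ (centralizerIn S R)) := ⟨φ a, Subgroup.mem_sup_right (hv a)⟩
    refine ⟨aW⁻¹ * bW, ?_, rfl⟩
    show ((x (aW⁻¹ * bW) : ↥(R ⊔ (centralizerIn S R))) : Ω) ∈ centFocal F R
    rw [map_mul, map_inv]
    have hxaC : ((x aW : _) : Ω) ∈ (centralizerIn S R) := hx.apply_centralizer hR.1 aW (hPC a.2)
    have hmem : ((x aW : _) : Ω) ∈ img (isoHom (x : ↥(R ⊔ (centralizerIn S R)) ≃* ↥(R ⊔ (centralizerIn S R)))) (P ⊔ R) :=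
      ⟨aW, le_sup_left (b := R) a.2, rfl⟩
    have hRimg : R ≤ img (isoHom (x : ↥(R ⊔ (centralizerIn S R)) ≃* ↥(R ⊔ (centralizerIn S R)))) (P ⊔ R) := by
      intro r hr
      let f : R → R := fun y => ⟨x ⟨y, le_sup_left (b := (centralizerIn S R)) y.2⟩, hx.2.1 _ y.2⟩
      have := finite_le hR.1
      have hf : Function.Injective f := fun y z h =>
        Subtype.ext (congrArg (fun v : ↥(R ⊔ (centralizerIn S R)) => (v : Ω))
          (x.injective (Subtype.ext (congrArg Subtype.val h :))))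
      obtain ⟨y, hy⟩ := Finite.surjective_of_injective hf ⟨r, hr⟩
      exact ⟨⟨y, le_sup_left (b := (centralizerIn S R)) y.2⟩, le_sup_right (a := P) y.2, congrArg Subtype.val hy⟩
    have hfix : ∀ r : ↥(img (isoHom (x : ↥(R ⊔ (centralizerIn S R)) ≃* ↥(R ⊔ (centralizerIn S R)))) (P ⊔ R)), (r : Ω) ∈ R →
        χ r = r := by
      intro r hr
      obtain ⟨k, hk, hkr⟩ := r.2
      have hkR : (k : Ω) ∈ R := by
        let f : R → R := fun y => ⟨x ⟨y, le_sup_left (b := (centralizerIn S R)) y.2⟩, hx.2.1 _ y.2⟩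
        have := finite_le hR.1
        have hf : Function.Injective f := fun y z h =>
          Subtype.ext (congrArg (fun v : ↥(R ⊔ (centralizerIn S R)) => (v : Ω))
            (x.injective (Subtype.ext (congrArg Subtype.val h :))))
        obtain ⟨y, hy⟩ := Finite.surjective_of_injective hf ⟨r, hr⟩
        have : k = ⟨y, le_sup_left (b := (centralizerIn S R)) y.2⟩ := x.injective (Subtype.ext
          (hkr.trans (congrArg Subtype.val hy).symm))
        rw [this]; exact y.2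
      have h0 : ((x ⟨k, hKW hk⟩ : _) : Ω) ∈
          img (isoHom (x : ↥(R ⊔ (centralizerIn S R)) ≃* ↥(R ⊔ (centralizerIn S R)))) (P ⊔ R) :=
        ⟨k, hk, rfl⟩
      have h1 := hχv ⟨k, hk⟩ h0
      rw [show r = ⟨_, h0⟩ from Subtype.ext hkr.symm]
      refine h1.trans (congrArg (fun v : ↥(R ⊔ (centralizerIn S R)) => ((x v : _) : Ω)) (Subtype.ext ?_))
      exact hψR ⟨k, hkR⟩
    have h2 := shift_mem_centFocal hχ hRimg hfix ⟨_, hmem⟩ hxaC
    rw [show χ ⟨_, hmem⟩ = ((x bW : _) : Ω) from (hχv ⟨a, le_sup_left (b := R) a.2⟩ hmem).trans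
      (congrArg (fun v : ↥(R ⊔ (centralizerIn S R)) => ((x v : _) : Ω)) (Subtype.ext (hψP a)))] at h2
    exact h2
  -- hence `w` is displaced by a central focal element
  have hxw : ((x w : _) : Ω) ∈ centFocal F R := by
    obtain ⟨z, hz, hzw⟩ := hinv hw
    rw [show w = z from Subtype.ext hzw.symm]
    exact hz
  set u := w⁻¹ * x w with hu
  have hufoc : (u : Ω) ∈ D.focalSubgroup := by
    rw [centFocal_eq hD]
    exact mul_mem (Subgroup.inv_mem _ hw) hxw
  have huc : (u : Ω) ∈ D.center :=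
    hcent ⟨hx.2.2 w hwC, mul_mem (Subgroup.inv_mem _ hwC) (centFocal_le hxw)⟩
  have hu1 : x u = u := hx.fix_commutator hR.1 u
    (focal_inf_center (hS.to_le (centralizerIn_le R)) hDsat ⟨hufoc, huc⟩)
  have := eq_one_of_shift_fixed hS hWS hord (w := w) (u := u) (by rw [hu, mul_inv_cancel_left]) hu1
  exact (inv_mul_eq_one.1 this).symm

/-- A map agreeing with `x` on `R` differs from it on `C_S(R)` by fixed elements. -/
theorem TrivAut.fix_of_agree (hS : IsPGroup p S) (hF : F.IsSaturated p) {R : Subgroup Ω}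
    (hR : F.IsFullyCentralized R) {x : MulAut ↥(R ⊔ centralizerIn S R)} (hx : TrivAut F R x)
    (hord : ∃ n : ℕ, x ^ n = 1 ∧ n.Coprime p) {K : Subgroup Ω} {ψ : K →* Ω} (hψ : ψ ∈ F.Hom K)
    (hRK : R ≤ K)
    (hag : ∀ (r : Ω) (hr : r ∈ R),
      ψ ⟨r, hRK hr⟩ = ((x ⟨r, le_sup_left (b := centralizerIn S R) hr⟩ : _) : Ω))
    (y v : ↥(R ⊔ centralizerIn S R)) (hy : (y : Ω) ∈ centralizerIn S R) (hyK : (y : Ω) ∈ K)
    (hvR : (v : Ω) ∈ R) (hv : ((x y : _) : Ω) = ψ ⟨y, hyK⟩ * (v : Ω)) : x v = v := by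
  have hWS : R ⊔ centralizerIn S R ≤ S := sup_centralizerIn_le_S hR.1
  have := finite_le hR.1
  let g : R → R := fun b => ⟨x ⟨b, le_sup_left (b := centralizerIn S R) b.2⟩, hx.2.1 _ b.2⟩
  have hg : Function.Injective g := fun a b h =>
    Subtype.ext (congrArg (fun z : ↥(R ⊔ centralizerIn S R) => (z : Ω))
      (x.injective (Subtype.ext (congrArg Subtype.val h :))))
  obtain ⟨b, hb⟩ := Finite.surjective_of_injective hg ⟨(v : Ω), hvR⟩
  have hbv : x ⟨b, le_sup_left (b := centralizerIn S R) b.2⟩ = v :=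
    Subtype.ext (congrArg Subtype.val hb :)
  obtain ⟨ι, hι, -, hιl, -⟩ := exists_inv hψ rfl
  have hL : R ⊔ Subgroup.zpowers (y : Ω) ≤ R ⊔ centralizerIn S R :=
    sup_le le_sup_left ((Subgroup.zpowers_le.2 hy).trans le_sup_right)
  have hx' := restrict_mem ((mem_autGroup_iff hWS).1 hx.1) hL
  have hrange : ∀ z, (((R ⊔ centralizerIn S R).subtype.comp x.toMonoidHom).comp
      (Subgroup.inclusion hL)) z ∈ ψ.range := by
    intro z
    refine (show (((R ⊔ centralizerIn S R).subtype.comp x.toMonoidHom).comp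
      (Subgroup.inclusion hL)).range ≤ ψ.range from ?_) ⟨z, rfl⟩
    rw [MonoidHom.range_eq_map, ← Subgroup.subgroupOf_self (H := R ⊔ Subgroup.zpowers (y : Ω)),
      Subgroup.subgroupOf_sup le_sup_left le_sup_right, Subgroup.map_sup]
    refine sup_le ?_ ?_
    · rintro _ ⟨a, ha, rfl⟩
      exact ⟨⟨a, hRK ha⟩, hag a ha⟩
    · rintro _ ⟨a, ha, rfl⟩
      obtain ⟨k, hk⟩ := Subgroup.mem_zpowers_iff.1 ha
      have hy1 : ((x y : _) : Ω) ∈ ψ.range := by
        rw [hv]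
        exact mul_mem ⟨_, rfl⟩ ⟨⟨b, hRK b.2⟩, (hag b b.2).trans (congrArg Subtype.val hbv)⟩
      show ((x (Subgroup.inclusion hL a) : _) : Ω) ∈ ψ.range
      rw [show Subgroup.inclusion hL a = y ^ k from Subtype.ext (by simpa using hk.symm), map_zpow,
        Subgroup.coe_zpow]
      exact zpow_mem hy1 k
  have hη := F.comp_mem hx' hι hrange
  have hfix : ∀ r : ↥(R ⊔ Subgroup.zpowers (y : Ω)), (r : Ω) ∈ R →
      (ι.comp ((((R ⊔ centralizerIn S R).subtype.comp x.toMonoidHom).comp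
        (Subgroup.inclusion hL)).codRestrict ψ.range hrange)) r = r := by
    intro r hr
    exact (congrArg ι (Subtype.ext (hag r hr).symm)).trans (hιl ⟨r, hRK hr⟩ ⟨_, rfl⟩)
  have h1 := shift_mem_centFocal hη le_sup_left hfix
    ⟨y, le_sup_right (a := R) (Subgroup.mem_zpowers _)⟩ hy
  have h2 : (ι.comp ((((R ⊔ centralizerIn S R).subtype.comp x.toMonoidHom).comp
        (Subgroup.inclusion hL)).codRestrict ψ.range hrange))
      ⟨y, le_sup_right (a := R) (Subgroup.mem_zpowers _)⟩ = (y : Ω) * b := by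
    refine (congrArg ι (Subtype.ext ?_)).trans (hιl ((⟨y, hyK⟩ : K) * ⟨b, hRK b.2⟩) ⟨_, rfl⟩)
    show ((x y : _) : Ω) = ψ (⟨y, hyK⟩ * ⟨b, hRK b.2⟩)
    rw [map_mul, hag b b.2, hbv, hv]
  rw [h2, inv_mul_cancel_left] at h1
  have h3 := hx.fix_centFocal hS hF hR hord ⟨b, le_sup_left (b := centralizerIn S R) b.2⟩ h1
  rw [hbv] at h3
  exact (congrArg x h3).trans hbv

end CfsgLib.Fusion
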