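import Cfsg.Agent.Lib.Fusion.NormalSubgroup
import Cfsg.Agent.Lib.Fusion.AlperinGen
import Cfsg.Agent.Lib.Core.Basic
import Mathlib.GroupTheory.Transfer
import Mathlib.Data.Nat.ModEq

/-!
Normal subsystems of the system of a strictly `p`-constrained group come from normal subgroups.
-/

set_option autoImplicit false

namespace CfsgLib.Fusion

open Cfsg Cfsg.FusionSystem

section General

variable {G : Type*} [Group G]

/-- The transfer of an element all of whose conjugate powers look alike. -/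
theorem transfer_eq_pow_index [Finite G] {H : Subgroup G} {A : Type*} [CommGroup A] (φ : H →* A)
    (z : H) (h : ∀ (k : ℕ) (g : G) (hm : g⁻¹ * (z : G) ^ k * g ∈ H), φ ⟨_, hm⟩ = φ z ^ k) :
    MonoidHom.transfer φ (z : G) = φ z ^ H.index := by
  classical
  haveI := Fintype.ofFinite (Quotient (MulAction.orbitRel (Subgroup.zpowers (z : G)) (G ⧸ H)))
  rw [MonoidHom.transfer_eq_prod_quotient_orbitRel_zpowers_quot,
    Subgroup.index_eq_sum_minimalPeriod H (z : G), ← Finset.prod_pow_eq_pow_sum]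
  exact Finset.prod_congr rfl fun q _ => h _ _ _

/-- An element is a product of powers of order prime to `p` and a power of `p`. -/
theorem exists_p_split [Finite G] {p : ℕ} [Fact p.Prime] (g : G) :
    ∃ i j : ℕ, g ^ i * g ^ j = g ∧ (∃ a, (g ^ i) ^ p ^ a = 1) ∧ (orderOf (g ^ j)).Coprime p := by
  have hp : p.Prime := Fact.out
  obtain ⟨a, m, hm, hn⟩ := Nat.exists_eq_pow_mul_and_not_dvd (orderOf_pos g).ne' p hp.ne_one
  have hcop : (p ^ a).Coprime m := ((hp.coprime_iff_not_dvd.2 hm).pow_left a)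
  obtain ⟨i, hi1, hi2⟩ := Nat.chineseRemainder hcop 1 0
  obtain ⟨j, hj1, hj2⟩ := Nat.chineseRemainder hcop 0 1
  refine ⟨i, j, ?_, ⟨a, ?_⟩, ?_⟩
  · rw [← pow_add]
    conv_rhs => rw [← pow_one g]
    rw [pow_eq_pow_iff_modEq, hn]
    exact (Nat.modEq_and_modEq_iff_modEq_mul hcop).1
      ⟨by simpa using hi1.add hj1, by simpa using hi2.add hj2⟩
  · rw [← pow_mul]
    refine orderOf_dvd_iff_pow_eq_one.1 ?_
    rw [hn, mul_comm]
    exact Nat.mul_dvd_mul (Nat.modEq_zero_iff_dvd.1 hi2) dvd_rfl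
  · refine Nat.Coprime.coprime_dvd_left ?_ (hp.coprime_iff_not_dvd.2 hm).symm
    refine orderOf_dvd_of_pow_eq_one ?_
    rw [← pow_mul]
    refine orderOf_dvd_iff_pow_eq_one.1 ?_
    rw [hn]
    exact Nat.mul_dvd_mul (Nat.modEq_zero_iff_dvd.1 hj1) dvd_rfl

/-- An element of order prime to `p` with a `p`-power image is killed. -/
theorem eq_one_of_coprime_pow {p : ℕ} {x : G} (h : (orderOf x).Coprime p) {a : ℕ}
    (ha : x ^ p ^ a = 1) : x = 1 :=
  orderOf_eq_one_iff.1 (Nat.eq_one_of_dvd_coprimes (h.pow_right a) dvd_rfl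
    (orderOf_dvd_of_pow_eq_one ha))

end General

section Main

variable {G : Type*} [Group G] [Finite G] {p : ℕ} [Fact p.Prime] {S : Sylow p G} {T : Subgroup G}
  {E : FusionSystem T}

/-- Maps of a subsystem of the group system are conjugations. -/
theorem exists_conj_of_normalIn (hE : E.IsNormalIn (groupFusionSystem (S : Subgroup G)) p)
    {P : Subgroup G} {φ : P →* G} (hφ : φ ∈ E.Hom P) :
    ∃ g : G, ∀ x : P, φ x = g * (x : G) * g⁻¹ :=
  (hE.1.2.2.1 P hφ).2.2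

/-- Strong closure read in the group. -/
theorem mem_of_conj_mem (hE : E.IsNormalIn (groupFusionSystem (S : Subgroup G)) p) {t g : G}
    (ht : t ∈ T) (hg : g * t * g⁻¹ ∈ (S : Subgroup G)) : g * t * g⁻¹ ∈ T := by
  obtain ⟨hTS, hsc⟩ := hE.1.2.2.2.1
  refine hsc (Subgroup.zpowers t) (Subgroup.zpowers_le.2 ht) (conjHom _ g)
    ⟨(Subgroup.zpowers_le.2 ht).trans hTS, ?_, g, fun _ => rfl⟩ ⟨t, Subgroup.mem_zpowers t⟩
  rintro ⟨_, k, rfl⟩
  show g * t ^ k * g⁻¹ ∈ (S : Subgroup G)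
  rw [← conj_zpow]
  exact (S : Subgroup G).zpow_mem hg k

/-- The `p`-elements of the automizer of the top are inner. -/
theorem exists_mem_of_p_element (hE : E.IsNormalIn (groupFusionSystem (S : Subgroup G)) p)
    (hT : IsPGroup p T) {g : G} (hg : conjHom T g ∈ E.Hom T) {a : ℕ} (ha : g ^ p ^ a = 1) :
    ∃ t ∈ T, ∀ x ∈ T, g * x * g⁻¹ = t * x * t⁻¹ := by
  have hmem : ∀ x : T, g * (x : G) * g⁻¹ ∈ T := fun x => hom_apply_mem hg x
  have hN : g ∈ Subgroup.normalizer (T : Set G) := by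
    rw [Subgroup.mem_normalizer_iff_map_conj_eq]
    refine Subgroup.eq_of_le_of_card_ge ?_ (card_conjOf g T).ge
    rintro _ ⟨t, ht, rfl⟩
    exact hmem ⟨t, ht⟩
  set α : MulAut T := T.normalizerMonoidHom ⟨g, hN⟩ with hα
  have hαE : α ∈ E.autGroup T := (mem_autGroup_iff le_rfl).2 hg
  have hfn : E.IsFullyNormalized T := ⟨le_rfl, fun Q _ => Subgroup.card_le_of_le
    ((normalizerIn_le Q).trans (le_normalizerIn le_rfl))⟩
  have : Finite (MulAut T) := finite_mulAut_of_le (S := T) le_rfl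
  obtain ⟨-, P₀, hP₀⟩ := IsSaturated.fullyAutomized hT hE.1.1 hfn
  rw [autInducedBy_self] at hP₀
  have : (P₀ : Subgroup (E.autGroup T)).Normal := hP₀ ▸ Subgroup.Normal.subgroupOf inferInstance _
  have hpow : α ^ p ^ a = 1 := by
    rw [hα, ← map_pow, show (⟨g, hN⟩ : Subgroup.normalizer (T : Set G)) ^ p ^ a = 1 from
      Subtype.ext ha, map_one]
  have hZ : IsPGroup p (Subgroup.zpowers (⟨α, hαE⟩ : E.autGroup T)) := by
    rintro ⟨_, k, rfl⟩
    refine ⟨a, Subtype.ext ?_⟩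
    show ((⟨α, hαE⟩ : E.autGroup T) ^ k) ^ p ^ a = 1
    rw [← zpow_natCast, ← zpow_mul, mul_comm, zpow_mul, zpow_natCast,
      show (⟨α, hαE⟩ : E.autGroup T) ^ p ^ a = 1 from Subtype.ext hpow, one_zpow]
  obtain ⟨P₁, hP₁⟩ := hZ.exists_le_sylow
  have := Sylow.unique_of_normal P₀ inferInstance
  rw [Subsingleton.elim P₁ P₀, hP₀] at hP₁
  obtain ⟨t, ht⟩ := hP₁ (Subgroup.mem_zpowers _)
  refine ⟨t, t.2, fun x hx => ?_⟩
  exact (congrArg (fun β : MulAut T => ((β ⟨x, hx⟩ : T) : G)) ht).symm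

/-- Conjugation by `g` acts trivially modulo `T` on `C_S(T)`, and likewise for its powers. -/
theorem conj_pow_mod {C : Subgroup G} {g : G} (hgT : ∀ x ∈ T, g * x * g⁻¹ ∈ T)
    (h : ∀ c ∈ C, g * c * g⁻¹ * c⁻¹ ∈ T) (n : ℕ) :
    ∀ c ∈ C, g ^ n * c * (g ^ n)⁻¹ * c⁻¹ ∈ T := by
  induction n with
  | zero => intro c _; simp
  | succ n ih =>
    intro c hc
    have := T.mul_mem (hgT _ (ih c hc)) (h c hc)
    convert this using 1
    rw [pow_succ']
    group

/-- The extension condition makes the elements of order prime to `p` inducing automorphisms in the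
subsystem trivial on `O_p(G)` modulo `T`. -/
theorem conj_mul_inv_mem (hE : E.IsNormalIn (groupFusionSystem (S : Subgroup G)) p)
    (hT : IsPGroup p T) {R : Subgroup G} [R.Normal] (hR : R = T ⊓ pCore p G) {g : G}
    (hg : conjHom T g ∈ E.Hom T) (hcop : (orderOf g).Coprime p)
    (hext : ∀ c ∈ centralizerIn (S : Subgroup G) T, g * c * g⁻¹ * c⁻¹ ∈ T)
    {q : G} (hq : q ∈ pCore p G) : g * q * g⁻¹ * q⁻¹ ∈ R := by
  set Q := pCore p G with hQ
  have hQS : Q ≤ (S : Subgroup G) := Core.pCore_le_sylow S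
  have hQn : Q.Normal := inferInstance
  obtain ⟨hTS, -⟩ := hE.1.2.2.2.1
  have hgT : ∀ x ∈ T, g * x * g⁻¹ ∈ T := fun x hx => hom_apply_mem hg ⟨x, hx⟩
  have hnorm : ∀ {s : G}, s ∈ (S : Subgroup G) → ∀ {x : G}, x ∈ T → s * x * s⁻¹ ∈ T := fun hs _ hx =>
    mem_of_conj_mem hE hx ((S : Subgroup G).mul_mem ((S : Subgroup G).mul_mem hs (hTS hx))
      ((S : Subgroup G).inv_mem hs))
  set u := g * q * g⁻¹ * q⁻¹ with hu
  have huQ : u ∈ Q := Q.mul_mem (hQn.conj_mem q hq g) (Q.inv_mem hq)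
  -- the automorphism induced by `u` is in the subsystem
  have hgN : g ∈ Subgroup.normalizer (T : Set G) := by
    rw [Subgroup.mem_normalizer_iff_map_conj_eq]
    refine Subgroup.eq_of_le_of_card_ge ?_ (card_conjOf g T).ge
    rintro _ ⟨t, ht, rfl⟩
    exact hgT t ht
  have hqN : q ∈ Subgroup.normalizer (T : Set G) := by
    rw [Subgroup.mem_normalizer_iff_map_conj_eq]
    refine Subgroup.eq_of_le_of_card_ge ?_ (card_conjOf q T).ge
    rintro _ ⟨t, ht, rfl⟩
    exact hnorm (hQS hq) ht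
  set γ := T.normalizerMonoidHom ⟨g, hgN⟩ with hγ
  set κ := T.normalizerMonoidHom ⟨q, hqN⟩ with hκ
  have hγE : γ ∈ E.autGroup T := (mem_autGroup_iff le_rfl).2 hg
  have hκF : κ ∈ (groupFusionSystem (S : Subgroup G)).autGroup T :=
    (mem_autGroup_iff hTS).2 ⟨hTS, fun x => hTS (hnorm (hQS hq) x.2), q, fun _ => rfl⟩
  obtain ⟨χ, hχ, hχv⟩ := hE.1.2.2.2.2.1 T le_rfl _ ((mem_autGroup_iff le_rfl).1 (inv_mem hγE)) κ hκF
  have hTimg : (T.subgroupOf T).map (T.subtype.comp κ.toMonoidHom) = T := by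
    refine le_antisymm (fun y ⟨x, _, hx⟩ => hx ▸ (κ x).2) fun y hy => ?_
    exact ⟨κ⁻¹ ⟨y, hy⟩, (κ⁻¹ ⟨y, hy⟩).2,
      congrArg Subtype.val (MulAut.apply_inv_self _ κ ⟨y, hy⟩)⟩
  have huE : conjHom T u ∈ E.Hom T := by
    have h1 := restrict_mem hχ hTimg.ge
    refine comp_mem' h1 hg (fun x => hom_apply_mem h1 x) fun x => ?_
    have h2 := hχv (κ⁻¹ x) (γ⁻¹ (κ⁻¹ x)).2 (by rw [hTimg]; exact (κ _).2)
    have h3 : χ (Subgroup.inclusion hTimg.ge x) = ((κ (γ⁻¹ (κ⁻¹ x)) : T) : G) := by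
      refine Eq.trans (congrArg χ (Subtype.ext ?_)) h2
      exact (congrArg Subtype.val (MulAut.apply_inv_self _ κ x)).symm
    show u * (x : G) * u⁻¹ = g * χ (Subgroup.inclusion hTimg.ge x) * g⁻¹
    rw [h3]
    have e2 : ((γ⁻¹ (κ⁻¹ x) : T) : G) = g⁻¹ * (q⁻¹ * (x : G) * q) * g := by
      have a1 : g * ((γ⁻¹ (κ⁻¹ x) : T) : G) * g⁻¹ = ((κ⁻¹ x : T) : G) :=
        congrArg Subtype.val (MulAut.apply_inv_self _ γ (κ⁻¹ x))
      have a2 : q * ((κ⁻¹ x : T) : G) * q⁻¹ = (x : G) :=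
        congrArg Subtype.val (MulAut.apply_inv_self _ κ x)
      rw [← a2, ← a1]
      group
    show _ = g * (q * ((γ⁻¹ (κ⁻¹ x) : T) : G) * q⁻¹) * g⁻¹
    rw [e2, hu]
    group
  obtain ⟨a, ha⟩ : ∃ a, u ^ p ^ a = 1 := by
    obtain ⟨a, ha⟩ := (S.isPGroup') ⟨u, hQS huQ⟩
    exact ⟨a, congrArg Subtype.val ha⟩
  obtain ⟨t, ht, htv⟩ := exists_mem_of_p_element hE hT huE ha
  have hc : t⁻¹ * u ∈ centralizerIn (S : Subgroup G) T := by
    refine mem_centralizerIn.2 ⟨(S : Subgroup G).mul_mem ((S : Subgroup G).inv_mem (hTS ht))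
      (hQS huQ), fun x hx => ?_⟩
    calc x * (t⁻¹ * u) = t⁻¹ * (t * x * t⁻¹) * u := by group
      _ = t⁻¹ * (u * x * u⁻¹) * u := by rw [htv x hx]
      _ = t⁻¹ * u * x := by group
  -- so `g` fixes `u` modulo `R`
  have hwR : g * u * g⁻¹ * u⁻¹ ∈ R := by
    rw [hR]
    refine ⟨?_, Q.mul_mem (hQn.conj_mem u huQ g) (Q.inv_mem huQ)⟩
    refine Set.mem_of_eq_of_mem ?_ (T.mul_mem (T.mul_mem (hgT t ht) (hext _ hc)) (T.inv_mem ht))
    group
  have hcomm : Commute (g : G ⧸ R) (u : G ⧸ R) := by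
    have h1 := (QuotientGroup.eq_one_iff _).2 hwR
    rw [QuotientGroup.mk_mul, QuotientGroup.mk_mul, QuotientGroup.mk_mul, QuotientGroup.mk_inv,
      QuotientGroup.mk_inv, mul_inv_eq_one, mul_inv_eq_iff_eq_mul] at h1
    exact h1
  have hgq : (g : G ⧸ R) * (q : G ⧸ R) * (g : G ⧸ R)⁻¹ = (u : G ⧸ R) * (q : G ⧸ R) := by
    rw [← QuotientGroup.mk_inv, ← QuotientGroup.mk_mul, ← QuotientGroup.mk_mul,
      ← QuotientGroup.mk_mul, hu, inv_mul_cancel_right]
  have hit : ∀ n : ℕ, (g : G ⧸ R) ^ n * (q : G ⧸ R) * ((g : G ⧸ R) ^ n)⁻¹ =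
      (u : G ⧸ R) ^ n * (q : G ⧸ R) := by
    intro n
    induction n with
    | zero => simp
    | succ n ih =>
      calc (g : G ⧸ R) ^ (n + 1) * (q : G ⧸ R) * ((g : G ⧸ R) ^ (n + 1))⁻¹
          = (g : G ⧸ R) * ((g : G ⧸ R) ^ n * (q : G ⧸ R) * ((g : G ⧸ R) ^ n)⁻¹) *
              (g : G ⧸ R)⁻¹ := by rw [pow_succ']; group
        _ = ((g : G ⧸ R) * (u : G ⧸ R) ^ n * (g : G ⧸ R)⁻¹) *
              ((g : G ⧸ R) * (q : G ⧸ R) * (g : G ⧸ R)⁻¹) := by rw [ih]; group
        _ = (u : G ⧸ R) ^ (n + 1) * (q : G ⧸ R) := by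
          rw [hgq, (hcomm.pow_right n).eq, mul_inv_cancel_right, ← mul_assoc, ← pow_succ]
  have hn := hit (orderOf g)
  rw [← QuotientGroup.mk_pow, pow_orderOf_eq_one, QuotientGroup.mk_one, one_mul, inv_one, mul_one,
    right_eq_mul] at hn
  refine (QuotientGroup.eq_one_iff _).1 (eq_one_of_coprime_pow (p := p) (a := a) ?_ ?_)
  · exact Nat.Coprime.coprime_dvd_left (orderOf_dvd_of_pow_eq_one hn) hcop
  · rw [← QuotientGroup.mk_pow, ha, QuotientGroup.mk_one]

/-- The normal subgroup belonging to a normal subsystem of a strictly constrained group. -/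
theorem exists_unique_normal_of_normalIn (hG : Subgroup.centralizer ((pCore p G : Subgroup G) : Set G) ≤ pCore p G)
    (hE : E.IsNormalIn (groupFusionSystem (S : Subgroup G)) p) :
    ∃ H : Subgroup G, (∃ hTH : T ≤ H, H.Normal ∧
        (∃ R : Sylow p H, (R : Subgroup H) = T.subgroupOf H) ∧
        ∀ P : Subgroup G, E.Hom P = (fusionSystemOfSubgroup H T hTH).Hom P) ∧
      ∀ H' : Subgroup G, (∃ hTH' : T ≤ H', H'.Normal ∧
        (∃ R : Sylow p H', (R : Subgroup H') = T.subgroupOf H') ∧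
        ∀ P : Subgroup G, E.Hom P = (fusionSystemOfSubgroup H' T hTH').Hom P) → H' = H := by
  classical
  have hp : p.Prime := Fact.out
  obtain ⟨⟨hEsat, hFsat, hsub, ⟨hTS, hsc⟩, hinv, hfr⟩, hextc⟩ := id hE
  have hTp : IsPGroup p T := S.isPGroup'.to_le hTS
  set Q := pCore p G with hQdef
  have hQS : Q ≤ (S : Subgroup G) := Core.pCore_le_sylow S
  have hQn : Q.Normal := inferInstance
  set R := T ⊓ Q with hRdef
  have hRn : R.Normal := ⟨fun x hx g =>
    ⟨mem_of_conj_mem hE hx.1 (hQS (hQn.conj_mem x hx.2 g)), hQn.conj_mem x hx.2 g⟩⟩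
  have hRT : R ≤ T := inf_le_left
  have hnorm : ∀ {s : G}, s ∈ (S : Subgroup G) → ∀ {x : G}, x ∈ T → s * x * s⁻¹ ∈ T := fun hs _ hx =>
    mem_of_conj_mem hE hx ((S : Subgroup G).mul_mem ((S : Subgroup G).mul_mem hs (hTS hx))
      ((S : Subgroup G).inv_mem hs))
  -- the elements acting trivially on `Q` modulo `R`
  set D : Subgroup G := (Subgroup.centralizer ((Q.map (QuotientGroup.mk' R) :
    Subgroup (G ⧸ R)) : Set (G ⧸ R))).comap (QuotientGroup.mk' R) with hDdef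
  have hDn : D.Normal := by
    have : (Q.map (QuotientGroup.mk' R)).Normal := hQn.map _ (QuotientGroup.mk'_surjective R)
    exact inferInstance
  have hD : ∀ g : G, g ∈ D ↔ ∀ q ∈ Q, g * q * g⁻¹ * q⁻¹ ∈ R := by
    intro g
    rw [hDdef, Subgroup.mem_comap, Subgroup.mem_centralizer_iff]
    refine ⟨fun h q hq => ?_, fun h => ?_⟩
    · rw [← QuotientGroup.eq_one_iff, QuotientGroup.mk_mul, QuotientGroup.mk_mul,
        QuotientGroup.mk_mul, QuotientGroup.mk_inv, QuotientGroup.mk_inv, mul_inv_eq_one,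
        mul_inv_eq_iff_eq_mul]
      exact (h (q : G ⧸ R) ⟨q, hq, rfl⟩).symm
    · rintro _ ⟨q, hq, rfl⟩
      have h1 := (QuotientGroup.eq_one_iff _).2 (h q hq)
      rw [QuotientGroup.mk_mul, QuotientGroup.mk_mul, QuotientGroup.mk_mul, QuotientGroup.mk_inv,
        QuotientGroup.mk_inv, mul_inv_eq_one, mul_inv_eq_iff_eq_mul] at h1
      exact h1.symm
  -- the elements centralizing `R` among them form a `p`-group
  have hCD : Subgroup.centralizer (R : Set G) ⊓ D ≤ Q := by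
    refine Core.le_pCore fun ⟨x, hxC, hxD⟩ => ?_
    obtain ⟨e, he⟩ := IsPGroup.iff_card.1 (hTp.to_le hRT)
    have hxq : ∀ q ∈ Q, x ^ (p ^ e) * q * (x ^ (p ^ e))⁻¹ = q := by
      intro q hq
      set r := x * q * x⁻¹ * q⁻¹ with hr
      have hrR : r ∈ R := (hD x).1 hxD q hq
      have hxr : x * r = r * x := (Subgroup.mem_centralizer_iff.1 hxC r hrR).symm
      have hit : ∀ n : ℕ, x ^ n * q * (x ^ n)⁻¹ = r ^ n * q := by
        intro n
        induction n with
        | zero => simp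
        | succ n ih =>
          calc x ^ (n + 1) * q * (x ^ (n + 1))⁻¹ = x * (x ^ n * q * (x ^ n)⁻¹) * x⁻¹ := by
                rw [pow_succ']; group
            _ = (x * r ^ n) * (q * x⁻¹) := by rw [ih]; group
            _ = r ^ n * (x * q * x⁻¹) := by
                rw [((Commute.pow_right hxr n) : Commute x (r ^ n)).eq]; group
            _ = r ^ (n + 1) * q := by
                rw [pow_succ, mul_assoc (r ^ n)]
                congr 1
                rw [hr]; group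
      rw [hit, ← he, show r ^ Nat.card R = 1 from
        congrArg Subtype.val (pow_card_eq_one' (x := (⟨r, hrR⟩ : R))), one_mul]
    have hxQ : x ^ (p ^ e) ∈ Q := hG (Subgroup.mem_centralizer_iff.2 fun q hq =>
      (mul_inv_eq_iff_eq_mul.1 (hxq q hq)).symm)
    obtain ⟨f, hf⟩ := Core.isPGroup_pCore (G := G) (p := p) ⟨_, hxQ⟩
    refine ⟨e + f, Subtype.ext ?_⟩
    show x ^ p ^ (e + f) = 1
    rw [pow_add, pow_mul]
    exact congrArg Subtype.val hf
  have hTD : T ≤ D := fun t ht => (hD t).2 fun q hq =>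
    ⟨by
      have := T.mul_mem ht (hnorm (hQS hq) (T.inv_mem ht))
      simpa [mul_assoc] using this,
      Q.mul_mem (hQn.conj_mem q hq t) (Q.inv_mem hq)⟩
  -- the elements inducing maps of the subsystem on `R`
  set A : Subgroup G := (E.autGroup R).comap (MulAut.conjNormal (H := R)) with hAdef
  have hA : ∀ g : G, g ∈ A ↔ conjHom R g ∈ E.Hom R := fun g => by
    rw [hAdef, Subgroup.mem_comap, mem_autGroup_iff hRT]
    exact ⟨fun h => hom_congr h fun x => (MulAut.conjNormal_apply g x).symm,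
      fun h => hom_congr h fun x => MulAut.conjNormal_apply g x⟩
  have hAn : A.Normal := by
    refine ⟨fun a ha g => ?_⟩
    obtain ⟨α, hα, φ₀, hφ₀, hdec⟩ := hfr R hRT (conjHom R g) ⟨hRT.trans hTS,
      fun x => hQS (hQn.conj_mem _ x.2.2 g), g, fun _ => rfl⟩
    obtain ⟨-, -, n, hn'⟩ := (mem_autGroup_iff hTS).1 hα
    have hn : ∀ t : T, ((α t : T) : G) = n * (t : G) * n⁻¹ := hn'
    have hm : n⁻¹ * g ∈ A := (hA _).2 (hom_congr hφ₀ fun x => by
      have h1 := hdec x (hom_apply_mem hφ₀ x)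
      rw [hn] at h1
      show n⁻¹ * g * (x : G) * (n⁻¹ * g)⁻¹ = φ₀ x
      calc n⁻¹ * g * (x : G) * (n⁻¹ * g)⁻¹ = n⁻¹ * (g * (x : G) * g⁻¹) * n := by group
        _ = n⁻¹ * (n * φ₀ x * n⁻¹) * n := by rw [show g * (x : G) * g⁻¹ = _ from h1]
        _ = φ₀ x := by group)
    set b := n⁻¹ * g * a * (n⁻¹ * g)⁻¹ with hb
    have hbA : b ∈ A := A.mul_mem (A.mul_mem hm ha) (A.inv_mem hm)
    obtain ⟨χ, hχ, hχv⟩ := hinv R hRT _ ((hA b).1 hbA) α hα
    have hRimg : R ≤ (R.subgroupOf T).map (T.subtype.comp α.toMonoidHom) := fun x hx => by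
      refine ⟨⟨n⁻¹ * x * n, hRT (by simpa using hRn.conj_mem x hx n⁻¹)⟩,
        Subgroup.mem_subgroupOf.2 (by simpa using hRn.conj_mem x hx n⁻¹), ?_⟩
      show ((α _ : T) : G) = x
      rw [hn]
      show n * (n⁻¹ * x * n) * n⁻¹ = x
      group
    refine (hA _).2 (hom_congr (restrict_mem hχ hRimg) fun x => ?_)
    show g * a * g⁻¹ * (x : G) * (g * a * g⁻¹)⁻¹ = χ (Subgroup.inclusion hRimg x)
    have hy : n⁻¹ * (x : G) * n ∈ R := by simpa using hRn.conj_mem _ x.2 n⁻¹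
    have hby : b * (n⁻¹ * (x : G) * n) * b⁻¹ ∈ T := hRT (hRn.conj_mem _ hy b)
    have h2 : χ (Subgroup.inclusion hRimg x) = n * (b * (n⁻¹ * (x : G) * n) * b⁻¹) * n⁻¹ := by
      refine Eq.trans (congrArg χ (Subtype.ext ?_)) ((hχv ⟨_, hy⟩ hby (by
        rw [hn]; exact hRimg (by simpa [mul_assoc] using x.2))).trans (hn _))
      show (x : G) = ((α _ : T) : G)
      rw [hn]
      show (x : G) = n * (n⁻¹ * x * n) * n⁻¹
      group
    rw [h2, hb]
    group
  have hTA : T ≤ A := fun t ht => (hA t).2 (E.conj_mem hRT ht)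
  set D₁ := D ⊓ A with hD₁def
  have hD₁n : D₁.Normal := Subgroup.normal_inf_normal D A
  -- the candidate
  set L : Set G := {g | (orderOf g).Coprime p ∧ conjHom T g ∈ E.Hom T ∧ g ∈ D} with hLdef
  set H := Subgroup.normalClosure ((T : Set G) ∪ L) with hHdef
  have hHn : H.Normal := Subgroup.normalClosure_normal
  have hTH : T ≤ H := fun t ht => Subgroup.subset_normalClosure (Or.inl ht)
  have hLH : ∀ g ∈ L, g ∈ H := fun g hg => Subgroup.subset_normalClosure (Or.inr hg)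
  have hHD₁ : H ≤ D₁ := by
    refine Subgroup.normalClosure_le_normal ?_
    rintro g (hg | ⟨-, hgE, hgD⟩)
    · exact ⟨hTD hg, hTA hg⟩
    · exact ⟨hgD, (hA g).2 (hom_congr (restrict_mem hgE hRT) fun _ => rfl)⟩
  -- the decomposition of `S ∩ D₁`
  have hdecomp : ∀ s ∈ (S : Subgroup G), s ∈ D₁ →
      ∃ t ∈ T, t⁻¹ * s ∈ Subgroup.centralizer (R : Set G) ⊓ D ⊓ (S : Subgroup G) := by
    intro s hs hs1
    have hfn : E.IsFullyNormalized R := ⟨hRT, fun P _ => Subgroup.card_le_of_le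
      ((normalizerIn_le P).trans (le_inf le_rfl (Core.le_normalizer_of_normal T R)))⟩
    have : Finite (MulAut R) := finite_mulAut_of_le (S := T) hRT
    have hfa := (isFullyAutomized_iff hRT).1 (IsSaturated.fullyAutomized hTp hEsat hfn)
    have hle : autInducedBy ((S : Subgroup G) ⊓ D₁) R ≤ E.autGroup R := by
      intro α hα
      obtain ⟨g, hg, hgv⟩ := mem_autInducedBy_iff.1 hα
      exact (mem_autGroup_iff hRT).2 (hom_congr ((hA g).1 hg.2.2) fun x => hgv x)
    have heq : autInducedBy T R = autInducedBy ((S : Subgroup G) ⊓ D₁) R := by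
      refine Subgroup.eq_of_le_of_card_ge
        (autInducedBy_mono (le_inf hTS (le_inf hTD hTA))) ?_
      rw [hfa]
      refine Nat.le_of_dvd (pow_pos hp.pos _) ?_
      exact card_le_sylowPart hle (isPGroup_autInducedBy (S.isPGroup'.to_le inf_le_left))
    have hsR : (MulAut.conjNormal (H := R) s) ∈ autInducedBy T R := by
      rw [heq]
      exact mem_autInducedBy_iff.2 ⟨s, ⟨hs, hs1⟩, fun x => MulAut.conjNormal_apply s x⟩
    obtain ⟨t, ht, htv⟩ := mem_autInducedBy_iff.1 hsR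
    refine ⟨t, ht, ⟨Subgroup.mem_centralizer_iff.2 fun x hx => ?_,
      D.mul_mem (D.inv_mem (hTD ht)) hs1.1⟩,
      (S : Subgroup G).mul_mem ((S : Subgroup G).inv_mem (hTS ht)) hs⟩
    have h1 := htv ⟨x, hx⟩
    rw [MulAut.conjNormal_apply] at h1
    calc x * (t⁻¹ * s) = t⁻¹ * (t * x * t⁻¹) * s := by group
      _ = t⁻¹ * (s * x * s⁻¹) * s := by rw [h1]
      _ = t⁻¹ * s * x := by group
  -- the transfer
  have hHS : H ⊓ (S : Subgroup G) = T := by
    refine le_antisymm ?_ (le_inf hTH hTS)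
    rintro s ⟨hsH, hsS⟩
    set S₁ : Subgroup D₁ := (S : Subgroup G).subgroupOf D₁ with hS₁
    set T₁ : Subgroup S₁ := (T.subgroupOf D₁).subgroupOf S₁ with hT₁
    have hmemT₁ : ∀ x : S₁, x ∈ T₁ ↔ ((x : D₁) : G) ∈ T := fun x => Iff.rfl
    have : T₁.Normal := ⟨fun x hx y => (hmemT₁ _).2 (hnorm y.2 ((hmemT₁ x).1 hx))⟩
    have hRle : ∀ (z g : G), z ∈ Q → g ∈ D → g * z * g⁻¹ * z⁻¹ ∈ T := fun z g hz hg =>
      hRT ((hD g).1 hg z hz)
    have hZ : ∀ x : S₁, ∃ z : S₁, ((z : D₁) : G) ∈ Q ∧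
        (x : S₁ ⧸ T₁) = (z : S₁ ⧸ T₁) := by
      intro x
      obtain ⟨t, ht, ⟨hzC, hzD⟩, hzS⟩ := hdecomp _ x.2 (x : D₁).2
      have hz1 : t⁻¹ * ((x : D₁) : G) ∈ D₁ :=
        D₁.mul_mem (D₁.inv_mem ⟨hTD ht, hTA ht⟩) (x : D₁).2
      refine ⟨⟨⟨_, hz1⟩, hzS⟩, hCD ⟨hzC, hzD⟩, ?_⟩
      rw [QuotientGroup.eq, hmemT₁]
      show ((x : D₁) : G)⁻¹ * (t⁻¹ * ((x : D₁) : G)) ∈ T
      have := hnorm ((S : Subgroup G).inv_mem x.2) (T.inv_mem ht)
      simpa [mul_assoc] using this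
    have hab : ∀ a b : S₁ ⧸ T₁, a * b = b * a := by
      intro a b
      obtain ⟨a, rfl⟩ := QuotientGroup.mk_surjective a
      obtain ⟨b, rfl⟩ := QuotientGroup.mk_surjective b
      obtain ⟨z, hz, hza⟩ := hZ a
      rw [hza, eq_comm, ← mul_inv_eq_iff_eq_mul, ← mul_inv_eq_one, ← QuotientGroup.mk_inv,
        ← QuotientGroup.mk_inv, ← QuotientGroup.mk_mul, ← QuotientGroup.mk_mul,
        ← QuotientGroup.mk_mul, QuotientGroup.eq_one_iff, hmemT₁]
      exact hRle _ _ hz (b : D₁).2.1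
    letI : CommGroup (S₁ ⧸ T₁) := { (inferInstance : Group (S₁ ⧸ T₁)) with mul_comm := hab }
    let φ : S₁ →* S₁ ⧸ T₁ := QuotientGroup.mk' T₁
    set V : D₁ →* S₁ ⧸ T₁ := MonoidHom.transfer φ with hV
    have hkill : H ≤ (V.ker).map D₁.subtype := by
      rw [hHdef, Subgroup.normalClosure]
      refine (Subgroup.closure_le _).2 fun y hy => ?_
      obtain ⟨x, hx, hxy⟩ := Group.mem_conjugatesOfSet_iff.1 hy
      obtain ⟨g, rfl⟩ := _root_.isConj_iff.1 hxy
      have hy1 : g * x * g⁻¹ ∈ D₁ := hHD₁ (Subgroup.conjugatesOfSet_subset_normalClosure hy)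
      refine ⟨⟨_, hy1⟩, ?_, rfl⟩
      show MonoidHom.transfer φ ⟨_, hy1⟩ = 1
      rcases hx with hx | ⟨hcop, -, -⟩
      · haveI := Fintype.ofFinite (Quotient (MulAction.orbitRel
          (Subgroup.zpowers (⟨_, hy1⟩ : D₁)) (D₁ ⧸ S₁)))
        rw [MonoidHom.transfer_eq_prod_quotient_orbitRel_zpowers_quot]
        refine Finset.prod_eq_one fun q _ => (QuotientGroup.eq_one_iff _).2 ((hmemT₁ _).2 ?_)
        have hmem := Subgroup.mem_subgroupOf.1
          (QuotientGroup.out_conj_pow_minimalPeriod_mem S₁ (⟨_, hy1⟩ : D₁) q.out)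
        simp only [Subgroup.coe_mul, InvMemClass.coe_inv, SubmonoidClass.coe_pow, conj_pow] at hmem ⊢
        have h2 := mem_of_conj_mem hE (T.pow_mem hx _)
          (g := ((q.out.out : D₁) : G)⁻¹ * g) (by simpa [mul_assoc] using hmem)
        simpa [mul_assoc] using h2
      · obtain ⟨a, ha⟩ := ((S.isPGroup'.of_injective
          ((D₁.subtype.comp S₁.subtype).codRestrict (S : Subgroup G) fun z => z.2)
          (fun z w h => Subtype.ext (Subtype.ext (congrArg Subtype.val h :)))).to_quotient T₁)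
          (MonoidHom.transfer φ ⟨_, hy1⟩)
        refine eq_one_of_coprime_pow (p := p) ?_ ha
        refine Nat.Coprime.coprime_dvd_left ((orderOf_map_dvd _ _).trans ?_) hcop
        rw [Subgroup.orderOf_mk]
        exact orderOf_dvd_of_pow_eq_one (by rw [conj_pow, pow_orderOf_eq_one]; group)
    obtain ⟨sd, hsd, rfl⟩ := hkill hsH
    obtain ⟨z, hz, hzx⟩ := hZ ⟨sd, hsS⟩
    have hVz : V (z : D₁) = φ z ^ S₁.index := by
      refine transfer_eq_pow_index φ z fun k g hm => ?_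
      refine Eq.trans ?_ (map_pow φ z k)
      refine QuotientGroup.eq.2 ((hmemT₁ _).2 ?_)
      have hzk : ((z : D₁) : G) ^ k ∈ Q := Q.pow_mem hz k
      have h1 := hRle _ _ hzk (D.inv_mem g.2.1)
      show ((g : G)⁻¹ * ((z : D₁) : G) ^ k * (g : G))⁻¹ * ((z : D₁) : G) ^ k ∈ T
      have := T.inv_mem h1
      have hc := hnorm ((S : Subgroup G).inv_mem (hQS hzk)) this
      simpa [mul_assoc] using hc
    have hsub1 : (V sd : S₁ ⧸ T₁) = V (z : D₁) := by
      have hzs := QuotientGroup.eq.1 hzx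
      rw [hmemT₁] at hzs
      rw [← inv_mul_eq_one, ← map_inv, ← map_mul]
      have hmem : ((sd : D₁) : G)⁻¹ * ((z : D₁) : G) ∈ (V.ker).map D₁.subtype :=
        hkill (hTH hzs)
      obtain ⟨w, hw, hwv⟩ := hmem
      rw [show sd⁻¹ * (z : D₁) = w from Subtype.ext hwv.symm]
      exact hw
    have hφz : φ z = 1 := by
      have hi : ¬ p ∣ S₁.index := by
        obtain ⟨U, hU⟩ := isSylowIn_inf_normal S D₁
        have := U.not_dvd_index
        rwa [hU, show ((S : Subgroup G) ⊓ D₁).subgroupOf D₁ = S₁ from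
          Subgroup.inf_subgroupOf_right _ _] at this
      obtain ⟨a, ha⟩ := S.isPGroup' ⟨_, z.2⟩
      refine eq_one_of_coprime_pow (p := p) (a := a) ?_ ?_
      · refine Nat.Coprime.coprime_dvd_left (orderOf_dvd_of_pow_eq_one ?_)
          (hp.coprime_iff_not_dvd.2 hi).symm
        rw [← hVz, ← hsub1]
        exact hsd
      · rw [← map_pow, show z ^ p ^ a = 1 from
          Subtype.ext (Subtype.ext (congrArg Subtype.val ha :)), map_one]
    have hzT := (hmemT₁ z).1 ((QuotientGroup.eq_one_iff _).1 hφz)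
    have hzs := (hmemT₁ _).1 (QuotientGroup.eq.1 hzx)
    have := T.mul_mem hzT (T.inv_mem hzs)
    simpa using this
  have hTs : IsSylowIn p T H := by
    have := isSylowIn_inf_normal S H
    rwa [inf_comm, hHS] at this
  -- automorphisms of the top are induced from `H`
  have htop : ∀ α ∈ E.autGroup T, ∃ h ∈ H, ∀ x : T, ((α x : T) : G) = h * (x : G) * h⁻¹ := by
    intro α hα
    obtain ⟨β, hβ, hβα, hβc⟩ := hextc α hα
    have hUS : T ⊔ centralizerIn (S : Subgroup G) T ≤ (S : Subgroup G) :=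
      sup_le hTS (centralizerIn_le _)
    obtain ⟨-, -, g, hg'⟩ := (mem_autGroup_iff hUS).1 hβ
    have hg : ∀ u : ↥(T ⊔ centralizerIn (S : Subgroup G) T),
        ((β u : _) : G) = g * (u : G) * g⁻¹ := hg'
    have hgα : ∀ x : T, g * (x : G) * g⁻¹ = ((α x : T) : G) := fun x => by
      rw [← hβα x, hg]; rfl
    have hgT : ∀ x ∈ T, g * x * g⁻¹ ∈ T := fun x hx => by
      rw [hgα ⟨x, hx⟩]; exact (α _).2
    have hgC : ∀ c ∈ centralizerIn (S : Subgroup G) T, g * c * g⁻¹ * c⁻¹ ∈ T := by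
      intro c hc
      have h1 := hβc ⟨c, Subgroup.mem_sup_right hc⟩ hc
      rw [hg] at h1
      have := hnorm (centralizerIn_le T hc) h1.1
      simpa [mul_assoc] using this
    have hpowE : ∀ n : ℕ, conjHom T (g ^ n) ∈ E.Hom T := fun n => by
      refine hom_congr ((mem_autGroup_iff le_rfl).1 (pow_mem hα n)) ?_
      induction n with
      | zero => intro x; show g ^ 0 * (x : G) * (g ^ 0)⁻¹ = (((α ^ 0) x : T) : G); simp
      | succ n ih =>
        intro x
        show g ^ (n + 1) * (x : G) * (g ^ (n + 1))⁻¹ = ((((α ^ (n + 1)) x : T)) : G)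
        rw [pow_succ' α, MulAut.mul_apply, ← hgα]
        rw [show (((α ^ n) x : T) : G) = g ^ n * (x : G) * (g ^ n)⁻¹ from (ih x).symm, pow_succ']
        group
    obtain ⟨i, j, hij, ⟨a, ha⟩, hj⟩ := exists_p_split (p := p) g
    have hjL : g ^ j ∈ L := ⟨hj, hpowE j, (hD _).2 fun q hq =>
      conj_mul_inv_mem hE hTp hRdef (hpowE j) hj (conj_pow_mod hgT hgC j) hq⟩
    obtain ⟨t, ht, htv⟩ := exists_mem_of_p_element hE hTp (hpowE i) ha
    refine ⟨t * g ^ j, H.mul_mem (hTH ht) (hLH _ hjL), fun x => ?_⟩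
    have hjx : g ^ j * (x : G) * (g ^ j)⁻¹ ∈ T := hom_apply_mem (hpowE j) x
    calc ((α x : T) : G) = g * (x : G) * g⁻¹ := (hgα x).symm
      _ = g ^ i * (g ^ j * (x : G) * (g ^ j)⁻¹) * (g ^ i)⁻¹ := by
          conv_lhs => rw [← hij]
          group
      _ = t * (g ^ j * (x : G) * (g ^ j)⁻¹) * t⁻¹ := htv _ hjx
      _ = t * g ^ j * (x : G) * (t * g ^ j)⁻¹ := by group
  -- the maps of the subsystem come from `H`
  have hle : E ≤ fusionSystemOfSubgroup H T hTH := by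
    refine alperin_gen hTp hEsat _ ?_ ?_
    · intro α hα
      obtain ⟨h, hh, hv⟩ := htop α hα
      exact (mem_autGroup_iff le_rfl).2 ⟨le_rfl, fun x => (α x).2, h, hh, hv⟩
    · intro P hPT hess _
      have hfn := hess.2.1
      have := finite_mulAut_of_le (S := T) hPT.le
      set X := (fusionSystemOfSubgroup H T hTH).autGroup P with hX
      have hXn : (X.subgroupOf (E.autGroup P)).Normal := by
        refine ⟨fun β hβ α => ?_⟩
        obtain ⟨g, hg'⟩ := exists_conj_of_normalIn hE ((mem_autGroup_iff hPT.le).1 α.2)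
        have hg : ∀ x : P, (((α : MulAut P) x : P) : G) = g * (x : G) * g⁻¹ := hg'
        obtain ⟨-, -, h, hh, hv'⟩ := (mem_autGroup_iff hPT.le).1 (Subgroup.mem_subgroupOf.1 hβ)
        have hv : ∀ x : P, (((β : MulAut P) x : P) : G) = h * (x : G) * h⁻¹ := hv'
        refine Subgroup.mem_subgroupOf.2 ((mem_autGroup_iff hPT.le).2
          ⟨hPT.le, fun x => hPT.le ((((α * β * α⁻¹ : E.autGroup P) : MulAut P)) x).2,
            g * h * g⁻¹, hHn.conj_mem h hh g, fun x => ?_⟩)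
        show (((α : MulAut P) ((β : MulAut P) ((α : MulAut P)⁻¹ x)) : P) : G) = _
        have hx : g * (((α : MulAut P)⁻¹ x : P) : G) * g⁻¹ = (x : G) := by
          rw [← hg, MulAut.apply_inv_self]
        rw [hg, hv, ← hx]
        group
      obtain ⟨-, P₀, hP₀⟩ := IsSaturated.fullyAutomized hTp hEsat hfn
      have hP₀X : (P₀ : Subgroup (E.autGroup P)) ≤ X.subgroupOf (E.autGroup P) := by
        rw [hP₀]
        exact Subgroup.comap_mono (autInducedBy_le_autGroup hPT.le)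
      intro α hα
      have hfr2 := Sylow.normalizer_sup_eq_top (P₀.subtype hP₀X)
      rw [Sylow.coe_subtype, Subgroup.map_subgroupOf_eq_of_le hP₀X] at hfr2
      have hmem : (⟨α, hα⟩ : E.autGroup P) ∈
          ((Subgroup.normalizer ((P₀ : Subgroup (E.autGroup P)) : Set (E.autGroup P)) ⊔
            X.subgroupOf (E.autGroup P) : Subgroup (E.autGroup P)) : Set (E.autGroup P)) := by
        rw [hfr2]; trivial
      rw [Subgroup.mul_normal] at hmem
      obtain ⟨ν, hν, β, hβ, hνβ⟩ := Set.mem_mul.1 hmem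
      rw [show α = (ν : MulAut P) * (β : MulAut P) from (congrArg Subtype.val hνβ).symm]
      refine mul_mem (Subgroup.mem_sup_right ?_) (Subgroup.mem_sup_left hβ)
      obtain ⟨g, hg, hgP⟩ := exists_mem_normalizerIn_not_mem (p := p) hTp hPT
      refine mem_extGroup_of_conj (IsSaturated.receptive hTp hEsat
        (IsSaturated.fullyCentralized hTp hEsat hfn)) ν.2 ⟨g, hg⟩ hgP ?_
      have h0 : (⟨conjAut ⟨g, hg⟩, autInducedBy_le_autGroup hPT.le (conjAut_mem ⟨g, hg⟩)⟩ :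
          E.autGroup P) ∈ (P₀ : Subgroup (E.autGroup P)) := by
        rw [hP₀]; exact conjAut_mem ⟨g, hg⟩
      have h1 := (Subgroup.mem_normalizer_iff.1 hν _).1 h0
      rw [hP₀] at h1
      exact h1
  -- and conversely
  have hge : ∀ P : Subgroup G, (fusionSystemOfSubgroup H T hTH).Hom P ⊆ E.Hom P := by
    rintro P φ ⟨hPT, hφT, h, hh, hhv⟩
    set W := P ⊔ R with hW
    have hWT : W ≤ T := sup_le hPT hRT
    have hWh : W ≤ T.comap (MulAut.conj h).toMonoidHom := sup_le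
      (fun x hx => by
        show h * x * h⁻¹ ∈ T
        exact hhv ⟨x, hx⟩ ▸ hφT ⟨x, hx⟩)
      (fun x hx => hRT (hRn.conj_mem x hx h))
    suffices hWhom : conjHom W h ∈ E.Hom W from
      hom_congr (restrict_mem hWhom le_sup_left) hhv
    have hfn : E.IsFullyNormalized R := ⟨hRT, fun P' _ => Subgroup.card_le_of_le
      ((normalizerIn_le P').trans (le_inf le_rfl (Core.le_normalizer_of_normal T R)))⟩
    have hrec := IsSaturated.receptive hTp hEsat (IsSaturated.fullyCentralized hTp hEsat hfn)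
    let e : R ≃* R := MulAut.conjNormal (H := R) h
    have he : IsoIn E e := hom_congr ((hA h).1 (hHD₁ hh).2) fun x => MulAut.conjNormal_apply h x
    have hWext : W ≤ extender T R (isoHom e) := fun w hw => by
      refine mem_extender_iff.2 ⟨hWT hw, Core.le_normalizer_of_normal T R (hWT hw),
        h * w * h⁻¹, hWh hw, fun x hx => ?_⟩
      show ((MulAut.conjNormal (H := R) h ⟨_, hx⟩ : R) : G) =
        h * w * h⁻¹ * ((MulAut.conjNormal (H := R) h x : R) : G) * (h * w * h⁻¹)⁻¹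
      rw [MulAut.conjNormal_apply, MulAut.conjNormal_apply]
      group
    obtain ⟨ψ, hψ, hψv⟩ := exists_extension hrec he le_sup_right hWext
    obtain ⟨-, -, h', hh', hh'v⟩ := hle W hψ
    set k := h'⁻¹ * h with hk
    have hkR : k ∈ R := by
      have hkC : k ∈ Subgroup.centralizer (R : Set G) := Subgroup.mem_centralizer_iff.2 fun r hr => by
        have h1 := hψv ⟨r, hr⟩
        rw [hh'v, MulAut.conjNormal_apply] at h1
        have h1' : h' * r * h'⁻¹ = h * r * h⁻¹ := h1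
        calc r * k = h'⁻¹ * (h' * r * h'⁻¹) * h := by rw [hk]; group
          _ = h'⁻¹ * (h * r * h⁻¹) * h := by rw [h1']
          _ = k * r := by rw [hk]; group
      have hkH : k ∈ H := H.mul_mem (H.inv_mem hh') hh
      have hkQ : k ∈ Q := hCD ⟨hkC, (hHD₁ hkH).1⟩
      exact ⟨hHS.le ⟨hkH, hQS hkQ⟩, hkQ⟩
    refine comp_mem' (E.conj_mem hWT (hRT hkR)) hψ (fun x => ?_) fun x => ?_
    · exact W.mul_mem (W.mul_mem (Subgroup.mem_sup_right hkR) x.2)
        (W.inv_mem (Subgroup.mem_sup_right hkR))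
    · rw [hh'v]
      show h * (x : G) * h⁻¹ = h' * (k * (x : G) * k⁻¹) * h'⁻¹
      rw [hk]; group
  refine ⟨H, ⟨hTH, hHn, hTs, fun P => Set.Subset.antisymm (hle P) (hge P)⟩, ?_⟩
  -- uniqueness
  rintro H' ⟨hTH', hH'n, hTs', hE'⟩
  have hH'S : H' ⊓ (S : Subgroup G) = T := by
    exact IsSylowIn.eq_of_le (p := p) hTs' hTH' (le_inf hTH' hTS) inf_le_left
      (S.isPGroup'.to_le inf_le_right)
  have hH'D : H' ≤ D := fun g hg => (hD g).2 fun q hq => by
    have h1 : g * q * g⁻¹ * q⁻¹ ∈ Q := Q.mul_mem (hQn.conj_mem q hq g) (Q.inv_mem hq)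
    refine ⟨hH'S.le ⟨?_, hQS h1⟩, h1⟩
    have := H'.mul_mem hg (hH'n.conj_mem _ (H'.inv_mem hg) q)
    simpa [mul_assoc] using this
  have hLH' : H ≤ H' := by
    refine Subgroup.normalClosure_le_normal ?_
    rintro g (hg | ⟨hcop, hgE, hgD⟩)
    · exact hTH' hg
    · rw [hE'] at hgE
      obtain ⟨-, -, h, hh, hhv⟩ := hgE
      have hkQ : h⁻¹ * g ∈ Q := hCD ⟨Subgroup.mem_centralizer_iff.2 fun r hr => by
        have h1 : g * r * g⁻¹ = h * r * h⁻¹ := hhv ⟨r, hRT hr⟩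
        calc r * (h⁻¹ * g) = h⁻¹ * (h * r * h⁻¹) * g := by group
          _ = h⁻¹ * (g * r * g⁻¹) * g := by rw [h1]
          _ = h⁻¹ * g * r := by group, D.mul_mem (D.inv_mem (hH'D hh)) hgD⟩
      obtain ⟨a, ha⟩ := Core.isPGroup_pCore (G := G) (p := p) ⟨_, hkQ⟩
      have h2 : (g : G ⧸ H') = ((h⁻¹ * g : G) : G ⧸ H') := by
        rw [QuotientGroup.mk_mul, QuotientGroup.mk_inv, (QuotientGroup.eq_one_iff h).2 hh, inv_one,
          one_mul]
      refine (QuotientGroup.eq_one_iff g).1 (eq_one_of_coprime_pow (p := p) (a := a) ?_ ?_)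
      · exact Nat.Coprime.coprime_dvd_left (orderOf_map_dvd (QuotientGroup.mk' H') g) hcop
      · rw [h2, ← QuotientGroup.mk_pow, show (h⁻¹ * g) ^ p ^ a = 1 from congrArg Subtype.val ha,
          QuotientGroup.mk_one]
  refine le_antisymm (fun g hg => ?_) hLH'
  obtain ⟨l, hl, hlT⟩ := hTs.exists_conj_mem (X := conjOf g T)
    (by rintro _ ⟨t, ht, rfl⟩; exact hHn.conj_mem t (hTH ht) g) (hTp.map _)
  have hnT : ∀ t ∈ T, l * g * t * (l * g)⁻¹ ∈ T := fun t ht => by
    have := hlT _ (conj_mem_conjOf (g := g) ht)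
    simpa [mul_assoc] using this
  have hnH' : l * g ∈ H' := H'.mul_mem (hLH' hl) hg
  suffices hn : l * g ∈ H by
    have := H.mul_mem (H.inv_mem hl) hn
    simpa using this
  obtain ⟨i, j, hij, ⟨a, ha⟩, hj⟩ := exists_p_split (p := p) (l * g)
  have hpowT : ∀ (n : ℕ), ∀ t ∈ T, (l * g) ^ n * t * ((l * g) ^ n)⁻¹ ∈ T := by
    intro n
    induction n with
    | zero => intro t ht; simpa using ht
    | succ n ih =>
      intro t ht
      simpa [pow_succ', mul_assoc, mul_inv_rev] using hnT _ (ih t ht)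
  rw [← hij]
  refine H.mul_mem (hTH ?_) (hLH _ ⟨hj, ?_, hH'D (H'.pow_mem hnH' j)⟩)
  · have hZ : IsPGroup p (Subgroup.zpowers ((l * g) ^ i)) := by
      rintro ⟨_, k, rfl⟩
      refine ⟨a, Subtype.ext ?_⟩
      show (((l * g) ^ i) ^ k) ^ p ^ a = 1
      rw [← zpow_natCast, ← zpow_mul, mul_comm, zpow_mul, zpow_natCast, ha, one_zpow]
    have hN : Subgroup.zpowers ((l * g) ^ i) ≤ Subgroup.normalizer (T : Set G) := by
      rw [Subgroup.zpowers_le, Subgroup.mem_normalizer_iff_map_conj_eq]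
      refine Subgroup.eq_of_le_of_card_ge ?_ (card_conjOf _ T).ge
      rintro _ ⟨t, ht, rfl⟩
      exact hpowT i t ht
    have hsup : IsPGroup p (T ⊔ Subgroup.zpowers ((l * g) ^ i) : Subgroup G) :=
      hTp.to_sup_of_normal_left' hZ hN
    have := IsSylowIn.eq_of_le (p := p) hTs' hTH' le_sup_left
      (sup_le hTH' (Subgroup.zpowers_le.2 (H'.pow_mem hnH' i))) hsup
    exact this.le (Subgroup.mem_sup_right (Subgroup.mem_zpowers _))
  · rw [hE']
    exact ⟨le_rfl, fun x => hpowT j x x.2, (l * g) ^ j, H'.pow_mem hnH' j, fun _ => rfl⟩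

end Main

end CfsgLib.Fusion
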