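import Cfsg.Agent.Lib.Fusion.ClosedCentric
import Cfsg.Agent.Lib.Fusion.Invariant

/-!
Basic facts about a weakly normal subsystem over a strongly closed subgroup `T`: transport of
automorphism groups, full normalization, centricity, and elements of `p`-power order.
-/

set_option autoImplicit false

namespace CfsgLib.Fusion

open Cfsg Cfsg.FusionSystem

variable {Ω : Type*} [Group Ω] {S T : Subgroup Ω} {F : FusionSystem S} {E : FusionSystem T}
  {p : ℕ}

/-- Isomorphisms of `F` between subgroups of `T` carry the automorphism groups of an invariant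
subsystem to each other. -/
theorem invariant_congr (hE : E.IsInvariantIn F) {R R' : Subgroup Ω} (hR : R ≤ T) {e : R ≃* R'}
    (he : IsoIn F e) {a : MulAut R} (ha : a ∈ E.autGroup R) :
    MulAut.congr e a ∈ E.autGroup R' := by
  obtain ⟨-, hT, hinv, hfr⟩ := hE
  have hR' : R' ≤ T := fun y hy => by
    have h1 := hT.2 R hR _ he.mem (e.symm ⟨y, hy⟩)
    rwa [isoHom_apply, MulEquiv.apply_symm_apply] at h1
  obtain ⟨α, hα, φ₀, hφ₀, hval⟩ := hfr R hR _ he.mem
  obtain ⟨e₀, he₀, hev⟩ := exists_iso hφ₀ (Q := φ₀.range) rfl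
  have hR₀T : φ₀.range ≤ T := hom_range_le hφ₀
  have ha₀ : IsoIn E (MulAut.congr e₀ a : φ₀.range ≃* φ₀.range) :=
    (mem_autGroup_iff_isoIn hR₀T).1 (he₀.congr_autGroup.le ⟨a, ha, rfl⟩)
  obtain ⟨χ, hχ, hχv⟩ := hinv φ₀.range hR₀T _ ha₀.mem α hα
  have hev' : ∀ x : R, ((e x : R') : Ω) = ((α ⟨φ₀ x, hom_apply_mem hφ₀ x⟩ : T) : Ω) :=
    fun x => hval x _
  have hle : R' ≤ (φ₀.range.subgroupOf T).map (T.subtype.comp α.toMonoidHom) := fun y hy => by
    refine ⟨⟨φ₀ (e.symm ⟨y, hy⟩), hom_apply_mem hφ₀ _⟩, ⟨_, rfl⟩, ?_⟩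
    show ((α _ : T) : Ω) = y
    rw [← hev', MulEquiv.apply_symm_apply]
  refine (mem_autGroup_iff hR').2 (restrict_mem' hχ hle fun y => ?_)
  obtain ⟨x, rfl⟩ := e.surjective y
  have hel : φ₀ x ∈ φ₀.range := ⟨x, rfl⟩
  have h1 := hχv ⟨φ₀ x, hel⟩ (hR₀T (MulAut.congr e₀ a ⟨φ₀ x, hel⟩).2)
    ⟨⟨φ₀ x, hom_apply_mem hφ₀ x⟩, hel, rfl⟩
  have h2 : ((MulAut.congr e₀ a ⟨φ₀ x, hel⟩ : φ₀.range) : Ω) = φ₀ (a x) := by
    rw [show (⟨φ₀ x, hel⟩ : φ₀.range) = e₀ x from Subtype.ext (hev x).symm, ← hev]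
    simp [MulAut.congr]
  show ((MulAut.congr e a (e x) : R') : Ω) = χ ⟨(e x : Ω), hle (e x).2⟩
  rw [show MulAut.congr e a (e x) = e (a x) by simp [MulAut.congr], hev']
  refine ((congrArg χ (Subtype.ext (hev' x))).trans (h1.trans ?_)).symm
  congr 2
  exact Subtype.ext h2

variable [Fact p.Prime] [Finite S]

/-- A subgroup of `T` fully normalized in `F` is fully normalized in a subsystem over `T`. -/
theorem fullyNormalized_of_ambient (hS : IsPGroup p S) (hF : F.IsSaturated p)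
    (hT : F.StronglyClosed T) (hsub : E.IsSubsystemOf F) {R : Subgroup Ω}
    (hR : F.IsFullyNormalized R) (hRT : R ≤ T) : E.IsFullyNormalized R := by
  refine ⟨hRT, fun Q hQ => ?_⟩
  have hQT : Q ≤ T := isConj_le_right hQ
  have hQF : F.IsConj Q R := by
    obtain ⟨φ, hφ, hr⟩ := hQ
    exact isConj_symm ⟨φ, hsub R hφ, hr⟩
  obtain ⟨f, hf, hfN, himg⟩ := exists_normalizer_map hS (IsSaturated.fullyAutomized hS hF hR)
    (IsSaturated.receptive hS hF (IsSaturated.fullyCentralized hS hF hR)) hQF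
  have hle : normalizerIn T Q ≤ normalizerIn S Q := fun x hx => ⟨hT.1 hx.1, hx.2⟩
  have hmem : ∀ x : normalizerIn T Q, f (Subgroup.inclusion hle x) ∈ normalizerIn T R := fun x =>
    ⟨hT.2 (normalizerIn T Q) (normalizerIn_le Q) _ (restrict_mem hf hle) x, (hfN _).2⟩
  have := finite_le ((normalizerIn_le (S := T) R).trans hT.1)
  refine Nat.card_le_card_of_injective (fun x => (⟨_, hmem x⟩ : normalizerIn T R)) fun a b h => ?_
  exact Subgroup.inclusion_injective hle (F.injective_of_mem hf (congrArg Subtype.val h :))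

omit [Fact p.Prime] [Finite S] in
/-- A subgroup centric in an invariant subsystem is centric inside `T` for the conjugates in `F`. -/
theorem tCentric_of_centric (hE : E.IsInvariantIn F) {R : Subgroup Ω} (hR : E.IsCentric R) :
    TCentric F T R := by
  refine ⟨hR.1, ?_⟩
  rintro _ ⟨φ, hφ, rfl⟩ y hy
  obtain ⟨γ, hγ, e, he, hv⟩ := hE.2.2.2 R hR.1 φ hφ
  obtain ⟨hyT, hyc⟩ := mem_centralizerIn.1 hy
  set z : T := γ⁻¹ ⟨y, hyT⟩ with hz
  have hzc : (z : Ω) ∈ centralizerIn T e.range := by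
    refine mem_centralizerIn.2 ⟨z.2, ?_⟩
    rintro _ ⟨x, rfl⟩
    have h1 := hyc (φ x) ⟨x, rfl⟩
    rw [hv x (hom_apply_mem he x)] at h1
    have h2 : γ (⟨e x, hom_apply_mem he x⟩ * z) = γ (z * ⟨e x, hom_apply_mem he x⟩) := by
      rw [map_mul, map_mul, hz, MulAut.apply_inv_self]
      exact Subtype.ext h1
    exact congrArg Subtype.val (γ.injective h2)
  obtain ⟨x, hx⟩ := hR.2 e.range ⟨e, he, rfl⟩ hzc
  refine ⟨x, ?_⟩
  rw [hv x (hom_apply_mem he x), show (⟨e x, hom_apply_mem he x⟩ : T) = z from Subtype.ext hx,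
    hz, MulAut.apply_inv_self]

/-- At a fully normalized subgroup an element of `p`-power order of `Aut_E(R)` is a conjugate of an
automorphism induced by `T`. -/
theorem exists_conj_autInducedBy (hS : IsPGroup p S) (hF : F.IsSaturated p) (hE : E.IsSaturated p)
    (hT : F.StronglyClosed T) (hsub : E.IsSubsystemOf F) {R : Subgroup Ω} (hRT : R ≤ T)
    (hR : F.IsFullyNormalized R) {a : MulAut R} (ha : a ∈ E.autGroup R)
    (hk : ∃ k : ℕ, a ^ p ^ k = 1) :
    ∃ k ∈ E.autGroup R, k * a * k⁻¹ ∈ autInducedBy T R := by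
  have := finite_le hT.1
  have := finite_mulAut_of_le (S := S) (hRT.trans hT.1)
  have hTp : IsPGroup p T := hS.to_le hT.1
  have hsyl := (IsSaturated.fullyAutomized hTp hE (fullyNormalized_of_ambient hS hF hT hsub hR hRT)).2
  have hap : IsPGroup p (Subgroup.zpowers a) := by
    obtain ⟨k, hk⟩ := hk
    obtain ⟨j, -, hj⟩ := (Nat.dvd_prime_pow Fact.out).1 (orderOf_dvd_of_pow_eq_one hk)
    exact IsPGroup.of_card (n := j) (by rw [Nat.card_zpowers, hj])
  obtain ⟨k, hk', hv⟩ := IsSylowIn.exists_conj_mem hsyl (Subgroup.zpowers_le.2 ha) hap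
  exact ⟨k, hk', hv a (Subgroup.mem_zpowers a)⟩

/-- Elements of `p`-power order of a weakly normal subsystem lie in every invariant subsystem over
the same subgroup. -/
theorem pElement_mem (hS : IsPGroup p S) (hF : F.IsSaturated p) (hE : E.IsSaturated p)
    (hEi : E.IsInvariantIn F) {D : FusionSystem T} (hD : D.IsInvariantIn F) {R : Subgroup Ω}
    (hRT : R ≤ T) {a : MulAut R} (ha : a ∈ E.autGroup R) (hk : ∃ k : ℕ, a ^ p ^ k = 1) :
    a ∈ D.autGroup R := by
  have hT : F.StronglyClosed T := hEi.2.1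
  obtain ⟨U, hRU, hUn⟩ := exists_fullyNormalized (F := F) (hRT.trans hT.1)
  obtain ⟨e, he⟩ := isConj_iff.1 hRU
  have hUT : U ≤ T := fun y hy => by
    have h1 := hT.2 R hRT _ he.mem (e.symm ⟨y, hy⟩)
    rwa [isoHom_apply, MulEquiv.apply_symm_apply] at h1
  have ha' := invariant_congr hEi hRT he ha
  obtain ⟨k, hk', hc⟩ := exists_conj_autInducedBy hS hF hE hT hEi.1 hUT hUn ha' (by
    obtain ⟨k, hk⟩ := hk
    exact ⟨k, by rw [← map_pow, hk, map_one]⟩)
  have hkF : k ∈ F.autGroup U :=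
    (mem_autGroup_iff hUn.1).2 (hEi.1 U ((mem_autGroup_iff hUT).1 hk'))
  have h1 := invariant_conj_mem hD hUT (autInducedBy_le_autGroup hUT hc)
    (Subgroup.inv_mem _ hkF)
  have h2 : MulAut.congr e a ∈ D.autGroup U := by
    simpa [mul_assoc] using h1
  have h3 := invariant_congr hD hUT he.symm h2
  have h4 : MulAut.congr e.symm (MulAut.congr e a) = a :=
    MulEquiv.ext fun x => by simp [MulAut.congr]
  rwa [h4] at h3

omit [Finite S] in
/-- In a finite group, a normal subgroup containing a Sylow subgroup contains every element having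
a power of `p`-power exponent in it. -/
theorem mem_of_pow_mem_sylow {G : Type*} [Group G] {A K H : Subgroup G} [Finite A]
    (hs : IsSylowIn p H A) (hKn : ∀ a ∈ A, ∀ k ∈ K, a * k * a⁻¹ ∈ K) (hHK : H ≤ K) {x : G}
    (hx : x ∈ A) {k : ℕ} (hk : x ^ p ^ k ∈ K) : x ∈ K := by
  have hfin : IsOfFinOrder x := by
    have := isOfFinOrder_of_finite (⟨x, hx⟩ : A)
    rwa [← Submonoid.isOfFinOrder_coe] at this
  obtain ⟨a, m, hm, hn⟩ := Nat.exists_eq_pow_mul_and_not_dvd hfin.orderOf_pos.ne' p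
    (Fact.out : p.Prime).ne_one
  have h1 : x ^ m ∈ K := by
    refine mem_of_sylow_le hs hKn hHK (A.pow_mem hx m) (k := a) ?_
    refine orderOf_dvd_of_pow_eq_one ?_
    rw [← pow_mul, mul_comm, ← hn, pow_orderOf_eq_one]
  have hg : Int.gcd ((p ^ k : ℕ) : ℤ) ((m : ℕ) : ℤ) = 1 := by
    rw [Int.gcd_natCast_natCast]
    exact ((Nat.Prime.coprime_iff_not_dvd Fact.out).2 hm).pow_left k
  have h2 := Int.gcd_eq_gcd_ab ((p ^ k : ℕ) : ℤ) (m : ℤ)
  rw [hg, Nat.cast_one] at h2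
  have h3 : x = (x ^ (p ^ k)) ^ Int.gcdA ((p ^ k : ℕ) : ℤ) (m : ℤ) *
      (x ^ m) ^ Int.gcdB ((p ^ k : ℕ) : ℤ) (m : ℤ) := by
    rw [← zpow_natCast x (p ^ k), ← zpow_natCast x m, ← zpow_mul, ← zpow_mul, ← zpow_add, ← h2,
      zpow_one]
  rw [h3]
  exact K.mul_mem (K.zpow_mem hk _) (K.zpow_mem h1 _)

end CfsgLib.Fusion
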