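import Cfsg.Agent.Lib.Fusion.CentralFocal
import Cfsg.Agent.Lib.Fusion.WeakNormalBasic
import Cfsg.Agent.Lib.Fusion.AlperinGen
import Cfsg.Agent.Lib.Fusion.Series
import Cfsg.Agent.Lib.Fusion.ConstrainedNormal

/-!
# The centralizer in `S` of a normal subsystem

A subgroup `Y ≤ C_S(T)` invariant in `Aut_F(T C_S(T))` and fixed by the automorphisms of `R C_S(R)` of
order prime to `p` that are trivial modulo `R` and act on `R` as elements of `Aut_E(R)` is centralized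
by `E`. This gives the largest such subgroup `C_S(E)`.
-/

set_option autoImplicit false

namespace CfsgLib.Fusion

open Cfsg Cfsg.FusionSystem

universe u

variable {Ω : Type u} [Group Ω] {S T : Subgroup Ω} {F : FusionSystem S} {E : FusionSystem T}
  {p : ℕ}

/-- `E` is contained in the centralizer system of `Y ≤ C_S(T)`. -/
def CentBy (F : FusionSystem S) (E : FusionSystem T) (Y : Subgroup Ω) : Prop :=
  Y ≤ centralizerIn S T ∧ ∀ P : Subgroup Ω, E.Hom P ⊆ F.centralizerHom Y P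

/-- `φ` extends to `P Y` fixing `Y`. -/
def FixExt (F : FusionSystem S) (Y P : Subgroup Ω) (φ : P →* Ω) : Prop :=
  ∃ ψ ∈ F.Hom (P ⊔ Y), (∀ x : P, ψ (Subgroup.inclusion le_sup_left x) = φ x) ∧
    ∀ y : Y, ψ (Subgroup.inclusion le_sup_right y) = y

theorem range_le_of_gens {P Y U : Subgroup Ω} {ψ : ↥(P ⊔ Y) →* Ω}
    (hP : ∀ x : P, ψ (Subgroup.inclusion le_sup_left x) ∈ U)
    (hY : ∀ y : Y, ψ (Subgroup.inclusion le_sup_right y) ∈ U) : ψ.range ≤ U := by
  rw [MonoidHom.range_eq_map, ← Subgroup.subgroupOf_self (H := P ⊔ Y),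
    Subgroup.subgroupOf_sup le_sup_left le_sup_right, Subgroup.map_sup]
  refine sup_le ?_ ?_
  · rintro _ ⟨x, hx, rfl⟩
    exact hP ⟨x, hx⟩
  · rintro _ ⟨y, hy, rfl⟩
    exact hY ⟨y, hy⟩

theorem mem_centralizerHom_of_fixExt {Y P : Subgroup Ω} (hsub : E.IsSubsystemOf F)
    (hTS : T ≤ S) (hY : Y ≤ centralizerIn S T) {φ : P →* Ω} (hφ : φ ∈ E.Hom P)
    (h : FixExt F Y P φ) : φ ∈ F.centralizerHom Y P := by
  have hT : T ≤ centralizerIn S Y := fun t ht =>
    mem_centralizerIn.2 ⟨hTS ht, fun y hy => ((mem_centralizerIn.1 (hY hy)).2 t ht).symm⟩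
  exact ⟨hsub P hφ, (hom_le hφ).trans hT, fun x => hT (hom_apply_mem hφ x), h⟩

theorem FixExt.mono {Y Y' P : Subgroup Ω} {φ : P →* Ω} (h : FixExt F Y P φ) (hY : Y' ≤ Y) :
    FixExt F Y' P φ := by
  obtain ⟨ψ, hψ, hψP, hψY⟩ := h
  exact ⟨_, restrict_mem hψ (sup_le_sup_left hY P), fun x => hψP x, fun y => hψY ⟨y, hY y.2⟩⟩

theorem CentBy.mono (hsub : E.IsSubsystemOf F) (hTS : T ≤ S) {Y Y' : Subgroup Ω}
    (h : CentBy F E Y) (hY : Y' ≤ Y) : CentBy F E Y' :=
  ⟨hY.trans h.1, fun P _ hφ => mem_centralizerHom_of_fixExt hsub hTS (hY.trans h.1) hφ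
    (FixExt.mono (h.2 P hφ).2.2.2 hY)⟩

theorem centBy_bot (hsub : E.IsSubsystemOf F) (hTS : T ≤ S) : CentBy F E ⊥ :=
  ⟨bot_le, fun P φ hφ => mem_centralizerHom_of_fixExt hsub hTS bot_le hφ
    ⟨φ.comp (Subgroup.inclusion (sup_bot_eq P).le), restrict_mem (hsub P hφ) _,
      fun x => rfl, fun y => by
        have : y = 1 := Subtype.ext (Subgroup.mem_bot.1 y.2)
        subst this
        simp⟩⟩

/-- The image of a centralized subgroup under a map defined on it and on `T`. -/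
theorem CentBy.image [Finite S] (hE : E.IsInvariantIn F) {L : Subgroup Ω} {φ : L →* Ω}
    (hφ : φ ∈ F.Hom L) (hT : T ≤ L) {Y : Subgroup Ω} (hY : Y ≤ L) (h : CentBy F E Y) :
    CentBy F E (img φ Y) := by
  obtain ⟨hsub, hsc, hinv, -⟩ := hE
  have hres := restrict_mem hφ hT
  obtain ⟨α, hα, hαv⟩ := exists_iso hres ((StronglyClosed.weaklyClosed hsc).2 _ hres)
  have hαA : (α : MulAut T) ∈ F.autGroup T := (mem_autGroup_iff_isoIn hsc.1).2 hα
  have hαv' : ∀ t : T, φ (Subgroup.inclusion hT t) = ((α t : T) : Ω) := fun t => (hαv t).symm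
  have hYle : img φ Y ≤ centralizerIn S T := by
    rintro _ ⟨y, hy, rfl⟩
    refine mem_centralizerIn.2 ⟨hom_apply_mem hφ y, fun t ht => ?_⟩
    have e : t = φ (Subgroup.inclusion hT (α.symm ⟨t, ht⟩)) := by
      rw [hαv', MulEquiv.apply_symm_apply]
    rw [e, ← map_mul, ← map_mul]
    exact congrArg φ (Subtype.ext ((mem_centralizerIn.1 (h.1 hy)).2 _ (α.symm ⟨t, ht⟩).2))
  refine ⟨hYle, fun P χ hχ => mem_centralizerHom_of_fixExt hsub hsc.1 hYle hχ ?_⟩
  have hPT : P ≤ T := hom_le hχ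
  obtain ⟨χ₀, hχ₀, hχ₀v⟩ := hinv P hPT χ hχ _ (inv_mem hαA)
  obtain ⟨-, -, -, ψ, hψ, hψP, hψY⟩ := h.2 _ hχ₀
  have hP' : (P.subgroupOf T).map (T.subtype.comp ((α : MulAut T)⁻¹).toMonoidHom) ≤ L := by
    rintro _ ⟨x, -, rfl⟩
    exact hT ((α : MulAut T)⁻¹ x).2
  have hK : (P.subgroupOf T).map (T.subtype.comp ((α : MulAut T)⁻¹).toMonoidHom) ⊔ Y ≤ L :=
    sup_le hP' hY
  have hψL : ∀ k, ψ k ∈ L := by
    intro k
    refine range_le_of_gens (fun x => ?_) (fun y => ?_) ⟨k, rfl⟩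
    · rw [hψP]; exact hT (hom_apply_mem hχ₀ x)
    · rw [hψY]; exact hY y.2
  obtain ⟨e, he, hev⟩ := exists_iso hφ rfl
  obtain ⟨χ', hχ', hχ'v⟩ := exists_conjMap he hK hψ hψL
  have hPi : ∀ x : P, ∃ hm : ((((α : MulAut T)⁻¹ ⟨x, hPT x.2⟩ : T) : Ω)) ∈
      (P.subgroupOf T).map (T.subtype.comp ((α : MulAut T)⁻¹).toMonoidHom),
      ((e ⟨_, hP' hm⟩ : φ.range) : Ω) = x := by
    intro x
    refine ⟨⟨⟨x, hPT x.2⟩, x.2, rfl⟩, ?_⟩
    rw [hev]
    show φ (Subgroup.inclusion hT ((α : MulAut T)⁻¹ ⟨x, hPT x.2⟩)) = _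
    rw [hαv']
    show ((α (α.symm ⟨x, hPT x.2⟩) : T) : Ω) = x
    rw [MulEquiv.apply_symm_apply]
  have hle : P ⊔ img φ Y ≤ img (isoHom e)
      ((P.subgroupOf T).map (T.subtype.comp ((α : MulAut T)⁻¹).toMonoidHom) ⊔ Y) := by
    refine sup_le (fun x hx => ?_) ?_
    · obtain ⟨hm, hmx⟩ := hPi ⟨x, hx⟩
      exact ⟨⟨_, hP' hm⟩, Subgroup.mem_sup_left hm, hmx⟩
    · rintro _ ⟨y, hy, rfl⟩
      exact ⟨y, Subgroup.mem_sup_right (show (y : Ω) ∈ Y from hy), hev y⟩
  refine ⟨_, restrict_mem hχ' hle, fun x => ?_, fun y => ?_⟩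
  · obtain ⟨hm, hmx⟩ := hPi x
    have hmem : ((e ⟨_, hK (Subgroup.mem_sup_left hm)⟩ : φ.range) : Ω) ∈ img (isoHom e)
        ((P.subgroupOf T).map (T.subtype.comp ((α : MulAut T)⁻¹).toMonoidHom) ⊔ Y) :=
      ⟨⟨_, hK (Subgroup.mem_sup_left hm)⟩, Subgroup.mem_sup_left hm, rfl⟩
    have h1 := hχ'v ⟨_, Subgroup.mem_sup_left (T := Y) hm⟩ hmem
    refine (congrArg χ' (Subtype.ext hmx.symm)).trans (h1.trans ?_)
    rw [hev]
    have h2 := hχ₀v x (hom_apply_mem hχ x) hm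
    have h3 := hψP ⟨_, hm⟩
    show φ ⟨ψ (Subgroup.inclusion le_sup_left ⟨_, hm⟩), _⟩ = χ x
    rw [show (⟨ψ (Subgroup.inclusion le_sup_left ⟨_, hm⟩), hψL _⟩ : L) =
      Subgroup.inclusion hT ((α : MulAut T)⁻¹ ⟨χ x, hom_apply_mem hχ x⟩) from
      Subtype.ext (h3.trans h2), hαv']
    show ((α (α.symm ⟨χ x, _⟩) : T) : Ω) = χ x
    rw [MulEquiv.apply_symm_apply]
  · obtain ⟨_, z, hz, rfl⟩ := y
    have hmem : ((e ⟨z, hY hz⟩ : φ.range) : Ω) ∈ img (isoHom e)
        ((P.subgroupOf T).map (T.subtype.comp ((α : MulAut T)⁻¹).toMonoidHom) ⊔ Y) :=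
      ⟨⟨z, hY hz⟩, Subgroup.mem_sup_right (show (z : Ω) ∈ Y from hz), rfl⟩
    have h1 := hχ'v ⟨z, Subgroup.mem_sup_right (show (z : Ω) ∈ Y from hz)⟩ hmem
    refine (congrArg χ' (Subtype.ext (hev z).symm)).trans (h1.trans ?_)
    rw [hev]
    show φ _ = φ z
    exact congrArg φ (Subtype.ext (hψY ⟨z, hz⟩))

/-! ### Lifts to `R C_S(R)` -/

/-- An automorphism of a fully centralized `R` extends to `R C_S(R)`. -/
theorem exists_lift [Fact p.Prime] [Finite S] (hS : IsPGroup p S) (hF : F.IsSaturated p)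
    {R : Subgroup Ω} (hR : F.IsFullyCentralized R) {k : MulAut R} (hk : k ∈ F.autGroup R) :
    ∃ κ ∈ F.autGroup (R ⊔ centralizerIn S R),
      (∀ (r : Ω) (hr : r ∈ R),
        ((κ ⟨r, le_sup_left (b := centralizerIn S R) hr⟩ : _) : Ω) = ((k ⟨r, hr⟩ : R) : Ω)) ∧
      ∀ c : ↥(R ⊔ centralizerIn S R), (c : Ω) ∈ centralizerIn S R →
        ((κ c : _) : Ω) ∈ centralizerIn S R := by
  have he : IsoIn F (k : R ≃* R) := (mem_autGroup_iff_isoIn hR.1).1 hk
  obtain ⟨ψ, hψ, hag⟩ := exists_extension (IsSaturated.receptive hS hF hR) he le_sup_left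
    (sup_le_extender he)
  have hC : ∀ c : ↥(R ⊔ centralizerIn S R), (c : Ω) ∈ centralizerIn S R →
      ψ c ∈ centralizerIn S R := extension_mem_centralizerIn hψ le_sup_left hag
  have hle : ψ.range ≤ R ⊔ centralizerIn S R := range_le_of_gens
    (fun x => Subgroup.mem_sup_left (by rw [hag]; exact (k x).2))
    (fun y => Subgroup.mem_sup_right (hC _ y.2))
  have := finite_le (sup_centralizerIn_le_S (S := S) hR.1)
  have hr : ψ.range = R ⊔ centralizerIn S R := Subgroup.eq_of_le_of_card_ge hle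
    (le_of_eq (Nat.card_congr (MonoidHom.ofInjective (F.injective_of_mem hψ)).toEquiv))
  obtain ⟨κ, hκ, hκv⟩ := exists_iso hψ hr
  exact ⟨κ, (mem_autGroup_iff_isoIn (sup_centralizerIn_le_S hR.1)).2 hκ,
    fun r hr => (hκv _).trans (hag ⟨r, hr⟩), fun c hc => (hκv c).symm ▸ hC c hc⟩

theorem TrivAut.inv [Finite S] {R : Subgroup Ω} (hR : R ≤ S)
    {x : MulAut ↥(R ⊔ centralizerIn S R)} (hx : TrivAut F R x) : TrivAut F R x⁻¹ := by
  have := finite_mulAut_of_le (S := S) (sup_centralizerIn_le_S (S := S) hR)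
  obtain ⟨n, hn⟩ := mem_powers_iff_mem_zpowers.2
    (Subgroup.inv_mem _ (Subgroup.mem_zpowers x))
  exact (show x ^ n = x⁻¹ from hn) ▸ hx.pow n

/-- `a` lifts to an automorphism of `R C_S(R)` trivial modulo `R`. -/
def Liftable (F : FusionSystem S) (R : Subgroup Ω) (a : MulAut R) : Prop :=
  ∃ x : MulAut ↥(R ⊔ centralizerIn S R), TrivAut F R x ∧ ∀ (r : Ω) (hr : r ∈ R),
    ((x ⟨r, le_sup_left (b := centralizerIn S R) hr⟩ : _) : Ω) = ((a ⟨r, hr⟩ : R) : Ω)

theorem Liftable.mul {R : Subgroup Ω} {a b : MulAut R} (ha : Liftable F R a)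
    (hb : Liftable F R b) : Liftable F R (a * b) := by
  obtain ⟨x, hx, hxa⟩ := ha
  obtain ⟨y, hy, hyb⟩ := hb
  refine ⟨x * y, hx.mul hy, fun r hr => ?_⟩
  show ((x (y ⟨r, _⟩) : _) : Ω) = _
  rw [show y ⟨r, le_sup_left (b := centralizerIn S R) hr⟩ =
    ⟨((b ⟨r, hr⟩ : R) : Ω), le_sup_left (b := centralizerIn S R) (b ⟨r, hr⟩).2⟩ from
    Subtype.ext (hyb r hr), hxa _ (b ⟨r, hr⟩).2]
  rfl

theorem Liftable.pow {R : Subgroup Ω} {a : MulAut R} (ha : Liftable F R a) :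
    ∀ n : ℕ, Liftable F R (a ^ n) := by
  intro n
  induction n with
  | zero => exact ⟨1, TrivAut.one R, fun r hr => rfl⟩
  | succ n ih => rw [pow_succ]; exact ih.mul ha

/-- The automorphisms of `E` that lift. -/
def liftGroup [Finite S] (F : FusionSystem S) (E : FusionSystem T) {R : Subgroup Ω} (hR : R ≤ S) :
    Subgroup (MulAut R) where
  carrier := {a | a ∈ E.autGroup R ∧ Liftable F R a}
  one_mem' := ⟨one_mem _, 1, TrivAut.one R, fun r hr => rfl⟩
  mul_mem' := fun ha hb => ⟨mul_mem ha.1 hb.1, ha.2.mul hb.2⟩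
  inv_mem' := fun {a} ha => by
    refine ⟨inv_mem ha.1, ?_⟩
    have := finite_mulAut_of_le (S := S) hR
    obtain ⟨n, hn⟩ := mem_powers_iff_mem_zpowers.2
      (Subgroup.inv_mem _ (Subgroup.mem_zpowers a))
    exact (show a ^ n = a⁻¹ from hn) ▸ ha.2.pow n

theorem exists_conj_trivAut (hT : F.StronglyClosed T) {R : Subgroup Ω} (hRT : R ≤ T)
    (hRc : centralizerIn T R ≤ R) {t : Ω} (ht : t ∈ normalizerIn T R) :
    ∃ x : MulAut ↥(R ⊔ centralizerIn S R), TrivAut F R x ∧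
      ∀ w : ↥(R ⊔ centralizerIn S R), ((x w : _) : Ω) = t * (w : Ω) * t⁻¹ := by
  have hRS : R ≤ S := hRT.trans hT.1
  have htS : t ∈ S := hT.1 ht.1
  have hTn := StronglyClosed.normal_in hT
  have hRn : ∀ g ∈ normalizerIn T R, ∀ x ∈ R, g * x * g⁻¹ ∈ R := fun g hg x hx =>
    conj_mem_of_mem_normalizer hg.2 hx
  have hCn : ∀ g ∈ normalizerIn T R, ∀ c ∈ centralizerIn S R, g * c * g⁻¹ ∈ centralizerIn S R := by
    intro g hg c hc
    refine mem_centralizerIn.2 ⟨S.mul_mem (S.mul_mem (hT.1 hg.1) hc.1) (S.inv_mem (hT.1 hg.1)),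
      fun r hr => ?_⟩
    have hr' : g⁻¹ * r * g ∈ R := by
      simpa using hRn g⁻¹ (Subgroup.inv_mem _ hg) r hr
    have h1 := (mem_centralizerIn.1 hc).2 _ hr'
    calc r * (g * c * g⁻¹) = g * (g⁻¹ * r * g * c) * g⁻¹ := by group
      _ = g * (c * (g⁻¹ * r * g)) * g⁻¹ := by rw [h1]
      _ = g * c * g⁻¹ * r := by group
  have hWn : t ∈ Subgroup.normalizer ((R ⊔ centralizerIn S R : Subgroup Ω) : Set Ω) := by
    have hle : normalizerIn T R ≤
        Subgroup.normalizer ((R ⊔ centralizerIn S R : Subgroup Ω) : Set Ω) := by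
      rw [Subgroup.le_normalizer_iff]
      intro g hg x hx
      have hm : (R ⊔ centralizerIn S R).map (MulAut.conj g).toMonoidHom ≤
          R ⊔ centralizerIn S R := by
        rw [Subgroup.map_sup]
        refine sup_le_sup ?_ ?_
        · rintro _ ⟨y, hy, rfl⟩
          exact hRn g hg y hy
        · rintro _ ⟨y, hy, rfl⟩
          exact hCn g hg y hy
      exact hm ⟨x, hx, rfl⟩
    exact hle ht
  refine ⟨conjAut (S := S) ⟨t, htS, hWn⟩, ⟨autInducedBy_le_autGroup (sup_centralizerIn_le_S hRS)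
    (conjAut_mem _), fun r hr => hRn t ht r hr, fun c hc => hRc ?_⟩, fun w => rfl⟩
  have h1 : ((c⁻¹ * conjAut (S := S) ⟨t, htS, hWn⟩ c : ↥(R ⊔ centralizerIn S R)) : Ω) =
      (c : Ω)⁻¹ * (t * c * t⁻¹) := rfl
  rw [h1]
  refine mem_centralizerIn.2 ⟨?_, ?_⟩
  · have := T.mul_mem (conj_mem_of_mem_normalizer (hTn (S.inv_mem hc.1)) ht.1) (T.inv_mem ht.1)
    rw [show (c : Ω)⁻¹ * (t * c * t⁻¹) = (c : Ω)⁻¹ * t * (c : Ω)⁻¹⁻¹ * t⁻¹ by group]
    exact this
  · exact (mem_centralizerIn.1 (Subgroup.mul_mem _ (Subgroup.inv_mem _ hc) (hCn t ht c hc))).2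

theorem trivAut_conjAut (hT : F.StronglyClosed T) {R : Subgroup Ω} (hRT : R ≤ T)
    (hRc : centralizerIn T R ≤ R) {t : Ω} (ht : t ∈ normalizerIn T R) :
    Liftable F R (conjAut (S := T) ⟨t, ht⟩) := by
  obtain ⟨x, hx, hxv⟩ := exists_conj_trivAut hT hRT hRc ht
  exact ⟨x, hx, fun r hr => hxv _⟩

theorem liftable_of_pPower [Fact p.Prime] [Finite S] (hS : IsPGroup p S) (hF : F.IsSaturated p)
    (hEs : E.IsSaturated p) (hE : E.IsInvariantIn F) {R : Subgroup Ω} (hRT : R ≤ T)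
    (hR : F.IsFullyNormalized R) (hRc : centralizerIn T R ≤ R) {a : MulAut R}
    (ha : a ∈ E.autGroup R) (hk : ∃ k : ℕ, a ^ p ^ k = 1) : Liftable F R a := by
  obtain ⟨hsub, hT, -⟩ := hE
  obtain ⟨k, hk', hc⟩ := exists_conj_autInducedBy hS hF hEs hT hsub hRT hR ha hk
  obtain ⟨t, ht, htv⟩ := mem_autInducedBy_iff.1 hc
  have htN : t ∈ normalizerIn T R := ⟨ht, mem_normalizer_of_conj_eq _ htv⟩
  obtain ⟨x, hx, hxv⟩ := trivAut_conjAut hT hRT hRc htN
  have hfc := IsSaturated.fullyCentralized hS hF hR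
  have hkF : k ∈ F.autGroup R := (mem_autGroup_iff hR.1).2 (hsub R ((mem_autGroup_iff hRT).1 hk'))
  obtain ⟨κ, hκ, hκv, hκC⟩ := exists_lift hS hF hfc hkF
  have hκi : ∀ r : ↥(R ⊔ centralizerIn S R), (r : Ω) ∈ R → ((κ⁻¹ r : _) : Ω) ∈ R := by
    intro r hr
    have h1 : κ ⟨((k⁻¹ ⟨r, hr⟩ : R) : Ω), le_sup_left (b := centralizerIn S R) (k⁻¹ ⟨r, hr⟩).2⟩ =
        r := by
      refine Subtype.ext ?_
      rw [hκv _ (k⁻¹ ⟨r, hr⟩).2, Subtype.coe_eta, MulAut.apply_inv_self]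
    rw [← h1, MulAut.inv_apply_self]
    exact (k⁻¹ ⟨r, hr⟩).2
  refine ⟨κ⁻¹ * x * κ, ⟨mul_mem (mul_mem (inv_mem hκ) hx.1) hκ, fun r hr => ?_, fun c hc => ?_⟩,
    fun r hr => ?_⟩
  · refine hκi _ (hx.2.1 _ ?_)
    show ((κ ⟨(r : Ω), le_sup_left (b := centralizerIn S R) hr⟩ : _) : Ω) ∈ R
    rw [hκv _ hr]
    exact (k ⟨r, hr⟩).2
  · have h1 : c⁻¹ * (κ⁻¹ * x * κ) c = κ⁻¹ ((κ c)⁻¹ * x (κ c)) := by
      rw [map_mul, map_inv, MulAut.inv_apply_self]; rfl
    rw [h1]
    exact hκi _ (hx.2.2 _ (hκC c hc))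
  · show ((κ⁻¹ (x (κ ⟨r, _⟩)) : _) : Ω) = _
    have e1 : κ ⟨r, le_sup_left (b := centralizerIn S R) hr⟩ =
        ⟨((k ⟨r, hr⟩ : R) : Ω), le_sup_left (b := centralizerIn S R) (k ⟨r, hr⟩).2⟩ :=
      Subtype.ext (hκv r hr)
    have e2 : x ⟨((k ⟨r, hr⟩ : R) : Ω), le_sup_left (b := centralizerIn S R) (k ⟨r, hr⟩).2⟩ =
        κ ⟨((a ⟨r, hr⟩ : R) : Ω), le_sup_left (b := centralizerIn S R) (a ⟨r, hr⟩).2⟩ := by
      refine Subtype.ext ((hxv _ (k ⟨r, hr⟩).2).trans ?_)
      rw [hκv _ (a ⟨r, hr⟩).2, conjAut_apply, Subtype.coe_eta]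
      have := htv (k ⟨r, hr⟩)
      simp only [MulAut.mul_apply, MulAut.inv_apply_self] at this
      exact this.symm
    rw [e1, e2, MulAut.inv_apply_self]

/-- A subgroup of a finite group containing a Sylow subgroup and the elements of order prime to `p`
is everything. -/
theorem le_of_sylow_of_coprime {G : Type*} [Group G] [Fact p.Prime] {A H P : Subgroup G} [Finite A]
    (hs : IsSylowIn p P A) (hPH : P ≤ H)
    (h : ∀ a ∈ A, (∃ n : ℕ, a ^ n = 1 ∧ n.Coprime p) → a ∈ H) : A ≤ H := by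
  classical
  obtain ⟨Q, hQ⟩ := hs
  suffices hd : Nat.card A ∣ Nat.card (H.subgroupOf A) from
    Subgroup.subgroupOf_eq_top.1 (Subgroup.eq_top_of_card_eq _
      (le_antisymm (Subgroup.card_le_card_group _) (Nat.le_of_dvd Nat.card_pos hd)))
  refine (Nat.factorization_le_iff_dvd Nat.card_pos.ne' Nat.card_pos.ne').1 fun q => ?_
  by_cases hq : q.Prime
  · haveI := Fact.mk hq
    obtain ⟨U, hU⟩ : ∃ U : Sylow q A, (U : Subgroup A) ≤ H.subgroupOf A := by
      by_cases hqp : q = p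
      · subst hqp
        exact ⟨Q, by rw [hQ]; exact Subgroup.comap_mono hPH⟩
      · refine ⟨default, fun a ha => h _ a.2 ?_⟩
        obtain ⟨j, hj⟩ := (default : Sylow q A).isPGroup' ⟨a, ha⟩
        refine ⟨q ^ j, ?_, ((Nat.coprime_primes hq Fact.out).2 hqp).pow_left j⟩
        have := congrArg (fun z : (default : Sylow q A) => (((z : A)) : G)) hj
        simpa using this
    have hd := Subgroup.card_dvd_of_le hU
    rw [U.card_eq_multiplicity] at hd
    exact (hq.pow_dvd_iff_le_factorization Nat.card_pos.ne').1 hd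
  · rw [Nat.factorization_eq_zero_of_not_prime _ hq]
    exact Nat.zero_le _

/-- The hypotheses on `Y` that make it centralized by `E`. -/
structure CentCand (p : ℕ) (F : FusionSystem S) (E : FusionSystem T) (Y : Subgroup Ω) : Prop where
  le : Y ≤ centralizerIn S T
  inv : ∀ β ∈ F.autGroup (T ⊔ centralizerIn S T), ∀ y : ↥(T ⊔ centralizerIn S T),
    (y : Ω) ∈ Y → ((β y : _) : Ω) ∈ Y
  fix : ∀ R : Subgroup Ω, R ≤ T → F.IsFullyNormalized R → centralizerIn T R ≤ R →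
    ∀ x : MulAut ↥(R ⊔ centralizerIn S R), TrivAut F R x → (∃ n : ℕ, x ^ n = 1 ∧ n.Coprime p) →
    (∃ a ∈ E.autGroup R, ∀ (r : Ω) (hr : r ∈ R),
      ((x ⟨r, le_sup_left (b := centralizerIn S R) hr⟩ : _) : Ω) = ((a ⟨r, hr⟩ : R) : Ω)) →
    ∀ y : ↥(R ⊔ centralizerIn S R), (y : Ω) ∈ Y → x y = y

/-- The automorphisms of `R` that extend fixing `Y`. -/
def fixGroup [Finite S] (F : FusionSystem S) (Y : Subgroup Ω) (hY : Y ≤ S) {R : Subgroup Ω}
    (hR : R ≤ S) : Subgroup (MulAut R) where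
  carrier := {a | FixExt F Y R (R.subtype.comp a.toMonoidHom)}
  one_mem' := ⟨(R ⊔ Y).subtype, incl_mem (sup_le hR hY), fun x => rfl, fun y => rfl⟩
  mul_mem' := by
    rintro a b ⟨ψa, hψa, haR, haY⟩ ⟨ψb, hψb, hbR, hbY⟩
    have hv : ∀ k, ψb k ∈ R ⊔ Y := fun k => range_le_of_gens
      (fun x => Subgroup.mem_sup_left (by rw [hbR]; exact (b x).2))
      (fun y => Subgroup.mem_sup_right (by rw [hbY]; exact y.2)) ⟨k, rfl⟩
    refine ⟨_, F.comp_mem hψb hψa hv, fun x => ?_, fun y => ?_⟩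
    · exact (congrArg ψa (Subtype.ext (hbR x))).trans (haR (b x))
    · exact (congrArg ψa (Subtype.ext (hbY y))).trans (haY y)
  inv_mem' := by
    rintro a ⟨ψ, hψ, haR, haY⟩
    have hle : R ⊔ Y ≤ ψ.range := sup_le
      (fun r hr => ⟨Subgroup.inclusion le_sup_left (a⁻¹ ⟨r, hr⟩), by
        rw [haR]
        show ((a (a⁻¹ ⟨r, hr⟩) : R) : Ω) = r
        rw [MulAut.apply_inv_self]⟩)
      fun y hy => ⟨Subgroup.inclusion le_sup_right ⟨y, hy⟩, haY ⟨y, hy⟩⟩
    obtain ⟨ι, hι, -, hιl, -⟩ := exists_inv hψ rfl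
    refine ⟨_, restrict_mem hι hle, fun x => ?_, fun y => ?_⟩
    · refine (congrArg ι (Subtype.ext ?_)).trans (hιl (Subgroup.inclusion le_sup_left (a⁻¹ x))
        ⟨_, rfl⟩)
      show (x : Ω) = ψ (Subgroup.inclusion le_sup_left (a⁻¹ x))
      rw [haR]
      show (x : Ω) = ((a (a⁻¹ x) : R) : Ω)
      rw [MulAut.apply_inv_self]
    · exact (congrArg ι (Subtype.ext (haY y).symm)).trans
        (hιl (Subgroup.inclusion le_sup_right y) ⟨_, rfl⟩)

variable [Fact p.Prime] [Finite S]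

/-- The step at a fully normalized subgroup. -/
theorem fixExt_step (hS : IsPGroup p S) (hE : E.IsNormalIn F p) {Y : Subgroup Ω}
    (hY : CentCand p F E Y) {R : Subgroup Ω} (hRT : R ≤ T) (hR : F.IsFullyNormalized R)
    (hRc : centralizerIn T R ≤ R)
    (hup : ∀ Q : Subgroup Ω, Nat.card R < Nat.card Q → ∀ φ ∈ E.Hom Q, FixExt F Y Q φ) :
    E.autGroup R ≤ fixGroup F Y (hY.le.trans (centralizerIn_le T)) hR.1 := by
  obtain ⟨⟨hEs, hF, hEi⟩, hext⟩ := hE
  have hsub := hEi.1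
  have hT := hEi.2.1
  have hYS : Y ≤ S := hY.le.trans (centralizerIn_le T)
  have := finite_le hT.1
  have hfinA := finite_mulAut_of_le (S := S) hR.1
  have hTp : IsPGroup p T := hS.to_le hT.1
  have hRfn := fullyNormalized_of_ambient hS hF hT hsub hR hRT
  have hsyl := (IsSaturated.fullyAutomized hTp hEs hRfn).2
  have hP : autInducedBy T R ≤ E.autGroup R := autInducedBy_le_autGroup hRT
  have hPL : autInducedBy T R ≤ liftGroup F E hR.1 := by
    intro a ha
    obtain ⟨t, ht, htv⟩ := mem_autInducedBy_iff.1 ha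
    obtain ⟨x, hx, hxv⟩ := trivAut_conjAut hT hRT hRc ⟨ht, mem_normalizer_of_conj_eq a htv⟩
    exact ⟨hP ha, x, hx, fun r hr => (hxv r hr).trans (htv ⟨r, hr⟩).symm⟩
  have hYR : Y ≤ centralizerIn S R := hY.le.trans (centralizerIn_antitone hRT)
  -- the liftable automorphisms extend
  have hL : liftGroup F E hR.1 ≤ fixGroup F Y hYS hR.1 := by
    refine le_of_sylow_of_coprime (IsSylowIn.of_le hsyl hP (fun a ha => ha.1) hPL) ?_ ?_
    · intro a ha
      obtain ⟨t, ht, htv⟩ := mem_autInducedBy_iff.1 ha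
      exact ⟨conjHom (R ⊔ Y) t, F.conj_mem (sup_le hR.1 hYS) (hT.1 ht),
        fun x => (htv x).symm, fun y => by
          show t * (y : Ω) * t⁻¹ = y
          rw [(mem_centralizerIn.1 (hY.le y.2)).2 t ht, mul_inv_cancel_right]⟩
    · rintro a ⟨haE, x, hx, hxa⟩ ⟨n, hn, hcop⟩
      have := finite_mulAut_of_le (S := S) (sup_centralizerIn_le_S (S := S) hR.1)
      obtain ⟨i, j, hij, ⟨e, he⟩, hj⟩ := exists_p_split (p := p) x
      have hpow : ∀ m : ℕ, ∀ (r : Ω) (hr : r ∈ R),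
          (((x ^ m) ⟨r, le_sup_left (b := centralizerIn S R) hr⟩ : _) : Ω) =
            (((a ^ m) ⟨r, hr⟩ : R) : Ω) := by
        intro m
        induction m with
        | zero => exact fun r hr => rfl
        | succ m ih =>
          intro r hr
          rw [pow_succ, pow_succ, MulAut.mul_apply, MulAut.mul_apply,
            show x ⟨r, le_sup_left (b := centralizerIn S R) hr⟩ =
              ⟨((a ⟨r, hr⟩ : R) : Ω), le_sup_left (b := centralizerIn S R) (a ⟨r, hr⟩).2⟩ from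
              Subtype.ext (hxa r hr), ih _ (a ⟨r, hr⟩).2]
      have hai : a ^ i = 1 := by
        have h1 : (a ^ i) ^ p ^ e = 1 := by
          refine MulEquiv.ext fun r => Subtype.ext ?_
          rw [← pow_mul, ← hpow _ r r.2, pow_mul, he]
          rfl
        refine orderOf_eq_one_iff.1 (Nat.eq_one_of_dvd_coprimes (hcop.symm.pow_left e)
          (orderOf_dvd_of_pow_eq_one h1) (orderOf_dvd_of_pow_eq_one ?_))
        rw [← pow_mul, mul_comm, pow_mul, hn, one_pow]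
      have haj : a ^ j = a := by
        refine MulEquiv.ext fun r => Subtype.ext ?_
        have h2 := hpow (i + j) r r.2
        rw [pow_add x, hij, pow_add a, hai, one_mul] at h2
        exact h2.symm.trans (hxa r r.2)
      have hfix := hY.fix R hRT hR hRc (x ^ j) (hx.pow j)
        ⟨_, pow_orderOf_eq_one _, hj⟩ ⟨a, haE, fun r hr => by rw [hpow j r hr, haj]⟩
      refine ⟨_, restrict_mem ((mem_autGroup_iff (sup_centralizerIn_le_S hR.1)).1 (hx.pow j).1)
        (sup_le le_sup_left (hYR.trans le_sup_right)), fun r => ?_, fun y => ?_⟩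
      · show (((x ^ j) ⟨r, _⟩ : _) : Ω) = ((a r : R) : Ω)
        rw [hpow j r r.2, haj]
      · exact congrArg Subtype.val (hfix ⟨y, Subgroup.mem_sup_right (hYR y.2)⟩ y.2)
  rcases eq_or_lt_of_le hRT with hRT' | hlt
  · subst hRT'
    refine le_trans (fun a ha => ?_) hL
    obtain ⟨β, hβ, hβv, hβz⟩ := hext a ha
    exact ⟨ha, β, ⟨hβ, fun r hr => (hβv ⟨r, hr⟩).symm ▸ (a ⟨r, hr⟩).2,
      fun c hc => (hβz c hc).1⟩, fun r hr => hβv ⟨r, hr⟩⟩
  intro a ha
  have := finite_le (le_refl S)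
  -- Frattini
  have hXL : (autInducedBy T R).map (MulAut.conj a).toMonoidHom ≤ liftGroup F E hR.1 := by
    rintro _ ⟨b, hb, rfl⟩
    have hb' : a * b * a⁻¹ ∈ E.autGroup R := mul_mem (mul_mem ha (hP hb)) (inv_mem ha)
    refine ⟨hb', liftable_of_pPower hS hF hEs hEi hRT hR hRc hb' ?_⟩
    obtain ⟨k, hk⟩ := isPGroup_autInducedBy (P := R) hTp ⟨b, hb⟩
    refine ⟨k, ?_⟩
    show (MulAut.conj a b) ^ p ^ k = 1
    rw [← map_pow, show b ^ p ^ k = 1 from congrArg Subtype.val hk, map_one]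
  have : Finite (liftGroup F E hR.1) := inferInstance
  obtain ⟨k, hk, hkv⟩ := (IsSylowIn.of_le hsyl hP (fun b hb =>
    (show b ∈ E.autGroup R ∧ Liftable F R b from hb).1) hPL).exists_conj_mem hXL
    ((isPGroup_autInducedBy (P := R) hTp).map _)
  have hn : k * a ∈ E.autGroup R := mul_mem hk.1 ha
  have hnorm : ∀ b ∈ autInducedBy T R, k * a * b * (k * a)⁻¹ ∈ autInducedBy T R := by
    intro b hb
    have := hkv _ (Subgroup.mem_map_of_mem _ hb)
    simp only [MulEquiv.coe_toMonoidHom, MulAut.conj_apply] at this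
    rwa [show k * a * b * (k * a)⁻¹ = k * (a * b * a⁻¹) * k⁻¹ by group]
  have he : IsoIn E ((k * a : MulAut R) : R ≃* R) := (mem_autGroup_iff_isoIn hRT).1 hn
  have hQ : normalizerIn T R ≤ extender T R (isoHom ((k * a : MulAut R) : R ≃* R)) := by
    intro t ht
    obtain ⟨h, hh, hhv⟩ := mem_autInducedBy_iff.1 (hnorm _ (conjAut_mem ⟨t, ht⟩))
    refine mem_extender_iff.2 ⟨ht.1, ht.2, h, hh, fun x hx => ?_⟩
    have h1 := hhv ((k * a) x)
    rw [← MulAut.mul_apply, inv_mul_cancel_right, MulAut.mul_apply] at h1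
    exact h1
  obtain ⟨φ, hφ, hφv⟩ := exists_extension
    (IsSaturated.receptive hTp hEs (IsSaturated.fullyCentralized hTp hEs hRfn)) he
    (le_normalizerIn hRT) hQ
  have hcard : Nat.card R < Nat.card (normalizerIn T R) := by
    have hlt' := lt_normalizerIn hTp hlt
    have := finite_le ((normalizerIn_le (S := T) R).trans hT.1)
    refine lt_of_le_of_ne (Subgroup.card_le_of_le hlt'.le) fun h => hlt'.ne ?_
    exact Subgroup.eq_of_le_of_card_ge hlt'.le h.ge
  obtain ⟨ψ, hψ, hψQ, hψY⟩ := hup _ hcard φ hφ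
  have hka : k * a ∈ fixGroup F Y hYS hR.1 :=
    ⟨_, restrict_mem hψ (sup_le_sup_right (le_normalizerIn hRT) Y),
      fun x => (hψQ (Subgroup.inclusion (le_normalizerIn hRT) x)).trans (hφv x),
      fun y => hψY y⟩
  have := Subgroup.mul_mem _ (Subgroup.inv_mem _ (hL hk)) hka
  rwa [inv_mul_cancel_left] at this

theorem fullyNormalized_closed {T : Subgroup Ω} (hT : F.StronglyClosed T) :
    F.IsFullyNormalized T := by
  refine ⟨hT.1, fun Q hQ => ?_⟩
  rw [show normalizerIn S T = S from le_antisymm (normalizerIn_le T)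
    (le_inf le_rfl (StronglyClosed.normal_in hT))]
  exact Subgroup.card_le_of_le (normalizerIn_le Q)

/-- Extending automorphisms is moved along the map to a fully normalized conjugate. -/
theorem fixExt_transport (hS : IsPGroup p S) (hE : E.IsNormalIn F p) {Y : Subgroup Ω}
    (hYC : Y ≤ centralizerIn S T)
    (hinv : ∀ β ∈ F.autGroup (T ⊔ centralizerIn S T), ∀ y : ↥(T ⊔ centralizerIn S T),
      (y : Ω) ∈ Y → ((β y : _) : Ω) ∈ Y)
    {P R : Subgroup Ω} (hPT : P ≤ T) (hPR : F.IsConj P R) (hR : F.IsFullyNormalized R)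
    (hN : ∀ φ ∈ E.Hom (normalizerIn T P), FixExt F Y (normalizerIn T P) φ)
    (hgood : ∀ a ∈ E.autGroup R, FixExt F Y R (R.subtype.comp a.toMonoidHom)) :
    ∀ a ∈ E.autGroup P, FixExt F Y P (P.subtype.comp a.toMonoidHom) := by
  intro a ha
  have hE' := hE
  obtain ⟨⟨hEs, hF, hEi⟩, -⟩ := hE'
  have hT := hEi.2.1
  have := finite_le hT.1
  have hTp : IsPGroup p T := hS.to_le hT.1
  have hYS : Y ≤ S := hYC.trans (centralizerIn_le T)
  have hTC := sup_centralizerIn_le_S (S := S) hT.1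
  have hPS : P ≤ S := hPT.trans hT.1
  obtain ⟨f, hf, -, himg⟩ := exists_normalizer_map hS (IsSaturated.fullyAutomized hS hF hR)
    (IsSaturated.receptive hS hF (IsSaturated.fullyCentralized hS hF hR)) hPR
  obtain ⟨eP, heP, hePv⟩ := exists_iso (restrict_mem hf (le_normalizerIn hPS))
    (by rw [range_restrict, himg] : (f.comp (Subgroup.inclusion (le_normalizerIn hPS))).range = R)
  have hRT : R ≤ T := fun y hy => by
    obtain ⟨x, hx, rfl⟩ := mem_img.1 (himg.ge hy)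
    exact StronglyClosed.apply_mem hT hf (hPT hx)
  obtain ⟨ψ', hψ', hψ'R, hψ'Y⟩ := hgood _ (invariant_congr hEi hPT heP ha)
  -- split `f` on `N_T(P)`
  have hle : normalizerIn T P ≤ normalizerIn S P := fun x hx => ⟨hT.1 hx.1, hx.2⟩
  obtain ⟨α, hα, φ₀, hφ₀, hv₀⟩ := hEi.2.2.2 (normalizerIn T P) (normalizerIn_le P) _
    (restrict_mem hf hle)
  obtain ⟨g₀, hg₀, hg₀N, hg₀Y⟩ := hN _ hφ₀
  obtain ⟨κ, hκ, hκT, -⟩ := exists_lift hS hF
    (IsSaturated.fullyCentralized hS hF (fullyNormalized_closed hT)) hα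
  have hPN : P ≤ normalizerIn T P := le_normalizerIn hPT
  have hg₀v : ∀ z, g₀ z ∈ T ⊔ centralizerIn S T := fun z => range_le_of_gens
    (fun x => Subgroup.mem_sup_left (by rw [hg₀N]; exact hom_apply_mem hφ₀ x))
    (fun y => Subgroup.mem_sup_right (by rw [hg₀Y]; exact hYC y.2)) ⟨z, rfl⟩
  have hg := restrict_mem (F.comp_mem hg₀ ((mem_autGroup_iff hTC).1 hκ) hg₀v)
    (sup_le_sup_right hPN Y)
  obtain ⟨g, hgdef⟩ : ∃ g, g = ((((T ⊔ centralizerIn S T).subtype.comp κ.toMonoidHom).comp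
      (g₀.codRestrict _ hg₀v)).comp (Subgroup.inclusion (sup_le_sup_right hPN Y))) := ⟨_, rfl⟩
  rw [← hgdef] at hg
  have hgP : ∀ x : P, g (Subgroup.inclusion le_sup_left x) = ((eP x : R) : Ω) := by
    intro x
    rw [hgdef, hePv]
    show ((κ ⟨g₀ (Subgroup.inclusion le_sup_left (Subgroup.inclusion hPN x)), _⟩ : _) : Ω) =
      f (Subgroup.inclusion (le_normalizerIn hPS) x)
    have h1 := hv₀ (Subgroup.inclusion hPN x) (hom_apply_mem hφ₀ _)
    refine Eq.trans ?_ h1.symm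
    refine Eq.trans ?_ (hκT _ (hom_apply_mem hφ₀ _))
    exact congrArg (fun z : ↥(T ⊔ centralizerIn S T) => ((κ z : _) : Ω))
      (Subtype.ext (hg₀N _))
  have hgY : ∀ y : Y, g (Subgroup.inclusion le_sup_right y) ∈ Y := by
    intro y
    rw [hgdef]
    show ((κ ⟨g₀ (Subgroup.inclusion le_sup_right y), _⟩ : _) : Ω) ∈ Y
    refine hinv κ hκ _ ?_
    show g₀ (Subgroup.inclusion le_sup_right y) ∈ Y
    rw [hg₀Y]
    exact y.2
  have hrange : g.range = R ⊔ Y := by
    refine le_antisymm (range_le_of_gens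
      (fun x => Subgroup.mem_sup_left (by rw [hgP]; exact (eP x).2))
      fun y => Subgroup.mem_sup_right (hgY y)) (sup_le (fun r hr => ?_) fun y hy => ?_)
    · exact ⟨Subgroup.inclusion le_sup_left (eP.symm ⟨r, hr⟩), by
        rw [hgP, MulEquiv.apply_symm_apply]⟩
    · have := finite_le hYS
      let w : Y → Y := fun z => ⟨_, hgY z⟩
      have hw : Function.Injective w := fun z z' h =>
        Subgroup.inclusion_injective (le_sup_right (a := P))
          (F.injective_of_mem hg (congrArg Subtype.val h))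
      obtain ⟨z, hz⟩ := Finite.surjective_of_injective hw ⟨y, hy⟩
      exact ⟨_, congrArg Subtype.val hz⟩
  obtain ⟨eg, heg, hegv⟩ := exists_iso hg hrange
  have hψ'v : ∀ z, ψ' z ∈ R ⊔ Y := fun z => range_le_of_gens
    (fun x => Subgroup.mem_sup_left (by rw [hψ'R]; exact (MulAut.congr eP a x).2))
    (fun y => Subgroup.mem_sup_right (by rw [hψ'Y]; exact y.2)) ⟨z, rfl⟩
  obtain ⟨χ, hχ, hχv⟩ := exists_conjMap heg.symm le_rfl hψ' hψ'v
  have hle' : P ⊔ Y ≤ img (isoHom eg.symm) (R ⊔ Y) := fun z hz =>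
    ⟨eg ⟨z, hz⟩, (eg ⟨z, hz⟩).2, by rw [isoHom_apply, MulEquiv.symm_apply_apply]⟩
  refine ⟨_, restrict_mem hχ hle', fun x => ?_, fun y => ?_⟩
  · have h1 := hχv (eg (Subgroup.inclusion le_sup_left x))
      (by rw [Subtype.coe_eta, MulEquiv.symm_apply_apply]; exact hle' (Subgroup.mem_sup_left x.2))
    simp only [Subtype.coe_eta, MulEquiv.symm_apply_apply] at h1
    refine h1.trans ?_
    refine (congrArg (fun z : ↥(P ⊔ Y) => (z : Ω)) (eg.symm_apply_eq.2 (Subtype.ext ?_) :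
      eg.symm _ = Subgroup.inclusion le_sup_left (a x)))
    rw [show eg (Subgroup.inclusion le_sup_left x) = Subgroup.inclusion le_sup_left (eP x) from
      Subtype.ext ((hegv _).trans (hgP x))]
    refine Eq.trans (hψ'R _) ?_
    rw [hegv, hgP]
    simp [MulAut.congr]
  · have h1 := hχv (eg (Subgroup.inclusion le_sup_right y))
      (by rw [Subtype.coe_eta, MulEquiv.symm_apply_apply]; exact hle' (Subgroup.mem_sup_right y.2))
    simp only [Subtype.coe_eta, MulEquiv.symm_apply_apply] at h1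
    refine h1.trans ?_
    refine (congrArg (fun z : ↥(P ⊔ Y) => (z : Ω)) (eg.symm_apply_eq.2 (Subtype.ext ?_) :
      eg.symm _ = Subgroup.inclusion le_sup_right y))
    have hmem : ((eg (Subgroup.inclusion le_sup_right y) : _) : Ω) ∈ Y := by
      rw [hegv]; exact hgY y
    rw [show eg (Subgroup.inclusion le_sup_right y) = Subgroup.inclusion le_sup_right ⟨_, hmem⟩
      from rfl]
    exact hψ'Y _

/-- `E` centralizes every candidate. -/
theorem CentCand.centBy (hS : IsPGroup p S) (hE : E.IsNormalIn F p) {Y : Subgroup Ω}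
    (hY : CentCand p F E Y) : CentBy F E Y := by
  have hE' := hE
  obtain ⟨⟨hEs, hF, hEi⟩, -⟩ := hE'
  have hsub := hEi.1
  have hT := hEi.2.1
  have := finite_le hT.1
  have hTp : IsPGroup p T := hS.to_le hT.1
  have hYS : Y ≤ S := hY.le.trans (centralizerIn_le T)
  let EY : FusionSystem T :=
    { Hom := fun P => {φ | φ ∈ E.Hom P ∧ FixExt F Y P φ}
      le_of_mem := fun h => E.le_of_mem h.1
      injective_of_mem := fun h => E.injective_of_mem h.1
      conj_mem := fun {P g} hP hg => ⟨E.conj_mem hP hg, conjHom (P ⊔ Y) g,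
        F.conj_mem (sup_le (hP.trans hT.1) hYS) (hT.1 hg), fun x => rfl, fun y => by
          show g * (y : Ω) * g⁻¹ = y
          rw [(mem_centralizerIn.1 (hY.le y.2)).2 g hg, mul_inv_cancel_right]⟩
      comp_mem := fun {P Q φ ψ} hφ hψ h => by
        refine ⟨E.comp_mem hφ.1 hψ.1 h, ?_⟩
        obtain ⟨a, ha, haP, haY⟩ := hφ.2
        obtain ⟨b, hb, hbQ, hbY⟩ := hψ.2
        have hv : ∀ k, a k ∈ Q ⊔ Y := fun k => range_le_of_gens
          (fun x => Subgroup.mem_sup_left (by rw [haP]; exact h x))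
          (fun y => Subgroup.mem_sup_right (by rw [haY]; exact y.2)) ⟨k, rfl⟩
        exact ⟨_, F.comp_mem ha hb hv,
          fun x => (congrArg b (Subtype.ext (haP x))).trans (hbQ ⟨φ x, h x⟩),
          fun y => (congrArg b (Subtype.ext (haY y))).trans (hbY y)⟩
      inv_mem := fun {P φ} hφ => by
        obtain ⟨χ, hχ, hχv⟩ := E.inv_mem hφ.1
        refine ⟨χ, ⟨hχ, ?_⟩, hχv⟩
        obtain ⟨a, ha, haP, haY⟩ := hφ.2
        have hle : φ.range ⊔ Y ≤ a.range := sup_le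
          (fun _ ⟨x, hx⟩ => ⟨Subgroup.inclusion le_sup_left x, (haP x).trans hx⟩)
          (fun y hy => ⟨Subgroup.inclusion le_sup_right ⟨y, hy⟩, haY ⟨y, hy⟩⟩)
        obtain ⟨ι, hι, -, hιl, -⟩ := exists_inv ha rfl
        refine ⟨_, restrict_mem hι hle, ?_, fun y =>
          (congrArg ι (Subtype.ext (haY y).symm)).trans
            (hιl (Subgroup.inclusion le_sup_right y) ⟨_, rfl⟩)⟩
        rintro ⟨_, x, rfl⟩
        exact (congrArg ι (Subtype.ext (haP x).symm)).trans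
          ((hιl (Subgroup.inclusion le_sup_left x) ⟨_, rfl⟩).trans (hχv x).symm) }
  suffices h : E ≤ EY from
    ⟨hY.le, fun P φ hφ => mem_centralizerHom_of_fixExt hsub hT.1 hY.le hφ (h P hφ).2⟩
  have hTC := sup_centralizerIn_le_S (S := S) hT.1
  refine alperin_gen hTp hEs EY ?_ ?_
  · intro a ha
    have h1 := fixExt_step hS hE hY le_rfl (fullyNormalized_closed hT) (centralizerIn_le T)
      (fun Q hQ φ hφ => absurd (Subgroup.card_le_of_le (hom_le hφ)) (not_le.2 hQ)) ha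
    exact (mem_autGroup_iff le_rfl).2 ⟨(mem_autGroup_iff le_rfl).1 ha, h1⟩
  intro P hPT hess hup
  refine fun a ha => Subgroup.mem_sup_left ((mem_autGroup_iff hPT.le).2
    ⟨(mem_autGroup_iff hPT.le).1 ha, ?_⟩)
  have hPS : P ≤ S := hPT.le.trans hT.1
  -- move `P` to a fully normalized subgroup
  obtain ⟨R, hPR, hR⟩ := exists_fullyNormalized (F := F) hPS
  have hRc : centralizerIn T R ≤ R :=
    ((tCentric_of_centric hEi hess.1).conj hT hPR).2 R (isConj_refl hR.1)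
  have hRT : R ≤ T := ((tCentric_of_centric hEi hess.1).conj hT hPR).1
  have hcard : Nat.card R = Nat.card P := (isConj_card hPR).symm
  have hNcard : Nat.card P < Nat.card (normalizerIn T P) := by
    have hlt' := lt_normalizerIn hTp hPT
    have := finite_le ((normalizerIn_le (S := T) P).trans hT.1)
    refine lt_of_le_of_ne (Subgroup.card_le_of_le hlt'.le) fun h => hlt'.ne ?_
    exact Subgroup.eq_of_le_of_card_ge hlt'.le h.ge
  exact fixExt_transport hS hE hY.le hY.inv hPT.le hPR hR (fun φ hφ => (hup _ hNcard hφ).2)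
    (fixExt_step hS hE hY hRT hR hRc (fun Q hQ φ hφ => (hup Q (hcard ▸ hQ) hφ).2)) a ha

/-- The largest subgroup centralized by `E`. -/
noncomputable def centOf (F : FusionSystem S) (E : FusionSystem T) : Subgroup Ω :=
  sSup {Y | CentBy F E Y}

theorem centOf_cand (hS : IsPGroup p S) (hE : E.IsNormalIn F p) :
    CentCand p F E (centOf F E) := by
  obtain ⟨⟨hEs, hF, hEi⟩, -⟩ := hE
  have hT := hEi.2.1
  have hle : centOf F E ≤ centralizerIn S T := sSup_le fun Y hY => hY.1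
  refine ⟨hle, fun β hβ y hy => ?_, fun R hRT hR hRc x hx hord hxE y hy => ?_⟩
  · have hsup : centOf F E ≤ (((centOf F E).subgroupOf (T ⊔ centralizerIn S T)).comap
        β.toMonoidHom).map (T ⊔ centralizerIn S T).subtype := by
      refine sSup_le fun Y hY z hz => ?_
      refine ⟨⟨z, Subgroup.mem_sup_right (hY.1 hz)⟩, ?_, rfl⟩
      have h1 := CentBy.image hEi
        ((mem_autGroup_iff (sup_centralizerIn_le_S hT.1)).1 hβ) le_sup_left
        (hY.1.trans le_sup_right) hY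
      exact le_sSup (show _ ∈ {Y | CentBy F E Y} from h1) ⟨_, hz, rfl⟩
    obtain ⟨z, hz, hzy⟩ := hsup hy
    rw [show y = z from Subtype.ext hzy.symm]
    exact hz
  · have hfc := IsSaturated.fullyCentralized hS hF hR
    obtain ⟨a, ha, hxa⟩ := hxE
    have hsup : centOf F E ≤ (x.toMonoidHom.eqLocus (MonoidHom.id _)).map
        (R ⊔ centralizerIn S R).subtype := by
      refine sSup_le fun Y hY z hz => ?_
      have hzC : z ∈ centralizerIn S R := centralizerIn_antitone hRT (hY.1 hz)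
      refine ⟨⟨z, Subgroup.mem_sup_right hzC⟩, ?_, rfl⟩
      obtain ⟨-, -, -, ψ, hψ, hψR, hψY⟩ := hY.2 R ((mem_autGroup_iff hRT).1 ha)
      set y₀ : ↥(R ⊔ centralizerIn S R) := ⟨z, Subgroup.mem_sup_right hzC⟩ with hy₀
      have hv := hx.fix_of_agree hS hF hfc hord hψ le_sup_left
        (fun r hr => (hψR ⟨r, hr⟩).trans (hxa r hr).symm) y₀ (y₀⁻¹ * x y₀) hzC
        (le_sup_right (a := R) hz) (hx.2.2 y₀ hzC) (by
          rw [show ψ ⟨(y₀ : Ω), le_sup_right (a := R) hz⟩ = y₀ from hψY ⟨z, hz⟩,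
            ← Subgroup.coe_mul, mul_inv_cancel_left])
      have h1 := eq_one_of_shift_fixed hS (sup_centralizerIn_le_S hfc.1) hord
        (w := y₀) (u := y₀⁻¹ * x y₀) (mul_inv_cancel_left _ _).symm hv
      exact (inv_mul_eq_one.1 h1).symm
    obtain ⟨z, hz, hzy⟩ := hsup hy
    rw [show y = z from Subtype.ext hzy.symm]
    exact hz

theorem centBy_centOf (hS : IsPGroup p S) (hE : E.IsNormalIn F p) :
    CentBy F E (centOf F E) := (centOf_cand hS hE).centBy hS hE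

/-- The focal subgroup of `C_F(T)` is centralized by `E`. -/
theorem centBy_centFocal (hS : IsPGroup p S) (hE : E.IsNormalIn F p) :
    CentBy F E (centFocal F T) := by
  have hE' := hE
  obtain ⟨⟨hEs, hF, hEi⟩, -⟩ := hE'
  have hT := hEi.2.1
  have hTC := sup_centralizerIn_le_S (S := S) hT.1
  refine CentCand.centBy hS hE ⟨centFocal_le, fun β hβ y hy => ?_,
    fun R hRT hR hRc x hx hord _ y hy => hx.fix_centFocal hS hF
      (IsSaturated.fullyCentralized hS hF hR) hord y (centFocal_antitone hRT hy)⟩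
  have hsup : centFocal F T ≤ (((centFocal F T).subgroupOf (T ⊔ centralizerIn S T)).comap
      β.toMonoidHom).map (T ⊔ centralizerIn S T).subtype := by
    have hb : IsoIn F (β : ↥(T ⊔ centralizerIn S T) ≃* ↥(T ⊔ centralizerIn S T)) :=
      (mem_autGroup_iff_isoIn hTC).1 hβ
    have hTβ : ∀ t : T, ((β (Subgroup.inclusion le_sup_left t) : _) : Ω) ∈ T := fun t =>
      StronglyClosed.apply_mem hT hb.mem t.2
    refine (Subgroup.closure_le _).2 ?_
    rintro _ ⟨P, φ, a, ⟨hφ, hPC, hv, ψ, hψ, hψP, hψT⟩, rfl⟩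
    have hKW : P ⊔ T ≤ T ⊔ centralizerIn S T := sup_le (hPC.trans le_sup_right) le_sup_left
    have hψW : ∀ k, ψ k ∈ T ⊔ centralizerIn S T := fun k => range_le_of_gens
      (fun z => Subgroup.mem_sup_right (by rw [hψP]; exact hv z))
      (fun z => Subgroup.mem_sup_left (by rw [hψT]; exact z.2)) ⟨k, rfl⟩
    obtain ⟨χ, hχ, hχv⟩ := exists_conjMap hb hKW hψ hψW
    let aW : ↥(T ⊔ centralizerIn S T) := ⟨a, Subgroup.mem_sup_right (hPC a.2)⟩
    let bW : ↥(T ⊔ centralizerIn S T) := ⟨φ a, Subgroup.mem_sup_right (hv a)⟩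
    refine ⟨aW⁻¹ * bW, ?_, rfl⟩
    show ((β (aW⁻¹ * bW) : ↥(T ⊔ centralizerIn S T)) : Ω) ∈ centFocal F T
    rw [map_mul, map_inv]
    have hsurj : ∀ r ∈ T, ∃ t : T, ((β (Subgroup.inclusion le_sup_left t) : _) : Ω) = r := by
      intro r hr
      have := finite_le hT.1
      obtain ⟨t, ht⟩ := Finite.surjective_of_injective (f := fun t : T => (⟨_, hTβ t⟩ : T))
        (fun s t h => Subgroup.inclusion_injective (le_sup_left (b := centralizerIn S T))
          (β.injective (Subtype.ext (congrArg Subtype.val h :)))) ⟨r, hr⟩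
      exact ⟨t, congrArg Subtype.val ht⟩
    have hTimg : T ≤ img (isoHom (β : ↥(T ⊔ centralizerIn S T) ≃* ↥(T ⊔ centralizerIn S T)))
        (P ⊔ T) := by
      intro r hr
      obtain ⟨t, ht⟩ := hsurj r hr
      exact ⟨_, le_sup_right (a := P) t.2, ht⟩
    have hfix : ∀ r : ↥(img (isoHom (β : ↥(T ⊔ centralizerIn S T) ≃* ↥(T ⊔ centralizerIn S T)))
        (P ⊔ T)), (r : Ω) ∈ T → χ r = r := by
      intro r hr
      obtain ⟨t, ht⟩ := hsurj r hr
      have h1 := hχv ⟨t, le_sup_right (a := P) t.2⟩ ⟨_, le_sup_right (a := P) t.2, rfl⟩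
      refine (congrArg χ (Subtype.ext ht.symm)).trans (h1.trans ?_)
      refine Eq.trans ?_ ht
      exact congrArg (fun z : ↥(T ⊔ centralizerIn S T) => ((β z : _) : Ω))
        (Subtype.ext (hψT t))
    have haC : ((β aW : _) : Ω) ∈ centralizerIn S T := by
      refine mem_centralizerIn.2 ⟨hTC (β aW).2, fun r hr => ?_⟩
      obtain ⟨t, ht⟩ := hsurj r hr
      have h : Subgroup.inclusion le_sup_left t * aW = aW * Subgroup.inclusion le_sup_left t :=
        Subtype.ext ((mem_centralizerIn.1 (hPC a.2)).2 t t.2)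
      have h' := congrArg Subtype.val (congrArg β h)
      rw [map_mul, map_mul, Subgroup.coe_mul, Subgroup.coe_mul, ht] at h'
      exact h'
    have hmem : ((β aW : _) : Ω) ∈ img (isoHom (β : ↥(T ⊔ centralizerIn S T) ≃*
        ↥(T ⊔ centralizerIn S T))) (P ⊔ T) := ⟨aW, le_sup_left (b := T) a.2, rfl⟩
    have h2 := shift_mem_centFocal hχ hTimg hfix ⟨_, hmem⟩ haC
    rw [show χ ⟨_, hmem⟩ = ((β bW : _) : Ω) from (hχv ⟨a, le_sup_left (b := T) a.2⟩ hmem).trans
      (congrArg (fun v : ↥(T ⊔ centralizerIn S T) => ((β v : _) : Ω)) (Subtype.ext (hψP a)))] at h2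
    exact h2
  obtain ⟨z, hz, hzy⟩ := hsup hy
  rw [show y = z from Subtype.ext hzy.symm]
  exact hz

end CfsgLib.Fusion
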