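import Cfsg.Agent.Lib.Fusion.PrimeIndexGen
import Cfsg.Agent.Lib.Fusion.KNormalizer
import Cfsg.Agent.Lib.Fusion.RadicalNormalizer

/-!
Isomorphisms of an index system between fully normalized subgroups extend in it over the
centralizers; the system is saturated.
-/

set_option autoImplicit false

namespace CfsgLib.Fusion

open Cfsg Cfsg.FusionSystem

variable {Ω : Type*} [Group Ω] {S : Subgroup Ω} {F : FusionSystem S} {p : ℕ}

/-! ### General facts -/

/-- A map sends normalizing elements to normalizing elements. -/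
theorem img_mem_normalizer {M R : Subgroup Ω} {ψ : M →* Ω} (hR : R ≤ M) (g : M)
    (hg : (g : Ω) ∈ Subgroup.normalizer (R : Set Ω)) :
    ψ g ∈ Subgroup.normalizer (img ψ R : Set Ω) := by
  refine Subgroup.mem_normalizer_iff.2 fun y => ⟨?_, fun hy => ?_⟩
  · rintro ⟨x, hx, rfl⟩
    refine ⟨g * x * g⁻¹, Subgroup.mem_subgroupOf.2 ?_, by simp⟩
    exact conj_mem_of_mem_normalizer hg (Subgroup.mem_subgroupOf.1 hx)
  · obtain ⟨x, hx, hxy⟩ := hy
    refine ⟨g⁻¹ * x * g, ?_, ?_⟩
    · have := conj_mem_of_mem_normalizer (inv_mem hg) hx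
      simpa [Subgroup.mem_subgroupOf] using this
    · rw [map_mul, map_mul, map_inv, hxy]
      group

theorem sup_centralizerIn_le {Q : Subgroup Ω} (hQ : Q ≤ S) :
    Q ⊔ centralizerIn S Q ≤ normalizerIn S Q :=
  sup_le (le_normalizerIn hQ) (centralizerIn_le_normalizerIn Q)

/-- `Q C_S(Q)` is centric for `Q` fully centralized. -/
theorem isCentric_sup_centralizerIn [Finite S] {Q : Subgroup Ω} (hQ : F.IsFullyCentralized Q) :
    F.IsCentric (Q ⊔ centralizerIn S Q) := by
  refine ⟨sup_le hQ.1 (centralizerIn_le Q), ?_⟩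
  rintro _ ⟨χ, hχ, rfl⟩
  obtain ⟨e, he, hev⟩ := exists_iso (restrict_mem hχ (le_sup_left : Q ≤ Q ⊔ centralizerIn S Q))
    (Q := img χ Q) (range_restrict _ _)
  have hagree : ∀ x : Q, χ (Subgroup.inclusion le_sup_left x) = e x := fun x => (hev x).symm
  have hmem : ∀ x : centralizerIn S Q,
      χ ⟨x, le_sup_right (a := Q) x.2⟩ ∈ centralizerIn S (img χ Q) := fun x =>
    extension_mem_centralizerIn hχ le_sup_left hagree _ x.2
  have := finite_le (centralizerIn_le (S := S) (img χ Q))
  have hinj : Function.Injective (fun x : centralizerIn S Q =>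
      (⟨_, hmem x⟩ : centralizerIn S (img χ Q))) := fun a b h =>
    Subtype.ext (congrArg Subtype.val (F.injective_of_mem hχ (congrArg Subtype.val h)) :)
  have hsurj := ((Nat.bijective_iff_injective_and_card _).2
    ⟨hinj, le_antisymm (Nat.card_le_card_of_injective _ hinj) (hQ.2 _ he.isConj)⟩).2
  intro y hy
  obtain ⟨x, hx⟩ := hsurj ⟨y, centralizerIn_antitone (img_le_range χ Q) hy⟩
  exact ⟨_, congrArg Subtype.val hx⟩

theorem isCentric_normalizerIn [Finite S] {Q : Subgroup Ω} (hQ : F.IsFullyCentralized Q) :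
    F.IsCentric (normalizerIn S Q) :=
  isCentric_mono (isCentric_sup_centralizerIn hQ) (sup_centralizerIn_le hQ.1) (normalizerIn_le Q)

/-- Automorphisms of `S` preserve being fully normalized. -/
theorem isFullyNormalized_aut [Finite S] {Q R : Subgroup Ω} (hR : F.IsFullyNormalized R)
    (hQ : Q ≤ S) {α : MulAut S} (hα : α ∈ F.autGroup S)
    (h : ∀ x : S, (x : Ω) ∈ Q ↔ ((α x : S) : Ω) ∈ R) : F.IsFullyNormalized Q := by
  have hαF := (mem_autGroup_iff le_rfl).1 hα
  have himg : img (S.subtype.comp α.toMonoidHom) Q = R := by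
    ext y
    constructor
    · rintro ⟨x, hx, rfl⟩
      exact (h x).1 hx
    · intro hy
      refine ⟨α.symm ⟨y, hR.1 hy⟩, (h _).2 ?_, ?_⟩
      · rw [MulEquiv.apply_symm_apply]; exact hy
      · exact congrArg Subtype.val (α.apply_symm_apply ⟨y, hR.1 hy⟩)
  have hc : F.IsConj Q R := himg ▸ isConj_img hαF hQ
  refine ⟨hQ, fun T hT => (hR.2 T (isConj_trans (isConj_symm hc) hT)).trans ?_⟩
  have hαi : ((α⁻¹ : MulAut S)) ∈ F.autGroup S := Subgroup.inv_mem _ hα
  refine card_normalizerIn_le_of_map (restrict_mem ((mem_autGroup_iff le_rfl).1 hαi)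
    (normalizerIn_le R)) fun x => ⟨SetLike.coe_mem _, ?_⟩
  have hg := img_mem_normalizer (ψ := (S.subtype.comp (α⁻¹).toMonoidHom)) hR.1
    ⟨(x : Ω), x.2.1⟩ x.2.2
  have himg' : img (S.subtype.comp (α⁻¹).toMonoidHom) R = Q := by
    ext y
    constructor
    · rintro ⟨z, hz, rfl⟩
      refine (h _).2 ?_
      show ((α (α⁻¹ z) : S) : Ω) ∈ R
      rw [MulAut.apply_inv_self]
      exact hz
    · intro hy
      exact ⟨α ⟨y, hQ hy⟩, (h ⟨y, hQ hy⟩).1 hy,
        congrArg Subtype.val (MulAut.inv_apply_self S α ⟨y, hQ hy⟩)⟩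
  rw [himg'] at hg
  exact hg

variable [Finite S] [Fact p.Prime] (hS : IsPGroup p S) (hF : F.IsSaturated p)

/-- Generated normalizer maps to fully normalized subgroups. -/
theorem exists_gen_normalizer_map {R : Subgroup Ω} (hR : R ≤ S) :
    ∃ g ∈ (genSystem hS hF).Hom (normalizerIn S R), F.IsFullyNormalized (img g R) := by
  obtain ⟨Q, hRQ, hQn⟩ := exists_fullyNormalized (F := F) hR
  obtain ⟨f, hf, -, himg⟩ := exists_normalizer_map hS (IsSaturated.fullyAutomized hS hF hQn)
    (IsSaturated.receptive hS hF (IsSaturated.fullyCentralized hS hF hQn)) hRQ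
  obtain ⟨β, hβ, g, hg, hv⟩ := exists_gen_decomp hS hF hf
  have hRle : R ≤ normalizerIn S R := le_normalizerIn hR
  refine ⟨g, hg, isFullyNormalized_aut hQn ((img_le_range _ _).trans (hom_range_le hg)) hβ
    fun x => ⟨?_, fun hx => ?_⟩⟩
  · rintro ⟨z, hz, hzx⟩
    rw [← himg]
    refine ⟨z, hz, ?_⟩
    rw [hv z (hom_apply_mem hg z)]
    congr 2
    exact Subtype.ext hzx
  · rw [← himg] at hx
    obtain ⟨z, hz, hzx⟩ := hx
    refine ⟨z, hz, ?_⟩
    rw [hv z (hom_apply_mem hg z)] at hzx
    exact congrArg Subtype.val (β.injective (Subtype.ext hzx) : (⟨g z, _⟩ : S) = x)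

theorem gen_map_mem_normalizerIn {R M : Subgroup Ω} {g : M →* Ω} (hg : g ∈ F.Hom M) (hR : R ≤ M)
    (x : M) (hx : (x : Ω) ∈ Subgroup.normalizer (R : Set Ω)) : g x ∈ normalizerIn S (img g R) :=
  ⟨hom_apply_mem hg x, img_mem_normalizer hR x hx⟩

/-! ### Lifting -/

/-- An isomorphism extends in `E` over the centralizer. -/
def LiftsIso (E : FusionSystem S) {Q Q' : Subgroup Ω} (e : Q ≃* Q') : Prop :=
  ∃ χ ∈ E.Hom (Q ⊔ centralizerIn S Q), ∀ x : Q, χ (Subgroup.inclusion le_sup_left x) = e x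

omit [Finite S] [Fact p.Prime] in
theorem lift_range {E : FusionSystem S} {Q Q' : Subgroup Ω} {e : Q ≃* Q'}
    {χ : ↥(Q ⊔ centralizerIn S Q) →* Ω} (hχ : χ ∈ E.Hom (Q ⊔ centralizerIn S Q))
    (hv : ∀ x : Q, χ (Subgroup.inclusion le_sup_left x) = e x) (y : ↥(Q ⊔ centralizerIn S Q)) :
    χ y ∈ Q' ⊔ centralizerIn S Q' := by
  have key : Q ⊔ centralizerIn S Q ≤
      ((Q' ⊔ centralizerIn S Q').comap χ).map (Q ⊔ centralizerIn S Q).subtype := by
    refine sup_le (fun x hx => ?_) fun x hx => ?_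
    · refine ⟨⟨x, Subgroup.mem_sup_left hx⟩, Subgroup.mem_sup_left ?_, rfl⟩
      rw [show (⟨x, Subgroup.mem_sup_left hx⟩ : ↥(Q ⊔ centralizerIn S Q)) =
        Subgroup.inclusion le_sup_left ⟨x, hx⟩ from rfl, hv]
      exact SetLike.coe_mem _
    · exact ⟨⟨x, Subgroup.mem_sup_right hx⟩, Subgroup.mem_sup_right
        (extension_mem_centralizerIn hχ le_sup_left hv _ hx), rfl⟩
  obtain ⟨z, hz, hzy⟩ := key y.2
  rw [Subtype.ext hzy] at hz
  exact hz

omit [Finite S] [Fact p.Prime] in
theorem LiftsIso.trans {E : FusionSystem S} {Q Q' Q'' : Subgroup Ω} {e : Q ≃* Q'} {f : Q' ≃* Q''}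
    (he : LiftsIso E e) (hf : LiftsIso E f) : LiftsIso E (e.trans f) := by
  obtain ⟨χ, hχ, hv⟩ := he
  obtain ⟨χ', hχ', hv'⟩ := hf
  refine ⟨_, E.comp_mem hχ hχ' (lift_range hχ hv), fun x => ?_⟩
  show χ' ⟨χ (Subgroup.inclusion le_sup_left x), _⟩ = _
  rw [MulEquiv.trans_apply, ← hv']
  exact congrArg χ' (Subtype.ext (hv x))

omit [Fact p.Prime] in
theorem LiftsIso.symm {E : FusionSystem S} (hEF : E ≤ F) {Q Q' : Subgroup Ω} {e : Q ≃* Q'}
    (hQ : F.IsFullyCentralized Q) (he : LiftsIso E e) : LiftsIso E e.symm := by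
  obtain ⟨χ, hχ, hv⟩ := he
  have hmem : ∀ x : centralizerIn S Q,
      χ ⟨x, le_sup_right (a := Q) x.2⟩ ∈ centralizerIn S Q' := fun x =>
    extension_mem_centralizerIn hχ le_sup_left hv _ x.2
  have hconj : F.IsConj Q Q' :=
    (show IsoIn F e from restrict_mem' (hEF _ hχ) le_sup_left fun x => (hv x).symm).isConj
  have := finite_le (centralizerIn_le (S := S) Q')
  have hinj : Function.Injective (fun x : centralizerIn S Q =>
      (⟨_, hmem x⟩ : centralizerIn S Q')) := fun a b h =>
    Subtype.ext (congrArg Subtype.val (E.injective_of_mem hχ (congrArg Subtype.val h)) :)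
  have hsurj := ((Nat.bijective_iff_injective_and_card _).2
    ⟨hinj, le_antisymm (Nat.card_le_card_of_injective _ hinj) (hQ.2 _ hconj)⟩).2
  have hr : Q' ⊔ centralizerIn S Q' ≤ χ.range := by
    refine sup_le (fun y hy => ?_) fun y hy => ?_
    · exact ⟨Subgroup.inclusion le_sup_left (e.symm ⟨y, hy⟩), by
        rw [hv, MulEquiv.apply_symm_apply]⟩
    · obtain ⟨x, hx⟩ := hsurj ⟨y, hy⟩
      exact ⟨_, congrArg Subtype.val hx⟩
  obtain ⟨θ, hθ, -, hθv, -⟩ := exists_inv hχ rfl
  refine ⟨θ.comp (Subgroup.inclusion hr), restrict_mem hθ hr, fun y => ?_⟩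
  show θ ⟨(y : Ω), _⟩ = _
  have h1 := hθv (Subgroup.inclusion le_sup_left (e.symm y)) ⟨_, rfl⟩
  refine Eq.trans ?_ h1
  congr 1
  refine Subtype.ext ?_
  show (y : Ω) = χ _
  rw [hv, MulEquiv.apply_symm_apply]

/-- The automorphisms of `Q` extending over its centralizer. -/
theorem liftsIso_one {E : FusionSystem S} {Q : Subgroup Ω} (hQ : Q ≤ S) :
    LiftsIso E (MulEquiv.refl Q) :=
  ⟨(Q ⊔ centralizerIn S Q).subtype, incl_mem (sup_le hQ (centralizerIn_le Q)), fun _ => rfl⟩

/-- Determinacy of the group of automorphisms of `S`. -/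
def DetGroup (A : Subgroup (MulAut S)) : Prop :=
  ∀ α ∈ F.autGroup S, ∀ R : Subgroup Ω, F.IsCentric R → ∀ φ ∈ (genSystem hS hF).Hom R,
    (∀ (x : R) (h : (x : Ω) ∈ S), φ x = ((α ⟨x, h⟩ : S) : Ω)) → α ∈ A

variable (A : Subgroup (MulAut S)) (hA : A ≤ F.autGroup S) (hdet : DetGroup hS hF A)

/-- A map agreeing with the index system on a centric subgroup belongs to it, determinacy being
needed only for subgroups of that order. -/
theorem det_map_at {D M : Subgroup Ω} (hMD : M ≤ D) (hM : F.IsCentric M)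
    (hdetM : ∀ α ∈ F.autGroup S, ∀ R : Subgroup Ω, F.IsCentric R → Nat.card R = Nat.card M →
      ∀ φ ∈ (genSystem hS hF).Hom R,
      (∀ (x : R) (h : (x : Ω) ∈ S), φ x = ((α ⟨x, h⟩ : S) : Ω)) → α ∈ A)
    {ψ : D →* Ω} (hψ : ψ ∈ F.Hom D)
    (hψM : ψ.comp (Subgroup.inclusion hMD) ∈ (indexSystem hS hF A hA).Hom M) :
    ψ ∈ (indexSystem hS hF A hA).Hom D := by
  obtain ⟨β, hβ, g, hg, hv⟩ := exists_gen_decomp hS hF hψ
  obtain ⟨a, ha, g', hg', hv'⟩ := hψM
  have hgF := GenMap.mem hg
  obtain ⟨θ, hθ, -, hθv, -⟩ :=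
    exists_inv (restrict_mem hg hMD) (range_restrict g hMD)
  have hc : F.IsCentric (img g M) := isCentric_of_isConj hM (isConj_img hgF hMD)
  have hθM : ∀ y, θ y ∈ M := by
    rintro ⟨_, x, hx, rfl⟩
    exact (hθv ⟨x, hx⟩ ⟨x, hx, rfl⟩).symm ▸ hx
  have hmem : a⁻¹ * β ∈ A := by
    refine hdetM _ (Subgroup.mul_mem _ (Subgroup.inv_mem _ (hA ha)) hβ) (img g M) hc
      (card_img ((genSystem hS hF).injective_of_mem hg) hMD) _
      ((genSystem hS hF).comp_mem hθ hg' hθM) ?_
    rintro ⟨_, x, hx, rfl⟩ h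
    show g' ⟨θ ⟨g x, _⟩, _⟩ = _
    have e1 : θ ⟨g x, ⟨x, hx, rfl⟩⟩ = x := hθv ⟨x, hx⟩ ⟨x, hx, rfl⟩
    rw [show (⟨θ ⟨g x, _⟩, hθM _⟩ : M) = ⟨x, hx⟩ from Subtype.ext e1]
    have h2 : (a ⟨g' ⟨x, hx⟩, hom_apply_mem hg' _⟩) = β ⟨g x, h⟩ := Subtype.ext
      ((hv' ⟨x, hx⟩ (hom_apply_mem hg' _)).symm.trans (hv x h))
    rw [MulAut.mul_apply, ← h2, MulAut.inv_apply_self]
  have := A.mul_mem ha hmem
  rw [mul_inv_cancel_left] at this
  exact ⟨β, this, g, hg, hv⟩

include hdet in
/-- A map agreeing with the index system on a centric subgroup belongs to it. -/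
theorem det_map {D M : Subgroup Ω} (hMD : M ≤ D) (hM : F.IsCentric M) {ψ : D →* Ω}
    (hψ : ψ ∈ F.Hom D)
    (hψM : ψ.comp (Subgroup.inclusion hMD) ∈ (indexSystem hS hF A hA).Hom M) :
    ψ ∈ (indexSystem hS hF A hA).Hom D :=
  det_map_at hS hF A hA hMD hM (fun α hα R hR _ => hdet α hα R hR) hψ hψM

/-- Automorphisms of `p`-power order of a fully centralized subgroup extend over the centralizer. -/
theorem liftsIso_pow {Q : Subgroup Ω} (hQ : F.IsFullyCentralized Q) {b : MulAut Q}
    (hb : b ∈ F.autGroup Q) (hk : ∃ k : ℕ, b ^ p ^ k = 1) :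
    LiftsIso (indexSystem hS hF A hA) (b : Q ≃* Q) := by
  have hp : p.Prime := Fact.out
  obtain ⟨k, hk⟩ := hk
  have he : IsoIn F (b : Q ≃* Q) := (mem_autGroup_iff_isoIn hQ.1).1 hb
  set M := Q ⊔ centralizerIn S Q with hM
  obtain ⟨ψ, hψ, hag⟩ := exists_extension (R := M) (IsSaturated.receptive hS hF hQ) he le_sup_left
    (sup_le_extender he)
  have hrange := lift_range hψ hag
  have hMS : M ≤ S := sup_le hQ.1 (centralizerIn_le Q)
  have := finite_le hMS
  have := finite_mulAut_of_le (S := S) hMS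
  have hr : ψ.range = M := Subgroup.eq_of_le_of_card_ge
    (by rintro _ ⟨y, rfl⟩; exact hrange y)
    (le_of_eq (Nat.card_congr (MonoidHom.ofInjective (F.injective_of_mem hψ)).toEquiv))
  obtain ⟨β, hβ, hβv⟩ := exists_iso hψ hr
  have hβQ : ∀ (n : ℕ) (x : Q), (((β : MulAut M) ^ n) (Subgroup.inclusion le_sup_left x) : M) =
      Subgroup.inclusion le_sup_left ((b ^ n) x) := by
    intro n
    induction n with
    | zero => intro x; rfl
    | succ n ih =>
      intro x
      rw [pow_succ', MulAut.mul_apply, ih, pow_succ' b, MulAut.mul_apply]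
      exact Subtype.ext ((hβv _).trans (hag _))
  obtain ⟨a, m, hm, ham⟩ := Nat.exists_eq_pow_mul_and_not_dvd
    (orderOf_pos (β : MulAut M)).ne' p hp.ne_one
  obtain ⟨n, hn1, hn2⟩ := Nat.chineseRemainder
    (Nat.Coprime.pow_left k (hp.coprime_iff_not_dvd.2 hm)) 1 0
  have hbn : b ^ n = b := by
    nth_rewrite 2 [← pow_one b]
    exact pow_eq_pow_iff_modEq.2 (hn1.of_dvd (orderOf_dvd_of_pow_eq_one hk))
  have hpow : ((β : MulAut M) ^ n) ^ p ^ a = 1 := by
    rw [← pow_mul, ← orderOf_dvd_iff_pow_eq_one, ham, mul_comm n]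
    exact Nat.mul_dvd_mul_left _ (Nat.modEq_zero_iff_dvd.1 hn2)
  have hgen := genSystem_pow_mem hS hF hMS
    (Subgroup.pow_mem _ ((mem_autGroup_iff_isoIn hMS).2 hβ) n) ⟨a, hpow⟩
  refine ⟨_, genSystem_le_indexSystem hS hF A hA M ((mem_autGroup_iff hMS).1 hgen), fun x => ?_⟩
  show (((β : MulAut M) ^ n) (Subgroup.inclusion le_sup_left x) : Ω) = _
  rw [hβQ, hbn]
  rfl

/-- Maps of the normalizer system: the decomposition, with the action on `Q`. -/
theorem normalizer_decomp {Q : Subgroup Ω} (hQ : F.IsFullyNormalized Q) {D : Subgroup Ω}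
    (hQD : Q ≤ D) (hDN : D ≤ normalizerIn S Q) {w : D →* Ω} (hw : w ∈ F.Hom D)
    (hwN : ∀ x, w x ∈ normalizerIn S Q) (hwQ : img w Q = Q) :
    ∃ k ∈ F.autGroup (normalizerIn S Q), ∃ h ∈ (genSystem hS hF).Hom D,
      ∃ hh : ∀ x, h x ∈ normalizerIn S Q, (∀ x, w x = ((k ⟨h x, hh x⟩ : normalizerIn S Q) : Ω)) ∧
      ∃ b : MulAut Q, LiftsIso (indexSystem hS hF A hA) (b : Q ≃* Q) ∧
        ∀ x : Q, h (Subgroup.inclusion hQD x) = b x := by
  set N := normSystem F Q hQ.1 with hN
  have hNsys := normSystem_isNormalizerSystem F Q hQ.1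
  have hNs : N.IsSaturated p := normalizerSystem_saturated hS hF hQ hNsys
  have hNn : N.IsNormal Q := normalizerSystem_isNormal hQ.1 hNsys
  have hNS : normalizerIn S Q ≤ S := normalizerIn_le Q
  have := finite_le hNS
  have hNp : IsPGroup p (normalizerIn S Q) := hS.to_le hNS
  have hQc := IsSaturated.fullyCentralized hS hF hQ
  have hwNmem : w ∈ N.Hom D := by
    refine ⟨hw, hDN, hwN, w.comp (Subgroup.inclusion (sup_le le_rfl hQD)),
      restrict_mem hw _, fun x => rfl, ?_⟩
    refine Eq.trans ?_ hwQ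
    ext y
    exact ⟨fun ⟨x, hx, hxy⟩ => ⟨_, hx, hxy⟩,
      fun ⟨x, hx, hxy⟩ => ⟨⟨x, Subgroup.mem_sup_left x.2⟩, hx, hxy⟩⟩
  obtain ⟨k, hk, h, hh, hv⟩ := exists_gen_decomp hNp hNs hwNmem
  have key : ∀ {P : Subgroup Ω} {f : P →* Ω}, GenMap N p f → ∀ hQP : Q ≤ P,
      f ∈ (genSystem hS hF).Hom P ∧ ∃ b : MulAut Q, LiftsIso (indexSystem hS hF A hA) (b : Q ≃* Q) ∧
        ∀ x : Q, f (Subgroup.inclusion hQP x) = b x := by
    intro P f hf
    induction hf with
    | incl f hP hfv =>
        intro hQP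
        exact ⟨GenMap.incl f (hP.trans hNS) hfv, 1, liftsIso_one hQ.1, fun x => hfv _⟩
    | @step R f hc hr a ha hk hf hle χ hχ ih =>
        intro hQP
        obtain ⟨hfG, b, hb, hfb⟩ := ih hQP
        have hQR : Q ≤ R := IsNormal.le_centric_radical hNp hNn hc hr
        have hRN := hc.1
        have haF := (mem_autGroup_iff hRN).1 ha
        obtain ⟨haF', -, -, ψ, hψ, hψR, hψQ⟩ := haF
        have haG : a ∈ (genSystem hS hF).autGroup R :=
          genSystem_pow_mem hS hF (hRN.trans hNS) ((mem_autGroup_iff (hRN.trans hNS)).2 haF') hk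
        have haQ : ∀ x : Q, ((a (Subgroup.inclusion hQR x) : R) : Ω) ∈ Q := fun x => by
          have h2 : ψ (Subgroup.inclusion le_sup_left (Subgroup.inclusion hQR x)) ∈
              (Q.subgroupOf (R ⊔ Q)).map ψ := ⟨_, x.2, rfl⟩
          rw [hψQ, hψR] at h2
          exact h2
        have hfin := finite_le hQ.1
        let c : MulAut Q := MulEquiv.ofBijective
          (((R.subtype.comp a.toMonoidHom).comp (Subgroup.inclusion hQR)).codRestrict Q haQ)
          ((Nat.bijective_iff_injective_and_card _).2 ⟨fun u v huv => by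
            have h1 : a (Subgroup.inclusion hQR u) = a (Subgroup.inclusion hQR v) :=
              Subtype.ext (congrArg Subtype.val huv :)
            exact Subgroup.inclusion_injective hQR (a.injective h1), rfl⟩)
        have hcv : ∀ x : Q, (c x : Ω) = a (Subgroup.inclusion hQR x) := fun x => rfl
        have hcF : c ∈ F.autGroup Q :=
          (mem_autGroup_iff hQ.1).2 (restrict_mem' haF' hQR fun x => rfl)
        have hck : ∃ k : ℕ, c ^ p ^ k = 1 := by
          obtain ⟨k, hk⟩ := hk
          have hpow : ∀ (n : ℕ) (x : Q),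
              ((c ^ n) x : Ω) = ((a ^ n) (Subgroup.inclusion hQR x) : R) := by
            intro n
            induction n with
            | zero => intro x; rfl
            | succ n ih =>
              intro x
              rw [pow_succ', MulAut.mul_apply, pow_succ' a, MulAut.mul_apply, hcv]
              congr 2
              exact Subtype.ext (ih x)
          exact ⟨k, MulEquiv.ext fun x => Subtype.ext (by rw [hpow, hk]; rfl)⟩
        refine ⟨GenMap.comp ((mem_autGroup_iff (hRN.trans hNS)).1 haG) hfG hle hχ, c * b,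
          hb.trans (liftsIso_pow hS hF A hA hQc hcF hck), fun x => ?_⟩
        rw [hχ, MulAut.mul_apply, hcv]
        congr 2
        exact Subtype.ext (hfb x)
  obtain ⟨hhG, b, hb, hhb⟩ := key hh hQD
  refine ⟨k, ?_, h, hhG, hom_apply_mem hh, fun x => hv x _, b, hb, hhb⟩
  exact (mem_autGroup_iff hNS).2 ((mem_autGroup_iff le_rfl).1 hk).1

include hdet in
/-- The case of a map on a centric subgroup. -/
theorem lifts_centric_domain {Q Q' D : Subgroup Ω} (hQ' : F.IsFullyNormalized Q') (hc : F.IsCentric D)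
    (hQD : Q ≤ D) (hDN : D ≤ normalizerIn S Q) {t : D →* Ω}
    (ht : t ∈ (indexSystem hS hF A hA).Hom D) (e : Q ≃* Q')
    (hev : ∀ x : Q, t (Subgroup.inclusion hQD x) = e x) :
    LiftsIso (indexSystem hS hF A hA) e := by
  set E := indexSystem hS hF A hA with hE
  have hEF : E ≤ F := indexSystem_le hS hF A hA
  have htF := hEF D ht
  have he : IsoIn F e := restrict_mem' htF hQD fun x => (hev x).symm
  have hQS := he.le_left
  have hQ'c := IsSaturated.fullyCentralized hS hF hQ'
  set M := D ⊔ (Q ⊔ centralizerIn S Q) with hM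
  have hMN : M ≤ normalizerIn S Q := sup_le hDN (sup_centralizerIn_le hQS)
  have hQM : Q ≤ M := le_sup_of_le_left hQD
  have hQ'eq : img t Q = Q' := by
    ext y
    constructor
    · rintro ⟨x, hx, rfl⟩
      rw [show x = Subgroup.inclusion hQD ⟨x, hx⟩ from rfl, hev]
      exact SetLike.coe_mem _
    · intro hy
      exact ⟨Subgroup.inclusion hQD (e.symm ⟨y, hy⟩), (e.symm ⟨y, hy⟩).2, by
        rw [hev, MulEquiv.apply_symm_apply]⟩
  have hext : M ≤ extender S Q (isoHom e) := by
    refine sup_le (fun g hg => ?_) (sup_le_extender he)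
    refine mem_extender_iff.2 ⟨hc.1 hg, (hDN hg).2, t ⟨g, hg⟩, hom_apply_mem htF _, fun x hx => ?_⟩
    rw [isoHom_apply, isoHom_apply, ← hev, ← hev, ← map_inv, ← map_mul, ← map_mul]
    rfl
  obtain ⟨ψ, hψ, hag⟩ := exists_extension (IsSaturated.receptive hS hF hQ'c) he hQM hext
  have hψN : ∀ x : M, ψ x ∈ normalizerIn S Q' := fun x =>
    extension_mem_normalizerIn hψ hQM (fun y hy => (hMN hy).2) hag x
  obtain ⟨θ, hθ, -, hθv, hθr⟩ := exists_inv htF rfl
  have hθD : ∀ y, θ y ∈ D := fun y => (hθr y).1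
  have hθM : ∀ y, θ y ∈ M := fun y => Subgroup.mem_sup_left (hθD y)
  set w : t.range →* Ω := ψ.comp (θ.codRestrict M hθM) with hw
  have hwF : w ∈ F.Hom t.range := comp_mem' hθ hψ hθM fun _ => rfl
  have hwt : ∀ x : D, w ⟨t x, ⟨x, rfl⟩⟩ = ψ (Subgroup.inclusion le_sup_left x) := fun x =>
    congrArg ψ (Subtype.ext (hθv x _))
  have hQ'D : Q' ≤ t.range := hQ'eq ▸ img_le_range t Q
  have hrN : t.range ≤ normalizerIn S Q' := by
    rintro _ ⟨x, rfl⟩
    have := gen_map_mem_normalizerIn htF hQD x (hDN x.2).2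
    rwa [hQ'eq] at this
  have hwfix : ∀ y : Q', w (Subgroup.inclusion hQ'D y) = y := fun y => by
    have h1 : (Subgroup.inclusion hQ'D y) = ⟨t (Subgroup.inclusion hQD (e.symm y)), ⟨_, rfl⟩⟩ :=
      Subtype.ext ((hev _).trans (congrArg Subtype.val (e.apply_symm_apply y))).symm
    rw [h1, hwt]
    exact (hag (e.symm y)).trans (congrArg Subtype.val (e.apply_symm_apply y))
  obtain ⟨k, hk, h, hh, hhN, hkh, b, hb, hhb⟩ := normalizer_decomp hS hF A hA hQ' hQ'D hrN hwF
    (fun y => hψN _) (by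
      ext y
      constructor
      · rintro ⟨x, hx, rfl⟩
        rw [show x = Subgroup.inclusion hQ'D ⟨x, hx⟩ from rfl, hwfix]
        exact hx
      · exact fun hy => ⟨⟨y, hQ'D hy⟩, hy, hwfix ⟨y, hy⟩⟩)
  have hkF := (mem_autGroup_iff (normalizerIn_le Q')).1 (Subgroup.inv_mem _ hk)
  set ψ' : M →* Ω := ((normalizerIn S Q').subtype.comp (k⁻¹).toMonoidHom).comp
    (ψ.codRestrict _ hψN) with hψ'
  have hψ'F : ψ' ∈ F.Hom M := comp_mem' hψ hkF hψN fun _ => rfl
  have hkey : ∀ x : D, ψ' (Subgroup.inclusion le_sup_left x) = h ⟨t x, ⟨x, rfl⟩⟩ := fun x => by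
    show ((k⁻¹ ⟨ψ (Subgroup.inclusion le_sup_left x), hψN _⟩ : normalizerIn S Q') : Ω) = _
    have h1 : (⟨ψ (Subgroup.inclusion le_sup_left x), hψN _⟩ : normalizerIn S Q') =
        k ⟨h ⟨t x, ⟨x, rfl⟩⟩, hhN _⟩ := Subtype.ext ((hwt x).symm.trans (hkh _))
    rw [h1, MulAut.inv_apply_self]
  have hψ'E : ψ' ∈ E.Hom M := by
    refine det_map hS hF A hA hdet le_sup_left hc hψ'F ?_
    exact comp_mem' ht (genSystem_le_indexSystem hS hF A hA _ hh) (fun x => ⟨x, rfl⟩)
      fun x => hkey x
  have hlift : LiftsIso E (e.trans (b : Q' ≃* Q')) := by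
    refine ⟨ψ'.comp (Subgroup.inclusion le_sup_right), restrict_mem hψ'E _, fun x => ?_⟩
    have h1 := hkey (Subgroup.inclusion hQD x)
    rw [MulEquiv.trans_apply, ← hhb]
    refine h1.trans (congrArg h (Subtype.ext ?_))
    exact hev x
  have := hlift.trans (hb.symm hEF hQ'c)
  have heq : (e.trans (b : Q' ≃* Q')).trans (b : Q' ≃* Q').symm = e :=
    MulEquiv.ext fun x => MulEquiv.symm_apply_apply (b : Q' ≃* Q') _
  rwa [heq] at this

include hdet in
/-- Isomorphisms extending to a larger subgroup of the normalizer. -/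
theorem lifts_of_domain {n : ℕ}
    (IH : ∀ (Q Q' : Subgroup Ω), n < Nat.card Q → F.IsFullyNormalized Q → F.IsFullyNormalized Q' →
      ∀ e : Q ≃* Q', IsoIn (indexSystem hS hF A hA) e → LiftsIso (indexSystem hS hF A hA) e) :
    ∀ (m : ℕ) (D Q Q' : Subgroup Ω), Nat.card S - Nat.card D ≤ m → Nat.card Q = n →
      F.IsFullyNormalized Q → F.IsFullyNormalized Q' → ∀ (hQD : Q ≤ D), (F.IsCentric D ∨ Q < D) →
      D ≤ normalizerIn S Q → ∀ t ∈ (indexSystem hS hF A hA).Hom D, ∀ e : Q ≃* Q',
        (∀ x : Q, t (Subgroup.inclusion hQD x) = e x) → LiftsIso (indexSystem hS hF A hA) e := by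
  set E := indexSystem hS hF A hA with hE
  have hEF : E ≤ F := indexSystem_le hS hF A hA
  have hGE : genSystem hS hF ≤ E := genSystem_le_indexSystem hS hF A hA
  intro m
  induction m with
  | zero =>
      intro D Q Q' hm _ _ hQ' hQD _ hDN t ht e hev
      have hDS : D = S := Subgroup.eq_of_le_of_card_ge (hom_le ht) (by omega)
      exact lifts_centric_domain hS hF A hA hdet hQ' (hDS.symm ▸ isCentric_self) hQD hDN ht e hev
  | succ m ihm =>
      intro D Q Q' hm hn hQ hQ' hQD hor hDN t ht e hev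
      by_cases hc : F.IsCentric D
      · exact lifts_centric_domain hS hF A hA hdet hQ' hc hQD hDN ht e hev
      have hlt : Q < D := hor.resolve_left hc
      have hQc := IsSaturated.fullyCentralized hS hF hQ
      have hQ'c := IsSaturated.fullyCentralized hS hF hQ'
      have hDS := hom_le ht
      have := finite_le hDS
      have hDcard : Nat.card Q < Nat.card D :=
        lt_of_le_of_ne (Subgroup.card_le_of_le hlt.le) fun h =>
          hlt.ne (Subgroup.eq_of_le_of_card_ge hlt.le h.ge)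
      set D' := t.range with hD'
      obtain ⟨τ, hτ, hτv⟩ := exists_iso ht (Q := D') rfl
      have hτF : IsoIn F τ := hEF _ hτ.mem
      have hD'S : D' ≤ S := hτF.le_right
      have hc' : ¬ F.IsCentric D' := fun h => hc (isCentric_of_isConj h hτF.symm.isConj)
      have hQ'img : img t Q = Q' := by
        ext y
        constructor
        · rintro ⟨x, hx, rfl⟩
          rw [show x = Subgroup.inclusion hQD ⟨x, hx⟩ from rfl, hev]
          exact SetLike.coe_mem _
        · intro hy
          exact ⟨Subgroup.inclusion hQD (e.symm ⟨y, hy⟩), (e.symm ⟨y, hy⟩).2, by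
            rw [hev, MulEquiv.apply_symm_apply]⟩
      have hQ'D : Q' ≤ D' := hQ'img ▸ img_le_range t Q
      have hD'N : D' ≤ normalizerIn S Q' := by
        rintro _ ⟨x, rfl⟩
        have := gen_map_mem_normalizerIn (hEF _ ht) hQD x (hDN x.2).2
        rwa [hQ'img] at this
      have hD'card : Nat.card D' = Nat.card D := (Nat.card_congr τ.toEquiv).symm
      obtain ⟨f, hf, hfn⟩ := exists_gen_normalizer_map hS hF hDS
      obtain ⟨f', hf', hf'n⟩ := exists_gen_normalizer_map hS hF hD'S
      have hDle : D ≤ normalizerIn S D := le_normalizerIn hDS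
      have hD'le : D' ≤ normalizerIn S D' := le_normalizerIn hD'S
      obtain ⟨d, hd, hdv⟩ := exists_iso (restrict_mem (hGE _ hf) hDle) (range_restrict f hDle)
      obtain ⟨d', hd', hd'v⟩ := exists_iso (restrict_mem (hGE _ hf') hD'le) (range_restrict f' hD'le)
      obtain ⟨χ, hχ, hχv⟩ := IH (img f D) (img f' D')
        (by rw [card_img ((genSystem hS hF).injective_of_mem hf) hDle]; omega) hfn hf'n
        (d.symm.trans (τ.trans d')) (hd.symm.trans (hτ.trans hd'))
      -- the images of `Q` and `Q'`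
      have hQN : Q ≤ normalizerIn S D := hQD.trans hDle
      have hQ'N : Q' ≤ normalizerIn S D' := hQ'D.trans hD'le
      have hP₁ : img f Q ≤ img f D := img_mono f hQD
      have hP₂ : img f' Q' ≤ img f' D' := img_mono f' hQ'D
      have hS₁ : img f Q ≤ S := hP₁.trans hfn.1
      have hS₂ : img f' Q' ≤ S := hP₂.trans hf'n.1
      obtain ⟨g, hg, hgn⟩ := exists_gen_normalizer_map hS hF hS₁
      obtain ⟨g', hg', hg'n⟩ := exists_gen_normalizer_map hS hF hS₂
      have hfF := GenMap.mem hf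
      have hf'F := GenMap.mem hf'
      have hN₁ : img f D ⊔ centralizerIn S (img f D) ≤ normalizerIn S (img f Q) := by
        refine sup_le ?_ ((centralizerIn_antitone hP₁).trans (centralizerIn_le_normalizerIn _))
        rintro _ ⟨x, hx, rfl⟩
        exact gen_map_mem_normalizerIn hfF hQN x (hDN hx).2
      have hN₂ : img f' D' ⊔ centralizerIn S (img f' D') ≤ normalizerIn S (img f' Q') := by
        refine sup_le ?_ ((centralizerIn_antitone hP₂).trans (centralizerIn_le_normalizerIn _))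
        rintro _ ⟨x, hx, rfl⟩
        exact gen_map_mem_normalizerIn hf'F hQ'N x (hD'N hx).2
      have hP₁N : img f Q ≤ normalizerIn S (img f Q) := le_normalizerIn hS₁
      have hP₂N : img f' Q' ≤ normalizerIn S (img f' Q') := le_normalizerIn hS₂
      obtain ⟨a₀, ha₀, ha₀v⟩ := exists_iso (restrict_mem (hGE _ hf) hQN) (range_restrict f hQN)
      obtain ⟨a₁, ha₁, ha₁v⟩ := exists_iso (restrict_mem (hGE _ hg) hP₁N) (range_restrict g hP₁N)
      obtain ⟨b₀, hb₀, hb₀v⟩ := exists_iso (restrict_mem (hGE _ hf') hQ'N) (range_restrict f' hQ'N)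
      obtain ⟨b₁, hb₁, hb₁v⟩ := exists_iso (restrict_mem (hGE _ hg') hP₂N) (range_restrict g' hP₂N)
      set a := a₀.trans a₁ with ha
      set a' := b₀.trans b₁ with ha'
      -- enlarging
      have grow : ∀ (R P : Subgroup Ω), R ≤ S → P ≤ R → R ≤ normalizerIn S P → ¬ F.IsCentric R →
          F.IsFullyCentralized P → Nat.card R = Nat.card D →
          P ≤ normalizerIn (normalizerIn S P) R ∧ Nat.card S -
            Nat.card (normalizerIn (normalizerIn S P) R) ≤ m ∧
          P < normalizerIn (normalizerIn S P) R := by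
        intro R P hRS hPR hRN hnc hPc hcard
        have hne : R < normalizerIn S P := lt_of_le_of_ne hRN fun h =>
          hnc (h ▸ isCentric_normalizerIn hPc)
        have := finite_le (normalizerIn_le (S := S) P)
        have hlt' := lt_normalizerIn (hS.to_le (normalizerIn_le P)) hne
        have hfin := finite_le ((normalizerIn_le (S := normalizerIn S P) R).trans (normalizerIn_le P))
        have hc' : Nat.card R < Nat.card (normalizerIn (normalizerIn S P) R) :=
          lt_of_le_of_ne (Subgroup.card_le_of_le hlt'.le) fun h =>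
            hlt'.ne (Subgroup.eq_of_le_of_card_ge hlt'.le h.ge)
        exact ⟨hPR.trans hlt'.le, by omega, lt_of_le_of_lt hPR hlt'⟩
      have hla : LiftsIso E a := by
        obtain ⟨hle, hcm, hPlt⟩ := grow D Q hDS hQD hDN hc hQc rfl
        have hle' : normalizerIn (normalizerIn S Q) D ≤ normalizerIn S D :=
          inf_le_inf_right _ (normalizerIn_le Q)
        have hmem : ∀ x, (f.comp (Subgroup.inclusion hle')) x ∈ normalizerIn S (img f Q) := fun x =>
          gen_map_mem_normalizerIn hfF hQN (Subgroup.inclusion hle' x) x.2.1.2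
        refine ihm _ Q (img g (img f Q)) hcm hn hQ hgn hle (Or.inr hPlt) (normalizerIn_le _)
          _ (E.comp_mem (restrict_mem (hGE _ hf) hle') (hGE _ hg) hmem) a fun x => ?_
        rw [ha, MulEquiv.trans_apply, ha₁v]
        exact congrArg g (Subtype.ext (ha₀v x).symm)
      have hla' : LiftsIso E a' := by
        have hn' : Nat.card Q' = n := by rw [← hn]; exact (Nat.card_congr e.toEquiv).symm
        obtain ⟨hle, hcm, hPlt⟩ := grow D' Q' hD'S hQ'D hD'N hc' hQ'c hD'card
        have hle' : normalizerIn (normalizerIn S Q') D' ≤ normalizerIn S D' :=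
          inf_le_inf_right _ (normalizerIn_le Q')
        have hmem : ∀ x, (f'.comp (Subgroup.inclusion hle')) x ∈ normalizerIn S (img f' Q') :=
          fun x => gen_map_mem_normalizerIn hf'F hQ'N (Subgroup.inclusion hle' x) x.2.1.2
        refine ihm _ Q' (img g' (img f' Q')) hcm hn' hQ' hg'n hle (Or.inr hPlt) (normalizerIn_le _)
          _ (E.comp_mem (restrict_mem (hGE _ hf') hle') (hGE _ hg') hmem) a' fun x => ?_
        rw [ha', MulEquiv.trans_apply, hb₁v]
        exact congrArg g' (Subtype.ext (hb₀v x).symm)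
      -- the middle
      have hM₁c : F.IsCentric (img f D ⊔ centralizerIn S (img f D)) :=
        isCentric_sup_centralizerIn (IsSaturated.fullyCentralized hS hF hfn)
      obtain ⟨θ, hθ, -, hθv, hθr⟩ :=
        exists_inv (restrict_mem (hGE _ hg) hN₁) (range_restrict g hN₁)
      have hθM : ∀ y, θ y ∈ (img f D ⊔ centralizerIn S (img f D)) := fun y => (hθr y).1
      have hχN : ∀ y : img g (img f D ⊔ centralizerIn S (img f D)), χ ⟨θ y, hθM y⟩ ∈ normalizerIn S (img f' Q') := fun y =>
        hN₂ (lift_range hχ hχv _)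
      have hc₂ : F.IsCentric (img g (img f D ⊔ centralizerIn S (img f D))) :=
        isCentric_of_isConj hM₁c (isConj_img (GenMap.mem hg) hN₁)
      have hQ₂ : img g (img f Q) ≤ img g (img f D ⊔ centralizerIn S (img f D)) := img_mono g (hP₁.trans le_sup_left)
      have hN' : img g (img f D ⊔ centralizerIn S (img f D)) ≤ normalizerIn S (img g (img f Q)) := by
        rintro _ ⟨x, -, rfl⟩
        exact gen_map_mem_normalizerIn (GenMap.mem hg) hP₁N x x.2.2
      have ht₂ : ((g'.comp ((χ.comp (θ.codRestrict (img f D ⊔ centralizerIn S (img f D)) hθM)).codRestrict _ hχN))) ∈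
          E.Hom (img g (img f D ⊔ centralizerIn S (img f D))) :=
        comp_mem' (comp_mem' hθ hχ hθM fun _ => rfl) (hGE _ hg') hχN fun _ => rfl
      have hmid : LiftsIso E (a.symm.trans (e.trans a')) := by
        refine lifts_centric_domain hS hF A hA hdet hg'n hc₂ hQ₂ hN' ht₂ _ fun x => ?_
        obtain ⟨y, rfl⟩ := a.surjective x
        show _ = ((a' (e (a.symm (a y))) : img g' (img f' Q')) : Ω)
        rw [a.symm_apply_apply]
        show _ = ((b₁ (b₀ (e y)) : img g' (img f' Q')) : Ω)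
        rw [hb₁v]
        show g' ⟨χ ⟨θ _, _⟩, _⟩ = _
        refine congrArg g' (Subtype.ext ?_)
        show χ ⟨θ _, _⟩ = ((b₀ (e y) : img f' Q') : Ω)
        have e1 : θ (Subgroup.inclusion hQ₂ (a y)) = (a₀ y : Ω) := by
          have h0 := hθv ⟨(a₀ y : Ω), Subgroup.mem_sup_left (hP₁ (a₀ y).2)⟩
            ⟨Subgroup.inclusion hP₁N (a₀ y), Subgroup.mem_sup_left (hP₁ (a₀ y).2), rfl⟩
          refine Eq.trans ?_ h0
          congr 1
          exact Subtype.ext (ha₁v (a₀ y))
        have e2 : (⟨θ (Subgroup.inclusion hQ₂ (a y)), hθM _⟩ : ↥(img f D ⊔ centralizerIn S (img f D))) =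
            Subgroup.inclusion le_sup_left (d (Subgroup.inclusion hQD y)) := Subtype.ext (by
          exact (e1.trans (ha₀v y)).trans (hdv (Subgroup.inclusion hQD y)).symm)
        rw [e2, hχv, MulEquiv.trans_apply, MulEquiv.symm_apply_apply, MulEquiv.trans_apply, hb₀v,
          hd'v]
        refine congrArg f' (Subtype.ext ?_)
        exact (hτv _).trans (hev y)
      have hfin := hla.trans (hmid.trans (hla'.symm hEF hQ'c))
      have heq : a.trans ((a.symm.trans (e.trans a')).trans a'.symm) = e :=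
        MulEquiv.ext fun x => by simp
      rwa [heq] at hfin

include hdet in
/-- Every isomorphism of the index system between fully normalized subgroups lifts. -/
theorem lifts_fullyNormalized :
    ∀ (m : ℕ) (Q Q' : Subgroup Ω), Nat.card S - Nat.card Q ≤ m → F.IsFullyNormalized Q →
      F.IsFullyNormalized Q' → ∀ e : Q ≃* Q', IsoIn (indexSystem hS hF A hA) e →
        LiftsIso (indexSystem hS hF A hA) e := by
  set E := indexSystem hS hF A hA with hE
  have hEF : E ≤ F := indexSystem_le hS hF A hA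
  have hGE : genSystem hS hF ≤ E := genSystem_le_indexSystem hS hF A hA
  intro m
  induction m using Nat.strong_induction_on with
  | _ m ihm =>
    intro Q Q' hm hQ hQ' e he
    have IH : ∀ (P P' : Subgroup Ω), Nat.card Q < Nat.card P → F.IsFullyNormalized P →
        F.IsFullyNormalized P' → ∀ u : P ≃* P', IsoIn E u → LiftsIso E u := by
      intro P P' hlt hP hP' u hu
      have : Nat.card P ≤ Nat.card S := Subgroup.card_le_of_le hP.1
      exact ihm (Nat.card S - Nat.card P) (by omega) P P' le_rfl hP hP' u hu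
    have step := lifts_of_domain hS hF A hA hdet IH
    have chain : ∀ φ : Q →* Ω, GenMap F p φ → ∀ (Q₂ : Subgroup Ω), F.IsFullyNormalized Q₂ →
        ∀ v ∈ (genSystem hS hF).Hom (normalizerIn S φ.range), ∀ u : Q ≃* Q₂,
          (∀ (x : Q) (h : φ x ∈ normalizerIn S φ.range), (u x : Ω) = v ⟨φ x, h⟩) →
          LiftsIso E u := by
      intro φ hφ
      induction hφ with
      | incl φ hP hφ =>
          intro Q₂ hQ₂ v hv u huv
          have hr : φ.range = Q := by
            ext y
            exact ⟨fun ⟨x, hx⟩ => by rw [← hx, hφ]; exact x.2, fun hy => ⟨⟨y, hy⟩, hφ _⟩⟩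
          have hle : Q ⊔ centralizerIn S Q ≤ normalizerIn S φ.range := by
            rw [hr]
            exact sup_centralizerIn_le hQ.1
          refine ⟨v.comp (Subgroup.inclusion hle), restrict_mem (hGE _ hv) hle, fun x => ?_⟩
          rw [huv x (by rw [hφ]; exact hle (Subgroup.mem_sup_left x.2))]
          exact congrArg v (Subtype.ext (hφ x).symm)
      | @step U φ hc hr a ha hk hφ hle χ hχ ih =>
          intro Q₂ hQ₂ v hv u huv
          have hUS := hc.1
          set R := φ.range with hR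
          have hRU : R ≤ U := by rintro _ ⟨x, rfl⟩; exact hle x
          have hRS := hRU.trans hUS
          obtain ⟨g, hg, hgn⟩ := exists_gen_normalizer_map hS hF hRS
          have hRN : R ≤ normalizerIn S R := le_normalizerIn hRS
          obtain ⟨r, hr', hrv⟩ := exists_iso (GenMap.mem hφ) (Q := R) rfl
          obtain ⟨s, hs, hsv⟩ := exists_iso (restrict_mem hg hRN) (range_restrict g hRN)
          have h1 : LiftsIso E (r.trans s) := ih _ hgn g hg _ fun x h => by
            rw [MulEquiv.trans_apply, hsv]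
            exact congrArg g (Subtype.ext (hrv x))
          set W := normalizerIn U R with hW
          have hWN : W ≤ normalizerIn S R := inf_le_inf_right _ hUS
          have hRW : R ≤ W := le_normalizerIn hRU
          have haF := (mem_autGroup_iff hUS).1 ha
          set aW : W →* Ω := (U.subtype.comp a.toMonoidHom).comp (Subgroup.inclusion inf_le_left)
            with haW
          have haWE : aW ∈ E.Hom W := restrict_mem (hGE _
            ((mem_autGroup_iff hUS).1 (genSystem_pow_mem hS hF hUS ha hk))) _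
          have himg : img aW R = χ.range := by
            ext y
            constructor
            · rintro ⟨x, hx, rfl⟩
              obtain ⟨z, hz⟩ := (hx : (x : Ω) ∈ R)
              refine ⟨z, (hχ z).trans ?_⟩
              exact congrArg (fun w : U => ((a w : U) : Ω)) (Subtype.ext hz)
            · rintro ⟨z, rfl⟩
              exact ⟨⟨φ z, hRW ⟨z, rfl⟩⟩, ⟨z, rfl⟩, (hχ z).symm⟩
          have haWN : ∀ x, aW x ∈ normalizerIn S χ.range := fun x => by
            have := gen_map_mem_normalizerIn (hEF _ haWE) hRW x x.2.2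
            rwa [himg] at this
          obtain ⟨θ, hθ, -, hθv, hθr⟩ :=
            exists_inv (restrict_mem (hGE _ hg) hWN) (range_restrict g hWN)
          have hθW : ∀ y, θ y ∈ W := fun y => (hθr y).1
          have ht : v.comp ((aW.comp (θ.codRestrict W hθW)).codRestrict _ fun y => haWN _) ∈
              E.Hom (img g W) :=
            comp_mem' (comp_mem' hθ haWE hθW fun _ => rfl) (hGE _ hv) (fun y => haWN _) fun _ => rfl
          have hQD : img g R ≤ img g W := img_mono g hRW
          have hDN : img g W ≤ normalizerIn S (img g R) := by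
            rintro _ ⟨x, -, rfl⟩
            exact gen_map_mem_normalizerIn (GenMap.mem hg) hRN x x.2.2
          have hor : F.IsCentric (img g W) ∨ img g R < img g W := by
            by_cases hRU' : R = U
            · left
              have hWU : W = U := le_antisymm inf_le_left (hRU'.ge.trans hRW)
              exact isCentric_of_isConj (hWU ▸ hc) (isConj_img (GenMap.mem hg) hWN)
            · right
              have := finite_le hUS
              have := finite_le ((normalizerIn_le (S := U) R).trans hUS)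
              have hlt := lt_normalizerIn (hS.to_le hUS) (lt_of_le_of_ne hRU hRU')
              refine lt_of_le_of_ne hQD fun h => hlt.ne (Subgroup.eq_of_le_of_card_ge hlt.le ?_)
              have := finite_le ((normalizerIn_le (S := U) R).trans hUS)
              rw [← card_img ((genSystem hS hF).injective_of_mem hg) hWN,
                ← card_img ((genSystem hS hF).injective_of_mem hg) hRN, h]
          have hcard : Nat.card (img g R) = Nat.card Q := by
            rw [card_img ((genSystem hS hF).injective_of_mem hg) hRN]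
            exact (Nat.card_congr r.toEquiv).symm
          have h2 : LiftsIso E ((r.trans s).symm.trans u) := by
            refine step (Nat.card S) (img g W) (img g R) Q₂ (Nat.sub_le _ _) hcard hgn hQ₂ hQD hor
              hDN _ ht _ fun y => ?_
            obtain ⟨x, rfl⟩ := (r.trans s).surjective y
            show _ = ((u ((r.trans s).symm ((r.trans s) x)) : Q₂) : Ω)
            rw [(r.trans s).symm_apply_apply]
            have hx : χ x ∈ normalizerIn S χ.range :=
              le_normalizerIn (hom_range_le (GenMap.mem (GenMap.step hc hr a ha hk hφ hle χ hχ)))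
                ⟨x, rfl⟩
            rw [huv x hx]
            refine congrArg v (Subtype.ext ?_)
            show aW ⟨θ _, _⟩ = χ x
            have e0 := hθv ⟨φ x, hRW ⟨x, rfl⟩⟩ ⟨⟨φ x, hRN ⟨x, rfl⟩⟩, hRW ⟨x, rfl⟩, rfl⟩
            have e1 : θ (Subgroup.inclusion hQD ((r.trans s) x)) = φ x := by
              refine Eq.trans ?_ e0
              congr 1
              refine Subtype.ext ?_
              show (((r.trans s) x : img g R) : Ω) = g _
              rw [MulEquiv.trans_apply, hsv]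
              exact congrArg g (Subtype.ext (hrv x))
            rw [hχ]
            show ((a ⟨θ _, _⟩ : U) : Ω) = _
            exact congrArg (fun w : U => ((a w : U) : Ω)) (Subtype.ext e1)
          have := h1.trans h2
          rwa [show (r.trans s).trans ((r.trans s).symm.trans u) = u from MulEquiv.ext fun x => by simp] at this
    obtain ⟨α, hα, φ, hφ, hv⟩ := he
    have hαF := hA hα
    have hφS := hom_range_le hφ
    have hiff : ∀ x : S, (x : Ω) ∈ φ.range ↔ ((α x : S) : Ω) ∈ Q' := fun x => by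
      constructor
      · rintro ⟨z, hz⟩
        have := hv z (hom_apply_mem hφ z)
        rw [show (⟨φ z, hom_apply_mem hφ z⟩ : S) = x from Subtype.ext hz] at this
        rw [← this]
        exact (e z).2
      · intro hx
        refine ⟨e.symm ⟨_, hx⟩, ?_⟩
        have h1 := hv (e.symm ⟨_, hx⟩) (hom_apply_mem hφ _)
        simp only [MonoidHom.coe_comp, MulEquiv.coe_toMonoidHom, Function.comp_apply,
          MulEquiv.apply_symm_apply, Subgroup.coe_subtype] at h1
        exact congrArg Subtype.val (α.injective (Subtype.ext h1) : x = ⟨_, _⟩).symm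
    have hn₀ : F.IsFullyNormalized φ.range := isFullyNormalized_aut hQ' hφS hαF hiff
    obtain ⟨e₀, he₀, he₀v⟩ := exists_iso hφ (Q := φ.range) rfl
    have hl₀ : LiftsIso E e₀ := chain φ hφ _ hn₀ _ (incl_mem (normalizerIn_le _)) e₀
      fun x h => he₀v x
    have hαE := (mem_autGroup_iff le_rfl).1 (top_le_indexSystem hS hF A hA hα)
    have hsup : φ.range ⊔ centralizerIn S φ.range ≤ S := sup_le hφS (centralizerIn_le _)
    have hl₁ : LiftsIso E (e₀.symm.trans e) := by
      refine ⟨(S.subtype.comp α.toMonoidHom).comp (Subgroup.inclusion hsup),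
        restrict_mem hαE hsup, fun y => ?_⟩
      obtain ⟨x, rfl⟩ := e₀.surjective y
      rw [MulEquiv.trans_apply, MulEquiv.symm_apply_apply]
      refine Eq.trans ?_ (hv x (hom_apply_mem hφ x)).symm
      show ((α _ : S) : Ω) = _
      congr 2
      exact Subtype.ext (he₀v x)
    have := hl₀.trans hl₁
    rwa [show e₀.trans (e₀.symm.trans e) = e from MulEquiv.ext fun x => by simp] at this

include hdet in
/-- The index system is saturated. -/
theorem indexSystem_saturated : (indexSystem hS hF A hA).IsSaturated p := by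
  set E := indexSystem hS hF A hA with hE
  have hEF : E ≤ F := indexSystem_le hS hF A hA
  have hGE : genSystem hS hF ≤ E := genSystem_le_indexSystem hS hF A hA
  refine saturated_of_fullyNormalized fun Q hQE => ?_
  have hQ : F.IsFullyNormalized Q := by
    refine ⟨hQE.1, ?_⟩
    rintro R ⟨φ, hφ, rfl⟩
    obtain ⟨α, hα, φ₀, hφ₀, hv⟩ := exists_gen_decomp hS hF hφ
    refine le_trans ?_ (hQE.2 φ₀.range ⟨φ₀, hGE _ hφ₀, rfl⟩)
    have hαi := (mem_autGroup_iff le_rfl).1 (Subgroup.inv_mem _ hα)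
    refine card_normalizerIn_le_of_map (restrict_mem hαi (normalizerIn_le φ.range))
      fun x => ⟨SetLike.coe_mem _, ?_⟩
    have hg := img_mem_normalizer (ψ := (S.subtype.comp (α⁻¹).toMonoidHom)) (hom_range_le hφ)
      ⟨(x : Ω), x.2.1⟩ x.2.2
    have himg : img (S.subtype.comp (α⁻¹).toMonoidHom) φ.range = φ₀.range := by
      ext y
      constructor
      · rintro ⟨z, ⟨w, hw⟩, rfl⟩
        refine ⟨w, ?_⟩
        have h1 : z = α ⟨φ₀ w, hom_apply_mem hφ₀ w⟩ := Subtype.ext (hw.symm.trans (hv w _))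
        rw [h1]
        exact (congrArg Subtype.val (MulAut.inv_apply_self S α ⟨φ₀ w, _⟩)).symm
      · rintro ⟨w, rfl⟩
        exact ⟨α ⟨φ₀ w, hom_apply_mem hφ₀ w⟩, ⟨w, hv w _⟩,
          congrArg Subtype.val (MulAut.inv_apply_self S α _)⟩
    rw [himg] at hg
    exact hg
  have hQS := hQ.1
  have hEFQ : E.autGroup Q ≤ F.autGroup Q := fun b hb =>
    (mem_autGroup_iff hQS).2 (hEF _ ((mem_autGroup_iff hQS).1 hb))
  have hfinQ := finite_mulAut_of_le (S := S) hQS
  refine ⟨⟨hQS, IsSylowIn.of_le (IsSaturated.fullyAutomized hS hF hQ).2 (autInducedBy_le_autGroup hQS) hEFQ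
    (autInducedBy_le_autGroup hQS)⟩, hQS, fun P φ hφ hφr => ?_⟩
  obtain ⟨u, hu, huv⟩ := exists_iso hφ hφr
  have hPS := hom_le hφ
  obtain ⟨g, hg, hgn⟩ := exists_gen_normalizer_map hS hF hPS
  have hPN : P ≤ normalizerIn S P := le_normalizerIn hPS
  set P₁ := img g P with hP₁
  obtain ⟨r, hr, hrv⟩ := exists_iso (Q := P₁) (restrict_mem (hGE _ hg) hPN) (range_restrict g hPN)
  set e : P₁ ≃* Q := r.symm.trans u with hedef
  have he : IsoIn E e := hr.symm.trans hu
  set C := Q ⊔ centralizerIn S Q with hC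
  set C₁ := P₁ ⊔ centralizerIn S P₁ with hC₁
  obtain ⟨χ, hχ, hχv⟩ : ∃ χ ∈ E.Hom C₁, ∀ x : P₁,
      χ (Subgroup.inclusion le_sup_left x) = e x :=
    lifts_fullyNormalized hS hF A hA hdet _ P₁ Q le_rfl hgn hQ e he
  have hQc := IsSaturated.fullyCentralized hS hF hQ
  have hP₁c := IsSaturated.fullyCentralized hS hF hgn
  have heF : IsoIn F e := hEF _ he.mem
  set N := extender S P φ with hN
  have hNP : N ≤ normalizerIn S P := fun x hx =>
    ⟨(mem_extender_iff.1 hx).1, (mem_extender_iff.1 hx).2.1⟩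
  set M := extender S P₁ (isoHom e) with hM
  have hgN : ∀ x : N, g (Subgroup.inclusion hNP x) ∈ M := by
    intro x
    obtain ⟨-, hxN, h, hh, hxv⟩ := mem_extender_iff.1 x.2
    have hgmem := gen_map_mem_normalizerIn (GenMap.mem hg) hPN (Subgroup.inclusion hNP x) hxN
    refine mem_extender_iff.2 ⟨hgmem.1, hgmem.2, h, hh, fun y hy => ?_⟩
    obtain ⟨z, rfl⟩ := r.surjective y
    have hzc := conj_mem_of_mem_normalizer hxN z.2
    have e1 : (⟨g (Subgroup.inclusion hNP x) * (r z : Ω) * (g (Subgroup.inclusion hNP x))⁻¹, hy⟩ :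
        P₁) = r ⟨(x : Ω) * z * (x : Ω)⁻¹, hzc⟩ := Subtype.ext (by
      show g (Subgroup.inclusion hNP x) * (r z : Ω) * (g (Subgroup.inclusion hNP x))⁻¹ = _
      rw [hrv, hrv]
      show g (Subgroup.inclusion hNP x) * g (Subgroup.inclusion hPN z) * _ =
        g (Subgroup.inclusion hPN ⟨(x : Ω) * z * (x : Ω)⁻¹, hzc⟩)
      rw [← map_inv, ← map_mul, ← map_mul]
      rfl)
    rw [isoHom_apply, isoHom_apply, hedef, e1, MulEquiv.trans_apply, MulEquiv.trans_apply,
      MulEquiv.symm_apply_apply, MulEquiv.symm_apply_apply, huv, huv]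
    exact hxv z hzc
  have hP₁C : P₁ ⊔ centralizerIn S P₁ ≤ M := sup_le_extender heF
  obtain ⟨ψ, hψ, hag⟩ := exists_extension (IsSaturated.receptive hS hF hQc) heF
    (le_sup_left.trans hP₁C) le_rfl
  have hMN : ∀ x : M, ψ x ∈ normalizerIn S Q := fun x =>
    extension_mem_normalizerIn hψ _ (fun y hy => (mem_extender_iff.1 hy).2.1) hag x
  have hCS : C ≤ S := sup_le hQS (centralizerIn_le Q)
  have hψC : LiftsIso F e :=
    ⟨ψ.comp (Subgroup.inclusion hP₁C), restrict_mem hψ hP₁C, fun x => hag x⟩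
  obtain ⟨θ₀, hθ₀, hθ₀v⟩ := hψC.symm (fun _ _ h => h) hP₁c
  have hψr : (ψ.comp (Subgroup.inclusion hP₁C)).range = C := by
    have := finite_le hCS
    have := finite_le (sup_le hgn.1 (centralizerIn_le (S := S) P₁))
    refine Subgroup.eq_of_le_of_card_ge ?_ ?_
    · rintro _ ⟨y, rfl⟩
      exact lift_range (restrict_mem hψ hP₁C) (fun x => hag x) y
    · refine le_trans (Nat.card_le_card_of_injective (fun y : C =>
        (⟨θ₀ y, lift_range hθ₀ hθ₀v y⟩ : C₁)) fun a b h =>
          F.injective_of_mem hθ₀ (congrArg Subtype.val h)) (le_of_eq (Nat.card_congr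
        (MonoidHom.ofInjective (F.injective_of_mem (restrict_mem hψ hP₁C))).toEquiv))
  obtain ⟨θ, hθ, -, hθinv, hθr⟩ := exists_inv (restrict_mem hψ hP₁C) hψr
  have hθC₁ : ∀ y, θ y ∈ C₁ := fun y => (hθr y).1
  have hθv : ∀ q : Q, θ (Subgroup.inclusion le_sup_left q) = (e.symm q : Ω) := fun q => by
    have h0 := hθinv (Subgroup.inclusion le_sup_left (e.symm q))
    have h1 : ψ (Subgroup.inclusion hP₁C (Subgroup.inclusion le_sup_left (e.symm q))) = (q : Ω) :=
      (hag _).trans (congrArg Subtype.val (e.apply_symm_apply q))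
    refine Eq.trans ?_ (h0 (h1.symm ▸ Subgroup.mem_sup_left q.2))
    congr 1
    exact Subtype.ext h1.symm
  set l₀ : C →* Ω := χ.comp (θ.codRestrict C₁ hθC₁) with hl₀
  have hl₀F : l₀ ∈ F.Hom C := comp_mem' hθ (hEF _ hχ) hθC₁ fun _ => rfl
  have := finite_le hCS
  have hl₀r : l₀.range = C := Subgroup.eq_of_le_of_card_ge
    (by rintro _ ⟨y, rfl⟩; exact lift_range hχ hχv _)
    (le_of_eq (Nat.card_congr (MonoidHom.ofInjective (F.injective_of_mem hl₀F)).toEquiv))
  obtain ⟨l, hl, hlv⟩ := exists_iso hl₀F hl₀r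
  have hlQ : ∀ q : Q, ((l (Subgroup.inclusion le_sup_left q) : C) : Ω) = q := fun q => by
    rw [hlv]
    show χ ⟨θ (Subgroup.inclusion le_sup_left q), _⟩ = _
    rw [show (⟨θ (Subgroup.inclusion le_sup_left q), hθC₁ _⟩ : C₁) =
      Subgroup.inclusion le_sup_left (e.symm q) from Subtype.ext (hθv q), hχv,
      MulEquiv.apply_symm_apply]
  -- the automorphisms of `C` inducing elements of `Aut_S(Q)`
  let L : Subgroup (MulAut C) :=
    { carrier := {x | x ∈ F.autGroup C ∧ ∃ s ∈ normalizerIn S Q, ∀ q : Q,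
        ((x (Subgroup.inclusion le_sup_left q) : C) : Ω) = s * (q : Ω) * s⁻¹}
      one_mem' := ⟨one_mem _, 1, one_mem _, fun q => by simp⟩
      mul_mem' := fun {x y} ⟨hx, s, hs, hxs⟩ ⟨hy, t, ht, hyt⟩ =>
        ⟨Subgroup.mul_mem _ hx hy, s * t, mul_mem hs ht, fun q => by
          have hq' := conj_mem_of_mem_normalizer ht.2 q.2
          rw [MulAut.mul_apply, show y (Subgroup.inclusion le_sup_left q) =
            Subgroup.inclusion le_sup_left ⟨t * (q : Ω) * t⁻¹, hq'⟩ from Subtype.ext (hyt q), hxs]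
          group⟩
      inv_mem' := fun {x} ⟨hx, s, hs, hxs⟩ => ⟨Subgroup.inv_mem _ hx, s⁻¹, inv_mem hs, fun q => by
        have hq' := conj_mem_of_mem_normalizer (inv_mem hs).2 q.2
        have h1 : x (Subgroup.inclusion le_sup_left ⟨s⁻¹ * (q : Ω) * s⁻¹⁻¹, hq'⟩) =
            Subgroup.inclusion le_sup_left q := Subtype.ext (by
          rw [hxs]
          show s * (s⁻¹ * (q : Ω) * s⁻¹⁻¹) * s⁻¹ = (q : Ω)
          group)
        rw [← h1, MulAut.inv_apply_self]
        rfl⟩ }
  set W := autInducedBy (normalizerIn S Q) C with hW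
  have hWL : W ≤ L := fun x hx => by
    obtain ⟨s, hs, hsv⟩ := mem_autInducedBy_iff.1 hx
    exact ⟨autInducedBy_le_autGroup hCS (autInducedBy_mono (normalizerIn_le Q) hx), s, hs,
      fun q => hsv _⟩
  have hCN : C ≤ normalizerIn S Q := sup_centralizerIn_le hQS
  -- `W` is Sylow among the automorphisms of `C` preserving `Q`
  set NS := normSystem F Q hQS with hNSdef
  have hNSs : NS.IsSaturated p :=
    normalizerSystem_saturated hS hF hQ (normSystem_isNormalizerSystem F Q hQS)
  have := finite_le (normalizerIn_le (S := S) Q)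
  have hnorm : ∀ s ∈ normalizerIn S Q, s ∈ Subgroup.normalizer (C : Set Ω) := by
    have hc : ∀ s ∈ normalizerIn S Q, ∀ y ∈ C, s * y * s⁻¹ ∈ C := by
      intro s hs
      have : C ≤ C.comap (MulAut.conj s).toMonoidHom := by
        refine sup_le (fun y hy => Subgroup.mem_sup_left (conj_mem_of_mem_normalizer hs.2 hy))
          fun y hy => Subgroup.mem_sup_right (mem_centralizerIn.2 ⟨?_, fun q hq => ?_⟩)
        · exact S.mul_mem (S.mul_mem hs.1 (centralizerIn_le Q hy)) (S.inv_mem hs.1)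
        · have hq' := conj_mem_of_mem_normalizer (inv_mem hs).2 hq
          show q * (s * y * s⁻¹) = s * y * s⁻¹ * q
          have h1 := (mem_centralizerIn.1 hy).2 _ hq'
          calc q * (s * y * s⁻¹) = s * (s⁻¹ * q * s⁻¹⁻¹ * y) * s⁻¹ := by group
            _ = s * (y * (s⁻¹ * q * s⁻¹⁻¹)) * s⁻¹ := by rw [h1]
            _ = s * y * s⁻¹ * q := by group
      exact fun y hy => this hy
    intro s hs
    refine Subgroup.mem_normalizer_iff.2 fun y => ⟨hc s hs y, fun hy => ?_⟩
    have := hc s⁻¹ (inv_mem hs) _ hy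
    simpa [mul_assoc] using this
  have hCfn : NS.IsFullyNormalized C := by
    have := finite_le ((normalizerIn_le (S := normalizerIn S Q) C).trans (normalizerIn_le Q))
    refine ⟨hCN, fun R hR => Subgroup.card_le_of_le ?_⟩
    exact fun s hs => ⟨hs.1, hnorm s hs.1⟩
  have hLN : L ≤ NS.autGroup C := by
    rintro x ⟨hx, s, hs, hxs⟩
    have hle : C ⊔ Q ≤ C := sup_le le_rfl le_sup_left
    refine (mem_autGroup_iff hCN).2 ⟨(mem_autGroup_iff hCS).1 hx, hCN, fun y => hCN (x y).2,
      (C.subtype.comp x.toMonoidHom).comp (Subgroup.inclusion hle),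
      restrict_mem ((mem_autGroup_iff hCS).1 hx) hle, fun y => rfl, ?_⟩
    ext y
    constructor
    · rintro ⟨z, hz, rfl⟩
      show ((x (Subgroup.inclusion le_sup_left ⟨(z : Ω), hz⟩) : C) : Ω) ∈ Q
      rw [hxs]
      exact conj_mem_of_mem_normalizer hs.2 hz
    · intro hy
      have hy' := conj_mem_of_mem_normalizer (inv_mem hs).2 hy
      refine ⟨⟨_, Subgroup.mem_sup_right hy'⟩, hy', ?_⟩
      show ((x (Subgroup.inclusion le_sup_left ⟨_, hy'⟩) : C) : Ω) = y
      rw [hxs]
      show s * (s⁻¹ * y * s⁻¹⁻¹) * s⁻¹ = y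
      group
  have hfinC := finite_mulAut_of_le (S := S) hCS
  have hWsyl : IsSylowIn p W L :=
    IsSylowIn.of_le (IsSaturated.fullyAutomized (hS.to_le (normalizerIn_le Q)) hNSs hCfn).2
      (autInducedBy_le_autGroup hCN) hLN hWL
  obtain ⟨T, hT⟩ := hWsyl
  let O : Subgroup L := Subgroup.closure {x | ∃ k : ℕ, x ^ p ^ k = 1}
  have hOn : O.Normal := by
    refine ⟨fun n hn b => ?_⟩
    induction hn using Subgroup.closure_induction with
    | mem x hx =>
        obtain ⟨k, hk⟩ := hx
        exact Subgroup.subset_closure ⟨k, by rw [conj_pow, hk, mul_one, mul_inv_cancel]⟩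
    | one => simp
    | mul x y _ _ hx hy =>
        rw [show b * (x * y) * b⁻¹ = b * x * b⁻¹ * (b * y * b⁻¹) by group]
        exact O.mul_mem hx hy
    | inv x _ hx =>
        rw [show b * x⁻¹ * b⁻¹ = (b * x * b⁻¹)⁻¹ by group]
        exact O.inv_mem hx
  have hTO : (T : Subgroup L) ≤ O := fun t ht => by
    obtain ⟨k, hk⟩ := T.isPGroup' ⟨t, ht⟩
    exact Subgroup.subset_closure ⟨k, congrArg Subtype.val hk⟩
  have hOE : O ≤ (E.autGroup C).comap L.subtype := by
    refine (Subgroup.closure_le _).2 ?_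
    rintro b ⟨k, hk⟩
    exact (mem_autGroup_iff hCS).2 (hGE _ ((mem_autGroup_iff hCS).1
      (genSystem_pow_mem hS hF hCS b.2.1 ⟨k, congrArg Subtype.val hk⟩)))
  have hlL : (l : MulAut C) ∈ L :=
    ⟨(mem_autGroup_iff_isoIn hCS).2 hl, 1, one_mem _, fun q => by rw [hlQ]; simp⟩
  have hfr := (Sylow.normalizer_sup_eq_top' T hTO).ge (Subgroup.mem_top (⟨l, hlL⟩ : L))
  rw [sup_comm] at hfr
  obtain ⟨o, ho, ν, hν, hoν⟩ := Subgroup.mem_sup_of_normal_left.1 hfr
  obtain ⟨hνF, s, hs, hνs⟩ := ν.2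
  -- `ν` extends to the normalizer
  have hνT : ∀ c ∈ W, (ν : MulAut C) * c * (ν : MulAut C)⁻¹ ∈ W := fun c hc =>
    hT.le ((Subgroup.mem_normalizer_iff.1 hν ⟨c, hWL hc⟩).1 (hT.ge hc))
  have hνI : IsoIn F ((ν : MulAut C) : C ≃* C) := (mem_autGroup_iff_isoIn hCS).1 hνF
  obtain ⟨ψν, hψν, hνag⟩ := exists_extension (IsSaturated.receptive hS hF
    (fullyCentralized_of_centric (isCentric_sup_centralizerIn hQc))) hνI hCN (by
      intro x hx
      let c : MulAut C := C.normalizerMonoidHom ⟨x, hnorm x hx⟩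
      obtain ⟨t, ht, htv⟩ := mem_autInducedBy_iff.1 (hνT c
        (mem_autInducedBy_iff.2 ⟨x, hx, fun _ => rfl⟩))
      refine mem_extender_iff.2 ⟨hx.1, hnorm x hx, t, ht.1, fun y hy => ?_⟩
      have := htv ((ν : MulAut C) y)
      rw [MulAut.mul_apply, MulAut.mul_apply, MulAut.inv_apply_self] at this
      exact this)
  have hψνQ : ∀ q : Q, ψν (Subgroup.inclusion hCN (Subgroup.inclusion le_sup_left q)) =
      s * (q : Ω) * s⁻¹ := fun q => (hνag _).trans (hνs q)
  have hψνN : ∀ x, ψν x ∈ normalizerIn S Q := fun x => by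
    have hQN : Q ≤ normalizerIn S Q := le_normalizerIn hQS
    have h1 := gen_map_mem_normalizerIn hψν hQN x x.2.2
    have h2 : img ψν Q = Q := by
      ext y
      constructor
      · rintro ⟨z, hz, rfl⟩
        rw [show z = Subgroup.inclusion hCN (Subgroup.inclusion le_sup_left ⟨(z : Ω), hz⟩) from rfl,
          hψνQ]
        exact conj_mem_of_mem_normalizer hs.2 hz
      · intro hy
        have hy' := conj_mem_of_mem_normalizer (inv_mem hs).2 hy
        refine ⟨Subgroup.inclusion hCN (Subgroup.inclusion le_sup_left ⟨_, hy'⟩), hy', ?_⟩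
        rw [hψνQ]
        show s * (s⁻¹ * y * s⁻¹⁻¹) * s⁻¹ = y
        group
    rwa [h2] at h1
  have hconj : conjHom (normalizerIn S Q) s⁻¹ ∈ F.Hom (normalizerIn S Q) :=
    F.conj_mem (normalizerIn_le Q) (S.inv_mem hs.1)
  set ψ' : M →* Ω := ((conjHom (normalizerIn S Q) s⁻¹).comp (ψν.codRestrict _ hψνN)).comp
    (ψ.codRestrict _ hMN) with hψ'
  have hψ'F : ψ' ∈ F.Hom M := comp_mem' hψ (comp_mem' hψν hconj hψνN
    (χ := (conjHom (normalizerIn S Q) s⁻¹).comp (ψν.codRestrict _ hψνN)) fun _ => rfl) hMN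
    fun _ => rfl
  have hψ'v : ∀ x : M, ψ' x = s⁻¹ * ψν ⟨ψ x, hMN x⟩ * s⁻¹⁻¹ := fun x => rfl
  have hoi : (o : MulAut C)⁻¹ ∈ E.autGroup C := Subgroup.inv_mem _ (hOE ho)
  have hψ'E : ψ' ∈ E.Hom M := by
    refine det_map hS hF A hA hdet hP₁C (isCentric_sup_centralizerIn hP₁c) hψ'F ?_
    refine comp_mem' (comp_mem' hχ ((mem_autGroup_iff hCS).1 hoi) (fun y => lift_range hχ hχv y)
      (χ := (C.subtype.comp ((o : MulAut C)⁻¹).toMonoidHom).comp
        (χ.codRestrict C fun y => lift_range hχ hχv y)) fun _ => rfl)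
      (E.conj_mem hCS (S.inv_mem hs.1)) (fun y => SetLike.coe_mem _) fun y => ?_
    show ψ' (Subgroup.inclusion hP₁C y) =
      s⁻¹ * ((((o : MulAut C)⁻¹) ⟨χ y, lift_range hχ hχv y⟩ : C) : Ω) * s⁻¹⁻¹
    rw [hψ'v]
    congr 2
    have hyC : ψ (Subgroup.inclusion hP₁C y) ∈ C :=
      lift_range (e := e) (restrict_mem hψ hP₁C) (fun x => hag x) y
    rw [show (⟨ψ (Subgroup.inclusion hP₁C y), hMN _⟩ : normalizerIn S Q) =
      Subgroup.inclusion hCN ⟨_, hyC⟩ from rfl, hνag]
    have h1 : l ⟨_, hyC⟩ = ⟨χ y, lift_range hχ hχv y⟩ := Subtype.ext (by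
      rw [hlv]
      show χ ⟨θ ⟨_, hyC⟩, _⟩ = χ y
      congr 1
      exact Subtype.ext (hθinv y hyC))
    rw [← h1, show (l : MulAut C) = (o : MulAut C) * (ν : MulAut C) from
      (congrArg Subtype.val hoν).symm]
    simp [MulAut.mul_apply]
  have hψ'Q : ∀ x : P₁, ψ' (Subgroup.inclusion (le_sup_left.trans hP₁C) x) = e x := fun x => by
    rw [hψ'v, show (⟨ψ (Subgroup.inclusion (le_sup_left.trans hP₁C) x), hMN _⟩ : normalizerIn S Q) =
      Subgroup.inclusion hCN (Subgroup.inclusion le_sup_left (e x)) from Subtype.ext (hag x), hψνQ]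
    group
  refine ⟨ψ'.comp ((g.comp (Subgroup.inclusion hNP)).codRestrict M hgN),
    comp_mem' (restrict_mem (hGE _ hg) hNP) hψ'E hgN fun _ => rfl, fun x hx hxN => ?_⟩
  show ψ' ⟨g (Subgroup.inclusion hNP ⟨x, hxN⟩), _⟩ = _
  have h1 := hψ'Q (r ⟨x, hx⟩)
  refine Eq.trans (congrArg ψ' ?_) (h1.trans ?_)
  · exact Subtype.ext (hrv ⟨x, hx⟩).symm
  · rw [hedef, MulEquiv.trans_apply, MulEquiv.symm_apply_apply, huv]

end CfsgLib.Fusion
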