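import Cfsg.Agent.Lib.Fusion.WeakNormalBasic
import Cfsg.Agent.Lib.Fusion.PrimeIndexLift

/-!
Families of maps between the subgroups centric inside a strongly closed `T`, closed under
composition, inverses and `Aut_F(T)`: the automorphisms of `T` lying in such a family on some
centric subgroup have a power of `p`-power exponent in it on `T`.
-/

set_option autoImplicit false

namespace CfsgLib.Fusion

open Cfsg Cfsg.FusionSystem

variable {Ω : Type*} [Group Ω] {S T : Subgroup Ω} {F : FusionSystem S} {p : ℕ}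

/-- The restriction of an automorphism of `T`. -/
def resT (γ : MulAut T) {R : Subgroup Ω} (h : R ≤ T) : R →* Ω :=
  (T.subtype.comp γ.toMonoidHom).comp (Subgroup.inclusion h)

theorem resT_apply (γ : MulAut T) {R : Subgroup Ω} (h : R ≤ T) (x : R) :
    resT γ h x = ((γ (Subgroup.inclusion h x) : T) : Ω) := rfl

theorem resT_apply_mem (γ : MulAut T) {R : Subgroup Ω} (h : R ≤ T) (x : R) : resT γ h x ∈ T :=
  SetLike.coe_mem _

theorem resT_mem {γ : MulAut T} (hγ : γ ∈ F.autGroup T) (hTS : T ≤ S) {R : Subgroup Ω}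
    (h : R ≤ T) : resT γ h ∈ F.Hom R :=
  restrict_mem ((mem_autGroup_iff hTS).1 hγ) h

theorem resT_range_le (γ : MulAut T) {R : Subgroup Ω} (h : R ≤ T) : (resT γ h).range ≤ T := by
  rintro _ ⟨x, rfl⟩
  exact SetLike.coe_mem _

/-- Centric inside `T` implies contained in `T`. -/
theorem TCentric.le {R : Subgroup Ω} (hR : TCentric F T R) : R ≤ T := hR.1

theorem TCentric.resT_range {R : Subgroup Ω} (hR : TCentric F T R) (hT : F.StronglyClosed T)
    {γ : MulAut T} (hγ : γ ∈ F.autGroup T) : TCentric F T (resT γ hR.le).range :=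
  hR.conj hT ⟨_, resT_mem hγ hT.1 hR.le, rfl⟩

theorem resT_inv_apply (γ : MulAut T) {R : Subgroup Ω} (h : R ≤ T) {y : T} {x : R}
    (hy : (y : Ω) = resT γ h x) : ((γ⁻¹ y : T) : Ω) = x := by
  rw [show y = γ (Subgroup.inclusion h x) from Subtype.ext hy, MulAut.inv_apply_self]
  rfl

/-- An element of the image of `R` comes back to `R`. -/
theorem inv_resT_mem (γ : MulAut T) {R : Subgroup Ω} (h : R ≤ T)
    (y : ↥(resT γ h).range) :
    ((γ⁻¹ (Subgroup.inclusion (resT_range_le γ h) y) : T) : Ω) ∈ R := by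
  obtain ⟨_, x, rfl⟩ := y
  have h1 := resT_inv_apply γ h (x := x)
    (y := Subgroup.inclusion (resT_range_le γ h) ⟨_, x, rfl⟩) rfl
  exact (congrArg (fun z => z ∈ R) h1).mpr x.2

/-- A family of maps between subgroups centric inside `T`. -/
structure TFamily (F : FusionSystem S) (T : Subgroup Ω) where
  Mem : (R : Subgroup Ω) → (R →* Ω) → Prop
  mem : ∀ {R : Subgroup Ω} {φ : R →* Ω}, TCentric F T R → Mem R φ → φ ∈ F.Hom R
  conj : ∀ {R : Subgroup Ω}, TCentric F T R → ∀ t ∈ T, Mem R (conjHom R t)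
  comp : ∀ {R Q : Subgroup Ω} {φ : R →* Ω} {ψ : Q →* Ω}, TCentric F T R → TCentric F T Q →
    Mem R φ → Mem Q ψ → ∀ (h : ∀ x, φ x ∈ Q) (χ : R →* Ω), (∀ x, χ x = ψ ⟨φ x, h x⟩) → Mem R χ
  inv : ∀ {R : Subgroup Ω} {φ : R →* Ω}, TCentric F T R → Mem R φ →
    ∃ ψ, Mem φ.range ψ ∧ ∀ x : R, ψ ⟨φ x, ⟨x, rfl⟩⟩ = x
  transport : ∀ {R R' : Subgroup Ω} {φ : R →* Ω}, TCentric F T R → TCentric F T R' → Mem R φ →
    ∀ α ∈ F.autGroup T, ∀ (hR' : R' ≤ T)
      (h1 : ∀ y : R', ((α⁻¹ (Subgroup.inclusion hR' y) : T) : Ω) ∈ R) (h2 : ∀ x, φ x ∈ T),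
      Mem R' (topConj α φ hR' h1 h2)
  frattini : ∀ {R : Subgroup Ω} {φ : R →* Ω}, TCentric F T R → φ ∈ F.Hom R →
    ∃ α ∈ F.autGroup T, ∃ φ₀, Mem R φ₀ ∧
      ∀ (x : R) (h : φ₀ x ∈ T), φ x = ((α ⟨φ₀ x, h⟩ : T) : Ω)
  extend : ∀ {R R' M : Subgroup Ω} {φ : R' →* Ω}, TCentric F T R → F.IsFullyNormalized R →
    TCentric F T R' → Mem R' φ → φ.range = R → R' ≤ M → M ≤ normalizerIn T R' →
    (∀ g ∈ M, ∃ t ∈ T, ∀ (x : R') (hx : g * (x : Ω) * g⁻¹ ∈ R'),
      φ ⟨g * x * g⁻¹, hx⟩ = t * φ x * t⁻¹) →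
    ∃ ψ, Mem M ψ ∧ ∀ (x : R') (hx : (x : Ω) ∈ M), ψ ⟨x, hx⟩ = φ x

namespace TFamily

variable (H : TFamily F T)

theorem range_le (hT : F.StronglyClosed T) {R : Subgroup Ω} {φ : R →* Ω} (hR : TCentric F T R)
    (hφ : H.Mem R φ) (x : R) : φ x ∈ T :=
  hT.2 R hR.le φ (H.mem hR hφ) x

/-- The automorphisms of `T` whose restriction to `R` lies in the family. -/
def stab (hT : F.StronglyClosed T) (R : Subgroup Ω) : Subgroup (MulAut T) where
  carrier := {γ | γ ∈ F.autGroup T ∧ ∀ hR : TCentric F T R, H.Mem R (resT γ hR.le)}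
  one_mem' := ⟨one_mem _, fun hR => by
    convert H.conj hR 1 (one_mem _) using 1
    refine MonoidHom.ext fun x => ?_
    show (x : Ω) = 1 * x * 1⁻¹
    simp⟩
  mul_mem' := fun {a b} ha hb => by
    refine ⟨mul_mem ha.1 hb.1, fun hR => ?_⟩
    have hR₁ := hR.resT_range hT ha.1
    have hb' := H.transport hR hR₁ (hb.2 hR) a ha.1 (resT_range_le _ _) (inv_resT_mem a hR.le)
      (resT_apply_mem b hR.le)
    refine H.comp hR hR₁ (ha.2 hR) hb' (fun x => ⟨x, rfl⟩) _ fun x => ?_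
    rw [topConj_apply, resT_apply, MulAut.mul_apply]
    congr 2
    refine Subtype.ext ?_
    show _ = resT b hR.le _
    rw [resT_apply]
    congr 2
    refine Subtype.ext ?_
    exact (resT_inv_apply a hR.le rfl).symm
  inv_mem' := fun {a} ha => by
    refine ⟨inv_mem ha.1, fun hR => ?_⟩
    obtain ⟨ψ, hψ, hψv⟩ := H.inv hR (ha.2 hR)
    have hR₁ := hR.resT_range hT ha.1
    have hψ' : ∀ y, ψ y = ((a⁻¹ (Subgroup.inclusion (resT_range_le a hR.le) y) : T) : Ω) := by
      rintro ⟨_, x, rfl⟩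
      exact (hψv x).trans (resT_inv_apply a hR.le rfl).symm
    have h1 : ∀ y : R, (((a⁻¹)⁻¹ (Subgroup.inclusion hR.le y) : T) : Ω) ∈ (resT a hR.le).range :=
      fun y => by rw [inv_inv]; exact ⟨y, rfl⟩
    have h2 : ∀ y, ψ y ∈ T := fun y => (hψ' y) ▸ SetLike.coe_mem _
    convert H.transport hR₁ hR hψ a⁻¹ (inv_mem ha.1) hR.le h1 h2 using 1
    refine MonoidHom.ext fun y => ?_
    rw [topConj_apply, resT_apply]
    congr 2
    refine Subtype.ext ?_
    show _ = ψ _
    rw [hψ']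
    have h : Subgroup.inclusion (resT_range_le a hR.le) ⟨_, h1 y⟩ =
        a (Subgroup.inclusion hR.le y) := Subtype.ext (by simp)
    rw [h, MulAut.inv_apply_self]

variable {H}

/-- Transport of the stabilizers. -/
theorem stab_conj {hT : F.StronglyClosed T} {R R' : Subgroup Ω} {γ α : MulAut T}
    (hR : TCentric F T R) (hγ : γ ∈ H.stab hT R) (hα : α ∈ F.autGroup T)
    (h1 : ∀ (y : T), (y : Ω) ∈ R' → ((α⁻¹ y : T) : Ω) ∈ R) :
    α * γ * α⁻¹ ∈ H.stab hT R' := by
  refine ⟨mul_mem (mul_mem hα hγ.1) (inv_mem hα), fun hR' => ?_⟩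
  convert H.transport hR hR' (hγ.2 hR) α hα hR'.le (fun y => h1 _ y.2)
    (resT_apply_mem γ hR.le) using 1
  refine MonoidHom.ext fun y => ?_
  rw [topConj_apply, resT_apply]
  rfl

/-- Restriction to a conjugate in the family. -/
theorem stab_move {hT : F.StronglyClosed T} {R : Subgroup Ω} {φ : R →* Ω} {γ : MulAut T}
    (hR : TCentric F T R) (hφ : H.Mem R φ) (hγ : γ ∈ H.stab hT R) : γ ∈ H.stab hT φ.range := by
  refine ⟨hγ.1, fun hR₁ => ?_⟩
  obtain ⟨ψ, hψ, hψv⟩ := H.inv hR hφ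
  have hγR := hR.resT_range hT hγ.1
  have hφ' := H.transport hR hγR hφ γ hγ.1 (resT_range_le _ _) (inv_resT_mem γ hR.le)
    (H.range_le hT hR hφ)
  have hψR : ∀ y, ψ y ∈ R := by
    rintro ⟨_, x, rfl⟩
    rw [hψv]
    exact x.2
  refine H.comp hR₁ hγR
    (H.comp hR₁ hR hψ (hγ.2 hR) hψR ((resT γ hR.le).comp (ψ.codRestrict R hψR)) fun _ => rfl) hφ'
    (fun y => ⟨ψ.codRestrict R hψR y, rfl⟩) _ ?_
  rintro ⟨_, x, rfl⟩
  rw [topConj_apply, resT_apply]
  congr 2
  refine Subtype.ext ?_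
  show φ x = φ _
  congr 1
  refine Subtype.ext ?_
  exact ((resT_inv_apply γ hR.le rfl).trans (hψv x)).symm

end TFamily

/-- An automorphism of `N_T(R)` fixing a fully normalized `R` centric in `T` is induced by
`N_S(R)`. -/
theorem fix_autGroup_le [Fact p.Prime] [Finite S] (hS : IsPGroup p S) (hF : F.IsSaturated p)
    (hT : F.StronglyClosed T) {R : Subgroup Ω} (hR : TCentric F T R)
    (hRn : F.IsFullyNormalized R) {N : Subgroup Ω} (hNdef : N = normalizerIn T R)
    {ε : MulAut N} (hε : ε ∈ F.autGroup N)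
    (hfix : ∀ x : N, (x : Ω) ∈ R → ε x = x) :
    ε ∈ autInducedBy (normalizerIn S R) N := by
  classical
  have hRS := hRn.1
  have hRN : R ≤ N := hNdef ▸ le_normalizerIn hR.le
  have hmN : ∀ {x : Ω}, x ∈ N ↔ x ∈ T ∧ x ∈ Subgroup.normalizer (R : Set Ω) := fun {x} => by
    rw [hNdef]; exact mem_normalizerIn
  have hNS : N ≤ S := fun x hx => hT.1 (hmN.1 hx).1
  have hNM : N ≤ normalizerIn S R := fun x hx => ⟨hNS hx, (hmN.1 hx).2⟩
  have hnorm : normalizerIn S R ≤ Subgroup.normalizer (N : Set Ω) := by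
    rw [Subgroup.le_normalizer_iff]
    intro s hs x hx
    exact hmN.2 ⟨hT.2 T le_rfl _ (F.conj_mem hT.1 hs.1) ⟨x, (hmN.1 hx).1⟩,
      Subgroup.mul_mem _ (Subgroup.mul_mem _ hs.2 (hmN.1 hx).2) (Subgroup.inv_mem _ hs.2)⟩
  have hNsys := normSystem_isNormalizerSystem F R hRS
  set NS := normSystem F R hRS with hNSdef
  have hNSs : NS.IsSaturated p := normalizerSystem_saturated hS hF hRn hNsys
  have := finite_le (normalizerIn_le (S := S) R)
  have hMp : IsPGroup p (normalizerIn S R) := hS.to_le (normalizerIn_le R)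
  have hNn : NS.IsFullyNormalized N := by
    have := finite_le ((normalizerIn_le (S := normalizerIn S R) N).trans (normalizerIn_le R))
    refine ⟨hNM, fun Q _ => Subgroup.card_le_of_le ?_⟩
    exact fun x hx => ⟨hx.1, hnorm hx.1⟩
  have hsyl := (IsSaturated.fullyAutomized hMp hNSs hNn).2
  have := finite_mulAut_of_le (S := S) hNS
  have := finite_le hNS
  -- membership in the normalizer system
  have hRmem : ∀ β ∈ NS.autGroup N, ∀ x : N, (x : Ω) ∈ R → ((β x : N) : Ω) ∈ R := by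
    intro β hβ x hx
    have h1 := (mem_autGroup_iff hNM).1 hβ
    rw [hNsys N] at h1
    obtain ⟨-, -, -, ψ, -, hag, hψR⟩ := h1
    show (N.subtype.comp β.toMonoidHom) x ∈ R
    rw [← hag]
    exact hψR.le ⟨_, hx, rfl⟩
  let K : Subgroup (MulAut N) :=
    { carrier := {β | β ∈ NS.autGroup N ∧ ∀ x : N, (x : Ω) ∈ R → β x = x}
      one_mem' := ⟨one_mem _, fun _ _ => rfl⟩
      mul_mem' := fun {a b} ha hb => ⟨mul_mem ha.1 hb.1, fun x hx => by
        rw [MulAut.mul_apply, hb.2 x hx, ha.2 x hx]⟩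
      inv_mem' := fun {a} ha => ⟨inv_mem ha.1, fun x hx => by
        conv_lhs => rw [← ha.2 x hx]
        exact MulAut.inv_apply_self N a x⟩ }
  have hKN : K ≤ NS.autGroup N := fun β hβ => hβ.1
  have hKp : IsPGroup p K := by
    intro β
    obtain ⟨n, hn⟩ := IsPGroup.iff_card.1 ((hS.to_le hNS) :)
    refine ⟨n, Subtype.ext (MulEquiv.ext fun x => ?_)⟩
    have hd : (((x⁻¹ * (β : MulAut N) x : N)) : Ω) ∈ R := by
      refine hR.2 R (isConj_refl hRS) (mem_centralizerIn.2 ⟨(hmN.1 (SetLike.coe_mem _)).1,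
        fun r hr => ?_⟩)
      have h1 : x * ⟨r, hRN hr⟩ * x⁻¹ =
          (β : MulAut N) x * ⟨r, hRN hr⟩ * ((β : MulAut N) x)⁻¹ := by
        have h := β.2.2 (x * ⟨r, hRN hr⟩ * x⁻¹) (conj_mem_of_mem_normalizer (hmN.1 x.2).2 hr)
        rw [map_mul, map_mul, map_inv, β.2.2 ⟨r, hRN hr⟩ hr] at h
        exact h.symm
      have h3 : (⟨r, hRN hr⟩ : N) * (x⁻¹ * (β : MulAut N) x) =
          x⁻¹ * (β : MulAut N) x * ⟨r, hRN hr⟩ := by
        calc (⟨r, hRN hr⟩ : N) * (x⁻¹ * (β : MulAut N) x)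
            = x⁻¹ * (x * ⟨r, hRN hr⟩ * x⁻¹) * (β : MulAut N) x := by group
          _ = x⁻¹ * (β : MulAut N) x * ⟨r, hRN hr⟩ := by rw [h1]; group
      exact congrArg Subtype.val h3
    have h1 := pow_shift (β : MulAut N) (mul_inv_cancel_left x _).symm (β.2.2 _ hd) (p ^ n)
    rw [← hn, pow_card_eq_one', mul_one, hn] at h1
    rw [SubgroupClass.coe_pow, h1]
    rfl
  have hεK : ε ∈ K := by
    have hle : N ⊔ R ≤ N := sup_le le_rfl hRN
    refine ⟨(mem_autGroup_iff hNM).2 ?_, hfix⟩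
    rw [hNsys N]
    refine ⟨(mem_autGroup_iff hNS).1 hε, hNM, fun x => hNM (ε x).2,
      (N.subtype.comp ε.toMonoidHom).comp (Subgroup.inclusion hle),
      restrict_mem ((mem_autGroup_iff hNS).1 hε) hle, fun x => rfl, ?_⟩
    ext y
    constructor
    · rintro ⟨z, hz, rfl⟩
      show ((ε (Subgroup.inclusion hle z) : N) : Ω) ∈ R
      rw [hfix (Subgroup.inclusion hle z) (show (z : Ω) ∈ R from hz)]
      exact hz
    · intro hy
      refine ⟨⟨y, Subgroup.mem_sup_right hy⟩, hy, ?_⟩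
      show ((ε ⟨y, hRN hy⟩ : N) : Ω) = y
      rw [hfix _ hy]
  obtain ⟨k, hk, hkc⟩ := IsSylowIn.exists_conj_mem hsyl hKN hKp
  have h1 : k⁻¹ * ε * k ∈ K := by
    refine ⟨mul_mem (mul_mem (inv_mem hk) hεK.1) hk, fun x hx => ?_⟩
    rw [MulAut.mul_apply, MulAut.mul_apply, hfix _ (hRmem k hk x hx), MulAut.inv_apply_self]
  have := hkc _ h1
  simpa [mul_assoc] using this

namespace TFamily

variable {H : TFamily F T} [Fact p.Prime] [Finite S]

/-- An element of the stabilizer of a centric subgroup has a power of `p`-power exponent in the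
stabilizer of `T`. -/
theorem pow_mem_stab_top (hS : IsPGroup p S) (hF : F.IsSaturated p) (hT : F.StronglyClosed T) :
    ∀ {R : Subgroup Ω}, TCentric F T R → ∀ {γ : MulAut T}, γ ∈ H.stab hT R →
      ∃ k : ℕ, γ ^ p ^ k ∈ H.stab hT T := by
  suffices h : ∀ (n : ℕ) (R : Subgroup Ω), Nat.card T - Nat.card R ≤ n → TCentric F T R →
      ∀ γ ∈ H.stab hT R, ∃ k : ℕ, γ ^ p ^ k ∈ H.stab hT T from
    fun {_} hR {_} hγ => h _ _ le_rfl hR _ hγ
  have := finite_le hT.1
  intro n
  induction n with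
  | zero =>
      intro R hn hR γ hγ
      have hRT : R = T := Subgroup.eq_of_le_of_card_ge hR.le (by omega)
      refine ⟨0, ?_⟩
      rw [pow_zero, pow_one]
      exact Eq.subst (motive := fun A => γ ∈ H.stab hT A) hRT hγ
  | succ n ih =>
      intro R hn hR γ hγ
      rcases eq_or_lt_of_le hR.le with hRT | hRT
      · refine ⟨0, ?_⟩
        rw [pow_zero, pow_one]
        exact Eq.subst (motive := fun A => γ ∈ H.stab hT A) hRT hγ
      obtain ⟨Q, hRQ, hQn⟩ := exists_fullyNormalized (F := F) (hR.le.trans hT.1)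
      obtain ⟨f, hf, hfQ⟩ := hRQ
      obtain ⟨α, hα, φ, hφ, hfv⟩ := H.frattini hR hf
      have hQ : TCentric F T Q := hR.conj hT ⟨f, hf, hfQ⟩
      have hγ₁ : γ ∈ H.stab hT φ.range := stab_move hR hφ hγ
      have hR₁ : TCentric F T φ.range := hR.conj hT ⟨φ, H.mem hR hφ, rfl⟩
      have hγQ : α * γ * α⁻¹ ∈ H.stab hT Q := by
        refine stab_conj hR₁ hγ₁ hα fun y hy => ?_
        rw [← hfQ] at hy
        obtain ⟨x, hx⟩ := hy
        refine ⟨x, ?_⟩
        have h2 := hfv x (H.range_le hT hR hφ x)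
        rw [hx] at h2
        rw [Subtype.ext h2 (a1 := y), MulAut.inv_apply_self]
      set δ := α * γ * α⁻¹ with hδ
      set N := normalizerIn T Q with hN
      have hQN : Q ≤ N := le_normalizerIn hQ.le
      have hNT : N ≤ T := normalizerIn_le Q
      have hNc : TCentric F T N := hQ.mono hQN hNT
      have hcQR : Nat.card Q = Nat.card R := (isConj_card ⟨f, hf, hfQ⟩).symm
      have hQT : Q < T := by
        refine lt_of_le_of_ne hQ.le fun h => hRT.ne ?_
        exact Subgroup.eq_of_le_of_card_ge hR.le (by rw [← hcQR, h])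
      have hlt : Q < N := lt_normalizerIn (hS.to_le hT.1) hQT
      have := finite_le (hNT.trans hT.1)
      have hcard : Nat.card Q < Nat.card N :=
        lt_of_le_of_ne (Subgroup.card_le_of_le hlt.le) fun h =>
          hlt.ne (Subgroup.eq_of_le_of_card_ge hlt.le h.ge)
      -- the inverse on the image
      have hδQ := hγQ.2 hQ
      set Q' := (resT δ hQ.le).range with hQ'
      have hQ'c : TCentric F T Q' := hQ.resT_range hT hγQ.1
      obtain ⟨ψ, hψ, hψv⟩ := H.inv hQ hδQ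
      set M := (resT δ hNT).range with hM
      have hMT : M ≤ T := resT_range_le _ _
      have hQ'M : Q' ≤ M := by
        rintro _ ⟨x, rfl⟩
        exact ⟨Subgroup.inclusion hQN x, rfl⟩
      have hMc : TCentric F T M := hNc.resT_range hT hγQ.1
      have hδN : ∀ (g : N) (x : Q), resT δ hNT g * resT δ hQ.le x * (resT δ hNT g)⁻¹ =
          resT δ hQ.le ⟨(g : Ω) * x * (g : Ω)⁻¹, conj_mem_of_mem_normalizer g.2.2 x.2⟩ := by
        intro g x
        simp only [resT_apply]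
        rw [← Subgroup.coe_mul, ← Subgroup.coe_inv, ← Subgroup.coe_mul, ← map_inv, ← map_mul,
          ← map_mul]
        congr 2
      have hψrange : ψ.range = Q := by
        ext y
        constructor
        · rintro ⟨⟨_, x, rfl⟩, rfl⟩
          rw [hψv]
          exact x.2
        · intro hy
          exact ⟨_, hψv ⟨y, hy⟩⟩
      have hMN : M ≤ normalizerIn T Q' := by
        rintro _ ⟨g, rfl⟩
        refine ⟨SetLike.coe_mem _, ?_⟩
        have key : ∀ g : N, ∀ y ∈ Q', resT δ hNT g * y * (resT δ hNT g)⁻¹ ∈ Q' := by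
          rintro g _ ⟨x, rfl⟩
          rw [hδN]
          exact ⟨_, rfl⟩
        refine Subgroup.mem_normalizer_iff.2 fun y => ⟨key g y, fun hy => ?_⟩
        have := key g⁻¹ _ hy
        simpa [mul_assoc] using this
      obtain ⟨ξ, hξ, hξv⟩ := H.extend hQ hQn hQ'c hψ hψrange hQ'M hMN (by
        rintro _ ⟨g, rfl⟩
        refine ⟨g, hNT g.2, ?_⟩
        rintro ⟨_, x, rfl⟩ hx
        rw [hψv]
        simp only [hδN g x]
        exact hψv _)
      have hξF := H.mem hMc hξ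
      -- the automorphism of `N` it gives
      set ε₀ : N →* Ω := ξ.comp ((resT δ hNT).codRestrict M fun x => ⟨x, rfl⟩) with hε₀
      have hε₀F : ε₀ ∈ F.Hom N :=
        comp_mem' (resT_mem hγQ.1 hT.1 hNT) hξF (fun x => ⟨x, rfl⟩) fun _ => rfl
      have hε₀Q : ∀ x : N, (x : Ω) ∈ Q → ε₀ x = x := fun x hx => by
        have h1 : (resT δ hNT x) ∈ Q' := ⟨⟨x, hx⟩, rfl⟩
        refine (hξv ⟨_, h1⟩ ⟨x, rfl⟩).trans ?_
        exact hψv ⟨(x : Ω), hx⟩
      have hε₀N : ε₀.range ≤ N := by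
        rintro _ ⟨g, rfl⟩
        refine ⟨H.range_le hT hMc hξ _, ?_⟩
        have hg := img_mem_normalizer (ψ := ε₀) hQN g g.2.2
        have himg : img ε₀ Q = Q := by
          ext y
          constructor
          · rintro ⟨z, hz, rfl⟩
            rw [hε₀Q z hz]
            exact hz
          · exact fun hy => ⟨⟨y, hQN hy⟩, hy, hε₀Q _ hy⟩
        rwa [himg] at hg
      have hε₀r : ε₀.range = N := Subgroup.eq_of_le_of_card_ge hε₀N
        (Nat.card_congr (MonoidHom.ofInjective (F.injective_of_mem hε₀F)).toEquiv).le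
      obtain ⟨ε, hε, hεv⟩ := exists_iso hε₀F hε₀r
      have hεaut : (ε : MulAut N) ∈ F.autGroup N :=
        (mem_autGroup_iff_isoIn (hNT.trans hT.1)).2 hε
      obtain ⟨s, hs, hsv⟩ := mem_autInducedBy_iff.1 (fix_autGroup_le hS hF hT hQ hQn hN hεaut
        fun x hx => Subtype.ext ((hεv x).trans (hε₀Q x hx)))
      -- conjugation by `s` on `T`
      have hsT : s ∈ Subgroup.normalizer (T : Set Ω) :=
        (WeaklyClosed.normal_in (StronglyClosed.weaklyClosed hT)) hs.1
      set τ : MulAut T := T.normalizerMonoidHom ⟨s, hsT⟩ with hτ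
      have hτS : τ ∈ autInducedBy S T := mem_autInducedBy_iff.2 ⟨s, hs.1, fun _ => rfl⟩
      have hτF : τ ∈ F.autGroup T := autInducedBy_le_autGroup hT.1 hτS
      obtain ⟨j, hj⟩ : ∃ j : ℕ, τ ^ p ^ j = 1 := by
        obtain ⟨j, hj⟩ := isPGroup_autInducedBy hS (⟨τ, hτS⟩ : autInducedBy S T)
        exact ⟨j, congrArg Subtype.val hj⟩
      have hτv : ∀ t : T, ((τ t : T) : Ω) = s * t * s⁻¹ := fun t => rfl
      have hτN : ∀ g : T, (g : Ω) ∈ N → ((τ g : T) : Ω) ∈ N := fun g hg => by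
        have hg' : (g : Ω) = ((⟨g, hg⟩ : N) : Ω) := rfl
        rw [hτv, hg', ← hsv]
        exact SetLike.coe_mem _
      -- the new element of the stabilizer of `N`
      have hμ : τ * δ⁻¹ ∈ H.stab hT M := by
        refine ⟨mul_mem hτF (inv_mem hγQ.1), fun hMc' => ?_⟩
        convert hξ using 1
        refine MonoidHom.ext ?_
        rintro ⟨_, g, rfl⟩
        rw [resT_apply, MulAut.mul_apply, hτv]
        refine (congrArg (fun z => s * z * s⁻¹) (resT_inv_apply δ hNT (x := g) rfl)).trans ?_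
        show s * (g : Ω) * s⁻¹ = ε₀ g
        rw [← hεv, ← hsv]
      have hμN : δ⁻¹ * τ ∈ H.stab hT N := by
        have := stab_conj (R' := N) hMc hμ (inv_mem hγQ.1) fun y hy => by
          rw [inv_inv]
          exact ⟨⟨y, hy⟩, rfl⟩
        simpa [mul_assoc] using this
      -- powers
      have hpow : ∀ m : ℕ, ∃ y ∈ H.stab hT N, δ ^ m = τ ^ m * y := by
        intro m
        induction m with
        | zero => exact ⟨1, one_mem _, by simp⟩
        | succ m ihm =>
            obtain ⟨y, hy, hym⟩ := ihm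
            refine ⟨τ⁻¹ * y * τ * (δ⁻¹ * τ)⁻¹, mul_mem ?_ (inv_mem hμN), ?_⟩
            · have := stab_conj (R' := N) hNc hy (inv_mem hτF) fun g hg => by
                rw [inv_inv]
                exact hτN g hg
              simpa using this
            · rw [pow_succ, pow_succ, hym]
              group
      obtain ⟨y, hy, hyv⟩ := hpow (p ^ j)
      rw [hj, one_mul] at hyv
      have hδj : δ ^ p ^ j ∈ H.stab hT N := hyv ▸ hy
      obtain ⟨k, hk⟩ := ih N (by omega) hNc _ hδj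
      refine ⟨j + k, ?_⟩
      rw [← pow_mul, ← pow_add] at hk
      have h3 := stab_conj (R' := T) ⟨le_rfl, fun Q' hQ' => by
        obtain ⟨φ', hφ', rfl⟩ := hQ'
        rw [(StronglyClosed.weaklyClosed hT).2 φ' hφ']
        exact centralizerIn_le T⟩ hk (inv_mem hα) (fun y hy => SetLike.coe_mem _)
      rw [hδ, conj_pow] at h3
      simpa [mul_assoc] using h3

/-- The automorphisms of `T` of a weakly normal subsystem lying in the family on a centric
subgroup lie in it on `T`. -/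
theorem mem_stab_top (hS : IsPGroup p S) (hF : F.IsSaturated p) {E : FusionSystem T}
    (hE : E.IsSaturated p) (hEi : E.IsInvariantIn F) {R : Subgroup Ω} (hR : TCentric F T R)
    {γ : MulAut T} (hγE : γ ∈ E.autGroup T) (hγ : γ ∈ H.stab hEi.2.1 R) :
    γ ∈ H.stab hEi.2.1 T := by
  set hT : F.StronglyClosed T := hEi.2.1
  have := finite_le hT.1
  have := finite_mulAut_of_le (S := S) hT.1
  obtain ⟨k, hk⟩ := pow_mem_stab_top hS hF hT hR hγ
  have hTfn : E.IsFullyNormalized T := fullyNormalized_of_ambient hS hF hT hEi.1 ⟨hT.1,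
    fun Q hQ => by
      obtain ⟨φ, hφ, rfl⟩ := hQ
      rw [(StronglyClosed.weaklyClosed hT).2 φ hφ]⟩ le_rfl
  have hsyl := (IsSaturated.fullyAutomized (hS.to_le hT.1) hE hTfn).2
  have hTc : TCentric F T T := ⟨le_rfl, fun Q' hQ' => by
    obtain ⟨φ', hφ', rfl⟩ := hQ'
    rw [(StronglyClosed.weaklyClosed hT).2 φ' hφ']
    exact centralizerIn_le T⟩
  have hEF : ∀ a ∈ E.autGroup T, a ∈ F.autGroup T := fun a ha =>
    (mem_autGroup_iff hT.1).2 (hEi.1 T ((mem_autGroup_iff le_rfl).1 ha))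
  refine (mem_of_pow_mem_sylow (K := E.autGroup T ⊓ H.stab hT T) hsyl ?_ ?_ hγE
    (Subgroup.mem_inf.2 ⟨Subgroup.pow_mem _ hγE _, hk⟩)).2
  · rintro a ha x ⟨hxE, hxs⟩
    exact ⟨Subgroup.mul_mem _ (Subgroup.mul_mem _ ha hxE) (Subgroup.inv_mem _ ha),
      stab_conj hTc hxs (hEF a ha) fun y _ => SetLike.coe_mem _⟩
  · intro c hc
    refine ⟨autInducedBy_le_autGroup le_rfl hc, hEF _ (autInducedBy_le_autGroup le_rfl hc),
      fun hTc' => ?_⟩
    obtain ⟨t, ht, htv⟩ := mem_autInducedBy_iff.1 hc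
    convert H.conj hTc' t ht using 1
    exact MonoidHom.ext fun x => htv x

end TFamily

end CfsgLib.Fusion
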