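import Cfsg.Agent.Lib.Fusion.Factor
import Cfsg.Agent.Lib.Fusion.WeakNormalBasic
import Cfsg.Agent.Lib.Fusion.TFamily
import Cfsg.Agent.Lib.Fusion.NormalCentralizer
import Cfsg.Prelude.Def_FusionComponents

/-!
# Preimages of a normal subsystem of a central quotient: the covering maps
-/

set_option autoImplicit false
set_option linter.unusedSectionVars false

namespace CfsgLib.Fusion.CentralLift

open Cfsg Cfsg.FusionSystem CfsgLib.Fusion

variable {Ω Ω' : Type*} [Group Ω] [Group Ω'] {S : Subgroup Ω} {S' T' : Subgroup Ω'}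

/-- The central quotient data: `Eb` is normal in the factor system `Fb` of `F` by the central `Z`. -/
structure Setup (p : ℕ) (F : FusionSystem S) (Z : Subgroup Ω) (θ : S →* Ω') (Fb : FusionSystem S')
    (Eb : FusionSystem T') : Prop where
  pgroup : IsPGroup p S
  sat : F.IsSaturated p
  cen : F.IsCentral Z
  fac : F.IsFactorSystem Z θ Fb
  normal : Eb.IsNormalIn Fb p

variable {F : FusionSystem S} {θ : S →* Ω'} {Fb : FusionSystem S'} {Eb : FusionSystem T'}
  {Z : Subgroup Ω} {p : ℕ}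

/-- The projection of a subgroup of `S` onto its image. -/
def pr (θ : S →* Ω') {P : Subgroup Ω} (hP : P ≤ S) : P →* imageAlong θ P :=
  (θ.comp (Subgroup.inclusion hP)).codRestrict _ fun x => ⟨Subgroup.inclusion hP x, x.2, rfl⟩

theorem pr_coe {P : Subgroup Ω} (hP : P ≤ S) (x : P) :
    ((pr θ hP x : imageAlong θ P) : Ω') = θ ⟨x, hP x.2⟩ := rfl

theorem pr_surjective {P : Subgroup Ω} (hP : P ≤ S) : Function.Surjective (pr θ hP) := by
  rintro ⟨_, s, hs, rfl⟩
  exact ⟨⟨s, hs⟩, rfl⟩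

/-- The preimage system: the maps between subgroups of the preimage of `T'` inducing maps of `Eb`. -/
def preSystem (F : FusionSystem S) (θ : S →* Ω') (Eb : FusionSystem T') :
    FusionSystem (preimageAlong θ T') where
  Hom P := {φ | P ≤ preimageAlong θ T' ∧ φ ∈ F.Hom P ∧
    ∃ φ' ∈ Eb.Hom (imageAlong θ P), InducedAlong θ φ φ'}
  le_of_mem := by
    rintro P φ ⟨hP, hφ, φ', hφ', hPS, hφS, hm, h⟩
    refine ⟨hP, fun x => ?_⟩
    exact (mem_preimageAlong (x := ⟨φ x, hφS x⟩)).2 (h x ▸ hom_apply_mem hφ' _)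
  injective_of_mem h := F.injective_of_mem h.2.1
  conj_mem := by
    intro P g hP hg
    have hPS : P ≤ S := hP.trans (preimageAlong_le θ T')
    have hgS : g ∈ S := preimageAlong_le θ T' hg
    have hgT : θ ⟨g, hgS⟩ ∈ T' := mem_preimageAlong.1 hg
    refine ⟨hP, F.conj_mem hPS hgS, conjHom _ (θ ⟨g, hgS⟩), Eb.conj_mem ?_ hgT, hPS,
      fun x => S.mul_mem (S.mul_mem hgS (hPS x.2)) (S.inv_mem hgS),
      fun x => (pr θ hPS x).2, fun x => ?_⟩
    · rintro _ ⟨s, hs, rfl⟩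
      exact mem_preimageAlong.1 (hP hs)
    · show θ ⟨g, hgS⟩ * θ ⟨x, hPS x.2⟩ * (θ ⟨g, hgS⟩)⁻¹ = θ _
      rw [← map_inv, ← map_mul, ← map_mul]
      rfl
  comp_mem := by
    rintro P Q φ ψ ⟨hP, hφ, φ', hφ', hPS, hφS, hm, hv⟩ ⟨hQ, hψ, ψ', hψ', hQS, hψS, hm', hv'⟩ h
    have hmem : ∀ y, φ' y ∈ imageAlong θ Q := fun y => by
      obtain ⟨x, rfl⟩ := pr_surjective hPS y
      exact (hv x).symm ▸ hm' ⟨φ x, h x⟩
    refine ⟨hP, F.comp_mem hφ hψ h, _, Eb.comp_mem hφ' hψ' hmem, hPS, fun x => hψS _, hm,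
      fun x => ?_⟩
    exact (congrArg ψ' (Subtype.ext (hv x))).trans (hv' ⟨φ x, h x⟩)
  inv_mem := by
    rintro P φ ⟨hP, hφ, φ', hφ', hPS, hφS, hm, hv⟩
    obtain ⟨ψ, hψ, hψv⟩ := F.inv_mem hφ
    obtain ⟨ψ', hψ', hψv'⟩ := Eb.inv_mem hφ'
    have hrS : φ.range ≤ S := by rintro _ ⟨x, rfl⟩; exact hφS x
    have hle : imageAlong θ φ.range ≤ φ'.range := by
      intro y hy
      obtain ⟨z, hz⟩ := pr_surjective hrS ⟨y, hy⟩
      obtain ⟨x, hx⟩ := z.2
      refine ⟨⟨_, hm x⟩, (hv x).trans (Eq.trans ?_ (congrArg Subtype.val hz))⟩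
      exact congrArg θ (Subtype.ext hx)
    refine ⟨ψ, ⟨?_, hψ, _, restrict_mem hψ' hle, hrS, fun y => ?_, fun y => (pr θ hrS y).2,
      fun y => ?_⟩, hψv⟩
    · rintro _ ⟨x, rfl⟩
      exact (mem_preimageAlong (x := ⟨φ x, hφS x⟩)).2 (hv x ▸ hom_apply_mem hφ' _)
    · exact hom_apply_mem hψ y
    · obtain ⟨_, x, rfl⟩ := y
      show ψ' ⟨θ ⟨φ x, _⟩, _⟩ = θ ⟨ψ ⟨φ x, _⟩, _⟩
      have e1 : θ ⟨ψ ⟨φ x, ⟨x, rfl⟩⟩, hom_apply_mem hψ _⟩ = θ ⟨x, hPS x.2⟩ :=
        congrArg θ (Subtype.ext (hψv x))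
      rw [e1]
      exact (congrArg ψ' (Subtype.ext (hv x).symm)).trans (hψv' ⟨_, hm x⟩)

/-- The automorphisms trivial modulo `Z`. -/
def kerAut (F : FusionSystem S) (Z P : Subgroup Ω) (hfix : ∀ a ∈ F.autGroup P, ∀ x : P,
    (x : Ω) ∈ Z → a x = x) : Subgroup (MulAut P) where
  carrier := {a | a ∈ F.autGroup P ∧ ∀ x : P, ((x⁻¹ * a x : P) : Ω) ∈ Z}
  one_mem' := ⟨one_mem _, fun x => by simp⟩
  mul_mem' := by
    rintro a b ⟨ha, ha'⟩ ⟨hb, hb'⟩
    refine ⟨mul_mem ha hb, fun x => ?_⟩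
    have e : x⁻¹ * (a * b) x = x⁻¹ * a x * a (x⁻¹ * b x) := by
      rw [MulAut.mul_apply, map_mul, map_inv]; group
    rw [e, hfix a ha _ (hb' x), Subgroup.coe_mul]
    exact Z.mul_mem (ha' x) (hb' x)
  inv_mem' := by
    rintro a ⟨ha, ha'⟩
    refine ⟨inv_mem ha, fun x => ?_⟩
    have h := Z.inv_mem (ha' (a⁻¹ x))
    rw [MulAut.apply_inv_self, ← Subgroup.coe_inv, mul_inv_rev, inv_inv] at h
    exact h

/-- An automorphism of `P` is induced, after transport in `F`, by an element of `T`. -/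
def Transported (F : FusionSystem S) (T : Subgroup Ω) {P : Subgroup Ω} (a : MulAut P) : Prop :=
  ∃ (R : Subgroup Ω) (e : R ≃* P), IsoIn F e ∧ R ≤ T ∧ ∃ t ∈ T, ∃ c : MulAut R,
    (∀ x : R, ((c x : R) : Ω) = t * (x : Ω) * t⁻¹) ∧ MulAut.congr e c = a

variable (F θ Eb p) in
/-- The canonical automorphisms: generated by the covering ones of order prime to `p` and the ones
induced by the preimage of `T'` after transport. -/
def canAut (P : Subgroup Ω) : Subgroup (MulAut P) :=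
  Subgroup.closure {a | a ∈ (preSystem F θ Eb).autGroup P ∧
    ((orderOf a).Coprime p ∨ Transported F (preimageAlong θ T') a)}

theorem canAut_le (P : Subgroup Ω) : canAut F θ Eb p P ≤ (preSystem F θ Eb).autGroup P :=
  (Subgroup.closure_le _).2 fun _ h => h.1

theorem preSystem_le : ∀ P : Subgroup Ω, (preSystem F θ Eb).Hom P ⊆ F.Hom P := fun _ _ h => h.2.1

theorem preAut_le {P : Subgroup Ω} (hPT : P ≤ preimageAlong θ T') :
    (preSystem F θ Eb).autGroup P ≤ F.autGroup P := fun _ ha =>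
  (mem_autGroup_iff (hPT.trans (preimageAlong_le θ T'))).2
    (preSystem_le _ ((mem_autGroup_iff hPT).1 ha))

namespace Setup

variable [Fact p.Prime] [Finite S] (h : Setup p F Z θ Fb Eb)
include h

theorem zle : Z ≤ S := h.cen.1

theorem ker (s : S) : θ s = 1 ↔ (s : Ω) ∈ Z := h.fac.2.1 s

theorem range : θ.range = S' := h.fac.2.2.1

theorem zclosed : F.StronglyClosed Z := IsNormal.stronglyClosed (isCentral_isNormal h.cen)

theorem bsat : Fb.IsSaturated p := factor_saturated h.pgroup h.sat h.zclosed h.fac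

theorem esat : Eb.IsSaturated p := h.normal.1.1

theorem einv : Eb.IsInvariantIn Fb := h.normal.1.2.2

theorem tclosed' : Fb.StronglyClosed T' := h.einv.2.1

theorem bgroup : IsPGroup p S' := h.range ▸ h.pgroup.of_surjective θ.rangeRestrict
  θ.rangeRestrict_surjective

theorem bfinite : Finite S' :=
  h.range ▸ Finite.of_surjective θ.rangeRestrict θ.rangeRestrict_surjective

theorem tgroup' : IsPGroup p T' := h.bgroup.to_le h.tclosed'.1

theorem tfinite' : Finite T' := @finite_le _ _ S' h.bfinite _ h.tclosed'.1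

theorem mor : F.IsMorphism Fb θ := (factor_isSurjectiveMorphism h.pgroup h.sat h.zclosed h.fac).1

theorem image_le {P : Subgroup Ω} : imageAlong θ P ≤ S' :=
  (Subgroup.map_le_range _ _).trans h.range.le

theorem image_le' {P : Subgroup Ω} (hPT : P ≤ preimageAlong θ T') : imageAlong θ P ≤ T' := by
  rintro _ ⟨s, hs, rfl⟩
  exact mem_preimageAlong.1 (hPT hs)

theorem zle' : Z ≤ preimageAlong θ T' := ker_le_preimageAlong h.zle h.ker T'

theorem mem_of_pr {P : Subgroup Ω} (hZP : Z ≤ P) (hPS : P ≤ S) {s : S}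
    (hs : θ s ∈ imageAlong θ P) : (s : Ω) ∈ P := by
  have h1 := (mem_preimageAlong (θ := θ) (P' := imageAlong θ P) (x := s)).2 hs
  rwa [preimageAlong_imageAlong h.zle h.ker hPS, sup_eq_left.2 hZP] at h1

theorem tclosed : F.StronglyClosed (preimageAlong θ T') := by
  refine ⟨preimageAlong_le θ T', fun R hR φ hφ x => ?_⟩
  obtain ⟨φ', hφ', hP, hφS, hm, hv⟩ := h.mor.2 R φ hφ
  refine (mem_preimageAlong (x := ⟨φ x, hφS x⟩)).2 ?_
  rw [← hv x]
  exact h.tclosed'.2 _ (h.image_le' hR) φ' hφ' _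

omit [Finite S] in
theorem fix_hom {P : Subgroup Ω} {φ : P →* Ω} (hφ : φ ∈ F.Hom P) (x : P) (hx : (x : Ω) ∈ Z) :
    φ x = x := by
  obtain ⟨ψ, hψ, hψP, hψZ⟩ := h.cen.2 P φ hφ
  rw [← hψP x]
  exact (congrArg ψ (Subtype.ext rfl)).trans (hψZ ⟨x, hx⟩)

theorem fix {P : Subgroup Ω} : ∀ a ∈ F.autGroup P, ∀ x : P, (x : Ω) ∈ Z → a x = x := by
  intro a ha x hx
  by_cases hP : P ≤ S
  · exact Subtype.ext (h.fix_hom ((mem_autGroup_iff hP).1 ha) x hx)
  · rw [autGroup_eq_bot hP] at ha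
    rw [Subgroup.mem_bot.1 ha]
    rfl

/-- An isomorphism of `F` induces one of the factor system. -/
theorem exists_bar {P Q : Subgroup Ω} {e : P ≃* Q} (he : IsoIn F e) (hPS : P ≤ S) (hQS : Q ≤ S) :
    ∃ e' : imageAlong θ P ≃* imageAlong θ Q, IsoIn Fb e' ∧
      ∀ x : P, e' (pr θ hPS x) = pr θ hQS (e x) := by
  obtain ⟨φ', hφ', hP, hφS, hm, hv⟩ := h.mor.2 P _ he.mem
  have hr : φ'.range = imageAlong θ Q := by
    refine le_antisymm ?_ fun y hy => ?_
    · rintro _ ⟨y, rfl⟩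
      obtain ⟨x, rfl⟩ := pr_surjective hPS y
      exact (hv x).symm ▸ ⟨Subgroup.inclusion hQS (e x), (e x).2, rfl⟩
    · obtain ⟨z, hz⟩ := pr_surjective hQS ⟨y, hy⟩
      refine ⟨pr θ hPS (e.symm z), (hv _).trans (Eq.trans ?_ (congrArg Subtype.val hz))⟩
      exact congrArg θ (Subtype.ext (congrArg Subtype.val (e.apply_symm_apply z) :))
  obtain ⟨e', he', hev⟩ := exists_iso hφ' hr
  refine ⟨e', he', fun x => Subtype.ext ((hev _).trans ((hv x).trans ?_))⟩
  rfl

/-- Membership in the covering automorphisms. -/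
theorem mem_preAut {P : Subgroup Ω} (hPT : P ≤ preimageAlong θ T') {a : MulAut P} :
    a ∈ (preSystem F θ Eb).autGroup P ↔ a ∈ F.autGroup P ∧
      ∃ b ∈ Eb.autGroup (imageAlong θ P), ∀ x : P,
        b (pr θ (hPT.trans (preimageAlong_le θ T')) x) =
          pr θ (hPT.trans (preimageAlong_le θ T')) (a x) := by
  have hPS := hPT.trans (preimageAlong_le θ T')
  constructor
  · intro ha
    obtain ⟨-, hF, φ', hφ', hP, hφS, hm, hv⟩ := (mem_autGroup_iff hPT).1 ha
    have hr : φ'.range = imageAlong θ P := by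
      refine le_antisymm ?_ fun y hy => ?_
      · rintro _ ⟨y, rfl⟩
        obtain ⟨x, rfl⟩ := pr_surjective hPS y
        exact (hv x).symm ▸ ⟨Subgroup.inclusion hPS (a x), (a x).2, rfl⟩
      · obtain ⟨z, hz⟩ := pr_surjective hPS ⟨y, hy⟩
        refine ⟨pr θ hPS (a⁻¹ z), (hv _).trans (Eq.trans ?_ (congrArg Subtype.val hz))⟩
        exact congrArg θ (Subtype.ext (congrArg Subtype.val (MulAut.apply_inv_self _ a z) :))
    obtain ⟨b, hb, hbv⟩ := exists_iso hφ' hr
    refine ⟨(mem_autGroup_iff hPS).2 hF, b, (mem_autGroup_iff_isoIn (h.image_le' hPT)).2 hb,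
      fun x => Subtype.ext ((hbv _).trans ((hv x).trans ?_))⟩
    rfl
  · rintro ⟨ha, b, hb, hbv⟩
    refine (mem_autGroup_iff hPT).2 ⟨hPT, (mem_autGroup_iff hPS).1 ha, _,
      (mem_autGroup_iff (h.image_le' hPT)).1 hb, hPS, fun x => hPS (a x).2,
      fun x => (pr θ hPS x).2, fun x => ?_⟩
    exact congrArg Subtype.val (hbv x)

/-- `F` permutes the covering automorphism groups. -/
theorem preAut_congr {P Q : Subgroup Ω} (hPT : P ≤ preimageAlong θ T') {e : P ≃* Q}
    (he : IsoIn F e) {a : MulAut P} (ha : a ∈ (preSystem F θ Eb).autGroup P) :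
    MulAut.congr e a ∈ (preSystem F θ Eb).autGroup Q := by
  have hPS := hPT.trans (preimageAlong_le θ T')
  have hQT : Q ≤ preimageAlong θ T' := fun y hy => by
    have h1 := h.tclosed.2 P hPT _ he.mem (e.symm ⟨y, hy⟩)
    rwa [isoHom_apply, MulEquiv.apply_symm_apply] at h1
  have hQS := hQT.trans (preimageAlong_le θ T')
  obtain ⟨haF, b, hb, hbv⟩ := (h.mem_preAut hPT).1 ha
  obtain ⟨e', he', hev⟩ := h.exists_bar he hPS hQS
  refine (h.mem_preAut hQT).2 ⟨he.congr_autGroup.le ⟨a, haF, rfl⟩, MulAut.congr e' b,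
    invariant_congr h.einv (h.image_le' hPT) he' hb, fun x => ?_⟩
  obtain ⟨z, rfl⟩ := e.surjective x
  simp only [MulAut.congr, MulEquiv.coe_mk, Equiv.coe_fn_mk, MulEquiv.trans_apply,
    MulEquiv.symm_apply_apply, ← hev, hbv]

/-- The covering automorphisms are normal. -/
theorem preAut_conj {P : Subgroup Ω} (hPT : P ≤ preimageAlong θ T') {a g : MulAut P}
    (ha : a ∈ (preSystem F θ Eb).autGroup P) (hg : g ∈ F.autGroup P) :
    g * a * g⁻¹ ∈ (preSystem F θ Eb).autGroup P := by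
  have := h.preAut_congr hPT
    ((mem_autGroup_iff_isoIn (hPT.trans (preimageAlong_le θ T'))).1 hg) ha
  rwa [show MulAut.congr g a = g * a * g⁻¹ from MulEquiv.ext fun x => rfl] at this

omit [Fact p.Prime] [Finite S] h in
theorem transported_congr {T P Q : Subgroup Ω} {e : P ≃* Q} (he : IsoIn F e) {a : MulAut P}
    (ha : Transported F T a) : Transported F T (MulAut.congr e a) := by
  obtain ⟨R, f, hf, hR, t, ht, c, hc, rfl⟩ := ha
  exact ⟨R, f.trans e, hf.trans he, hR, t, ht, c, hc, MulEquiv.ext fun x => rfl⟩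

/-- `F` permutes the canonical automorphism groups. -/
theorem canAut_congr {P Q : Subgroup Ω} (hPT : P ≤ preimageAlong θ T') {e : P ≃* Q}
    (he : IsoIn F e) {a : MulAut P} (ha : a ∈ canAut F θ Eb p P) :
    MulAut.congr e a ∈ canAut F θ Eb p Q := by
  have hle : (canAut F θ Eb p P).map (MulAut.congr e).toMonoidHom ≤ canAut F θ Eb p Q := by
    rw [canAut, MonoidHom.map_closure, Subgroup.closure_le]
    rintro _ ⟨x, ⟨hx, hor⟩, rfl⟩
    refine Subgroup.subset_closure ⟨h.preAut_congr hPT he hx, ?_⟩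
    rcases hor with hc | htt
    · left
      show (orderOf (MulAut.congr e x)).Coprime p
      rwa [MulEquiv.orderOf_eq]
    · exact Or.inr (transported_congr he htt)
  exact hle ⟨a, ha, rfl⟩

theorem canAut_conj {P : Subgroup Ω} (hPT : P ≤ preimageAlong θ T') {a g : MulAut P}
    (ha : a ∈ canAut F θ Eb p P) (hg : g ∈ F.autGroup P) :
    g * a * g⁻¹ ∈ canAut F θ Eb p P := by
  have := h.canAut_congr hPT
    ((mem_autGroup_iff_isoIn (hPT.trans (preimageAlong_le θ T'))).1 hg) ha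
  rwa [show MulAut.congr g a = g * a * g⁻¹ from MulEquiv.ext fun x => rfl] at this

/-- The elements of the preimage of `T'` induce canonical automorphisms. -/
theorem autInducedBy_le_canAut {P : Subgroup Ω} (hPT : P ≤ preimageAlong θ T') :
    autInducedBy (preimageAlong θ T') P ≤ canAut F θ Eb p P := by
  intro a ha
  refine Subgroup.subset_closure ⟨autInducedBy_le_autGroup hPT ha, Or.inr ?_⟩
  obtain ⟨t, ht, hv⟩ := mem_autInducedBy_iff.1 ha
  exact ⟨P, MulEquiv.refl P, isoIn_refl (hPT.trans (preimageAlong_le θ T')), hPT, t, ht, a, hv,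
    MulEquiv.ext fun x => rfl⟩

/-- At a fully normalized subgroup a transported automorphism induced by `S` is induced by `T`. -/
theorem transported_induced {P : Subgroup Ω} (hP : F.IsFullyCentralized P) {a : MulAut P}
    (ha : Transported F (preimageAlong θ T') a) (haS : a ∈ autInducedBy S P) :
    a ∈ autInducedBy (preimageAlong θ T') P := by
  obtain ⟨R, e, he, hR, t, ht, c, hc, rfl⟩ := ha
  obtain ⟨s, hs, hsv⟩ := mem_autInducedBy_iff.1 haS
  have hTS := h.tclosed.1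
  have htN : t ∈ Subgroup.normalizer (R : Set Ω) := mem_normalizer_of_conj_eq c hc
  have hval : ∀ (x : R), (e (c x) : Ω) = s * (e x : Ω) * s⁻¹ := fun x => by
    rw [← hsv (e x)]
    show _ = ((e (c (e.symm (e x))) : P) : Ω)
    rw [MulEquiv.symm_apply_apply]
  have hext : Subgroup.zpowers t ⊔ R ≤ extender S R (isoHom e) := by
    refine sup_le (Subgroup.zpowers_le.2 (mem_extender_iff.2 ⟨hTS ht, htN, s, hs, fun x hx => ?_⟩))
      (le_extender (hR.trans hTS) (hom_apply_mem he.mem))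
    rw [isoHom_apply, isoHom_apply]
    exact (congrArg (fun w => ((e w : P) : Ω)) (Subtype.ext (hc x).symm)).trans (hval x)
  obtain ⟨ψ, hψ, hag⟩ := exists_extension (IsSaturated.receptive h.pgroup h.sat hP) he
    (le_sup_right : R ≤ Subgroup.zpowers t ⊔ R) hext
  have htm : t ∈ Subgroup.zpowers t ⊔ R := Subgroup.mem_sup_left (Subgroup.mem_zpowers t)
  refine mem_autInducedBy_iff.2 ⟨ψ ⟨t, htm⟩,
    StronglyClosed.apply_mem h.tclosed hψ ht, fun y => ?_⟩
  obtain ⟨x, rfl⟩ := e.surjective y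
  have e1 : (⟨t, htm⟩ : ↥(Subgroup.zpowers t ⊔ R)) * Subgroup.inclusion le_sup_right x *
      (⟨t, htm⟩ : ↥(Subgroup.zpowers t ⊔ R))⁻¹ = Subgroup.inclusion le_sup_right (c x) :=
    Subtype.ext (hc x).symm
  have e2 := congrArg ψ e1
  rw [map_mul, map_mul, map_inv, hag, hag] at e2
  show ((e (c (e.symm (e x))) : P) : Ω) = _
  rw [MulEquiv.symm_apply_apply]
  exact e2.symm

end Setup

end CfsgLib.Fusion.CentralLift
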