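import Cfsg.Agent.Lib.Fusion.AlperinGen
import Cfsg.Agent.Lib.Fusion.CentricExtend
import Cfsg.Agent.Lib.Fusion.Invariant
import Mathlib.GroupTheory.Sylow

/-!
The system generated by the automorphisms of `p`-power order of the centric radical subgroups,
the systems obtained from it with a group of automorphisms of `S`, and the decomposition of all
maps.
-/

set_option autoImplicit false

namespace CfsgLib.Fusion

open Cfsg Cfsg.FusionSystem

variable {Ω : Type*} [Group Ω] {S : Subgroup Ω} {F : FusionSystem S} {p : ℕ}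

/-- Being radical is invariant under conjugation in the system. -/
theorem isRadical_congr {R R' : Subgroup Ω} {e : R ≃* R'} (he : IsoIn F e)
    (h : F.IsRadical p R) : F.IsRadical p R' := by
  refine ⟨he.le_right, ?_⟩
  let ε : F.autGroup R ≃* F.autGroup R' :=
    ((MulAut.congr e).subgroupMap (F.autGroup R)).trans
      (MulEquiv.subgroupCongr he.congr_autGroup)
  have hcore : (pCore p (F.autGroup R)).map ε.toMonoidHom = pCore p (F.autGroup R') :=
    Core.map_equiv_pCore ε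
  have hcomp : (F.autGroup R').subtype.comp ε.toMonoidHom =
      (MulAut.congr e).toMonoidHom.comp (F.autGroup R).subtype := MonoidHom.ext fun _ => rfl
  rw [← hcore, Subgroup.map_map, hcomp, ← Subgroup.map_map, h.2]
  ext β
  constructor
  · rintro ⟨_, ⟨g, rfl⟩, rfl⟩
    exact ⟨e g, MulEquiv.ext fun y => by simp [MulAut.congr]⟩
  · rintro ⟨g, rfl⟩
    exact ⟨_, ⟨e.symm g, rfl⟩, MulEquiv.ext fun y => by simp [MulAut.congr]⟩

/-- Compositions of restrictions of `p`-power order automorphisms of centric radical subgroups. -/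
inductive GenMap (F : FusionSystem S) (p : ℕ) : ∀ {P : Subgroup Ω}, (P →* Ω) → Prop
  | incl {P : Subgroup Ω} (φ : P →* Ω) (hP : P ≤ S) (hφ : ∀ x, φ x = x) : GenMap F p φ
  | step {P R : Subgroup Ω} {φ : P →* Ω} (hc : F.IsCentric R) (hr : F.IsRadical p R)
      (a : MulAut R) (ha : a ∈ F.autGroup R) (hk : ∃ k : ℕ, a ^ p ^ k = 1) (h : GenMap F p φ)
      (hle : ∀ x, φ x ∈ R) (χ : P →* Ω) (hχ : ∀ x, χ x = ((a ⟨φ x, hle x⟩ : R) : Ω)) :
      GenMap F p χ

theorem GenMap.mem {P : Subgroup Ω} {φ : P →* Ω} (h : GenMap F p φ) : φ ∈ F.Hom P := by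
  induction h with
  | incl φ hP hφ => exact hom_congr (incl_mem hP) hφ
  | step hc hr a ha hk h hle χ hχ ih =>
      exact comp_mem' ih ((mem_autGroup_iff hc.1).1 ha) hle hχ

theorem GenMap.congr {P : Subgroup Ω} {φ ψ : P →* Ω} (h : GenMap F p φ) (he : ∀ x, ψ x = φ x) :
    GenMap F p ψ := by
  obtain rfl : ψ = φ := MonoidHom.ext he
  exact h

theorem GenMap.comp {Q : Subgroup Ω} {ψ : Q →* Ω} (hψ : GenMap F p ψ) :
    ∀ {P : Subgroup Ω} {φ : P →* Ω}, GenMap F p φ → ∀ h : ∀ x, φ x ∈ Q,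
      ∀ {χ : P →* Ω}, (∀ x, χ x = ψ ⟨φ x, h x⟩) → GenMap F p χ := by
  induction hψ with
  | incl ψ hP hψ => exact fun hφ h χ hχ => hφ.congr fun x => (hχ x).trans (hψ _)
  | @step R ψ hc hr a ha hk hψ hle ψ' hψ' ih =>
      intro P φ hφ h χ hχ
      have h1 : GenMap F p (ψ.comp (φ.codRestrict Q h)) := ih hφ h fun _ => rfl
      exact GenMap.step hc hr a ha hk h1 (fun x => hle _) χ fun x => (hχ x).trans (hψ' _)

theorem GenMap.inv {P : Subgroup Ω} {φ : P →* Ω} (h : GenMap F p φ) :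
    ∃ ψ : φ.range →* Ω, GenMap F p ψ ∧ ∀ x : P, ψ ⟨φ x, ⟨x, rfl⟩⟩ = x := by
  induction h with
  | incl φ hP hφ =>
      refine ⟨φ.range.subtype, GenMap.incl _ ?_ fun _ => rfl, fun x => hφ x⟩
      rintro _ ⟨x, rfl⟩
      rw [hφ]
      exact hP x.2
  | @step R φ hc hr a ha hk h hle χ hχ ih =>
      obtain ⟨ψ, hψ, hψv⟩ := ih
      have hle' : χ.range ≤ R := by
        rintro _ ⟨x, rfl⟩
        rw [hχ]
        exact (a _).2
      set b : χ.range →* Ω := (R.subtype.comp (a⁻¹).toMonoidHom).comp (Subgroup.inclusion hle')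
        with hb
      have hbv : ∀ x : P, b ⟨χ x, ⟨x, rfl⟩⟩ = φ x := fun x => by
        have h1 : (⟨χ x, hle' ⟨x, rfl⟩⟩ : R) = a ⟨φ x, hle x⟩ := Subtype.ext (hχ x)
        show ((a⁻¹ ⟨χ x, hle' ⟨x, rfl⟩⟩ : R) : Ω) = φ x
        rw [h1, MulAut.inv_apply_self]
      have hbG : GenMap F p b := by
        obtain ⟨k, hk⟩ := hk
        exact GenMap.step hc hr a⁻¹ (Subgroup.inv_mem _ ha) ⟨k, by rw [inv_pow, hk, inv_one]⟩
          (GenMap.incl χ.range.subtype (hle'.trans hc.1) fun _ => rfl) (fun y => hle' y.2) b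
          fun _ => rfl
      have hmem : ∀ y, b y ∈ φ.range := by
        rintro ⟨_, x, rfl⟩
        exact ⟨x, (hbv x).symm⟩
      refine ⟨ψ.comp (b.codRestrict _ hmem), GenMap.comp hψ hbG hmem fun _ => rfl, fun x => ?_⟩
      show ψ ⟨b ⟨χ x, _⟩, _⟩ = x
      simp only [hbv]
      exact hψv x

/-- Conjugation of a map by an automorphism of `S`. -/
def topConj (α : MulAut S) {P : Subgroup Ω} (φ : P →* Ω) {P' : Subgroup Ω} (hP' : P' ≤ S)
    (h1 : ∀ y : P', ((α⁻¹ (Subgroup.inclusion hP' y) : S) : Ω) ∈ P) (h2 : ∀ x, φ x ∈ S) :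
    P' →* Ω :=
  (S.subtype.comp α.toMonoidHom).comp
    ((φ.codRestrict S h2).comp
      (((S.subtype.comp (α⁻¹).toMonoidHom).comp (Subgroup.inclusion hP')).codRestrict P h1))

theorem topConj_apply (α : MulAut S) {P : Subgroup Ω} (φ : P →* Ω) {P' : Subgroup Ω} (hP' : P' ≤ S)
    (h1 : ∀ y : P', ((α⁻¹ (Subgroup.inclusion hP' y) : S) : Ω) ∈ P) (h2 : ∀ x, φ x ∈ S) (y : P') :
    topConj α φ hP' h1 h2 y =
      ((α ⟨φ ⟨_, h1 y⟩, h2 _⟩ : S) : Ω) := rfl

theorem GenMap.topConj [Finite S] {P : Subgroup Ω} {φ : P →* Ω} (h : GenMap F p φ) {α : MulAut S}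
    (hα : α ∈ F.autGroup S) :
    ∀ {P' : Subgroup Ω} (hP' : P' ≤ S)
      (h1 : ∀ y : P', ((α⁻¹ (Subgroup.inclusion hP' y) : S) : Ω) ∈ P) (h2 : ∀ x, φ x ∈ S),
      GenMap F p (CfsgLib.Fusion.topConj α φ hP' h1 h2) := by
  induction h with
  | incl φ hP hφ =>
      intro P' hP' h1 h2
      refine GenMap.incl _ hP' fun y => ?_
      rw [topConj_apply]
      have h3 : (⟨φ ⟨_, h1 y⟩, h2 _⟩ : S) = α⁻¹ (Subgroup.inclusion hP' y) := Subtype.ext (hφ _)
      rw [h3, MulAut.apply_inv_self]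
      rfl
  | @step R φ hc hr a ha hk hφ hle χ hχ ih =>
      intro P' hP' h1 h2
      have hαF := (mem_autGroup_iff le_rfl).1 hα
      obtain ⟨e, he, hev⟩ := exists_iso (restrict_mem hαF hc.1) rfl
      have h2' : ∀ x, φ x ∈ S := fun x => hc.1 (hle x)
      obtain ⟨k, hk⟩ := hk
      refine GenMap.step (isCentric_of_isConj hc he.isConj) (isRadical_congr he hr)
        (MulAut.congr e a) (he.congr_autGroup.le ⟨a, ha, rfl⟩)
        ⟨k, by rw [← map_pow, hk, map_one]⟩ (ih hP' h1 h2')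
        (fun y => ⟨⟨_, hle ⟨_, h1 y⟩⟩, rfl⟩) _ fun y => ?_
      rw [topConj_apply]
      have h3 : (⟨CfsgLib.Fusion.topConj α φ hP' h1 h2' y,
          ⟨⟨_, hle ⟨_, h1 y⟩⟩, rfl⟩⟩ : _) = e ⟨φ ⟨_, h1 y⟩, hle _⟩ :=
        Subtype.ext (hev ⟨φ ⟨_, h1 y⟩, hle _⟩).symm
      rw [h3]
      simp only [MulAut.congr, MulEquiv.coe_mk, Equiv.coe_fn_mk, MulEquiv.trans_apply,
        MulEquiv.symm_apply_apply]
      rw [hev]
      show ((α ⟨χ ⟨_, h1 y⟩, h2 _⟩ : S) : Ω) = ((α ⟨a ⟨φ ⟨_, h1 y⟩, hle _⟩, _⟩ : S) : Ω)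
      congr 2
      exact Subtype.ext (hχ _)

variable [Finite S] [Fact p.Prime]

/-- The generated system. -/
def genSystem (hS : IsPGroup p S) (hF : F.IsSaturated p) : FusionSystem S where
  Hom P := {φ | GenMap F p φ}
  le_of_mem h := F.le_of_mem h.mem
  injective_of_mem h := F.injective_of_mem h.mem
  conj_mem {P g} hP hg := by
    obtain ⟨k, hk⟩ := hS ⟨g, hg⟩
    refine GenMap.step isCentric_self (isRadical_self hS hF) (MulAut.conj ⟨g, hg⟩)
      (inn_le_autGroup le_rfl ⟨⟨g, hg⟩, rfl⟩) ⟨k, ?_⟩ (GenMap.incl P.subtype hP fun _ => rfl)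
      (fun x => hP x.2) _ fun x => rfl
    rw [← map_pow, hk, map_one]
  comp_mem hφ hψ h := GenMap.comp hψ hφ h fun _ => rfl
  inv_mem h := GenMap.inv h

theorem genSystem_le (hS : IsPGroup p S) (hF : F.IsSaturated p) : genSystem hS hF ≤ F :=
  fun _ _ h => h.mem

theorem genSystem_aut (hS : IsPGroup p S) (hF : F.IsSaturated p) {R : Subgroup Ω}
    (hc : F.IsCentric R) (hr : F.IsRadical p R) {a : MulAut R} (ha : a ∈ F.autGroup R)
    (hk : ∃ k : ℕ, a ^ p ^ k = 1) : a ∈ (genSystem hS hF).autGroup R :=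
  (mem_autGroup_iff hc.1).2
    (GenMap.step hc hr a ha hk (GenMap.incl R.subtype hc.1 fun _ => rfl) (fun x => x.2) _
      fun _ => rfl)

/-- The maps of `E₀` followed by automorphisms of `S` in `A`. -/
def indexSystem (hS : IsPGroup p S) (hF : F.IsSaturated p) (A : Subgroup (MulAut S))
    (hA : A ≤ F.autGroup S) : FusionSystem S where
  Hom P := {φ | ∃ α ∈ A, ∃ φ₀ ∈ (genSystem hS hF).Hom P,
    ∀ (x : P) (h : φ₀ x ∈ S), φ x = ((α ⟨φ₀ x, h⟩ : S) : Ω)}
  le_of_mem := by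
    rintro P φ ⟨α, -, φ₀, h₀, hv⟩
    exact ⟨hom_le h₀, fun x => (hv x (hom_apply_mem h₀ x)).symm ▸ SetLike.coe_mem _⟩
  injective_of_mem := by
    rintro P φ ⟨α, -, φ₀, h₀, hv⟩ a b hab
    rw [hv a (hom_apply_mem h₀ a), hv b (hom_apply_mem h₀ b)] at hab
    exact (genSystem hS hF).injective_of_mem h₀
      (congrArg Subtype.val (α.injective (Subtype.ext hab)) :)
  conj_mem {P g} hP hg :=
    ⟨1, one_mem _, _, (genSystem hS hF).conj_mem hP hg, fun _ _ => rfl⟩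
  comp_mem := by
    rintro P Q φ ψ ⟨α, hα, e, he, hev⟩ ⟨β, hβ, f, hf, hfv⟩ h
    have h1 : ∀ y : e.range,
        (((α⁻¹)⁻¹ (Subgroup.inclusion (hom_range_le he) y) : S) : Ω) ∈ Q := by
      rintro ⟨_, x, rfl⟩
      rw [inv_inv]
      exact (hev x (hom_apply_mem he x)) ▸ h x
    have hf' : GenMap F p (topConj α⁻¹ f (hom_range_le he) h1 (hom_apply_mem hf)) :=
      GenMap.topConj hf (Subgroup.inv_mem _ (hA hα)) _ _ _
    refine ⟨β * α, Subgroup.mul_mem _ hβ hα,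
      (topConj α⁻¹ f (hom_range_le he) h1 (hom_apply_mem hf)).comp
        (e.codRestrict e.range fun x => ⟨x, rfl⟩),
      GenMap.comp hf' he (fun x => ⟨x, rfl⟩) fun _ => rfl, fun x hx => ?_⟩
    show ψ ⟨φ x, h x⟩ = _
    rw [hfv _ (hom_apply_mem hf _)]
    simp only [MulAut.mul_apply]
    congr 2
    refine ((MulAut.apply_inv_self _ α _).symm.trans ?_)
    congr 1
    refine Subtype.ext ?_
    show _ = topConj α⁻¹ f (hom_range_le he) h1 (hom_apply_mem hf) ⟨e x, ⟨x, rfl⟩⟩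
    rw [topConj_apply]
    congr 3
    refine congrArg f (Subtype.ext ?_)
    show φ x = ((((α⁻¹)⁻¹ : MulAut S) ⟨e x, hom_apply_mem (GenMap.mem he) x⟩) : S)
    rw [inv_inv]
    exact hev x (hom_apply_mem he x)
  inv_mem := by
    rintro P φ ⟨α, hα, e, he, hev⟩
    obtain ⟨θ, hθ, hθv⟩ := GenMap.inv he
    have hr : φ.range ≤ S := by
      rintro _ ⟨x, rfl⟩
      rw [hev x (hom_apply_mem he x)]
      exact SetLike.coe_mem _
    have h1 : ∀ y : φ.range, ((α⁻¹ (Subgroup.inclusion hr y) : S) : Ω) ∈ e.range := by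
      rintro ⟨_, x, rfl⟩
      refine ⟨x, ?_⟩
      rw [show Subgroup.inclusion hr ⟨φ x, ⟨x, rfl⟩⟩ = α ⟨e x, hom_apply_mem he x⟩ from
        Subtype.ext (hev x _), MulAut.inv_apply_self]
    have hθS : ∀ y, θ y ∈ S := hom_apply_mem (GenMap.mem hθ)
    refine ⟨(S.subtype.comp (α⁻¹).toMonoidHom).comp ((topConj α θ hr h1 hθS).codRestrict S
      (hom_apply_mem (GenMap.mem (GenMap.topConj hθ (hA hα) hr h1 hθS)))),
      ⟨α⁻¹, Subgroup.inv_mem _ hα, _, GenMap.topConj hθ (hA hα) hr h1 hθS, fun _ _ => rfl⟩,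
      fun x => ?_⟩
    have h3 : (⟨_, h1 ⟨φ x, ⟨x, rfl⟩⟩⟩ : e.range) = ⟨e x, ⟨x, rfl⟩⟩ := Subtype.ext (by
      show ((α⁻¹ (Subgroup.inclusion hr ⟨φ x, _⟩) : S) : Ω) = e x
      rw [show Subgroup.inclusion hr ⟨φ x, ⟨x, rfl⟩⟩ = α ⟨e x, hom_apply_mem he x⟩ from
        Subtype.ext (hev x _), MulAut.inv_apply_self])
    show ((α⁻¹ (α ⟨θ ⟨_, h1 ⟨φ x, _⟩⟩, hθS _⟩) : S) : Ω) = x
    rw [MulAut.inv_apply_self]
    show θ _ = (x : Ω)
    rw [h3, hθv]

theorem indexSystem_le (hS : IsPGroup p S) (hF : F.IsSaturated p) (A : Subgroup (MulAut S))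
    (hA : A ≤ F.autGroup S) : indexSystem hS hF A hA ≤ F := by
  rintro P φ ⟨α, hα, e, he, hev⟩
  exact comp_mem' (GenMap.mem he) ((mem_autGroup_iff le_rfl).1 (hA hα))
    (hom_apply_mem (GenMap.mem he)) fun x => hev x _

theorem genSystem_le_indexSystem (hS : IsPGroup p S) (hF : F.IsSaturated p)
    (A : Subgroup (MulAut S)) (hA : A ≤ F.autGroup S) :
    genSystem hS hF ≤ indexSystem hS hF A hA :=
  fun _ φ h => ⟨1, one_mem _, φ, h, fun _ _ => rfl⟩

theorem top_le_indexSystem (hS : IsPGroup p S) (hF : F.IsSaturated p)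
    (A : Subgroup (MulAut S)) (hA : A ≤ F.autGroup S) :
    A ≤ (indexSystem hS hF A hA).autGroup S := fun α hα =>
  (mem_autGroup_iff le_rfl).2
    ⟨α, hα, S.subtype, incl_mem le_rfl, fun _ _ => rfl⟩

theorem le_indexSystem_top (hS : IsPGroup p S) (hF : F.IsSaturated p) :
    F ≤ indexSystem hS hF (F.autGroup S) le_rfl := by
  set D := indexSystem hS hF (F.autGroup S) le_rfl with hD
  refine alperin_gen hS hF D (top_le_indexSystem hS hF _ le_rfl) fun P hP hess _ a ha => ?_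
  have hPS := hP.le
  have := finite_mulAut_of_le (S := S) hPS
  have hr : F.IsRadical p P := IsEssential.isRadical hS hess
  obtain ⟨T, hT⟩ := (IsSaturated.fullyAutomized hS hF hess.2.1).2
  let N : Subgroup (F.autGroup P) := Subgroup.closure {b | ∃ k : ℕ, b ^ p ^ k = 1}
  have hN : N.Normal := by
    refine ⟨fun n hn b => ?_⟩
    induction hn using Subgroup.closure_induction with
    | mem x hx =>
        obtain ⟨k, hk⟩ := hx
        exact Subgroup.subset_closure ⟨k, by rw [conj_pow, hk, mul_one, mul_inv_cancel]⟩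
    | one => simp
    | mul x y _ _ hx hy =>
        rw [show b * (x * y) * b⁻¹ = b * x * b⁻¹ * (b * y * b⁻¹) by group]
        exact N.mul_mem hx hy
    | inv x _ hx =>
        rw [show b * x⁻¹ * b⁻¹ = (b * x * b⁻¹)⁻¹ by group]
        exact N.inv_mem hx
  have hTN : (T : Subgroup (F.autGroup P)) ≤ N := fun t ht => by
    obtain ⟨k, hk⟩ := T.isPGroup' ⟨t, ht⟩
    exact Subgroup.subset_closure ⟨k, congrArg Subtype.val hk⟩
  have hNE : N ≤ ((genSystem hS hF).autGroup P).comap (F.autGroup P).subtype := by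
    refine (Subgroup.closure_le _).2 ?_
    rintro b ⟨k, hk⟩
    exact genSystem_aut hS hF hess.1 hr b.2 ⟨k, congrArg Subtype.val hk⟩
  have hGD : (genSystem hS hF).autGroup P ≤ D.autGroup P := fun b hb =>
    (mem_autGroup_iff hPS).2 (genSystem_le_indexSystem hS hF _ le_rfl P
      ((mem_autGroup_iff hPS).1 hb))
  obtain ⟨g, hg, hgP⟩ := exists_mem_normalizerIn_not_mem hS hP
  have hfr := (Sylow.normalizer_sup_eq_top' T hTN).ge (Subgroup.mem_top (⟨a, ha⟩ : F.autGroup P))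
  suffices hle : Subgroup.normalizer ((T : Subgroup (F.autGroup P)) : Set (F.autGroup P)) ⊔ N ≤
      (D.autGroup P ⊔ extGroup F P).subgroupOf (F.autGroup P) from hle hfr
  refine sup_le (fun b hb => Subgroup.mem_sup_right (mem_extGroup_of_conj
    (IsSaturated.receptive hS hF (IsSaturated.fullyCentralized hS hF hess.2.1)) b.2 ⟨g, hg⟩ hgP
    ?_)) fun b hb => Subgroup.mem_sup_left (hGD (hNE hb))
  exact hT.le ((Subgroup.mem_normalizer_iff.1 hb
    ⟨conjAut ⟨g, hg⟩, autInducedBy_le_autGroup hPS (conjAut_mem _)⟩).1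
      (hT.ge (conjAut_mem _)))

/-- Every map is a generated map followed by an automorphism of `S`. -/
theorem exists_gen_decomp (hS : IsPGroup p S) (hF : F.IsSaturated p) {P : Subgroup Ω} {φ : P →* Ω}
    (hφ : φ ∈ F.Hom P) :
    ∃ α ∈ F.autGroup S, ∃ φ₀ ∈ (genSystem hS hF).Hom P,
      ∀ (x : P) (h : φ₀ x ∈ S), φ x = ((α ⟨φ₀ x, h⟩ : S) : Ω) :=
  le_indexSystem_top hS hF P hφ

/-- All automorphisms of `p`-power order are generated maps. -/
theorem genSystem_pow_mem (hS : IsPGroup p S) (hF : F.IsSaturated p) {P : Subgroup Ω} (hP : P ≤ S)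
    {b : MulAut P} (hb : b ∈ F.autGroup P) (hk : ∃ k : ℕ, b ^ p ^ k = 1) :
    b ∈ (genSystem hS hF).autGroup P := by
  obtain ⟨Q, hPQ, hQn⟩ := exists_fullyNormalized (F := F) hP
  obtain ⟨e₀, he₀⟩ := isConj_iff.1 hPQ
  have := finite_mulAut_of_le (S := S) hQn.1
  obtain ⟨k, hk⟩ := hk
  set b₁ : MulAut Q := MulAut.congr e₀ b with hb₁
  have hb₁F : b₁ ∈ F.autGroup Q := he₀.congr_autGroup.le ⟨b, hb, rfl⟩
  have hb₁p : IsPGroup p (Subgroup.zpowers b₁) := by
    obtain ⟨j, -, hj⟩ := (Nat.dvd_prime_pow Fact.out).1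
      (orderOf_dvd_of_pow_eq_one (show b₁ ^ p ^ k = 1 by rw [hb₁, ← map_pow, hk, map_one]))
    exact IsPGroup.of_card (n := j) (by rw [Nat.card_zpowers, hj])
  obtain ⟨c, hc, hcv⟩ := IsSylowIn.exists_conj_mem (IsSaturated.fullyAutomized hS hF hQn).2
    (Subgroup.zpowers_le.2 hb₁F) hb₁p
  set e : P ≃* Q := e₀.trans (c : Q ≃* Q) with he
  have heF : IsoIn F e := he₀.trans ((mem_autGroup_iff_isoIn hQn.1).1 hc)
  obtain ⟨s, hs, hsv⟩ := mem_autInducedBy_iff.1 (hcv b₁ (Subgroup.mem_zpowers _))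
  have hebe : ∀ x : P, ((e (b x) : Q) : Ω) = s * (e x : Ω) * s⁻¹ := fun x => by
    rw [← hsv (e x), he, hb₁]
    simp [MulAut.congr]
  obtain ⟨α, hα, φ₀, hφ₀, hv⟩ := exists_gen_decomp hS hF heF.mem
  obtain ⟨θ, hθ, -, hθv, -⟩ := exists_inv hφ₀ rfl
  set t : S := α⁻¹ ⟨s, hs⟩ with ht
  have key : ∀ x : P, φ₀ (b x) = (t : Ω) * φ₀ x * (t : Ω)⁻¹ := fun x => by
    have hx' := hom_apply_mem hφ₀ (b x)
    have hx := hom_apply_mem hφ₀ x
    have h2 : (⟨φ₀ (b x), hx'⟩ : S) = t * ⟨φ₀ x, hx⟩ * t⁻¹ := by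
      apply α.injective
      refine Subtype.ext ?_
      rw [map_mul, map_mul, map_inv, ht, MulAut.apply_inv_self, ← hv (b x) hx',
        Subgroup.coe_mul, Subgroup.coe_mul, Subgroup.coe_inv, ← hv x hx]
      exact hebe x
    exact congrArg Subtype.val h2
  have hmem : ∀ x : P, φ₀ x ∈ φ₀.range := fun x => ⟨x, rfl⟩
  have hc1 := comp_mem' hφ₀ ((genSystem hS hF).conj_mem (hom_range_le hφ₀) t.2) hmem
    (χ := (conjHom φ₀.range (t : Ω)).comp (φ₀.codRestrict _ hmem)) fun _ => rfl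
  refine (mem_autGroup_iff hP).2 (comp_mem' hc1 hθ (fun x => ?_) fun x => ?_)
  · exact ⟨b x, key x⟩
  · show ((b x : P) : Ω) = _
    rw [← hθv (b x) ⟨b x, rfl⟩]
    congr 1
    exact Subtype.ext (key x)

end CfsgLib.Fusion
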