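import Cfsg.Agent.Lib.Fusion.NormalCentralizer
import Cfsg.Agent.Lib.Fusion.PrimeIndexGen
import Cfsg.Agent.Lib.Fusion.NormalCriterion
import Cfsg.Agent.Lib.Fusion.ClosedCentric
import Cfsg.Agent.Lib.Fusion.NormalSubgroup

/-!
# The centralizer in `S` of a normal subsystem is strongly closed

At an essential `P` not containing `T`, the automorphisms trivial modulo `R = P ⊓ T` acting on `R` inside
the subgroup generated by the `p`-elements of `Aut_E(R)` form a normal subgroup reaching outside `Inn(P)`;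
those of order prime to `p` fix `C_S(E) ⊓ P`.
-/

set_option autoImplicit false

namespace CfsgLib.Fusion

open Cfsg Cfsg.FusionSystem
open scoped Pointwise

universe u

variable {Ω : Type u} [Group Ω] {S T : Subgroup Ω} {F : FusionSystem S} {E : FusionSystem T}
  {p : ℕ}

/-- A normal subgroup of `Aut_F(R)` reaching outside `R` splits off the extendable automorphisms. -/
theorem autGroup_le_sup_ext_of_normal [Fact p.Prime] [Finite S] (hS : IsPGroup p S)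
    (hF : F.IsSaturated p) {R : Subgroup Ω} (hR : F.IsFullyNormalized R)
    (K A : Subgroup (MulAut R))
    (hK : ∀ a ∈ F.autGroup R, ∀ k ∈ K, a * k * a⁻¹ ∈ K)
    (g : normalizerIn S R) (hg : (g : Ω) ∉ R) (hgK : conjAut g ∈ K)
    (hAS : ∀ b ∈ autInducedBy S R, b ∈ A)
    (hA : ∀ k ∈ F.autGroup R, k ∈ K → (∃ n : ℕ, k ^ n = 1 ∧ n.Coprime p) → k ∈ A) :
    F.autGroup R ≤ A ⊔ extGroup F R := by
  have := finite_mulAut_of_le (S := S) hR.1
  have hrec := IsSaturated.receptive hS hF (IsSaturated.fullyCentralized hS hF hR)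
  obtain ⟨U, hU⟩ := (IsSaturated.fullyAutomized hS hF hR).2
  have : (K.subgroupOf (F.autGroup R)).Normal := ⟨fun k hk a => hK a a.2 k hk⟩
  have hsyl := isSylowIn_inf_normal U (K.subgroupOf (F.autGroup R))
  have hKA : K.subgroupOf (F.autGroup R) ≤ A.subgroupOf (F.autGroup R) := by
    refine le_of_sylow_of_coprime hsyl (fun b hb => hAS b (hU.le hb.1)) ?_
    rintro b hb ⟨n, hn, hc⟩
    exact hA b b.2 hb ⟨n, by rw [← SubgroupClass.coe_pow, hn]; rfl, hc⟩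
  obtain ⟨P, hP⟩ := hsyl
  intro a ha
  have hfr := (Sylow.normalizer_sup_eq_top P).ge (Subgroup.mem_top (⟨a, ha⟩ : F.autGroup R))
  rw [hP, Subgroup.map_subgroupOf_eq_of_le inf_le_right] at hfr
  suffices hle : Subgroup.normalizer (((U : Subgroup (F.autGroup R)) ⊓
      K.subgroupOf (F.autGroup R) : Subgroup (F.autGroup R)) : Set (F.autGroup R)) ⊔
      K.subgroupOf (F.autGroup R) ≤ (A ⊔ extGroup F R).subgroupOf (F.autGroup R) from hle hfr
  refine sup_le (fun b hb => ?_) (fun b hb => Subgroup.mem_sup_left (hKA hb))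
  refine Subgroup.mem_sup_right (mem_extGroup_of_conj hrec b.2 g hg ?_)
  set c : F.autGroup R := ⟨conjAut g, autInducedBy_le_autGroup hR.1 (conjAut_mem g)⟩ with hc
  have hcU : c ∈ (U : Subgroup (F.autGroup R)) := hU.ge (conjAut_mem g)
  exact hU.le (((Subgroup.mem_normalizer_iff.1 hb c).1 ⟨hcU, hgK⟩).1)

/-- An automorphism preserving `R` restricts to an automorphism of `R`. -/
theorem exists_restrict_aut [Finite S] {P R : Subgroup Ω} (hPS : P ≤ S) (hRP : R ≤ P) {a : MulAut P}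
    (ha : a ∈ F.autGroup P) (h : ∀ r : P, (r : Ω) ∈ R → ((a r : P) : Ω) ∈ R) :
    ∃ α ∈ F.autGroup R, ∀ (r : Ω) (hr : r ∈ R),
      ((a ⟨r, hRP hr⟩ : P) : Ω) = ((α ⟨r, hr⟩ : R) : Ω) := by
  have hres := restrict_mem ((mem_autGroup_iff hPS).1 ha) hRP
  have hle : ((P.subtype.comp a.toMonoidHom).comp (Subgroup.inclusion hRP)).range ≤ R := by
    rintro _ ⟨r, rfl⟩
    exact h _ r.2
  have := finite_le (hRP.trans hPS)
  obtain ⟨α, hα, hαv⟩ := exists_iso hres (Subgroup.eq_of_le_of_card_ge hle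
    (le_of_eq (Nat.card_congr (MonoidHom.ofInjective (F.injective_of_mem hres)).toEquiv)))
  exact ⟨α, (mem_autGroup_iff_isoIn (hRP.trans hPS)).2 hα, fun r hr => (hαv ⟨r, hr⟩).symm⟩

/-- The subgroup generated by the `p`-elements of `Aut_E(R)`. -/
def pGen (p : ℕ) (E : FusionSystem T) (R : Subgroup Ω) : Subgroup (MulAut R) :=
  Subgroup.closure {a | a ∈ E.autGroup R ∧ ∃ k : ℕ, a ^ p ^ k = 1}

theorem pGen_le (R : Subgroup Ω) : pGen p E R ≤ E.autGroup R :=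
  (Subgroup.closure_le _).2 fun _ h => h.1

theorem pGen_congr (hE : E.IsInvariantIn F) {R R' : Subgroup Ω} (hR : R ≤ T) {e : R ≃* R'}
    (he : IsoIn F e) {a : MulAut R} (ha : a ∈ pGen p E R) :
    MulAut.congr e a ∈ pGen p E R' := by
  have h : pGen p E R ≤ (pGen p E R').comap (MulAut.congr e).toMonoidHom := by
    refine (Subgroup.closure_le _).2 ?_
    rintro b ⟨hb, k, hk⟩
    refine Subgroup.subset_closure ⟨invariant_congr hE hR he hb, k, ?_⟩
    show (MulAut.congr e b) ^ p ^ k = 1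
    rw [← map_pow, hk, map_one]
  exact h ha

theorem pGen_le_liftGroup [Fact p.Prime] [Finite S] (hS : IsPGroup p S) (hF : F.IsSaturated p)
    (hEs : E.IsSaturated p) (hE : E.IsInvariantIn F) {R : Subgroup Ω} (hRT : R ≤ T)
    (hR : F.IsFullyNormalized R) (hRc : centralizerIn T R ≤ R) :
    pGen p E R ≤ liftGroup F E hR.1 :=
  (Subgroup.closure_le _).2 fun _ ha =>
    ⟨ha.1, liftable_of_pPower hS hF hEs hE hRT hR hRc ha.1 ha.2⟩

/-- A lift of an automorphism of order prime to `p` of order prime to `p`. -/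
theorem Liftable.exists_pPrime [Fact p.Prime] [Finite S] {R : Subgroup Ω} (hR : R ≤ S)
    {a : MulAut R} (ha : Liftable F R a) {n : ℕ} (hn : a ^ n = 1) (hcop : n.Coprime p) :
    ∃ x : MulAut ↥(R ⊔ centralizerIn S R), TrivAut F R x ∧
      (∃ m : ℕ, x ^ m = 1 ∧ m.Coprime p) ∧ ∀ (r : Ω) (hr : r ∈ R),
      ((x ⟨r, le_sup_left (b := centralizerIn S R) hr⟩ : _) : Ω) = ((a ⟨r, hr⟩ : R) : Ω) := by
  obtain ⟨x, hx, hxa⟩ := ha
  have := finite_mulAut_of_le (S := S) (sup_centralizerIn_le_S (S := S) hR)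
  obtain ⟨i, j, hij, ⟨e, he⟩, hj⟩ := exists_p_split (p := p) x
  have hpow : ∀ m : ℕ, ∀ (r : Ω) (hr : r ∈ R),
      (((x ^ m) ⟨r, le_sup_left (b := centralizerIn S R) hr⟩ : _) : Ω) =
        (((a ^ m) ⟨r, hr⟩ : R) : Ω) := by
    intro m
    induction m with
    | zero => exact fun r hr => rfl
    | succ m ih =>
      intro r hr
      rw [pow_succ, pow_succ, MulAut.mul_apply, MulAut.mul_apply,
        show x ⟨r, le_sup_left (b := centralizerIn S R) hr⟩ =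
          ⟨((a ⟨r, hr⟩ : R) : Ω), le_sup_left (b := centralizerIn S R) (a ⟨r, hr⟩).2⟩ from
          Subtype.ext (hxa r hr), ih _ (a ⟨r, hr⟩).2]
  have hai : a ^ i = 1 := by
    have h1 : (a ^ i) ^ p ^ e = 1 := by
      refine MulEquiv.ext fun r => Subtype.ext ?_
      rw [← pow_mul, ← hpow _ r r.2, pow_mul, he]
      rfl
    refine orderOf_eq_one_iff.1 (Nat.eq_one_of_dvd_coprimes (hcop.symm.pow_left e)
      (orderOf_dvd_of_pow_eq_one h1) (orderOf_dvd_of_pow_eq_one ?_))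
    rw [← pow_mul, mul_comm, pow_mul, hn, one_pow]
  have haj : a ^ j = a := by
    refine MulEquiv.ext fun r => Subtype.ext ?_
    have h2 := hpow (i + j) r r.2
    rw [pow_add x, hij, pow_add a, hai, one_mul] at h2
    exact h2.symm.trans (hxa r r.2)
  exact ⟨x ^ j, hx.pow j, ⟨_, pow_orderOf_eq_one _, hj⟩, fun r hr => by rw [hpow j r hr, haj]⟩

/-- At a fully normalized `R`, automorphisms of order prime to `p` trivial modulo `R` on elements of
`C_S(E)` and in the `p`-generated part of `Aut_E(R)` on `R` fix those elements. -/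
theorem fix_of_pGen [Fact p.Prime] [Finite S] (hS : IsPGroup p S) (hE : E.IsNormalIn F p)
    {R P : Subgroup Ω} (hRT : R ≤ T) (hR : F.IsFullyNormalized R) (hRc : centralizerIn T R ≤ R)
    (hRP : R ≤ P) (hPS : P ≤ S) {δ : MulAut P} (hδ : δ ∈ F.autGroup P) {n : ℕ} (hn : δ ^ n = 1)
    (hcop : n.Coprime p) {d : MulAut R} (hd : d ∈ pGen p E R)
    (hδd : ∀ (r : Ω) (hr : r ∈ R), ((δ ⟨r, hRP hr⟩ : P) : Ω) = ((d ⟨r, hr⟩ : R) : Ω))
    (y : P) (hy : (y : Ω) ∈ centOf F E) (hyR : ((y⁻¹ * δ y : P) : Ω) ∈ R) : δ y = y := by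
  have hE' := hE
  obtain ⟨⟨hEs, hF, hEi⟩, -⟩ := hE'
  have hdn : d ^ n = 1 := by
    have hp : ∀ m : ℕ, ∀ (r : Ω) (hr : r ∈ R),
        (((δ ^ m) ⟨r, hRP hr⟩ : P) : Ω) = (((d ^ m) ⟨r, hr⟩ : R) : Ω) := by
      intro m
      induction m with
      | zero => exact fun r hr => rfl
      | succ m ih =>
        intro r hr
        rw [pow_succ, pow_succ, MulAut.mul_apply, MulAut.mul_apply,
          show δ ⟨r, hRP hr⟩ = ⟨((d ⟨r, hr⟩ : R) : Ω), hRP (d ⟨r, hr⟩).2⟩ from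
            Subtype.ext (hδd r hr), ih _ (d ⟨r, hr⟩).2]
    refine MulEquiv.ext fun r => Subtype.ext ?_
    rw [← hp n r r.2, hn]
    rfl
  obtain ⟨x, hx, hord, hxd⟩ :=
    Liftable.exists_pPrime hR.1 (pGen_le_liftGroup hS hF hEs hEi hRT hR hRc hd).2 hdn hcop
  have hC := centOf_cand hS hE
  have hfc := IsSaturated.fullyCentralized hS hF hR
  have hyC : (y : Ω) ∈ centralizerIn S R := centralizerIn_antitone hRT (hC.le hy)
  obtain ⟨y₀, hy₀⟩ : ∃ y₀ : ↥(R ⊔ centralizerIn S R), (y₀ : Ω) = y :=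
    ⟨⟨y, Subgroup.mem_sup_right hyC⟩, rfl⟩
  have hxy : x y₀ = y₀ := hC.fix R hRT hR hRc x hx hord ⟨d, pGen_le R hd, hxd⟩ y₀ (hy₀.symm ▸ hy)
  set u : P := y⁻¹ * δ y with hu
  have hv : ((x ⟨((u⁻¹ : P) : Ω), le_sup_left (b := centralizerIn S R) (R.inv_mem hyR)⟩ : _) : Ω) =
      ((u⁻¹ : P) : Ω) := by
    refine congrArg Subtype.val (hx.fix_of_agree hS hF hfc hord
      (ψ := P.subtype.comp δ.toMonoidHom) ((mem_autGroup_iff hPS).1 hδ) hRP
      (fun r hr => (hδd r hr).trans (hxd r hr).symm) y₀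
      ⟨((u⁻¹ : P) : Ω), le_sup_left (b := centralizerIn S R) (R.inv_mem hyR)⟩
      (hy₀.symm ▸ hyC) (hy₀.symm ▸ y.2) (R.inv_mem hyR) ?_)
    rw [hxy]
    refine hy₀.trans ?_
    show (y : Ω) = ((δ ⟨(y₀ : Ω), hy₀.symm ▸ y.2⟩ : P) : Ω) * ((u⁻¹ : P) : Ω)
    rw [show (⟨(y₀ : Ω), hy₀.symm ▸ y.2⟩ : P) = y from Subtype.ext hy₀, ← Subgroup.coe_mul, hu,
      mul_inv_rev, inv_inv, mul_inv_cancel_left]
  have hfix : δ u⁻¹ = u⁻¹ := by
    refine Subtype.ext ?_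
    exact ((hδd ((u⁻¹ : P) : Ω) (R.inv_mem hyR)).trans (hxd _ (R.inv_mem hyR)).symm).trans hv
  have hfix' : δ u = u := by
    rw [map_inv] at hfix
    exact inv_inj.1 hfix
  have h1 := eq_one_of_shift_fixed hS hPS ⟨n, hn, hcop⟩ (w := y) (u := u)
    (by rw [hu, mul_inv_cancel_left]) hfix'
  exact (inv_mul_eq_one.1 h1).symm

/-- The automorphisms of `P` trivial modulo `R` acting on `R` inside `pGen`. -/
def modGroup [Finite S] (F : FusionSystem S) (p : ℕ) (E : FusionSystem T) {P R : Subgroup Ω}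
    (hPS : P ≤ S) (hRP : R ≤ P) : Subgroup (MulAut P) where
  carrier := {a | a ∈ F.autGroup P ∧ (∀ x : P, ((x⁻¹ * a x : P) : Ω) ∈ R) ∧
    ∃ d ∈ pGen p E R, ∀ (r : Ω) (hr : r ∈ R), ((a ⟨r, hRP hr⟩ : P) : Ω) = ((d ⟨r, hr⟩ : R) : Ω)}
  one_mem' := ⟨one_mem _, fun x => by simp, 1, one_mem _, fun r hr => rfl⟩
  mul_mem' := by
    rintro a b ⟨ha, ha', d, hd, had⟩ ⟨hb, hb', e, he, hbe⟩
    refine ⟨mul_mem ha hb, fun x => ?_, d * e, mul_mem hd he, fun r hr => ?_⟩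
    · have h1 : x⁻¹ * (a * b) x = x⁻¹ * b x * ((b x)⁻¹ * a (b x)) := by
        rw [mul_assoc, mul_inv_cancel_left]; rfl
      rw [h1]
      exact R.mul_mem (hb' x) (ha' (b x))
    · show ((a (b ⟨r, _⟩) : P) : Ω) = _
      rw [show b ⟨r, hRP hr⟩ = ⟨((e ⟨r, hr⟩ : R) : Ω), hRP (e ⟨r, hr⟩).2⟩ from
        Subtype.ext (hbe r hr), had _ (e ⟨r, hr⟩).2]
      rfl
  inv_mem' := by
    rintro a ⟨ha, ha', d, hd, had⟩
    refine ⟨inv_mem ha, fun x => ?_, d⁻¹, inv_mem hd, fun r hr => ?_⟩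
    · have h1 := R.inv_mem (ha' (a⁻¹ x))
      rw [MulAut.apply_inv_self] at h1
      simpa using h1
    · have h1 : a ⟨((d⁻¹ ⟨r, hr⟩ : R) : Ω), hRP (d⁻¹ ⟨r, hr⟩).2⟩ = ⟨r, hRP hr⟩ :=
        Subtype.ext (by rw [had _ (d⁻¹ ⟨r, hr⟩).2, Subtype.coe_eta, MulAut.apply_inv_self])
      rw [← h1, MulAut.inv_apply_self]

variable [Fact p.Prime] [Finite S]

/-- Maps defined on `T` respect `C_S(E)`. -/
theorem mem_centOf_iff (hS : IsPGroup p S) (hE : E.IsNormalIn F p) {L : Subgroup Ω} {φ : L →* Ω}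
    (hφ : φ ∈ F.Hom L) (hT : T ≤ L) (x : L) :
    (x : Ω) ∈ centOf F E ↔ φ x ∈ centOf F E := by
  have hE' := hE
  obtain ⟨⟨hEs, hF, hEi⟩, -⟩ := hE'
  have hsc := hEi.2.1
  have key : ∀ {L : Subgroup Ω} {φ : L →* Ω}, φ ∈ F.Hom L → T ≤ L → ∀ x : L,
      (x : Ω) ∈ centOf F E → φ x ∈ centOf F E := by
    intro L φ hφ hT x hx
    have h1 := CentBy.image hEi hφ hT (Y := centOf F E ⊓ L) inf_le_right
      (CentBy.mono hEi.1 hsc.1 (centBy_centOf hS hE) inf_le_left)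
    exact le_sSup (show _ ∈ {Y | CentBy F E Y} from h1) ⟨x, ⟨hx, x.2⟩, rfl⟩
  refine ⟨key hφ hT x, fun h => ?_⟩
  obtain ⟨ι, hι, -, hιl, -⟩ := exists_inv hφ rfl
  have hTr : T ≤ φ.range := by
    intro t ht
    obtain ⟨s, hs⟩ := ((StronglyClosed.weaklyClosed hsc).2 _ (restrict_mem hφ hT)).ge ht
    exact ⟨Subgroup.inclusion hT s, hs⟩
  have h1 := key hι hTr ⟨φ x, ⟨x, rfl⟩⟩ h
  rwa [hιl x ⟨x, rfl⟩] at h1

/-- At an essential subgroup not containing `T` the automorphisms are generated by extendable ones and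
by any group containing `Aut_S(P)` and the automorphisms fixing `C_S(E) ⊓ P`. -/
theorem autGroup_le_sup_ext_centOf (hS : IsPGroup p S) (hE : E.IsNormalIn F p) {P : Subgroup Ω}
    (hPS : P < S) (hess : F.IsEssential p P) (hTP : ¬ T ≤ P)
    (hup : ∀ L : Subgroup Ω, Nat.card P < Nat.card L → ∀ φ ∈ F.Hom L,
      ∀ x : L, (x : Ω) ∈ centOf F E → φ x ∈ centOf F E)
    (A : Subgroup (MulAut P)) (hAS : ∀ b ∈ autInducedBy S P, b ∈ A)
    (hA : ∀ δ ∈ F.autGroup P, (∀ y : P, (y : Ω) ∈ centOf F E → δ y = y) → δ ∈ A) :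
    F.autGroup P ≤ A ⊔ extGroup F P := by
  have hE' := hE
  obtain ⟨⟨hEs, hF, hEi⟩, -⟩ := hE'
  have hT := hEi.2.1
  have := finite_le hT.1
  have hTp : IsPGroup p T := hS.to_le hT.1
  have hRP : P ⊓ T ≤ P := inf_le_left
  have hRT : P ⊓ T ≤ T := inf_le_right
  have hRS : P ⊓ T ≤ S := hRT.trans hT.1
  have htc : TCentric F T (P ⊓ T) := tCentric_inf_of_radical hS hF hT hess.1
    (IsEssential.isRadical hS hess) (fun he h => isRadical_congr he h)
  have hTn := StronglyClosed.normal_in hT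
  -- an element of `T` outside `P` normalizing it
  obtain ⟨t, htT, htN, htP⟩ :
      ∃ t ∈ T, t ∈ Subgroup.normalizer (P : Set Ω) ∧ t ∉ P := by
    have := finite_le (sup_le hPS.le hT.1)
    obtain ⟨g, hg, hgP⟩ := exists_mem_normalizerIn_not_mem (p := p)
      (hS.to_le (sup_le hPS.le hT.1)) (left_lt_sup.2 hTP)
    have hgm : g ∈ (P : Set Ω) * (T : Set Ω) := by
      rw [← Subgroup.coe_mul_of_left_le_normalizer_right P _ (hPS.le.trans hTn)]
      exact hg.1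
    obtain ⟨q, hq, t, ht, rfl⟩ := hgm
    refine ⟨t, ht, ?_, fun h => hgP (P.mul_mem hq h)⟩
    have := mul_mem (inv_mem (Subgroup.le_normalizer hq)) hg.2
    simpa using this
  have hnR : ∀ g ∈ S, g ∈ Subgroup.normalizer (P : Set Ω) →
      g ∈ Subgroup.normalizer ((P ⊓ T : Subgroup Ω) : Set Ω) := fun g hgS hgP =>
    Subgroup.mem_normalizer_iff.2 fun x =>
      and_congr (Subgroup.mem_normalizer_iff.1 hgP x)
        (Subgroup.mem_normalizer_iff.1 (hTn hgS) x)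
  have hpres : ∀ a ∈ F.autGroup P, ∀ r : P, (r : Ω) ∈ P ⊓ T →
      (((a : MulAut P) r : P) : Ω) ∈ P ⊓ T := fun a ha r hr => ⟨(a r).2,
    StronglyClosed.apply_mem hT ((mem_autGroup_iff hPS.le).1 ha) hr.2⟩
  refine autGroup_le_sup_ext_of_normal hS hF hess.2.1 (modGroup F p E hPS.le hRP)
    A ?_ ⟨t, hT.1 htT, htN⟩ htP ?_
    hAS ?_
  · rintro a ha k ⟨hk, hk', d, hd, hkd⟩
    obtain ⟨α, hα, hαv⟩ := exists_restrict_aut hPS.le hRP ha (hpres a ha)
    refine ⟨mul_mem (mul_mem ha hk) (inv_mem ha), fun x => ?_, MulAut.congr α d,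
      pGen_congr hEi hRT ((mem_autGroup_iff_isoIn hRS).1 hα) hd, fun r hr => ?_⟩
    · have h1 : x⁻¹ * (a * k * a⁻¹) x = a ((a⁻¹ x)⁻¹ * k (a⁻¹ x)) := by
        rw [map_mul, map_inv, MulAut.apply_inv_self]; rfl
      rw [h1]
      exact hpres a ha _ (hk' _)
    · have e1 : a⁻¹ ⟨r, hRP hr⟩ =
          ⟨((α⁻¹ ⟨r, hr⟩ : (P ⊓ T : Subgroup Ω)) : Ω), hRP (α⁻¹ ⟨r, hr⟩).2⟩ := by
        apply a.injective
        rw [MulAut.apply_inv_self]
        refine Subtype.ext ?_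
        rw [hαv _ (α⁻¹ ⟨r, hr⟩).2, Subtype.coe_eta, MulAut.apply_inv_self]
      show ((a (k (a⁻¹ ⟨r, _⟩)) : P) : Ω) = _
      rw [e1, show k ⟨_, hRP (α⁻¹ ⟨r, hr⟩).2⟩ =
        ⟨((d (α⁻¹ ⟨r, hr⟩) : (P ⊓ T : Subgroup Ω)) : Ω), hRP (d (α⁻¹ ⟨r, hr⟩)).2⟩ from
        Subtype.ext (hkd _ (α⁻¹ ⟨r, hr⟩).2), hαv _ (d (α⁻¹ ⟨r, hr⟩)).2]
      rfl
  · refine ⟨autInducedBy_le_autGroup hPS.le (conjAut_mem _), fun x => ⟨(_ : P).2, ?_⟩,
      conjAut (S := T) ⟨t, htT, hnR t (hT.1 htT) htN⟩, Subgroup.subset_closure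
        ⟨autInducedBy_le_autGroup hRT (conjAut_mem _), ?_⟩, fun r hr => rfl⟩
    · show (x : Ω)⁻¹ * (t * (x : Ω) * t⁻¹) ∈ T
      rw [show (x : Ω)⁻¹ * (t * (x : Ω) * t⁻¹) = (x : Ω)⁻¹ * t * (x : Ω)⁻¹⁻¹ * t⁻¹ by group]
      exact T.mul_mem (conj_mem_of_mem_normalizer (hTn (S.inv_mem (hPS.le x.2))) htT)
        (T.inv_mem htT)
    · obtain ⟨k, hk⟩ := isPGroup_autInducedBy (P := P ⊓ T) hTp
        ⟨_, conjAut_mem (S := T) ⟨t, htT, hnR t (hT.1 htT) htN⟩⟩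
      exact ⟨k, congrArg Subtype.val hk⟩
  rintro δ hδ ⟨-, hδ', d, hd, hδd⟩ ⟨n, hn, hcop⟩
  refine hA δ hδ ?_
  intro y hy
  -- move `P ⊓ T` to a fully normalized subgroup
  obtain ⟨R', hRR', hR'⟩ := exists_fullyNormalized (F := F) hRS
  obtain ⟨f, hf, -, himg⟩ := exists_normalizer_map hS (IsSaturated.fullyAutomized hS hF hR')
    (IsSaturated.receptive hS hF (IsSaturated.fullyCentralized hS hF hR')) hRR'
  have hPN : P ≤ normalizerIn S (P ⊓ T) := fun x hx =>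
    ⟨hPS.le hx, hnR x (hPS.le hx) (Subgroup.le_normalizer hx)⟩
  have hcard : Nat.card P < Nat.card (normalizerIn S (P ⊓ T)) := by
    have := finite_le (normalizerIn_le (S := S) (P ⊓ T))
    refine lt_of_le_of_ne (Subgroup.card_le_of_le hPN) fun h => htP ?_
    exact (Subgroup.eq_of_le_of_card_ge hPN h.ge).ge ⟨hT.1 htT, hnR t (hT.1 htT) htN⟩
  have hfC := hup _ hcard f hf
  obtain ⟨eP, heP, hePv⟩ := exists_iso (restrict_mem hf hPN)
    (range_restrict f hPN : (f.comp (Subgroup.inclusion hPN)).range = img f P)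
  obtain ⟨eR, heR, heRv⟩ := exists_iso (restrict_mem hf (le_normalizerIn hRS))
    (by rw [range_restrict, himg] :
      (f.comp (Subgroup.inclusion (le_normalizerIn hRS))).range = R')
  have hR'P : R' ≤ img f P := by
    rw [← himg]
    rintro _ ⟨x, hx, rfl⟩
    exact ⟨x, hRP hx, rfl⟩
  have hmod : ∀ x : P, (((eP x)⁻¹ * MulAut.congr eP δ (eP x) : img f P) : Ω) ∈ R' := by
    intro x
    rw [show MulAut.congr eP δ (eP x) = eP (δ x) by simp [MulAut.congr], ← map_inv, ← map_mul,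
      hePv, ← himg]
    exact ⟨_, hδ' x, rfl⟩
  have hres : ∀ (r : Ω) (hr : r ∈ R'), ((MulAut.congr eP δ ⟨r, hR'P hr⟩ : img f P) : Ω) =
      ((MulAut.congr eR d ⟨r, hr⟩ : R') : Ω) := by
    intro r hr
    obtain ⟨z, hz⟩ := eR.surjective ⟨r, hr⟩
    have h1 : (⟨r, hR'P hr⟩ : img f P) = eP ⟨z, hRP z.2⟩ := Subtype.ext
      (((congrArg Subtype.val hz).symm.trans (heRv z)).trans (hePv ⟨z, hRP z.2⟩).symm)
    rw [h1, show MulAut.congr eP δ (eP ⟨z, hRP z.2⟩) = eP (δ ⟨z, hRP z.2⟩) by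
      simp [MulAut.congr], ← hz, show MulAut.congr eR d (eR z) = eR (d z) by
      simp [MulAut.congr], hePv, heRv]
    exact congrArg f (Subtype.ext (hδd z z.2))
  have hpow : MulAut.congr eP δ ^ n = 1 := by rw [← map_pow, hn, map_one]
  have hfix := fix_of_pGen hS hE (htc.conj hT hRR').1 hR' (htc.2 R' hRR') hR'P
    heP.le_right (heP.congr_autGroup.le ⟨δ, hδ, rfl⟩) hpow hcop
    (pGen_congr hEi hRT heR hd) hres (eP y)
    (by rw [hePv]; exact hfC (Subgroup.inclusion hPN y) hy) (hmod y)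
  exact eP.injective
    ((show eP (δ y) = MulAut.congr eP δ (eP y) by simp [MulAut.congr]).trans hfix)


/-- `C_S(E)` is strongly closed. -/
theorem stronglyClosed_centOf (hS : IsPGroup p S) (hE : E.IsNormalIn F p) :
    F.StronglyClosed (centOf F E) := by
  have hE' := hE
  obtain ⟨⟨hEs, hF, hEi⟩, -⟩ := hE'
  have hT := hEi.2.1
  have := finite_le hT.1
  have hTp : IsPGroup p T := hS.to_le hT.1
  let FC : FusionSystem S :=
    { Hom := fun P => {φ | φ ∈ F.Hom P ∧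
        ∀ x : P, ((x : Ω) ∈ centOf F E ↔ φ x ∈ centOf F E)}
      le_of_mem := fun h => F.le_of_mem h.1
      injective_of_mem := fun h => F.injective_of_mem h.1
      conj_mem := fun {P g} hP hg => ⟨F.conj_mem hP hg, fun x =>
        mem_centOf_iff hS hE (F.conj_mem le_rfl hg) hT.1 ⟨x, hP x.2⟩⟩
      comp_mem := fun {P Q φ ψ} hφ hψ h => ⟨F.comp_mem hφ.1 hψ.1 h,
        fun x => (hφ.2 x).trans (hψ.2 ⟨φ x, h x⟩)⟩
      inv_mem := fun {P φ} hφ => by
        obtain ⟨ψ, hψ, hψv⟩ := F.inv_mem hφ.1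
        refine ⟨ψ, ⟨hψ, ?_⟩, hψv⟩
        rintro ⟨_, x, rfl⟩
        rw [hψv x]
        exact (hφ.2 x).symm }
  suffices h : F ≤ FC from
    ⟨(centOf_cand hS hE).le.trans (centralizerIn_le T),
      fun R hR φ hφ x => ((h R hφ).2 x).1 (hR x.2)⟩
  refine alperin_gen hS hF FC ?_ ?_
  · intro a ha
    have h1 := (mem_autGroup_iff le_rfl).1 ha
    exact (mem_autGroup_iff le_rfl).2 ⟨h1, mem_centOf_iff hS hE h1 hT.1⟩
  intro P hPS hess hup
  by_cases hTP : T ≤ P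
  · intro a ha
    have h1 := (mem_autGroup_iff hPS.le).1 ha
    exact Subgroup.mem_sup_left
      ((mem_autGroup_iff hPS.le).2 ⟨h1, mem_centOf_iff hS hE h1 hTP⟩)
  refine autGroup_le_sup_ext_centOf hS hE hPS hess hTP
    (fun L hL φ hφ x hx => ((hup L hL hφ).2 x).1 hx) (FC.autGroup P)
    (fun b hb => autInducedBy_le_autGroup hPS.le hb) fun δ hδ hfix => ?_
  refine (mem_autGroup_iff hPS.le).2 ⟨(mem_autGroup_iff hPS.le).1 hδ, fun y => ⟨fun hy => ?_,
    fun hy => ?_⟩⟩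
  · show ((δ y : P) : Ω) ∈ centOf F E
    rw [hfix y hy]
    exact hy
  · have h1 : ((δ y : P) : Ω) ∈ centOf F E := hy
    rwa [δ.injective (hfix _ h1)] at h1

end CfsgLib.Fusion
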