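import Cfsg.Agent.Lib.Fusion.CentralLiftKernel
import Cfsg.Agent.Lib.Fusion.NormalCentralizerClosed

/-!
# The covering automorphisms centralize the kernel modulo inner automorphisms
-/

set_option autoImplicit false
set_option linter.unusedSectionVars false
set_option maxHeartbeats 800000

namespace CfsgLib.Fusion.CentralLift

open Cfsg Cfsg.FusionSystem CfsgLib.Fusion

variable {Ω Ω' : Type*} [Group Ω] [Group Ω'] {S : Subgroup Ω} {S' T' : Subgroup Ω'}
variable {F : FusionSystem S} {θ : S →* Ω'} {Fb : FusionSystem S'} {Eb : FusionSystem T'}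
  {Z : Subgroup Ω} {p : ℕ}

theorem autInducedBy_conj {P : Subgroup Ω} {s g : Ω} (hs : ∀ x : P, s * (x : Ω) * s⁻¹ ∈ P)
    {c σ : MulAut P} (hσ : ∀ x : P, ((σ x : P) : Ω) = s * (x : Ω) * s⁻¹)
    (hc : ∀ x : P, ((c x : P) : Ω) = g * (x : Ω) * g⁻¹) (x : P) :
    (((σ * c * σ⁻¹) x : P) : Ω) = (s * g * s⁻¹) * (x : Ω) * (s * g * s⁻¹)⁻¹ := by
  have h := hσ (σ⁻¹ x)
  rw [MulAut.apply_inv_self] at h
  rw [MulAut.mul_apply, MulAut.mul_apply, hσ, hc, h]
  group

/-- Automorphisms commuting modulo inner ones with the kernel. -/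
def Central (F : FusionSystem S) (θ : S →* Ω') (Eb : FusionSystem T') (Z P : Subgroup Ω)
    (a : MulAut P) : Prop :=
  ∀ k : MulAut P, k ∈ F.autGroup P → (∀ x : P, ((x⁻¹ * k x : P) : Ω) ∈ Z) →
    a * k * a⁻¹ * k⁻¹ ∈ Inn P

namespace Setup

variable [Fact p.Prime] [Finite S] (h : Setup p F Z θ Fb Eb)
include h

theorem central_mul {P : Subgroup Ω} (hPS : P ≤ S) {a b : MulAut P}
    (ha : Central F θ Eb Z P a) (hb : Central F θ Eb Z P b) : Central F θ Eb Z P (a * b) := by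
  intro k hk hkZ
  have e : a * b * k * (a * b)⁻¹ * k⁻¹ = a * (b * k * b⁻¹ * k⁻¹) * a⁻¹ * (a * k * a⁻¹ * k⁻¹) := by
    group
  rw [e]
  exact mul_mem (inn_conj_mem a (hb k hk hkZ)) (ha k hk hkZ)

theorem central_inv {P : Subgroup Ω} (hPS : P ≤ S) {a : MulAut P}
    (ha : Central F θ Eb Z P a) : Central F θ Eb Z P a⁻¹ := by
  intro k hk hkZ
  have e : a⁻¹ * k * a⁻¹⁻¹ * k⁻¹ = a⁻¹ * (a * k * a⁻¹ * k⁻¹)⁻¹ * a⁻¹⁻¹ := by group
  rw [e]
  exact inn_conj_mem _ (inv_mem (ha k hk hkZ))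

/-- The automorphisms central modulo inner ones form a subgroup. -/
def centralSub {P : Subgroup Ω} (hPS : P ≤ S) : Subgroup (MulAut P) where
  carrier := {a | Central F θ Eb Z P a}
  one_mem' := fun k _ _ => by simp
  mul_mem' ha hb := h.central_mul hPS ha hb
  inv_mem' ha := h.central_inv hPS ha

theorem central_congr {P Q : Subgroup Ω} {e : P ≃* Q} (he : IsoIn F e) {a : MulAut P}
    (ha : Central F θ Eb Z P a) : Central F θ Eb Z Q (MulAut.congr e a) := by
  intro k hk hkZ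
  obtain ⟨hk', hkZ'⟩ := h.ker_congr he.symm (a := k) ⟨hk, hkZ⟩
  have h2 := ha _ hk' hkZ'
  have e1 : MulAut.congr e (MulAut.congr e.symm k) = k := MulEquiv.ext fun x => by simp [MulAut.congr]
  obtain ⟨y, hy⟩ := h2
  refine ⟨e y, ?_⟩
  conv_rhs => rw [← e1, ← map_inv, ← map_inv, ← map_mul, ← map_mul, ← map_mul, ← hy]
  exact MulEquiv.ext fun z => by simp [MulAut.congr]

/-- The Sylow subgroup centralizes the kernel. -/
theorem central_induced {P : Subgroup Ω} (hP : F.IsFullyNormalized P) (hg : Good θ Eb Z P)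
    {c : MulAut P} (hc : c ∈ autInducedBy S P) (hcM : c ∈ (preSystem F θ Eb).autGroup P) :
    Central F θ Eb Z P c := by
  obtain ⟨t, ht, htk⟩ := h.induced_decomp hP hg hc hcM
  have hk : Central F θ Eb Z P (t⁻¹ * c) := fun k hkF hkZ => by
    rw [h.ker_comm hg.leS htk ⟨hkF, hkZ⟩, mul_inv_cancel_right, mul_inv_cancel]
    exact one_mem _
  rw [show c = t * (t⁻¹ * c) by group]
  refine h.central_mul hg.leS (fun k hkF hkZ => ?_) hk
  obtain ⟨τ, hτ, htv⟩ := mem_autInducedBy_iff.1 ht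
  obtain ⟨w, hw, hwv⟩ := mem_autInducedBy_iff.1 (h.ker_induced hP ⟨hkF, hkZ⟩)
  have hτS := preimageAlong_le θ T' hτ
  have hτP : ∀ x : P, τ * (x : Ω) * τ⁻¹ ∈ P := fun x => htv x ▸ (t x).2
  have hwP : ∀ x : P, w * (x : Ω) * w⁻¹ ∈ P := fun x => hwv x ▸ (k x).2
  have hcm : τ * w * τ⁻¹ * w⁻¹ ∈ preimageAlong θ T' := by
    have h1 : w * τ⁻¹ * w⁻¹ ∈ preimageAlong θ T' :=
      conj_mem_of_mem_normalizer (StronglyClosed.normal_in h.tclosed hw) (inv_mem hτ)
    simpa [mul_assoc] using mul_mem hτ h1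
  set u : S := ⟨τ, hτS⟩ * ⟨w, hw⟩ * ⟨τ, hτS⟩⁻¹ * ⟨w, hw⟩⁻¹ with hu
  have hwc : ∀ y ∈ imageAlong θ P, θ ⟨w, hw⟩ * y * (θ ⟨w, hw⟩)⁻¹ = y := by
    intro y hy
    obtain ⟨x, hx⟩ := pr_surjective hg.leS ⟨y, hy⟩
    have h1 := congrArg Subtype.val (((h.ker_iff hg.leS hkF).1 ⟨hkF, hkZ⟩ x).symm)
    rw [pr_coe, pr_coe] at h1
    rw [← show θ ⟨(x : Ω), hg.leS x.2⟩ = y from congrArg Subtype.val hx, ← map_inv, ← map_mul,
      ← map_mul]
    conv_rhs => rw [h1]
    exact congrArg θ (Subtype.ext (hwv x).symm)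
  have hτn : ∀ y ∈ imageAlong θ P, (θ ⟨τ, hτS⟩)⁻¹ * y * θ ⟨τ, hτS⟩ ∈ imageAlong θ P := by
    intro y hy
    obtain ⟨x, hx⟩ := pr_surjective hg.leS ⟨y, hy⟩
    refine ⟨⟨τ, hτS⟩⁻¹ * ⟨x, hg.leS x.2⟩ * ⟨τ, hτS⟩, ?_, ?_⟩
    · show τ⁻¹ * (x : Ω) * τ ∈ P
      have h2 := htv (t⁻¹ x)
      rw [MulAut.apply_inv_self] at h2
      rw [h2]
      simp [mul_assoc]
    · rw [map_mul, map_mul, map_inv]
      exact congrArg (fun z => (θ ⟨τ, hτS⟩)⁻¹ * z * θ ⟨τ, hτS⟩) (congrArg Subtype.val hx)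
  have huP : (u : Ω) ∈ P := h.mem_of_cent hg (mem_preimageAlong.1 hcm) fun y hy => by
    have e1 : θ u * y * (θ u)⁻¹ = y := by
      rw [hu]
      simp only [map_mul, map_inv]
      set A := θ ⟨τ, hτS⟩
      set B := θ ⟨w, hw⟩
      have hB' : ∀ z ∈ imageAlong θ P, B⁻¹ * z * B = z := fun z hz => by
        conv_lhs => rw [← hwc z hz]
        group
      calc A * B * A⁻¹ * B⁻¹ * y * (A * B * A⁻¹ * B⁻¹)⁻¹
          = A * (B * (A⁻¹ * (B⁻¹ * y * B) * A) * B⁻¹) * A⁻¹ := by group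
        _ = A * (A⁻¹ * y * A) * A⁻¹ := by rw [hB' y hy, hwc _ (hτn y hy)]
        _ = y := by group
    calc y * θ u = θ u * y * (θ u)⁻¹ * θ u := by rw [e1]
      _ = θ u * y := by group
  refine ⟨⟨u, huP⟩, MulEquiv.ext fun x => Subtype.ext ?_⟩
  show (u : Ω) * x * (u : Ω)⁻¹ = (((t * k * t⁻¹) (k⁻¹ x) : P) : Ω)
  rw [autInducedBy_conj hτP htv hwv]
  have h3 := hwv (k⁻¹ x)
  rw [MulAut.apply_inv_self] at h3
  show τ * w * τ⁻¹ * w⁻¹ * (x : Ω) * (τ * w * τ⁻¹ * w⁻¹)⁻¹ = _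
  rw [h3]
  group

/-- Cover an automorphism of the image. -/
theorem exists_cover {Q : Subgroup Ω} (hZQ : Z ≤ Q) (hQT : Q ≤ preimageAlong θ T')
    {b : MulAut (imageAlong θ Q)} (hb : b ∈ Eb.autGroup (imageAlong θ Q)) :
    ∃ a ∈ (preSystem F θ Eb).autGroup Q, ∀ x : Q,
      b (pr θ (hQT.trans (preimageAlong_le θ T')) x) =
        pr θ (hQT.trans (preimageAlong_le θ T')) (a x) := by
  have hQS := hQT.trans (preimageAlong_le θ T')
  have hI := h.image_le' hQT
  obtain ⟨-, φ, hφ, hP₁, hφS, hm, hv⟩ :=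
    (h.fac.2.2.2 _ _).1 (h.einv.1 _ ((mem_autGroup_iff hI).1 hb))
  have hpre : preimageAlong θ (imageAlong θ Q) = Q := by
    rw [preimageAlong_imageAlong h.zle h.ker hQS, sup_eq_left.2 hZQ]
  set φ₀ := φ.comp (Subgroup.inclusion hpre.ge) with hφ₀
  have hφ₀F : φ₀ ∈ F.Hom Q := restrict_mem hφ hpre.ge
  have hle : φ₀.range ≤ Q := by
    rintro _ ⟨x, rfl⟩
    refine h.mem_of_pr hZQ hQS (s := ⟨φ₀ x, hom_apply_mem hφ₀F x⟩) ?_
    exact (congrArg (fun z => z ∈ imageAlong θ Q) (hv (Subgroup.inclusion hpre.ge x))).mp (b _).2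
  have := finite_le hQS
  obtain ⟨a, ha, hav⟩ := exists_iso hφ₀F (Subgroup.eq_of_le_of_card_ge hle
    (Nat.card_congr (MonoidHom.ofInjective (F.injective_of_mem hφ₀F)).toEquiv).le)
  have hval : ∀ x : Q, b (pr θ hQS x) = pr θ hQS (a x) := fun x => Subtype.ext
    ((hv (Subgroup.inclusion hpre.ge x)).trans (congrArg θ (Subtype.ext (hav x).symm)))
  exact ⟨a, (h.mem_preAut hQT).2 ⟨(mem_autGroup_iff_isoIn hQS).2 ha, b, hb, hval⟩, hval⟩

/-- A covering automorphism agreeing downstairs differs by the kernel. -/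
theorem ker_of_cover {Q : Subgroup Ω} (hQS : Q ≤ S) {a a' : MulAut Q} (ha : a ∈ F.autGroup Q)
    (ha' : a' ∈ F.autGroup Q) {b : MulAut (imageAlong θ Q)}
    (hb : ∀ x : Q, b (pr θ hQS x) = pr θ hQS (a x))
    (hb' : ∀ x : Q, b (pr θ hQS x) = pr θ hQS (a' x)) :
    a'⁻¹ * a ∈ kerAut F Z Q h.fix := by
  refine (h.ker_iff hQS (mul_mem (inv_mem ha') ha)).2 fun x => ?_
  apply b.injective
  rw [hb', MulAut.mul_apply, MulAut.apply_inv_self, hb]

/-- The step of the centrality: the automorphism normalizes the Sylow subgroup. -/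
theorem central_displace {P : Subgroup Ω} (hP : F.IsFullyNormalized P) (hg : Good θ Eb Z P)
    (hup : ∀ Q, Good θ Eb Z Q → Nat.card P < Nat.card Q →
      ∀ a ∈ (preSystem F θ Eb).autGroup Q, Central F θ Eb Z Q a)
    {y : MulAut P} (hy : y ∈ (preSystem F θ Eb).autGroup P)
    (hnorm : ∀ l ∈ autInducedBy S P ⊓ (preSystem F θ Eb).autGroup P,
      y * l * y⁻¹ ∈ autInducedBy S P ⊓ (preSystem F θ Eb).autGroup P)
    {k : MulAut P} (hk : k ∈ kerAut F Z P h.fix) :
    y * (y * k * y⁻¹ * k⁻¹) * y⁻¹ * (y * k * y⁻¹ * k⁻¹)⁻¹ ∈ Inn P := by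
  classical
  have hTc := h.tclosed
  have hTS := hTc.1
  have hPS := hP.1
  have hPT := hg.le
  have := finite_le hTS
  have := finite_le hPS
  have := h.tfinite'
  obtain ⟨hyF, b, hb, hbv⟩ := (h.mem_preAut hPT).1 hy
  obtain ⟨w, hw, hwv⟩ := mem_autInducedBy_iff.1 (h.ker_induced hP hk)
  set d := y * k * y⁻¹ * k⁻¹ with hd
  have hdK : d ∈ kerAut F Z P h.fix := mul_mem (h.ker_conj hPS hk hyF) (inv_mem hk)
  have hI := h.image_le' hPT
  rcases eq_or_lt_of_le hPT with hPe | hPlt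
  · -- the top
    have himg : imageAlong θ P = T' := by
      rw [hPe, imageAlong_preimageAlong (h.tclosed'.1.trans h.range.ge)]
    have hb' : ∀ W, W = imageAlong θ P → ∀ c ∈ Eb.autGroup W, ∃ β ∈ Fb.autGroup
        (W ⊔ centralizerIn S' W),
        (∀ x : W, ((β (Subgroup.inclusion le_sup_left x) : _) : Ω') = ((c x : W) : Ω')) ∧
        ∀ c' : ↥(W ⊔ centralizerIn S' W), (c' : Ω') ∈ centralizerIn S' W →
          (c' : Ω')⁻¹ * ((β c' : _) : Ω') ∈ W ⊓ Subgroup.centralizer (W : Set Ω') := by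
      intro W hW
      rw [hW, himg]
      exact h.normal.2
    obtain ⟨β, hβ, hβP, hβC⟩ := hb' _ rfl b hb
    have hWS : imageAlong θ P ⊔ centralizerIn S' (imageAlong θ P) ≤ S' :=
      sup_le h.image_le (centralizerIn_le _)
    obtain ⟨-, φ, hφ, hP₁, hφS, hm, hv⟩ := (h.fac.2.2.2 _ _).1 ((mem_autGroup_iff hWS).1 hβ)
    have hsub : P ≤ preimageAlong θ (imageAlong θ P ⊔ centralizerIn S' (imageAlong θ P)) :=
      fun x hx => (mem_preimageAlong (x := ⟨x, hPS hx⟩)).2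
        (Subgroup.mem_sup_left ⟨_, hx, rfl⟩)
    set φ₀ := φ.comp (Subgroup.inclusion hsub) with hφ₀
    have hφ₀F : φ₀ ∈ F.Hom P := restrict_mem hφ hsub
    have hr : φ₀.range = P := by
      refine Subgroup.eq_of_le_of_card_ge ?_
        (Nat.card_congr (MonoidHom.ofInjective (F.injective_of_mem hφ₀F)).toEquiv).le
      rintro _ ⟨x, rfl⟩
      exact hPe.ge (hTc.2 P hg.le φ₀ hφ₀F x)
    obtain ⟨a, ha, hav⟩ := exists_iso hφ₀F hr
    have haF : (a : MulAut P) ∈ F.autGroup P := (mem_autGroup_iff_isoIn hPS).2 ha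
    have hbva : ∀ x : P, b (pr θ hPS x) = pr θ hPS (a x) := fun x => Subtype.ext (by
      rw [← hβP]
      refine (congrArg Subtype.val (congrArg β (Subtype.ext rfl))).trans
        ((hv (Subgroup.inclusion hsub x)).trans (congrArg θ (Subtype.ext (hav x).symm))))
    have hκ : (a : MulAut P)⁻¹ * y ∈ kerAut F Z P h.fix := h.ker_of_cover hPS hyF haF hbv hbva
    have hwm : w ∈ preimageAlong θ (imageAlong θ P ⊔ centralizerIn S' (imageAlong θ P)) := by
      refine (mem_preimageAlong (x := ⟨w, hw⟩)).2 (Subgroup.mem_sup_right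
        (mem_centralizerIn.2 ⟨h.range.le ⟨_, rfl⟩, fun z hz => ?_⟩))
      obtain ⟨x, hx⟩ := pr_surjective hPS ⟨z, hz⟩
      have h1 := congrArg Subtype.val (((h.ker_iff hPS hk.1).1 hk x))
      have h2 : θ ⟨w, hw⟩ * z * (θ ⟨w, hw⟩)⁻¹ = z := by
        rw [← show θ ⟨(x : Ω), hPS x.2⟩ = z from congrArg Subtype.val hx, ← map_inv, ← map_mul,
          ← map_mul]
        exact Eq.trans (congrArg θ (Subtype.ext (hwv x).symm)) h1
      calc z * θ ⟨w, hw⟩ = θ ⟨w, hw⟩ * z * (θ ⟨w, hw⟩)⁻¹ * θ ⟨w, hw⟩ := by rw [h2]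
        _ = θ ⟨w, hw⟩ * z := by group
    set v := φ ⟨w, hwm⟩ with hv'
    have htP : w⁻¹ * v ∈ P := by
      rw [hPe]
      show (((⟨w, hw⟩ : S)⁻¹ * ⟨v, hφS ⟨w, hwm⟩⟩ : S) : Ω) ∈ preimageAlong θ T'
      refine mem_preimageAlong.2 ?_
      rw [map_mul, map_inv, ← hv ⟨w, hwm⟩]
      have h1 := hβC ⟨θ ⟨w, hw⟩, hm ⟨w, hwm⟩⟩ ?_
      · exact himg ▸ h1.1
      · refine mem_centralizerIn.2 ⟨h.range.le ⟨_, rfl⟩, fun z hz => ?_⟩
        obtain ⟨x, hx⟩ := pr_surjective hPS ⟨z, hz⟩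
        have h1 := congrArg Subtype.val (((h.ker_iff hPS hk.1).1 hk x))
        have h2 : θ ⟨w, hw⟩ * z * (θ ⟨w, hw⟩)⁻¹ = z := by
          rw [← show θ ⟨(x : Ω), hPS x.2⟩ = z from congrArg Subtype.val hx, ← map_inv, ← map_mul,
            ← map_mul]
          exact Eq.trans (congrArg θ (Subtype.ext (hwv x).symm)) h1
        calc z * θ ⟨w, hw⟩ = θ ⟨w, hw⟩ * z * (θ ⟨w, hw⟩)⁻¹ * θ ⟨w, hw⟩ := by rw [h2]
          _ = θ ⟨w, hw⟩ * z := by group
    have hdi : d ∈ Inn P := by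
      have hwP : ∀ x : P, w * (x : Ω) * w⁻¹ ∈ P := fun x => hwv x ▸ (k x).2
      have hak : ∀ x : P, ((((a : MulAut P) * k * (a : MulAut P)⁻¹) x : P) : Ω) =
          v * (x : Ω) * v⁻¹ := by
        intro x
        obtain ⟨z, rfl⟩ := a.surjective x
        rw [MulAut.mul_apply, MulAut.mul_apply, MulAut.inv_apply_self, hav, hav]
        have e1 : Subgroup.inclusion hsub (k z) =
            (⟨w, hwm⟩ * Subgroup.inclusion hsub z * ⟨w, hwm⟩⁻¹) := Subtype.ext (hwv z)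
        show φ (Subgroup.inclusion hsub (k z)) = v * φ (Subgroup.inclusion hsub z) * v⁻¹
        rw [e1, map_mul, map_mul, map_inv]
      have hmem : w * (w⁻¹ * v) * w⁻¹ ∈ P := hwP ⟨_, htP⟩
      have hda : d = (a : MulAut P) * k * (a : MulAut P)⁻¹ * k⁻¹ := by
        set κ := (a : MulAut P)⁻¹ * y with hκd
        have e : y = (a : MulAut P) * κ := by rw [hκd]; group
        rw [hd, e]
        calc (a : MulAut P) * κ * k * ((a : MulAut P) * κ)⁻¹ * k⁻¹
            = (a : MulAut P) * (κ * k * κ⁻¹) * (a : MulAut P)⁻¹ * k⁻¹ := by group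
          _ = _ := by rw [h.ker_comm hPS hκ hk, mul_inv_cancel_right]
      refine ⟨⟨_, hmem⟩, MulEquiv.ext fun x => Subtype.ext ?_⟩
      show w * (w⁻¹ * v) * w⁻¹ * (x : Ω) * (w * (w⁻¹ * v) * w⁻¹)⁻¹ = ((d x : P) : Ω)
      rw [hda, MulAut.mul_apply, hak]
      have h3 := hwv (k⁻¹ x)
      rw [MulAut.apply_inv_self] at h3
      rw [h3]
      group
    exact mul_mem (inn_conj_mem y hdi) (inv_mem hdi)
  · -- below the top
    set N := normalizerIn (preimageAlong θ T') P with hN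
    have hPN : P ≤ N := le_normalizerIn hPT
    have hNT : N ≤ preimageAlong θ T' := normalizerIn_le P
    have hNS : N ≤ S := hNT.trans hTS
    have := finite_le hNS
    have hgN : Good θ Eb Z N := h.good_mono hg hPN hNT
    have hlt : Nat.card P < Nat.card N := by
      refine lt_of_le_of_ne (Subgroup.card_le_of_le hPN) fun he => ?_
      exact (lt_normalizerIn (h.pgroup.to_le hTS) hPlt).ne
        (Subgroup.eq_of_le_of_card_ge hPN he.ge)
    have hbe := h.fullyNormalized_barE hP hg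
    have hNbar : imageAlong θ N = normalizerIn T' (imageAlong θ P) :=
      h.image_normalizerT hg.zle hPS
    have hPNb : imageAlong θ P ≤ imageAlong θ N := imageAlong_mono hPN
    -- extension of `b`
    have hext : imageAlong θ N ≤ extender T' (imageAlong θ P) (isoHom b) := by
      intro t' ht'
      have ht2 := hNbar.le ht'
      obtain ⟨n, hn⟩ := pr_surjective hNS ⟨t', ht'⟩
      have hn' : θ ⟨n, hNS n.2⟩ = t' := congrArg Subtype.val hn
      set τ : MulAut P := P.normalizerMonoidHom ⟨n, n.2.2⟩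
      have hτ : τ ∈ autInducedBy (preimageAlong θ T') P :=
        mem_autInducedBy_iff.2 ⟨n, n.2.1, fun x => rfl⟩
      have hτL : τ ∈ autInducedBy S P ⊓ (preSystem F θ Eb).autGroup P :=
        ⟨autInducedBy_mono hTS hτ, canAut_le P (h.autInducedBy_le_canAut hPT hτ)⟩
      have htr : Transported F (preimageAlong θ T') (y * τ * y⁻¹) := by
        have h0 : Transported F (preimageAlong θ T') τ :=
          ⟨P, MulEquiv.refl P, isoIn_refl hPS, hPT, n, n.2.1, τ, fun x => rfl,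
            MulEquiv.ext fun x => rfl⟩
        have := transported_congr ((mem_autGroup_iff_isoIn hPS).1 hyF) h0
        rwa [show MulAut.congr y τ = y * τ * y⁻¹ from MulEquiv.ext fun x => rfl] at this
      obtain ⟨t₂, ht₂, ht₂v⟩ := mem_autInducedBy_iff.1 (h.transported_induced
        (IsSaturated.fullyCentralized h.pgroup h.sat hP) htr (hnorm τ hτL).1)
      refine mem_extender_iff.2 ⟨ht2.1, ht2.2, θ ⟨t₂, hTS ht₂⟩, mem_preimageAlong.1 ht₂,
        fun z hz => ?_⟩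
      obtain ⟨x, rfl⟩ := pr_surjective hPS z
      have e1 : (⟨t' * (pr θ hPS x : Ω') * t'⁻¹, hz⟩ : imageAlong θ P) = pr θ hPS (τ x) :=
        Subtype.ext (by
          show t' * θ ⟨(x : Ω), hPS x.2⟩ * t'⁻¹ = θ ⟨((τ x : P) : Ω), hPS (τ x).2⟩
          rw [← hn', ← map_inv, ← map_mul, ← map_mul]
          rfl)
      rw [isoHom_apply, isoHom_apply, e1, hbv, hbv, pr_coe, pr_coe, ← map_inv, ← map_mul,
        ← map_mul]
      refine congrArg θ (Subtype.ext ?_)
      have h2 := ht₂v (y x)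
      rw [MulAut.mul_apply, MulAut.mul_apply, MulAut.inv_apply_self] at h2
      exact h2
    obtain ⟨ψ', hψ', hψag⟩ := exists_extension (IsSaturated.receptive h.tgroup' h.esat
      (IsSaturated.fullyCentralized h.tgroup' h.esat hbe)) ((mem_autGroup_iff_isoIn hI).1 hb)
      hPNb hext
    have hψN : ψ'.range ≤ imageAlong θ N := by
      rintro _ ⟨z, rfl⟩
      exact hNbar.ge (extension_mem_normalizerIn hψ' hPNb (hext.trans (extender_le.trans inf_le_right))
        hψag z)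
    have := finite_le (S := T') (h.image_le' hNT)
    obtain ⟨β, hβ, hβv⟩ := exists_iso hψ' (Subgroup.eq_of_le_of_card_ge hψN
      (Nat.card_congr (MonoidHom.ofInjective (Eb.injective_of_mem hψ')).toEquiv).le)
    have hβE : (β : MulAut (imageAlong θ N)) ∈ Eb.autGroup (imageAlong θ N) :=
      (mem_autGroup_iff_isoIn (h.image_le' hNT)).2 hβ
    obtain ⟨χ, hχ, hχv⟩ := h.exists_cover hgN.zle hNT hβE
    have hχb : ∀ x : P, (β (pr θ hNS (Subgroup.inclusion hPN x)) : Ω') = b (pr θ hPS x) := fun x =>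
      (hβv _).trans (hψag (pr θ hPS x))
    have hχP : ∀ x : P, ((χ (Subgroup.inclusion hPN x) : N) : Ω) ∈ P := fun x => by
      refine h.mem_of_pr hg.zle hPS (s := ⟨_, hNS (χ (Subgroup.inclusion hPN x)).2⟩) ?_
      rw [show θ ⟨_, hNS (χ (Subgroup.inclusion hPN x)).2⟩ =
        (pr θ hNS (χ (Subgroup.inclusion hPN x)) : Ω') from rfl, ← hχv, hχb]
      exact SetLike.coe_mem _
    have hχF := preAut_le hNT hχ
    obtain ⟨a, ha, hav⟩ := exists_restrict_aut hNS hPN hχF (fun x hx => hχP ⟨x, hx⟩)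
    have hbva : ∀ x : P, b (pr θ hPS x) = pr θ hPS (a x) := fun x => Subtype.ext (by
      rw [← hχb, hχv]
      exact congrArg θ (Subtype.ext (hav x x.2)))
    have hκ : a⁻¹ * y ∈ kerAut F Z P h.fix := h.ker_of_cover hPS hyF ha hbv hbva
    have hda : ∀ z ∈ kerAut F Z P h.fix, y * z * y⁻¹ = a * z * a⁻¹ := fun z hz => by
      set κ := a⁻¹ * y with hκd
      rw [show y = a * κ by rw [hκd]; group]
      calc a * κ * z * (a * κ)⁻¹ = a * (κ * z * κ⁻¹) * a⁻¹ := by group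
        _ = _ := by rw [h.ker_comm hPS hκ hz, mul_inv_cancel_right]
    -- `c_w` on `N`
    have hwN : w ∈ Subgroup.normalizer (N : Set Ω) := by
      have hwP : w ∈ Subgroup.normalizer (P : Set Ω) := mem_normalizer_of_conj_eq k hwv
      have hwT : w ∈ Subgroup.normalizer (preimageAlong θ T' : Set Ω) :=
        StronglyClosed.normal_in hTc hw
      refine Subgroup.mem_normalizer_iff.2 fun z => ?_
      constructor
      · exact fun hz => ⟨conj_mem_of_mem_normalizer hwT hz.1,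
          Subgroup.mul_mem _ (Subgroup.mul_mem _ hwP hz.2) (Subgroup.inv_mem _ hwP)⟩
      · intro hz
        have h1 := conj_mem_of_mem_normalizer (Subgroup.inv_mem _ hwT) hz.1
        have h2 := Subgroup.mul_mem _ (Subgroup.mul_mem _ (Subgroup.inv_mem _ hwP) hz.2) hwP
        simp only [inv_inv, mul_assoc, inv_mul_cancel_left, inv_mul_cancel, mul_one] at h1 h2
        exact ⟨h1, h2⟩
    set σ : MulAut N := N.normalizerMonoidHom ⟨w, hwN⟩ with hσdef
    have hσF : σ ∈ F.autGroup N :=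
      autInducedBy_le_autGroup hNS (mem_autInducedBy_iff.2 ⟨w, hw, fun x => rfl⟩)
    set γ := χ * σ * χ⁻¹ * σ⁻¹ with hγ
    have hγM : γ ∈ (preSystem F θ Eb).autGroup N := by
      rw [hγ, show χ * σ * χ⁻¹ * σ⁻¹ = χ * (σ * χ⁻¹ * σ⁻¹) by group]
      exact mul_mem hχ (h.preAut_conj hNT (inv_mem hχ) hσF)
    -- restriction to `P`
    have hres : ∀ {μ : MulAut N} {m : MulAut P},
        (∀ x : P, μ (Subgroup.inclusion hPN x) = Subgroup.inclusion hPN (m x)) →
        ∀ x : P, μ⁻¹ (Subgroup.inclusion hPN x) = Subgroup.inclusion hPN (m⁻¹ x) := by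
      intro μ m hμ x
      apply μ.injective
      rw [MulAut.apply_inv_self, hμ, MulAut.apply_inv_self]
    have hχa : ∀ x : P, χ (Subgroup.inclusion hPN x) = Subgroup.inclusion hPN (a x) := fun x =>
      Subtype.ext (hav x x.2)
    have hσk : ∀ x : P, σ (Subgroup.inclusion hPN x) = Subgroup.inclusion hPN (k x) := fun x =>
      Subtype.ext (hwv x).symm
    have hγd : ∀ x : P, γ (Subgroup.inclusion hPN x) = Subgroup.inclusion hPN (d x) := fun x => by
      rw [hd, hda k hk, hγ]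
      simp only [MulAut.mul_apply, hres hσk, hres hχa, hσk, hχa]
    -- `γ` downstairs is inner
    obtain ⟨-, g', hg', hg'v⟩ := (h.mem_preAut hNT).1 hγM
    have hfix : ∀ z : imageAlong θ N, (z : Ω') ∈ imageAlong θ P → g' z = z := by
      rintro z hz
      obtain ⟨x, hx⟩ := pr_surjective hPS ⟨(z : Ω'), hz⟩
      have e1 : z = pr θ hNS (Subgroup.inclusion hPN x) :=
        Subtype.ext (congrArg Subtype.val hx :).symm
      rw [e1, hg'v, hγd]
      refine Subtype.ext ?_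
      exact (congrArg Subtype.val ((h.ker_iff hPS hdK.1).1 hdK x) :)
    obtain ⟨u, hu, huv⟩ := mem_autInducedBy_iff.1 (fix_autGroup_le h.tgroup' h.esat
      stronglyClosed_top hg.centric hbe hNbar hg' hfix)
    obtain ⟨z, rfl⟩ := h.range.ge (h.tclosed'.1 hu.1)
    have hzP : (z : Ω) ∈ P := h.mem_of_cent hg hu.1 fun v hv => by
      have h1 : v = θ z * v * (θ z)⁻¹ :=
        (congrArg Subtype.val (hfix ⟨v, hPNb hv⟩ hv)).symm.trans (huv _)
      calc v * θ z = θ z * v * (θ z)⁻¹ * θ z := by rw [← h1]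
        _ = θ z * v := by group
    set κN : MulAut N := (MulAut.conj (Subgroup.inclusion hPN ⟨z, hzP⟩))⁻¹ * γ with hκN
    have hκNK : κN ∈ kerAut F Z N h.fix := by
      have hiF : MulAut.conj (Subgroup.inclusion hPN ⟨z, hzP⟩) ∈ F.autGroup N :=
        inn_le_autGroup hNS ⟨_, rfl⟩
      refine (h.ker_iff hNS (mul_mem (inv_mem hiF) (preAut_le hNT hγM))).2 fun x => ?_
      refine Subtype.ext ?_
      rw [← map_inv, MulAut.mul_apply, MulAut.conj_apply, inv_inv, map_mul, map_mul, ← hg'v,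
        map_inv, Subgroup.coe_mul, Subgroup.coe_mul, Subgroup.coe_inv, huv]
      rw [show ((pr θ hNS (Subgroup.inclusion hPN ⟨(z : Ω), hzP⟩) : imageAlong θ N) : Ω') = θ z
        from rfl]
      group
    -- the kernel element restricts
    set i : MulAut P := MulAut.conj ⟨(z : Ω), hzP⟩ with hi
    set κP : MulAut P := i⁻¹ * d with hκP
    have hκPv : ∀ x : P, κN (Subgroup.inclusion hPN x) = Subgroup.inclusion hPN (κP x) := fun x => by
      show (MulAut.conj (Subgroup.inclusion hPN ⟨(z : Ω), hzP⟩))⁻¹ (γ (Subgroup.inclusion hPN x)) =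
        Subgroup.inclusion hPN (i⁻¹ (d x))
      rw [hγd, hi]
      refine Subtype.ext ?_
      simp
    obtain ⟨n, hn⟩ := hup N hgN hlt χ hχ κN hκNK.1 hκNK.2
    have hiI : i ∈ Inn P := ⟨_, rfl⟩
    have hκPK : κP ∈ kerAut F Z P h.fix := by
      refine ⟨mul_mem (inv_mem (inn_le_autGroup hPS hiI)) hdK.1, fun x => ?_⟩
      have e := congrArg Subtype.val (hκPv x)
      have h3 := hκNK.2 (Subgroup.inclusion hPN x)
      rw [Subgroup.coe_mul, Subgroup.coe_inv, e] at h3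
      exact h3
    set e₂ := a * κP * a⁻¹ * κP⁻¹ with he₂
    have he₂K : e₂ ∈ kerAut F Z P h.fix := mul_mem (h.ker_conj hPS hκPK ha) (inv_mem hκPK)
    have he₂n : ∀ x : P, ((e₂ x : P) : Ω) = (n : Ω) * (x : Ω) * (n : Ω)⁻¹ := fun x => by
      have e := congrArg (fun f : MulAut N => ((f (Subgroup.inclusion hPN x) : N) : Ω)) hn
      simp only [MulAut.conj_apply, Subgroup.coe_mul, Subgroup.coe_inv] at e
      refine Eq.trans ?_ e.symm
      rw [he₂]
      simp only [MulAut.mul_apply, hres hκPv, hres hχa, hκPv, hχa]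
      rfl
    have hnP : (n : Ω) ∈ P := h.mem_of_cent hg (t := ⟨n, hNS n.2⟩)
      (mem_preimageAlong.1 (hNT n.2)) fun v hv => by
      obtain ⟨x, hx⟩ := pr_surjective hPS ⟨v, hv⟩
      have h1 := congrArg Subtype.val ((h.ker_iff hPS he₂K.1).1 he₂K x)
      have hx' : θ ⟨(x : Ω), hPS x.2⟩ = v := congrArg Subtype.val hx
      have h2 : θ ⟨(n : Ω), hNS n.2⟩ * v * (θ ⟨(n : Ω), hNS n.2⟩)⁻¹ = v := by
        rw [← hx', ← map_inv, ← map_mul, ← map_mul]
        exact (congrArg θ (Subtype.ext (he₂n x).symm)).trans h1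
      calc v * θ ⟨(n : Ω), hNS n.2⟩ =
          θ ⟨(n : Ω), hNS n.2⟩ * v * (θ ⟨(n : Ω), hNS n.2⟩)⁻¹ * θ ⟨(n : Ω), hNS n.2⟩ := by rw [h2]
        _ = _ := by group
    have he₂I : e₂ ∈ Inn P := ⟨⟨n, hnP⟩, MulEquiv.ext fun x => Subtype.ext (he₂n x).symm⟩
    have e : y * d * y⁻¹ * d⁻¹ = (a * i * a⁻¹) * e₂ * i⁻¹ := by
      rw [hda d hdK, he₂, show d = i * κP by rw [hκP]; group]
      group
    rw [e]
    exact mul_mem (mul_mem (inn_conj_mem a hiI) he₂I) (inv_mem hiI)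

end Setup

end CfsgLib.Fusion.CentralLift
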