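import Cfsg.Agent.Lib.Fusion.CentralLiftLocal
import Cfsg.Agent.Lib.Fusion.Alperin
import Cfsg.Agent.Lib.Fusion.KNormalizer

/-!
# The system generated by the canonical automorphisms
-/

set_option autoImplicit false
set_option linter.unusedSectionVars false
set_option maxHeartbeats 1000000

namespace CfsgLib.Fusion.CentralLift

open Cfsg Cfsg.FusionSystem CfsgLib.Fusion

variable {Ω Ω' : Type*} [Group Ω] [Group Ω'] {S : Subgroup Ω} {S' T' : Subgroup Ω'}

/-- Maps generated by the canonical automorphisms of the good subgroups. -/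
inductive GenLift (F : FusionSystem S) (Z : Subgroup Ω) (θ : S →* Ω') (Eb : FusionSystem T')
    (p : ℕ) : ∀ {P : Subgroup Ω}, (P →* Ω) → Prop
  | incl {P : Subgroup Ω} (φ : P →* Ω) (hP : P ≤ preimageAlong θ T') (hφ : ∀ x, φ x = x) :
      GenLift F Z θ Eb p φ
  | step {P R : Subgroup Ω} {φ : P →* Ω} (hR : Good θ Eb Z R) (a : MulAut R)
      (ha : a ∈ canAut F θ Eb p R) (h : GenLift F Z θ Eb p φ) (hle : ∀ x, φ x ∈ R) (χ : P →* Ω)
      (hχ : ∀ x, χ x = ((a ⟨φ x, hle x⟩ : R) : Ω)) : GenLift F Z θ Eb p χ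

variable {F : FusionSystem S} {θ : S →* Ω'} {Fb : FusionSystem S'} {Eb : FusionSystem T'}
  {Z : Subgroup Ω} {p : ℕ}

theorem GenLift.mem_pre {P : Subgroup Ω} {φ : P →* Ω} (h : GenLift F Z θ Eb p φ) :
    φ ∈ (preSystem F θ Eb).Hom P := by
  induction h with
  | incl φ hP hφ => exact hom_congr (incl_mem hP) hφ
  | step hR a ha h hle χ hχ ih =>
      exact comp_mem' ih ((mem_autGroup_iff hR.le).1 (canAut_le _ ha)) hle hχ

theorem GenLift.mem {P : Subgroup Ω} {φ : P →* Ω} (h : GenLift F Z θ Eb p φ) : φ ∈ F.Hom P :=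
  preSystem_le P h.mem_pre

theorem GenLift.congr {P : Subgroup Ω} {φ ψ : P →* Ω} (h : GenLift F Z θ Eb p φ)
    (he : ∀ x, ψ x = φ x) : GenLift F Z θ Eb p ψ := by
  obtain rfl : ψ = φ := MonoidHom.ext he
  exact h

theorem GenLift.comp {Q : Subgroup Ω} {ψ : Q →* Ω} (hψ : GenLift F Z θ Eb p ψ) :
    ∀ {P : Subgroup Ω} {φ : P →* Ω}, GenLift F Z θ Eb p φ → ∀ h : ∀ x, φ x ∈ Q,
      ∀ {χ : P →* Ω}, (∀ x, χ x = ψ ⟨φ x, h x⟩) → GenLift F Z θ Eb p χ := by
  induction hψ with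
  | incl ψ hP hψ => exact fun hφ h χ hχ => hφ.congr fun x => (hχ x).trans (hψ _)
  | @step R ψ hR a ha hψ hle ψ' hψ' ih =>
      intro P φ hφ h χ hχ
      exact GenLift.step hR a ha (ih hφ h (χ := ψ.comp (φ.codRestrict _ h)) fun _ => rfl)
        (fun x => hle _) χ fun x => (hχ x).trans (hψ' _)

theorem GenLift.inv {P : Subgroup Ω} {φ : P →* Ω} (h : GenLift F Z θ Eb p φ) :
    ∃ ψ : φ.range →* Ω, GenLift F Z θ Eb p ψ ∧ ∀ x : P, ψ ⟨φ x, ⟨x, rfl⟩⟩ = x := by
  induction h with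
  | incl φ hP hφ =>
      refine ⟨φ.range.subtype, GenLift.incl _ ?_ fun _ => rfl, fun x => hφ x⟩
      rintro _ ⟨x, rfl⟩
      rw [hφ]
      exact hP x.2
  | @step R φ hR a ha h hle χ hχ ih =>
      obtain ⟨ψ, hψ, hψv⟩ := ih
      have hle' : χ.range ≤ R := by
        rintro _ ⟨x, rfl⟩
        rw [hχ]
        exact (a _).2
      set b : χ.range →* Ω := (R.subtype.comp (a⁻¹).toMonoidHom).comp (Subgroup.inclusion hle')
        with hb
      have hbv : ∀ x : P, b ⟨χ x, ⟨x, rfl⟩⟩ = φ x := fun x => by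
        have h1 : (⟨χ x, hle' ⟨x, rfl⟩⟩ : R) = a ⟨φ x, hle x⟩ := Subtype.ext (hχ x)
        show ((a⁻¹ ⟨χ x, hle' ⟨x, rfl⟩⟩ : R) : Ω) = φ x
        rw [h1, MulAut.inv_apply_self]
      have hbG : GenLift F Z θ Eb p b :=
        GenLift.step hR a⁻¹ (Subgroup.inv_mem _ ha)
          (GenLift.incl χ.range.subtype (hle'.trans hR.le) fun _ => rfl) (fun y => hle' y.2) b
          fun _ => rfl
      have hmem : ∀ y, b y ∈ φ.range := by
        rintro ⟨_, x, rfl⟩
        exact ⟨x, (hbv x).symm⟩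
      refine ⟨ψ.comp (b.codRestrict _ hmem), GenLift.comp hψ hbG hmem fun _ => rfl, fun x => ?_⟩
      show ψ ⟨b ⟨χ x, _⟩, _⟩ = x
      simp only [hbv]
      exact hψv x

/-- An element of the domain normalizing `W` is sent into the normalizer of the image of `W`. -/
theorem map_normalizes {M W W' : Subgroup Ω} {φ : M →* Ω} (hWM : W ≤ M)
    (hn : M ≤ Subgroup.normalizer (W : Set Ω)) [Finite W']
    (hinj : Function.Injective φ) (hW : ∀ x : M, (x : Ω) ∈ W → φ x ∈ W')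
    (hcard : Nat.card W' ≤ Nat.card W) (g : M) :
    φ g ∈ Subgroup.normalizer (W' : Set Ω) := by
  have himg : img φ W = W' := Subgroup.eq_of_le_of_card_ge
    (by rintro _ ⟨x, hx, rfl⟩; exact hW x hx) (by rwa [card_img hinj hWM])
  rw [Subgroup.mem_normalizer_iff_map_conj_eq]
  refine Subgroup.eq_of_le_of_card_ge ?_
    (Subgroup.card_map_of_injective (MulAut.conj (φ g)).injective).ge
  rintro _ ⟨y, hy, rfl⟩
  obtain ⟨x, hx, rfl⟩ := himg.ge hy
  show φ g * φ x * (φ g)⁻¹ ∈ W'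
  rw [← map_inv, ← map_mul, ← map_mul]
  exact hW _ (by
    show (g : Ω) * (x : Ω) * (g : Ω)⁻¹ ∈ W
    exact conj_mem_of_mem_normalizer (hn g.2) hx)

namespace Setup

variable [Fact p.Prime] [Finite S] (h : Setup p F Z θ Fb Eb)
include h

theorem conjLift {P : Subgroup Ω} (hP : P ≤ preimageAlong θ T') {t : Ω}
    (ht : t ∈ preimageAlong θ T') : GenLift F Z θ Eb p (conjHom P t) := by
  have htN : t ∈ Subgroup.normalizer (preimageAlong θ T' : Set Ω) := Subgroup.le_normalizer ht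
  exact GenLift.step h.good_top ((preimageAlong θ T').normalizerMonoidHom ⟨t, htN⟩)
    (h.autInducedBy_le_canAut le_rfl (mem_autInducedBy_iff.2 ⟨t, ht, fun x => rfl⟩))
    (GenLift.incl P.subtype hP fun _ => rfl) (fun x => hP x.2) _ fun x => rfl

/-- The generated system. -/
def liftSys : FusionSystem (preimageAlong θ T') where
  Hom P := {φ | GenLift F Z θ Eb p φ}
  le_of_mem hφ := (preSystem F θ Eb).le_of_mem hφ.mem_pre
  injective_of_mem hφ := F.injective_of_mem hφ.mem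
  conj_mem hP hg := h.conjLift hP hg
  comp_mem hφ hψ hh := GenLift.comp hψ hφ hh fun _ => rfl
  inv_mem hφ := GenLift.inv hφ

theorem liftSys_sub : h.liftSys.IsSubsystemOf F := fun _ _ hφ => GenLift.mem hφ

theorem canAut_le_liftSys {R : Subgroup Ω} (hR : Good θ Eb Z R) :
    canAut F θ Eb p R ≤ h.liftSys.autGroup R := fun a ha =>
  (mem_autGroup_iff hR.le).2 (GenLift.step hR a ha (GenLift.incl R.subtype hR.le fun _ => rfl)
    (fun x => x.2) _ fun _ => rfl)

/-- Generated maps extend over `Z`. -/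
theorem extend_Z {P : Subgroup Ω} {φ : P →* Ω} (hφ : GenLift F Z θ Eb p φ) :
    ∃ ψ : ↥(P ⊔ Z) →* Ω, GenLift F Z θ Eb p ψ ∧
      ∀ x : P, ψ (Subgroup.inclusion le_sup_left x) = φ x := by
  induction hφ with
  | incl φ hP hφ =>
      exact ⟨Subgroup.subtype _, GenLift.incl _ (sup_le hP h.zle') fun _ => rfl,
        fun x => (hφ x).symm⟩
  | @step R φ hR a ha hφ hle χ hχ ih =>
      obtain ⟨ψ, hψ, hψv⟩ := ih
      have hm : ∀ z, ψ z ∈ R := apply_mem_of_sup (fun x => (hψv x).symm ▸ hle x) fun z => by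
        rw [h.fix_hom hψ.mem (Subgroup.inclusion le_sup_right z) z.2]
        exact hR.zle z.2
      refine ⟨(R.subtype.comp a.toMonoidHom).comp (ψ.codRestrict R hm),
        GenLift.step hR a ha hψ hm _ fun _ => rfl, fun x => ?_⟩
      rw [hχ]
      exact congrArg (fun z => ((a z : R) : Ω)) (Subtype.ext (hψv x))

theorem good_preimage {P' : Subgroup Ω'} (hP' : Eb.IsCentric P') :
    Good θ Eb Z (preimageAlong θ P') := by
  refine ⟨ker_le_preimageAlong h.zle h.ker P', preimageAlong_mono hP'.1, ?_⟩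
  rw [imageAlong_preimageAlong (hP'.1.trans (h.tclosed'.1.trans h.range.ge))]
  exact hP'

/-- A canonical automorphism over a given one. -/
theorem exists_canCover {Q : Subgroup Ω} (hQ : Good θ Eb Z Q) {b : MulAut (imageAlong θ Q)}
    (hb : b ∈ Eb.autGroup (imageAlong θ Q)) :
    ∃ c ∈ canAut F θ Eb p Q, ∀ x : Q, b (pr θ hQ.leS x) = pr θ hQ.leS (c x) := by
  obtain ⟨a, ha, hav⟩ := h.exists_cover hQ.zle hQ.le hb
  obtain ⟨c, hc, hck⟩ := h.exists_canAut hQ ha
  refine ⟨c, hc, fun x => ?_⟩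
  have hk' := h.ker_conj hQ.leS hck (preAut_le hQ.le (canAut_le Q hc))
  have e : c * (c⁻¹ * a) * c⁻¹ = a * c⁻¹ := by group
  rw [e] at hk'
  rw [hav]
  have h1 := (h.ker_iff hQ.leS hk'.1).1 hk' (c x)
  rwa [MulAut.mul_apply, MulAut.inv_apply_self] at h1

/-- Every map of `Eb` lifts to a generated one. -/
theorem exists_genLift {P' : Subgroup Ω'} {φ' : P' →* Ω'} (hφ' : φ' ∈ Eb.Hom P') :
    ∃ φ : preimageAlong θ P' →* Ω, GenLift F Z θ Eb p φ ∧ InducedAlong θ φ φ' := by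
  classical
  have hrg : ∀ {U : Subgroup Ω'}, U ≤ T' → U ≤ θ.range := fun hU =>
    hU.trans (h.tclosed'.1.trans h.range.ge)
  have hle : ∀ {U : Subgroup Ω'}, U ≤ T' → preimageAlong θ U ≤ preimageAlong θ T' :=
    fun hU => preimageAlong_mono hU
  let E' : FusionSystem T' :=
    { Hom := fun U => {ψ | ψ ∈ Eb.Hom U ∧
        ∃ φ : preimageAlong θ U →* Ω, GenLift F Z θ Eb p φ ∧ InducedAlong θ φ ψ}
      le_of_mem := fun hψ => Eb.le_of_mem hψ.1
      injective_of_mem := fun hψ => Eb.injective_of_mem hψ.1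
      conj_mem := fun {U g} hU hg => by
        obtain ⟨s, rfl⟩ := hrg le_rfl hg
        refine ⟨Eb.conj_mem hU hg, conjHom _ (s : Ω),
          h.conjLift (hle hU) (mem_preimageAlong.2 hg), preimageAlong_le θ U,
          fun x => S.mul_mem (S.mul_mem s.2 (preimageAlong_le θ U x.2)) (S.inv_mem s.2),
          fun x => mem_preimageAlong.1 x.2, fun x => ?_⟩
        show θ s * θ ⟨x, _⟩ * (θ s)⁻¹ = θ _
        rw [← map_inv, ← map_mul, ← map_mul]
        rfl
      comp_mem := by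
        rintro U V ψ χ ⟨hψ, φ, hφ, hU, hφS, hm, hv⟩ ⟨hχ, φ₂, hφ₂, hV, hφ₂S, hm₂, hv₂⟩ hh
        have hmem : ∀ x, φ x ∈ preimageAlong θ V := fun x =>
          (mem_preimageAlong (x := ⟨φ x, hφS x⟩)).2 (hv x ▸ hh _)
        refine ⟨Eb.comp_mem hψ hχ hh, _,
          GenLift.comp hφ₂ hφ hmem (χ := φ₂.comp (φ.codRestrict _ hmem)) fun _ => rfl, hU,
          fun x => hφ₂S _, hm, fun x => ?_⟩
        exact (congrArg χ (Subtype.ext (hv x))).trans (hv₂ ⟨φ x, hmem x⟩)
      inv_mem := by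
        rintro U ψ ⟨hψ, φ, hφ, hU, hφS, hm, hv⟩
        obtain ⟨ψ₂, hψ₂, hψ₂v⟩ := Eb.inv_mem hψ
        obtain ⟨φ₂, hφ₂, hφ₂v⟩ := GenLift.inv hφ
        have hr : preimageAlong θ ψ.range ≤ φ.range := by
          rintro _ ⟨s, ⟨y, hy⟩, rfl⟩
          obtain ⟨x, hx⟩ := exists_preimage (hrg (hom_le hψ)) y
          rw [show y = ⟨_, hm x⟩ from Subtype.ext hx.symm, hv x] at hy
          have hz : ((⟨φ x, hφS x⟩⁻¹ * s : S) : Ω) ∈ Z := by
            rw [← h.ker, map_mul, map_inv, hy, inv_mul_cancel]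
          set z : preimageAlong θ U :=
            ⟨_, ker_le_preimageAlong h.zle h.ker U hz⟩
          refine ⟨x * z, ?_⟩
          rw [map_mul, h.fix_hom hφ.mem z hz]
          exact mul_inv_cancel_left (φ x) (s : Ω)
        refine ⟨ψ₂, ⟨hψ₂, φ₂.comp (Subgroup.inclusion hr),
          GenLift.comp hφ₂ (GenLift.incl (preimageAlong θ ψ.range).subtype
            (hle (hom_range_le hψ)) fun _ => rfl) (fun y => hr y.2) fun _ => rfl,
          preimageAlong_le θ _, fun y => hom_apply_mem hφ₂.mem _,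
          fun y => mem_preimageAlong.1 y.2, fun y => ?_⟩, hψ₂v⟩
        obtain ⟨x, hx⟩ := hr y.2
        have e1 : θ ⟨φ₂ (Subgroup.inclusion hr y), hom_apply_mem hφ₂.mem _⟩ =
            θ ⟨(x : Ω), hU x.2⟩ := by
          refine congrArg θ (Subtype.ext ?_)
          exact (congrArg φ₂ (Subtype.ext hx.symm)).trans (hφ₂v x)
        refine Eq.trans ?_ e1.symm
        refine Eq.trans (congrArg ψ₂ (Subtype.ext ?_)) (hψ₂v ⟨_, hm x⟩)
        refine Eq.trans ?_ (hv x).symm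
        exact congrArg θ (Subtype.ext hx.symm) }
  have := h.tfinite'
  have hE : Eb ≤ E' := alperin h.tgroup' h.esat E' fun U hU b hb => by
    have hUc : Eb.IsCentric U := by
      rcases hU with rfl | hU
      · exact isCentric_self
      · exact hU.1
    have hg := h.good_preimage hUc
    set Q := preimageAlong θ U with hQ
    have heq : imageAlong θ Q = U := imageAlong_preimageAlong (hrg hUc.1)
    obtain ⟨b', hb', hbb'⟩ : ∃ b' ∈ Eb.autGroup (imageAlong θ Q), ∀ (y : Ω') (h₁ : y ∈ imageAlong θ Q)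
        (h₂ : y ∈ U), ((b' ⟨y, h₁⟩ : _) : Ω') = b ⟨y, h₂⟩ := by
      revert b
      generalize hW : imageAlong θ Q = W
      rw [hW] at heq
      subst heq
      exact fun b hb => ⟨b, hb, fun y h₁ h₂ => rfl⟩
    obtain ⟨c, hc, hcv⟩ := h.exists_canCover hg hb'
    refine (mem_autGroup_iff hUc.1).2 ⟨(mem_autGroup_iff hUc.1).1 hb, _,
      (mem_autGroup_iff hg.le).1 (h.canAut_le_liftSys hg hc), hg.leS,
      fun x => hg.leS (c x).2, fun x => mem_preimageAlong.1 x.2, fun x => ?_⟩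
    exact (hbb' _ (pr θ hg.leS x).2 ((mem_preimageAlong (θ := θ) (P' := U) (x := ⟨x, hg.leS x.2⟩)).1 x.2)).symm.trans
      (congrArg Subtype.val (hcv x))
  exact (hE P' hφ').2

end Setup

end CfsgLib.Fusion.CentralLift
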