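import Cfsg.Agent.Lib.Fusion.CentralLiftSystem
import Cfsg.Agent.Lib.Fusion.PrimeIndexGen

/-!
# The lifted system is invariant
-/

set_option autoImplicit false
set_option linter.unusedSectionVars false
set_option maxHeartbeats 1000000

namespace CfsgLib.Fusion.CentralLift

open Cfsg Cfsg.FusionSystem CfsgLib.Fusion

variable {Ω Ω' : Type*} [Group Ω] [Group Ω'] {S : Subgroup Ω} {S' T' : Subgroup Ω'}
variable {F : FusionSystem S} {θ : S →* Ω'} {Fb : FusionSystem S'} {Eb : FusionSystem T'}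
  {Z : Subgroup Ω} {p : ℕ}

namespace Setup

variable [Fact p.Prime] [Finite S] (h : Setup p F Z θ Fb Eb)
include h

theorem genLift_topConj {P : Subgroup Ω} {φ : P →* Ω} (hφ : GenLift F Z θ Eb p φ)
    {α : MulAut ↥(preimageAlong θ T')} (hα : α ∈ F.autGroup (preimageAlong θ T')) :
    ∀ {P' : Subgroup Ω} (hP' : P' ≤ preimageAlong θ T')
      (h1 : ∀ y : P', ((α⁻¹ (Subgroup.inclusion hP' y) : ↥(preimageAlong θ T')) : Ω) ∈ P)
      (h2 : ∀ x, φ x ∈ preimageAlong θ T'),
      GenLift F Z θ Eb p (CfsgLib.Fusion.topConj α φ hP' h1 h2) := by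
  induction hφ with
  | incl φ hP hφ =>
      intro P' hP' h1 h2
      refine GenLift.incl _ hP' fun y => ?_
      rw [CfsgLib.Fusion.topConj_apply]
      have h3 : (⟨φ ⟨_, h1 y⟩, h2 _⟩ : ↥(preimageAlong θ T')) =
          α⁻¹ (Subgroup.inclusion hP' y) := Subtype.ext (hφ _)
      rw [h3, MulAut.apply_inv_self]
      rfl
  | @step R φ hR a ha hφ hle χ hχ ih =>
      intro P' hP' h1 h2
      have hαF := (mem_autGroup_iff (preimageAlong_le θ T')).1 hα
      obtain ⟨e, he, hev⟩ := exists_iso (restrict_mem hαF hR.le) rfl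
      have h2' : ∀ x, φ x ∈ preimageAlong θ T' := fun x => hR.le (hle x)
      refine GenLift.step (h.good_congr hR he) (MulAut.congr e a) (h.canAut_congr hR.le he ha)
        (ih hP' h1 h2') (fun y => ⟨⟨_, hle ⟨_, h1 y⟩⟩, rfl⟩) _ fun y => ?_
      rw [CfsgLib.Fusion.topConj_apply]
      have h3 : (⟨CfsgLib.Fusion.topConj α φ hP' h1 h2' y,
          ⟨⟨_, hle ⟨_, h1 y⟩⟩, rfl⟩⟩ : _) = e ⟨φ ⟨_, h1 y⟩, hle _⟩ :=
        Subtype.ext (hev ⟨φ ⟨_, h1 y⟩, hle _⟩).symm
      rw [h3]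
      simp only [MulAut.congr, MulEquiv.coe_mk, Equiv.coe_fn_mk, MulEquiv.trans_apply,
        MulEquiv.symm_apply_apply]
      rw [hev]
      show ((α ⟨χ ⟨_, h1 y⟩, h2 _⟩ : ↥(preimageAlong θ T')) : Ω) =
        ((α ⟨a ⟨φ ⟨_, h1 y⟩, hle _⟩, _⟩ : ↥(preimageAlong θ T')) : Ω)
      congr 2
      exact Subtype.ext (hχ _)

/-- The maps decomposed as an automorphism of the preimage of `T'` after a generated one. -/
def decSys : FusionSystem (preimageAlong θ T') where
  Hom P := {φ | ∃ α ∈ F.autGroup (preimageAlong θ T'), ∃ φ₀ : P →* Ω, GenLift F Z θ Eb p φ₀ ∧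
    ∀ (x : P) (hx : φ₀ x ∈ preimageAlong θ T'),
      φ x = ((α ⟨φ₀ x, hx⟩ : ↥(preimageAlong θ T')) : Ω)}
  le_of_mem := by
    rintro P φ ⟨α, -, φ₀, hφ₀, hv⟩
    refine ⟨hom_le (F := h.liftSys) hφ₀, fun x => ?_⟩
    rw [hv x (hom_apply_mem (F := h.liftSys) hφ₀ x)]
    exact SetLike.coe_mem _
  injective_of_mem := by
    rintro P φ ⟨α, -, φ₀, hφ₀, hv⟩ x y hxy
    rw [hv x (hom_apply_mem (F := h.liftSys) hφ₀ x), hv y (hom_apply_mem (F := h.liftSys) hφ₀ y)]
      at hxy
    exact h.liftSys.injective_of_mem hφ₀ (congrArg Subtype.val (α.injective (Subtype.ext hxy)) :)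
  conj_mem := fun {P g} hP hg => ⟨1, one_mem _, conjHom P g, h.conjLift hP hg, fun x hx => rfl⟩
  comp_mem := by
    rintro P Q φ ψ ⟨α, hα, φ₀, hφ₀, hv⟩ ⟨β, hβ, ψ₀, hψ₀, hw⟩ hh
    have hr : φ₀.range ≤ preimageAlong θ T' := hom_range_le (F := h.liftSys) hφ₀
    have h1 : ∀ y : φ₀.range,
        (((α⁻¹)⁻¹ (Subgroup.inclusion hr y) : ↥(preimageAlong θ T')) : Ω) ∈ Q := by
      rintro ⟨_, x, rfl⟩
      have e1 : φ x =
          (((α⁻¹)⁻¹ (Subgroup.inclusion hr ⟨φ₀ x, ⟨x, rfl⟩⟩) : ↥(preimageAlong θ T')) : Ω) := by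
        rw [inv_inv]
        exact hv x (hom_apply_mem (F := h.liftSys) hφ₀ x)
      exact e1 ▸ hh x
    have h2 := fun x => hom_apply_mem (F := h.liftSys) hψ₀ x
    have hc := h.genLift_topConj hψ₀ (inv_mem hα) hr h1 h2
    refine ⟨β * α, mul_mem hβ hα,
      (CfsgLib.Fusion.topConj α⁻¹ ψ₀ hr h1 h2).comp (φ₀.codRestrict _ fun x => ⟨x, rfl⟩),
      GenLift.comp hc hφ₀ (fun x => ⟨x, rfl⟩) fun _ => rfl, fun x hx => ?_⟩
    show ψ ⟨φ x, hh x⟩ = _
    rw [hw _ (h2 _), MulAut.mul_apply]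
    congr 2
    have e2 : ∀ w, (⟨(CfsgLib.Fusion.topConj α⁻¹ ψ₀ hr h1 h2).comp
        (φ₀.codRestrict _ fun x => ⟨x, rfl⟩) x, w⟩ : ↥(preimageAlong θ T')) =
        α⁻¹ ⟨ψ₀ ⟨_, h1 ⟨φ₀ x, ⟨x, rfl⟩⟩⟩, h2 _⟩ := fun w => Subtype.ext rfl
    rw [e2, MulAut.apply_inv_self]
    refine Subtype.ext (congrArg ψ₀ (Subtype.ext ?_))
    refine (hv x (hom_apply_mem (F := h.liftSys) hφ₀ x)).trans ?_
    exact (congrArg Subtype.val (DFunLike.congr_fun (inv_inv α).symm
      (Subgroup.inclusion hr ⟨φ₀ x, ⟨x, rfl⟩⟩)) :)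
  inv_mem := by
    rintro P φ ⟨α, hα, φ₀, hφ₀, hv⟩
    obtain ⟨φi, hφi, hφiv⟩ := GenLift.inv hφ₀
    have hφ₀T := fun x => hom_apply_mem (F := h.liftSys) hφ₀ x
    have hrT : φ.range ≤ preimageAlong θ T' := by
      rintro _ ⟨x, rfl⟩
      rw [hv x (hφ₀T x)]
      exact SetLike.coe_mem _
    have h1 : ∀ y : φ.range,
        ((α⁻¹ (Subgroup.inclusion hrT y) : ↥(preimageAlong θ T')) : Ω) ∈ φ₀.range := by
      rintro ⟨_, x, rfl⟩
      refine ⟨x, ?_⟩
      rw [show Subgroup.inclusion hrT ⟨φ x, ⟨x, rfl⟩⟩ = α ⟨φ₀ x, hφ₀T x⟩ from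
        Subtype.ext (hv x _), MulAut.inv_apply_self]
    have h2 := fun y => hom_apply_mem (F := h.liftSys) hφi y
    have hc := h.genLift_topConj hφi hα hrT h1 h2
    refine ⟨φi.comp (((preimageAlong θ T').subtype.comp (α⁻¹).toMonoidHom).comp
      (Subgroup.inclusion hrT) |>.codRestrict φ₀.range h1),
      ⟨α⁻¹, inv_mem hα, _, hc, fun y hy => ?_⟩, fun x => ?_⟩
    · have e : (⟨CfsgLib.Fusion.topConj α φi hrT h1 h2 y, hy⟩ : ↥(preimageAlong θ T')) =
          α ⟨φi ⟨_, h1 y⟩, h2 _⟩ := Subtype.ext rfl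
      rw [e, MulAut.inv_apply_self]
      rfl
    · refine Eq.trans (congrArg φi (Subtype.ext ?_)) (hφiv x)
      show ((α⁻¹ (Subgroup.inclusion hrT ⟨φ x, _⟩) : ↥(preimageAlong θ T')) : Ω) = φ₀ x
      rw [show Subgroup.inclusion hrT ⟨φ x, ⟨x, rfl⟩⟩ = α ⟨φ₀ x, hφ₀T x⟩ from
        Subtype.ext (hv x _), MulAut.inv_apply_self]

theorem gen_mem_decSys {P : Subgroup Ω} {φ : P →* Ω} (hφ : GenLift F Z θ Eb p φ) :
    φ ∈ h.decSys.Hom P := ⟨1, one_mem _, φ, hφ, fun _ _ => rfl⟩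

/-- Every map between subgroups of the preimage decomposes. -/
theorem hom_mem_decSys : ∀ (n : ℕ) {P : Subgroup Ω}, P ≤ preimageAlong θ T' →
    Nat.card ↥(preimageAlong θ T') - Nat.card P ≤ n → ∀ φ ∈ F.Hom P, φ ∈ h.decSys.Hom P := by
  classical
  intro n
  induction n using Nat.strong_induction_on with
  | _ n ih =>
    intro P hPT hn φ hφ
    have hTS := preimageAlong_le θ T'
    have := finite_le hTS
    have := h.tfinite'
    have := h.bfinite
    have hTc := h.tclosed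
    have hup : ∀ {U : Subgroup Ω}, U ≤ preimageAlong θ T' → Nat.card P < Nat.card U →
        ∀ ψ ∈ F.Hom U, ψ ∈ h.decSys.Hom U := fun {U} hU hlt => by
      have := Subgroup.card_le_of_le hU
      exact ih (Nat.card ↥(preimageAlong θ T') - Nat.card U) (by omega) hU le_rfl
    rcases eq_or_lt_of_le hPT with hPe | hPlt
    · subst hPe
      obtain ⟨e, he, hev⟩ := exists_iso hφ ((StronglyClosed.weaklyClosed hTc).2 φ hφ)
      exact ⟨e, (mem_autGroup_iff_isoIn hTS).2 he, Subgroup.subtype _,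
        GenLift.incl _ le_rfl fun _ => rfl, fun x hx => (hev x).symm⟩
    by_cases hZP : Z ≤ P
    swap
    · obtain ⟨ψ, hψ, hψP, -⟩ := h.cen.2 P φ hφ
      have hlt : P < P ⊔ Z := lt_of_le_of_ne le_sup_left fun e => hZP (le_sup_right.trans e.ge)
      have := finite_le (sup_le (hPT.trans hTS) h.zle)
      have h1 := hup (sup_le hPT h.zle') (lt_of_le_of_ne (Subgroup.card_le_of_le hlt.le) fun e =>
        hlt.ne (Subgroup.eq_of_le_of_card_ge hlt.le e.ge)) ψ hψ
      exact restrict_mem' h1 le_sup_left fun x => (hψP x).symm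
    obtain ⟨Q, hPQ, hQ⟩ := exists_fullyNormalized (F := F) (hPT.trans hTS)
    have hTp : IsPGroup p ↥(preimageAlong θ T') := h.pgroup.to_le hTS
    have hmove : ∀ {A : Subgroup Ω}, F.IsConj A Q → A ≤ preimageAlong θ T' →
        ∃ f : A ≃* Q, IsoIn F f ∧ (isoHom f) ∈ h.decSys.Hom A := by
      intro A hA hAT
      obtain ⟨f, hf, -, himg⟩ := exists_normalizer_map h.pgroup
        (IsSaturated.fullyAutomized h.pgroup h.sat hQ)
        (IsSaturated.receptive h.pgroup h.sat (IsSaturated.fullyCentralized h.pgroup h.sat hQ)) hA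
      have hAN : A ≤ normalizerIn (preimageAlong θ T') A := le_normalizerIn hAT
      have hle : normalizerIn (preimageAlong θ T') A ≤ normalizerIn S A :=
        fun x hx => ⟨hTS hx.1, hx.2⟩
      have hcard : Nat.card A = Nat.card P := (isConj_card hA).trans (isConj_card hPQ).symm
      have hAlt : A < normalizerIn (preimageAlong θ T') A :=
        lt_normalizerIn hTp (lt_of_le_of_ne hAT fun e => hPlt.ne
          (Subgroup.eq_of_le_of_card_ge hPT (by rw [← hcard, e])))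
      have := finite_le ((normalizerIn_le (S := preimageAlong θ T') A).trans hTS)
      have h1 := hup (normalizerIn_le A) (by
        rw [← hcard]
        exact lt_of_le_of_ne (Subgroup.card_le_of_le hAN) fun e =>
          hAlt.ne (Subgroup.eq_of_le_of_card_ge hAN e.ge)) _ (restrict_mem hf hle)
      obtain ⟨a, ha, hav⟩ := exists_iso (P := A) (Q := Q)
        (restrict_mem hf (le_normalizerIn (hAT.trans hTS))) (by rw [range_restrict, himg])
      exact ⟨a, ha, hom_congr (restrict_mem h1 hAN) fun x => hav x⟩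
    have hrT : φ.range ≤ preimageAlong θ T' := by
      rintro _ ⟨x, rfl⟩
      exact hTc.2 P hPT φ hφ x
    obtain ⟨f, hf, hfD⟩ := hmove hPQ hPT
    obtain ⟨d, hd, hdv⟩ := exists_iso hφ rfl
    obtain ⟨f', hf', hf'D⟩ := hmove (isConj_trans (isConj_symm hd.isConj) hPQ) hrT
    set β : MulAut Q := f.symm.trans (d.trans f') with hβ
    have hβF : β ∈ F.autGroup Q := (mem_autGroup_iff_isoIn hQ.1).2 (hf.symm.trans (hd.trans hf'))
    have hQT : Q ≤ preimageAlong θ T' := fun y hy => by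
      have h1 := hTc.2 P hPT _ hf.mem (f.symm ⟨y, hy⟩)
      rwa [isoHom_apply, MulEquiv.apply_symm_apply] at h1
    suffices hβD : β ∈ h.decSys.autGroup Q by
      have h1 : IsoIn h.decSys (f.trans ((β : Q ≃* Q).trans f'.symm)) :=
        IsoIn.trans hfD (((mem_autGroup_iff_isoIn hQT).1 hβD).trans
          (IsoIn.symm (F := h.decSys) hf'D))
      refine hom_congr h1.mem fun x => ?_
      rw [← hdv, isoHom_apply, hβ]
      simp
    have hcardQ : Nat.card P = Nat.card Q := isConj_card hPQ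
    have hQlt : Q < preimageAlong θ T' := lt_of_le_of_ne hQT fun e => hPlt.ne
      (Subgroup.eq_of_le_of_card_ge hPT (by rw [hcardQ, e]))
    have hQS := hQ.1
    have hQfc := IsSaturated.fullyCentralized h.pgroup h.sat hQ
    have hrec := IsSaturated.receptive h.pgroup h.sat hQfc
    -- extendable automorphisms
    have hext : ∀ {γ : MulAut Q}, γ ∈ F.autGroup Q → ∀ {U : Subgroup Ω}, Q < U →
        U ≤ preimageAlong θ T' → U ≤ extender S Q (isoHom γ) → γ ∈ h.decSys.autGroup Q := by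
      intro γ hγ U hQU hUT hU
      obtain ⟨ψ, hψ, hag⟩ := exists_extension hrec ((mem_autGroup_iff_isoIn hQS).1 hγ) hQU.le hU
      have := finite_le (hUT.trans hTS)
      have h1 := hup hUT (by
        rw [hcardQ]
        exact lt_of_le_of_ne (Subgroup.card_le_of_le hQU.le) fun e =>
          hQU.ne (Subgroup.eq_of_le_of_card_ge hQU.le e.ge)) ψ hψ
      exact (mem_autGroup_iff hQT).2 (restrict_mem' h1 hQU.le fun x => (hag x).symm)
    have hZQ : Z ≤ Q := fun z hz => by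
      have h1 := h.fix_hom hf.mem ⟨z, hZP hz⟩ hz
      have h2 : ((f ⟨z, hZP hz⟩ : Q) : Ω) = z := h1
      exact h2 ▸ (f _).2
    have hI := h.image_le' hQT
    have hQb := h.fullyNormalized_bar hQ hZQ
    by_cases hcen : centralizerIn T' (imageAlong θ Q) ≤ imageAlong θ Q
    swap
    · obtain ⟨c', hc', hc'Q⟩ := SetLike.not_le_iff_exists.1 hcen
      obtain ⟨hc'T, hc'c⟩ := mem_centralizerIn.1 hc'
      obtain ⟨s, rfl⟩ := h.range.ge (h.tclosed'.1 hc'T)
      have hsT : (s : Ω) ∈ preimageAlong θ T' := mem_preimageAlong.2 hc'T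
      have hfixb : ∀ y ∈ imageAlong θ Q, θ s * y * (θ s)⁻¹ = y := fun y hy => by
        rw [← hc'c y hy]; group
      have hsN := h.normalizes hZQ hQS s fun y hy => (hfixb y hy).symm ▸ hy
      set τ : MulAut Q := Q.normalizerMonoidHom ⟨(s : Ω), hsN⟩
      have hτI : τ ∈ autInducedBy (preimageAlong θ T') Q :=
        mem_autInducedBy_iff.2 ⟨s, hsT, fun x => rfl⟩
      have hτK : τ ∈ kerAut F Z Q h.fix := by
        refine (h.ker_iff hQS (autInducedBy_le_autGroup hQS (autInducedBy_mono hTS hτI))).2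
          fun x => Subtype.ext ?_
        refine Eq.trans ?_ (hfixb _ (pr θ hQS x).2)
        rw [pr_coe, pr_coe, ← map_inv, ← map_mul, ← map_mul]
        rfl
      have hmem : β * τ * β⁻¹ ∈ autInducedBy S Q :=
        h.ker_induced hQ (h.ker_conj hQS hτK hβF)
      have hsE : (s : Ω) ∈ extender S Q (isoHom β) := by
        obtain ⟨g, hg, hgv⟩ := mem_autInducedBy_iff.1 hmem
        refine mem_extender_iff.2 ⟨s.2, hsN, g, hg, fun x hx => ?_⟩
        have h1 := hgv (β x)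
        rw [MulAut.mul_apply, MulAut.mul_apply, MulAut.inv_apply_self] at h1
        exact h1
      have hsQ : (s : Ω) ∉ Q := fun hs => hc'Q ⟨s, hs, rfl⟩
      refine hext hβF (U := Q ⊔ Subgroup.zpowers (s : Ω))
        (lt_of_le_of_ne le_sup_left fun e => hsQ (e.ge (Subgroup.mem_sup_right
          (Subgroup.mem_zpowers _)))) (sup_le hQT (Subgroup.zpowers_le.2 hsT))
        (sup_le (le_extender hQS fun x => hQS (β x).2) (Subgroup.zpowers_le.2 hsE))
    -- the centric case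
    have hTCen : TCentric Fb T' (imageAlong θ Q) := by
      refine ⟨hI, fun Q'' hQ'' c hc => ?_⟩
      obtain ⟨f'', hf'', -, himg⟩ := exists_normalizer_map h.bgroup
        (IsSaturated.fullyAutomized h.bgroup h.bsat hQb)
        (IsSaturated.receptive h.bgroup h.bsat (IsSaturated.fullyCentralized h.bgroup h.bsat hQb))
        (isConj_symm hQ'')
      have hQ''T : Q'' ≤ T' := by
        obtain ⟨χ, hχ, rfl⟩ := hQ''
        rintro _ ⟨y, rfl⟩
        exact h.tclosed'.2 _ hI χ hχ y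
      have hQ''S : Q'' ≤ S' := hQ''T.trans h.tclosed'.1
      have hcN : c ∈ normalizerIn S' Q'' :=
        centralizerIn_le_normalizerIn Q'' ⟨h.tclosed'.1 hc.1, hc.2⟩
      have h1 : f'' ⟨c, hcN⟩ ∈ centralizerIn T' (imageAlong θ Q) := by
        refine mem_centralizerIn.2 ⟨StronglyClosed.apply_mem h.tclosed' hf'' hc.1, fun y hy => ?_⟩
        obtain ⟨w, hw, rfl⟩ := himg.ge hy
        rw [← map_mul, ← map_mul]
        exact congrArg f'' (Subtype.ext ((mem_centralizerIn.1 hc).2 _ hw))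
      obtain ⟨w, hw, hwe⟩ := himg.ge (hcen h1)
      have h2 := congrArg Subtype.val (Fb.injective_of_mem hf'' hwe)
      have h3 : (w : Ω') = c := h2
      exact h3 ▸ hw
    have hg : Good θ Eb Z Q := ⟨hZQ, hQT, TCentric.isCentric h.einv.1 hTCen⟩
    have hbe := h.fullyNormalized_barE hQ hg
    have hsyl : IsSylowIn p (autInducedBy (preimageAlong θ T') Q) (canAut F θ Eb p Q) := by
      rw [← h.autGroup_eq hg]
      exact (h.liftSys_fullyAutomized hg hbe).2
    have := finite_mulAut_of_le (S := S) hQS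
    set L₀ := autInducedBy (preimageAlong θ T') Q
    have hL₀ := h.autInducedBy_le_canAut (P := Q) hg.le
    have hmap : L₀.map (MulAut.conj β).toMonoidHom ≤ canAut F θ Eb p Q := by
      rintro _ ⟨l, hl, rfl⟩
      exact h.canAut_conj hg.le (hL₀ hl) hβF
    obtain ⟨c, hc, hcv⟩ := IsSylowIn.exists_conj_mem hsyl hmap
      ((isPGroup_autInducedBy hTp).map _)
    have hcF : c ∈ F.autGroup Q := preAut_le hg.le (canAut_le Q hc)
    have hx : c * β ∈ h.decSys.autGroup Q := by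
      refine hext (mul_mem hcF hβF) (U := normalizerIn (preimageAlong θ T') Q)
        (lt_normalizerIn hTp hQlt) (normalizerIn_le Q) fun g hg' => ?_
      set τ : MulAut Q := Q.normalizerMonoidHom ⟨g, hg'.2⟩
      have hτ : τ ∈ L₀ := mem_autInducedBy_iff.2 ⟨g, hg'.1, fun x => rfl⟩
      have h1 : c * β * τ * (c * β)⁻¹ ∈ L₀ := by
        have := hcv _ ⟨τ, hτ, rfl⟩
        simpa [mul_assoc] using this
      obtain ⟨t, ht, htv⟩ := mem_autInducedBy_iff.1 h1
      refine mem_extender_iff.2 ⟨hTS hg'.1, hg'.2, t, hTS ht, fun x hx => ?_⟩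
      have h2 := htv ((c * β) x)
      rw [MulAut.mul_apply, MulAut.mul_apply, MulAut.inv_apply_self] at h2
      exact h2
    have hcD : c ∈ h.decSys.autGroup Q := (mem_autGroup_iff hQT).2
      (h.gen_mem_decSys ((mem_autGroup_iff (F := h.liftSys) hQT).1 (h.canAut_le_liftSys hg hc)))
    have := mul_mem (inv_mem hcD) hx
    rwa [inv_mul_cancel_left] at this

/-- The lifted system is invariant. -/
theorem liftSys_invariant : h.liftSys.IsInvariantIn F := by
  refine ⟨h.liftSys_sub, h.tclosed, fun P hPT φ hφ α hα => ?_, fun P hP φ hφ => ?_⟩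
  · set P' := (P.subgroupOf (preimageAlong θ T')).map
      ((preimageAlong θ T').subtype.comp α.toMonoidHom) with hP'def
    have hP'T : P' ≤ preimageAlong θ T' := by rintro _ ⟨z, -, rfl⟩; exact SetLike.coe_mem _
    have h1 : ∀ y : P', ((α⁻¹ (Subgroup.inclusion hP'T y) : ↥(preimageAlong θ T')) : Ω) ∈ P := by
      rintro ⟨_, z, hz, rfl⟩
      show ((α⁻¹ (α z) : ↥(preimageAlong θ T')) : Ω) ∈ P
      rw [MulAut.inv_apply_self]
      exact hz
    have hφT := fun x => hom_apply_mem (F := h.liftSys) hφ x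
    refine ⟨_, h.genLift_topConj hφ hα hP'T h1 hφT, fun x hφx hαx => ?_⟩
    rw [CfsgLib.Fusion.topConj_apply]
    congr 2
    refine Subtype.ext (congrArg φ (Subtype.ext ?_))
    show ((α⁻¹ (α ⟨x, hPT x.2⟩) : ↥(preimageAlong θ T')) : Ω) = x
    rw [MulAut.inv_apply_self]
  · obtain ⟨α, hα, φ₀, hφ₀, hv⟩ := h.hom_mem_decSys _ hP le_rfl φ hφ
    exact ⟨α, hα, φ₀, hφ₀, hv⟩

end Setup

/-- A normal subsystem of a central quotient lifts to an invariant saturated subsystem over the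
preimage. -/
theorem exists_lift [Fact p.Prime] [Finite S] (hS : IsPGroup p S) (hF : F.IsSaturated p)
    (hZ : F.IsCentral Z) (hFb : F.IsFactorSystem Z θ Fb) (hE : Eb.IsNormalIn Fb p) :
    ∃ D : FusionSystem (preimageAlong θ T'), D.IsSaturated p ∧ D.IsInvariantIn F ∧
      (∀ (P : Subgroup Ω) (φ : P →* Ω), φ ∈ D.Hom P →
        ∃ φ' ∈ Eb.Hom (imageAlong θ P), InducedAlong θ φ φ') ∧
      ∀ (P' : Subgroup Ω') (φ' : P' →* Ω'), φ' ∈ Eb.Hom P' →
        ∃ φ ∈ D.Hom (preimageAlong θ P'), InducedAlong θ φ φ' :=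
  have h : Setup p F Z θ Fb Eb := ⟨hS, hF, hZ, hFb, hE⟩
  ⟨h.liftSys, h.liftSys_saturated, h.liftSys_invariant, fun _ _ hφ => (GenLift.mem_pre hφ).2.2,
    fun _ _ hφ' => h.exists_genLift hφ'⟩

end CfsgLib.Fusion.CentralLift
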