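import Cfsg.Agent.Lib.Fusion.PrimeIndexLift
import Cfsg.Prelude.Def_FusionComponents

/-!
The least saturated subsystem of index prime to `p`, and recognition of systems of index prime
to `p` on the centric subgroups.
-/

set_option autoImplicit false

namespace CfsgLib.Fusion

open Cfsg Cfsg.FusionSystem

variable {Ω : Type*} [Group Ω] {S : Subgroup Ω} {F : FusionSystem S} {p : ℕ}
variable [Finite S] [Fact p.Prime] (hS : IsPGroup p S) (hF : F.IsSaturated p)

/-- A map of a saturated subsystem on a centric subgroup, induced by an automorphism of `S`,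
puts that automorphism in the subsystem. -/
theorem climb_map {E : FusionSystem S} (hE : E.IsSaturated p) (hEF : E ≤ F) {α : MulAut S}
    (hα : α ∈ F.autGroup S) {R : Subgroup Ω} (hR : F.IsCentric R) {φ : R →* Ω}
    (hφ : φ ∈ E.Hom R) (hv : ∀ (x : R) (h : (x : Ω) ∈ S), φ x = ((α ⟨x, h⟩ : S) : Ω))
    (hS : IsPGroup p S) (hF : F.IsSaturated p) : α ∈ E.autGroup S := by
  suffices H : ∀ (n : ℕ) (R : Subgroup Ω), F.IsCentric R → Nat.card S - Nat.card R ≤ n →
      (S.subtype.comp α.toMonoidHom).comp (Subgroup.inclusion (le_refl S)) ∈ F.Hom S →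
      ∀ φ ∈ E.Hom R, (∀ (x : R) (h : (x : Ω) ∈ S), φ x = ((α ⟨x, h⟩ : S) : Ω)) →
      α ∈ E.autGroup S from H _ R hR le_rfl ((mem_autGroup_iff le_rfl).1 hα) φ hφ hv
  intro n
  induction n with
  | zero =>
      intro R hR hn _ φ hφ hv
      have hRS : R = S := Subgroup.eq_of_le_of_card_ge hR.1 (by omega)
      subst hRS
      exact (mem_autGroup_iff le_rfl).2 (hom_congr hφ fun x => (hv x x.2).symm)
  | succ n ih =>
      intro R hR hn hαF φ hφ hv
      rcases eq_or_lt_of_le hR.1 with hRS | hRS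
      · exact ih R hR (by rw [hRS]; omega) hαF φ hφ hv
      have hlt := lt_normalizerIn hS hRS
      have hNS : normalizerIn S R ≤ S := normalizerIn_le R
      obtain ⟨e, he, hev⟩ := exists_iso hφ (Q := φ.range) rfl
      have hEc : E.IsCentric φ.range := by
        have hc := isCentric_of_isConj hR (hEF _ he.mem |> IsoIn.isConj)
        exact ⟨hc.1, fun T hT => hc.2 T (by
          obtain ⟨χ, hχ, hχr⟩ := hT
          exact ⟨χ, hEF _ hχ, hχr⟩)⟩
      obtain ⟨ψ, hψ, hag⟩ := exists_extension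
        (IsSaturated.receptive hS hE (fullyCentralized_of_centric hEc)) he hlt.le fun g hg =>
          mem_extender_iff.2 ⟨hg.1, hg.2, α ⟨g, hg.1⟩, (α _).2, fun x hx => by
            rw [isoHom_apply, isoHom_apply, hev, hev, hv _ (hR.1 hx), hv _ (hR.1 x.2),
              ← Subgroup.coe_inv, ← Subgroup.coe_mul, ← Subgroup.coe_mul, ← map_inv, ← map_mul,
              ← map_mul]
            congr 2⟩
      obtain ⟨z, -, -, hzy⟩ := maps_agree_normal hS hF hlt.le hR inf_le_right (hEF _ hψ)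
        (restrict_mem hαF hNS) fun x hx => (hag ⟨x, hx⟩).trans ((hev _).trans (hv _ (hR.1 hx)))
      have := finite_le hNS
      have hcard : Nat.card R < Nat.card (normalizerIn S R) :=
        lt_of_le_of_ne (Subgroup.card_le_of_le hlt.le) fun h =>
          hlt.ne (Subgroup.eq_of_le_of_card_ge hlt.le h.ge)
      exact ih _ (isCentric_mono hR hlt.le hNS) (by omega) hαF _
        (comp_mem' (E.conj_mem hNS (hNS z.2)) hψ
          (fun x => (z * x * z⁻¹).2) fun x => hzy x) fun x h => rfl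

/-- A subsystem containing the `p`-elements of the centric subgroups contains the generated system. -/
theorem genSystem_le_of {E : FusionSystem S}
    (h : ∀ R : Subgroup Ω, F.IsCentric R → ∀ a ∈ F.autGroup R, (∃ k : ℕ, a ^ p ^ k = 1) →
      a ∈ E.autGroup R) : genSystem hS hF ≤ E := by
  intro P φ hφ
  induction hφ with
  | incl φ hP hφ => exact hom_congr (incl_mem hP) hφ
  | step hc hr a ha hk hφ hle χ hχ ih =>
      exact comp_mem' ih ((mem_autGroup_iff hc.1).1 (h _ hc a ha hk)) hle hχ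

omit [Finite S] in
/-- An element of `p`-power order is a generator of `O^{p'}`. -/
theorem mem_closure_pow {P : Subgroup Ω} {a : MulAut P} (ha : a ∈ F.autGroup P)
    (hk : ∃ k : ℕ, a ^ p ^ k = 1) :
    a ∈ (Subgroup.closure {α : F.autGroup P | ∃ k : ℕ, orderOf α = p ^ k}).map
      (F.autGroup P).subtype := by
  obtain ⟨k, hk⟩ := hk
  obtain ⟨j, -, hj⟩ := (Nat.dvd_prime_pow Fact.out).1 (orderOf_dvd_of_pow_eq_one hk)
  exact ⟨⟨a, ha⟩, Subgroup.subset_closure ⟨j, by rw [← Subgroup.orderOf_coe]; exact hj⟩, rfl⟩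

theorem hasPrimeToPIndex_of_gen_le {E : FusionSystem S} (hG : genSystem hS hF ≤ E) (hE : E ≤ F) :
    E.HasPrimeToPIndexIn F p := by
  refine ⟨hE, fun P hP => Subgroup.map_le_iff_le_comap.2 ((Subgroup.closure_le _).2 ?_)⟩
  rintro a ⟨k, hk⟩
  exact (mem_autGroup_iff hP).2 (hG P ((mem_autGroup_iff hP).1 (genSystem_pow_mem hS hF hP a.2
    ⟨k, by rw [← hk]; exact congrArg Subtype.val (pow_orderOf_eq_one a)⟩)))

theorem isCentric_iff_of_gen_le {E : FusionSystem S} (hG : genSystem hS hF ≤ E) (hE : E ≤ F)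
    (P : Subgroup Ω) : E.IsCentric P ↔ F.IsCentric P := by
  constructor
  · intro hP
    refine ⟨hP.1, ?_⟩
    rintro _ ⟨φ, hφ, rfl⟩ y hy
    obtain ⟨α, hα, φ₀, hφ₀, hv⟩ := exists_gen_decomp hS hF hφ
    obtain ⟨hyS, hyc⟩ := mem_centralizerIn.1 hy
    set z : S := α⁻¹ ⟨y, hyS⟩ with hz
    have hzc : (z : Ω) ∈ centralizerIn S φ₀.range := by
      refine mem_centralizerIn.2 ⟨z.2, ?_⟩
      rintro _ ⟨x, rfl⟩
      have h1 := hyc (φ x) ⟨x, rfl⟩
      rw [hv x (hom_apply_mem hφ₀ x)] at h1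
      have h2 : α (⟨φ₀ x, hom_apply_mem hφ₀ x⟩ * z) = α (z * ⟨φ₀ x, hom_apply_mem hφ₀ x⟩) := by
        rw [map_mul, map_mul, hz, MulAut.apply_inv_self]
        exact Subtype.ext h1
      exact congrArg Subtype.val (α.injective h2)
    obtain ⟨x, hx⟩ := hP.2 φ₀.range ⟨φ₀, hG P hφ₀, rfl⟩ hzc
    refine ⟨x, ?_⟩
    rw [hv x (hom_apply_mem hφ₀ x), show (⟨φ₀ x, hom_apply_mem hφ₀ x⟩ : S) = z from Subtype.ext hx,
      hz, MulAut.apply_inv_self]
  · exact fun hP => ⟨hP.1, fun R ⟨φ, hφ, hR⟩ => hP.2 R ⟨φ, hE P hφ, hR⟩⟩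

/-- The automorphisms of `S` of the least subsystem of index prime to `p`. -/
def leastTop : Subgroup (MulAut S) :=
  Subgroup.closure {α | α ∈ F.autGroup S ∧ ∃ R : Subgroup Ω, F.IsCentric R ∧
    ∃ φ ∈ (genSystem hS hF).Hom R, ∀ (x : R) (h : (x : Ω) ∈ S), φ x = ((α ⟨x, h⟩ : S) : Ω)}

theorem leastTop_le : leastTop hS hF ≤ F.autGroup S :=
  (Subgroup.closure_le _).2 fun _ h => h.1

theorem leastTop_det : DetGroup hS hF (leastTop hS hF) := fun _ hα R hR φ hφ hv =>
  Subgroup.subset_closure ⟨hα, R, hR, φ, hφ, hv⟩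

include hS hF in
/-- The `p'`-residual subsystem exists. -/
theorem exists_pPrimeResidual : ∃ E : FusionSystem S, F.IsPPrimeResidual p E := by
  refine ⟨indexSystem hS hF (leastTop hS hF) (leastTop_le hS hF),
    indexSystem_saturated hS hF _ _ (leastTop_det hS hF),
    hasPrimeToPIndex_of_gen_le hS hF (genSystem_le_indexSystem hS hF _ _)
      (indexSystem_le hS hF _ _), fun D hD hDi => ?_⟩
  have hDF : D ≤ F := hDi.1
  have hGD : genSystem hS hF ≤ D := genSystem_le_of hS hF fun R hR a ha hk =>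
    hDi.2 R hR.1 (mem_closure_pow ha hk)
  have htop : leastTop hS hF ≤ D.autGroup S := by
    refine (Subgroup.closure_le _).2 ?_
    rintro α ⟨hα, R, hR, φ, hφ, hv⟩
    exact climb_map hD hDF hα hR (hGD R hφ) hv hS hF
  rintro P φ ⟨α, hα, φ₀, hφ₀, hv⟩
  exact comp_mem' (hGD P hφ₀) ((mem_autGroup_iff le_rfl).1 (htop hα))
    (hom_apply_mem (GenMap.mem hφ₀)) fun x => hv x _

include hS hF in
/-- Recognition of index prime to `p` on the centric subgroups. -/
theorem primeToPIndex_of_centrics {E : FusionSystem S} (hEF : E.IsSubsystemOf F)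
    (h : ∀ P : Subgroup Ω, F.IsCentric P →
      (Subgroup.closure {α : F.autGroup P | ∃ k : ℕ, orderOf α = p ^ k}).map
        (F.autGroup P).subtype ≤ E.autGroup P) :
    E.HasPrimeToPIndexIn F p ∧
      (∀ (P : Subgroup Ω) (φ : P →* Ω), φ ∈ F.Hom P → ∃ α ∈ F.autGroup S, ∃ φ₀ ∈ E.Hom P,
        ∀ (x : P) (hx : φ₀ x ∈ S), φ x = ((α ⟨φ₀ x, hx⟩ : S) : Ω)) ∧
      ∀ P : Subgroup Ω, E.IsCentric P ↔ F.IsCentric P := by
  have hG : genSystem hS hF ≤ E := genSystem_le_of hS hF fun R hR a ha hk =>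
    h R hR (mem_closure_pow ha hk)
  refine ⟨hasPrimeToPIndex_of_gen_le hS hF hG hEF, fun P φ hφ => ?_,
    isCentric_iff_of_gen_le hS hF hG hEF⟩
  obtain ⟨α, hα, φ₀, hφ₀, hv⟩ := exists_gen_decomp hS hF hφ
  exact ⟨α, hα, φ₀, hG P hφ₀, hv⟩

end CfsgLib.Fusion
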