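import Cfsg.Agent.Lib.Fusion.TFamily
import Cfsg.Agent.Lib.Fusion.PrimeIndexLeast

/-!
The `p'`-residual of a weakly normal subsystem over `T` lies in every weakly normal subsystem
over `T`.
-/

set_option autoImplicit false

namespace CfsgLib.Fusion

open Cfsg Cfsg.FusionSystem

variable {Ω : Type*} [Group Ω] {S T : Subgroup Ω} {F : FusionSystem S} {p : ℕ}

/-- A subgroup centric inside `T` is centric in every subsystem over `T`. -/
theorem TCentric.isCentric {D : FusionSystem T} (hD : D.IsSubsystemOf F) {R : Subgroup Ω}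
    (hR : TCentric F T R) : D.IsCentric R :=
  ⟨hR.le, fun Q ⟨φ, hφ, hr⟩ => hR.2 Q ⟨φ, hD R hφ, hr⟩⟩

/-- Transport in an invariant subsystem. -/
theorem invariant_topConj {D : FusionSystem T} (hD : D.IsInvariantIn F) {Q : Subgroup Ω}
    {f : Q →* Ω} (hf : f ∈ D.Hom Q) {α : MulAut T} (hα : α ∈ F.autGroup T) {P' : Subgroup Ω}
    (hP' : P' ≤ T) (h1 : ∀ y : P', ((α⁻¹ (Subgroup.inclusion hP' y) : T) : Ω) ∈ Q)
    (h2 : ∀ x, f x ∈ T) : topConj α f hP' h1 h2 ∈ D.Hom P' := by
  obtain ⟨χ₀, hχ₀, hv⟩ := hD.2.2.1 Q (hom_le hf) f hf α hα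
  have hle : P' ≤ (Q.subgroupOf T).map (T.subtype.comp α.toMonoidHom) := fun y hy =>
    ⟨α⁻¹ ⟨y, hP' hy⟩, h1 ⟨y, hy⟩, congrArg Subtype.val (MulAut.apply_inv_self T α ⟨y, hP' hy⟩)⟩
  refine restrict_mem' hχ₀ hle fun y => ?_
  rw [topConj_apply]
  have h4 : α (⟨((α⁻¹ (Subgroup.inclusion hP' y) : T) : Ω), hom_le hf (h1 y)⟩ : T) =
      Subgroup.inclusion hP' y := MulAut.apply_inv_self T α _
  have h3 := hv ⟨_, h1 y⟩ (h2 _) (by rw [h4]; exact hle y.2)
  rw [← h3]
  congr 1
  exact Subtype.ext ((congrArg (fun z : T => (z : Ω)) h4).trans rfl)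

variable [Fact p.Prime] [Finite S]

/-- The maps of a weakly normal subsystem form a family. -/
def invariantFamily (hS : IsPGroup p S) {D : FusionSystem T} (hDs : D.IsSaturated p)
    (hD : D.IsInvariantIn F) : TFamily F T where
  Mem R φ := φ ∈ D.Hom R
  mem _ h := hD.1 _ h
  conj hR _ ht := D.conj_mem hR.le ht
  comp _ _ hφ hψ h _ hχ := comp_mem' hφ hψ h hχ
  inv _ hφ := D.inv_mem hφ
  transport _ _ hφ _ hα hR' h1 h2 := invariant_topConj hD hφ hα hR' h1 h2
  frattini hR hφ := hD.2.2.2 _ hR.le _ hφ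
  extend := by
    intro R R' M φ hR _ hR' hφ hr hle hM hext
    obtain ⟨e, he, hev⟩ := exists_iso hφ hr
    have := finite_le hD.2.1.1
    obtain ⟨ψ, hψ, hag⟩ := exists_extension (IsSaturated.receptive (hS.to_le hD.2.1.1) hDs
      (fullyCentralized_of_centric (hR.isCentric hD.1))) he hle (by
        intro g hg
        obtain ⟨t, ht, htv⟩ := hext g hg
        refine mem_extender_iff.2 ⟨(hM hg).1, (hM hg).2, t, ht, fun x hx => ?_⟩
        rw [isoHom_apply, isoHom_apply, hev, hev]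
        exact htv x hx)
    exact ⟨ψ, hψ, fun x hx => (hag x).trans (hev x)⟩

/-- The `p'`-residual of a weakly normal subsystem is contained in every weakly normal subsystem
over the same subgroup. -/
theorem pPrimeResidual_le (hS : IsPGroup p S) (hF : F.IsSaturated p) {E D D' : FusionSystem T}
    (hEs : E.IsSaturated p) (hEi : E.IsInvariantIn F) (hD : E.IsPPrimeResidual p D)
    (hDs : D'.IsSaturated p) (hDi : D'.IsInvariantIn F) : D.IsSubsystemOf D' := by
  have hT : F.StronglyClosed T := hEi.2.1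
  have := finite_le hT.1
  have hTp : IsPGroup p T := hS.to_le hT.1
  have hG : genSystem hTp hEs ≤ D' := genSystem_le_of hTp hEs fun R hR a ha hk =>
    pElement_mem hS hF hEs hEi hDi hR.1 ha hk
  have htop : leastTop hTp hEs ≤ D'.autGroup T := by
    refine (Subgroup.closure_le _).2 ?_
    rintro α ⟨hα, R, hR, φ, hφ, hv⟩
    have hRc := tCentric_of_centric hEi hR
    have hαF : α ∈ F.autGroup T :=
      (mem_autGroup_iff hT.1).2 (hEi.1 T ((mem_autGroup_iff le_rfl).1 hα))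
    have h := TFamily.mem_stab_top (H := invariantFamily hS hDs hDi) hS hF hEs hEi hRc hα
      ⟨hαF, fun _ => hom_congr (hG R hφ) fun x => (hv x (hR.1 x.2)).symm⟩
    refine (mem_autGroup_iff le_rfl).2 (hom_congr (h.2 ⟨le_rfl, fun Q hQ => ?_⟩) fun x => rfl)
    obtain ⟨ψ, hψ, rfl⟩ := hQ
    rw [(StronglyClosed.weaklyClosed hT).2 ψ hψ]
    exact centralizerIn_le T
  intro P φ hφ
  obtain ⟨α, hα, φ₀, hφ₀, hv⟩ := hD.2.2 _
    (indexSystem_saturated hTp hEs _ (leastTop_le hTp hEs) (leastTop_det hTp hEs))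
    (hasPrimeToPIndex_of_gen_le hTp hEs (genSystem_le_indexSystem hTp hEs _ _)
      (indexSystem_le hTp hEs _ _)) P hφ
  exact comp_mem' (hG P hφ₀) ((mem_autGroup_iff le_rfl).1 (htop hα))
    (hom_apply_mem hφ₀) fun x => hv x _

end CfsgLib.Fusion
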