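import Cfsg.Agent.Lib.Fusion.CentralLiftBase
import Cfsg.Agent.Lib.Fusion.LeastNormal

/-!
# Preimages of a normal subsystem of a central quotient: the kernel and the Sylow subgroups
-/

set_option autoImplicit false
set_option linter.unusedSectionVars false

namespace CfsgLib.Fusion.CentralLift

open Cfsg Cfsg.FusionSystem CfsgLib.Fusion

variable {Ω Ω' : Type*} [Group Ω] [Group Ω'] {S : Subgroup Ω} {S' T' : Subgroup Ω'}
variable {F : FusionSystem S} {θ : S →* Ω'} {Fb : FusionSystem S'} {Eb : FusionSystem T'}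
  {Z : Subgroup Ω} {p : ℕ}

/-- The subgroups of the preimage over the centric ones. -/
structure Good (θ : S →* Ω') (Eb : FusionSystem T') (Z P : Subgroup Ω) : Prop where
  zle : Z ≤ P
  le : P ≤ preimageAlong θ T'
  centric : Eb.IsCentric (imageAlong θ P)

theorem Good.leS {P : Subgroup Ω} (hP : Good θ Eb Z P) : P ≤ S :=
  hP.le.trans (preimageAlong_le θ T')

theorem imageAlong_mono {P Q : Subgroup Ω} (hle : P ≤ Q) : imageAlong θ P ≤ imageAlong θ Q :=
  Subgroup.map_mono (Subgroup.comap_mono hle)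

/-- Transport of automorphisms along automorphisms of inner ones. -/
theorem conj_inn {P : Subgroup Ω} (g : MulAut P) (x : P) :
    g * MulAut.conj x * g⁻¹ = MulAut.conj (g x) := MulEquiv.ext fun y => by simp

theorem inn_conj_mem {P : Subgroup Ω} (g : MulAut P) {a : MulAut P} (ha : a ∈ Inn P) :
    g * a * g⁻¹ ∈ Inn P := by
  obtain ⟨x, rfl⟩ := ha
  exact ⟨g x, (conj_inn g x).symm⟩

namespace Setup

variable [Fact p.Prime] [Finite S] (h : Setup p F Z θ Fb Eb)
include h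

theorem good_top : Good θ Eb Z (preimageAlong θ T') :=
  ⟨h.zle', le_rfl, by
    have := h.tfinite'
    rw [imageAlong_preimageAlong (h.tclosed'.1.trans h.range.ge)]
    exact isCentric_self⟩

theorem good_mono {P N : Subgroup Ω} (hP : Good θ Eb Z P) (hPN : P ≤ N)
    (hN : N ≤ preimageAlong θ T') : Good θ Eb Z N := by
  have := h.tfinite'
  exact ⟨hP.zle.trans hPN, hN, isCentric_mono hP.centric (imageAlong_mono hPN) (h.image_le' hN)⟩

theorem good_congr {P Q : Subgroup Ω} (hP : Good θ Eb Z P) {e : P ≃* Q} (he : IsoIn F e) :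
    Good θ Eb Z Q := by
  have hQT : Q ≤ preimageAlong θ T' := fun y hy => by
    have h1 := h.tclosed.2 P hP.le _ he.mem (e.symm ⟨y, hy⟩)
    rwa [isoHom_apply, MulEquiv.apply_symm_apply] at h1
  refine ⟨fun z hz => ?_, hQT, ?_⟩
  · have h1 := h.fix_hom he.mem ⟨z, hP.zle hz⟩ hz
    have h2 : ((e ⟨z, hP.zle hz⟩ : Q) : Ω) = z := h1
    exact h2 ▸ (e _).2
  · obtain ⟨e', he', -⟩ := h.exists_bar he hP.leS (hQT.trans (preimageAlong_le θ T'))
    exact TCentric.isCentric h.einv.1 ((tCentric_of_centric h.einv hP.centric).conj h.tclosed'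
      he'.isConj)

/-- An element centralizing the image of a good subgroup lies in it. -/
theorem mem_of_cent {P : Subgroup Ω} (hP : Good θ Eb Z P) {t : S} (ht : θ t ∈ T')
    (hc : ∀ y ∈ imageAlong θ P, y * θ t = θ t * y) : (t : Ω) ∈ P :=
  h.mem_of_pr hP.zle hP.leS (hP.centric.2 _ (isConj_refl (h.image_le' hP.le))
    (mem_centralizerIn.2 ⟨ht, hc⟩))

/-- An element acting on the image of `P` normalizes it. -/
theorem normalizes {P : Subgroup Ω} (hZP : Z ≤ P) (hPS : P ≤ S) (s : S)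
    (hs : ∀ y ∈ imageAlong θ P, θ s * y * (θ s)⁻¹ ∈ imageAlong θ P) :
    (s : Ω) ∈ Subgroup.normalizer (P : Set Ω) := by
  have := finite_le hPS
  rw [Subgroup.mem_normalizer_iff_map_conj_eq]
  refine Subgroup.eq_of_le_of_card_ge ?_
    (Subgroup.card_map_of_injective (MulAut.conj (s : Ω)).injective).ge
  rintro _ ⟨x, hx, rfl⟩
  show ((s * ⟨x, hPS hx⟩ * s⁻¹ : S) : Ω) ∈ P
  refine h.mem_of_pr hZP hPS ?_
  rw [map_mul, map_mul, map_inv]
  exact hs _ ⟨⟨x, hPS hx⟩, hx, rfl⟩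

/-- The normalizer of the image is the image of the normalizer. -/
theorem imageAlong_normalizer {P U : Subgroup Ω} (hZP : Z ≤ P) (hPS : P ≤ S) (hU : U ≤ S)
    {U' : Subgroup Ω'} (hU' : ∀ s : S, θ s ∈ U' ↔ (s : Ω) ∈ U) (hle : U' ≤ S') :
    imageAlong θ (normalizerIn U P) = normalizerIn U' (imageAlong θ P) := by
  ext y
  constructor
  · rintro ⟨s, hs, rfl⟩
    refine ⟨(hU' s).2 hs.1, Subgroup.mem_normalizer_iff.2 fun z => ?_⟩
    have hfw : ∀ {r : S}, (r : Ω) ∈ Subgroup.normalizer (P : Set Ω) → ∀ z ∈ imageAlong θ P,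
        θ r * z * (θ r)⁻¹ ∈ imageAlong θ P := by
      rintro r hr _ ⟨x, hx, rfl⟩
      exact ⟨r * x * r⁻¹, Subgroup.mem_subgroupOf.2 (conj_mem_of_mem_normalizer hr (Subgroup.mem_subgroupOf.1 hx)), by rw [map_mul, map_mul, map_inv]⟩
    refine ⟨hfw hs.2 z, fun hz => ?_⟩
    have := hfw (r := s⁻¹) (inv_mem hs.2) _ hz
    simpa [map_inv, mul_assoc] using this
  · intro hy
    obtain ⟨s, rfl⟩ := h.range.ge (hle hy.1)
    exact ⟨s, ⟨(hU' s).1 hy.1, h.normalizes hZP hPS s fun z hz =>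
      conj_mem_of_mem_normalizer hy.2 hz⟩, rfl⟩

theorem image_normalizerT {P : Subgroup Ω} (hZP : Z ≤ P) (hPS : P ≤ S) :
    imageAlong θ (normalizerIn (preimageAlong θ T') P) = normalizerIn T' (imageAlong θ P) :=
  h.imageAlong_normalizer hZP hPS (preimageAlong_le θ T') (fun _ => mem_preimageAlong.symm)
    h.tclosed'.1

/-- Full normalization passes to the image. -/
theorem fullyNormalized_bar {P : Subgroup Ω} (hP : F.IsFullyNormalized P) (hZP : Z ≤ P) :
    Fb.IsFullyNormalized (imageAlong θ P) := by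
  have hPS := hP.1
  refine ⟨h.image_le, fun Q' hQ' => ?_⟩
  obtain ⟨φ', hφ', rfl⟩ := hQ'
  obtain ⟨-, φ, hφ, hP₁, hφS, hm, hv⟩ := (h.fac.2.2.2 _ _).1 hφ'
  have hpre : preimageAlong θ (imageAlong θ P) = P := by
    rw [preimageAlong_imageAlong h.zle h.ker hPS, sup_eq_left.2 hZP]
  set φ₀ := φ.comp (Subgroup.inclusion hpre.ge) with hφ₀
  have hφ₀F : φ₀ ∈ F.Hom P := restrict_mem hφ hpre.ge
  have hQS : φ₀.range ≤ S := hom_range_le hφ₀F
  have hbar : imageAlong θ φ₀.range = φ'.range := by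
    refine le_antisymm ?_ ?_
    · rintro _ ⟨s, ⟨x, hx⟩, rfl⟩
      refine ⟨⟨_, hm (Subgroup.inclusion hpre.ge x)⟩, (hv _).trans ?_⟩
      exact congrArg θ (Subtype.ext hx)
    · rintro _ ⟨y, rfl⟩
      obtain ⟨x, rfl⟩ := pr_surjective hPS y
      exact ⟨⟨φ₀ x, hom_apply_mem hφ₀F x⟩, ⟨x, rfl⟩, (hv (Subgroup.inclusion hpre.ge x)).symm⟩
  have hZQ : Z ≤ φ₀.range := fun z hz => ⟨⟨z, hZP hz⟩, h.fix_hom hφ₀F ⟨z, hZP hz⟩ hz⟩
  obtain ⟨f, hf, hfN, -⟩ := exists_normalizer_map h.pgroup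
    (IsSaturated.fullyAutomized h.pgroup h.sat hP)
    (IsSaturated.receptive h.pgroup h.sat (IsSaturated.fullyCentralized h.pgroup h.sat hP))
    (isConj_symm ⟨φ₀, hφ₀F, rfl⟩)
  obtain ⟨f', hf', hN₁, hfS, hm₁, hv₁⟩ := h.mor.2 _ _ hf
  have hN : ∀ W, Z ≤ W → W ≤ S →
      imageAlong θ (normalizerIn S W) = normalizerIn S' (imageAlong θ W) := fun W hW hWS =>
    h.imageAlong_normalizer hW hWS le_rfl
      (fun s => iff_of_true (h.range.le ⟨s, rfl⟩) s.2) le_rfl
  rw [← hbar, ← hN _ hZQ hQS, ← hN _ hZP hPS]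
  have := h.bfinite
  have := finite_le (h.image_le (P := normalizerIn S P))
  refine Nat.card_le_card_of_injective (fun y => (⟨f' y, ?_⟩ : imageAlong θ (normalizerIn S P)))
    fun a b e => Fb.injective_of_mem hf' (congrArg Subtype.val e :)
  obtain ⟨x, rfl⟩ := pr_surjective hN₁ y
  exact (hv₁ x).symm ▸ ⟨⟨f x, hfS x⟩, hfN x, rfl⟩

theorem fullyNormalized_barE {P : Subgroup Ω} (hP : F.IsFullyNormalized P) (hg : Good θ Eb Z P) :
    Eb.IsFullyNormalized (imageAlong θ P) := by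
  have := h.bfinite
  exact fullyNormalized_of_ambient h.bgroup h.bsat h.tclosed' h.einv.1
    (h.fullyNormalized_bar hP hg.zle) (h.image_le' hg.le)

/-! ### The kernel -/

theorem mem_ker {P : Subgroup Ω} {a : MulAut P} : a ∈ kerAut F Z P h.fix ↔
    a ∈ F.autGroup P ∧ ∀ x : P, ((x⁻¹ * a x : P) : Ω) ∈ Z := Iff.rfl

theorem ker_iff {P : Subgroup Ω} (hPS : P ≤ S) {a : MulAut P} (ha : a ∈ F.autGroup P) :
    a ∈ kerAut F Z P h.fix ↔ ∀ x : P, pr θ hPS (a x) = pr θ hPS x := by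
  rw [h.mem_ker]
  refine ⟨fun hk x => ?_, fun hk => ⟨ha, fun x => ?_⟩⟩
  · have h1 : pr θ hPS (x⁻¹ * a x) = 1 := Subtype.ext ((h.ker _).2 (hk.2 x))
    rw [map_mul, map_inv, inv_mul_eq_one] at h1
    exact h1.symm
  · have h1 : pr θ hPS (x⁻¹ * a x) = 1 := by rw [map_mul, map_inv, hk, inv_mul_cancel]
    exact (h.ker (Subgroup.inclusion hPS (x⁻¹ * a x))).1 (congrArg Subtype.val h1)

theorem ker_le_pre {P : Subgroup Ω} (hPT : P ≤ preimageAlong θ T') :
    kerAut F Z P h.fix ≤ (preSystem F θ Eb).autGroup P := fun a ha =>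
  (h.mem_preAut hPT).2 ⟨ha.1, 1, one_mem _, fun x => by
    rw [MulAut.one_apply]
    exact ((h.ker_iff (hPT.trans (preimageAlong_le θ T')) ha.1).1 ha x).symm⟩

theorem ker_congr {P Q : Subgroup Ω} {e : P ≃* Q} (he : IsoIn F e) {a : MulAut P}
    (ha : a ∈ kerAut F Z P h.fix) : MulAut.congr e a ∈ kerAut F Z Q h.fix := by
  refine ⟨he.congr_autGroup.le ⟨a, ha.1, rfl⟩, fun y => ?_⟩
  obtain ⟨x, rfl⟩ := e.surjective y
  have e1 : (e x)⁻¹ * MulAut.congr e a (e x) = e (x⁻¹ * a x) := by simp [MulAut.congr]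
  rw [e1]
  have h1 := h.fix_hom he.mem _ (ha.2 x)
  rw [isoHom_apply] at h1
  rw [h1]
  exact ha.2 x

theorem ker_conj {P : Subgroup Ω} (hPS : P ≤ S) {a g : MulAut P} (ha : a ∈ kerAut F Z P h.fix)
    (hg : g ∈ F.autGroup P) : g * a * g⁻¹ ∈ kerAut F Z P h.fix := by
  have := h.ker_congr ((mem_autGroup_iff_isoIn hPS).1 hg) ha
  rwa [show MulAut.congr g a = g * a * g⁻¹ from MulEquiv.ext fun x => rfl] at this

theorem ker_comm {P : Subgroup Ω} (hPS : P ≤ S) {a b : MulAut P} (ha : a ∈ kerAut F Z P h.fix)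
    (hb : b ∈ kerAut F Z P h.fix) : a * b = b * a := by
  refine MulEquiv.ext fun x => ?_
  have e : ∀ {c d : MulAut P}, c ∈ kerAut F Z P h.fix → d ∈ kerAut F Z P h.fix →
      (c * d) x = x * (x⁻¹ * c x) * (x⁻¹ * d x) := by
    intro c d hc hd
    conv_lhs => rw [MulAut.mul_apply, ← mul_inv_cancel_left x (d x), map_mul,
      h.fix c hc.1 _ (hd.2 x)]
    group
  rw [e ha hb, e hb ha, mul_assoc x, mul_assoc x]
  congr 1
  refine Subtype.ext ?_
  exact (F.center_le_centralizer (le_center h.cen (hb.2 x)) _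
    (hPS (x⁻¹ * a x).2))

theorem ker_pGroup {P : Subgroup Ω} (hPS : P ≤ S) : IsPGroup p (kerAut F Z P h.fix) := by
  have := finite_le hPS
  obtain ⟨n, hn⟩ := IsPGroup.iff_card.1 (h.pgroup.to_le hPS)
  intro a
  refine ⟨n, Subtype.ext (MulEquiv.ext fun x => ?_)⟩
  have h1 := pow_shift (a : MulAut P) (mul_inv_cancel_left x _).symm
    (h.fix _ a.2.1 _ (a.2.2 x)) (p ^ n)
  rw [← hn, pow_card_eq_one', mul_one, hn] at h1
  rw [SubgroupClass.coe_pow, h1]
  rfl

theorem ker_induced {P : Subgroup Ω} (hP : F.IsFullyNormalized P) :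
    kerAut F Z P h.fix ≤ autInducedBy S P := by
  have := finite_mulAut_of_le (S := S) hP.1
  intro a ha
  obtain ⟨k, hk, hkv⟩ := IsSylowIn.exists_conj_mem
    (IsSaturated.fullyAutomized h.pgroup h.sat hP).2
    (X := kerAut F Z P h.fix) (fun _ hx => hx.1) (h.ker_pGroup hP.1)
  have h1 := hkv _ (h.ker_conj hP.1 ha (inv_mem hk))
  simpa [mul_assoc] using h1

/-! ### Sylow subgroups of the covering automorphisms -/

theorem induced_sylow {P : Subgroup Ω} (hP : F.IsFullyNormalized P)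
    (hPT : P ≤ preimageAlong θ T') :
    IsSylowIn p (autInducedBy S P ⊓ (preSystem F θ Eb).autGroup P)
      ((preSystem F θ Eb).autGroup P) := by
  have := finite_mulAut_of_le (S := S) hP.1
  set M := (preSystem F θ Eb).autGroup P with hM
  have hL : autInducedBy S P ⊓ M ≤ M := inf_le_right
  obtain ⟨R, hLR, hRM, hRp, hRs⟩ := exists_isSylowIn_ge hL
    ((isPGroup_autInducedBy h.pgroup).to_le inf_le_left)
  have hRF : R ≤ F.autGroup P := hRM.trans (preAut_le hPT)
  obtain ⟨k, hk, hkv⟩ := IsSylowIn.exists_conj_mem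
    (IsSaturated.fullyAutomized h.pgroup h.sat hP).2 hRF hRp
  have hcard : Nat.card R ≤ Nat.card ↥(autInducedBy S P ⊓ M) := by
    rw [← Subgroup.card_map_of_injective (K := R) (f := (MulAut.conj k).toMonoidHom)
      (MulAut.conj k).injective]
    refine Subgroup.card_le_of_le ?_
    rintro _ ⟨x, hx, rfl⟩
    exact ⟨hkv x hx, h.preAut_conj hPT (hRM hx) hk⟩
  rwa [Subgroup.eq_of_le_of_card_ge hLR hcard]

/-- An induced covering automorphism agrees modulo the kernel with one induced by `T`. -/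
theorem induced_decomp {P : Subgroup Ω} (hP : F.IsFullyNormalized P) (hg : Good θ Eb Z P)
    {c : MulAut P} (hc : c ∈ autInducedBy S P) (hcM : c ∈ (preSystem F θ Eb).autGroup P) :
    ∃ t ∈ autInducedBy (preimageAlong θ T') P, t⁻¹ * c ∈ kerAut F Z P h.fix := by
  have := h.tfinite'
  have := h.bfinite
  have hPS := hP.1
  have := finite_le hPS
  obtain ⟨hcF, b, hb, hbv⟩ := (h.mem_preAut hg.le).1 hcM
  obtain ⟨g, hgS, hgv⟩ := mem_autInducedBy_iff.1 hc
  have hbe := h.fullyNormalized_barE hP hg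
  have hI := h.image_le' hg.le
  have := finite_mulAut_of_le (S := T') hI
  have hsyl := (IsSaturated.fullyAutomized h.tgroup' h.esat hbe).2
  have hX : autInducedBy S' (imageAlong θ P) ⊓ Eb.autGroup (imageAlong θ P) =
      autInducedBy T' (imageAlong θ P) :=
    IsSylowIn.eq_of_le hsyl (autInducedBy_le_autGroup hI)
      (le_inf (autInducedBy_mono h.tclosed'.1) (autInducedBy_le_autGroup hI)) inf_le_right
      ((isPGroup_autInducedBy h.bgroup).to_le inf_le_left)
  have hbS : b ∈ autInducedBy S' (imageAlong θ P) := by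
    refine mem_autInducedBy_iff.2 ⟨θ ⟨g, hgS⟩, h.range.le ⟨_, rfl⟩, fun y => ?_⟩
    obtain ⟨x, rfl⟩ := pr_surjective hPS y
    rw [hbv, pr_coe, pr_coe, ← map_inv, ← map_mul, ← map_mul]
    exact congrArg θ (Subtype.ext (hgv x))
  obtain ⟨t', ht', htv⟩ := mem_autInducedBy_iff.1 (hX.le ⟨hbS, hb⟩)
  obtain ⟨s, rfl⟩ := h.range.ge (h.tclosed'.1 ht')
  have hsN := h.normalizes hg.zle hPS s fun y hy => htv ⟨y, hy⟩ ▸ (b _).2
  have hτ : P.normalizerMonoidHom ⟨s, hsN⟩ ∈ autInducedBy (preimageAlong θ T') P :=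
    mem_autInducedBy_iff.2 ⟨s, mem_preimageAlong.2 ht', fun x => rfl⟩
  refine ⟨_, hτ, (h.ker_iff hPS ?_).2 fun x => ?_⟩
  · exact mul_mem (inv_mem (autInducedBy_le_autGroup hPS
      (autInducedBy_mono (preimageAlong_le θ T') hτ))) hcF
  · set τ := P.normalizerMonoidHom ⟨(s : Ω), hsN⟩
    have hτv : ∀ z : P, pr θ hPS (τ z) = b (pr θ hPS z) := fun z => Subtype.ext (by
      rw [htv, pr_coe, pr_coe, ← map_inv, ← map_mul, ← map_mul]
      rfl)
    apply b.injective
    rw [← hτv, MulAut.mul_apply, MulAut.apply_inv_self, ← hbv]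

end Setup

end CfsgLib.Fusion.CentralLift
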