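import Cfsg.Agent.Lib.Fusion.CentralLiftComm
import Cfsg.Agent.Lib.Fusion.ConstrainedNormal

/-!
# The canonical automorphisms split the kernel off
-/

set_option autoImplicit false
set_option linter.unusedSectionVars false
set_option maxHeartbeats 800000

namespace CfsgLib.Fusion.CentralLift

open Cfsg Cfsg.FusionSystem CfsgLib.Fusion

variable {Ω Ω' : Type*} [Group Ω] [Group Ω'] {S : Subgroup Ω} {S' T' : Subgroup Ω'}
variable {F : FusionSystem S} {θ : S →* Ω'} {Fb : FusionSystem S'} {Eb : FusionSystem T'}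
  {Z : Subgroup Ω} {p : ℕ}

theorem congr_symm_congr {P Q : Subgroup Ω} (e : P ≃* Q) (a : MulAut P) :
    MulAut.congr e.symm (MulAut.congr e a) = a :=
  MulEquiv.ext fun x => by simp [MulAut.congr]

namespace Setup

variable [Fact p.Prime] [Finite S] (h : Setup p F Z θ Fb Eb)
include h

/-- Transfer a property of covering automorphisms from fully normalized good subgroups. -/
theorem exists_rep {P : Subgroup Ω} (hg : Good θ Eb Z P) :
    ∃ (Q : Subgroup Ω) (e : P ≃* Q), IsoIn F e ∧ F.IsFullyNormalized Q ∧ Good θ Eb Z Q ∧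
      Nat.card Q = Nat.card P := by
  obtain ⟨Q, hPQ, hQ⟩ := exists_fullyNormalized (F := F) hg.leS
  obtain ⟨e, he⟩ := isConj_iff.1 hPQ
  exact ⟨Q, e, he, hQ, h.good_congr hg he, (isConj_card hPQ).symm⟩

theorem central_all_aux : ∀ (n : ℕ) {P : Subgroup Ω}, Good θ Eb Z P →
    Nat.card S - Nat.card P ≤ n → ∀ a ∈ (preSystem F θ Eb).autGroup P,
    Central F θ Eb Z P a := by
  classical
  intro n
  induction n using Nat.strong_induction_on with
  | _ n ih =>
    intro P₀ hg₀ hn a₀ ha₀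
    obtain ⟨P, e, he, hP, hg, hcard⟩ := h.exists_rep hg₀
    suffices key : ∀ a ∈ (preSystem F θ Eb).autGroup P, Central F θ Eb Z P a by
      have h1 := h.central_congr he.symm (key _ (h.preAut_congr hg₀.le he ha₀))
      rwa [congr_symm_congr] at h1
    have hup : ∀ Q, Good θ Eb Z Q → Nat.card P < Nat.card Q →
        ∀ a ∈ (preSystem F θ Eb).autGroup Q, Central F θ Eb Z Q a := fun Q hQ hlt => by
      have := Subgroup.card_le_of_le hQ.leS
      exact ih (Nat.card S - Nat.card Q) (by omega) hQ le_rfl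
    have hPS := hg.leS
    have := finite_mulAut_of_le (S := S) hPS
    set M := (preSystem F θ Eb).autGroup P with hM
    set L := autInducedBy S P ⊓ M with hL
    have hsyl := h.induced_sylow hP hg.le
    have hLp : IsPGroup p L := (isPGroup_autInducedBy h.pgroup).to_le inf_le_left
    set C := h.centralSub hPS ⊓ M with hC
    have hLC : L ≤ C := fun c hc => ⟨h.central_induced hP hg hc.1 hc.2, hc.2⟩
    have hCn : ∀ g ∈ M, ∀ c ∈ C, g * c * g⁻¹ ∈ C := by
      intro g hgM c hc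
      refine ⟨fun k hk hkZ => ?_, Subgroup.mul_mem _ (Subgroup.mul_mem _ hgM hc.2) (Subgroup.inv_mem _ hgM)⟩
      have hgF := preAut_le hg.le hgM
      obtain ⟨hk', hkZ'⟩ := h.ker_conj hPS (a := k) ⟨hk, hkZ⟩ (inv_mem hgF)
      have e1 : g * c * g⁻¹ * k * (g * c * g⁻¹)⁻¹ * k⁻¹ =
          g * (c * (g⁻¹ * k * g⁻¹⁻¹) * c⁻¹ * (g⁻¹ * k * g⁻¹⁻¹)⁻¹) * g⁻¹ := by group
      rw [e1]
      exact inn_conj_mem g (hc.1 _ hk' hkZ')
    -- elements of `p`-power order
    have hpel : ∀ a ∈ M, (∃ j, a ^ p ^ j = 1) → a ∈ C := by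
      intro a ha ⟨j, hj⟩
      obtain ⟨k, hk, hkv⟩ := IsSylowIn.exists_conj_mem hsyl (Subgroup.zpowers_le.2 ha)
        (by
          obtain ⟨i, -, hi⟩ := (Nat.dvd_prime_pow Fact.out).1 (orderOf_dvd_of_pow_eq_one hj)
          exact IsPGroup.of_card (n := i) (by rw [Nat.card_zpowers, hi]))
      have h1 := hCn k⁻¹ (inv_mem hk) _ (hLC (hkv a (Subgroup.mem_zpowers a)))
      simpa [mul_assoc] using h1
    intro a ha
    -- move the Sylow subgroup back
    set La := L.map (MulAut.conj a).toMonoidHom with hLa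
    have hLaC : La ≤ C := by
      rintro _ ⟨l, hl, rfl⟩
      exact hCn a ha l (hLC hl)
    obtain ⟨c, hc, hcv⟩ := IsSylowIn.exists_conj_mem
      (IsSylowIn.of_le hsyl inf_le_right inf_le_right hLC) hLaC (hLp.map _)
    set x := c * a with hx
    have hxM : x ∈ M := mul_mem hc.2 ha
    have hnorm : ∀ l ∈ L, x * l * x⁻¹ ∈ L := fun l hl => by
      have e : x * l * x⁻¹ = c * (a * l * a⁻¹) * c⁻¹ := by rw [hx]; group
      rw [e]
      exact hcv (a * l * a⁻¹) ⟨l, hl, rfl⟩
    let N : Subgroup (MulAut P) :=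
      { carrier := {g | g ∈ M ∧ ∀ l ∈ L, g * l * g⁻¹ ∈ L}
        one_mem' := ⟨one_mem _, fun l hl => by simpa using hl⟩
        mul_mem' := fun {g g'} hg₁ hg₂ => ⟨mul_mem hg₁.1 hg₂.1, fun l hl => by
          simpa [mul_assoc] using hg₁.2 _ (hg₂.2 l hl)⟩
        inv_mem' := fun {g} hg₁ => ⟨inv_mem hg₁.1, fun l hl => by
          have himg : L.map (MulAut.conj g).toMonoidHom = L := by
            refine Subgroup.eq_of_le_of_card_ge ?_
              (Subgroup.card_map_of_injective (MulAut.conj g).injective).ge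
            rintro _ ⟨l, hl, rfl⟩
            exact hg₁.2 l hl
          obtain ⟨l', hl', hll⟩ := himg.ge hl
          rw [← hll]
          simpa [mul_assoc] using hl'⟩ }
    have hxN : x ∈ N := ⟨hxM, hnorm⟩
    suffices hy : ∀ y ∈ N, (orderOf y).Coprime p → Central F θ Eb Z P y by
      obtain ⟨i, j, hij, hp', hcop⟩ := exists_p_split (p := p) x
      have h1 : Central F θ Eb Z P x := by
        rw [← hij]
        exact h.central_mul hPS (hpel _ (pow_mem hxM i) hp').1
          (hy _ (pow_mem hxN j) hcop)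
      rw [show a = c⁻¹ * x by rw [hx]; group]
      exact h.central_mul hPS (h.central_inv hPS hc.1) h1
    intro y hyN hcop k hk hkZ
    have hkK : k ∈ kerAut F Z P h.fix := ⟨hk, hkZ⟩
    have hyF := preAut_le hg.le hyN.1
    set d := y * k * y⁻¹ * k⁻¹ with hd
    have hdK : d ∈ kerAut F Z P h.fix := mul_mem (h.ker_conj hPS hkK hyF) (inv_mem hkK)
    have hdisp := h.central_displace hP hg hup hyN.1 hyN.2 hkK
    -- in the outer automorphism group
    set A := F.autGroup P with hA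
    have hnormI : ((Inn P).subgroupOf A).Normal := inn_subgroupOf_normal F
    let q := QuotientGroup.mk' ((Inn P).subgroupOf A)
    set Y := q ⟨y, hyF⟩ with hY
    set K₁ := q ⟨k, hk⟩ with hK₁
    set D := q ⟨d, hdK.1⟩ with hD
    have hzero : ∀ {u : MulAut P} (hu : u ∈ A), q ⟨u, hu⟩ = 1 → u ∈ Inn P := fun hu hq =>
      Subgroup.mem_subgroupOf.1 ((QuotientGroup.eq_one_iff _).1 hq)
    have h2 : Y * D * Y⁻¹ = D := by
      rw [← mul_inv_eq_one, hY, hD, ← map_inv, ← map_mul, ← map_mul, ← map_inv, ← map_mul]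
      exact (QuotientGroup.eq_one_iff _).2 (Subgroup.mem_subgroupOf.2 hdisp)
    have h1 : Y * K₁ * Y⁻¹ = D * K₁ := by
      rw [hY, hK₁, hD, ← map_inv, ← map_mul, ← map_mul, ← map_mul]
      refine congrArg q (Subtype.ext ?_)
      show y * k * y⁻¹ = y * k * y⁻¹ * k⁻¹ * k
      group
    have hpow : ∀ m : ℕ, Y ^ m * K₁ * (Y ^ m)⁻¹ = D ^ m * K₁ := by
      intro m
      induction m with
      | zero => simp
      | succ m ih =>
          calc Y ^ (m + 1) * K₁ * (Y ^ (m + 1))⁻¹ = Y * (Y ^ m * K₁ * (Y ^ m)⁻¹) * Y⁻¹ := by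
                rw [pow_succ']; group
            _ = (Y * D * Y⁻¹) ^ m * (Y * K₁ * Y⁻¹) := by rw [ih, conj_pow]; group
            _ = D ^ (m + 1) * K₁ := by rw [h2, h1, pow_succ]; group
    obtain ⟨j, hj⟩ := h.ker_pGroup hPS ⟨d, hdK⟩
    have hDj : D ^ p ^ j = 1 := by
      rw [hD, ← map_pow]
      refine (congrArg q (Subtype.ext ?_)).trans (map_one q)
      exact (congrArg Subtype.val hj :)
    obtain ⟨l, hl⟩ := exists_pow_eq_self_of_coprime (n := p ^ j) (x := y)
      (Nat.Coprime.pow_left j hcop.symm)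
    have hYl : (Y ^ p ^ j) ^ l = Y := by
      rw [hY, ← map_pow, ← map_pow]
      exact congrArg q (Subtype.ext hl)
    have hcomm : Commute (Y ^ p ^ j) K₁ := by
      have h3 := hpow (p ^ j)
      rw [hDj, one_mul, mul_inv_eq_iff_eq_mul] at h3
      exact h3
    have hfin : Y * K₁ * Y⁻¹ * K₁⁻¹ = 1 := by
      rw [mul_inv_eq_one, mul_inv_eq_iff_eq_mul]
      have h4 := hcomm.pow_left l
      rw [hYl] at h4
      exact h4
    rw [hY, hK₁, ← map_inv, ← map_mul, ← map_mul, ← map_inv, ← map_mul] at hfin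
    exact hzero hdK.1 hfin

/-- All covering automorphisms centralize the kernel modulo inner automorphisms. -/
theorem central_all {P : Subgroup Ω} (hg : Good θ Eb Z P) {a : MulAut P}
    (ha : a ∈ (preSystem F θ Eb).autGroup P) : Central F θ Eb Z P a :=
  h.central_all_aux _ hg le_rfl a ha

theorem transported_pow {T P : Subgroup Ω} (hT : T ≤ S) {a : MulAut P}
    (ha : Transported F T a) : ∃ j, a ^ p ^ j = 1 := by
  obtain ⟨R, e, he, hR, t, ht, c, hc, rfl⟩ := ha
  obtain ⟨j, hj⟩ := isPGroup_autInducedBy h.pgroup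
    (⟨c, mem_autInducedBy_iff.2 ⟨t, hT ht, hc⟩⟩ : autInducedBy S R)
  exact ⟨j, by rw [← map_pow, show c ^ p ^ j = 1 from congrArg Subtype.val hj, map_one]⟩

/-- A canonical automorphism induced by `S` is induced by the preimage of `T'`. -/
theorem canAut_induced {P : Subgroup Ω} (hP : F.IsFullyNormalized P) (hg : Good θ Eb Z P)
    {c : MulAut P} (hcA : c ∈ canAut F θ Eb p P) (hcS : c ∈ autInducedBy S P) :
    c ∈ autInducedBy (preimageAlong θ T') P := by
  classical
  have hPS := hg.leS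
  have hfc := IsSaturated.fullyCentralized h.pgroup h.sat hP
  have := finite_mulAut_of_le (S := S) hPS
  set M := (preSystem F θ Eb).autGroup P with hM
  set L₀ := autInducedBy (preimageAlong θ T') P with hL₀
  have hL₀M : L₀ ≤ M := fun x hx => canAut_le P (h.autInducedBy_le_canAut hg.le hx)
  have hL₀S : L₀ ≤ autInducedBy S P := autInducedBy_mono (preimageAlong_le θ T')
  let H : Subgroup M := (autInducedBy S P ⊓ M).subgroupOf M
  let emb : H →* MulAut P := M.subtype.comp H.subtype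
  have hembS : ∀ x : H, emb x ∈ autInducedBy S P := fun x => x.2.1
  have hL₀conj : ∀ σ ∈ autInducedBy S P, ∀ τ ∈ L₀, σ * τ * σ⁻¹ ∈ L₀ := by
    intro σ hσ τ hτ
    obtain ⟨s, hs, hsv⟩ := mem_autInducedBy_iff.1 hσ
    obtain ⟨t, ht, htv⟩ := mem_autInducedBy_iff.1 hτ
    exact mem_autInducedBy_iff.2 ⟨s * t * s⁻¹,
      conj_mem_of_mem_normalizer (StronglyClosed.normal_in h.tclosed hs) ht,
      autInducedBy_conj (fun x => hsv x ▸ (σ x).2) hsv htv⟩
  let N₀ : Subgroup H := L₀.comap emb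
  haveI : N₀.Normal := ⟨fun x hx g => by
    show emb (g * x * g⁻¹) ∈ L₀
    rw [map_mul, map_mul, map_inv]
    exact hL₀conj _ (hembS g) _ hx⟩
  let q := QuotientGroup.mk' N₀
  have hqeq : ∀ {x y : H}, (emb x)⁻¹ * emb y ∈ L₀ → q x = q y := fun {x y} hxy =>
    QuotientGroup.eq.2 (by
      show emb (x⁻¹ * y) ∈ L₀
      rw [map_mul, map_inv]; exact hxy)
  have hker : ∀ x : H, ∃ k : H, emb k ∈ kerAut F Z P h.fix ∧ q x = q k := by
    intro x
    obtain ⟨t, ht, htk⟩ := h.induced_decomp hP hg x.2.1 x.2.2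
    have hm : t⁻¹ * emb x ∈ autInducedBy S P ⊓ M :=
      ⟨Subgroup.mul_mem _ (Subgroup.inv_mem _ (hL₀S ht)) x.2.1, Subgroup.mul_mem _ (Subgroup.inv_mem _ (hL₀M ht)) x.2.2⟩
    refine ⟨⟨⟨_, hm.2⟩, hm⟩, htk, hqeq ?_⟩
    show (emb x)⁻¹ * (t⁻¹ * emb x) ∈ L₀
    have := hL₀conj _ (inv_mem (hembS x)) _ (inv_mem ht)
    simpa [mul_assoc] using this
  letI : CommGroup (H ⧸ N₀) :=
    { (inferInstance : Group (H ⧸ N₀)) with
      mul_comm := by
        rintro ⟨x⟩ ⟨y⟩
        obtain ⟨k, hk, hxk⟩ := hker x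
        obtain ⟨k', hk', hyk⟩ := hker y
        show q x * q y = q y * q x
        rw [hxk, hyk, ← map_mul, ← map_mul]
        refine congrArg q (Subtype.ext (Subtype.ext ?_))
        exact h.ker_comm hPS hk hk' }
  have hInn : Inn P ≤ L₀ := inn_le_autInducedBy hg.le
  have htrans : ∀ {u : MulAut P}, Transported F (preimageAlong θ T') u →
      u ∈ autInducedBy S P → u ∈ L₀ := fun hu huS => h.transported_induced hfc hu huS
  have hstab : ∀ (x : H) (g : M) (hm : g⁻¹ * (x : M) * g ∈ H), q ⟨_, hm⟩ = q x := by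
    intro x g hm
    obtain ⟨t, ht, htk⟩ := h.induced_decomp hP hg x.2.1 x.2.2
    set k := t⁻¹ * emb x with hk
    have hkK : k ∈ kerAut F Z P h.fix := htk
    set γ := (g : MulAut P)⁻¹ with hγ
    have hγM : γ ∈ M := inv_mem g.2
    have hi : γ * k * γ⁻¹ * k⁻¹ ∈ Inn P := h.central_all hg hγM k hkK.1 hkK.2
    set u : MulAut P := γ * t * γ⁻¹ with hu
    set z : H := ⟨_, hm⟩ with hz
    have hzv : emb z = γ * emb x * γ⁻¹ := by
      show (g : MulAut P)⁻¹ * emb x * (g : MulAut P) = _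
      rw [hγ, inv_inv]
    have hkS : k ∈ autInducedBy S P := mul_mem (inv_mem (hL₀S ht)) x.2.1
    have huS : u ∈ autInducedBy S P := by
      have e : u = emb z * (γ * k * γ⁻¹ * k⁻¹ * k)⁻¹ := by
        rw [hu, hzv, hk]; group
      rw [e]
      exact mul_mem (hembS z) (inv_mem (mul_mem (hL₀S (hInn hi)) hkS))
    have hu0 : u ∈ L₀ := by
      refine htrans ?_ huS
      obtain ⟨τ, hτ, hτv⟩ := mem_autInducedBy_iff.1 ht
      have h0 : Transported F (preimageAlong θ T') t :=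
        ⟨P, MulEquiv.refl P, isoIn_refl hPS, hg.le, τ, hτ, t, hτv, MulEquiv.ext fun x => rfl⟩
      have := transported_congr ((mem_autGroup_iff_isoIn hPS).1 (preAut_le hg.le hγM)) h0
      rwa [show MulAut.congr γ t = γ * t * γ⁻¹ from MulEquiv.ext fun x => rfl] at this
    refine (hqeq ?_).symm
    -- `x⁻¹ z` lies in `L₀`
    have e : (emb x)⁻¹ * emb z =
        k⁻¹ * (t⁻¹ * u * (γ * k * γ⁻¹ * k⁻¹)) * k⁻¹⁻¹ := by
      rw [hzv, hu, hk]; group
    rw [e]
    exact hL₀conj _ (inv_mem hkS) _ (mul_mem (mul_mem (inv_mem ht) hu0) (hInn hi))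
  let V := MonoidHom.transfer q
  have hpH : IsPGroup p H :=
    ((isPGroup_autInducedBy h.pgroup).to_le (inf_le_left (b := M))).of_equiv
      (Subgroup.subgroupOfEquivOfLe inf_le_right).symm
  have hVx : ∀ x : H, V (x : M) = q x ^ H.index := fun x => by
    refine transfer_eq_pow_index q x fun k g hm => ?_
    have := hstab (x ^ k) g hm
    rw [map_pow] at this
    exact this
  have hQp : IsPGroup p (H ⧸ N₀) := hpH.to_quotient _
  have hidx : H.index.Coprime p := by
    obtain ⟨R, hR⟩ := h.induced_sylow hP hg.le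
    refine ((Nat.Prime.coprime_iff_not_dvd Fact.out).2 ?_).symm
    show ¬ p ∣ ((autInducedBy S P ⊓ M).subgroupOf M).index
    rw [← hR]
    exact R.not_dvd_index
  have hL₀V : ∀ {u : MulAut P} (hu : u ∈ L₀), V ⟨u, hL₀M hu⟩ = 1 := fun {u} hu => by
    have hm : (⟨u, hL₀M hu⟩ : M) ∈ H := ⟨hL₀S hu, hL₀M hu⟩
    have h1 := hVx ⟨_, hm⟩
    rw [show q ⟨_, hm⟩ = 1 from (QuotientGroup.eq_one_iff _).2 hu, one_pow] at h1
    exact h1
  have hle : canAut F θ Eb p P ≤ V.ker.map M.subtype := by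
    refine (Subgroup.closure_le _).2 ?_
    rintro a ⟨ha, hor⟩
    refine ⟨⟨a, ha⟩, ?_, rfl⟩
    rcases hor with hcop | htt
    · obtain ⟨j, hj⟩ := hQp (V ⟨a, ha⟩)
      refine eq_one_of_coprime_pow (hcop.coprime_dvd_left ?_) hj
      exact (orderOf_map_dvd V _).trans (dvd_of_eq (Subgroup.orderOf_mk a ha))
    · obtain ⟨j, hj⟩ := h.transported_pow (preimageAlong_le θ T') htt
      obtain ⟨g, hgM, hgv⟩ := IsSylowIn.exists_conj_mem (h.induced_sylow hP hg.le)
        (Subgroup.zpowers_le.2 ha) (by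
          obtain ⟨i, -, hi⟩ := (Nat.dvd_prime_pow Fact.out).1 (orderOf_dvd_of_pow_eq_one hj)
          exact IsPGroup.of_card (n := i) (by rw [Nat.card_zpowers, hi]))
      have h1 : g * a * g⁻¹ ∈ L₀ := by
        refine htrans ?_ (hgv a (Subgroup.mem_zpowers a)).1
        have := transported_congr ((mem_autGroup_iff_isoIn hPS).1 (preAut_le hg.le hgM)) htt
        rwa [show MulAut.congr g a = g * a * g⁻¹ from MulEquiv.ext fun x => rfl] at this
      have h2 : (⟨g * a * g⁻¹, hL₀M h1⟩ : M) = ⟨g, hgM⟩ * ⟨a, ha⟩ * ⟨g, hgM⟩⁻¹ := rfl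
      have h3 := hL₀V h1
      rw [h2, map_mul, map_mul, map_inv, mul_comm (V ⟨g, hgM⟩), mul_inv_cancel_right] at h3
      exact h3
  obtain ⟨m, hm, hmc⟩ := hle hcA
  have hmH : m ∈ H := ⟨hmc.symm ▸ hcS, m.2⟩
  have h1 := hVx ⟨m, hmH⟩
  rw [show V (m : M) = 1 from hm] at h1
  obtain ⟨j, hj⟩ := hQp (q ⟨m, hmH⟩)
  have h2 : q ⟨m, hmH⟩ = 1 := eq_one_of_coprime_pow
    (hidx.coprime_dvd_left (orderOf_dvd_of_pow_eq_one h1.symm)) hj
  have h3 := (QuotientGroup.eq_one_iff _).1 h2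
  rw [← hmc]
  exact h3

/-- The canonical automorphisms meet the kernel in inner automorphisms. -/
theorem canAut_ker {P : Subgroup Ω} (hg : Good θ Eb Z P) {a : MulAut P}
    (haA : a ∈ canAut F θ Eb p P) (haK : a ∈ kerAut F Z P h.fix) : a ∈ Inn P := by
  obtain ⟨Q, e, he, hQ, hgQ, -⟩ := h.exists_rep hg
  set b := MulAut.congr e a with hb
  have hbK : b ∈ kerAut F Z Q h.fix := h.ker_congr he haK
  have hbA : b ∈ canAut F θ Eb p Q := h.canAut_congr hg.le he haA
  obtain ⟨t, ht, htv⟩ := mem_autInducedBy_iff.1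
    (h.canAut_induced hQ hgQ hbA (h.ker_induced hQ hbK))
  have htQ : t ∈ Q := h.mem_of_cent hgQ (t := ⟨t, preimageAlong_le θ T' ht⟩)
    (mem_preimageAlong.1 ht) fun v hv => by
    obtain ⟨x, hx⟩ := pr_surjective hgQ.leS ⟨v, hv⟩
    have hx' : θ ⟨(x : Ω), hgQ.leS x.2⟩ = v := congrArg Subtype.val hx
    have h1 := congrArg Subtype.val ((h.ker_iff hgQ.leS hbK.1).1 hbK x)
    set s : S := ⟨t, preimageAlong_le θ T' ht⟩
    have h2 : θ s * v * (θ s)⁻¹ = v := by
      rw [← hx', ← map_inv, ← map_mul, ← map_mul]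
      exact (congrArg θ (Subtype.ext (htv x).symm)).trans h1
    calc v * θ s = θ s * v * (θ s)⁻¹ * θ s := by rw [h2]
      _ = _ := by group
  refine ⟨e.symm ⟨t, htQ⟩, ?_⟩
  rw [← congr_symm_congr e a, ← hb, show b = MulAut.conj ⟨t, htQ⟩ from
    MulEquiv.ext fun x => Subtype.ext (htv x)]
  exact MulEquiv.ext fun z => by simp [MulAut.congr]

/-- The covering automorphisms are canonical ones times the kernel. -/
theorem exists_canAut {P : Subgroup Ω} (hg : Good θ Eb Z P) {a : MulAut P}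
    (ha : a ∈ (preSystem F θ Eb).autGroup P) :
    ∃ c ∈ canAut F θ Eb p P, c⁻¹ * a ∈ kerAut F Z P h.fix := by
  obtain ⟨Q, e, he, hQ, hgQ, -⟩ := h.exists_rep hg
  suffices key : ∀ b ∈ (preSystem F θ Eb).autGroup Q,
      ∃ c ∈ canAut F θ Eb p Q, c⁻¹ * b ∈ kerAut F Z Q h.fix by
    obtain ⟨c, hc, hck⟩ := key _ (h.preAut_congr hg.le he ha)
    refine ⟨MulAut.congr e.symm c, h.canAut_congr hgQ.le he.symm hc, ?_⟩
    have := h.ker_congr he.symm hck
    rwa [map_mul, map_inv, congr_symm_congr] at this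
  have hQS := hgQ.leS
  have := finite_mulAut_of_le (S := S) hQS
  set A := canAut F θ Eb p Q
  set K := kerAut F Z Q h.fix
  have hnorm : A ≤ Subgroup.normalizer (K : Set (MulAut Q)) := by
    rw [Subgroup.le_normalizer_iff]
    exact fun c hc k hk => h.ker_conj hQS hk (preAut_le hgQ.le (canAut_le Q hc))
  intro b hb
  have hmem : b ∈ A ⊔ K := by
    refine le_of_sylow_of_coprime (p := p) (h.induced_sylow hQ hgQ.le) (fun c hc => ?_)
      (fun x hx ⟨n, hn, hnc⟩ => ?_) hb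
    · obtain ⟨t, ht, htk⟩ := h.induced_decomp hQ hgQ hc.1 hc.2
      rw [show c = t * (t⁻¹ * c) by group]
      exact mul_mem (Subgroup.mem_sup_left (h.autInducedBy_le_canAut hgQ.le ht))
        (Subgroup.mem_sup_right htk)
    · exact Subgroup.mem_sup_left (Subgroup.subset_closure ⟨hx,
        Or.inl (hnc.coprime_dvd_left (orderOf_dvd_of_pow_eq_one hn))⟩)
  rw [← SetLike.mem_coe, Subgroup.coe_mul_of_left_le_normalizer_right _ _ hnorm] at hmem
  obtain ⟨c, hc, k, hk, rfl⟩ := hmem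
  exact ⟨c, hc, by rw [inv_mul_cancel_left]; exact hk⟩

/-- Canonical automorphisms of `p`-power order are transported from the preimage of `T'`. -/
theorem canAut_transported {P : Subgroup Ω} (hg : Good θ Eb Z P) {a : MulAut P}
    (haA : a ∈ canAut F θ Eb p P) {j : ℕ} (hj : a ^ p ^ j = 1) :
    Transported F (preimageAlong θ T') a := by
  obtain ⟨Q, e, he, hQ, hgQ, -⟩ := h.exists_rep hg
  have hQS := hgQ.leS
  have := finite_mulAut_of_le (S := S) hQS
  set b := MulAut.congr e a with hb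
  have hbA : b ∈ canAut F θ Eb p Q := h.canAut_congr hg.le he haA
  obtain ⟨g, hgM, hgv⟩ := IsSylowIn.exists_conj_mem (h.induced_sylow hQ hgQ.le)
    (Subgroup.zpowers_le.2 (canAut_le Q hbA)) (by
      obtain ⟨i, -, hi⟩ := (Nat.dvd_prime_pow Fact.out).1 (orderOf_dvd_of_pow_eq_one
        (show b ^ p ^ j = 1 by rw [hb, ← map_pow, hj, map_one]))
      exact IsPGroup.of_card (n := i) (by rw [Nat.card_zpowers, hi]))
  have hgF := preAut_le hgQ.le hgM
  have h1 := h.canAut_induced hQ hgQ (h.canAut_conj hgQ.le hbA hgF)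
    (hgv b (Subgroup.mem_zpowers b)).1
  obtain ⟨t, ht, htv⟩ := mem_autInducedBy_iff.1 h1
  have h0 : Transported F (preimageAlong θ T') (g * b * g⁻¹) :=
    ⟨Q, MulEquiv.refl Q, isoIn_refl hQS, hgQ.le, t, ht, _, htv, MulEquiv.ext fun x => rfl⟩
  have h2 := transported_congr (((mem_autGroup_iff_isoIn hQS).1 (inv_mem hgF)).trans he.symm) h0
  rwa [show MulAut.congr ((g⁻¹ : MulAut Q).trans e.symm) (g * b * g⁻¹) = a from by
    refine MulEquiv.ext fun x => ?_
    simp [MulAut.congr, hb]] at h2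

/-- Canonical automorphisms preserving a good subgroup restrict to canonical ones. -/
theorem canAut_restrict {R Q : Subgroup Ω} (hR : Good θ Eb Z R) (hQ : Good θ Eb Z Q)
    (hQR : Q ≤ R) {a : MulAut R} (ha : a ∈ canAut F θ Eb p R)
    (hst : ∀ x : R, (x : Ω) ∈ Q → ((a x : R) : Ω) ∈ Q) :
    ∃ b ∈ canAut F θ Eb p Q, ∀ x : Q,
      ((b x : Q) : Ω) = ((a (Subgroup.inclusion hQR x) : R) : Ω) := by
  classical
  have hRS := hR.leS
  have hQS := hQ.leS
  have := finite_mulAut_of_le (S := S) hRS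
  have := finite_le hRS
  -- restriction of covering automorphisms
  have := finite_le h.tclosed.1
  have hres : ∀ c ∈ (preSystem F θ Eb).autGroup R,
      (∀ x : R, (x : Ω) ∈ Q → ((c x : R) : Ω) ∈ Q) →
      ∃ b ∈ (preSystem F θ Eb).autGroup Q, ∀ x : Q,
        ((b x : Q) : Ω) = ((c (Subgroup.inclusion hQR x) : R) : Ω) := by
    intro c hc hcs
    obtain ⟨b, hb, hbv⟩ := exists_restrict_aut hR.le hQR hc hcs
    exact ⟨b, hb, fun x => (hbv x x.2).symm⟩
  have hcase : ∀ c ∈ canAut F θ Eb p R, (∀ x : R, (x : Ω) ∈ Q → ((c x : R) : Ω) ∈ Q) →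
      ((orderOf c).Coprime p ∨ ∃ j, c ^ p ^ j = 1) →
      ∃ b ∈ canAut F θ Eb p Q, ∀ x : Q,
        ((b x : Q) : Ω) = ((c (Subgroup.inclusion hQR x) : R) : Ω) := by
    intro c hc hcs hor
    obtain ⟨b, hb, hbv⟩ := hres c (canAut_le R hc) hcs
    have hpw : ∀ n : ℕ, ∀ x : Q, (((b ^ n) x : Q) : Ω) =
        (((c ^ n) (Subgroup.inclusion hQR x) : R) : Ω) := by
      intro n
      induction n with
      | zero => intro x; rfl
      | succ n ih =>
          intro x
          rw [pow_succ, pow_succ, MulAut.mul_apply, MulAut.mul_apply, ih]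
          exact congrArg (fun z => (((c ^ n) z : R) : Ω)) (Subtype.ext (hbv x))
    refine ⟨b, Subgroup.subset_closure ⟨hb, ?_⟩, hbv⟩
    rcases hor with hcop | ⟨j, hj⟩
    · left
      refine hcop.coprime_dvd_left (orderOf_dvd_of_pow_eq_one (MulEquiv.ext fun x =>
        Subtype.ext ?_))
      rw [hpw, pow_orderOf_eq_one]
      rfl
    · right
      obtain ⟨R₂, e, he, hR₂, t, ht, τ, hτ, hτc⟩ := h.canAut_transported hR hc hj
      obtain ⟨Q₂, hQ₂⟩ : ∃ U, U = ((isoHom e.symm).comp (Subgroup.inclusion hQR)).range :=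
        ⟨_, rfl⟩
      obtain ⟨e₂, he₂, he₂v⟩ := exists_iso (restrict_mem he.symm.mem hQR) hQ₂.symm
      have hQ₂R : Q₂ ≤ R₂ := by
        rw [hQ₂]
        rintro _ ⟨x, rfl⟩
        exact (e.symm _).2
      have hconj : ∀ z : Q, ((e₂ (b z) : Q₂) : Ω) = t * (e₂ z : Ω) * t⁻¹ := by
        intro z
        rw [he₂v, he₂v]
        show ((e.symm (Subgroup.inclusion hQR (b z)) : R₂) : Ω) =
          t * ((e.symm (Subgroup.inclusion hQR z) : R₂) : Ω) * t⁻¹
        rw [← hτ]
        refine congrArg Subtype.val ?_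
        rw [MulEquiv.symm_apply_eq]
        refine Subtype.ext ((hbv z).trans ?_)
        rw [← hτc]
        rfl
      refine ⟨Q₂, e₂.symm, he₂.symm, hQ₂R.trans hR₂, t, ht, MulAut.congr e₂ b, fun x => ?_,
        congr_symm_congr e₂ b⟩
      obtain ⟨z, rfl⟩ := e₂.surjective x
      rw [show MulAut.congr e₂ b (e₂ z) = e₂ (b z) by simp [MulAut.congr]]
      exact hconj z
  obtain ⟨i, j, hij, hp', hcop⟩ := exists_p_split (p := p) a
  have hpres : ∀ n : ℕ, ∀ x : R, (x : Ω) ∈ Q → (((a ^ n) x : R) : Ω) ∈ Q := by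
    intro n
    induction n with
    | zero => intro x hx; exact hx
    | succ n ih => intro x hx; rw [pow_succ, MulAut.mul_apply]; exact ih _ (hst x hx)
  obtain ⟨b₁, hb₁, hv₁⟩ := hcase _ (pow_mem ha i) (hpres i) (Or.inr hp')
  obtain ⟨b₂, hb₂, hv₂⟩ := hcase _ (pow_mem ha j) (hpres j) (Or.inl hcop)
  refine ⟨b₁ * b₂, mul_mem hb₁ hb₂, fun x => ?_⟩
  rw [MulAut.mul_apply, hv₁]
  conv_rhs => rw [← hij, MulAut.mul_apply]
  exact congrArg (fun z => (((a ^ i) z : R) : Ω)) (Subtype.ext (hv₂ x))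

end Setup

end CfsgLib.Fusion.CentralLift
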