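import Cfsg.Agent.Lib.Fusion.CentralLiftGen

/-!
# The automorphisms in the generated system are the canonical ones
-/

set_option autoImplicit false
set_option linter.unusedSectionVars false
set_option maxHeartbeats 1000000

namespace CfsgLib.Fusion.CentralLift

open Cfsg Cfsg.FusionSystem CfsgLib.Fusion

variable {Ω Ω' : Type*} [Group Ω] [Group Ω'] {S : Subgroup Ω} {S' T' : Subgroup Ω'}
variable {F : FusionSystem S} {θ : S →* Ω'} {Fb : FusionSystem S'} {Eb : FusionSystem T'}
  {Z : Subgroup Ω} {p : ℕ}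

/-- A generated map of the normalizer of `W` in the preimage, carrying `W` to `P`. -/
structure RefMap (F : FusionSystem S) (Z : Subgroup Ω) (θ : S →* Ω') (Eb : FusionSystem T')
    (p : ℕ) (P W : Subgroup Ω) (η : normalizerIn (preimageAlong θ T') W →* Ω) : Prop where
  gen : GenLift F Z θ Eb p η
  maps : ∀ x : normalizerIn (preimageAlong θ T') W, (x : Ω) ∈ W → η x ∈ P
  le : W ≤ preimageAlong θ T'
  card : Nat.card W = Nat.card P

namespace Setup

variable [Fact p.Prime] [Finite S] (h : Setup p F Z θ Fb Eb)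
include h

/-- Generated automorphisms trivial modulo `Z` are inner once the automorphism group is canonical. -/
theorem inner_of_ker {M : Subgroup Ω} (hM : Good θ Eb Z M)
    (hA : h.liftSys.autGroup M ≤ canAut F θ Eb p M) {a : MulAut M}
    (ha : a ∈ h.liftSys.autGroup M) (hk : ∀ x : M, pr θ hM.leS (a x) = pr θ hM.leS x) :
    a ∈ Inn M :=
  h.canAut_ker hM (hA ha) ((h.ker_iff hM.leS (preAut_le hM.le (canAut_le M (hA ha)))).2 hk)

/-- A generated map fixing `P` restricts to a canonical automorphism. -/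
theorem delta_core {P : Subgroup Ω} (hg : Good θ Eb Z P)
    (hbe : Eb.IsFullyNormalized (imageAlong θ P))
    (hup : ∀ Q, Good θ Eb Z Q → Nat.card P < Nat.card Q →
      h.liftSys.autGroup Q ≤ canAut F θ Eb p Q)
    {M : Subgroup Ω} (hPM : P ≤ M) (hlt : Nat.card P < Nat.card M)
    (hM : M ≤ normalizerIn (preimageAlong θ T') P) {δ : M →* Ω} (hδ : GenLift F Z θ Eb p δ)
    (hfix : ∀ x : M, (x : Ω) ∈ P → δ x ∈ P) :
    ∃ c ∈ canAut F θ Eb p P, ∀ x : P, δ (Subgroup.inclusion hPM x) = ((c x : P) : Ω) := by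
  classical
  have hPS := hg.leS
  have hPT := hg.le
  have hMT : M ≤ preimageAlong θ T' := hM.trans (normalizerIn_le P)
  have hMS : M ≤ S := hMT.trans (preimageAlong_le θ T')
  have hgM : Good θ Eb Z M := h.good_mono hg hPM hMT
  have := h.tfinite'
  have := finite_le hMS
  have := finite_le hPS
  set Pb := imageAlong θ P with hPb
  have hI := h.image_le' hPT
  have : Finite Pb := finite_le hI
  have hNS := normSystem_isNormalizerSystem Eb Pb hI
  set NS := normSystem Eb Pb hI
  have hNp : IsPGroup p (normalizerIn T' Pb) := h.tgroup'.to_le (normalizerIn_le Pb)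
  have hNfin : Finite (normalizerIn T' Pb) := finite_le (normalizerIn_le Pb)
  have hNSsat : NS.IsSaturated p := normalizerSystem_saturated h.tgroup' h.esat hbe hNS
  have hNrg : ∀ {U : Subgroup Ω'}, U ≤ T' → U ≤ θ.range := fun hU =>
    hU.trans (h.tclosed'.1.trans h.range.ge)
  have hDom : ∀ {U : Subgroup Ω'}, U ≤ normalizerIn T' Pb →
      preimageAlong θ U ⊔ P ≤ preimageAlong θ T' := fun hU =>
    sup_le (preimageAlong_mono (hU.trans (normalizerIn_le Pb))) hPT
  let Ev : FusionSystem (normalizerIn T' Pb) :=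
    { Hom := fun U => {ψ | ψ ∈ NS.Hom U ∧ ∃ g : ↥(preimageAlong θ U ⊔ P) →* Ω,
        GenLift F Z θ Eb p g ∧ (∃ c ∈ canAut F θ Eb p P,
          ∀ x : P, g (Subgroup.inclusion le_sup_right x) = ((c x : P) : Ω)) ∧
        ∀ (x : ↥(preimageAlong θ U ⊔ P)) (hx : (x : Ω) ∈ S) (hm : θ ⟨x, hx⟩ ∈ U)
          (hgx : g x ∈ S), ψ ⟨θ ⟨x, hx⟩, hm⟩ = θ ⟨g x, hgx⟩}
      le_of_mem := fun hψ => NS.le_of_mem hψ.1
      injective_of_mem := fun hψ => NS.injective_of_mem hψ.1
      conj_mem := fun {U t} hU ht => by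
        obtain ⟨s, rfl⟩ := hNrg le_rfl ht.1
        have hsN := h.normalizes hg.zle hPS s fun y hy => conj_mem_of_mem_normalizer ht.2 hy
        have hsT : (s : Ω) ∈ preimageAlong θ T' := mem_preimageAlong.2 ht.1
        refine ⟨NS.conj_mem hU ht, conjHom _ (s : Ω), h.conjLift (hDom hU) hsT,
          ⟨P.normalizerMonoidHom ⟨s, hsN⟩, h.autInducedBy_le_canAut hPT
            (mem_autInducedBy_iff.2 ⟨s, hsT, fun x => rfl⟩), fun x => rfl⟩, fun x hx hm hgx => ?_⟩
        show θ s * θ ⟨x, hx⟩ * (θ s)⁻¹ = θ _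
        rw [← map_inv, ← map_mul, ← map_mul]
        rfl
      comp_mem := by
        rintro U V ψ χ ⟨hψ, g, hg₁, ⟨c, hc, hcv⟩, hv⟩ ⟨hχ, g₂, hg₂, ⟨c₂, hc₂, hc₂v⟩, hv₂⟩ hh
        have hUS : preimageAlong θ U ⊔ P ≤ S := sup_le (preimageAlong_le θ U) hPS
        have hmem : ∀ x, g x ∈ preimageAlong θ V ⊔ P := by
          refine apply_mem_of_sup (fun x => ?_) fun x => ?_
          · refine Subgroup.mem_sup_left ?_
            refine (mem_preimageAlong (x := ⟨_, hom_apply_mem hg₁.mem _⟩)).2 ?_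
            rw [← hv (Subgroup.inclusion le_sup_left x) (preimageAlong_le θ U x.2)
              (mem_preimageAlong.1 x.2) (hom_apply_mem hg₁.mem _)]
            exact hh _
          · rw [hcv]
            exact Subgroup.mem_sup_right (c x).2
        refine ⟨NS.comp_mem hψ hχ hh, g₂.comp (g.codRestrict _ hmem),
          GenLift.comp hg₂ hg₁ hmem fun _ => rfl, ⟨c₂ * c, mul_mem hc₂ hc, fun x => ?_⟩,
          fun x hx hm hgx => ?_⟩
        · rw [MulAut.mul_apply, ← hc₂v]
          exact congrArg g₂ (Subtype.ext (hcv x))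
        · have h1 := hv x hx hm (hom_apply_mem hg₁.mem x)
          have h2 := hv₂ ⟨g x, hmem x⟩ (hom_apply_mem hg₁.mem x) (h1 ▸ hh _) hgx
          refine Eq.trans ?_ h2
          exact congrArg χ (Subtype.ext h1)
      inv_mem := by
        rintro U ψ ⟨hψ, g, hg₁, ⟨c, hc, hcv⟩, hv⟩
        obtain ⟨ψ₂, hψ₂, hψ₂v⟩ := NS.inv_mem hψ
        obtain ⟨g₂, hg₂, hg₂v⟩ := GenLift.inv hg₁
        have hr : preimageAlong θ ψ.range ⊔ P ≤ g.range := by
          refine sup_le ?_ fun y hy => ?_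
          · rintro _ ⟨s, ⟨u, hu⟩, rfl⟩
            obtain ⟨x, hx⟩ := exists_preimage (hNrg ((hom_le hψ).trans (normalizerIn_le Pb))) u
            set x₁ : ↥(preimageAlong θ U ⊔ P) := Subgroup.inclusion le_sup_left x
            have h1 := hv x₁ (preimageAlong_le θ U x.2) (hx.symm ▸ u.2) (hom_apply_mem hg₁.mem _)
            have h2 : θ s = θ ⟨g x₁, hom_apply_mem hg₁.mem _⟩ := by
              rw [← h1, ← hu]
              exact congrArg ψ (Subtype.ext hx.symm)
            have hz : ((⟨g x₁, hom_apply_mem hg₁.mem _⟩⁻¹ * s : S) : Ω) ∈ Z := by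
              rw [← h.ker, map_mul, map_inv, h2, inv_mul_cancel]
            set z : ↥(preimageAlong θ U ⊔ P) := ⟨_, Subgroup.mem_sup_right (hg.zle hz)⟩
            refine ⟨x₁ * z, ?_⟩
            rw [map_mul, h.fix_hom hg₁.mem z hz]
            exact mul_inv_cancel_left (g x₁) (s : Ω)
          · refine ⟨Subgroup.inclusion le_sup_right (c⁻¹ ⟨y, hy⟩), ?_⟩
            rw [hcv, MulAut.apply_inv_self]
        refine ⟨ψ₂, ⟨hψ₂, g₂.comp (Subgroup.inclusion hr),
          GenLift.comp hg₂ (GenLift.incl (preimageAlong θ ψ.range ⊔ P).subtype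
            (hDom (hom_range_le hψ)) fun _ => rfl) (fun y => hr y.2) fun _ => rfl,
          ⟨c⁻¹, inv_mem hc, fun x => ?_⟩, fun y hy hm hgy => ?_⟩, hψ₂v⟩
        · refine Eq.trans ?_ (hg₂v (Subgroup.inclusion le_sup_right (c⁻¹ x)))
          refine congrArg g₂ (Subtype.ext ?_)
          show (x : Ω) = g _
          rw [hcv, MulAut.apply_inv_self]
        · obtain ⟨u, hu⟩ := hm
          obtain ⟨x, hx⟩ := hr y.2
          have hxS : (x : Ω) ∈ S := hom_le hg₁.mem x.2
          have h3 : g₂ (Subgroup.inclusion hr y) = x :=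
            (congrArg g₂ (Subtype.ext hx.symm)).trans (hg₂v x)
          obtain ⟨w, hw⟩ := exists_preimage (hNrg ((hom_le hψ).trans (normalizerIn_le Pb))) u
          set w₁ : ↥(preimageAlong θ U ⊔ P) := Subgroup.inclusion le_sup_left w
          have h4 := hv w₁ (preimageAlong_le θ U w.2) (hw.symm ▸ u.2) (hom_apply_mem hg₁.mem _)
          have h5 : θ ⟨g w₁, hom_apply_mem hg₁.mem _⟩ = θ ⟨g x, hom_apply_mem hg₁.mem _⟩ := by
            rw [← h4]
            refine Eq.trans (congrArg ψ (Subtype.ext hw)) (hu.trans ?_)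
            exact congrArg θ (Subtype.ext hx.symm)
          have hz : g (w₁⁻¹ * x) ∈ Z := by
            have h6 : θ (⟨g w₁, hom_apply_mem hg₁.mem _⟩⁻¹ * ⟨g x, hom_apply_mem hg₁.mem _⟩) = 1 := by
              rw [map_mul, map_inv, h5, inv_mul_cancel]
            rw [map_mul, map_inv]
            exact (h.ker _).1 h6
          have hwx : ((w₁⁻¹ * x : ↥(preimageAlong θ U ⊔ P)) : Ω) ∈ Z := by
            set z : ↥(preimageAlong θ U ⊔ P) := ⟨_, Subgroup.mem_sup_right (hg.zle hz)⟩ with hzdef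
            have h7 : g z = g (w₁⁻¹ * x) := h.fix_hom hg₁.mem z hz
            rw [← show z = w₁⁻¹ * x from F.injective_of_mem hg₁.mem h7]
            exact hz
          have hxm : θ ⟨(x : Ω), hxS⟩ = (u : Ω') := by
            rw [← hw]
            exact ((inv_mul_eq_one.1 (by
              rw [← map_inv, ← map_mul]
              exact (h.ker ((⟨(w₁ : Ω), preimageAlong_le θ U w.2⟩ : S)⁻¹ * ⟨x, hxS⟩)).2 hwx)).symm)
          calc ψ₂ _ = ψ₂ ⟨ψ u, ⟨u, rfl⟩⟩ := congrArg ψ₂ (Subtype.ext hu.symm)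
            _ = u := hψ₂v u
            _ = θ ⟨(x : Ω), hxS⟩ := hxm.symm
            _ = _ := congrArg θ (Subtype.ext h3.symm) }
  have hE : NS ≤ Ev := alperin hNp hNSsat Ev fun U hU b hb => by
    have hUN : U ≤ normalizerIn T' Pb := by
      rcases hU with rfl | hU
      · exact le_rfl
      · exact hU.1.1
    have hb' := (mem_autGroup_iff hUN).1 hb
    obtain ⟨-, -, -, ψ, hψ, hψU, hψP⟩ := hb'
    have hR'T : (U ⊔ Pb) ≤ T' := sup_le (hUN.trans (normalizerIn_le Pb)) hI
    have hr : ψ.range = (U ⊔ Pb) := by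
      rw [ext_range hψU hψP]
      exact congrArg (· ⊔ Pb) (isoHom_range (b : U ≃* U))
    obtain ⟨β, hβ, hβv⟩ := exists_iso hψ hr
    have hR := h.good_preimage (isCentric_mono hg.centric le_sup_right hR'T : Eb.IsCentric (U ⊔ Pb))
    set R := preimageAlong θ (U ⊔ Pb) with hRdef
    have hRb : imageAlong θ R = (U ⊔ Pb) := imageAlong_preimageAlong (hNrg hR'T)
    obtain ⟨b₁, hb₁, hb₁v⟩ : ∃ b₁ ∈ Eb.autGroup (imageAlong θ R), ∀ (y : Ω')
        (h₁ : y ∈ imageAlong θ R) (h₂ : y ∈ (U ⊔ Pb)), ((b₁ ⟨y, h₁⟩ : _) : Ω') = β ⟨y, h₂⟩ := by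
      generalize imageAlong θ R = W at hRb
      subst hRb
      exact ⟨β, (mem_autGroup_iff_isoIn hR'T).2 hβ, fun y h₁ h₂ => rfl⟩
    obtain ⟨cR, hcR, hcRv⟩ := h.exists_canCover hR hb₁
    have hval : ∀ (x : R) (hm : θ ⟨(x : Ω), hR.leS x.2⟩ ∈ (U ⊔ Pb)),
        θ ⟨((cR x : R) : Ω), hR.leS (cR x).2⟩ = (β ⟨_, hm⟩ : Ω') := fun x hm =>
      (congrArg Subtype.val (hcRv x)).symm.trans (hb₁v _ (pr θ hR.leS x).2 hm)
    have hPR : P ≤ R := fun x hx => (mem_preimageAlong (x := ⟨x, hPS hx⟩)).2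
      (Subgroup.mem_sup_right ⟨_, hx, rfl⟩)
    have hst : ∀ x : R, (x : Ω) ∈ P → ((cR x : R) : Ω) ∈ P := fun x hx => by
      refine h.mem_of_pr hg.zle hPS (s := ⟨_, hR.leS (cR x).2⟩) ?_
      have hm : θ ⟨(x : Ω), hR.leS x.2⟩ ∈ Pb := ⟨_, hx, rfl⟩
      rw [hval x (Subgroup.mem_sup_right hm), hβv]
      exact hψP.le ⟨_, hm, rfl⟩
    obtain ⟨c, hc, hcv⟩ := h.canAut_restrict hR hg hPR hcR hst
    have hle : preimageAlong θ U ⊔ P ≤ R := sup_le (preimageAlong_mono le_sup_left) hPR
    refine (mem_autGroup_iff hUN).2 ⟨(mem_autGroup_iff hUN).1 hb,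
      (R.subtype.comp cR.toMonoidHom).comp (Subgroup.inclusion hle),
      GenLift.step hR cR hcR (GenLift.incl (preimageAlong θ U ⊔ P).subtype (hDom hUN) fun _ => rfl)
        (fun x => hle x.2) _ fun _ => rfl, ⟨c, hc, fun x => ?_⟩, fun x hx hm hgx => ?_⟩
    · exact (hcv x).symm
    · refine Eq.trans ?_ (hval (Subgroup.inclusion hle x) (Subgroup.mem_sup_left hm)).symm
      rw [hβv]
      exact (hψU ⟨_, hm⟩).symm
  -- the image of `δ`
  obtain ⟨-, -, φ', hφ', hMS', hδS, hm, hv⟩ := hδ.mem_pre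
  have hPbM : Pb ≤ imageAlong θ M := imageAlong_mono hPM
  have hMb : imageAlong θ M ≤ normalizerIn T' Pb :=
    (imageAlong_mono hM).trans (h.image_normalizerT hg.zle hPS).le
  have hδN : ∀ g : M, δ g ∈ normalizerIn (preimageAlong θ T') P := fun g =>
    ⟨hom_apply_mem hδ.mem_pre g, map_normalizes hPM (hM.trans inf_le_right)
      (F.injective_of_mem hδ.mem) hfix le_rfl g⟩
  have hφNS : φ' ∈ NS.Hom (imageAlong θ M) := by
    refine ⟨hφ', hMb, fun y => ?_, φ'.comp (Subgroup.inclusion (sup_le le_rfl hPbM)),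
      restrict_mem hφ' _, fun y => rfl, ?_⟩
    · obtain ⟨x, rfl⟩ := pr_surjective hMS y
      exact (h.image_normalizerT hg.zle hPS).le
        ((hv x).symm ▸ ⟨⟨δ x, hδS x⟩, hδN x, rfl⟩)
    · refine Subgroup.eq_of_le_of_card_ge ?_ ?_
      · rintro _ ⟨⟨y, hy⟩, hyP, rfl⟩
        obtain ⟨x, hx⟩ := pr_surjective hPS ⟨y, hyP⟩
        have hx' : θ ⟨(x : Ω), hPS x.2⟩ = y := congrArg Subtype.val hx
        refine (congrArg (fun z => z ∈ Pb) (?_ : φ' _ = _)).mpr
          (⟨⟨δ (Subgroup.inclusion hPM x), hδS _⟩, hfix _ x.2, rfl⟩ : θ ⟨δ _, hδS (Subgroup.inclusion hPM x)⟩ ∈ Pb)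
        exact (congrArg φ' (Subtype.ext hx'.symm)).trans (hv (Subgroup.inclusion hPM x))
      · exact (card_img (Eb.injective_of_mem (restrict_mem hφ' (sup_le le_rfl hPbM)))
          le_sup_right).ge
  obtain ⟨-, g, hgen, ⟨c, hc, hcv⟩, hgv⟩ := hE _ hφNS
  have hMD : M ≤ preimageAlong θ (imageAlong θ M) ⊔ P := fun x hx => Subgroup.mem_sup_left
    ((mem_preimageAlong (x := ⟨x, hMS hx⟩)).2 ⟨_, hx, rfl⟩)
  set g₀ : M →* Ω := g.comp (Subgroup.inclusion hMD) with hg₀
  have hg₀G : GenLift F Z θ Eb p g₀ :=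
    GenLift.comp hgen (GenLift.incl M.subtype hMT fun _ => rfl) (fun x => hMD x.2) fun _ => rfl
  have hg₀v : ∀ x : M, φ' ⟨_, hm x⟩ = θ ⟨g₀ x, hom_apply_mem hg₀G.mem x⟩ := fun x =>
    hgv (Subgroup.inclusion hMD x) (hMS x.2) (hm x) (hom_apply_mem hg₀G.mem x)
  obtain ⟨gi, hgi, hgiv⟩ := GenLift.inv hg₀G
  have hmem : ∀ x, δ x ∈ g₀.range := fun x => by
    have hz : ((⟨g₀ x, hom_apply_mem hg₀G.mem x⟩⁻¹ * ⟨δ x, hδS x⟩ : S) : Ω) ∈ Z := by
      rw [← h.ker, map_mul, map_inv, ← hg₀v, ← hv, inv_mul_cancel]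
    refine ⟨x * ⟨_, hgM.zle hz⟩, ?_⟩
    rw [map_mul, h.fix_hom hg₀G.mem ⟨_, hgM.zle hz⟩ hz]
    exact mul_inv_cancel_left (g₀ x) (δ x)
  set d : M →* Ω := gi.comp (δ.codRestrict _ hmem) with hd
  have hdG : GenLift F Z θ Eb p d := GenLift.comp hgi hδ hmem fun _ => rfl
  have hdspec : ∀ x : M, ∃ y : M, (y : Ω) = d x ∧ g₀ y = δ x := fun x => by
    obtain ⟨y, hy⟩ := hmem x
    refine ⟨y, ?_, hy⟩
    rw [hd]
    exact ((congrArg gi (Subtype.ext hy.symm : (⟨δ x, hmem x⟩ : g₀.range) = ⟨g₀ y, ⟨y, rfl⟩⟩)).trans (hgiv y)).symm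
  have hdr : d.range = M := by
    refine Subgroup.eq_of_le_of_card_ge ?_
      (Nat.card_congr (MonoidHom.ofInjective (F.injective_of_mem hdG.mem)).toEquiv).le
    rintro _ ⟨x, rfl⟩
    obtain ⟨y, hy, -⟩ := hdspec x
    exact hy ▸ y.2
  obtain ⟨a, ha, hav⟩ := exists_iso (F := h.liftSys) hdG hdr
  have haA : (a : MulAut M) ∈ h.liftSys.autGroup M := (mem_autGroup_iff_isoIn hMT).2 ha
  obtain ⟨m, hmv⟩ := h.inner_of_ker hgM (hup M hgM hlt) haA fun x => by
    obtain ⟨y, hy, hgy⟩ := hdspec x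
    have hay : a x = y := Subtype.ext ((hav x).trans hy.symm)
    apply Eb.injective_of_mem hφ'
    show φ' ⟨_, hm (a x)⟩ = φ' ⟨_, hm x⟩
    rw [hg₀v, hv]
    exact congrArg θ (Subtype.ext ((congrArg g₀ hay).trans hgy))
  have hmP : (m : Ω) ∈ Subgroup.normalizer (P : Set Ω) := (hM m.2).2
  refine ⟨c * P.normalizerMonoidHom ⟨(m : Ω), hmP⟩, mul_mem hc (h.autInducedBy_le_canAut hPT
    (mem_autInducedBy_iff.2 ⟨m, hMT m.2, fun x => rfl⟩)), fun x => ?_⟩
  rw [MulAut.mul_apply, ← hcv]
  obtain ⟨y, hy, hgy⟩ := hdspec (Subgroup.inclusion hPM x)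
  rw [← hgy, hg₀]
  refine congrArg g (Subtype.ext ?_)
  show (y : Ω) = (m : Ω) * (x : Ω) * (m : Ω)⁻¹
  rw [hy, ← hav, ← hmv]
  rfl

/-- Two reference maps compared along a generated map between normalizers. -/
theorem delta {P W W' : Subgroup Ω} (hg : Good θ Eb Z P)
    (hbe : Eb.IsFullyNormalized (imageAlong θ P))
    (hup : ∀ Q, Good θ Eb Z Q → Nat.card P < Nat.card Q →
      h.liftSys.autGroup Q ≤ canAut F θ Eb p Q)
    {η : normalizerIn (preimageAlong θ T') W →* Ω} (hη : RefMap F Z θ Eb p P W η)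
    {η' : normalizerIn (preimageAlong θ T') W' →* Ω} (hη' : RefMap F Z θ Eb p P W' η')
    {M₀ : Subgroup Ω} (hWM : W < M₀) (hM₀ : M₀ ≤ normalizerIn (preimageAlong θ T') W)
    {g : M₀ →* Ω} (hgen : GenLift F Z θ Eb p g) (hgW : ∀ x : M₀, (x : Ω) ∈ W → g x ∈ W') :
    ∃ c ∈ canAut F θ Eb p P, ∀ (x : M₀) (hxW : (x : Ω) ∈ W)
      (hgx : g x ∈ normalizerIn (preimageAlong θ T') W')
      (hP : η ⟨(x : Ω), hM₀ x.2⟩ ∈ P),
      η' ⟨g x, hgx⟩ = ((c ⟨η ⟨(x : Ω), hM₀ x.2⟩, hP⟩ : P) : Ω) := by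
  classical
  have hTS := preimageAlong_le θ T'
  have := finite_le hg.leS
  have := finite_le (hη.le.trans hTS)
  have := finite_le (hη'.le.trans hTS)
  have hM₀S : M₀ ≤ S := (hM₀.trans (normalizerIn_le W)).trans hTS
  have := finite_le hM₀S
  have hgN : ∀ x, g x ∈ normalizerIn (preimageAlong θ T') W' := fun x =>
    ⟨hom_apply_mem hgen.mem_pre x, map_normalizes hWM.le (hM₀.trans inf_le_right)
      (F.injective_of_mem hgen.mem) hgW (hη.card.trans hη'.card.symm).ge x⟩
  set η₀ : M₀ →* Ω := η.comp (Subgroup.inclusion hM₀) with hη₀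
  have hη₀G : GenLift F Z θ Eb p η₀ := GenLift.comp hη.gen
    (GenLift.incl M₀.subtype (hM₀.trans (normalizerIn_le W)) fun _ => rfl) (fun x => hM₀ x.2)
    fun _ => rfl
  obtain ⟨ηi, hηi, hηiv⟩ := GenLift.inv hη₀G
  have himg : img η₀ W = P := Subgroup.eq_of_le_of_card_ge
    (by rintro _ ⟨x, hx, rfl⟩; exact hη.maps (Subgroup.inclusion hM₀ x) hx)
    (by rw [card_img (F.injective_of_mem hη₀G.mem) hWM.le, hη.card])
  have hPM : P ≤ η₀.range := himg.symm.le.trans (img_le_range _ _)
  have hMN : η₀.range ≤ normalizerIn (preimageAlong θ T') P := by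
    rintro _ ⟨x, rfl⟩
    exact ⟨hom_apply_mem hη₀G.mem_pre x, map_normalizes hWM.le (hM₀.trans inf_le_right)
      (F.injective_of_mem hη₀G.mem) (fun z hz => hη.maps (Subgroup.inclusion hM₀ z) hz)
      hη.card.ge x⟩
  have hlt : Nat.card P < Nat.card η₀.range := by
    rw [← Nat.card_congr (MonoidHom.ofInjective (F.injective_of_mem hη₀G.mem)).toEquiv, ← hη.card]
    exact lt_of_le_of_ne (Subgroup.card_le_of_le hWM.le) fun e =>
      hWM.ne (Subgroup.eq_of_le_of_card_ge hWM.le e.ge)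
  have hmem₁ : ∀ y, ηi y ∈ M₀ := by
    rintro ⟨_, x, rfl⟩
    rw [hηiv]
    exact x.2
  set g₁ : η₀.range →* Ω := g.comp (ηi.codRestrict _ hmem₁) with hg₁
  have hg₁G : GenLift F Z θ Eb p g₁ := GenLift.comp hgen hηi hmem₁ fun _ => rfl
  set δ : η₀.range →* Ω := η'.comp (g₁.codRestrict _ fun y => hgN _) with hδ
  have hδG : GenLift F Z θ Eb p δ :=
    GenLift.comp hη'.gen hg₁G (fun y => hgN _) fun _ => rfl
  have hfix : ∀ y : η₀.range, (y : Ω) ∈ P → δ y ∈ P := fun y hy => by
    obtain ⟨x, hx, hxy⟩ := himg.ge hy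
    refine hη'.maps _ ?_
    show g _ ∈ W'
    refine hgW _ ?_
    show ηi y ∈ W
    rw [show y = ⟨η₀ x, ⟨x, rfl⟩⟩ from Subtype.ext hxy.symm, hηiv]
    exact hx
  obtain ⟨c, hc, hcv⟩ := h.delta_core hg hbe hup hPM hlt hMN hδG hfix
  refine ⟨c, hc, fun x hxW hgx hP => ?_⟩
  rw [← hcv, hδ]
  refine congrArg η' (Subtype.ext ?_)
  refine congrArg g (Subtype.ext ?_)
  exact ((congrArg ηi (Subtype.ext rfl)).trans (hηiv x)).symm

/-- A reference map exists. -/
theorem exists_ref {P W : Subgroup Ω} (hg : Good θ Eb Z P)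
    (hbe : Eb.IsFullyNormalized (imageAlong θ P)) (hW : h.liftSys.IsConj W P) :
    ∃ η, RefMap F Z θ Eb p P W η := by
  classical
  have := h.tfinite'
  have hPS := hg.leS
  obtain ⟨e, he⟩ := isConj_iff.1 hW
  have hWT : W ≤ preimageAlong θ T' := he.le_left
  have hWS := hWT.trans (preimageAlong_le θ T')
  have heF : IsoIn F e := GenLift.mem he.mem
  have hgW : Good θ Eb Z W := h.good_congr hg heF.symm
  obtain ⟨-, -, φ', hφ', hP₁, hφS, hm, hv⟩ := GenLift.mem_pre he.mem
  have hr : φ'.range = imageAlong θ P := by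
    refine le_antisymm ?_ fun y hy => ?_
    · rintro _ ⟨y, rfl⟩
      obtain ⟨x, rfl⟩ := pr_surjective hWS y
      exact (hv x).symm ▸ ⟨Subgroup.inclusion hPS (e x), (e x).2, rfl⟩
    · obtain ⟨z, hz⟩ := pr_surjective hPS ⟨y, hy⟩
      refine ⟨pr θ hWS (e.symm z), (hv _).trans (Eq.trans ?_ (congrArg Subtype.val hz))⟩
      exact congrArg θ (Subtype.ext (congrArg Subtype.val (e.apply_symm_apply z) :))
  obtain ⟨f, hf, -, himg⟩ := exists_normalizer_map h.tgroup'
    (IsSaturated.fullyAutomized h.tgroup' h.esat hbe)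
    (IsSaturated.receptive h.tgroup' h.esat (IsSaturated.fullyCentralized h.tgroup' h.esat hbe))
    (⟨φ', hφ', hr⟩ : Eb.IsConj (imageAlong θ W) (imageAlong θ P))
  obtain ⟨φ, hφ, hU, hφS₂, hm₂, hv₂⟩ := h.exists_genLift hf
  have hle : normalizerIn (preimageAlong θ T') W ≤
      preimageAlong θ (normalizerIn T' (imageAlong θ W)) := fun x hx =>
    (mem_preimageAlong (x := ⟨x, preimageAlong_le θ T' hx.1⟩)).2
      ((h.image_normalizerT hgW.zle hWS).le ⟨_, hx, rfl⟩)
  refine ⟨φ.comp (Subgroup.inclusion hle), GenLift.comp hφ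
    (GenLift.incl (normalizerIn (preimageAlong θ T') W).subtype (normalizerIn_le W) fun _ => rfl)
    (fun x => hle x.2) fun _ => rfl, fun x hx => ?_, hWT, isConj_card hW⟩
  refine h.mem_of_pr hg.zle hPS (s := ⟨_, hφS₂ (Subgroup.inclusion hle x)⟩) ?_
  rw [← hv₂]
  exact himg.le ⟨_, ⟨_, hx, rfl⟩, rfl⟩

/-- Every generated automorphism is canonical. -/
theorem autGroup_le_canAut_aux : ∀ (n : ℕ) {P : Subgroup Ω}, Good θ Eb Z P →
    Nat.card S - Nat.card P ≤ n → h.liftSys.autGroup P ≤ canAut F θ Eb p P := by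
  classical
  intro n
  induction n using Nat.strong_induction_on with
  | _ n ih =>
    intro P₀ hg₀ hn
    have := h.tfinite'
    have hTS := preimageAlong_le θ T'
    -- a conjugate with fully normalized image
    obtain ⟨Q', hQ', hQn⟩ := exists_fullyNormalized (F := Eb) (h.image_le' hg₀.le)
    obtain ⟨φ', hφ', rfl⟩ := hQ'
    obtain ⟨φ, hφ, hU, hφS, hm, hv⟩ := h.exists_genLift hφ'
    have hpre : preimageAlong θ (imageAlong θ P₀) = P₀ := by
      rw [preimageAlong_imageAlong h.zle h.ker hg₀.leS, sup_eq_left.2 hg₀.zle]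
    have hφ₀ : φ.comp (Subgroup.inclusion hpre.ge) ∈ h.liftSys.Hom P₀ :=
      restrict_mem (F := h.liftSys) hφ hpre.ge
    obtain ⟨P, hP⟩ : ∃ U, U = (φ.comp (Subgroup.inclusion hpre.ge)).range := ⟨_, rfl⟩
    obtain ⟨e, he, hev⟩ := exists_iso hφ₀ hP.symm
    have heF : IsoIn F e := GenLift.mem he.mem
    have hg := h.good_congr hg₀ heF
    have hbe : Eb.IsFullyNormalized (imageAlong θ P) := by
      have himg : imageAlong θ P = φ'.range := by
        rw [hP]
        refine le_antisymm ?_ ?_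
        · rintro _ ⟨s, ⟨x, hx⟩, rfl⟩
          refine ⟨⟨_, hm (Subgroup.inclusion hpre.ge x)⟩, (hv _).trans ?_⟩
          exact congrArg θ (Subtype.ext hx)
        · rintro _ ⟨y, rfl⟩
          obtain ⟨x, rfl⟩ := pr_surjective hg₀.leS y
          exact ⟨⟨_, hφS (Subgroup.inclusion hpre.ge x)⟩, ⟨x, rfl⟩,
            (hv (Subgroup.inclusion hpre.ge x)).symm⟩
      rw [himg]
      exact hQn
    suffices key : h.liftSys.autGroup P ≤ canAut F θ Eb p P by
      intro a ha
      have h1 := h.canAut_congr hg.le heF.symm (key (he.congr_autGroup.le ⟨a, ha, rfl⟩))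
      change MulAut.congr e.symm (MulAut.congr e a) ∈ _ at h1
      rwa [congr_symm_congr] at h1
    have hcard : Nat.card P = Nat.card P₀ := (isConj_card heF.isConj).symm
    have hup : ∀ Q, Good θ Eb Z Q → Nat.card P < Nat.card Q →
        h.liftSys.autGroup Q ≤ canAut F θ Eb p Q := fun Q hQ hlt => by
      have := Subgroup.card_le_of_le hQ.leS
      exact ih (Nat.card S - Nat.card Q) (by omega) hQ le_rfl
    have := finite_le hg.leS
    have := finite_le hTS
    have hTp : IsPGroup p (preimageAlong θ T') := h.pgroup.to_le hTS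
    intro a ha
    have haG : GenLift F Z θ Eb p (P.subtype.comp a.toMonoidHom) := (mem_autGroup_iff hg.le).1 ha
    rcases eq_or_lt_of_le hg.le with hPe | hPlt
    · -- the top
      have key : ∀ {W : Subgroup Ω} {φ : W →* Ω}, GenLift F Z θ Eb p φ → W = P →
          ∃ c ∈ canAut F θ Eb p P, ∀ (x : W) (hx : (x : Ω) ∈ P),
            φ x = ((c ⟨x, hx⟩ : P) : Ω) := by
        intro W φ hφ
        induction hφ with
        | incl φ hP hφ => exact fun _ => ⟨1, one_mem _, fun x hx => hφ x⟩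
        | @step R φ hR b hb hφ hle χ hχ ih =>
            intro hW
            obtain ⟨c, hc, hcv⟩ := ih hW
            have hPR : P ≤ R := fun y hy => by
              have h1 : (φ (⟨((c⁻¹ ⟨y, hy⟩ : P) : Ω), hW.ge (c⁻¹ ⟨y, hy⟩).2⟩)) = y := by
                rw [hcv _ (c⁻¹ ⟨y, hy⟩).2, Subtype.coe_eta, MulAut.apply_inv_self]
              exact h1 ▸ hle _
            obtain rfl : R = P := le_antisymm (hR.le.trans hPe.ge) hPR
            refine ⟨b * c, mul_mem hb hc, fun x hx => ?_⟩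
            rw [hχ, MulAut.mul_apply]
            exact congrArg (fun z => ((b z : R) : Ω)) (Subtype.ext (hcv x hx))
      obtain ⟨c, hc, hcv⟩ := key haG rfl
      rwa [show a = c from MulEquiv.ext fun x => Subtype.ext (hcv x x.2)]
    · -- below the top
      have key : ∀ {W : Subgroup Ω} {φ : W →* Ω}, GenLift F Z θ Eb p φ →
          ∀ {η : normalizerIn (preimageAlong θ T') W →* Ω}, RefMap F Z θ Eb p P W η →
          h.liftSys.IsConj W P →
          ∀ {W' : Subgroup Ω}, φ.range = W' →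
          ∀ {η' : normalizerIn (preimageAlong θ T') W' →* Ω}, RefMap F Z θ Eb p P W' η' →
          ∃ c ∈ canAut F θ Eb p P, ∀ (x : W) (hn : (x : Ω) ∈ normalizerIn (preimageAlong θ T') W)
            (hn' : φ x ∈ normalizerIn (preimageAlong θ T') W') (hP : η ⟨x, hn⟩ ∈ P),
            η' ⟨φ x, hn'⟩ = ((c ⟨η ⟨x, hn⟩, hP⟩ : P) : Ω) := by
        have hlt : ∀ {W : Subgroup Ω}, Nat.card W = Nat.card P → W ≤ preimageAlong θ T' →
            W < normalizerIn (preimageAlong θ T') W := fun {W} hW hWT =>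
          lt_normalizerIn hTp (lt_of_le_of_ne hWT fun e => hPlt.ne
            (Subgroup.eq_of_le_of_card_ge hg.le (by rw [← hW, e])))
        intro W φ hφ
        induction hφ with
        | incl φ hP hφ =>
            intro η hη _ W' hW' η' hη'
            obtain rfl : W = W' := by
              rw [← hW']
              ext y
              exact ⟨fun hy => ⟨⟨y, hy⟩, hφ _⟩, fun ⟨x, hx⟩ => hx ▸ (hφ x).symm ▸ x.2⟩
            obtain ⟨c, hc, hcv⟩ := h.delta hg hbe hup hη hη' (hlt hη.card hη.le) le_rfl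
              (GenLift.incl (normalizerIn (preimageAlong θ T') W).subtype (normalizerIn_le W)
                fun _ => rfl) (fun x hx => hx)
            refine ⟨c, hc, fun x hn hn' hP => Eq.trans ?_ (hcv ⟨x, hn⟩ x.2 hn hP)⟩
            exact congrArg η' (Subtype.ext (hφ x))
        | @step R φ hR b hb hφ hle χ hχ ih =>
            intro η hη hWc W' hW' η' hη'
            obtain ⟨V, hV⟩ : ∃ U, U = φ.range := ⟨_, rfl⟩
            have hVc : h.liftSys.IsConj V P :=
              isConj_trans (isConj_symm ⟨φ, hφ, hV.symm⟩) hWc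
            obtain ⟨η'', hη''⟩ := h.exists_ref hg hbe hVc
            obtain ⟨c, hc, hcv⟩ := ih hη hWc hV.symm hη''
            have hVR : V ≤ R := by
              rw [hV]
              rintro _ ⟨x, rfl⟩
              exact hle x
            have hVT := hη''.le
            have hbV : ∀ (y : R), (y : Ω) ∈ V → ((b y : R) : Ω) ∈ W' := fun y hy => by
              rw [← hW']
              obtain ⟨x, hx⟩ := hV.le hy
              exact ⟨x, (hχ x).trans (congrArg (fun z => ((b z : R) : Ω)) (Subtype.ext hx))⟩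
            have hVW : φ.range = V := hV.symm
            have hn₀ : ∀ x : W, φ x ∈ normalizerIn (preimageAlong θ T') V := fun x =>
              le_normalizerIn hVT (hVW.le ⟨x, rfl⟩)
            suffices hstep : ∃ c₁ ∈ canAut F θ Eb p P, ∀ (y : R) (hyV : (y : Ω) ∈ V)
                (hn' : ((b y : R) : Ω) ∈ normalizerIn (preimageAlong θ T') W')
                (hP : η'' ⟨y, le_normalizerIn hVT hyV⟩ ∈ P),
                η' ⟨((b y : R) : Ω), hn'⟩ =
                  ((c₁ ⟨η'' ⟨y, le_normalizerIn hVT hyV⟩, hP⟩ : P) : Ω) by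
              obtain ⟨c₁, hc₁, hc₁v⟩ := hstep
              refine ⟨c₁ * c, mul_mem hc₁ hc, fun x hn hn' hP => ?_⟩
              have hyV : φ x ∈ V := hVW.le ⟨x, rfl⟩
              have hP' : η'' ⟨φ x, le_normalizerIn hVT hyV⟩ ∈ P := hη''.maps _ hyV
              have h1 := hc₁v ⟨φ x, hle x⟩ hyV (by rw [← hχ]; exact hn') hP'
              rw [MulAut.mul_apply]
              refine Eq.trans (Eq.trans ?_ h1) ?_
              · exact congrArg η' (Subtype.ext (hχ x))
              · exact congrArg (fun z => ((c₁ z : P) : Ω))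
                  (Subtype.ext (hcv x hn (hn₀ x) hP))
            rcases eq_or_lt_of_le hVR with hVe | hVlt
            · -- an automorphism of `V` itself
              have := finite_le (hVT.trans hTS)
              obtain rfl : V = W' := by
                refine (Subgroup.eq_of_le_of_card_ge ?_ ?_).symm
                · intro y hy
                  rw [← hW'] at hy
                  obtain ⟨x, rfl⟩ := hy
                  rw [hχ]
                  exact hVe.ge (b _).2
                · rw [hη'.card, hη''.card]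
              subst hVe
              obtain ⟨ε, hε, hεv⟩ := exists_iso
                (restrict_mem (F := h.liftSys) hη''.gen (le_normalizerIn hVT))
                (Subgroup.eq_of_le_of_card_ge
                  (by rintro _ ⟨y, rfl⟩; exact hη''.maps _ y.2)
                  (by rw [← hη''.card]
                      exact (Nat.card_congr (MonoidHom.ofInjective (F.injective_of_mem
                        (restrict_mem hη''.gen.mem (le_normalizerIn hVT)))).toEquiv).le))
              obtain ⟨c₂, hc₂, hc₂v⟩ := h.delta hg hbe hup hη'' hη' (hlt hη''.card hVT) le_rfl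
                (GenLift.incl (normalizerIn (preimageAlong θ T') V).subtype (normalizerIn_le V)
                  fun _ => rfl) (fun x hx => hx)
              have hεF : IsoIn F ε := GenLift.mem hε.mem
              refine ⟨c₂ * MulAut.congr ε b, mul_mem hc₂ (h.canAut_congr hVT hεF hb),
                fun y hyV hn' hP => ?_⟩
              have hP' : η'' ⟨((b y : V) : Ω), hn'⟩ ∈ P := hη''.maps _ (b y).2
              refine (hc₂v ⟨((b y : V) : Ω), hn'⟩ (b y).2 hn' hP').trans ?_
              rw [MulAut.mul_apply]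
              refine congrArg (fun z => ((c₂ z : P) : Ω)) (Subtype.ext ?_)
              have e1 : (⟨η'' ⟨(y : Ω), le_normalizerIn hVT hyV⟩, hP⟩ : P) = ε y :=
                Subtype.ext (hεv y).symm
              rw [e1, show MulAut.congr ε b (ε y) = ε (b y) by simp [MulAut.congr], hεv]
              rfl
            · -- a larger subgroup
              have := finite_le hR.leS
              have hRp : IsPGroup p R := h.pgroup.to_le hR.leS
              set M₀ := normalizerIn R V
              have hM₀ : M₀ ≤ normalizerIn (preimageAlong θ T') V := fun z hz =>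
                ⟨hR.le hz.1, hz.2⟩
              have hgen : GenLift F Z θ Eb p
                  ((R.subtype.comp b.toMonoidHom).comp
                    (Subgroup.inclusion (normalizerIn_le (S := R) V))) :=
                GenLift.step hR b hb (GenLift.incl M₀.subtype
                  ((normalizerIn_le V).trans hR.le) fun _ => rfl) (fun x => x.2.1) _ fun _ => rfl
              obtain ⟨c₁, hc₁, hc₁v⟩ := h.delta hg hbe hup hη'' hη'
                (lt_normalizerIn hRp hVlt) hM₀ hgen (fun x hx => hbV _ hx)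
              refine ⟨c₁, hc₁, fun y hyV hn' hP => ?_⟩
              exact hc₁v ⟨(y : Ω), le_normalizerIn hVlt.le hyV⟩ hyV hn' hP
      obtain ⟨η, hη⟩ : ∃ η : normalizerIn (preimageAlong θ T') P →* Ω,
          η = (normalizerIn (preimageAlong θ T') P).subtype := ⟨_, rfl⟩
      have href : RefMap F Z θ Eb p P P η :=
        ⟨GenLift.incl η (normalizerIn_le P) fun x => by rw [hη]; rfl,
          fun x hx => by rw [hη]; exact hx, hg.le, rfl⟩
      obtain ⟨c, hc, hcv⟩ := key haG href (isConj_refl hg.le)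
        (isoHom_range (a : P ≃* P)) href
      rwa [show a = c from MulEquiv.ext fun x => Subtype.ext (by
        have h1 := hcv x (le_normalizerIn hg.le x.2) (le_normalizerIn hg.le (a x).2)
          (by rw [hη]; exact x.2)
        simp only [hη] at h1
        exact h1)]

/-- Every generated automorphism of a good subgroup is canonical. -/
theorem autGroup_eq {P : Subgroup Ω} (hg : Good θ Eb Z P) :
    h.liftSys.autGroup P = canAut F θ Eb p P :=
  le_antisymm (h.autGroup_le_canAut_aux _ hg le_rfl) (h.canAut_le_liftSys hg)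

/-- Generated automorphisms trivial modulo `Z` are inner. -/
theorem key {P : Subgroup Ω} (hg : Good θ Eb Z P) {a : MulAut P}
    (ha : a ∈ h.liftSys.autGroup P) (hk : ∀ x : P, pr θ hg.leS (a x) = pr θ hg.leS x) :
    a ∈ Inn P :=
  h.inner_of_ker hg (h.autGroup_eq hg).le ha hk

end Setup

end CfsgLib.Fusion.CentralLift
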