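import Cfsg.Agent.Lib.Fusion.KNormalizer
import Cfsg.Agent.Lib.Fusion.NormalCriterion

/-!
Owner: helper11. Simultaneous extension of two maps into a good subgroup, maps agreeing with given
isomorphisms, and automorphisms restricting into given groups.
-/

set_option autoImplicit false
set_option maxHeartbeats 400000
set_option linter.unusedSectionVars false

namespace CfsgLib.Fusion.Control

open Cfsg Cfsg.FusionSystem CfsgLib.Fusion

variable {Ω : Type*} [Group Ω] {S : Subgroup Ω} {F : FusionSystem S} {p : ℕ}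

/-- `f` and `a` agree where both are defined. -/
def Agrees {P Q A B : Subgroup Ω} (f : A ≃* B) (a : P ≃* Q) : Prop :=
  ∀ (x : P) (hx : (x : Ω) ∈ A), ((f ⟨x, hx⟩ : B) : Ω) = a x

/-- `a` extends to a map of the system with source `R`. -/
def ExtTo (F : FusionSystem S) {P Q : Subgroup Ω} (a : P ≃* Q) (R : Subgroup Ω) : Prop :=
  ∃ ψ ∈ F.Hom R, ∀ (x : P) (hx : (x : Ω) ∈ R), ψ ⟨x, hx⟩ = ((a x : Q) : Ω)

/-- The conjugacy class of `P` contains a fully automized receptive member. -/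
def Nice (F : FusionSystem S) (p : ℕ) (P : Subgroup Ω) : Prop :=
  ∃ Q, F.IsConj P Q ∧ F.IsFullyAutomized p Q ∧ F.IsReceptive Q

theorem IsoIn.extTo {P Q A B : Subgroup Ω} {f : A ≃* B} (hf : IsoIn F f) {a : P ≃* Q}
    (h : Agrees f a) : ExtTo F a A :=
  ⟨isoHom f, hf.mem, fun x hx => h x hx⟩

/-- A map carrying `P` onto `Q` restricts to an isomorphism. -/
theorem exists_restrict {P R : Subgroup Ω} {ψ : R →* Ω} (hψ : ψ ∈ F.Hom R) (hPR : P ≤ R) :
    ∃ a : P ≃* img ψ P, IsoIn F a ∧ ∀ (x : P) (hx : (x : Ω) ∈ R), ψ ⟨x, hx⟩ = ((a x : img ψ P) : Ω) := by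
  obtain ⟨a, ha, hav⟩ := exists_iso (restrict_mem hψ hPR) (range_restrict ψ hPR)
  exact ⟨a, ha, fun x hx => (hav x).symm⟩

theorem agrees_symm {P Q A B : Subgroup Ω} (hPA : P ≤ A) {f : A ≃* B} {a : P ≃* Q}
    (h : Agrees f a) : Agrees f.symm a.symm := by
  intro y hy
  have h1 := h (a.symm y) (hPA (a.symm y).2)
  rw [MulEquiv.apply_symm_apply] at h1
  have h2 : f ⟨((a.symm y : P) : Ω), hPA (a.symm y).2⟩ = ⟨y, hy⟩ := Subtype.ext h1
  rw [← h2, MulEquiv.symm_apply_apply]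

/-- Values of an extension on normalizing elements normalize the image. -/
theorem ExtTo.normalizes {P Q R : Subgroup Ω} {a : P ≃* Q} (hPR : P ≤ R)
    (hR : R ≤ Subgroup.normalizer (P : Set Ω)) {ψ : R →* Ω} (hψ : ψ ∈ F.Hom R)
    (h : ∀ (x : P) (hx : (x : Ω) ∈ R), ψ ⟨x, hx⟩ = ((a x : Q) : Ω)) (g : R) :
    ψ g ∈ normalizerIn S Q :=
  extension_mem_normalizerIn hψ hPR hR (e := a) (fun x => h x (hPR x.2)) g

/-- An extension to a subgroup of the normalizer gives an isomorphism with values in the normalizer. -/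
theorem ExtTo.exists_pair {P Q R : Subgroup Ω} {a : P ≃* Q} (hPR : P ≤ R)
    (hR : R ≤ normalizerIn S P) (h : ExtTo F a R) :
    ∃ (B : Subgroup Ω) (f : R ≃* B), IsoIn F f ∧ Q ≤ B ∧ B ≤ normalizerIn S Q ∧ Agrees f a := by
  obtain ⟨ψ, hψ, hag⟩ := h
  obtain ⟨f, hf, hfv⟩ := exists_iso hψ rfl
  refine ⟨ψ.range, f, hf, ?_, ?_, fun x hx => (hfv _).trans (hag x hx)⟩
  · intro y hy
    exact ⟨⟨_, hPR (a.symm ⟨y, hy⟩).2⟩, by rw [hag]; simp⟩
  · rintro _ ⟨g, rfl⟩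
    exact ExtTo.normalizes hPR (hR.trans inf_le_right) hψ hag g

theorem ExtTo.comp {P Q Q' R R' : Subgroup Ω} {a : P ≃* Q} {b : Q ≃* Q'} {ψ : R →* Ω}
    (hψ : ψ ∈ F.Hom R) (h : ∀ (x : P) (hx : (x : Ω) ∈ R), ψ ⟨x, hx⟩ = ((a x : Q) : Ω))
    (hmap : ∀ g, ψ g ∈ R') (hb : ExtTo F b R') : ExtTo F (a.trans b) R := by
  obtain ⟨χ, hχ, hag⟩ := hb
  refine ⟨χ.comp (ψ.codRestrict R' hmap), F.comp_mem hψ hχ hmap, fun x hx => ?_⟩
  have e : (⟨ψ ⟨x, hx⟩, hmap _⟩ : R') = ⟨(a x : Q), h x hx ▸ hmap _⟩ := Subtype.ext (h x hx)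
  show χ ⟨ψ ⟨x, hx⟩, _⟩ = _
  rw [e, hag (a x)]
  rfl

theorem ExtTo.mono {P Q R R' : Subgroup Ω} {a : P ≃* Q} (h : ExtTo F a R) (hle : R' ≤ R) :
    ExtTo F a R' := by
  obtain ⟨ψ, hψ, hag⟩ := h
  exact ⟨ψ.comp (Subgroup.inclusion hle), restrict_mem hψ hle, fun x hx => hag x (hle hx)⟩

/-! ### Automorphisms restricting to `Q` -/

/-- The automorphisms of `B` in the system acting on `Q` as members of `K`. -/
def resAut (F : FusionSystem S) (Q B : Subgroup Ω) (hQB : Q ≤ B) (K : Subgroup (MulAut Q)) :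
    Subgroup (MulAut B) where
  carrier := {γ | γ ∈ F.autGroup B ∧ ∃ κ ∈ K, ∀ (x : Q) (hx : (x : Ω) ∈ B),
    ((γ ⟨x, hx⟩ : B) : Ω) = ((κ x : Q) : Ω)}
  one_mem' := ⟨one_mem _, 1, one_mem _, fun _ _ => rfl⟩
  mul_mem' := by
    rintro γ μ ⟨hγ, κ, hκ, h⟩ ⟨hμ, κ', hκ', h'⟩
    refine ⟨mul_mem hγ hμ, κ * κ', mul_mem hκ hκ', fun x hx => ?_⟩
    have e : μ ⟨x, hx⟩ = ⟨((κ' x : Q) : Ω), hQB (κ' x).2⟩ := Subtype.ext (h' x hx)
    rw [MulAut.mul_apply, MulAut.mul_apply, e, h]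
  inv_mem' := by
    rintro γ ⟨hγ, κ, hκ, h⟩
    refine ⟨inv_mem hγ, κ⁻¹, inv_mem hκ, fun x hx => ?_⟩
    have e : γ ⟨((κ⁻¹ x : Q) : Ω), hQB (κ⁻¹ x).2⟩ = ⟨x, hx⟩ :=
      Subtype.ext (by rw [h, MulAut.apply_inv_self])
    rw [← e, MulAut.inv_apply_self]

theorem resAut_le {Q B : Subgroup Ω} {hQB : Q ≤ B} {K : Subgroup (MulAut Q)} :
    resAut F Q B hQB K ≤ F.autGroup B := fun _ h => h.1

theorem resAut_preserves {Q B : Subgroup Ω} {hQB : Q ≤ B} {K : Subgroup (MulAut Q)} {γ : MulAut B}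
    (h : γ ∈ resAut F Q B hQB K) {x : B} (hx : (x : Ω) ∈ Q) : ((γ x : B) : Ω) ∈ Q := by
  obtain ⟨-, κ, -, hκ⟩ := h
  have := hκ ⟨x, hx⟩ x.2
  rw [this]
  exact (κ _).2

/-! ### Simultaneous extension -/

theorem le_extender_of_congr {P Q W : Subgroup Ω} {e : P ≃* Q} (hW : W ≤ normalizerIn S P)
    (h : ∀ g : normalizerIn S P, (g : Ω) ∈ W → MulAut.congr e (conjAut g) ∈ autInducedBy S Q) :
    W ≤ extender S P (isoHom e) := by
  intro g hg
  obtain ⟨k, hk, hv⟩ := mem_autInducedBy_iff.1 (h ⟨g, hW hg⟩ hg)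
  refine mem_extender_iff.2 ⟨(hW hg).1, (hW hg).2, k, hk, fun x hx => ?_⟩
  have h1 := hv (e x)
  simp only [MulAut.congr_apply, MulEquiv.trans_apply, MulEquiv.symm_apply_apply] at h1
  exact h1

theorem congr_congr {P Q R : Subgroup Ω} (e : P ≃* Q) (f : Q ≃* R) (c : MulAut P) :
    MulAut.congr (e.trans f) c = MulAut.congr f (MulAut.congr e c) := by
  ext x; simp [MulAut.congr_apply]

variable [Finite S] [Fact p.Prime]

/-- Extend `f` corrected by a member of `L` and the identity into the same good subgroup. -/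
theorem pair (hS : IsPGroup p S) {A B : Subgroup Ω} (hB : Nice F p B) {f : A ≃* B} (hf : IsoIn F f)
    {WA WB : Subgroup Ω} (hWA : WA ≤ normalizerIn S A) (hWB : WB ≤ normalizerIn S B)
    {L : Subgroup (MulAut B)} (hL : L ≤ F.autGroup B)
    (hA : ∀ g : normalizerIn S A, (g : Ω) ∈ WA → MulAut.congr f (conjAut g) ∈ L)
    (hB' : ∀ g : normalizerIn S B, (g : Ω) ∈ WB → conjAut g ∈ L) :
    ∃ (B' : Subgroup Ω) (e : B ≃* B'), IsoIn F e ∧ ∃ s ∈ L,
      ExtTo F (f.trans ((s : B ≃* B).trans e)) (A ⊔ WA) ∧ ExtTo F e (B ⊔ WB) := by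
  obtain ⟨B', hBB', hfa, hrec⟩ := hB
  obtain ⟨h, hh⟩ := isConj_iff.1 hBB'
  have hfin := finite_mulAut_of_le (S := S) hh.le_right
  have hfinB := finite_mulAut_of_le (S := S) hh.le_left
  set L' := L.map (MulAut.congr h).toMonoidHom with hL'
  have hL'G : L' ≤ F.autGroup B' := by
    rw [hL', ← hh.congr_autGroup]; exact Subgroup.map_mono hL
  set Y := (autInducedBy WB B).map (MulAut.congr h).toMonoidHom with hY
  set X := (autInducedBy WA A).map (MulAut.congr (f.trans h)).toMonoidHom with hX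
  have hYL : Y ≤ L' := by
    refine Subgroup.map_mono fun c hc => ?_
    obtain ⟨g, hg, hv⟩ := mem_autInducedBy_iff.1 hc
    rw [show c = conjAut (⟨g, hWB hg⟩ : normalizerIn S B) from MulEquiv.ext fun x => Subtype.ext (hv x)]
    exact hB' _ hg
  have hXL : X ≤ L' := by
    rintro _ ⟨c, hc, rfl⟩
    obtain ⟨g, hg, hv⟩ := mem_autInducedBy_iff.1 hc
    rw [show c = conjAut (⟨g, hWA hg⟩ : normalizerIn S A) from MulEquiv.ext fun x => Subtype.ext (hv x)]
    exact ⟨_, hA _ hg, (congr_congr f h _).symm⟩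
  have hYp : IsPGroup p Y := (isPGroup_autInducedBy (hS.to_le (hWB.trans (normalizerIn_le B)))).map _
  have hXp : IsPGroup p X := (isPGroup_autInducedBy (hS.to_le (hWA.trans (normalizerIn_le A)))).map _
  obtain ⟨T, hYT, hTL, hTp, hTs⟩ := exists_isSylowIn_ge hYL hYp
  obtain ⟨k, hk, hkX⟩ := IsSylowIn.exists_conj_mem hTs hXL hXp
  obtain ⟨g, hg, hgT⟩ := IsSylowIn.exists_conj_mem hfa.2 (hTL.trans hL'G) hTp
  obtain ⟨s, hs, rfl⟩ := hk
  have hgI : IsoIn F (g : B' ≃* B') := (mem_autGroup_iff_isoIn hh.le_right).1 hg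
  set e : B ≃* B' := h.trans (g : B' ≃* B') with he
  have heI : IsoIn F e := hh.trans hgI
  have h1I : IsoIn F (f.trans ((s : B ≃* B).trans e)) :=
    hf.trans (((mem_autGroup_iff_isoIn hh.le_left).1 (hL hs)).trans heI)
  refine ⟨B', e, heI, s, hs, ?_, ?_⟩
  · have hext : A ⊔ WA ≤ extender S A (isoHom (f.trans ((s : B ≃* B).trans e))) := by
      refine sup_le (le_extender hf.le_left fun x => hom_apply_mem h1I.mem x)
        (le_extender_of_congr hWA fun c hc => ?_)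
      have h1 : MulAut.congr (f.trans ((s : B ≃* B).trans e)) (conjAut c) =
          g * ((MulAut.congr h).toMonoidHom s * MulAut.congr (f.trans h) (conjAut c) *
            ((MulAut.congr h).toMonoidHom s)⁻¹) * g⁻¹ := by
        rw [← map_inv]
        ext x
        simp [he, MulAut.congr_apply, MulAut.mul_apply, MulAut.inv_def]
      rw [h1]
      exact hgT _ (hkX _ ⟨_, mem_autInducedBy_iff.2 ⟨c, hc, fun _ => rfl⟩, rfl⟩)
    obtain ⟨ψ, hψ, hag⟩ := exists_extension hrec h1I le_sup_left hext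
    exact ⟨ψ, hψ, fun x hx => hag x⟩
  · have hext : B ⊔ WB ≤ extender S B (isoHom e) := by
      refine sup_le (le_extender heI.le_left fun x => hom_apply_mem heI.mem x)
        (le_extender_of_congr hWB fun c hc => ?_)
      have h1 : MulAut.congr e (conjAut c) = g * MulAut.congr h (conjAut c) * g⁻¹ := by
        ext x
        simp [he, MulAut.congr_apply, MulAut.mul_apply, MulAut.inv_def]
      rw [h1]
      exact hgT _ (hYT ⟨_, mem_autInducedBy_iff.2 ⟨c, hc, fun _ => rfl⟩, rfl⟩)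
    obtain ⟨ψ, hψ, hag⟩ := exists_extension hrec heI le_sup_left hext
    exact ⟨ψ, hψ, fun x hx => hag x⟩

end CfsgLib.Fusion.Control
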