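import Cfsg.Agent.Lib.Fusion.ControlExtend

/-!
Owner: helper11. The saturation criterion for systems generated and saturated on a family.
-/

set_option autoImplicit false
set_option maxHeartbeats 400000
set_option linter.unusedSectionVars false

namespace CfsgLib.Fusion.Control

open Cfsg Cfsg.FusionSystem CfsgLib.Fusion

variable {Ω : Type*} [Group Ω] {S : Subgroup Ω} {F : FusionSystem S} {p : ℕ} {ℋ : Set (Subgroup Ω)}
  [Finite S] [Fact p.Prime] {Q : Subgroup Ω}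

/-- The family contains `S`. -/
theorem mem_family_top (hstar : ∀ P : Subgroup Ω, F.IsCentric P → P ∉ ℋ →
      ∃ R, F.IsConj P R ∧ ¬ (autInducedBy S R ⊓ opAut F p R ≤ Inn R)) : S ∈ ℋ := by
  by_contra h
  obtain ⟨R, hR, hn⟩ := hstar S isCentric_self h
  obtain rfl := isConj_self hR
  exact hn (inf_le_left.trans (autInducedBy_self R).le)

/-- The preimage of `O_p` is strictly larger outside the family. -/
theorem lt_opPre (hS : IsPGroup p S) (hQ : Q ≤ S) (hQℋ : Q ∉ ℋ)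
    (hmv : ∀ P, F.IsConj P Q → Moves F P Q)
    (hstar : ∀ P : Subgroup Ω, F.IsCentric P → P ∉ ℋ →
      ∃ R, F.IsConj P R ∧ ¬ (autInducedBy S R ⊓ opAut F p R ≤ Inn R)) :
    Q < opPre F p Q := by
  refine lt_of_le_not_ge (le_opPre hS hQ) fun hle => ?_
  have main : ∀ R, F.IsConj R Q → ∀ g : normalizerIn S R, conjAut g ∈ opAut F p R → (g : Ω) ∈ R := by
    intro R hR g hg
    obtain ⟨a, ha, ψ, hψ, hψe⟩ := hmv R hR
    have hRN : R ≤ normalizerIn S R := le_normalizerIn (isConj_le_left hR)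
    have hψN : ψ g ∈ normalizerIn S Q := ExtTo.normalizes hRN inf_le_right hψ hψe g
    have e : conjAut (⟨ψ g, hψN⟩ : normalizerIn S Q) = MulAut.congr a (conjAut g) := by
      refine MulEquiv.ext fun y => Subtype.ext ?_
      obtain ⟨x, rfl⟩ := a.surjective y
      simp only [MulAut.congr_apply, MulEquiv.trans_apply, MulEquiv.symm_apply_apply, conjAut_apply]
      rw [← hψe x (hRN x.2), ← hψe (conjAut g x) (hRN (conjAut g x).2), ← map_inv, ← map_mul, ← map_mul]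
      exact congrArg ψ (Subtype.ext rfl)
    have hmem : ψ g ∈ Q := hle (mem_opPre_of_conjAut ⟨ψ g, hψN⟩ (by
      rw [e]; exact congr_mem_opAut ha hg))
    have h1 := hψe (a.symm ⟨ψ g, hmem⟩) (hRN (a.symm ⟨ψ g, hmem⟩).2)
    rw [MulEquiv.apply_symm_apply] at h1
    have h2 := congrArg Subtype.val (F.injective_of_mem hψ h1)
    exact h2 ▸ (a.symm ⟨ψ g, hmem⟩).2
  by_cases hc : F.IsCentric Q
  · obtain ⟨R, hR, hn⟩ := hstar Q hc hQℋ
    refine hn fun κ hκ => ?_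
    obtain ⟨hκ1, hκ2⟩ := Subgroup.mem_inf.1 hκ
    obtain ⟨g, hg, hv⟩ := mem_autInducedBy_iff.1 hκ1
    have hgN : g ∈ normalizerIn S R := ⟨hg, mem_normalizer_of_conj_eq κ hv⟩
    have e : conjAut (⟨g, hgN⟩ : normalizerIn S R) = κ :=
      MulEquiv.ext fun x => Subtype.ext (hv x).symm
    have hgR : g ∈ R := main R (isConj_symm hR) ⟨g, hgN⟩ (e ▸ hκ2)
    exact ⟨⟨g, hgR⟩, MulEquiv.ext fun x => Subtype.ext (hv x).symm⟩
  · apply hc
    refine ⟨hQ, fun R hR g hg => main R (isConj_symm hR) ⟨g, centralizerIn_le_normalizerIn R hg⟩ ?_⟩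
    rw [show conjAut (⟨g, centralizerIn_le_normalizerIn R hg⟩ : normalizerIn S R) = 1 from
      MulEquiv.ext fun x => Subtype.ext (by
        show g * (x : Ω) * g⁻¹ = x
        rw [← (mem_centralizerIn.1 hg).2 x x.2, mul_inv_cancel_right])]
    exact one_mem _

variable (hS : IsPGroup p S) (hQ : F.IsFullyNormalized Q)
  (hU : Nice F p (opPre F p Q)) (hext : F.autGroup Q ≤ extAut F p Q)

/-- The action on `Q` of a group of automorphisms of an overgroup. -/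
noncomputable def resHom {B : Subgroup Ω} {hQB : Q ≤ B} {K : Subgroup (MulAut Q)} :
    resAut F Q B hQB K →* K :=
  MonoidHom.mk' (fun γ => ⟨γ.2.2.choose, γ.2.2.choose_spec.1⟩) fun γ μ => Subtype.ext (MulEquiv.ext
    fun x => Subtype.ext (by
      have h : ((((γ : MulAut B) * (μ : MulAut B)) ⟨x, hQB x.2⟩ : B) : Ω) = _ :=
        (γ * μ).2.2.choose_spec.2 x (hQB x.2)
      have h1 := μ.2.2.choose_spec.2 x (hQB x.2)
      have h2 := γ.2.2.choose_spec.2 (μ.2.2.choose x) (hQB (μ.2.2.choose x).2)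
      have e : (μ : MulAut B) ⟨x, hQB x.2⟩ = ⟨((μ.2.2.choose x : Q) : Ω), hQB (μ.2.2.choose x).2⟩ :=
        Subtype.ext h1
      rw [MulAut.mul_apply, e] at h
      exact h.symm.trans h2))

theorem resHom_spec {B : Subgroup Ω} {hQB : Q ≤ B} {K : Subgroup (MulAut Q)}
    (γ : resAut F Q B hQB K) (x : Q) (hx : (x : Ω) ∈ B) :
    (((γ : MulAut B) ⟨x, hx⟩ : B) : Ω) = (((resHom γ : K) : MulAut Q) x : Q) :=
  γ.2.2.choose_spec.2 x hx

include hS hQ hU hext in
theorem fullyAutomized_of_ext : F.IsFullyAutomized p Q := by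
  have hQS := hQ.1
  set U := opPre F p Q
  have hQU : Q ≤ U := le_opPre hS hQS
  have hfinQ := finite_mulAut_of_le (S := S) hQS
  have hfinU := finite_mulAut_of_le (S := S) (opPre_le (F := F) (p := p) (Q := Q))
  obtain ⟨R, hRA, hRG, hRp, hRs⟩ := exists_isSylowIn_ge (autInducedBy_le_autGroup (F := F) hQS)
    (isPGroup_autInducedBy (P := Q) hS)
  set L := resAut F Q U hQU R
  set ρ : L →* R := resHom
  have hρ : Function.Surjective ρ := by
    intro r
    obtain ⟨-, f, hf, hfr⟩ := mem_extAut hS hQS (hext (hRG r.2))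
    have hmem : (f : MulAut U) ∈ L :=
      ⟨(mem_autGroup_iff_isoIn opPre_le).2 hf, r, r.2, fun x hx => hfr x hx⟩
    refine ⟨⟨f, hmem⟩, Subtype.ext (MulEquiv.ext fun x => Subtype.ext ?_)⟩
    rw [← resHom_spec (⟨f, hmem⟩ : L) x (hQU x.2)]
    exact hfr x _
  obtain ⟨T⟩ : Nonempty (Sylow p L) := inferInstance
  have hTtop : (T : Subgroup L).map ρ = ⊤ := by
    rw [← Sylow.coe_mapSurjective hρ T]
    exact ((T.mapSurjective hρ).is_maximal' (hRp.to_subgroup ⊤) le_top).symm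
  obtain ⟨U', hUU', hfa, hrec⟩ := hU
  obtain ⟨h, hh⟩ := isConj_iff.1 hUU'
  have hfinU' := finite_mulAut_of_le (S := S) hh.le_right
  set T' := ((T : Subgroup L).map L.subtype).map (MulAut.congr h).toMonoidHom
  have hT'G : T' ≤ F.autGroup U' := by
    show T' ≤ _
    rw [← hh.congr_autGroup]
    exact Subgroup.map_mono ((Subgroup.map_subtype_le _).trans resAut_le)
  obtain ⟨g, hg, hgT⟩ := IsSylowIn.exists_conj_mem hfa.2 hT'G ((T.2.map _).map _)
  set e : U ≃* U' := h.trans (g : U' ≃* U')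
  have he : IsoIn F e := hh.trans ((mem_autGroup_iff_isoIn hh.le_right).1 hg)
  set Q' := img (isoHom e) Q with hQ'
  obtain ⟨b, hb, hbv⟩ := exists_restrict (P := Q) he.mem hQU
  have hQQ' : F.IsConj Q Q' := isConj_img he.mem hQU
  have hmapR : R.map (MulAut.congr b).toMonoidHom ≤ autInducedBy S Q' := by
    rintro _ ⟨r, hr, rfl⟩
    obtain ⟨t, ht, htr⟩ := Subgroup.mem_map.1 (hTtop.ge (Subgroup.mem_top (⟨r, hr⟩ : R)))
    obtain ⟨k, hk, hkv⟩ := mem_autInducedBy_iff.1 (hgT _ ⟨_, ⟨t, ht, rfl⟩, rfl⟩)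
    refine mem_autInducedBy_iff.2 ⟨k, hk, fun y => ?_⟩
    obtain ⟨x, rfl⟩ := b.surjective y
    have h1 := hkv (e ⟨x, hQU x.2⟩)
    have h2 : (t : MulAut U) ⟨x, hQU x.2⟩ = ⟨((r x : Q) : Ω), hQU (r x).2⟩ :=
      Subtype.ext (by rw [resHom_spec t x (hQU x.2)]; show (((ρ t : R) : MulAut Q) x : Ω) = _; rw [htr])
    have h3 : ((b x : Q') : Ω) = ((e ⟨x, hQU x.2⟩ : U') : Ω) := (hbv x _).symm
    have h4 : ((b (r x) : Q') : Ω) = ((e ⟨r x, hQU (r x).2⟩ : U') : Ω) := (hbv (r x) _).symm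
    show ((b (r (b.symm (b x))) : Q') : Ω) = _
    rw [MulEquiv.symm_apply_apply, h3, h4, ← h1, ← h2]
    simp [e, MulAut.congr_apply, MulAut.mul_apply, MulAut.inv_def]
  have hcardR : Nat.card R ≤ Nat.card (autInducedBy S Q') := by
    have := finite_mulAut_of_le (S := S) (isConj_le_right hQQ')
    rw [← Subgroup.card_map_of_injective (f := (MulAut.congr b).toMonoidHom) (MulAut.congr b).injective]
    exact Subgroup.card_le_of_le hmapR
  have hC : Nat.card (centralizerIn S Q) ≤ Nat.card (centralizerIn S Q') := by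
    have := finite_le (centralizerIn_le (S := S) Q')
    refine Nat.card_le_card_of_injective (fun c : centralizerIn S Q =>
      (⟨((e ⟨c, centralizerIn_le_opPre c.2⟩ : U') : Ω), mem_centralizerIn.2 ⟨he.le_right (e _).2, ?_⟩⟩ :
        centralizerIn S Q')) fun c d hcd => ?_
    · intro y hy
      obtain ⟨q, hq, rfl⟩ := mem_img.1 hy
      rw [isoHom_apply, ← Subgroup.coe_mul, ← Subgroup.coe_mul, ← map_mul, ← map_mul]
      exact congrArg (fun z => ((e z : U') : Ω)) (Subtype.ext ((mem_centralizerIn.1 c.2).2 _ hq))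
    · have h1 := congrArg (fun z : centralizerIn S Q' => (z : Ω)) hcd
      exact Subtype.ext (congrArg (fun z : U => (z : Ω)) (e.injective (Subtype.ext h1)))
  have hle : Nat.card R ≤ Nat.card (autInducedBy S Q) := by
    have h1 : Nat.card (normalizerIn S Q') ≤ Nat.card (normalizerIn S Q) := hQ.2 Q' hQQ'
    rw [card_normalizerIn, card_normalizerIn] at h1
    have := finite_le (centralizerIn_le (S := S) Q)
    have hpos : 0 < Nat.card (centralizerIn S Q) := Nat.card_pos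
    exact Nat.le_of_mul_le_mul_right ((Nat.mul_le_mul hcardR hC).trans h1) hpos
  have hRA' : autInducedBy S Q = R := Subgroup.eq_of_le_of_card_ge hRA hle
  exact ⟨hQS, hRA' ▸ hRs⟩

include hS hQ hU hext in
theorem receptive_of_ext (hmv : ∀ P, F.IsConj P Q → Moves F P Q) : F.IsReceptive Q := by
  refine ⟨hQ.1, fun P φ hφ hr => ?_⟩
  have hQS := hQ.1
  set U := opPre F p Q
  have hQU : Q ≤ U := le_opPre hS hQS
  have hUS : U ≤ S := opPre_le
  obtain ⟨a, ha, hav⟩ := exists_iso hφ hr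
  obtain ⟨a0, ha0, ψ0, hψ0, hψ0e⟩ := hmv P ha.isConj
  have hPS := hom_le hφ
  set α : MulAut Q := a0.symm.trans a with hαd
  have hα : α ∈ F.autGroup Q := (mem_autGroup_iff_isoIn hQS).2 (ha0.symm.trans ha)
  obtain ⟨-, f, hf, hfα⟩ := mem_extAut hS hQS (hext hα)
  set N := extender S P φ with hN
  have hNN : N ≤ normalizerIn S P := extender_le
  have hPN : P ≤ N := le_extender hPS fun x => hom_apply_mem hφ x
  set A := img ψ0 N with hA
  have hAN : A ≤ normalizerIn S Q := by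
    rintro _ ⟨x, -, rfl⟩
    exact ExtTo.normalizes (le_normalizerIn hPS) inf_le_right hψ0 hψ0e x
  have hUN := opPre_le_normalizerOf (F := F) (p := p) hQS
  have hfix : ∀ (γ : MulAut U) (κ : MulAut Q), γ ∈ F.autGroup U → κ ∈ autInducedBy S Q →
      (∀ (x : Q) (hx : (x : Ω) ∈ U), ((γ ⟨x, hx⟩ : U) : Ω) = ((κ x : Q) : Ω)) →
      γ ∈ resAut F Q U hQU (autInducedBy S Q) := fun γ κ h1 h2 h3 => ⟨h1, κ, h2, h3⟩
  obtain ⟨U', e, he, s, hs, h1, h2⟩ := pair hS hU hf (WA := A) (WB := normalizerIn S Q)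
    (le_inf (hAN.trans (normalizerIn_le Q)) (hAN.trans hUN)) (le_inf (normalizerIn_le Q) hUN)
    (L := resAut F Q U hQU (autInducedBy S Q)) resAut_le
    (fun c hc => by
      obtain ⟨n, hn, hnc⟩ := mem_img.1 hc
      obtain ⟨-, -, h, hh, hhv⟩ := mem_extender_iff.1 hn
      set cQ : normalizerIn S Q := ⟨(c : Ω), hAN hc⟩
      have hcomm : ∀ y : Q, (((α * conjAut cQ * α⁻¹) y : Q) : Ω) = h * (y : Ω) * h⁻¹ := by
        intro y
        obtain ⟨x, rfl⟩ := a.surjective y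
        have e1 : α⁻¹ (a x) = a0 x := by
          rw [hαd, MulAut.inv_def]
          simp
        rw [MulAut.mul_apply, MulAut.mul_apply, e1]
        have hxn : (n : Ω) * (x : Ω) * (n : Ω)⁻¹ ∈ P := conj_mem_of_mem_normalizer n.2.2 x.2
        have e2 : conjAut cQ (a0 x) = a0 ⟨_, hxn⟩ := by
          apply Subtype.ext
          show (c : Ω) * (a0 x : Q) * (c : Ω)⁻¹ = _
          rw [← hψ0e x (le_normalizerIn hPS x.2), ← hψ0e ⟨_, hxn⟩ (le_normalizerIn hPS hxn), ← hnc,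
            ← map_inv, ← map_mul, ← map_mul]
          exact congrArg ψ0 (Subtype.ext rfl)
        rw [e2]
        have e3 : α (a0 ⟨_, hxn⟩) = a ⟨_, hxn⟩ := by rw [hαd]; simp
        rw [e3, hav, hhv x hxn, hav]
      refine hfix _ (α * conjAut cQ * α⁻¹) ?_ (mem_autInducedBy_iff.2 ⟨h, hh, hcomm⟩) fun x hx => ?_
      · rw [← hf.congr_autGroup]
        exact ⟨_, autInducedBy_le_autGroup hUS (conjAut_mem c), rfl⟩
      · show ((f (conjAut c (f.symm ⟨x, hx⟩)) : U) : Ω) = _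
        have e1 : f.symm ⟨x, hx⟩ = ⟨((α⁻¹ x : Q) : Ω), hQU (α⁻¹ x).2⟩ :=
          Subtype.ext (agrees_symm hQU hfα x hx)
        have e2 : conjAut c ⟨((α⁻¹ x : Q) : Ω), hQU (α⁻¹ x).2⟩ =
            ⟨((conjAut cQ (α⁻¹ x) : Q) : Ω), hQU (Subtype.coe_prop _)⟩ := Subtype.ext rfl
        rw [e1, e2, hfα]
        rfl)
    (fun c hc => hfix _ (conjAut ⟨(c : Ω), hc⟩) (autInducedBy_le_autGroup hUS (conjAut_mem c))
      (conjAut_mem _) fun x hx => rfl)
  obtain ⟨-, κ, hκ, hsκ⟩ := hs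
  obtain ⟨k, hk, hkv⟩ := mem_autInducedBy_iff.1 hκ
  set Q' := img (isoHom e) Q with hQ'
  obtain ⟨b, hb, hbv⟩ := exists_restrict (P := Q) he.mem hQU
  -- the map on the whole normalizer of `Q` is onto that of `Q'`
  obtain ⟨ψ2, hψ2, hψ2e⟩ := h2.mono (le_sup_right (a := U))
  have hb2 : ∀ (x : Q) (hx : (x : Ω) ∈ normalizerIn S Q), ψ2 ⟨x, hx⟩ = ((b x : Q') : Ω) := fun x hx =>
    (hψ2e ⟨x, hQU x.2⟩ hx).trans (hbv x _)
  obtain ⟨B2, g2, hg2, hQB2, hB2N, hag2⟩ := (show ExtTo F b (normalizerIn S Q) from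
    ⟨ψ2, hψ2, hb2⟩).exists_pair (le_normalizerIn hQS) le_rfl
  have hB2 : B2 = normalizerIn S Q' := by
    have := finite_le (normalizerIn_le (S := S) Q')
    refine Subgroup.eq_of_le_of_card_ge hB2N ?_
    rw [← Nat.card_congr g2.toEquiv]
    exact hQ.2 Q' (isConj_img he.mem hQU)
  subst hB2
  -- the map on `A`
  obtain ⟨ψ1, hψ1, hψ1e⟩ := h1.mono (le_sup_right (a := U))
  set a1 : Q ≃* Q' := (α : Q ≃* Q).trans ((κ : Q ≃* Q).trans b) with ha1
  have hQA : Q ≤ A := by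
    intro y hy
    refine mem_img.2 ⟨⟨_, le_normalizerIn hPS (a0.symm ⟨y, hy⟩).2⟩, hPN (a0.symm ⟨y, hy⟩).2, ?_⟩
    rw [hψ0e]
    simp
  have hb1 : ∀ (x : Q) (hx : (x : Ω) ∈ A), ψ1 ⟨x, hx⟩ = ((a1 x : Q') : Ω) := by
    intro x hx
    rw [hψ1e ⟨x, hQU x.2⟩ hx]
    have e1 : f ⟨x, hQU x.2⟩ = ⟨((α x : Q) : Ω), hQU (α x).2⟩ := Subtype.ext (hfα x _)
    have e2 : s ⟨((α x : Q) : Ω), hQU (α x).2⟩ = ⟨((κ (α x) : Q) : Ω), hQU (κ (α x)).2⟩ :=
      Subtype.ext (hsκ (α x) _)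
    simp only [MulEquiv.trans_apply, e1, e2]
    exact hbv _ _
  have hkN : k⁻¹ ∈ normalizerIn S Q :=
    inv_mem (show k ∈ normalizerIn S Q from ⟨hk, mem_normalizer_of_conj_eq κ hkv⟩)
  have hback : ExtTo F (b.symm.trans (κ : Q ≃* Q).symm) (normalizerIn S Q') := by
    refine ⟨(conjHom (normalizerIn S Q) k⁻¹).comp ((isoHom g2.symm).codRestrict _ fun y => (g2.symm y).2),
      F.comp_mem hg2.symm.mem (F.conj_mem (normalizerIn_le Q) hkN.1) _, fun x hx => ?_⟩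
    show k⁻¹ * ((g2.symm ⟨x, hx⟩ : normalizerIn S Q) : Ω) * k⁻¹⁻¹ = _
    have e1 : ((g2.symm ⟨x, hx⟩ : normalizerIn S Q) : Ω) = ((b.symm x : Q) : Ω) :=
      agrees_symm (le_normalizerIn hQS) hag2 x hx
    rw [e1, MulEquiv.trans_apply]
    have h3 := hkv ((κ : Q ≃* Q).symm (b.symm x))
    rw [MulEquiv.apply_symm_apply] at h3
    rw [h3]
    group
  obtain ⟨χ, hχ, hχe⟩ := ExtTo.comp hψ1 hb1
    (fun g => ExtTo.normalizes hQA (hAN.trans inf_le_right) hψ1 hb1 g) hback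
  have hmemA : ∀ x : N, (ψ0.comp (Subgroup.inclusion hNN)) x ∈ A := fun x =>
    mem_img.2 ⟨Subgroup.inclusion hNN x, x.2, rfl⟩
  refine ⟨χ.comp ((ψ0.comp (Subgroup.inclusion hNN)).codRestrict A hmemA),
    F.comp_mem (restrict_mem hψ0 hNN) hχ hmemA, fun x hP hx => ?_⟩
  show χ ⟨ψ0 ⟨x, hNN hx⟩, _⟩ = φ ⟨x, hP⟩
  have e : (⟨ψ0 ⟨x, hNN hx⟩, hmemA ⟨x, hx⟩⟩ : A) = ⟨((a0 ⟨x, hP⟩ : Q) : Ω), hQA (a0 _).2⟩ :=
    Subtype.ext (hψ0e ⟨x, hP⟩ _)
  refine (congrArg χ e).trans ?_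
  rw [hχe (a0 ⟨x, hP⟩), ← hav ⟨x, hP⟩]
  simp [a1, hαd]

/-- Saturation criterion. -/
theorem saturated_of_family (hS : IsPGroup p S) (hℋS : ∀ R ∈ ℋ, R ≤ S)
    (hconj : ∀ P ∈ ℋ, ∀ Q, F.IsConj P Q → Q ∈ ℋ)
    (hsat : ∀ P ∈ ℋ, ∃ R, F.IsConj P R ∧ F.IsFullyAutomized p R ∧ F.IsReceptive R)
    (hgen : ∀ E : FusionSystem S, (∀ P ∈ ℋ, F.Hom P ⊆ E.Hom P) → F ≤ E)
    (hstar : ∀ P : Subgroup Ω, F.IsCentric P → P ∉ ℋ →
      ∃ R, F.IsConj P R ∧ ¬ (autInducedBy S R ⊓ opAut F p R ≤ Inn R)) : F.IsSaturated p := by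
  have hSℋ := mem_family_top hstar
  suffices key : ∀ (n : ℕ) (P : Subgroup Ω), P ≤ S → Nat.card S - Nat.card P ≤ n → Nice F p P from
    fun P hP => key _ P hP le_rfl
  intro n
  induction n using Nat.strong_induction_on with
  | _ n ih =>
    intro P hP hn
    by_cases hPℋ : P ∈ ℋ
    · exact hsat P hPℋ
    obtain ⟨Q, hPQ, hQ⟩ := exists_fullyNormalized (F := F) hP
    have hQℋ : Q ∉ ℋ := fun h => hPℋ (hconj Q h P (isConj_symm hPQ))
    have hbig : ∀ A, A ≤ S → Nat.card Q < Nat.card A → Nice F p A := by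
      intro A hA hlt
      have h1 := isConj_card hPQ
      have h2 : Nat.card A ≤ Nat.card S := Subgroup.card_le_of_le hA
      exact ih (Nat.card S - Nat.card A) (by omega) A hA le_rfl
    have hmv : ∀ R, F.IsConj R Q → Moves F R Q := fun R hR =>
      moves_all hS hQ hQℋ hℋS hconj hSℋ hgen hbig hR
    have hlt := lt_opPre hS hQ.1 hQℋ hmv hstar
    have hU : Nice F p (opPre F p Q) := hbig _ opPre_le (card_lt_of_lt opPre_le hlt)
    have hext := autGroup_eq_extAut hS hQ hQℋ hℋS hconj hSℋ hgen hbig hmv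
    exact ⟨Q, hPQ, fullyAutomized_of_ext hS hQ hU hext, receptive_of_ext hS hQ hU hext hmv⟩

end CfsgLib.Fusion.Control
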