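import Cfsg.Agent.Lib.Fusion.CentralLiftLoop
import Cfsg.Agent.Lib.Fusion.ControlSaturation
import Cfsg.Agent.Lib.Fusion.ControlPair

/-!
# The lift of a normal subsystem through a central quotient is saturated and invariant
-/

set_option autoImplicit false
set_option linter.unusedSectionVars false
set_option maxHeartbeats 1000000

namespace CfsgLib.Fusion.CentralLift

open Cfsg Cfsg.FusionSystem CfsgLib.Fusion

variable {Ω Ω' : Type*} [Group Ω] [Group Ω'] {S : Subgroup Ω} {S' T' : Subgroup Ω'}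
variable {F : FusionSystem S} {θ : S →* Ω'} {Fb : FusionSystem S'} {Eb : FusionSystem T'}
  {Z : Subgroup Ω} {p : ℕ}

namespace Setup

variable [Fact p.Prime] [Finite S] (h : Setup p F Z θ Fb Eb)
include h

/-- A conjugate with fully normalized image, in the generated system. -/
theorem exists_repE {P₀ : Subgroup Ω} (hg₀ : Good θ Eb Z P₀) :
    ∃ P, h.liftSys.IsConj P₀ P ∧ Good θ Eb Z P ∧ Eb.IsFullyNormalized (imageAlong θ P) := by
  have := h.tfinite'
  obtain ⟨Q', hQ', hQn⟩ := exists_fullyNormalized (F := Eb) (h.image_le' hg₀.le)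
  obtain ⟨φ', hφ', rfl⟩ := hQ'
  obtain ⟨φ, hφ, hU, hφS, hm, hv⟩ := h.exists_genLift hφ'
  have hpre : preimageAlong θ (imageAlong θ P₀) = P₀ := by
    rw [preimageAlong_imageAlong h.zle h.ker hg₀.leS, sup_eq_left.2 hg₀.zle]
  set φ₀ := φ.comp (Subgroup.inclusion hpre.ge)
  have hφ₀ : φ₀ ∈ h.liftSys.Hom P₀ := restrict_mem (F := h.liftSys) hφ hpre.ge
  have hc : h.liftSys.IsConj P₀ φ₀.range := ⟨φ₀, hφ₀, rfl⟩
  obtain ⟨e, he⟩ := isConj_iff.1 hc
  refine ⟨_, hc, h.good_congr hg₀ (GenLift.mem he.mem : IsoIn F e), ?_⟩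
  have himg : imageAlong θ φ₀.range = φ'.range := by
    refine le_antisymm ?_ ?_
    · rintro _ ⟨s, ⟨x, hx⟩, rfl⟩
      refine ⟨⟨_, hm (Subgroup.inclusion hpre.ge x)⟩, (hv _).trans ?_⟩
      exact congrArg θ (Subtype.ext hx)
    · rintro _ ⟨y, rfl⟩
      obtain ⟨x, rfl⟩ := pr_surjective hg₀.leS y
      exact ⟨⟨_, hφS (Subgroup.inclusion hpre.ge x)⟩, ⟨x, rfl⟩,
        (hv (Subgroup.inclusion hpre.ge x)).symm⟩
  rw [himg]
  exact hQn

/-- At a subgroup with fully normalized image the preimage induces a Sylow subgroup. -/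
theorem liftSys_fullyAutomized {P : Subgroup Ω} (hg : Good θ Eb Z P)
    (hbe : Eb.IsFullyNormalized (imageAlong θ P)) : h.liftSys.IsFullyAutomized p P := by
  classical
  have := h.tfinite'
  have hTS := preimageAlong_le θ T'
  have hPS := hg.leS
  have := finite_le hPS
  have := finite_mulAut_of_le (S := S) hPS
  have hI := h.image_le' hg.le
  have := finite_mulAut_of_le (S := T') hI
  refine ⟨hg.le, ?_⟩
  show IsSylowIn p (autInducedBy (preimageAlong θ T') P) (h.liftSys.autGroup P)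
  rw [h.autGroup_eq hg]
  have hTp : IsPGroup p (preimageAlong θ T') := h.pgroup.to_le hTS
  obtain ⟨X, hLX, hXA, hXp, hXs⟩ := exists_isSylowIn_ge (h.autInducedBy_le_canAut (P := P) hg.le)
    (isPGroup_autInducedBy hTp)
  suffices hXL : X ≤ autInducedBy (preimageAlong θ T') P by
    rwa [le_antisymm hLX hXL]
  -- the image of `X`
  let X' : Subgroup (MulAut (imageAlong θ P)) :=
    { carrier := {b | b ∈ Eb.autGroup (imageAlong θ P) ∧ ∃ a ∈ X, ∀ x : P,
        b (pr θ hPS x) = pr θ hPS (a x)}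
      one_mem' := ⟨one_mem _, 1, one_mem _, fun x => rfl⟩
      mul_mem' := by
        rintro b b' ⟨hb, a, ha, hav⟩ ⟨hb', a', ha', hav'⟩
        exact ⟨mul_mem hb hb', a * a', mul_mem ha ha', fun x => by
          rw [MulAut.mul_apply, hav', hav, MulAut.mul_apply]⟩
      inv_mem' := by
        rintro b ⟨hb, a, ha, hav⟩
        refine ⟨inv_mem hb, a⁻¹, inv_mem ha, fun x => ?_⟩
        apply b.injective
        rw [MulAut.apply_inv_self, hav, MulAut.apply_inv_self] }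
  have hX'p : IsPGroup p X' := by
    rintro ⟨b, hb, a, ha, hav⟩
    obtain ⟨j, hj⟩ := hXp ⟨a, ha⟩
    refine ⟨j, Subtype.ext ?_⟩
    have hpw : ∀ n : ℕ, ∀ x : P, (b ^ n) (pr θ hPS x) = pr θ hPS ((a ^ n) x) := by
      intro n
      induction n with
      | zero => intro x; rfl
      | succ n ih => intro x; rw [pow_succ, pow_succ, MulAut.mul_apply, MulAut.mul_apply, hav, ih]
    refine MulEquiv.ext fun y => ?_
    obtain ⟨x, rfl⟩ := pr_surjective hPS y
    show (b ^ p ^ j) (pr θ hPS x) = pr θ hPS x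
    rw [hpw, show a ^ p ^ j = 1 from congrArg Subtype.val hj]
    rfl
  have hsyl := (IsSaturated.fullyAutomized h.tgroup' h.esat hbe).2
  have hle : autInducedBy T' (imageAlong θ P) ≤ X' := by
    intro b hb
    obtain ⟨t', ht', htv⟩ := mem_autInducedBy_iff.1 hb
    obtain ⟨s, rfl⟩ := h.range.ge (h.tclosed'.1 ht')
    have hsN := h.normalizes hg.zle hPS s fun y hy => htv ⟨y, hy⟩ ▸ (b _).2
    refine ⟨autInducedBy_le_autGroup hI hb, P.normalizerMonoidHom ⟨s, hsN⟩,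
      hLX (mem_autInducedBy_iff.2 ⟨s, mem_preimageAlong.2 ht', fun x => rfl⟩), fun x =>
      Subtype.ext ?_⟩
    rw [htv, pr_coe, pr_coe, ← map_inv, ← map_mul, ← map_mul]
    rfl
  have hX'L := IsSylowIn.eq_of_le hsyl (autInducedBy_le_autGroup hI) hle (fun b hb => hb.1) hX'p
  intro a ha
  obtain ⟨haF, b, hb, hbv⟩ := (h.mem_preAut hg.le).1 (canAut_le P (hXA ha))
  obtain ⟨t', ht', htv⟩ := mem_autInducedBy_iff.1 (hX'L.le ⟨hb, a, ha, hbv⟩)
  obtain ⟨s, rfl⟩ := h.range.ge (h.tclosed'.1 ht')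
  have hsN := h.normalizes hg.zle hPS s fun y hy => htv ⟨y, hy⟩ ▸ (b _).2
  set τ := P.normalizerMonoidHom ⟨(s : Ω), hsN⟩
  have hτ : τ ∈ autInducedBy (preimageAlong θ T') P :=
    mem_autInducedBy_iff.2 ⟨s, mem_preimageAlong.2 ht', fun x => rfl⟩
  have hτv : ∀ x : P, b (pr θ hPS x) = pr θ hPS (τ x) := fun x => Subtype.ext (by
    rw [htv, pr_coe, pr_coe, ← map_inv, ← map_mul, ← map_mul]
    rfl)
  have hτA := h.autInducedBy_le_canAut hg.le hτ
  have hk := h.ker_of_cover hPS haF (preAut_le hg.le (canAut_le P hτA)) hbv hτv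
  have hinn := h.canAut_ker hg (mul_mem (inv_mem hτA) (hXA ha)) hk
  rw [show a = τ * (τ⁻¹ * a) by group]
  exact mul_mem hτ (inn_le_autInducedBy hg.le hinn)

/-- Subgroups with fully normalized image are receptive. -/
theorem liftSys_receptive {Q : Subgroup Ω} (hg : Good θ Eb Z Q)
    (hbe : Eb.IsFullyNormalized (imageAlong θ Q)) : h.liftSys.IsReceptive Q := by
  classical
  have := h.tfinite'
  have hTS := preimageAlong_le θ T'
  refine ⟨hg.le, fun P φ hφ hr => ?_⟩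
  obtain ⟨e, he, hev⟩ := exists_iso (F := h.liftSys) hφ hr
  have heF : IsoIn F e := GenLift.mem he.mem
  have hgP : Good θ Eb Z P := h.good_congr hg heF.symm
  have hPS := hgP.leS
  have := finite_le hPS
  obtain ⟨-, -, φ', hφ', hP₁, hφS, hm, hv⟩ := GenLift.mem_pre hφ
  have hr' : φ'.range = imageAlong θ Q := by
    refine le_antisymm ?_ fun y hy => ?_
    · rintro _ ⟨y, rfl⟩
      obtain ⟨x, rfl⟩ := pr_surjective hPS y
      exact (hv x).symm ▸ ⟨⟨φ x, hφS x⟩, hr.le ⟨x, rfl⟩, rfl⟩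
    · obtain ⟨z, hz⟩ := pr_surjective hg.leS ⟨y, hy⟩
      obtain ⟨x, hx⟩ := hr.ge z.2
      refine ⟨pr θ hPS x, (hv x).trans (Eq.trans ?_ (congrArg Subtype.val hz))⟩
      exact congrArg θ (Subtype.ext hx)
  obtain ⟨e', he', he'v⟩ := exists_iso hφ' hr'
  set N := extender (preimageAlong θ T') P φ with hN
  have hNT : N ≤ preimageAlong θ T' := extender_le.trans inf_le_left
  have hPN : P ≤ N := le_extender hgP.le (fun x => hom_apply_mem (F := h.liftSys) hφ x)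
  have hNS := hNT.trans hTS
  have hext : imageAlong θ N ≤ extender T' (imageAlong θ P) (isoHom e') := by
    rintro _ ⟨s, hs, rfl⟩
    obtain ⟨hsT, hsN, t, ht, htv⟩ := mem_extender_iff.1 hs
    refine mem_extender_iff.2 ⟨mem_preimageAlong.1 hsT,
      ((h.image_normalizerT hgP.zle hPS).le ⟨s, ⟨hsT, hsN⟩, rfl⟩).2, θ ⟨t, hTS ht⟩,
      mem_preimageAlong.1 ht, fun z hz => ?_⟩
    obtain ⟨x, rfl⟩ := pr_surjective hPS z
    have hxm : (s : Ω) * (x : Ω) * (s : Ω)⁻¹ ∈ P := conj_mem_of_mem_normalizer hsN x.2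
    rw [isoHom_apply, isoHom_apply, he'v, he'v]
    refine Eq.trans (congrArg φ' (Subtype.ext ?_)) ((hv ⟨_, hxm⟩).trans ?_)
    · show θ s * θ ⟨(x : Ω), hPS x.2⟩ * (θ s)⁻¹ = θ _
      rw [← map_inv, ← map_mul, ← map_mul]
      rfl
    · rw [show φ' (pr θ hPS x) = θ ⟨φ x, hφS x⟩ from hv x, ← map_inv, ← map_mul, ← map_mul]
      exact congrArg θ (Subtype.ext (htv x hxm))
  obtain ⟨ψ', hψ', hψag⟩ := exists_extension (IsSaturated.receptive h.tgroup' h.esat
    (IsSaturated.fullyCentralized h.tgroup' h.esat hbe)) he' (imageAlong_mono hPN) hext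
  obtain ⟨ψ₀, hψ₀, hU, hψ₀S, hm₀, hv₀⟩ := h.exists_genLift hψ'
  have hle : N ≤ preimageAlong θ (imageAlong θ N) := fun x hx =>
    (mem_preimageAlong (x := ⟨x, hNS hx⟩)).2 ⟨_, hx, rfl⟩
  set ψ : N →* Ω := ψ₀.comp (Subgroup.inclusion hle)
  have hψ : ψ ∈ h.liftSys.Hom N := restrict_mem (F := h.liftSys) hψ₀ hle
  -- compare with `φ`
  have hψv : ∀ x : P, θ ⟨ψ (Subgroup.inclusion hPN x), hψ₀S _⟩ = φ' (pr θ hPS x) := fun x => by
    refine Eq.trans (hv₀ (Subgroup.inclusion hle (Subgroup.inclusion hPN x))).symm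
      (Eq.trans ?_ (he'v (pr θ hPS x)))
    exact hψag (pr θ hPS x)
  have hrP : ∀ x : P, ψ (Subgroup.inclusion hPN x) ∈ Q := fun x => by
    refine h.mem_of_pr hg.zle hg.leS (s := ⟨_, hψ₀S _⟩) ?_
    exact (hψv x).symm ▸ hr'.le ⟨_, rfl⟩
  set ψP : P →* Ω := ψ.comp (Subgroup.inclusion hPN)
  have hψP : ψP ∈ h.liftSys.Hom P := restrict_mem (F := h.liftSys) hψ hPN
  have := finite_le hg.leS
  obtain ⟨e₂, he₂, he₂v⟩ := exists_iso (F := h.liftSys) hψP (Subgroup.eq_of_le_of_card_ge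
    (by rintro _ ⟨x, rfl⟩; exact hrP x)
    (by rw [← isConj_card he.isConj]
        exact (Nat.card_congr (MonoidHom.ofInjective (h.liftSys.injective_of_mem hψP)).toEquiv).le))
  have hd : (e₂.trans e.symm : MulAut P) ∈ h.liftSys.autGroup P :=
    (mem_autGroup_iff_isoIn hgP.le).2 (he₂.trans he.symm)
  obtain ⟨n, hn⟩ := h.key hgP hd fun x => by
    apply Eb.injective_of_mem hφ'
    rw [show φ' (pr θ hPS ((e₂.trans e.symm : MulAut P) x)) =
      θ ⟨φ (e.symm (e₂ x)), hφS _⟩ from hv _]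
    rw [← hψv]
    refine congrArg θ (Subtype.ext ?_)
    show φ (e.symm (e₂ x)) = ψP x
    rw [← hev, MulEquiv.apply_symm_apply, he₂v]
  have hnN : ∀ w : N, (n : Ω)⁻¹ * w * (n : Ω)⁻¹⁻¹ ∈ N := fun w =>
    N.mul_mem (N.mul_mem (N.inv_mem (hPN n.2)) w.2) (N.inv_mem (N.inv_mem (hPN n.2)))
  refine ⟨ψ.comp ((conjHom N (n : Ω)⁻¹).codRestrict N hnN),
    h.liftSys.comp_mem (h.liftSys.conj_mem hNT ((preimageAlong θ T').inv_mem (hgP.le n.2))) hψ hnN,
    fun x hx hxN => ?_⟩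
  -- agreement on `P`
  have h1 : (e₂.trans e.symm : MulAut P) (n⁻¹ * ⟨x, hx⟩ * n) = ⟨x, hx⟩ := by
    rw [← hn]
    simp [mul_assoc]
  have h2 : ψP (n⁻¹ * ⟨x, hx⟩ * n) = φ ⟨x, hx⟩ := by
    rw [← he₂v, ← hev]
    refine congrArg Subtype.val ?_
    rw [← MulEquiv.symm_apply_eq]
    exact h1
  refine Eq.trans ?_ h2
  refine congrArg ψ (Subtype.ext ?_)
  show (n : Ω)⁻¹ * x * (n : Ω)⁻¹⁻¹ = (n : Ω)⁻¹ * x * n
  rw [inv_inv]

/-- The generated system is saturated. -/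
theorem liftSys_saturated : h.liftSys.IsSaturated p := by
  classical
  have hTS := preimageAlong_le θ T'
  have := finite_le hTS
  have := h.tfinite'
  have hTp : IsPGroup p (preimageAlong θ T') := h.pgroup.to_le hTS
  refine Control.saturated_of_family (ℋ := {P | Good θ Eb Z P}) hTp (fun R hR => hR.le)
    (fun P hP Q hPQ => ?_) (fun P hP => ?_) (fun E hE => ?_) fun P hPc hPℋ => ?_
  · obtain ⟨e, he⟩ := isConj_iff.1 hPQ
    exact h.good_congr hP (GenLift.mem he.mem : IsoIn F e)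
  · obtain ⟨Q, hPQ, hgQ, hbe⟩ := h.exists_repE hP
    exact ⟨Q, hPQ, h.liftSys_fullyAutomized hgQ hbe, h.liftSys_receptive hgQ hbe⟩
  · intro P φ hφ
    induction hφ with
    | incl φ hP hφ => exact hom_congr (incl_mem hP) hφ
    | @step R φ hR a ha hφ hle χ hχ ih =>
        exact comp_mem' ih (hE R hR (GenLift.step hR a ha
          (GenLift.incl R.subtype hR.le fun _ => rfl) (fun x => x.2) (R.subtype.comp a.toMonoidHom)
          fun _ => rfl)) hle hχ
  · have hPT : P ≤ preimageAlong θ T' := hPc.1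
    have hPS := hPT.trans hTS
    have hZP : Z ≤ P := fun z hz => hPc.2 P (isConj_refl hPT) (mem_centralizerIn.2
      ⟨h.zle' hz, fun y hy => F.center_le_centralizer (le_center h.cen hz) y (hPS hy)⟩)
    have hI := h.image_le' hPT
    have hnc : ¬ Eb.IsCentric (imageAlong θ P) := fun hc => hPℋ ⟨hZP, hPT, hc⟩
    obtain ⟨Q', hQ', hnQ⟩ : ∃ Q', Eb.IsConj (imageAlong θ P) Q' ∧
        ¬ centralizerIn T' Q' ≤ Q' := by
      by_contra hcon
      push Not at hcon
      exact hnc ⟨hI, hcon⟩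
    obtain ⟨φ', hφ', rfl⟩ := hQ'
    obtain ⟨φ, hφ, hU, hφS, hm, hv⟩ := h.exists_genLift hφ'
    have hPpre : P ≤ preimageAlong θ (imageAlong θ P) := fun x hx =>
      (mem_preimageAlong (x := ⟨x, hPS hx⟩)).2 ⟨_, hx, rfl⟩
    set φ₀ := φ.comp (Subgroup.inclusion hPpre)
    have hφ₀ : φ₀ ∈ h.liftSys.Hom P := restrict_mem (F := h.liftSys) hφ hPpre
    refine ⟨φ₀.range, ⟨φ₀, hφ₀, rfl⟩, fun hcon => ?_⟩
    obtain ⟨c', hc', hc'Q⟩ := SetLike.not_le_iff_exists.1 hnQ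
    obtain ⟨hc'T, hc'c⟩ := mem_centralizerIn.1 hc'
    obtain ⟨s, rfl⟩ := h.range.ge (h.tclosed'.1 hc'T)
    have hsT : (s : Ω) ∈ preimageAlong θ T' := mem_preimageAlong.2 hc'T
    set R := φ₀.range with hR
    have hRT : R ≤ preimageAlong θ T' := hom_range_le hφ₀
    have hRS := hRT.trans hTS
    have hZR : Z ≤ R := fun z hz => ⟨⟨z, hZP hz⟩, h.fix_hom (GenLift.mem hφ₀) ⟨z, hZP hz⟩ hz⟩
    have hRb : ∀ y ∈ imageAlong θ R, y ∈ φ'.range := by
      rintro _ ⟨r, ⟨x, hx⟩, rfl⟩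
      refine ⟨⟨_, hm (Subgroup.inclusion hPpre x)⟩, (hv _).trans ?_⟩
      exact congrArg θ (Subtype.ext hx)
    have hfixb : ∀ y ∈ imageAlong θ R, θ s * y * (θ s)⁻¹ = y := fun y hy => by
      rw [← hc'c y (hRb y hy)]
      group
    have hsN := h.normalizes hZR hRS s fun y hy => (hfixb y hy).symm ▸ hy
    set τ : MulAut R := R.normalizerMonoidHom ⟨(s : Ω), hsN⟩
    have hτI : τ ∈ autInducedBy (preimageAlong θ T') R :=
      mem_autInducedBy_iff.2 ⟨s, hsT, fun x => rfl⟩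
    have hτA : τ ∈ h.liftSys.autGroup R := autInducedBy_le_autGroup hRT hτI
    have hτK : τ ∈ kerAut F Z R h.fix := by
      refine (h.ker_iff hRS (autInducedBy_le_autGroup hRS (autInducedBy_mono hTS hτI))).2
        fun x => Subtype.ext ?_
      refine Eq.trans ?_ (hfixb _ (pr θ hRS x).2)
      rw [pr_coe, pr_coe, ← map_inv, ← map_mul, ← map_mul]
      rfl
    set A := h.liftSys.autGroup R with hA
    have hAF : A ≤ F.autGroup R := fun a ha => (mem_autGroup_iff hRS).2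
      (GenLift.mem ((mem_autGroup_iff hRT).1 ha))
    set K := kerAut F Z R h.fix ⊓ A
    have hKn : (K.subgroupOf A).Normal := ⟨fun k hk g =>
      ⟨h.ker_conj hRS hk.1 (hAF g.2), Subgroup.mul_mem _ (Subgroup.mul_mem _ g.2 k.2) (Subgroup.inv_mem _ g.2)⟩⟩
    have hKp : IsPGroup p (K.subgroupOf A) :=
      isPGroup_subgroupOf inf_le_right ((h.ker_pGroup hRS).to_le inf_le_left)
    have hτop : τ ∈ Control.opAut h.liftSys p R :=
      ⟨⟨τ, hτA⟩, Core.le_pCore hKp ⟨hτK, hτA⟩, rfl⟩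
    obtain ⟨r, hr⟩ := hcon (Subgroup.mem_inf.2 ⟨hτI, hτop⟩)
    have hcent : (r : Ω)⁻¹ * s ∈ centralizerIn (preimageAlong θ T') R := by
      refine mem_centralizerIn.2 ⟨mul_mem (inv_mem (hRT r.2)) hsT, fun y hy => ?_⟩
      have h1 : (r : Ω) * y * (r : Ω)⁻¹ = s * y * (s : Ω)⁻¹ :=
        congrArg (fun e : MulAut R => ((e ⟨y, hy⟩ : R) : Ω)) hr
      calc y * ((r : Ω)⁻¹ * s) = (r : Ω)⁻¹ * ((r : Ω) * y * (r : Ω)⁻¹) * s := by group
        _ = (r : Ω)⁻¹ * (s * y * (s : Ω)⁻¹) * s := by rw [h1]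
        _ = (r : Ω)⁻¹ * s * y := by group
    have hsR : (s : Ω) ∈ R := by
      have := R.mul_mem r.2 (hPc.2 R ⟨φ₀, hφ₀, rfl⟩ hcent)
      rwa [mul_inv_cancel_left] at this
    exact hc'Q (hRb _ ⟨s, hsR, rfl⟩)

end Setup

end CfsgLib.Fusion.CentralLift
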