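import Cfsg.Agent.Lib.Fusion.FamilyMain
import Cfsg.Agent.Lib.Fusion.ControlSaturation
import Cfsg.Agent.Lib.Fusion.ControlPair

/-!
# The generated system of a family is saturated and invariant
-/

set_option autoImplicit false
set_option maxHeartbeats 800000
set_option linter.unusedSectionVars false

namespace CfsgLib.Fusion.Family

open Cfsg Cfsg.FusionSystem CfsgLib.Fusion

variable {Ω : Type*} [Group Ω] {S T : Subgroup Ω} {F : FusionSystem S}
  {A : ∀ R : Subgroup Ω, Subgroup (MulAut R)} {p : ℕ}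

namespace AutFamily

variable [Fact p.Prime] [Finite S] (h : AutFamily p F T A)
include h

/-- Up to an automorphism of `T`, a generated map leads to a fully normalized subgroup. -/
theorem exists_ref {M : Subgroup Ω} (hM : TCentric F T M) :
    ∃ (Q : Subgroup Ω) (α : MulAut T) (g : normalizerIn T M →* Ω),
      F.IsFullyNormalized Q ∧ TCentric F T Q ∧ Nat.card Q = Nat.card M ∧ α ∈ F.autGroup T ∧
      GenFam F T A g ∧ ∀ (x : normalizerIn T M) (hx : g x ∈ T), (x : Ω) ∈ M →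
        ((α ⟨g x, hx⟩ : T) : Ω) ∈ Q := by
  have hTS := h.tclosed.1
  obtain ⟨Q, hMQ, hQ⟩ := exists_fullyNormalized (F := F) (hM.le.trans hTS)
  obtain ⟨f, hf, -, himg⟩ := exists_normalizer_map h.pgroup
    (IsSaturated.fullyAutomized h.pgroup h.sat hQ)
    (IsSaturated.receptive h.pgroup h.sat (IsSaturated.fullyCentralized h.pgroup h.sat hQ)) hMQ
  have hle : normalizerIn T M ≤ normalizerIn S M := fun x hx => ⟨hTS hx.1, hx.2⟩
  obtain ⟨α, hα, g, hg, hv⟩ :=
    h.frattini _ (normalizerIn_le M) le_rfl _ (restrict_mem hf hle)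
  refine ⟨Q, α, g, hQ, hM.conj h.tclosed hMQ, (isConj_card hMQ).symm, hα, hg,
    fun x hx hxM => ?_⟩
  rw [← hv x hx]
  exact himg.le ⟨_, hxM, rfl⟩

/-- Conjugating by an automorphism of `T` keeps generated automorphisms generated. -/
theorem congr_top {M M' : Subgroup Ω} (hMT : M ≤ T) (hM'T : M' ≤ T) {α : MulAut T}
    (hα : α ∈ F.autGroup T) {e : M ≃* M'}
    (he : ∀ x : M, ((e x : M') : Ω) = ((α (Subgroup.inclusion hMT x) : T) : Ω)) {a : MulAut M}
    (ha : GenFam F T A (isoHom (a : M ≃* M))) :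
    GenFam F T A (isoHom (MulAut.congr e a : M' ≃* M')) := by
  have hsymm : ∀ y : M', ((α⁻¹ (Subgroup.inclusion hM'T y) : T) : Ω) = ((e.symm y : M) : Ω) := by
    intro y
    rw [show Subgroup.inclusion hM'T y = α (Subgroup.inclusion hMT (e.symm y)) from
      Subtype.ext (by rw [← he, MulEquiv.apply_symm_apply]; rfl), MulAut.inv_apply_self]
    rfl
  refine (h.topConj_mem ha hα hM'T (fun y => by rw [hsymm]; exact (e.symm y).2)
    fun x => hMT (a x).2).congr fun y => ?_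
  rw [topConj_apply, isoHom_apply]
  refine Eq.trans (he (a (e.symm y))) ?_
  congr 2
  refine Subtype.ext ?_
  show ((a (e.symm y) : M) : Ω) = ((a ⟨_, _⟩ : M) : Ω)
  congr 2
  exact Subtype.ext (hsymm y).symm

theorem star_of_settled {M : Subgroup Ω} (hM : TCentric F T M)
    (hset : Settled F T A (Nat.card M)) : Star F T A M := by
  intro a ha
  have hTS := h.tclosed.1
  obtain ⟨Q, α, g, hQn, hQc, hcard, hα, hg, hgQ⟩ := h.exists_ref hM
  have hMN : M ≤ normalizerIn T M := le_normalizerIn hM.le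
  have hg₀ := hg.restrict hMN (χ := g.comp (Subgroup.inclusion hMN)) fun _ => rfl
  set M' := (g.comp (Subgroup.inclusion hMN)).range with hM'
  obtain ⟨e₀, he₀, he₀v⟩ := exists_iso (F := h.genSys) hg₀ hM'.symm
  have hM'T : M' ≤ T := by rintro _ ⟨x, rfl⟩; exact hg₀.le_T.2 x
  obtain ⟨e₁, he₁, he₁v⟩ := exists_iso (P := M') (Q := Q)
    (resT_mem hα hTS hM'T) (by
      have := finite_le hQn.1
      refine Subgroup.eq_of_le_of_card_ge ?_ ?_
      · rintro _ ⟨⟨_, x, rfl⟩, rfl⟩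
        exact hgQ _ (hg.le_T.2 _) x.2
      · rw [hcard, Nat.card_congr e₀.toEquiv]
        exact (Nat.card_congr
          (MonoidHom.ofInjective (F.injective_of_mem (resT_mem hα hTS hM'T))).toEquiv).le)
  have h1 : GenFam F T A (isoHom (MulAut.congr e₀ a : M' ≃* M')) :=
    (mem_autGroup_iff (F := h.genSys) hM'T).1
      (he₀.congr_autGroup.le ⟨a, (mem_autGroup_iff (F := h.genSys) hM.le).2 ha, rfl⟩)
  have h2 := h.congr_top hM'T hQc.le hα (fun x => he₁v x) h1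
  have h3 := h.star_fn hQc hQn (by rw [hcard]; exact hset) _ h2
  have he : IsoIn F (e₀.trans e₁) := IsoIn.trans (h.mem he₀.mem : IsoIn F e₀) he₁
  rw [← Meet.congr_trans] at h3
  have h4 := h.congr hQc he.symm _ h3
  rwa [Meet.congr_symm_congr'] at h4

theorem ext_of_settled {M : Subgroup Ω} (hM : TCentric F T M)
    (hset : Settled F T A (Nat.card M)) : Ext F T A M := by
  intro φ hφ K hMK hK hcond
  have hTS := h.tclosed.1
  have hφF := h.mem hφ
  set M₁ := φ.range with hM₁def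
  have hM₁ : TCentric F T M₁ := hM.conj h.tclosed ⟨φ, hφF, rfl⟩
  have hM₁card : Nat.card M₁ = Nat.card M :=
    (Nat.card_congr (MonoidHom.ofInjective (F.injective_of_mem hφF)).toEquiv).symm
  obtain ⟨Q, α, g, hQn, hQc, hcard, hα, hg, hgQ⟩ := h.exists_ref hM₁
  have hM₁N : M₁ ≤ normalizerIn T M₁ := le_normalizerIn hM₁.le
  have hKT : K ≤ T := hK.trans (normalizerIn_le M)
  -- `t` normalizes the image
  have ht : ∀ k ∈ K, ∃ t ∈ normalizerIn T M₁, ∀ (x : M) (hx : k * (x : Ω) * k⁻¹ ∈ M),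
      φ ⟨k * x * k⁻¹, hx⟩ = t * φ x * t⁻¹ := by
    intro k hk
    obtain ⟨t, ht, htv⟩ := hcond k hk
    refine ⟨t, ⟨ht, Subgroup.mem_normalizer_iff_map_conj_eq.2 ?_⟩, htv⟩
    have := finite_le (hM₁.le.trans hTS)
    refine Subgroup.eq_of_le_of_card_ge ?_
      (Subgroup.card_map_of_injective (MulAut.conj t).injective).ge
    rintro _ ⟨_, ⟨x, rfl⟩, rfl⟩
    exact ⟨_, htv x (conj_mem_of_mem_normalizer (hK hk).2 x.2)⟩
  have hφN : ∀ x, φ x ∈ normalizerIn T M₁ := fun x => hM₁N ⟨x, rfl⟩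
  set φ₁ : M →* Ω := g.comp (φ.codRestrict _ hφN) with hφ₁
  have hφ₁G : GenFam F T A φ₁ := GenFam.comp hg hφ hφN fun _ => rfl
  -- carry everything along `α`
  set Mα := (resT α hM.le).range with hMα
  set Kα := (resT α hKT).range with hKα
  have hMKα : Mα ≤ Kα := by rintro _ ⟨x, rfl⟩; exact ⟨Subgroup.inclusion hMK x, rfl⟩
  have hKαT : Kα ≤ T := resT_range_le _ _
  have hKN : Kα ≤ normalizerIn T Mα := by
    rintro _ ⟨k, rfl⟩
    refine ⟨SetLike.coe_mem _, ?_⟩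
    have := finite_le ((hMKα.trans hKαT).trans hTS)
    exact apply_mem_normalizer (P := Mα) (F.injective_of_mem (resT_mem hα hTS hKT)) hMK
      (fun z hz => ⟨⟨z, hz⟩, rfl⟩)
      (Nat.card_congr (MonoidHom.ofInjective
        (F.injective_of_mem (resT_mem hα hTS hM.le))).toEquiv) k (hK k.2).2
  set φα := topConj α φ₁ (hMKα.trans hKαT) (inv_resT_mem α hM.le) hφ₁G.le_T.2 with hφα
  have hφαG : GenFam F T A φα := h.topConj_mem hφ₁G hα _ _ _
  have hαinv : ∀ (x : M) (hy : resT α hM.le x ∈ T),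
      ((α⁻¹ ⟨resT α hM.le x, hy⟩ : T) : Ω) = x := fun x hy => resT_inv_apply α hM.le rfl
  have hφαv : ∀ x : M, φα ⟨resT α hM.le x, ⟨x, rfl⟩⟩ =
      ((α ⟨φ₁ x, hφ₁G.le_T.2 x⟩ : T) : Ω) := by
    intro x
    rw [hφα, topConj_apply]
    congr 2
    exact Subtype.ext (congrArg φ₁ (Subtype.ext (hαinv x _)))
  have hr : φα.range = Q := by
    have := finite_le hQn.1
    refine Subgroup.eq_of_le_of_card_ge ?_ ?_
    · rintro _ ⟨⟨_, x, rfl⟩, rfl⟩
      rw [hφαv]
      exact hgQ ⟨φ x, hφN x⟩ _ ⟨x, rfl⟩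
    · rw [← Nat.card_congr (MonoidHom.ofInjective (F.injective_of_mem (h.mem hφαG))).toEquiv,
        ← Nat.card_congr (MonoidHom.ofInjective (F.injective_of_mem
          (resT_mem hα hTS hM.le))).toEquiv, hcard, hM₁card]
  obtain ⟨ψα, hψα, hψαv⟩ := h.ext_fn hQc hQn (by rw [hcard, hM₁card]; exact hset) hφαG hr hMKα hKN
    (by
      rintro _ ⟨k, rfl⟩
      obtain ⟨t, ht, htv⟩ := ht k k.2
      refine ⟨((α ⟨g ⟨t, ht⟩, hg.le_T.2 _⟩ : T) : Ω), SetLike.coe_mem _, ?_⟩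
      rintro ⟨_, x, rfl⟩ hx
      have hxk : (k : Ω) * (x : Ω) * (k : Ω)⁻¹ ∈ M := conj_mem_of_mem_normalizer (hK k.2).2 x.2
      have e1 : resT α hKT k * resT α hM.le x * (resT α hKT k)⁻¹ = resT α hM.le ⟨_, hxk⟩ := by
        simp only [resT_apply]
        rw [← Subgroup.coe_inv, ← Subgroup.coe_mul, ← Subgroup.coe_mul, ← map_inv, ← map_mul,
          ← map_mul]
        rfl
      rw [show (⟨resT α hKT k * resT α hM.le x * (resT α hKT k)⁻¹, hx⟩ : Mα) =
        ⟨resT α hM.le ⟨_, hxk⟩, ⟨_, rfl⟩⟩ from Subtype.ext e1, hφαv, hφαv]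
      conv_rhs => rw [← Subgroup.coe_inv, ← Subgroup.coe_mul, ← Subgroup.coe_mul, ← map_inv,
        ← map_mul, ← map_mul]
      congr 2
      refine Subtype.ext ?_
      show g ⟨φ ⟨_, hxk⟩, hφN _⟩ = g ⟨t, ht⟩ * g ⟨φ x, hφN x⟩ * (g ⟨t, ht⟩)⁻¹
      rw [← map_inv, ← map_mul, ← map_mul]
      exact congrArg g (Subtype.ext (htv x hxk)))
  -- back along `α`
  have h1 : ∀ y : K, ((α⁻¹⁻¹ (Subgroup.inclusion hKT y) : T) : Ω) ∈ Kα := fun y => by
    rw [inv_inv]; exact ⟨y, rfl⟩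
  set ψ₁ := topConj α⁻¹ ψα hKT h1 hψα.le_T.2 with hψ₁
  have hψ₁G : GenFam F T A ψ₁ := h.topConj_mem hψα (Subgroup.inv_mem _ hα) _ _ _
  have hψ₁v : ∀ x : M, ψ₁ (Subgroup.inclusion hMK x) = φ₁ x := by
    intro x
    rw [hψ₁, topConj_apply]
    have e1 : ψα ⟨_, h1 (Subgroup.inclusion hMK x)⟩ = ((α ⟨φ₁ x, hφ₁G.le_T.2 x⟩ : T) : Ω) := by
      rw [← hφαv, ← hψαv]
      exact congrArg ψα (Subtype.ext (by simp [resT_apply]; rfl))
    rw [show (⟨ψα ⟨_, h1 (Subgroup.inclusion hMK x)⟩, hψα.le_T.2 _⟩ : T) =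
      α ⟨φ₁ x, hφ₁G.le_T.2 x⟩ from Subtype.ext e1, MulAut.inv_apply_self]
  obtain ⟨θ, hθ, hθv⟩ := hg.inv
  have hmem : ∀ k, ψ₁ k ∈ g.range := by
    intro k
    obtain ⟨t, ht, htv⟩ := ht k k.2
    set M₂ := img g M₁ with hM₂
    have hinj := F.injective_of_mem (h.mem hg)
    have hM₂T : M₂ ≤ T := by rintro _ ⟨z, -, rfl⟩; exact hg.le_T.2 z
    have := finite_le (hM₂T.trans hTS)
    have hcard₂ : Nat.card M₂ = Nat.card M₁ := card_img hinj hM₁N
    have hN₁ : ψ₁ k ∈ normalizerIn T M₂ := ⟨hψ₁G.le_T.2 k,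
      apply_mem_normalizer (F.injective_of_mem (h.mem hψ₁G)) hMK
        (fun z hz => by
          rw [show z = Subgroup.inclusion hMK ⟨z, hz⟩ from rfl, hψ₁v]
          exact ⟨⟨φ ⟨z, hz⟩, hφN _⟩, ⟨_, rfl⟩, rfl⟩)
        (hM₁card.symm.trans hcard₂.symm) k (hK k.2).2⟩
    have hN₂ : g ⟨t, ht⟩ ∈ normalizerIn T M₂ := ⟨hg.le_T.2 _,
      apply_mem_normalizer (P := M₂) hinj hM₁N (fun z hz => ⟨z, hz, rfl⟩) hcard₂.symm _ ht.2⟩
    have hM₂c : TCentric F T M₂ := hM₁.conj h.tclosed (isConj_img (h.mem hg) hM₁N)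
    have h2 := inv_mul_mem_of_conjMon (hM₂c.2 M₂ (isConj_refl (hM₂T.trans hTS))) hN₂ hN₁ (by
      refine MulEquiv.ext fun y => Subtype.ext ?_
      obtain ⟨_, w, hw, rfl⟩ := y
      obtain ⟨x, hx⟩ := hw
      show g ⟨t, ht⟩ * g w * (g ⟨t, ht⟩)⁻¹ = ψ₁ k * g w * (ψ₁ k)⁻¹
      obtain rfl : w = ⟨φ x, hφN x⟩ := Subtype.ext hx.symm
      conv_rhs => rw [show g ⟨φ x, hφN x⟩ = ψ₁ (Subgroup.inclusion hMK x) from (hψ₁v x).symm]
      rw [← map_inv, ← map_inv, ← map_mul, ← map_mul, ← map_mul, ← map_mul]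
      have hxk : (k : Ω) * (x : Ω) * (k : Ω)⁻¹ ∈ M := conj_mem_of_mem_normalizer (hK k.2).2 x.2
      refine Eq.trans (congrArg g (Subtype.ext (htv x hxk).symm)) ((hψ₁v ⟨_, hxk⟩).symm.trans ?_)
      exact congrArg ψ₁ (Subtype.ext rfl))
    have := g.range.mul_mem ⟨⟨t, ht⟩, rfl⟩ (img_le_range g M₁ h2)
    rwa [mul_inv_cancel_left] at this
  refine ⟨θ.comp (ψ₁.codRestrict _ hmem), GenFam.comp hθ hψ₁G hmem fun _ => rfl, fun x => ?_⟩
  refine Eq.trans ?_ (hθv ⟨φ x, hφN x⟩)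
  exact congrArg θ (Subtype.ext (hψ₁v x))

theorem settled_all {M : Subgroup Ω} (hM : TCentric F T M) :
    Star F T A M ∧ Ext F T A M := by
  have := finite_le h.tclosed.1
  suffices key : ∀ (k : ℕ) (M : Subgroup Ω), Nat.card T - Nat.card M ≤ k → TCentric F T M →
      Star F T A M ∧ Ext F T A M from key _ M le_rfl hM
  intro k
  induction k using Nat.strong_induction_on with
  | _ k ih =>
    intro M hk hM
    have hset : Settled F T A (Nat.card M) := fun M' hM' hlt => by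
      have := Subgroup.card_le_of_le hM'.le
      exact ih (Nat.card T - Nat.card M') (by omega) M' le_rfl hM'
    exact ⟨h.star_of_settled hM hset, h.ext_of_settled hM hset⟩

/-- The automorphism groups of the generated system are the members of the family. -/
theorem autGroup_eq {M : Subgroup Ω} (hM : TCentric F T M) : h.genSys.autGroup M = A M :=
  le_antisymm (fun a ha => (h.settled_all hM).1 a ((mem_autGroup_iff (F := h.genSys) hM.le).1 ha))
    (h.fam_le_genSys hM)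

theorem genSys_receptive {R : Subgroup Ω} (hR : TCentric F T R) : h.genSys.IsReceptive R := by
  refine ⟨hR.le, fun P φ hφ hr => ?_⟩
  have hP : TCentric F T P := hR.conj h.tclosed (isConj_symm ⟨φ, h.mem hφ, hr⟩)
  have hφT : ∀ x, φ x ∈ T := hφ.le_T.2
  have hPK : P ≤ extender T P φ := le_extender hP.le hφT
  obtain ⟨ψ, hψ, hψv⟩ := (h.settled_all hP).2 φ hφ _ hPK extender_le fun g hg => by
    obtain ⟨-, -, t, ht, htv⟩ := mem_extender_iff.1 hg
    exact ⟨t, ht, htv⟩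
  exact ⟨ψ, hψ, fun x hx hxN => hψv ⟨x, hx⟩⟩

theorem genSys_fullyAutomized {M : Subgroup Ω} (hM : TCentric F T M) :
    ∃ R, h.genSys.IsConj M R ∧ TCentric F T R ∧ h.genSys.IsFullyAutomized p R := by
  have hTS := h.tclosed.1
  obtain ⟨Q, α, g, hQn, hQc, hcard, hα, hg, hgQ⟩ := h.exists_ref hM
  have hMN : M ≤ normalizerIn T M := le_normalizerIn hM.le
  have hg₀ := hg.restrict hMN (χ := g.comp (Subgroup.inclusion hMN)) fun _ => rfl
  set R := (g.comp (Subgroup.inclusion hMN)).range with hR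
  have hRc : TCentric F T R := hM.conj h.tclosed ⟨_, h.mem hg₀, rfl⟩
  refine ⟨R, ⟨_, hg₀, rfl⟩, hRc, hRc.le, ?_⟩
  show IsSylowIn p (autInducedBy T R) (h.genSys.autGroup R)
  rw [h.autGroup_eq hRc]
  have := finite_le hQn.1
  have := finite_le (hRc.le.trans hTS)
  have := finite_mulAut_of_le (S := S) (hRc.le.trans hTS)
  have := finite_mulAut_of_le (S := S) hQn.1
  obtain ⟨e, he, hev⟩ := exists_iso (P := R) (Q := Q) (resT_mem hα hTS hRc.le) (by
    refine Subgroup.eq_of_le_of_card_ge ?_ ?_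
    · rintro _ ⟨⟨_, x, rfl⟩, rfl⟩
      exact hgQ _ (hg.le_T.2 _) x.2
    · rw [hcard, Nat.card_congr (MonoidHom.ofInjective (F.injective_of_mem (h.mem hg₀))).toEquiv]
      exact (Nat.card_congr
        (MonoidHom.ofInjective (F.injective_of_mem (resT_mem hα hTS hRc.le))).toEquiv).le)
  have hAT : (autInducedBy T R).map (MulAut.congr e).toMonoidHom = autInducedBy T Q := by
    refine le_antisymm ?_ fun c hc => ?_
    · rintro _ ⟨c, hc, rfl⟩
      obtain ⟨t, ht, htv⟩ := mem_autInducedBy_iff.1 hc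
      refine mem_autInducedBy_iff.2 ⟨((α ⟨t, ht⟩ : T) : Ω), SetLike.coe_mem _, fun y => ?_⟩
      obtain ⟨x, rfl⟩ := e.surjective y
      show ((e (c (e.symm (e x))) : Q) : Ω) = _
      rw [MulEquiv.symm_apply_apply, hev, hev, resT_apply, resT_apply, ← Subgroup.coe_inv,
        ← Subgroup.coe_mul, ← Subgroup.coe_mul, ← map_inv, ← map_mul, ← map_mul]
      congr 2
      exact Subtype.ext (htv x)
    · obtain ⟨t, ht, htv⟩ := mem_autInducedBy_iff.1 hc
      refine ⟨MulAut.congr e.symm c, mem_autInducedBy_iff.2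
        ⟨((α⁻¹ ⟨t, ht⟩ : T) : Ω), SetLike.coe_mem _, fun x => ?_⟩, ?_⟩
      · have h1 : ((e (MulAut.congr e.symm c x) : Q) : Ω) = t * ((e x : Q) : Ω) * t⁻¹ := by
          rw [← htv]
          simp [MulAut.congr]
        rw [hev, hev, resT_apply, resT_apply] at h1
        have h2 : α (Subgroup.inclusion hRc.le (MulAut.congr e.symm c x)) =
            ⟨t, ht⟩ * α (Subgroup.inclusion hRc.le x) * ⟨t, ht⟩⁻¹ := Subtype.ext h1
        have h3 := congrArg (fun z : T => α⁻¹ z) h2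
        simp only [map_mul, map_inv, MulAut.inv_apply_self] at h3
        exact congrArg Subtype.val h3
      · exact MulEquiv.ext fun y => by simp [MulAut.congr]
  have hA : (A R).map (MulAut.congr e).toMonoidHom = A Q := by
    refine le_antisymm ?_ fun a ha => ⟨MulAut.congr e.symm a, h.congr hQc he.symm a ha,
      MulEquiv.ext fun y => by simp [MulAut.congr]⟩
    rintro _ ⟨a, ha, rfl⟩
    exact h.congr hRc he a ha
  rw [isSylowIn_iff_card (h.induced hRc)]
  have h2 := (isSylowIn_iff_card (h.induced hQc)).1 (h.sylow hQc hQn)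
  rwa [← hAT, ← hA, Subgroup.card_map_of_injective (MulAut.congr e).injective,
    Subgroup.card_map_of_injective (MulAut.congr e).injective] at h2

/-- The generated system is invariant. -/
theorem genSys_invariant : h.genSys.IsInvariantIn F := by
  refine ⟨h.genSys_sub, h.tclosed, fun P hPT φ hφ α hα => ?_,
    fun P hP φ hφ => h.frattini _ hP le_rfl φ hφ⟩
  obtain ⟨χ, hχ, hv⟩ := h.genSys_autInvariant P φ hφ α hα
  exact ⟨χ, hχ, fun x hφx hαx => hv ⟨x, hPT x.2⟩ x.2 hφx hαx⟩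

/-- The generated system is saturated. -/
theorem genSys_saturated : h.genSys.IsSaturated p := by
  have hTS := h.tclosed.1
  have := finite_le hTS
  refine Control.saturated_of_family (ℋ := {P | TCentric F T P}) (h.pgroup.to_le hTS)
    (fun R hR => hR.le) (fun P hP Q hPQ => ?_) (fun P hP => ?_) (fun E hE => ?_)
    fun P hPc hPℋ => ?_
  · obtain ⟨φ, hφ, hr⟩ := hPQ
    exact hP.conj h.tclosed ⟨φ, h.mem hφ, hr⟩
  · obtain ⟨R, hPR, hRc, hfa⟩ := h.genSys_fullyAutomized hP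
    exact ⟨R, hPR, hfa, h.genSys_receptive hRc⟩
  · intro P φ hφ
    induction hφ with
    | incl φ hP hφ => exact hom_congr (incl_mem hP) hφ
    | @step R φ hR a ha hφ hle χ hχ ih =>
        exact comp_mem' ih (hE R hR (GenFam.ofAut hR ha : isoHom (a : R ≃* R) ∈ h.genSys.Hom R))
          hle hχ
  · refine absurd ⟨hPc.1, fun Q hQ c hc => ?_⟩ hPℋ
    obtain ⟨φ, hφ, rfl⟩ := hQ
    obtain ⟨α, hα, φ₀, hφ₀, hv⟩ := h.frattini _ hPc.1 le_rfl φ hφ
    have hφ₀T : ∀ x, φ₀ x ∈ T := GenFam.le_T hφ₀ |>.2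
    have h1 : ((α⁻¹ ⟨c, hc.1⟩ : T) : Ω) ∈ φ₀.range := by
      refine hPc.2 φ₀.range ⟨φ₀, hφ₀, rfl⟩ (mem_centralizerIn.2 ⟨SetLike.coe_mem _, ?_⟩)
      rintro _ ⟨x, rfl⟩
      have h2 : α ⟨φ₀ x, hφ₀T x⟩ * ⟨c, hc.1⟩ = ⟨c, hc.1⟩ * α ⟨φ₀ x, hφ₀T x⟩ := by
        refine Subtype.ext ?_
        rw [Subgroup.coe_mul, Subgroup.coe_mul, ← hv x (hφ₀T x)]
        exact (mem_centralizerIn.1 hc).2 _ ⟨x, rfl⟩
      have h3 := congrArg (fun z : T => α⁻¹ z) h2
      simp only [map_mul, MulAut.inv_apply_self] at h3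
      exact congrArg Subtype.val h3
    obtain ⟨x, hx⟩ := h1
    refine ⟨x, ?_⟩
    rw [hv x (hφ₀T x), show (⟨φ₀ x, hφ₀T x⟩ : T) = α⁻¹ ⟨c, hc.1⟩ from Subtype.ext hx,
      MulAut.apply_inv_self]

/-- A normal-type subsystem with the given automizers. -/
theorem exists_system :
    ∃ D : FusionSystem T, D.IsSaturated p ∧ D.IsInvariantIn F ∧
      (∀ R : Subgroup Ω, TCentric F T R → D.autGroup R = A R) ∧
      ∀ {V : Subgroup Ω} (G : FusionSystem V), T ≤ V →
        (∀ R : Subgroup Ω, TCentric F T R → A R ≤ G.autGroup R) → D.IsSubsystemOf G :=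
  ⟨h.genSys, h.genSys_saturated, h.genSys_invariant, fun _ hR => h.autGroup_eq hR,
    fun G hTV hA => h.genSys_le hTV hA⟩

end AutFamily

end CfsgLib.Fusion.Family
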