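import Cfsg.Agent.Lib.Fusion.SolvableSeries

/-!
Solvability passes to and from normal subsystems and factor systems.
-/

set_option autoImplicit false

namespace CfsgLib.Fusion

open Cfsg Cfsg.FusionSystem
open scoped commutatorElement

variable {Ω : Type*} [Group Ω] {S T : Subgroup Ω} {F : FusionSystem S} {E : FusionSystem T}
  {p : ℕ}

/-- The image of `N ≤ T` under an automorphism of `T`. -/
def autMap (α : MulAut T) (N : Subgroup Ω) : Subgroup Ω :=
  (N.subgroupOf T).map (T.subtype.comp α.toMonoidHom)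

theorem mem_autMap {α : MulAut T} {N : Subgroup Ω} {x : T} :
    ((α x : T) : Ω) ∈ autMap α N ↔ (x : Ω) ∈ N := by
  refine ⟨?_, fun h => ⟨x, h, rfl⟩⟩
  rintro ⟨y, hy, hyx⟩
  obtain rfl : y = x := α.injective (Subtype.ext hyx)
  exact hy

theorem autMap_le (α : MulAut T) (N : Subgroup Ω) : autMap α N ≤ T := by
  rintro _ ⟨y, -, rfl⟩
  exact (α y).2

theorem autMap_mono (α : MulAut T) {N N' : Subgroup Ω} (h : N ≤ N') : autMap α N ≤ autMap α N' :=
  Subgroup.map_mono (Subgroup.comap_mono h)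

theorem stronglyClosed_autMap (hE : E.IsInvariantIn F) {α : MulAut T} (hα : α ∈ F.autGroup T)
    {N : Subgroup Ω} (hN : E.StronglyClosed N) : E.StronglyClosed (autMap α N) := by
  refine ⟨autMap_le α N, fun R hR ψ hψ x => ?_⟩
  have hRT := hom_le hψ
  obtain ⟨χ, hχ, hv⟩ := hE.2.2.1 R hRT ψ hψ α⁻¹ (inv_mem hα)
  have hψT := hom_apply_mem hψ x
  have hax : ((α⁻¹ ⟨x, hRT x.2⟩ : T) : Ω) ∈
      (R.subgroupOf T).map (T.subtype.comp (α⁻¹ : MulAut T).toMonoidHom) :=
    ⟨⟨x, hRT x.2⟩, x.2, rfl⟩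
  have hle : (R.subgroupOf T).map (T.subtype.comp (α⁻¹ : MulAut T).toMonoidHom) ≤ N := by
    rintro _ ⟨y, hy, rfl⟩
    refine mem_autMap.1 (?_ : ((α (α⁻¹ y) : T) : Ω) ∈ autMap α N)
    rw [MulAut.apply_inv_self]
    exact hR hy
  have h1 := hN.2 _ hle χ hχ ⟨_, hax⟩
  rw [hv x hψT hax] at h1
  have h2 := mem_autMap (α := α) (N := N) (x := α⁻¹ ⟨ψ x, hψT⟩)
  rw [MulAut.apply_inv_self] at h2
  exact h2.2 h1

theorem stronglyClosed_of_invariant [Finite S] (hE : E.IsInvariantIn F) {N : Subgroup Ω}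
    (hN : E.StronglyClosed N) (hinv : ∀ α ∈ F.autGroup T, autMap α N ≤ N) :
    F.StronglyClosed N := by
  refine ⟨hN.1.trans hE.2.1.1, fun R hR φ hφ x => ?_⟩
  obtain ⟨α, hα, φ₀, hφ₀, hv⟩ := hE.2.2.2 R (hR.trans hN.1) φ hφ
  rw [hv x (hom_apply_mem hφ₀ x)]
  exact hinv α hα (mem_autMap.2 (hN.2 R hR φ₀ hφ₀ x))

theorem StronglyClosed.of_subsystem {N : Subgroup Ω} (hsub : E.IsSubsystemOf F) (hNT : N ≤ T)
    (hN : F.StronglyClosed N) : E.StronglyClosed N :=
  ⟨hNT, fun R hR φ hφ x => hN.2 R hR φ (hsub R hφ) x⟩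

/-- The next member of a series below a solvable invariant subsystem. -/
theorem exists_next_closed [Fact p.Prime] [Finite S] (hS : IsPGroup p S)
    (hE : E.IsWeaklyNormalIn F p) (hsol : E.IsSolvableSystem) {R : Subgroup Ω}
    (hR : F.StronglyClosed R) (hRT : R ≤ T) (hne : R ≠ T) :
    ∃ K, R < K ∧ K ≤ T ∧ F.StronglyClosed K ∧ ⁅K, K⁆ ≤ R := by
  obtain ⟨hEsat, -, hinv⟩ := hE
  have hTS := hinv.2.1.1
  have := finite_le hTS
  have hT : IsPGroup p T := hS.to_le hTS
  have hRE : E.StronglyClosed R := StronglyClosed.of_subsystem hinv.1 hRT hR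
  have : (R.subgroupOf T).Normal :=
    (Subgroup.normal_subgroupOf_iff_le_normalizer hRT).2 (StronglyClosed.normal_in hRE)
  let θ : T →* T ⧸ R.subgroupOf T := QuotientGroup.mk' _
  have hθ : ∀ s : T, θ s = 1 ↔ (s : Ω) ∈ R := fun s => QuotientGroup.eq_one_iff s
  have hr : θ.range = (⊤ : Subgroup (T ⧸ R.subgroupOf T)) :=
    MonoidHom.range_eq_top.2 (QuotientGroup.mk'_surjective _)
  set D := factorSystem E hRE θ hθ hr
  have hD : E.IsFactorSystem R θ D := ⟨hRT, hθ, hr, fun _ _ => Iff.rfl⟩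
  have hq : IsPGroup p (⊤ : Subgroup (T ⧸ R.subgroupOf T)) := (hT.to_quotient _).to_subgroup ⊤
  have hDsat := factor_saturated hT hEsat hRE hD
  have hcn : D.IsNormal D.core := core_isNormal
  set C := preimageAlong θ D.core with hCdef
  have hCT : C ≤ T := preimageAlong_le θ _
  have hCE : E.StronglyClosed C :=
    stronglyClosed_preimageAlong hT hEsat hRE hD (IsNormal.stronglyClosed hcn)
  have hRC : R ≤ C := ker_le_preimageAlong hRT hθ _
  obtain ⟨n, Cs, h0, hlast, hmono, hsc, hcomm⟩ := IsNormal.exists_series hq hcn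
  have hθcomm : ∀ a b : T, θ ⁅a, b⁆ = ⁅θ a, θ b⁆ := fun a b => map_commutatorElement θ a b
  -- `C` is invariant
  have hCinv : ∀ α ∈ F.autGroup T, autMap α C ≤ C := by
    intro α hα
    have hnorm : D.IsNormal (imageAlong θ (autMap α C)) := by
      refine isNormal_of_series hq hDsat
        (stronglyClosed_imageAlong hD hRE (stronglyClosed_autMap hinv hα hCE)) (n := n)
        (fun i => imageAlong θ (autMap α (preimageAlong θ (Cs i)))) ?_ (by simp only [hlast]; rfl)
        (fun a b hab => Subgroup.map_mono (Subgroup.comap_mono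
          (autMap_mono α (preimageAlong_mono (hmono hab))))) (fun i => ?_) (fun i => ?_)
      · simp only [h0, Subgroup.eq_bot_iff_forall]
        rintro _ ⟨s, hs, rfl⟩
        obtain ⟨t, ht, hts⟩ := hs
        refine (hθ s).2 ?_
        obtain rfl : α t = s := Subtype.ext hts
        have htR : (t : Ω) ∈ R := by
          obtain ⟨u, hu, hut⟩ := ht
          obtain rfl : u = t := Subtype.ext hut
          exact (hθ u).1 (Subgroup.mem_bot.1 hu)
        exact StronglyClosed.apply_mem hR ((mem_autGroup_iff hTS).1 hα) (x := t) htR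
      · refine Subgroup.commutator_le.2 ?_
        rintro _ ⟨a, ⟨a₀, ha₀, ha⟩, rfl⟩ _ ⟨b, ⟨b₀, hb₀, hb⟩, rfl⟩
        obtain rfl : α a₀ = a := Subtype.ext ha
        obtain rfl : α b₀ = b := Subtype.ext hb
        obtain ⟨a₁, ha₁, ha'⟩ := ha₀
        obtain rfl : a₁ = a₀ := Subtype.ext ha'
        obtain ⟨b₁, hb₁, hb'⟩ := hb₀
        obtain rfl : b₁ = b₀ := Subtype.ext hb'
        refine ⟨α ⁅a₁, b₁⁆, ⟨⁅a₁, b₁⁆, ⟨⁅a₁, b₁⁆, ?_, rfl⟩, rfl⟩, ?_⟩
        · show θ ⁅a₁, b₁⁆ ∈ Cs i.castSucc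
          rw [hθcomm]
          exact hcomm i (Subgroup.commutator_mem_commutator ha₁ hb₁)
        · rw [map_commutatorElement, hθcomm]
      · exact StronglyClosed.weaklyClosed (stronglyClosed_imageAlong hD hRE
          (stronglyClosed_autMap hinv hα
            (stronglyClosed_preimageAlong hT hEsat hRE hD (hsc _))))
    intro x hx
    exact (mem_preimageAlong (x := (⟨x, autMap_le α C hx⟩ : T))).2
      (le_core hnorm ⟨_, hx, rfl⟩)
  set Z := D.core ⊓ Subgroup.centralizer (D.core : Set (T ⧸ R.subgroupOf T)) with hZdef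
  have hZn : D.IsNormal Z := isNormal_inf_centralizer hcn
  set K := preimageAlong θ Z with hKdef
  have hKT : K ≤ T := preimageAlong_le θ _
  have hKE : E.StronglyClosed K :=
    stronglyClosed_preimageAlong hT hEsat hRE hD (IsNormal.stronglyClosed hZn)
  have hKmem : ∀ t : T, (t : Ω) ∈ K ↔ (t : Ω) ∈ C ∧ ∀ c : T, (c : Ω) ∈ C → ⁅(t : Ω), (c : Ω)⁆ ∈ R := by
    intro t
    rw [hKdef, mem_preimageAlong, hCdef, mem_preimageAlong]
    refine ⟨fun h => ⟨h.1, fun c hc => ?_⟩, fun h => ⟨h.1, Subgroup.mem_centralizer_iff.2 ?_⟩⟩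
    · refine (hθ ⁅t, c⁆).1 ?_
      rw [hθcomm, commutatorElement_eq_one_iff_mul_comm]
      exact (Subgroup.mem_centralizer_iff.1 h.2 _ (mem_preimageAlong.1 hc)).symm
    · intro y hy
      obtain ⟨c, rfl⟩ := QuotientGroup.mk'_surjective _ y
      have h1 : θ ⁅t, c⁆ = 1 := (hθ _).2 (h.2 c (mem_preimageAlong.2 hy))
      rw [hθcomm, commutatorElement_eq_one_iff_mul_comm] at h1
      exact h1.symm
  have hKinv : ∀ α ∈ F.autGroup T, autMap α K ≤ K := by
    intro α hα
    rintro _ ⟨t, ht, rfl⟩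
    obtain ⟨htC, htc⟩ := (hKmem t).1 ht
    refine (hKmem (α t)).2 ⟨hCinv α hα ⟨t, htC, rfl⟩, fun c hc => ?_⟩
    obtain ⟨d, rfl⟩ := α.surjective c
    have hd : (d : Ω) ∈ C := by
      have h1 := hCinv α⁻¹ (inv_mem hα) ⟨α d, hc, rfl⟩
      simpa using h1
    have h1 := StronglyClosed.apply_mem hR ((mem_autGroup_iff hTS).1 hα) (x := ⁅t, d⁆) (htc d hd)
    have e : α ⁅t, d⁆ = ⁅α t, α d⁆ := map_commutatorElement α t d
    replace h1 : ((α ⁅t, d⁆ : T) : Ω) ∈ R := h1
    rw [e] at h1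
    exact h1
  have hKF : F.StronglyClosed K := stronglyClosed_of_invariant hinv hKE hKinv
  have hRK : R ≤ K := ker_le_preimageAlong hRT hθ _
  refine ⟨K, lt_of_le_of_ne hRK fun he => ?_, hKT, hKF, Subgroup.commutator_le.2 fun a ha b hb => ?_⟩
  · have hc : D.core ≠ ⊥ := hsol R hRE hne D hD
    have hnt : Nontrivial D.core := (Subgroup.nontrivial_iff_ne_bot _).2 hc
    have := ((hT.to_quotient (R.subgroupOf T)).to_subgroup D.core).center_nontrivial
    obtain ⟨z, hz⟩ := exists_ne (1 : Subgroup.center D.core)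
    obtain ⟨s, hs⟩ := QuotientGroup.mk'_surjective _ ((z : D.core) : T ⧸ R.subgroupOf T)
    have hsK : (s : Ω) ∈ K := mem_preimageAlong.2 ⟨hs ▸ (z : D.core).2,
      Subgroup.mem_centralizer_iff.2 fun y hy => by
        show y * QuotientGroup.mk' _ s = QuotientGroup.mk' _ s * y
        rw [hs]
        exact congrArg Subtype.val (Subgroup.mem_center_iff.1 z.2 ⟨y, hy⟩)⟩
    rw [← he] at hsK
    have h1 : QuotientGroup.mk' (R.subgroupOf T) s = 1 := (hθ s).2 hsK
    exact hz (Subtype.ext (Subtype.ext (hs.symm.trans h1)))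
  · exact ((hKmem ⟨a, hKT ha⟩).1 ha).2 ⟨b, hKT hb⟩ ((hKmem ⟨b, hKT hb⟩).1 hb).1

/-- Solvability of a system against a normal subsystem and the factor system. -/
theorem isSolvable_iff_normal_factor [Fact p.Prime] [Finite S] (hS : IsPGroup p S)
    (hF : F.IsSaturated p) (hE : E.IsNormalIn F p) {Ω' : Type*} [Group Ω'] {θ : S →* Ω'}
    {S' : Subgroup Ω'} {D : FusionSystem S'} (hD : F.IsFactorSystem T θ D) :
    F.IsSolvableSystem ↔ (E.IsSolvableSystem ∧ D.IsSolvableSystem) := by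
  obtain ⟨hsub, hT, -⟩ := hE.1.2.2
  have hEsat := hE.1.1
  have hTS := hT.1
  have := finite_le hTS
  have hDsat := factor_saturated hS hF hT hD
  obtain ⟨-, hθ, hS', -⟩ := id hD
  have : Finite S' := hS' ▸ (Finite.of_surjective θ.rangeRestrict θ.rangeRestrict_surjective)
  have hS'p : IsPGroup p S' :=
    hS' ▸ IsPGroup.of_surjective hS θ.rangeRestrict θ.rangeRestrict_surjective
  constructor
  · intro h
    obtain ⟨n, C, h0, hlast, hmono, hsc, hc⟩ :=
      hasAbelianChain_of_solvable hS hF h _ ⊥ le_rfl stronglyClosed_bot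
    refine ⟨isSolvable_of_chain (hS.to_le hTS) hEsat ⟨n, fun i => C i ⊓ T, ?_, ?_,
      fun a b hab => inf_le_inf_right _ (hmono hab), fun i => ?_, fun i => ?_⟩,
      isSolvable_of_chain hS'p hDsat ⟨n, fun i => imageAlong θ (C i), ?_, ?_,
      fun a b hab => Subgroup.map_mono (Subgroup.comap_mono (hmono hab)),
      fun i => stronglyClosed_imageAlong hD hT (hsc i), fun i => ?_⟩⟩
    · simp only [h0, bot_inf_eq]
    · simp only [hlast]
      exact inf_eq_right.2 hTS
    · refine StronglyClosed.of_subsystem hsub inf_le_right ⟨inf_le_right.trans hTS, ?_⟩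
      exact fun R hR φ hφ x => ⟨(hsc i).2 R (hR.trans inf_le_left) φ hφ x,
        hT.2 R (hR.trans inf_le_right) φ hφ x⟩
    · refine le_inf ((Subgroup.commutator_mono inf_le_left inf_le_left).trans (hc i))
        ((Subgroup.commutator_mono inf_le_right inf_le_right).trans ?_)
      exact Subgroup.commutator_le.2 fun a ha b hb =>
        T.mul_mem (T.mul_mem (T.mul_mem ha hb) (T.inv_mem ha)) (T.inv_mem hb)
    · simp only [h0, imageAlong, Subgroup.bot_subgroupOf, Subgroup.map_bot]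
    · simp only [hlast, imageAlong, Subgroup.subgroupOf_self, ← MonoidHom.range_eq_map, hS']
    · refine Subgroup.commutator_le.2 ?_
      rintro _ ⟨a, ha, rfl⟩ _ ⟨b, hb, rfl⟩
      exact ⟨⁅a, b⁆, hc i (Subgroup.commutator_mem_commutator ha hb), map_commutatorElement θ a b⟩
  · rintro ⟨hEs, hDs⟩
    obtain ⟨n, C, h0, hlast, hmono, hsc, hc⟩ :=
      hasAbelianChain_of_solvable hS'p hDsat hDs _ ⊥ le_rfl stronglyClosed_bot
    have hbase : HasAbelianChain F T := by
      refine ⟨n, fun i => preimageAlong θ (C i), ?_, ?_, fun a b hab => preimageAlong_mono (hmono hab),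
        fun i => stronglyClosed_preimageAlong hS hF hT hD (hsc i), fun i => ?_⟩
      · ext x
        constructor
        · rintro ⟨s, hs, rfl⟩
          exact (hθ s).1 (Subgroup.mem_bot.1 (h0 ▸ hs))
        · exact fun hx => ker_le_preimageAlong hTS hθ _ hx
      · refine le_antisymm (preimageAlong_le θ _) fun x hx => ?_
        exact (mem_preimageAlong (x := ⟨x, hx⟩)).2 (by rw [hlast, ← hS']; exact ⟨_, rfl⟩)
      · refine Subgroup.commutator_le.2 ?_
        rintro _ ⟨a, ha, rfl⟩ _ ⟨b, hb, rfl⟩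
        refine ⟨⁅a, b⁆, ?_, rfl⟩
        show θ ⁅a, b⁆ ∈ C i.castSucc
        rw [map_commutatorElement]
        exact hc i (Subgroup.commutator_mem_commutator ha hb)
    refine isSolvable_of_chain hS hF ?_
    suffices h : ∀ (m : ℕ) (R : Subgroup Ω), Nat.card T - Nat.card R ≤ m → R ≤ T →
        F.StronglyClosed R → HasAbelianChain F R from h _ ⊥ le_rfl bot_le stronglyClosed_bot
    intro m
    induction m using Nat.strong_induction_on with
    | _ m ih =>
    intro R hm hRT hR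
    by_cases hne : R = T
    · exact hne ▸ hbase
    obtain ⟨K, hlt, hKT, hK, hab⟩ := exists_next_closed hS hE.1 hEs hR hRT hne
    have := finite_le hK.1
    have hcard : Nat.card R < Nat.card K :=
      lt_of_le_of_ne (Subgroup.card_le_of_le hlt.le) fun e =>
        hlt.ne (Subgroup.eq_of_le_of_card_ge hlt.le e.ge)
    have := Subgroup.card_le_of_le hKT
    exact (ih _ (by omega) K le_rfl hKT hK).step hR hlt.le hab

end CfsgLib.Fusion
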