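import Cfsg.Agent.Lib.Fusion.StronglyClosedSub
import Cfsg.Prelude.Def_FusionComponents

/-!
Subnormal subsystems: basic consequences.
-/

set_option autoImplicit false

namespace CfsgLib.Fusion

open Cfsg Cfsg.FusionSystem

variable {Ω : Type*} [Group Ω] {p : ℕ}

theorem IsSubsystemOf.le {S T : Subgroup Ω} {F : FusionSystem S} {E : FusionSystem T}
    (h : E.IsSubsystemOf F) : T ≤ S := hom_le (h T (incl_mem le_rfl))

theorem IsSubsystemOf.trans {S T U : Subgroup Ω} {F : FusionSystem S} {D : FusionSystem U}
    {E : FusionSystem T} (h₁ : E.IsSubsystemOf D) (h₂ : D.IsSubsystemOf F) : E.IsSubsystemOf F :=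
  fun P => (h₁ P).trans (h₂ P)

theorem IsSubnormalIn.isSubsystemOf {S T : Subgroup Ω} {F : FusionSystem S} {E : FusionSystem T}
    (hE : E.IsSubnormalIn F p) : E.IsSubsystemOf F := by
  induction hE with
  | refl F p => exact fun P => subset_rfl
  | step _ hn ih => exact IsSubsystemOf.trans ih hn.1.2.2.1

theorem IsSubnormalIn.saturated {S T : Subgroup Ω} {F : FusionSystem S} {E : FusionSystem T}
    (hE : E.IsSubnormalIn F p) : F.IsSaturated p → E.IsSaturated p := by
  induction hE with
  | refl F p => exact id
  | step _ hn ih => exact fun _ => ih hn.1.1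

theorem IsSubnormalIn.fullyNormalized {S T : Subgroup Ω} {F : FusionSystem S} {E : FusionSystem T}
    (hE : E.IsSubnormalIn F p) :
    p.Prime → Finite S → IsPGroup p S → F.IsSaturated p → ∀ P : Subgroup Ω, P ≤ T →
      F.IsFullyNormalized P → E.IsFullyNormalized P := by
  induction hE with
  | refl F p => exact fun _ _ _ _ _ _ h => h
  | step h hn ih =>
      intro hq hfin hS hF P hP hPn
      have := Fact.mk hq
      have hU := hn.1.2.2.2.1
      exact ih hq (finite_le hU.1) (hS.to_le hU.1) hn.1.1 P hP
        (fullyNormalized_subsystem hS hF hU hn.1.2.2.1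
          (hP.trans (IsSubsystemOf.le (IsSubnormalIn.isSubsystemOf h))) hPn)

end CfsgLib.Fusion
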