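import Cfsg.Agent.Lib.Fusion.StrongInvariance
import Cfsg.Agent.Lib.Fusion.LeastNormal
import Cfsg.Agent.Lib.Fusion.Subnormal
import Cfsg.Agent.Lib.Fusion.SolvableExtension
import Cfsg.Agent.Lib.Fusion.NormalCentralizerClosed

/-!
# Invariance passed to intermediate systems
-/

set_option autoImplicit false

namespace CfsgLib.Fusion

open Cfsg Cfsg.FusionSystem

universe u

variable {Ω : Type u} [Group Ω] {S T U V : Subgroup Ω} {F : FusionSystem S} {E : FusionSystem T}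
  {G : FusionSystem U} {p : ℕ}

theorem autInvariant_of_invariant (hE : E.IsInvariantIn F) : AutInvariant E F := by
  intro Q f hf α hα
  obtain ⟨χ, hχ, hv⟩ := hE.2.2.1 Q (hom_le hf) f hf α hα
  exact ⟨χ, hχ, fun x hxQ hfx h => hv ⟨x, hxQ⟩ hfx h⟩

/-- An invariant subsystem is invariant in every saturated system in between. -/
theorem invariant_inherit [Fact p.Prime] [Finite S] (hS : IsPGroup p S) (hGs : G.IsSaturated p)
    (hGF : G.IsSubsystemOf F) (hE : E.IsInvariantIn F) (hEG : E.IsSubsystemOf G) :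
    E.IsInvariantIn G := by
  have hTU : T ≤ U := IsSubsystemOf.le hEG
  have hUS : U ≤ S := IsSubsystemOf.le hGF
  have := finite_le hUS
  have hT := hE.2.1
  have hTG : G.StronglyClosed T := ⟨hTU, fun R hR φ hφ x => hT.2 R hR φ (hGF R hφ) x⟩
  have haut : ∀ {P : Subgroup Ω}, P ≤ U → ∀ {b : MulAut P}, b ∈ G.autGroup P → b ∈ F.autGroup P :=
    fun hP _ hb => (mem_autGroup_iff (hP.trans hUS)).2 (hGF _ ((mem_autGroup_iff hP).1 hb))
  refine ⟨hEG, hTG, fun P hPT φ hφ α hα => hE.2.2.1 P hPT φ hφ α (haut hTU hα), fun P hPT φ hφ => ?_⟩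
  exact frattini_of_invariant (hS.to_le hUS) hGs hTG hEG
    (fun Q f hf α hα => autInvariant_of_invariant hE Q f hf α (haut hTU hα))
    (fun Q hQ a ha b hb => invariant_conj_mem hE hQ ha (haut (hQ.trans hTU) hb))
    (Nat.card T) P (by omega) hPT φ hφ

/-- A map conjugated by an automorphism in the system stays in the system. -/
theorem topConj_mem_of_aut (hVS : V ≤ S) {α : MulAut V} (hα : α ∈ F.autGroup V) {P : Subgroup Ω}
    {φ : P →* Ω} (hφ : φ ∈ F.Hom P) {P' : Subgroup Ω} (hP' : P' ≤ V)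
    (h1 : ∀ y : P', ((α⁻¹ (Subgroup.inclusion hP' y) : V) : Ω) ∈ P) (h2 : ∀ x, φ x ∈ V) :
    topConj α φ hP' h1 h2 ∈ F.Hom P' := by
  have ha := restrict_mem ((mem_autGroup_iff hVS).1 (inv_mem hα)) hP'
  have hb := F.comp_mem ha hφ h1
  exact comp_mem' hb ((mem_autGroup_iff hVS).1 hα) (fun y => h2 _) fun y => topConj_apply α φ hP' h1 h2 y

/-- Every system is invariant in itself. -/
theorem isInvariantIn_refl : F.IsInvariantIn F := by
  refine ⟨fun P => subset_rfl, ⟨le_rfl, fun R _ φ hφ x => hom_apply_mem hφ x⟩, ?_,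
    fun P _ φ hφ => ⟨1, one_mem _, φ, hφ, fun x _ => rfl⟩⟩
  intro P hPS φ hφ α hα
  set P' := (P.subgroupOf S).map (S.subtype.comp α.toMonoidHom) with hP'
  have hP'S : P' ≤ S := by rintro _ ⟨x, -, rfl⟩; exact SetLike.coe_mem _
  have h1 : ∀ y : P', ((α⁻¹ (Subgroup.inclusion hP'S y) : S) : Ω) ∈ P := by
    rintro ⟨_, x, hx, rfl⟩
    rw [show Subgroup.inclusion hP'S ⟨_, ⟨x, hx, rfl⟩⟩ = α x from rfl, MulAut.inv_apply_self]
    exact hx
  refine ⟨_, topConj_mem_of_aut le_rfl hα hφ hP'S h1 (hom_apply_mem hφ), fun x hφx hαx => ?_⟩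
  rw [topConj_apply]
  congr 2
  refine Subtype.ext (congrArg φ (Subtype.ext ?_))
  show ((α⁻¹ (α ⟨(x : Ω), hPS x.2⟩) : S) : Ω) = x
  rw [MulAut.inv_apply_self]

/-- An invariant subsystem over `U` is stable under the automorphisms of a strongly closed
subgroup of `U`. -/
theorem topConj_mem_of_invariant [Finite S] (hG : G.IsInvariantIn F) (hV : F.StronglyClosed V)
    (hVU : V ≤ U) {α : MulAut V} (hα : α ∈ F.autGroup V) {R : Subgroup Ω} {φ : R →* Ω}
    (hφ : φ ∈ G.Hom R) {R' : Subgroup Ω} (hR' : R' ≤ V)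
    (h1 : ∀ y : R', ((α⁻¹ (Subgroup.inclusion hR' y) : V) : Ω) ∈ R) (h2 : ∀ x, φ x ∈ V) :
    topConj α φ hR' h1 h2 ∈ G.Hom R' := by
  have hVS := hV.1
  have := finite_le hVS
  obtain ⟨γ, hγ, g, hg, hgv⟩ := hG.2.2.2 V hVU _ ((mem_autGroup_iff hVS).1 hα)
  have hγF := (mem_autGroup_iff hG.2.1.1).1 hγ
  obtain ⟨e, he, hev⟩ := exists_iso hg (Subgroup.eq_of_le_of_card_ge
    (show g.range ≤ V by rintro _ ⟨x, rfl⟩; exact StronglyClosed.apply_mem hV (hG.1 _ hg) x.2)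
    (le_of_eq (Nat.card_congr (MonoidHom.ofInjective (G.injective_of_mem hg)).toEquiv)))
  have heG : (e : MulAut V) ∈ G.autGroup V := (mem_autGroup_iff_isoIn hVU).2 he
  have hαe : ∀ v : V, ((α v : V) : Ω) = ((γ ⟨(e v : Ω), hVU (e v).2⟩ : U) : Ω) := fun v =>
    (hgv v (hom_apply_mem hg v)).trans
      (congrArg (fun w : U => ((γ w : U) : Ω)) (Subtype.ext (hev v).symm))
  have hR'U : R' ≤ U := hR'.trans hVU
  have hR''V : autMap γ⁻¹ R' ≤ V := by
    rintro _ ⟨y, hy, rfl⟩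
    exact StronglyClosed.apply_mem hV ((mem_autGroup_iff hG.2.1.1).1 (inv_mem hγ)) (hR' hy)
  have key : ∀ y : autMap γ⁻¹ R', ∃ y₀ : R',
      ((γ⁻¹ (Subgroup.inclusion hR'U y₀) : U) : Ω) = y := by
    rintro ⟨_, y₀, hy₀, rfl⟩
    exact ⟨⟨y₀, hy₀⟩, rfl⟩
  have heq : ∀ y₀ : R', ∀ h : ((γ⁻¹ (Subgroup.inclusion hR'U y₀) : U) : Ω) ∈ V,
      (e : MulAut V)⁻¹ ⟨_, h⟩ = α⁻¹ (Subgroup.inclusion hR' y₀) := by
    intro y₀ h
    apply e.injective
    refine (MulAut.apply_inv_self V (e : MulAut V) _).trans ?_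
    have h3 := hαe (α⁻¹ (Subgroup.inclusion hR' y₀))
    rw [MulAut.apply_inv_self] at h3
    refine Subtype.ext ?_
    show ((γ⁻¹ (Subgroup.inclusion hR'U y₀) : U) : Ω) = _
    rw [show Subgroup.inclusion hR'U y₀ =
      γ ⟨(e (α⁻¹ (Subgroup.inclusion hR' y₀)) : Ω), hVU (SetLike.coe_mem _)⟩ from Subtype.ext h3,
      MulAut.inv_apply_self]
  have h1' : ∀ y : autMap γ⁻¹ R',
      (((e : MulAut V)⁻¹ (Subgroup.inclusion hR''V y) : V) : Ω) ∈ R := by
    intro y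
    obtain ⟨y₀, hy₀⟩ := key y
    rw [show Subgroup.inclusion hR''V y = ⟨((γ⁻¹ (Subgroup.inclusion hR'U y₀) : U) : Ω),
      hy₀.symm ▸ hR''V y.2⟩ from Subtype.ext hy₀.symm, heq]
    exact h1 y₀
  have hψ := topConj_mem_of_aut hVU heG hφ hR''V h1' h2
  have h1'' : ∀ y : R', ((γ⁻¹ (Subgroup.inclusion hR'U y) : U) : Ω) ∈ autMap γ⁻¹ R' := fun y =>
    ⟨Subgroup.inclusion hR'U y, y.2, rfl⟩
  refine hom_congr (invariant_topConj hG hψ hγ hR'U h1'' (hom_apply_mem hψ)) fun y => ?_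
  rw [topConj_apply, topConj_apply, hαe]
  congr 2
  refine Subtype.ext (Eq.trans ?_ (topConj_apply _ _ _ _ _ _).symm)
  refine congrArg (fun w : V => ((e w : V) : Ω)) (Subtype.ext (congrArg φ (Subtype.ext ?_)))
  exact (congrArg Subtype.val (heq y (hR''V (h1'' y))).symm :)

/-- An invariant saturated subsystem over a subgroup containing its centralizer is normal. -/
theorem isNormalIn_of_centralizer_le [Finite S] (hEs : E.IsSaturated p) (hF : F.IsSaturated p)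
    (hE : E.IsInvariantIn F) (hC : centralizerIn S T ≤ T) : E.IsNormalIn F p := by
  refine ⟨⟨hEs, hF, hE⟩, fun α hα => ?_⟩
  have hT := hE.2.1
  have hUS : T ⊔ centralizerIn S T ≤ S := sup_le hT.1 (centralizerIn_le T)
  have hUT : T ⊔ centralizerIn S T ≤ T := sup_le le_rfl hC
  have hαF : α ∈ F.autGroup T :=
    (mem_autGroup_iff hT.1).2 (hE.1 T ((mem_autGroup_iff le_rfl).1 hα))
  have := finite_le hUS
  have hβ₀ := restrict_mem ((mem_autGroup_iff hT.1).1 hαF) hUT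
  obtain ⟨β, hβ, hβv⟩ := exists_iso hβ₀ (Subgroup.eq_of_le_of_card_ge
    (by rintro _ ⟨x, rfl⟩; exact Subgroup.mem_sup_left (SetLike.coe_mem _))
    (le_of_eq (Nat.card_congr (MonoidHom.ofInjective (F.injective_of_mem hβ₀)).toEquiv)))
  refine ⟨β, (mem_autGroup_iff_isoIn hUS).2 hβ, fun x => hβv _, fun c hc => ?_⟩
  rw [hβv]
  obtain ⟨hcS, hcc⟩ := mem_centralizerIn.1 hc
  have hcT : (c : Ω) ∈ T := hC hc
  show (c : Ω)⁻¹ * ((α ⟨c, hcT⟩ : T) : Ω) ∈ _
  refine ⟨T.mul_mem (T.inv_mem hcT) (SetLike.coe_mem _),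
    Subgroup.mem_centralizer_iff.2 fun y hy => ?_⟩
  obtain ⟨z, hz⟩ := α.surjective ⟨y, hy⟩
  have h1 : α z * α ⟨c, hcT⟩ = α ⟨c, hcT⟩ * α z := by
    rw [← map_mul, ← map_mul]
    exact congrArg α (Subtype.ext (hcc z z.2))
  rw [hz] at h1
  have h1' : y * ((α ⟨c, hcT⟩ : T) : Ω) = ((α ⟨c, hcT⟩ : T) : Ω) * y := congrArg Subtype.val h1
  have h2 : y * (c : Ω)⁻¹ = (c : Ω)⁻¹ * y :=
    (Commute.inv_right (hcc y hy : Commute y (c : Ω))).eq
  rw [← mul_assoc, h2, mul_assoc, h1', ← mul_assoc]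

end CfsgLib.Fusion
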