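import Cfsg.Agent.Lib.Fusion.MeetSylow
import Cfsg.Agent.Lib.Fusion.FamilySystem
import Cfsg.Agent.Lib.Fusion.AlperinGen
import Cfsg.Agent.Lib.Fusion.InvariantInherit

/-!
# The intersection of two normal subsystems

The automorphisms of a normal subsystem lift trivially; hence the system generated by the family
`meetAut` is the greatest subsystem over `T₁ ⊓ T₂` normal in the ambient system and in both factors.
-/

set_option autoImplicit false
set_option maxHeartbeats 800000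
set_option linter.unusedSectionVars false

namespace CfsgLib.Fusion.Meet

open Cfsg Cfsg.FusionSystem CfsgLib.Fusion

universe u

variable {Ω : Type u} [Group Ω] {S : Subgroup Ω} {F : FusionSystem S} {p : ℕ}

/-- Powers of a restriction. -/
theorem restrict_pow {M R : Subgroup Ω} (hRM : R ≤ M) {b : MulAut M} {b' : MulAut R}
    (h : ∀ (r : Ω) (hr : r ∈ R), ((b ⟨r, hRM hr⟩ : M) : Ω) = ((b' ⟨r, hr⟩ : R) : Ω)) :
    ∀ (i : ℕ) (r : Ω) (hr : r ∈ R),
      (((b ^ i) ⟨r, hRM hr⟩ : M) : Ω) = (((b' ^ i) ⟨r, hr⟩ : R) : Ω) := by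
  intro i
  induction i with
  | zero => exact fun r hr => rfl
  | succ i ih =>
    intro r hr
    rw [pow_succ, pow_succ, MulAut.mul_apply, MulAut.mul_apply,
      show b ⟨r, hRM hr⟩ = ⟨((b' ⟨r, hr⟩ : R) : Ω), hRM (b' ⟨r, hr⟩).2⟩ from Subtype.ext (h r hr),
      ih _ (b' ⟨r, hr⟩).2]

theorem restrict_pow_eq_one {M R : Subgroup Ω} (hRM : R ≤ M) {b : MulAut M} {b' : MulAut R}
    (h : ∀ (r : Ω) (hr : r ∈ R), ((b ⟨r, hRM hr⟩ : M) : Ω) = ((b' ⟨r, hr⟩ : R) : Ω)) {n : ℕ}
    (hn : b ^ n = 1) : b' ^ n = 1 :=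
  MulEquiv.ext fun r => Subtype.ext (by
    rw [← restrict_pow hRM h n r r.2, hn]
    rfl)

/-- The automorphism groups of a normal subsystem lift trivially. -/
theorem normal_le_lGroup [Fact p.Prime] {V T : Subgroup Ω} [Finite V] {G : FusionSystem V}
    {E : FusionSystem T} (hV : IsPGroup p V) (hE : E.IsNormalIn G p) {R : Subgroup Ω}
    (hR : TCentric G T R) : E.autGroup R ≤ lGroup G R := by
  classical
  obtain ⟨⟨hEs, hG, hEi⟩, hext⟩ := hE
  have hT : G.StronglyClosed T := hEi.2.1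
  have hTp : IsPGroup p T := hV.to_le hT.1
  have := finite_le hT.1
  suffices key : ∀ (k : ℕ) (R : Subgroup Ω), Nat.card T - Nat.card R ≤ k → TCentric G T R →
      E.autGroup R ≤ lGroup G R from key _ R le_rfl hR
  intro k
  induction k using Nat.strong_induction_on with
  | _ k ih =>
    intro R hk hR a ha
    obtain ⟨Q, hRQ, hQn⟩ := exists_fullyNormalized (F := G) (hR.le.trans hT.1)
    obtain ⟨e, he⟩ := isConj_iff.1 hRQ
    have hQc : TCentric G T Q := hR.conj hT hRQ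
    suffices hQ : E.autGroup Q ≤ lGroup G Q by
      have h1 := lGroup_congr_in he.symm (hQ (invariant_congr hEi hR.le he ha))
      rwa [congr_symm_congr'] at h1
    clear a ha
    intro a ha
    have hQT : Q ≤ T := hQc.le
    have hQfc := IsSaturated.fullyCentralized hV hG hQn
    rcases eq_or_lt_of_le hQT with hQT' | hlt
    · subst hQT'
      obtain ⟨β, hβ, hβv, hβz⟩ := hext a ha
      exact mem_lGroup_of_liftable hV hG hQfc
        ⟨β, ⟨hβ, fun r hr => (hβv ⟨r, hr⟩).symm ▸ (a ⟨r, hr⟩).2, fun c hc => (hβz c hc).1⟩,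
          fun r hr => hβv ⟨r, hr⟩⟩
    have hc : centralizerIn T Q ≤ Q := hQc.2 Q (isConj_refl hQn.1)
    have hQfn := fullyNormalized_of_ambient hV hG hT hEi.1 hQn hQT
    have := finite_mulAut_of_le (S := V) hQn.1
    have hsyl := (IsSaturated.fullyAutomized hTp hEs hQfn).2
    have hP : autInducedBy T Q ≤ E.autGroup Q := autInducedBy_le_autGroup hQT
    have hpel : ∀ b ∈ E.autGroup Q, (∃ i : ℕ, b ^ p ^ i = 1) → b ∈ lGroup G Q := fun b hb hb' =>
      mem_lGroup_of_liftable hV hG hQfc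
        (liftable_of_pPower hV hG hEs hEi hQT hQn hc hb hb')
    -- Frattini
    have hPL : autInducedBy T Q ≤ E.autGroup Q ⊓ lGroup G Q := fun b hb =>
      ⟨hP hb, induced_mem_lGroup hV hG (fun _ => subset_rfl) hT hQc hb⟩
    have hXL : (autInducedBy T Q).map (MulAut.conj a).toMonoidHom ≤
        E.autGroup Q ⊓ lGroup G Q := by
      rintro _ ⟨b, hb, rfl⟩
      have hb' : a * b * a⁻¹ ∈ E.autGroup Q := mul_mem (mul_mem ha (hP hb)) (Subgroup.inv_mem _ ha)
      refine ⟨hb', hpel _ hb' ?_⟩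
      obtain ⟨i, hi⟩ := isPGroup_autInducedBy (P := Q) hTp ⟨b, hb⟩
      refine ⟨i, ?_⟩
      show (MulAut.conj a b) ^ p ^ i = 1
      rw [← map_pow, show b ^ p ^ i = 1 from congrArg Subtype.val hi, map_one]
    obtain ⟨g, hg, hgv⟩ := (IsSylowIn.of_le hsyl hP inf_le_left hPL).exists_conj_mem hXL
      ((isPGroup_autInducedBy (P := Q) hTp).map _)
    suffices hga : g * a ∈ lGroup G Q by
      have := mul_mem (Subgroup.inv_mem _ hg.2) hga
      rwa [inv_mul_cancel_left] at this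
    have hgaE : g * a ∈ E.autGroup Q := mul_mem hg.1 ha
    have hnorm : ∀ b ∈ autInducedBy T Q, g * a * b * (g * a)⁻¹ ∈ autInducedBy T Q := by
      intro b hb
      have := hgv _ (Subgroup.mem_map_of_mem _ hb)
      simp only [MulEquiv.coe_toMonoidHom, MulAut.conj_apply] at this
      rwa [show g * a * b * (g * a)⁻¹ = g * (a * b * a⁻¹) * g⁻¹ by group]
    obtain ⟨a', ha'⟩ : ∃ a' : MulAut Q, a' = g * a := ⟨_, rfl⟩
    rw [← ha'] at hgaE hnorm ⊢
    have hea : IsoIn E (a' : Q ≃* Q) := (mem_autGroup_iff_isoIn hQT).1 hgaE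
    have hext' : normalizerIn T Q ≤ extender T Q (isoHom (a' : Q ≃* Q)) := by
      intro t ht
      obtain ⟨u, hu, huv⟩ := mem_autInducedBy_iff.1 (hnorm _ (conjAut_mem ⟨t, ht⟩))
      refine mem_extender_iff.2 ⟨ht.1, ht.2, u, hu, fun x hx => ?_⟩
      have h1 := huv (a' x)
      rw [← MulAut.mul_apply, inv_mul_cancel_right, MulAut.mul_apply] at h1
      exact h1
    obtain ⟨φ, hφ, hφv⟩ := exists_extension
      (IsSaturated.receptive hTp hEs (IsSaturated.fullyCentralized hTp hEs hQfn)) hea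
      (le_normalizerIn hQT) hext'
    have hQN : Q ≤ normalizerIn T Q := le_normalizerIn hQT
    have hNT : normalizerIn T Q ≤ T := normalizerIn_le Q
    have hNV : normalizerIn T Q ≤ V := hNT.trans hT.1
    have := finite_le hNV
    have := finite_le hQn.1
    have := finite_mulAut_of_le (S := V) hNV
    have hφQ : ∀ x : normalizerIn T Q, (x : Ω) ∈ Q → φ x ∈ Q := fun x hx => by
      rw [show x = Subgroup.inclusion hQN ⟨(x : Ω), hx⟩ from rfl, hφv]
      exact SetLike.coe_mem _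
    obtain ⟨η, hη, hηv⟩ := exists_iso hφ (Q := normalizerIn T Q) (by
      refine Subgroup.eq_of_le_of_card_ge ?_
        (Nat.card_congr (MonoidHom.ofInjective (E.injective_of_mem hφ)).toEquiv).le
      rintro _ ⟨x, rfl⟩
      exact ⟨hom_apply_mem hφ x,
        Family.apply_mem_normalizer (E.injective_of_mem hφ) hQN hφQ rfl x x.2.2⟩)
    have hηE : (η : MulAut _) ∈ E.autGroup (normalizerIn T Q) :=
      (mem_autGroup_iff_isoIn hNT).2 hη
    have hcard : Nat.card Q < Nat.card (normalizerIn T Q) :=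
      Family.lt_card (lt_normalizerIn hTp hlt)
    have hNc : TCentric G T (normalizerIn T Q) := hQc.mono hQN hNT
    have hind : E.autGroup (normalizerIn T Q) ≤ lGroup G (normalizerIn T Q) := by
      have h1 := Subgroup.card_le_of_le hNT
      have h2 := isConj_card hRQ
      exact ih (Nat.card T - Nat.card (normalizerIn T Q)) (by omega) _ le_rfl hNc
    obtain ⟨b, c, hbz, hcz, hbc, hb, i, hi⟩ := exists_split (p := p) (η : MulAut _)
    have hstab : ∀ γ ∈ Subgroup.zpowers (η : MulAut _), ∀ x : normalizerIn T Q,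
        (x : Ω) ∈ Q → ((γ x : normalizerIn T Q) : Ω) ∈ Q := by
      intro γ hγ
      obtain ⟨n, rfl⟩ := mem_powers_iff_mem_zpowers.2 hγ
      intro x hx
      show ((((η : MulAut _) ^ n) x : normalizerIn T Q) : Ω) ∈ Q
      induction n with
      | zero => exact hx
      | succ n ihn =>
          rw [pow_succ', MulAut.mul_apply, hηv]
          exact hφQ _ (ihn (Subgroup.npow_mem_zpowers _ n))
    have hmem : ∀ γ ∈ Subgroup.zpowers (η : MulAut _), γ ∈ E.autGroup (normalizerIn T Q) :=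
      fun γ hγ => (Subgroup.zpowers_le.2 hηE) hγ
    obtain ⟨b', hb'E, hb'v⟩ := exists_restrict_aut hNT hQN (hmem b hbz) (hstab b hbz)
    obtain ⟨c', hc'E, hc'v⟩ := exists_restrict_aut hNT hQN (hmem c hcz) (hstab c hcz)
    have hb'L : b' ∈ lGroup G Q := by
      refine down_fn hV hG hT hQn (fullyCentralized_normalizerIn hV hG hT hQn hQT) hQN hNT
        inf_le_right hc (E.autGroup (normalizerIn T Q)) (fun β hβ α hα => ?_) (fun v hv α hα hαv => ?_)
        (hmem b hbz) hb (hind (hmem b hbz)) (hstab b hbz) fun x => (hb'v x x.2).symm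
      · rw [← congr_self]
        exact invariant_congr hEi hNT ((mem_autGroup_iff_isoIn hNV).1 hβ) hα
      · have hfix : ∀ x : normalizerIn T Q, (x : Ω) ∈ Q → α x = x := fun x hx =>
          Subtype.ext (by rw [hαv, ← (mem_centralizerIn.1 hv).2 _ hx, mul_inv_cancel_right])
        obtain ⟨s, hs, hsv⟩ := exists_conj_of_fix hTp hEs hQfn hQN le_rfl
          (hc.trans (hQN.trans Subgroup.le_normalizer)) hα hfix
          (shift_of_fix hNT inf_le_right hQN hc hfix)
        exact ⟨s, hc hs, hs.2, fun x => (hαv x).symm.trans (hsv x)⟩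
    have hc'L : c' ∈ lGroup G Q := hpel c' hc'E ⟨i, restrict_pow_eq_one hQN hc'v hi⟩
    have : a' = b' * c' := MulEquiv.ext fun x => Subtype.ext (by
      have h1 : ((η (Subgroup.inclusion hQN x) : normalizerIn T Q) : Ω) = ((a' x : Q) : Ω) :=
        (hηv _).trans (hφv x)
      rw [← h1, show (η : MulAut _) (Subgroup.inclusion hQN x) =
          b (c (Subgroup.inclusion hQN x)) from by rw [hbc]; rfl,
        show c (Subgroup.inclusion hQN x) = Subgroup.inclusion hQN (c' x) from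
          Subtype.ext (hc'v x x.2)]
      exact hb'v _ (c' x).2)
    rw [this]
    exact mul_mem hb'L hc'L

/-- A saturated invariant system whose top automorphisms lift is normal. -/
theorem isNormalIn_of_lift [Fact p.Prime] {V T : Subgroup Ω} [Finite V] {G : FusionSystem V}
    {D : FusionSystem T} (hDs : D.IsSaturated p) (hG : G.IsSaturated p) (hi : D.IsInvariantIn G)
    (hl : ∀ α ∈ D.autGroup T, α ∈ lGroup G T) : D.IsNormalIn G p := by
  refine ⟨⟨hDs, hG, hi⟩, fun α hα => ?_⟩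
  have hT := hi.2.1
  obtain ⟨x, hx, hxv⟩ := liftable_of_mem_lGroup
    (Q := T) ⟨hT.1, fun Q hQ => by
      obtain ⟨φ, hφ, hr⟩ := hQ
      rw [← hr, (StronglyClosed.weaklyClosed hT).2 φ hφ]⟩ (hl α hα)
  refine ⟨x, hx.1, fun t => hxv t t.2, fun c hc => ?_⟩
  have h1 := hx.2.2 c hc
  rw [Subgroup.coe_mul, Subgroup.coe_inv] at h1
  refine ⟨h1, (mem_centralizerIn.1 (Subgroup.mul_mem (centralizerIn V T) (Subgroup.inv_mem _ hc)
    (hx.apply_centralizer hT.1 c hc))).2⟩

namespace Data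

variable {T₁ T₂ : Subgroup Ω} {E₁ : FusionSystem T₁} {E₂ : FusionSystem T₂}
  [Fact p.Prime] [Finite S] [Finite T₁] [Finite T₂] (h : Data p F E₁ E₂)
include h

theorem meetFamily : Family.AutFamily p F (T₁ ⊓ T₂) (meetAut p F E₁ E₂) where
  pgroup := h.pgroup
  sat := h.sat
  tclosed := h.tclosed
  le := h.meetAut_le
  induced := h.induced_le
  congr := fun hR he _ ha => h.meetAut_congr hR he ha
  sylow := fun hQ hn => h.meetAut_sylow hQ hn
  down := fun hP hn η hη a hPN hav =>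
    h.meetAut_down (fun hQ hn => h.meetAut_sylow hQ hn) hP hn hη a hPN hav
  up := fun hP hn hPM hM b hb hord hbM => h.meetAut_up hP hn hPM hM hb hord hbM

theorem tCentric_top : TCentric F (T₁ ⊓ T₂) (T₁ ⊓ T₂) := by
  refine ⟨le_rfl, fun Q hQ => ?_⟩
  obtain ⟨φ, hφ, rfl⟩ := hQ
  rw [(StronglyClosed.weaklyClosed h.tclosed).2 φ hφ]
  exact inf_le_left

/-- The automorphisms of a subsystem normal in all three systems are in the family. -/
theorem autGroup_le {D' : FusionSystem (T₁ ⊓ T₂)} (hF : D'.IsNormalIn F p)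
    (h₁ : D'.IsNormalIn E₁ p) (h₂ : D'.IsNormalIn E₂ p) {R : Subgroup Ω}
    (hR : TCentric F (T₁ ⊓ T₂) R) : D'.autGroup R ≤ meetAut p F E₁ E₂ R := by
  classical
  intro a ha
  have := finite_mulAut_of_le (S := S) (hR.le.trans h.tclosed.1)
  obtain ⟨b, c, hbz, hcz, rfl, hb, i, hi⟩ := exists_split (p := p) a
  have hbD := (Subgroup.zpowers_le.2 ha) hbz
  have hcD := (Subgroup.zpowers_le.2 ha) hcz
  have hsub₁ : E₁.IsSubsystemOf F := h.normal₁.1.2.2.1
  have hsub₂ : E₂.IsSubsystemOf F := h.normal₂.1.2.2.1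
  have hR₁ : TCentric E₁ (T₁ ⊓ T₂) R :=
    ⟨hR.le, fun Q ⟨φ, hφ, hr⟩ => hR.2 Q ⟨φ, hsub₁ R hφ, hr⟩⟩
  have hR₂ : TCentric E₂ (T₁ ⊓ T₂) R :=
    ⟨hR.le, fun Q ⟨φ, hφ, hr⟩ => hR.2 Q ⟨φ, hsub₂ R hφ, hr⟩⟩
  refine mul_mem (Subgroup.subset_closure (Or.inr ⟨⟨normal_le_lGroup h.pgroup hF hR hbD,
    normal_le_lGroup (h.pgroup.to_le h.tclosed₁.1) h₁ hR₁ hbD,
    normal_le_lGroup (h.pgroup.to_le h.tclosed₂.1) h₂ hR₂ hbD⟩, hb⟩))
    (Subgroup.subset_closure (Or.inl ?_))
  obtain ⟨Q, hRQ, hQn⟩ := exists_fullyNormalized (F := F) (hR.le.trans h.tclosed.1)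
  obtain ⟨e, he⟩ := isConj_iff.1 hRQ
  have hQ := hR.conj h.tclosed hRQ
  obtain ⟨k, hk, hkc⟩ := exists_conj_autInducedBy h.pgroup h.sat hF.1.1 h.tclosed hF.1.2.2.1
    hQ.le hQn (invariant_congr hF.1.2.2 hR.le he hcD) ⟨i, by rw [← map_pow, hi, map_one]⟩
  have hkF : IsoIn F ((k⁻¹ : MulAut Q) : Q ≃* Q) :=
    hF.1.2.2.1 Q ((mem_autGroup_iff hQ.le).1 (Subgroup.inv_mem _ hk))
  have hmv : Moved F (T₁ ⊓ T₂) (MulAut.congr e c) :=
    ⟨Q, _, hkF, hQ.le, _, hkc, by rw [congr_self]; group⟩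
  have := hmv.congr he.symm
  rwa [congr_symm_congr'] at this

/-- The greatest subsystem over the intersection normal in all three systems. -/
theorem exists_meet : ∃ D : FusionSystem (T₁ ⊓ T₂),
    (D.IsNormalIn F p ∧ D.IsNormalIn E₁ p ∧ D.IsNormalIn E₂ p) ∧
      ∀ D' : FusionSystem (T₁ ⊓ T₂), D'.IsNormalIn F p → D'.IsNormalIn E₁ p →
        D'.IsNormalIn E₂ p → D'.IsSubsystemOf D := by
  classical
  obtain ⟨D, hDs, hDi, hDA, hDle⟩ := h.meetFamily.exists_system
  have hT : ∀ α ∈ D.autGroup (T₁ ⊓ T₂), α ∈ liftAll F E₁ E₂ (T₁ ⊓ T₂) := fun α hα =>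
    h.meetAut_le_liftAll h.tCentric_top ((hDA _ h.tCentric_top).le hα)
  have hD₁ : D.IsInvariantIn E₁ := invariant_inherit h.pgroup h.normal₁.1.1 h.normal₁.1.2.2.1 hDi
    (hDle E₁ inf_le_left fun R hR a ha => lGroup_le R (h.meetAut_le_liftAll hR ha).2.1)
  have hD₂ : D.IsInvariantIn E₂ := invariant_inherit h.pgroup h.normal₂.1.1 h.normal₂.1.2.2.1 hDi
    (hDle E₂ inf_le_right fun R hR a ha => lGroup_le R (h.meetAut_le_liftAll hR ha).2.2)
  refine ⟨D, ⟨isNormalIn_of_lift hDs h.sat hDi fun α hα => (hT α hα).1,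
    isNormalIn_of_lift hDs h.normal₁.1.1 hD₁ fun α hα => (hT α hα).2.1,
    isNormalIn_of_lift hDs h.normal₂.1.1 hD₂ fun α hα => (hT α hα).2.2⟩, fun D' hF' h₁' h₂' => ?_⟩
  have hTS := h.tclosed.1
  have := finite_le hTS
  have key : ∀ R : Subgroup Ω, TCentric F (T₁ ⊓ T₂) R → D'.autGroup R ≤ D.autGroup R :=
    fun R hR => (h.autGroup_le hF' h₁' h₂' hR).trans (hDA R hR).ge
  exact alperin_gen (h.pgroup.to_le hTS) hF'.1.1 D (key _ h.tCentric_top) fun P _ hess _ =>
    (key P (tCentric_of_centric hF'.1.2.2 hess.1)).trans le_sup_left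

end Data

end CfsgLib.Fusion.Meet
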