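import Cfsg.Agent.Lib.Fusion.Product
import Cfsg.Agent.Lib.Fusion.Centric

/-!
# Saturation of product systems
-/

set_option autoImplicit false

namespace CfsgLib.Fusion

open Cfsg Cfsg.FusionSystem

variable {Ω₁ Ω₂ : Type*} [Group Ω₁] [Group Ω₂] {S₁ : Subgroup Ω₁} {S₂ : Subgroup Ω₂} {p : ℕ}

theorem projL_le {P : Subgroup (Ω₁ × Ω₂)} (hP : P ≤ S₁.prod S₂) : projL P ≤ S₁ := by
  rintro _ ⟨x, hx, rfl⟩; exact (hP hx).1

theorem projR_le {P : Subgroup (Ω₁ × Ω₂)} (hP : P ≤ S₁.prod S₂) : projR P ≤ S₂ := by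
  rintro _ ⟨x, hx, rfl⟩; exact (hP hx).2

theorem proj_normalizer {Ω : Type*} [Group Ω] {P : Subgroup (Ω₁ × Ω₂)} (f : Ω₁ × Ω₂ →* Ω)
    {g : Ω₁ × Ω₂} (hg : g ∈ Subgroup.normalizer (P : Set (Ω₁ × Ω₂))) :
    f g ∈ Subgroup.normalizer ((P.map f : Subgroup Ω) : Set Ω) := by
  refine Subgroup.mem_normalizer_iff.2 fun y => ⟨?_, fun h => ?_⟩
  · rintro ⟨x, hx, rfl⟩
    exact ⟨g * x * g⁻¹, conj_mem_of_mem_normalizer hg hx, by simp⟩
  · obtain ⟨x, hx, hxy⟩ := h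
    refine ⟨g⁻¹ * x * g, ?_, ?_⟩
    · simpa using conj_mem_of_mem_normalizer (inv_mem hg) hx
    · rw [map_mul, map_mul, map_inv, hxy]; group

theorem prod_receptive {F₁ : FusionSystem S₁} {F₂ : FusionSystem S₂}
    {Q : Subgroup (Ω₁ × Ω₂)} (hQ : Q ≤ S₁.prod S₂) (h₁ : F₁.IsReceptive (projL Q))
    (h₂ : F₂.IsReceptive (projR Q)) : (prodSystem F₁ F₂).IsReceptive Q := by
  refine ⟨hQ, ?_⟩
  rintro R _ ⟨hR, a, ha, b, hb, rfl⟩ hr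
  obtain ⟨a', ha', haa⟩ := h₁.2 _ a ha ((projL_range a b).symm.trans (congrArg projL hr))
  obtain ⟨b', hb', hbb⟩ := h₂.2 _ b hb ((projR_range a b).symm.trans (congrArg projR hr))
  set N := extender (S₁.prod S₂) R (pairHom a b)
  have hNS : N ≤ S₁.prod S₂ := (Subgroup.closure_le _).2 fun x hx => hx.1
  have hN₁ : projL N ≤ extender S₁ (projL R) a := by
    rintro _ ⟨g, hg, rfl⟩
    obtain ⟨hgS, hgn, h, hh, hv⟩ := mem_extender_iff.1 hg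
    refine mem_extender_iff.2 ⟨hgS.1, proj_normalizer _ hgn, h.1, hh.1, ?_⟩
    rintro ⟨_, x, hx, rfl⟩ hx'
    exact congrArg Prod.fst (hv ⟨x, hx⟩ (conj_mem_of_mem_normalizer hgn hx))
  have hN₂ : projR N ≤ extender S₂ (projR R) b := by
    rintro _ ⟨g, hg, rfl⟩
    obtain ⟨hgS, hgn, h, hh, hv⟩ := mem_extender_iff.1 hg
    refine mem_extender_iff.2 ⟨hgS.2, proj_normalizer _ hgn, h.2, hh.2, ?_⟩
    rintro ⟨_, x, hx, rfl⟩ hx'
    exact congrArg Prod.snd (hv ⟨x, hx⟩ (conj_mem_of_mem_normalizer hgn hx))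
  refine ⟨pairHom (a'.comp (Subgroup.inclusion hN₁)) (b'.comp (Subgroup.inclusion hN₂)),
    ⟨hNS, _, restrict_mem ha' hN₁, _, restrict_mem hb' hN₂, rfl⟩, fun x hx hN => ?_⟩
  exact Prod.ext (haa _ _ _) (hbb _ _ _)

theorem prod_saturated [Fact p.Prime] [Finite S₁] [Finite S₂] (hp₁ : IsPGroup p S₁)
    (hp₂ : IsPGroup p S₂) {F₁ : FusionSystem S₁} {F₂ : FusionSystem S₂}
    (hF₁ : F₁.IsSaturated p) (hF₂ : F₂.IsSaturated p) :
    (prodSystem F₁ F₂).IsSaturated p := by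
  have hfin : Finite (S₁.prod S₂) := Finite.of_equiv _ (Subgroup.prodEquiv S₁ S₂).symm.toEquiv
  have hp : IsPGroup p (S₁.prod S₂) := by
    obtain ⟨m, hm⟩ := hp₁.exists_card_eq
    obtain ⟨n, hn⟩ := hp₂.exists_card_eq
    exact IsPGroup.of_card (n := m + n) (by
      rw [Nat.card_congr (Subgroup.prodEquiv S₁ S₂).toEquiv, Nat.card_prod, hm, hn, pow_add])
  intro P hP
  obtain ⟨Q₁, hc₁, hA₁, hR₁, -⟩ := IsSaturated.exists_rep hp₁ hF₁ (projL_le hP)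
  obtain ⟨Q₂, hc₂, hA₂, hR₂, -⟩ := IsSaturated.exists_rep hp₂ hF₂ (projR_le hP)
  obtain ⟨a₀, ha₀, rfl⟩ := hc₁
  obtain ⟨b₀, hb₀, rfl⟩ := hc₂
  have hφ₀ : pairHom a₀ b₀ ∈ (prodSystem F₁ F₂).Hom P := ⟨hP, a₀, ha₀, b₀, hb₀, rfl⟩
  rw [← projL_range a₀ b₀] at hA₁ hR₁
  rw [← projR_range a₀ b₀] at hA₂ hR₂
  set Q₀ := (pairHom a₀ b₀).range with hQ₀def
  have hQ₀ : Q₀ ≤ S₁.prod S₂ := hom_range_le hφ₀
  have hQ₁ := projL_le hQ₀
  have hQ₂ := projR_le hQ₀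
  have := finite_mulAut_of_le (S := S₁.prod S₂) hQ₀
  have := finite_mulAut_of_le (S := S₁) hQ₁
  have := finite_mulAut_of_le (S := S₂) hQ₂
  set A := (prodSystem F₁ F₂).autGroup Q₀ with hAdef
  have hex : ∀ γ : A, ∃ a : MulAut (projL Q₀), a ∈ F₁.autGroup (projL Q₀) ∧
      ∃ b : MulAut (projR Q₀), b ∈ F₂.autGroup (projR Q₀) ∧
      ∀ x : Q₀, toProjL Q₀ ((γ : MulAut Q₀) x) = a (toProjL Q₀ x) ∧
        toProjR Q₀ ((γ : MulAut Q₀) x) = b (toProjR Q₀ x) := by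
    intro γ
    obtain ⟨-, a, ha, b, hb, hab⟩ := (mem_autGroup_iff hQ₀).1 γ.2
    have hr : (pairHom a b).range = Q₀ := hab ▸ isoHom_range ((γ : MulAut Q₀) : Q₀ ≃* Q₀)
    obtain ⟨a', ha', hav⟩ := exists_iso ha ((projL_range a b).symm.trans (congrArg projL hr))
    obtain ⟨b', hb', hbv⟩ := exists_iso hb ((projR_range a b).symm.trans (congrArg projR hr))
    refine ⟨a', (mem_autGroup_iff_isoIn hQ₁).2 ha', b', (mem_autGroup_iff_isoIn hQ₂).2 hb',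
      fun x => ⟨Subtype.ext ?_, Subtype.ext ?_⟩⟩
    · exact (congrArg Prod.fst (DFunLike.congr_fun hab x)).trans (hav _).symm
    · exact (congrArg Prod.snd (DFunLike.congr_fun hab x)).trans (hbv _).symm
  choose π₁ hπ₁ π₂ hπ₂ hπ using hex
  have hs₁ : Function.Surjective (toProjL Q₀) := fun ⟨_, x, hx, h⟩ => ⟨⟨x, hx⟩, Subtype.ext h⟩
  have hs₂ : Function.Surjective (toProjR Q₀) := fun ⟨_, x, hx, h⟩ => ⟨⟨x, hx⟩, Subtype.ext h⟩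
  let f₁ : A →* MulAut (projL Q₀) := MonoidHom.mk' π₁ fun γ δ => MulEquiv.ext fun y => by
    obtain ⟨x, rfl⟩ := hs₁ y
    rw [MulAut.mul_apply, ← (hπ (γ * δ) x).1, ← (hπ δ x).1, ← (hπ γ _).1]
    rfl
  let f₂ : A →* MulAut (projR Q₀) := MonoidHom.mk' π₂ fun γ δ => MulEquiv.ext fun y => by
    obtain ⟨x, rfl⟩ := hs₂ y
    rw [MulAut.mul_apply, ← (hπ (γ * δ) x).2, ← (hπ δ x).2, ← (hπ γ _).2]
    rfl
  let R : Sylow p A := default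
  obtain ⟨α, hα, hαc⟩ := IsSylowIn.exists_conj_mem hA₁.2
    (show (R : Subgroup A).map f₁ ≤ F₁.autGroup (projL Q₀) by
      rintro _ ⟨γ, -, rfl⟩; exact hπ₁ γ) (R.isPGroup'.map _)
  obtain ⟨β, hβ, hβc⟩ := IsSylowIn.exists_conj_mem hA₂.2
    (show (R : Subgroup A).map f₂ ≤ F₂.autGroup (projR Q₀) by
      rintro _ ⟨γ, -, rfl⟩; exact hπ₂ γ) (R.isPGroup'.map _)
  set c₁ : projL Q₀ →* Ω₁ := (projL Q₀).subtype.comp α.toMonoidHom
  set c₂ : projR Q₀ →* Ω₂ := (projR Q₀).subtype.comp β.toMonoidHom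
  have hc : pairHom c₁ c₂ ∈ (prodSystem F₁ F₂).Hom Q₀ :=
    ⟨hQ₀, c₁, (mem_autGroup_iff hQ₁).1 hα, c₂, (mem_autGroup_iff hQ₂).1 hβ, rfl⟩
  set Q := (pairHom c₁ c₂).range with hQdef
  obtain ⟨e, he, hev⟩ := exists_iso hc hQdef.symm
  have hQS : Q ≤ S₁.prod S₂ := hom_range_le hc
  have hL : projL Q = projL Q₀ := (projL_range c₁ c₂).trans (isoHom_range (α : projL Q₀ ≃* projL Q₀))
  have hR : projR Q = projR Q₀ := (projR_range c₁ c₂).trans (isoHom_range (β : projR Q₀ ≃* projR Q₀))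
  refine ⟨Q, isConj_trans ⟨_, hφ₀, rfl⟩ ⟨_, hc, rfl⟩, ?_,
    prod_receptive hQS (hL.symm ▸ hR₁) (hR.symm ▸ hR₂)⟩
  have := finite_mulAut_of_le (S := S₁.prod S₂) hQS
  rw [isFullyAutomized_iff hQS]
  refine le_antisymm (Nat.le_of_dvd (pow_pos (Fact.out : p.Prime).pos _)
    (card_le_sylowPart (autInducedBy_le_autGroup hQS) (isPGroup_autInducedBy hp))) ?_
  rw [← card_autGroup_congr (isoIn_refl hQ₀ |>.trans he).isConj, ← R.card_eq_multiplicity,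
    ← Subgroup.card_map_of_injective (K := (R : Subgroup A))
      (f := (MulAut.congr e).toMonoidHom.comp A.subtype)
      ((MulAut.congr e).injective.comp A.subtype_injective)]
  refine Subgroup.card_le_of_le ?_
  rintro _ ⟨γ, hγ, rfl⟩
  obtain ⟨s₁, hs₁', h₁⟩ := mem_autInducedBy_iff.1 (hαc _ ⟨γ, hγ, rfl⟩)
  obtain ⟨s₂, hs₂', h₂⟩ := mem_autInducedBy_iff.1 (hβc _ ⟨γ, hγ, rfl⟩)
  refine mem_autInducedBy_iff.2 ⟨(s₁, s₂), ⟨hs₁', hs₂'⟩, fun y => ?_⟩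
  obtain ⟨x, rfl⟩ := e.surjective y
  have hcomp : ((MulAut.congr e).toMonoidHom.comp A.subtype) γ (e x) = e ((γ : MulAut Q₀) x) := by
    simp [MulAut.congr]
  rw [hcomp, hev, hev]
  refine Prod.ext ?_ ?_
  · show ((α (toProjL Q₀ ((γ : MulAut Q₀) x)) : projL Q₀) : Ω₁) =
      s₁ * ((α (toProjL Q₀ x) : projL Q₀) : Ω₁) * s₁⁻¹
    rw [← h₁ (α (toProjL Q₀ x)), (hπ γ x).1]
    simp [f₁]
  · show ((β (toProjR Q₀ ((γ : MulAut Q₀) x)) : projR Q₀) : Ω₂) =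
      s₂ * ((β (toProjR Q₀ x) : projR Q₀) : Ω₂) * s₂⁻¹
    rw [← h₂ (β (toProjR Q₀ x)), (hπ γ x).2]
    simp [f₂]

theorem eq_prodSystem {F₁ : FusionSystem S₁} {F₂ : FusionSystem S₂}
    {E : FusionSystem (S₁.prod S₂)} (hE : FusionSystem.IsProductSystem F₁ F₂ E) :
    E = prodSystem F₁ F₂ := by
  refine fusionSystem_ext fun P => Set.ext fun φ => ?_
  rw [hE P φ]
  exact (prodSystem_isProductSystem F₁ F₂ P φ).symm

end CfsgLib.Fusion
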