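import Cfsg.Agent.Lib.Fusion.ProductSplit
import Cfsg.Agent.Lib.Fusion.ProductSaturated
import Cfsg.Agent.Lib.Fusion.Meet
import Cfsg.Agent.Lib.Fusion.NormalCentralizer

/-!
# Two commuting normal subsystems with central intersection form a normal central product
-/

set_option autoImplicit false
set_option maxHeartbeats 800000
set_option linter.unusedSectionVars false

namespace CfsgLib.Fusion.Central

open Cfsg Cfsg.FusionSystem CfsgLib.Fusion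

universe u

variable {Ω : Type u} [Group Ω] {S T₁ T₂ : Subgroup Ω} {F : FusionSystem S}
  {E₁ : FusionSystem T₁} {E₂ : FusionSystem T₂} {p : ℕ}

/-- The hypotheses. -/
structure CData (p : ℕ) (F : FusionSystem S) (E₁ : FusionSystem T₁) (E₂ : FusionSystem T₂) :
    Prop where
  pgroup : IsPGroup p S
  sat : F.IsSaturated p
  normal₁ : E₁.IsNormalIn F p
  normal₂ : E₂.IsNormalIn F p
  comm : ∀ x ∈ T₁, ∀ y ∈ T₂, x * y = y * x
  cen₁ : T₁ ⊓ T₂ ≤ E₁.center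
  cen₂ : T₁ ⊓ T₂ ≤ E₂.center

/-- Multiplication on two commuting subgroups. -/
def mulHom (hc : ∀ x ∈ T₁, ∀ y ∈ T₂, x * y = y * x) : ↥(T₁.prod T₂) →* Ω :=
  MonoidHom.mk' (fun w => (w : Ω × Ω).1 * (w : Ω × Ω).2) fun a b => by
    show (a : Ω × Ω).1 * (b : Ω × Ω).1 * ((a : Ω × Ω).2 * (b : Ω × Ω).2) = _
    rw [mul_assoc, ← mul_assoc (b : Ω × Ω).1, hc _ b.2.1 _ a.2.2]
    group

theorem mulHom_apply (hc : ∀ x ∈ T₁, ∀ y ∈ T₂, x * y = y * x) (w : ↥(T₁.prod T₂)) :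
    mulHom hc w = (w : Ω × Ω).1 * (w : Ω × Ω).2 := rfl

/-- The maps of the centre's elements are trivial. -/
theorem center_fix {T : Subgroup Ω} [Finite T] {E : FusionSystem T} {z : Ω} (hz : z ∈ E.center)
    {P : Subgroup Ω} {φ : P →* Ω} (hφ : φ ∈ E.Hom P) (hzP : z ∈ P) : φ ⟨z, hzP⟩ = z := by
  obtain ⟨ψ, -, hψP, hψZ⟩ := (center_isCentral (F := E)).2 P φ hφ
  rw [← hψP]
  exact (congrArg ψ (Subtype.ext rfl)).trans (hψZ ⟨z, hz⟩)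

/-- Central products of given systems are unique. -/
theorem centralProduct_unique {U U' : Subgroup Ω} {D : FusionSystem U} {D' : FusionSystem U'}
    (h : IsCentralProductOf E₁ E₂ D) (h' : IsCentralProductOf E₁ E₂ D') :
    U = U' ∧ ∀ P : Subgroup Ω, D.Hom P = D'.Hom P := by
  obtain ⟨D₀, hD₀, Z, θ, -, -, -, hθ1, hθ2, -, -, hr, hiff⟩ := h
  obtain ⟨D₀', hD₀', Z', θ', -, -, -, hθ1', hθ2', -, -, hr', hiff'⟩ := h'
  obtain rfl : D₀ = D₀' := (eq_prodSystem hD₀).trans (eq_prodSystem hD₀').symm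
  obtain rfl : θ = θ' := MonoidHom.ext fun ⟨⟨x, y⟩, hx, hy⟩ => by
    have h1 : ((x, 1) : Ω × Ω) ∈ T₁.prod T₂ := ⟨hx, T₂.one_mem⟩
    have h2 : ((1, y) : Ω × Ω) ∈ T₁.prod T₂ := ⟨T₁.one_mem, hy⟩
    rw [show (⟨(x, y), hx, hy⟩ : T₁.prod T₂) = ⟨(x, 1), h1⟩ * ⟨(1, y), h2⟩ from
      Subtype.ext (Prod.ext (mul_one x).symm (one_mul y).symm), map_mul, map_mul, hθ1, hθ2, hθ1',
      hθ2']
  obtain rfl : U = U' := hr.symm.trans hr'
  exact ⟨rfl, fun P => Set.ext fun φ => (hiff P φ).trans (hiff' P φ).symm⟩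

namespace CData

variable [Fact p.Prime] [Finite S] (h : CData p F E₁ E₂)
include h

theorem swap : CData p F E₂ E₁ :=
  ⟨h.pgroup, h.sat, h.normal₂, h.normal₁, fun x hx y hy => (h.comm y hy x hx).symm,
    by rw [inf_comm]; exact h.cen₂, by rw [inf_comm]; exact h.cen₁⟩

theorem pair : Split.Pair F T₁ T₂ := ⟨h.normal₁.1.2.2.2.1, h.normal₂.1.2.2.2.1, h.comm⟩

theorem finite₁ : Finite T₁ := finite_le h.pair.closed₁.1

theorem finite₂ : Finite T₂ := finite_le h.pair.closed₂.1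

theorem sup_eq_range : (mulHom h.comm).range = T₁ ⊔ T₂ := by
  refine le_antisymm ?_ fun u hu => ?_
  · rintro _ ⟨w, rfl⟩
    exact mul_mem (Subgroup.mem_sup_left w.2.1) (Subgroup.mem_sup_right w.2.2)
  · obtain ⟨x, hx, y, hy, rfl⟩ := h.pair.exists_mul hu
    exact ⟨⟨(x, y), hx, hy⟩, rfl⟩

omit h in
theorem ker_mem (hc : ∀ x ∈ T₁, ∀ y ∈ T₂, x * y = y * x) (w : ↥(T₁.prod T₂)) :
    mulHom hc w = 1 ↔ (w : Ω × Ω) ∈ (mulHom hc).ker.map (T₁.prod T₂).subtype :=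
  ⟨fun hw => ⟨w, hw, rfl⟩, fun ⟨v, hv, hvw⟩ => (Subtype.ext hvw : v = w) ▸ hv⟩

theorem ker_fix {P : Subgroup (Ω × Ω)} {φ : P →* Ω × Ω}
    (hφ : φ ∈ (prodSystem E₁ E₂).Hom P) (w : P)
    (hw : (w : Ω × Ω) ∈ (mulHom h.comm).ker.map (T₁.prod T₂).subtype) : φ w = w := by
  have := h.finite₁
  have := h.finite₂
  obtain ⟨⟨⟨z₁, z₂⟩, hz₁, hz₂⟩, hk, hv⟩ := hw
  have hk' : z₁ * z₂ = 1 := hk
  obtain ⟨hP, a, ha, b, hb, rfl⟩ := hφ
  have hv' : ((z₁, z₂) : Ω × Ω) = w := hv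
  have hm1 : z₁ ∈ T₁ ⊓ T₂ := ⟨hz₁, by
    rw [eq_inv_of_mul_eq_one_left hk']; exact T₂.inv_mem hz₂⟩
  have hm2 : z₂ ∈ T₁ ⊓ T₂ := ⟨by
    rw [eq_inv_of_mul_eq_one_right hk']; exact T₁.inv_mem hz₁, hz₂⟩
  have hL : z₁ ∈ projL P := ⟨_, w.2, congrArg Prod.fst hv'.symm⟩
  have hR : z₂ ∈ projR P := ⟨_, w.2, congrArg Prod.snd hv'.symm⟩
  rw [pairHom_apply, ← hv']
  refine Prod.ext ?_ ?_
  · exact (congrArg a (Subtype.ext (congrArg Prod.fst hv'.symm))).trans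
      (center_fix (h.cen₁ hm1) ha hL)
  · exact (congrArg b (Subtype.ext (congrArg Prod.snd hv'.symm))).trans
      (center_fix (h.cen₂ hm2) hb hR)

theorem prod_pgroup : IsPGroup p ↥(T₁.prod T₂) := by
  have := h.finite₁
  have := h.finite₂
  obtain ⟨m, hm⟩ := (h.pgroup.to_le h.pair.closed₁.1).exists_card_eq
  obtain ⟨n, hn⟩ := (h.pgroup.to_le h.pair.closed₂.1).exists_card_eq
  exact IsPGroup.of_card (n := m + n) (by
    rw [Nat.card_congr (Subgroup.prodEquiv T₁ T₂).toEquiv, Nat.card_prod, hm, hn, pow_add])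

theorem finite_prod : Finite ↥(T₁.prod T₂) := by
  have := h.finite₁
  have := h.finite₂
  exact Finite.of_equiv _ (Subgroup.prodEquiv T₁ T₂).symm.toEquiv

theorem prod_sat : (prodSystem E₁ E₂).IsSaturated p := by
  have := h.finite₁
  have := h.finite₂
  exact prod_saturated (h.pgroup.to_le h.pair.closed₁.1) (h.pgroup.to_le h.pair.closed₂.1)
    h.normal₁.1.1 h.normal₂.1.1

theorem ker_le_center :
    (mulHom h.comm).ker.map (T₁.prod T₂).subtype ≤ (prodSystem E₁ E₂).center := by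
  have := h.finite_prod
  refine le_center ((isCentral_iff h.prod_pgroup h.prod_sat).2
    ⟨Subgroup.map_subtype_le _, fun w hw v ⟨φ, hφ, hv⟩ => ?_⟩)
  rw [← hv]
  exact h.ker_fix hφ ⟨w, _⟩ hw

theorem ker_closed :
    (prodSystem E₁ E₂).StronglyClosed ((mulHom h.comm).ker.map (T₁.prod T₂).subtype) :=
  ⟨Subgroup.map_subtype_le _, fun R hR φ hφ x => by rw [h.ker_fix hφ x (hR x.2)]; exact hR x.2⟩

/-- The central product. -/
def prodC : FusionSystem (T₁ ⊔ T₂) :=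
  have := h.finite_prod
  factorSystem (prodSystem E₁ E₂) h.ker_closed (mulHom h.comm) (ker_mem h.comm) h.sup_eq_range

theorem prodC_isFactor : (prodSystem E₁ E₂).IsFactorSystem
    ((mulHom h.comm).ker.map (T₁.prod T₂).subtype) (mulHom h.comm) h.prodC :=
  ⟨h.ker_closed.1, ker_mem h.comm, h.sup_eq_range, fun _ _ => Iff.rfl⟩

theorem prodC_centralProduct : IsCentralProductOf E₁ E₂ h.prodC := by
  refine ⟨prodSystem E₁ E₂, prodSystem_isProductSystem E₁ E₂, _, _, h.ker_le_center, ?_, ?_,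
    fun x hx => mul_one x, fun y hy => one_mul y, h.prodC_isFactor⟩
  · refine le_bot_iff.1 ?_
    rintro w ⟨⟨v, hv, rfl⟩, h1, h2⟩
    have hv' : (v : Ω × Ω).1 * (v : Ω × Ω).2 = 1 := hv
    rw [show (v : Ω × Ω).2 = 1 from Subgroup.mem_bot.1 h2, mul_one] at hv'
    exact Subgroup.mem_bot.2 (Prod.ext hv' (Subgroup.mem_bot.1 h2))
  · refine le_bot_iff.1 ?_
    rintro w ⟨⟨v, hv, rfl⟩, h1, h2⟩
    have hv' : (v : Ω × Ω).1 * (v : Ω × Ω).2 = 1 := hv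
    rw [show (v : Ω × Ω).1 = 1 from Subgroup.mem_bot.1 h1, one_mul] at hv'
    exact Subgroup.mem_bot.2 (Prod.ext (Subgroup.mem_bot.1 h1) hv')

/-- The maps of the central product, by components. -/
theorem mem_prodC {P : Subgroup Ω} {φ : P →* Ω} :
    φ ∈ h.prodC.Hom P ↔ P ≤ T₁ ⊔ T₂ ∧ ∃ a ∈ E₁.Hom (Split.comp T₁ T₂ P),
      ∃ b ∈ E₂.Hom (Split.comp T₂ T₁ P),
        ∀ (u : P) (x : Split.comp T₁ T₂ P) (y : Split.comp T₂ T₁ P),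
          (u : Ω) = x * y → φ u = a x * b y := by
  have := h.finite_prod
  have hp := h.pair
  have hproj : ∀ {x y : Ω}, x ∈ T₁ → y ∈ T₂ → x * y ∈ P →
      ((x, y) : Ω × Ω) ∈ preimageAlong (mulHom h.comm) P := fun {x y} hx hy hxy =>
    (mem_preimageAlong (x := (⟨(x, y), hx, hy⟩ : ↥(T₁.prod T₂)))).2 hxy
  have hL : projL (preimageAlong (mulHom h.comm) P) ≤ Split.comp T₁ T₂ P := by
    rintro _ ⟨_, ⟨v, hv, rfl⟩, rfl⟩
    exact hp.mem_comp.2 ⟨v.2.1, _, v.2.2, hv⟩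
  have hR : projR (preimageAlong (mulHom h.comm) P) ≤ Split.comp T₂ T₁ P := by
    rintro _ ⟨_, ⟨v, hv, rfl⟩, rfl⟩
    refine hp.swap.mem_comp.2 ⟨v.2.2, _, v.2.1, ?_⟩
    show (v : Ω × Ω).2 * (v : Ω × Ω).1 ∈ P
    rw [← h.comm _ v.2.1 _ v.2.2]
    exact hv
  have hL' : Split.comp T₁ T₂ P ≤ projL (preimageAlong (mulHom h.comm) P) := fun x hx => by
    obtain ⟨hx₁, y, hy, hxy⟩ := hp.mem_comp.1 hx
    exact ⟨(x, y), hproj hx₁ hy hxy, rfl⟩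
  have hR' : Split.comp T₂ T₁ P ≤ projR (preimageAlong (mulHom h.comm) P) := fun y hy => by
    obtain ⟨hy₁, x, hx, hxy⟩ := hp.swap.mem_comp.1 hy
    exact ⟨(x, y), hproj hx hy₁ (by rw [h.comm x hx y hy₁]; exact hxy), rfl⟩
  constructor
  · rintro ⟨hP, φ₀, ⟨hP₀, a, ha, b, hb, rfl⟩, hle, hval, hm, hv⟩
    refine ⟨hP, _, restrict_mem ha hL', _, restrict_mem hb hR', fun u x y huxy => ?_⟩
    have hxy := hproj x.2.1 y.2.1 (huxy ▸ u.2)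
    exact (congrArg φ (Subtype.ext huxy)).trans (hv ⟨_, hxy⟩)
  · rintro ⟨hP, a, ha, b, hb, hv⟩
    refine ⟨hP, pairHom (a.comp (Subgroup.inclusion hL)) (b.comp (Subgroup.inclusion hR)),
      ⟨preimageAlong_le _ _, _, restrict_mem ha hL, _, restrict_mem hb hR, rfl⟩,
      preimageAlong_le _ _,
      fun w => ⟨hom_apply_mem ha _, hom_apply_mem hb _⟩,
      fun w => mem_preimageAlong.1 w.2, fun w => ?_⟩
    exact hv _ (Subgroup.inclusion hL (toProjL _ w)) (Subgroup.inclusion hR (toProjR _ w)) rfl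

theorem exists_comp {P : Subgroup Ω} (hP : P ≤ T₁ ⊔ T₂) (u : P) :
    ∃ (x : Split.comp T₁ T₂ P) (y : Split.comp T₂ T₁ P), (u : Ω) = x * y := by
  obtain ⟨x, hx, y, hy, huxy⟩ := h.pair.exists_mul (hP u.2)
  exact ⟨⟨x, h.pair.mem_comp.2 ⟨hx, y, hy, huxy ▸ u.2⟩⟩,
    ⟨y, h.pair.swap.mem_comp.2 ⟨hy, x, hx, by rw [← h.comm x hx y hy, ← huxy]; exact u.2⟩⟩, huxy⟩

theorem centBy₁ : CentBy F E₁ T₂ := by
  have := h.finite₁
  refine CentCand.centBy h.pgroup h.normal₁ ⟨fun y hy => mem_centralizerIn.2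
      ⟨h.pair.closed₂.1 hy, fun x hx => h.comm x hx y hy⟩,
    fun β hβ y hy => StronglyClosed.apply_mem h.pair.closed₂
      ((mem_autGroup_iff (sup_centralizerIn_le_S h.pair.closed₁.1)).1 hβ) hy,
    fun R hRT hR hRc x hx hord hxa y hy => ?_⟩
  obtain ⟨a, ha, hxa⟩ := hxa
  have hWS := sup_centralizerIn_le_S (S := S) hR.1
  have hyC : (y : Ω) ∈ centralizerIn S R := mem_centralizerIn.2
    ⟨h.pair.closed₂.1 hy, fun r hr => h.comm r (hRT hr) y hy⟩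
  have hv := hx.2.2 y hyC
  have hxy : ((x y : _) : Ω) ∈ T₂ :=
    StronglyClosed.apply_mem h.pair.closed₂ ((mem_autGroup_iff hWS).1 hx.1) hy
  have hv0 : ((y⁻¹ * x y : _) : Ω) ∈ T₁ ⊓ T₂ := ⟨hRT hv, by
    rw [Subgroup.coe_mul, Subgroup.coe_inv]; exact T₂.mul_mem (T₂.inv_mem hy) hxy⟩
  have hfix : x (y⁻¹ * x y) = y⁻¹ * x y := Subtype.ext ((hxa _ hv).trans
    (center_fix (h.cen₁ hv0) ((mem_autGroup_iff hRT).1 ha) hv))
  exact (inv_mul_eq_one.1 (eq_one_of_shift_fixed h.pgroup hWS hord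
    (mul_inv_cancel_left y _).symm hfix)).symm

theorem prodC_sub : h.prodC.IsSubsystemOf F := by
  intro P φ hφ
  obtain ⟨hP, a, ha, b, hb, hv⟩ := h.mem_prodC.1 hφ
  obtain ⟨-, -, -, ψa, hψa, hψaP, hψaT⟩ := h.centBy₁.2 _ ha
  obtain ⟨-, -, -, ψb, hψb, hψbP, hψbT⟩ := h.swap.centBy₁.2 _ hb
  have hle : P ≤ Split.comp T₂ T₁ P ⊔ T₁ := fun u hu => by
    obtain ⟨x, y, hxy⟩ := h.exists_comp hP ⟨u, hu⟩
    rw [show u = (x : Ω) * y from hxy]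
    exact mul_mem (Subgroup.mem_sup_right x.2.1) (Subgroup.mem_sup_left y.2)
  have hval : ∀ (u : P) (x : Split.comp T₁ T₂ P) (y : Split.comp T₂ T₁ P),
      (u : Ω) = x * y → ψb ⟨u, hle u.2⟩ = (x : Ω) * b y := fun u x y huxy => by
    have e1 : ψb (Subgroup.inclusion le_sup_right ⟨(x : Ω), x.2.1⟩) = x := hψbT ⟨_, x.2.1⟩
    rw [← hψbP y, ← e1, ← map_mul]
    exact congrArg ψb (Subtype.ext huxy)
  have hmem : ∀ u : P, ψb ⟨u, hle u.2⟩ ∈ Split.comp T₁ T₂ P ⊔ T₂ := fun u => by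
    obtain ⟨x, y, hxy⟩ := h.exists_comp hP u
    rw [hval u x y hxy]
    exact mul_mem (Subgroup.mem_sup_left x.2) (Subgroup.mem_sup_right (hom_apply_mem hb y))
  refine comp_mem' (restrict_mem hψb hle) hψa hmem fun u => ?_
  obtain ⟨x, y, hxy⟩ := h.exists_comp hP u
  have e2 : ψa (Subgroup.inclusion le_sup_right ⟨b y, hom_apply_mem hb y⟩) = b y :=
    hψaT ⟨_, hom_apply_mem hb y⟩
  rw [hv u x y hxy, ← hψaP x, ← e2, ← map_mul]
  exact congrArg ψa (Subtype.ext (hval u x y hxy).symm)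

theorem prodC_sat : h.prodC.IsSaturated p := by
  have := h.finite_prod
  exact factor_saturated h.prod_pgroup h.prod_sat h.ker_closed h.prodC_isFactor

omit h in
/-- The automorphisms of `T` preserve a strongly closed subgroup. -/
theorem restrict_closed [Fact p.Prime] {T U : Subgroup Ω} (hTS : T ≤ S) (hU : F.StronglyClosed U)
    (hUT : U ≤ T) {α : MulAut T} (hα : α ∈ F.autGroup T) :
    ∃ β ∈ F.autGroup U, ∀ (r : Ω) (hr : r ∈ U),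
      ((α ⟨r, hUT hr⟩ : T) : Ω) = ((β ⟨r, hr⟩ : U) : Ω) :=
  exists_restrict_aut hTS hUT hα fun _ hr =>
    StronglyClosed.apply_mem hU ((mem_autGroup_iff hTS).1 hα) hr

theorem comp_carried {P : Subgroup Ω} {α : MulAut ↥(T₁ ⊔ T₂)} (hα : α ∈ F.autGroup (T₁ ⊔ T₂))
    {α₁ : MulAut T₁}
    (hα₁ : ∀ (r : Ω) (hr : r ∈ T₁),
      ((α ⟨r, Subgroup.mem_sup_left hr⟩ : ↥(T₁ ⊔ T₂)) : Ω) = ((α₁ ⟨r, hr⟩ : T₁) : Ω)) :
    Split.comp T₁ T₂ ((P.subgroupOf (T₁ ⊔ T₂)).map ((T₁ ⊔ T₂).subtype.comp α.toMonoidHom)) ≤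
      ((Split.comp T₁ T₂ P).subgroupOf T₁).map (T₁.subtype.comp α₁.toMonoidHom) := by
  intro x' hx'
  obtain ⟨hx₁, y', hy', u, hu, huv⟩ := h.pair.mem_comp.1 hx'
  refine ⟨α₁⁻¹ ⟨x', hx₁⟩, ?_, ?_⟩
  · set x := α₁⁻¹ ⟨x', hx₁⟩
    set y : ↥(T₁ ⊔ T₂) := α⁻¹ ⟨y', Subgroup.mem_sup_right hy'⟩
    have hy : (y : Ω) ∈ T₂ := StronglyClosed.apply_mem h.pair.closed₂
      ((mem_autGroup_iff h.pair.sup_le).1 (Subgroup.inv_mem _ hα)) hy'
    refine h.pair.mem_comp.2 ⟨x.2, y, hy, ?_⟩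
    have h1 : u = ⟨(x : Ω), Subgroup.mem_sup_left x.2⟩ * y := α.injective (Subtype.ext (by
      rw [map_mul, MulAut.apply_inv_self, Subgroup.coe_mul, hα₁ _ x.2, Subtype.coe_eta,
        MulAut.apply_inv_self]
      exact huv))
    have h2 : (u : Ω) ∈ P := hu
    rw [h1] at h2
    exact h2
  · show ((α₁ (α₁⁻¹ ⟨x', hx₁⟩) : T₁) : Ω) = x'
    rw [MulAut.apply_inv_self]

theorem prodC_autInvariant : AutInvariant h.prodC F := by
  intro P φ hφ α hα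
  obtain ⟨hP, a, ha, b, hb, hv⟩ := h.mem_prodC.1 hφ
  obtain ⟨α₁, hα₁, hα₁v⟩ := restrict_closed (p := p) h.pair.sup_le h.pair.closed₁ le_sup_left hα
  obtain ⟨α₂, hα₂, hα₂v⟩ := restrict_closed (p := p) h.pair.sup_le h.pair.closed₂ le_sup_right hα
  obtain ⟨χ₁, hχ₁, hχ₁v⟩ := autInvariant_of_invariant h.normal₁.1.2.2 _ a ha α₁ hα₁
  obtain ⟨χ₂, hχ₂, hχ₂v⟩ := autInvariant_of_invariant h.normal₂.1.2.2 _ b hb α₂ hα₂
  set P' := (P.subgroupOf (T₁ ⊔ T₂)).map ((T₁ ⊔ T₂).subtype.comp α.toMonoidHom) with hP'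
  have hP'T : P' ≤ T₁ ⊔ T₂ := by rintro _ ⟨x, -, rfl⟩; exact SetLike.coe_mem _
  have hαF := (mem_autGroup_iff h.pair.sup_le).1 hα
  have hle₁ : Split.comp T₁ T₂ P' ≤
      ((Split.comp T₁ T₂ P).subgroupOf T₁).map (T₁.subtype.comp α₁.toMonoidHom) :=
    h.comp_carried hα hα₁v
  have hle₂ : Split.comp T₂ T₁ P' ≤
      ((Split.comp T₂ T₁ P).subgroupOf T₂).map (T₂.subtype.comp α₂.toMonoidHom) := by
    intro y' hy'
    obtain ⟨hy₂, x', hx', hyx⟩ := h.pair.swap.mem_comp.1 hy'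
    obtain ⟨u, hu, huv⟩ := hyx
    set y := α₂⁻¹ ⟨y', hy₂⟩
    set x : ↥(T₁ ⊔ T₂) := α⁻¹ ⟨x', Subgroup.mem_sup_left hx'⟩
    refine ⟨y, h.pair.swap.mem_comp.2 ⟨y.2, x, StronglyClosed.apply_mem h.pair.closed₁
      ((mem_autGroup_iff h.pair.sup_le).1 (Subgroup.inv_mem _ hα)) hx', ?_⟩, ?_⟩
    · have h1 : u = ⟨(y : Ω), Subgroup.mem_sup_right y.2⟩ * x := α.injective (Subtype.ext (by
        rw [map_mul, MulAut.apply_inv_self, Subgroup.coe_mul, hα₂v _ y.2, Subtype.coe_eta,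
          MulAut.apply_inv_self]
        exact huv))
      have h2 : (u : Ω) ∈ P := hu
      rw [h1] at h2
      exact h2
    · show ((α₂ (α₂⁻¹ ⟨y', hy₂⟩) : T₂) : Ω) = y'
      rw [MulAut.apply_inv_self]
  set ψ := topConj α φ hP'T (by
      rintro ⟨_, w, hw, rfl⟩
      rw [show Subgroup.inclusion hP'T ⟨_, ⟨w, hw, rfl⟩⟩ = α w from rfl, MulAut.inv_apply_self]
      exact hw) (hom_apply_mem hφ) with hψ
  refine ⟨ψ, h.mem_prodC.2 ⟨hP'T, _, restrict_mem hχ₁ hle₁, _, restrict_mem hχ₂ hle₂,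
    fun u' x' y' huxy => ?_⟩, fun x hxP hφx h' => ?_⟩
  · obtain ⟨x, hxP, hxv⟩ := hle₁ x'.2
    obtain ⟨y, hyP, hyv⟩ := hle₂ y'.2
    have hu : ((α⁻¹ (Subgroup.inclusion hP'T u') : ↥(T₁ ⊔ T₂)) : Ω) = (x : Ω) * y := by
      rw [show Subgroup.inclusion hP'T u' =
        α (⟨(x : Ω), Subgroup.mem_sup_left x.2⟩ * ⟨(y : Ω), Subgroup.mem_sup_right y.2⟩) from
          Subtype.ext (by
            rw [map_mul, Subgroup.coe_mul, hα₁v _ x.2, hα₂v _ y.2]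
            exact huxy.trans (congrArg₂ (· * ·) hxv.symm hyv.symm)), MulAut.inv_apply_self]
      rfl
    have hax : a ⟨x, hxP⟩ ∈ T₁ := hom_apply_mem ha _
    have hby : b ⟨y, hyP⟩ ∈ T₂ := hom_apply_mem hb _
    rw [hψ, topConj_apply]
    have e1 := hv ⟨_, hu ▸ (show ((α⁻¹ (Subgroup.inclusion hP'T u') : ↥(T₁ ⊔ T₂)) : Ω) ∈ P from by
      obtain ⟨w, hw, hwv⟩ := u'.2
      rw [show Subgroup.inclusion hP'T u' = α w from Subtype.ext hwv.symm, MulAut.inv_apply_self]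
      exact hw)⟩ ⟨x, hxP⟩ ⟨y, hyP⟩ rfl
    refine Eq.trans (congrArg (fun z : ↥(T₁ ⊔ T₂) => ((α z : ↥(T₁ ⊔ T₂)) : Ω))
      (Subtype.ext (((congrArg φ (Subtype.ext hu)).trans e1)) :
        _ = (⟨a ⟨x, hxP⟩, Subgroup.mem_sup_left hax⟩ * ⟨b ⟨y, hyP⟩, Subgroup.mem_sup_right hby⟩ :
          ↥(T₁ ⊔ T₂)))) ?_
    rw [map_mul, Subgroup.coe_mul, hα₁v _ hax, hα₂v _ hby]
    refine congrArg₂ (· * ·) ?_ ?_
    · rw [← hχ₁v x hxP hax ⟨x, hxP, rfl⟩]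
      exact congrArg χ₁ (Subtype.ext hxv)
    · rw [← hχ₂v y hyP hby ⟨y, hyP, rfl⟩]
      exact congrArg χ₂ (Subtype.ext hyv)
  · rw [hψ, topConj_apply]
    refine congrArg (fun z : ↥(T₁ ⊔ T₂) => ((α z : ↥(T₁ ⊔ T₂)) : Ω))
      (Subtype.ext (congrArg φ (Subtype.ext ?_)))
    show ((α⁻¹ (Subgroup.inclusion hP'T ⟨((α x : ↥(T₁ ⊔ T₂)) : Ω), h'⟩) : ↥(T₁ ⊔ T₂)) : Ω) = x
    rw [show Subgroup.inclusion hP'T ⟨((α x : ↥(T₁ ⊔ T₂)) : Ω), h'⟩ = α x from rfl,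
      MulAut.inv_apply_self]

/-- A component of an automorphism of the central product. -/
theorem aut_comp {P : Subgroup Ω} (hP : P ≤ T₁ ⊔ T₂) {c : MulAut P}
    {a : Split.comp T₁ T₂ P →* Ω} (ha : a ∈ E₁.Hom (Split.comp T₁ T₂ P))
    {b : Split.comp T₂ T₁ P →* Ω} (hb : b ∈ E₂.Hom (Split.comp T₂ T₁ P))
    (hv : ∀ (u : P) (x : Split.comp T₁ T₂ P) (y : Split.comp T₂ T₁ P),
      (u : Ω) = x * y → ((c u : P) : Ω) = a x * b y) :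
    ∃ a' ∈ E₁.autGroup (Split.comp T₁ T₂ P),
      ∀ x, ((a' x : Split.comp T₁ T₂ P) : Ω) = a x := by
  have := finite_le ((h.pair.comp_le P).trans h.pair.closed₁.1)
  have hle : a.range ≤ Split.comp T₁ T₂ P := by
    rintro _ ⟨x, rfl⟩
    obtain ⟨hx₁, y, hy, hxy⟩ := h.pair.mem_comp.1 x.2
    have hy' : y ∈ Split.comp T₂ T₁ P :=
      h.pair.swap.mem_comp.2 ⟨hy, x, hx₁, by rw [← h.comm x hx₁ y hy]; exact hxy⟩
    exact h.pair.mem_comp.2 ⟨hom_apply_mem ha x, b ⟨y, hy'⟩, hom_apply_mem hb _,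
      (hv ⟨_, hxy⟩ x ⟨y, hy'⟩ rfl) ▸ (c ⟨_, hxy⟩).2⟩
  obtain ⟨a', ha', hav⟩ := exists_iso ha (Q := Split.comp T₁ T₂ P)
    (Subgroup.eq_of_le_of_card_ge hle
      (Nat.card_congr (MonoidHom.ofInjective (E₁.injective_of_mem ha)).toEquiv).le)
  exact ⟨a', (mem_autGroup_iff_isoIn (h.pair.comp_le P)).2 ha', hav⟩

theorem prodC_norm {P : Subgroup Ω} (hP : P ≤ T₁ ⊔ T₂) {c : MulAut P}
    (hc : c ∈ h.prodC.autGroup P) {β : MulAut P} (hβ : β ∈ F.autGroup P) :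
    β * c * β⁻¹ ∈ h.prodC.autGroup P := by
  have hp := h.pair
  have hPS : P ≤ S := hP.trans hp.sup_le
  obtain ⟨-, a, ha, b, hb, hv⟩ := h.mem_prodC.1 ((mem_autGroup_iff hP).1 hc)
  obtain ⟨a', ha', hav⟩ := h.aut_comp hP ha hb hv
  obtain ⟨b', hb', hbv⟩ := h.swap.aut_comp (T₁ := T₂) (T₂ := T₁) (hP.trans (sup_comm _ _).le)
    (c := c) hb ha fun u y x huyx => by
      refine (hv u x y (by rw [h.comm _ x.2.1 _ y.2.1]; exact huyx)).trans ?_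
      exact h.comm _ (hom_apply_mem ha x) _ (hom_apply_mem hb y)
  obtain ⟨ψ, hψ, hψv⟩ := hp.splitExt h.pgroup h.sat ((mem_autGroup_iff hPS).1 hβ)
  have hHS : Split.hull T₁ T₂ P ≤ S := hom_le hψ
  have := finite_le hHS
  obtain ⟨d, hd, hdv⟩ := exists_iso hψ (Q := Split.hull T₁ T₂ P) (Subgroup.eq_of_le_of_card_ge
    (hp.range_ext_le hψ hψv fun x => (β x).2)
    (Nat.card_congr (MonoidHom.ofInjective (F.injective_of_mem hψ)).toEquiv).le)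
  have hdF : (d : MulAut _) ∈ F.autGroup (Split.hull T₁ T₂ P) :=
    (mem_autGroup_iff_isoIn hHS).2 hd
  obtain ⟨β₁, hβ₁, hβ₁v⟩ := exists_restrict_aut hHS (Split.comp_le_hull P) hdF fun r hr => by
    rw [hdv]
    exact hp.map_comp hψ (Split.le_hull P) (Split.comp_le_hull P) hψv (fun x => (β x).2) hr
  obtain ⟨β₂, hβ₂, hβ₂v⟩ := exists_restrict_aut hHS (Split.comp_swap_le_hull P) hdF fun r hr => by
    rw [hdv]
    exact hp.swap.map_comp hψ (Split.le_hull P) (Split.comp_swap_le_hull P) hψv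
      (fun x => (β x).2) hr
  have hβ₁I : IsoIn F (β₁ : Split.comp T₁ T₂ P ≃* Split.comp T₁ T₂ P) :=
    (mem_autGroup_iff_isoIn ((hp.comp_le P).trans hp.closed₁.1)).1 hβ₁
  have hβ₂I : IsoIn F (β₂ : Split.comp T₂ T₁ P ≃* Split.comp T₂ T₁ P) :=
    (mem_autGroup_iff_isoIn ((hp.swap.comp_le P).trans hp.closed₂.1)).1 hβ₂
  have hA₁ := invariant_congr h.normal₁.1.2.2 (hp.comp_le P) hβ₁I ha'
  have hA₂ := invariant_congr h.normal₂.1.2.2 (hp.swap.comp_le P) hβ₂I hb'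
  rw [Meet.congr_self] at hA₁ hA₂
  have hβv : ∀ (w : P) (x : Split.comp T₁ T₂ P) (y : Split.comp T₂ T₁ P), (w : Ω) = x * y →
      ((β w : P) : Ω) = (β₁ x : Ω) * (β₂ y : Ω) := fun w x y hwxy => by
    have e1 : ψ (Subgroup.inclusion (Split.comp_le_hull P) x) = (β₁ x : Ω) :=
      (hdv _).symm.trans (hβ₁v x x.2)
    have e2 : ψ (Subgroup.inclusion (Split.comp_swap_le_hull P) y) = (β₂ y : Ω) :=
      (hdv _).symm.trans (hβ₂v y y.2)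
    rw [← e1, ← e2, ← map_mul]
    exact (hψv w).symm.trans (congrArg ψ (Subtype.ext hwxy))
  refine (mem_autGroup_iff hP).2 (h.mem_prodC.2 ⟨hP, _, (mem_autGroup_iff (hp.comp_le P)).1 hA₁,
    _, (mem_autGroup_iff (hp.swap.comp_le P)).1 hA₂, fun u x y huxy => ?_⟩)
  set w : P := ⟨((β₁⁻¹ x : Split.comp T₁ T₂ P) : Ω) * ((β₂⁻¹ y : Split.comp T₂ T₁ P) : Ω), by
    obtain ⟨w₀, hw₀⟩ := β.surjective u
    obtain ⟨x₀, y₀, hxy₀⟩ := h.exists_comp hP w₀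
    have h1 := hβv w₀ x₀ y₀ hxy₀
    rw [hw₀, huxy] at h1
    -- the two splittings differ by an element of the intersection
    have hz : (x : Ω)⁻¹ * (β₁ x₀ : Ω) = (y : Ω) * ((β₂ y₀ : Split.comp T₂ T₁ P) : Ω)⁻¹ := by
      rw [inv_mul_eq_iff_eq_mul, ← mul_assoc, h1, mul_inv_cancel_right]
    have hzT : (x : Ω)⁻¹ * (β₁ x₀ : Ω) ∈ T₁ ⊓ T₂ :=
      ⟨T₁.mul_mem (T₁.inv_mem x.2.1) (β₁ x₀).2.1,
        hz ▸ T₂.mul_mem y.2.1 (T₂.inv_mem (β₂ y₀).2.1)⟩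
    have hzc₁ : (x : Ω)⁻¹ * (β₁ x₀ : Ω) ∈ Split.comp T₁ T₂ P := hp.inf_le_comp P hzT
    have hzc₂ : (x : Ω)⁻¹ * (β₁ x₀ : Ω) ∈ Split.comp T₂ T₁ P :=
      hp.swap.inf_le_comp P ⟨hzT.2, hzT.1⟩
    set z₁ : Split.comp T₁ T₂ P := ⟨_, hzc₁⟩
    set z₂ : Split.comp T₂ T₁ P := ⟨_, hzc₂⟩
    have hx : β₁ x₀ = x * z₁ := Subtype.ext (mul_inv_cancel_left _ _).symm
    have hy : y = z₂ * β₂ y₀ := Subtype.ext (by
      rw [Subgroup.coe_mul]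
      show (y : Ω) = (x : Ω)⁻¹ * (β₁ x₀ : Ω) * (β₂ y₀ : Ω)
      rw [hz, inv_mul_cancel_right])
    have hzz : (β₁⁻¹ z₁ : Ω) = (β₂⁻¹ z₂ : Ω) := by
      have e1 := hβ₁v _ (β₁⁻¹ z₁).2
      have e2 := hβ₂v _ (β₂⁻¹ z₂).2
      rw [Subtype.coe_eta, MulAut.apply_inv_self] at e1 e2
      exact congrArg Subtype.val (d.injective (Subtype.ext (e1.trans e2.symm)) :)
    have hx' : x₀ = β₁⁻¹ x * β₁⁻¹ z₁ := by rw [← map_mul, ← hx, MulAut.inv_apply_self]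
    have hy' : β₂⁻¹ y = β₂⁻¹ z₂ * y₀ := by rw [hy, map_mul, MulAut.inv_apply_self]
    rw [hy', Subgroup.coe_mul, ← hzz, ← mul_assoc, ← Subgroup.coe_mul, ← hx', ← hxy₀]
    exact w₀.2⟩ with hwdef
  have hw : β⁻¹ u = w := by
    rw [← MulAut.inv_apply_self P β w]
    refine congrArg (fun z => β⁻¹ z) (Subtype.ext ?_)
    rw [hβv w (β₁⁻¹ x) (β₂⁻¹ y) rfl, MulAut.apply_inv_self, MulAut.apply_inv_self]
    exact huxy
  show ((β (c (β⁻¹ u)) : P) : Ω) = _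
  rw [hw]
  refine hβv (c w) (a' (β₁⁻¹ x)) (b' (β₂⁻¹ y)) ?_
  rw [hav, hbv]
  exact hv w _ _ rfl

theorem prodC_invariant : h.prodC.IsInvariantIn F := by
  have hT := h.pair.stronglyClosed h.pgroup h.sat
  refine ⟨h.prodC_sub, hT, fun P hPT φ hφ α hα => ?_, fun P hP φ hφ => ?_⟩
  · obtain ⟨χ, hχ, hv⟩ := h.prodC_autInvariant P φ hφ α hα
    exact ⟨χ, hχ, fun x hφx hαx => hv ⟨x, hPT x.2⟩ x.2 hφx hαx⟩
  · exact frattini_of_invariant h.pgroup h.sat hT h.prodC_sub h.prodC_autInvariant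
      (fun Q hQ a ha b hb => h.prodC_norm hQ ha hb) (Nat.card ↥(T₁ ⊔ T₂)) P (by omega) hP φ hφ

theorem tCentric_top : TCentric F (T₁ ⊔ T₂) (T₁ ⊔ T₂) := by
  refine ⟨le_rfl, fun Q hQ => ?_⟩
  obtain ⟨φ, hφ, rfl⟩ := hQ
  rw [(StronglyClosed.weaklyClosed (h.pair.stronglyClosed h.pgroup h.sat)).2 φ hφ]
  exact inf_le_left

theorem lift₁ {a : MulAut T₁} (ha : a ∈ E₁.autGroup T₁) :
    ∃ γ ∈ Meet.lGroup F (T₁ ⊔ T₂),
      (∀ x : T₁, ((γ ⟨x, Subgroup.mem_sup_left x.2⟩ : ↥(T₁ ⊔ T₂)) : Ω) = ((a x : T₁) : Ω)) ∧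
      ∀ y : T₂, ((γ ⟨y, Subgroup.mem_sup_right y.2⟩ : ↥(T₁ ⊔ T₂)) : Ω) = y := by
  classical
  have := h.finite₁
  have hp := h.pair
  have hT := hp.stronglyClosed h.pgroup h.sat
  have := finite_mulAut_of_le (S := S) hp.closed₁.1
  obtain ⟨b, c, hbz, hcz, rfl, hb, i, hi⟩ := Meet.exists_split (p := p) a
  have hbE := (Subgroup.zpowers_le.2 ha) hbz
  have hcE := (Subgroup.zpowers_le.2 ha) hcz
  -- the part of `p`-power order
  obtain ⟨γc, hγc, hγc₁, hγc₂⟩ : ∃ γ ∈ Meet.lGroup F (T₁ ⊔ T₂),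
      (∀ x : T₁, ((γ ⟨x, Subgroup.mem_sup_left x.2⟩ : ↥(T₁ ⊔ T₂)) : Ω) = ((c x : T₁) : Ω)) ∧
      ∀ y : T₂, ((γ ⟨y, Subgroup.mem_sup_right y.2⟩ : ↥(T₁ ⊔ T₂)) : Ω) = y := by
    obtain ⟨k, hk, hkc⟩ := exists_conj_autInducedBy h.pgroup h.sat h.normal₁.1.1 hp.closed₁
      h.normal₁.1.2.2.1 le_rfl (fullyNormalized_closed hp.closed₁) hcE ⟨i, hi⟩
    obtain ⟨t, ht, htv⟩ := mem_autInducedBy_iff.1 hkc
    set t' : T₁ := k⁻¹ ⟨t, ht⟩ with ht'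
    have hcv : ∀ x : T₁, c x = t' * x * t'⁻¹ := fun x => by
      have h1 : (k * c * k⁻¹) (k x) = ⟨t, ht⟩ * k x * ⟨t, ht⟩⁻¹ := Subtype.ext (htv _)
      rw [MulAut.mul_apply, MulAut.mul_apply, MulAut.inv_apply_self] at h1
      apply k.injective
      rw [h1, map_mul, map_mul, map_inv, ht', MulAut.apply_inv_self]
    have htS : (t' : Ω) ∈ T₁ ⊔ T₂ := Subgroup.mem_sup_left t'.2
    refine ⟨Subgroup.normalizerMonoidHom _ ⟨t', Subgroup.le_normalizer htS⟩,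
      Meet.induced_mem_lGroup h.pgroup h.sat (fun _ => subset_rfl) hT h.tCentric_top
        (mem_autInducedBy_iff.2 ⟨t', htS, fun x => rfl⟩), fun x => ?_, fun y => ?_⟩
    · rw [hcv]
      rfl
    · show (t' : Ω) * y * (t' : Ω)⁻¹ = y
      rw [h.comm _ t'.2 _ y.2, mul_inv_cancel_right]
  -- the part of order prime to `p`
  obtain ⟨β₀, hβ₀, hβ₀v, hβ₀z⟩ := h.normal₁.2 b hbE
  have hWS := sup_centralizerIn_le_S (S := S) hp.closed₁.1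
  have := finite_mulAut_of_le (S := S) hWS
  obtain ⟨j, hj, hjid⟩ := Meet.exists_pPrime_exponent.{u} (p := p) (N := orderOf β₀)
    (orderOf_pos _).ne'
  have hres0 : ∀ (r : Ω) (hr : r ∈ T₁),
      ((β₀ ⟨r, le_sup_left (b := centralizerIn S T₁) hr⟩ : _) : Ω) = ((b ⟨r, hr⟩ : T₁) : Ω) :=
    fun r hr => hβ₀v ⟨r, hr⟩
  have hres := Meet.restrict_pow le_sup_left hres0 j
  rw [hjid b (Meet.restrict_pow_eq_one le_sup_left hres0 (pow_orderOf_eq_one β₀)) hb] at hres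
  have hβ₀T : TrivAut F T₁ β₀ := ⟨hβ₀, fun r hr => by
      rw [show r = ⟨(r : Ω), le_sup_left (b := centralizerIn S T₁) hr⟩ from rfl, hres0 _ hr]
      exact SetLike.coe_mem _,
    fun c' hc' => (hβ₀z c' hc').1⟩
  have hβT := hβ₀T.pow j
  set β := β₀ ^ j with hβdef
  have hord : ∃ n : ℕ, β ^ n = 1 ∧ n.Coprime p :=
    ⟨_, pow_orderOf_eq_one _, hj β₀ (pow_orderOf_eq_one β₀)⟩
  have hyC : ∀ y : T₂, (y : Ω) ∈ centralizerIn S T₁ := fun y =>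
    mem_centralizerIn.2 ⟨hp.closed₂.1 y.2, fun x hx => h.comm x hx y y.2⟩
  have hfix : ∀ y : T₂, ((β ⟨y, Subgroup.mem_sup_right (hyC y)⟩ : _) : Ω) = y := by
    intro y
    set w : ↥(T₁ ⊔ centralizerIn S T₁) := ⟨y, Subgroup.mem_sup_right (hyC y)⟩ with hw
    have hu := hβT.2.2 w (hyC y)
    have hu2 : ((w⁻¹ * β w : _) : Ω) ∈ T₂ := by
      rw [Subgroup.coe_mul, Subgroup.coe_inv]
      exact T₂.mul_mem (T₂.inv_mem y.2)
        (StronglyClosed.apply_mem hp.closed₂ ((mem_autGroup_iff hWS).1 hβT.1) y.2)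
    have hfu : β (w⁻¹ * β w) = w⁻¹ * β w := Subtype.ext ((hres _ hu).trans
      (center_fix (h.cen₁ ⟨hu, hu2⟩) ((mem_autGroup_iff le_rfl).1 hbE) hu))
    exact congrArg Subtype.val
      (inv_mul_eq_one.1 (eq_one_of_shift_fixed h.pgroup hWS hord
        (mul_inv_cancel_left w _).symm hfu)).symm
  have hCC : centralizerIn S (T₁ ⊔ T₂) ≤ centralizerIn S T₁ := centralizerIn_antitone le_sup_left
  have hle : (T₁ ⊔ T₂) ⊔ centralizerIn S (T₁ ⊔ T₂) ≤ T₁ ⊔ centralizerIn S T₁ :=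
    _root_.sup_le (_root_.sup_le le_sup_left fun y hy => Subgroup.mem_sup_right (hyC ⟨y, hy⟩))
      (hCC.trans le_sup_right)
  have hTW : T₁ ⊔ T₂ ≤ T₁ ⊔ centralizerIn S T₁ := le_sup_left.trans hle
  have hTinv : ∀ w : ↥(T₁ ⊔ centralizerIn S T₁), (w : Ω) ∈ T₁ ⊔ T₂ →
      ((β w : _) : Ω) ∈ T₁ ⊔ T₂ := fun w hw =>
    StronglyClosed.apply_mem hT ((mem_autGroup_iff hWS).1 hβT.1) hw
  obtain ⟨γb, hγb, hγbv⟩ := exists_restrict_aut hWS hTW hβT.1 hTinv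
  obtain ⟨β', hβ', hβ'v⟩ := exists_restrict_aut hWS hle hβT.1 (by
    have hsub : ((T₁ ⊔ T₂) ⊔ centralizerIn S (T₁ ⊔ T₂)).subgroupOf (T₁ ⊔ centralizerIn S T₁) ≤
        (((T₁ ⊔ T₂) ⊔ centralizerIn S (T₁ ⊔ T₂)).subgroupOf (T₁ ⊔ centralizerIn S T₁)).comap
          β.toMonoidHom := by
      rw [Subgroup.subgroupOf_sup hTW (hCC.trans le_sup_right)]
      refine _root_.sup_le (fun w hw => Subgroup.mem_sup_left (hTinv w hw)) fun w hw => ?_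
      have h1 := hβT.2.2 w (hCC hw)
      rw [Subgroup.mem_comap, show β.toMonoidHom w = w * (w⁻¹ * β w) from
        (mul_inv_cancel_left _ _).symm]
      exact mul_mem (Subgroup.mem_sup_right hw)
        (Subgroup.mem_sup_left (Subgroup.mem_sup_left h1))
    exact fun w hw => hsub hw)
  have hγbL : γb ∈ Meet.lGroup F (T₁ ⊔ T₂) := by
    refine Meet.mem_lGroup_of_liftable h.pgroup h.sat
      (IsSaturated.fullyCentralized h.pgroup h.sat (fullyNormalized_closed hT))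
      ⟨β', ⟨hβ', fun r hr => ?_, fun c' hc' => ?_⟩, fun r hr => ?_⟩
    · rw [show r = ⟨(r : Ω), r.2⟩ from rfl, ← hβ'v _ r.2]
      exact hTinv _ hr
    · rw [Subgroup.coe_mul, Subgroup.coe_inv, show c' = ⟨(c' : Ω), c'.2⟩ from rfl, ← hβ'v _ c'.2]
      have h1 := hβT.2.2 ⟨(c' : Ω), hle c'.2⟩ (hCC hc')
      rw [Subgroup.coe_mul, Subgroup.coe_inv] at h1
      exact Subgroup.mem_sup_left h1
    · rw [← hβ'v]
      exact hγbv r hr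
  refine ⟨γb * γc, mul_mem hγbL hγc, fun x => ?_, fun y => ?_⟩
  · rw [MulAut.mul_apply, MulAut.mul_apply,
      show γc ⟨x, _⟩ = ⟨((c x : T₁) : Ω), Subgroup.mem_sup_left (c x).2⟩ from Subtype.ext (hγc₁ x),
      ← hγbv]
    exact hres _ (c x).2
  · rw [MulAut.mul_apply,
      show γc ⟨y, _⟩ = ⟨(y : Ω), Subgroup.mem_sup_right y.2⟩ from Subtype.ext (hγc₂ y), ← hγbv]
    exact hfix y

/-- The central product is normal. -/
theorem prodC_normal : h.prodC.IsNormalIn F p := by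
  have hp := h.pair
  refine Meet.isNormalIn_of_lift h.prodC_sat h.sat h.prodC_invariant fun c hc => ?_
  obtain ⟨-, a, ha, b, hb, hv⟩ := h.mem_prodC.1 ((mem_autGroup_iff le_rfl).1 hc)
  have := finite_le hp.closed₁.1
  have := finite_le hp.closed₂.1
  have h1 : Split.comp T₁ T₂ (T₁ ⊔ T₂) = T₁ := le_antisymm (hp.comp_le _) fun x hx =>
    hp.mem_comp.2 ⟨hx, 1, T₂.one_mem, by rw [mul_one]; exact Subgroup.mem_sup_left hx⟩
  have h2 : Split.comp T₂ T₁ (T₁ ⊔ T₂) = T₂ := le_antisymm (hp.swap.comp_le _) fun y hy =>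
    hp.swap.mem_comp.2 ⟨hy, 1, T₁.one_mem, by rw [mul_one]; exact Subgroup.mem_sup_right hy⟩
  have ha' := restrict_mem ha h1.ge
  obtain ⟨a', hA, hav⟩ := exists_iso ha' (Q := T₁) (Subgroup.eq_of_le_of_card_ge
    (hom_range_le ha') (Nat.card_congr (MonoidHom.ofInjective (E₁.injective_of_mem ha')).toEquiv).le)
  have hb' := restrict_mem hb h2.ge
  obtain ⟨b', hB, hbv⟩ := exists_iso hb' (Q := T₂) (Subgroup.eq_of_le_of_card_ge
    (hom_range_le hb') (Nat.card_congr (MonoidHom.ofInjective (E₂.injective_of_mem hb')).toEquiv).le)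
  obtain ⟨γ₁, hγ₁, hγ₁x, hγ₁y⟩ := h.lift₁ ((mem_autGroup_iff_isoIn le_rfl).2 hA)
  obtain ⟨γ₂, hγ₂, hγ₂y, hγ₂x⟩ : ∃ γ ∈ Meet.lGroup F (T₁ ⊔ T₂),
      (∀ y : T₂, ((γ ⟨y, Subgroup.mem_sup_right y.2⟩ : ↥(T₁ ⊔ T₂)) : Ω) = ((b' y : T₂) : Ω)) ∧
      ∀ x : T₁, ((γ ⟨x, Subgroup.mem_sup_left x.2⟩ : ↥(T₁ ⊔ T₂)) : Ω) = x := by
    obtain ⟨γ, hγ, hγy, hγx⟩ := h.swap.lift₁ ((mem_autGroup_iff_isoIn le_rfl).2 hB)
    have hsup : T₂ ⊔ T₁ = T₁ ⊔ T₂ := sup_comm _ _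
    refine ⟨MulAut.congr (MulEquiv.subgroupCongr hsup) γ,
      Meet.lGroup_congr_in (hom_congr (incl_mem (hsup.le.trans hp.sup_le)) fun x => rfl) hγ,
      fun y => hγy y, fun x => hγx x⟩
  rw [show c = γ₁ * γ₂ from MulEquiv.ext fun w => Subtype.ext ?_]
  · exact mul_mem hγ₁ hγ₂
  obtain ⟨x, hx, y, hy, hwxy⟩ := hp.exists_mul w.2
  rw [show w = ⟨x, Subgroup.mem_sup_left hx⟩ * ⟨y, Subgroup.mem_sup_right hy⟩ from Subtype.ext hwxy,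
    map_mul (γ₁ * γ₂), MulAut.mul_apply, MulAut.mul_apply, Subgroup.coe_mul,
    show γ₂ ⟨x, _⟩ = ⟨x, Subgroup.mem_sup_left hx⟩ from Subtype.ext (hγ₂x ⟨x, hx⟩),
    show γ₂ ⟨y, _⟩ = ⟨((b' ⟨y, hy⟩ : T₂) : Ω), Subgroup.mem_sup_right (b' ⟨y, hy⟩).2⟩ from
      Subtype.ext (hγ₂y ⟨y, hy⟩), hγ₁x ⟨x, hx⟩, hγ₁y (b' ⟨y, hy⟩), hav, hbv]
  exact hv _ ⟨x, h1.ge hx⟩ ⟨y, h2.ge hy⟩ rfl

end CData

end CfsgLib.Fusion.Central
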