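import Cfsg.Agent.Lib.Fusion.Series
import Cfsg.Agent.Lib.Fusion.CenterPowers
import Mathlib.Algebra.Field.ZMod

/-!
Owner: helper11. A `p`-group (`p` odd) whose derived subgroup has order `p` and whose centre has order
`p ^ 2` carries no saturated system with trivial largest normal subgroup.
-/

set_option autoImplicit false
set_option maxHeartbeats 800000

namespace CfsgLib.Fusion.CentralTorus

open Cfsg Cfsg.FusionSystem CfsgLib.Fusion

variable {Ω : Type*} [Group Ω] {S : Subgroup Ω} {F : FusionSystem S} {p : ℕ}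

/-- A group of automorphisms stabilising a short series is a `p`-group. -/
theorem isPGroup_of_chain {P : Type*} [Group P] [Finite P] [Fact p.Prime] (hP : IsPGroup p P)
    {N K : Subgroup P} (W : Subgroup (MulAut P)) (h1 : ∀ β ∈ W, ∀ x ∈ N, β x = x)
    (h2 : ∀ β ∈ W, ∀ x ∈ K, x⁻¹ * β x ∈ N) (h3 : ∀ β ∈ W, ∀ x, x⁻¹ * β x ∈ K) :
    IsPGroup p W := by
  intro β
  obtain ⟨t, ht⟩ := hP.exists_card_eq
  have step : ∀ (γ : MulAut P) (x : P), γ (x⁻¹ * γ x) = x⁻¹ * γ x → (γ ^ p ^ t) x = x := by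
    intro γ x hx
    have hit : ∀ j : ℕ, (γ ^ j) x = x * (x⁻¹ * γ x) ^ j := by
      intro j
      induction j with
      | zero => simp
      | succ j ih =>
        rw [pow_succ', MulAut.mul_apply, ih, map_mul, map_pow, hx, pow_succ', ← mul_assoc,
          mul_inv_cancel_left]
    rw [hit, ← ht, pow_card_eq_one', mul_one]
  have hK : ∀ x ∈ K, ((β : MulAut P) ^ p ^ t) x = x := fun x hx =>
    step _ x (h1 β β.2 _ (h2 β β.2 x hx))
  refine ⟨t + t, Subtype.ext (MulEquiv.ext fun x => ?_)⟩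
  rw [pow_add, pow_mul, SubmonoidClass.coe_pow, SubmonoidClass.coe_pow]
  refine step _ x (hK _ ?_)
  exact h3 ((β : MulAut P) ^ p ^ t) (pow_mem β.2 _) x

/-- The automorphisms in `G` stabilising the series `N ≤ K`. -/
def stab {P : Type*} [Group P] [Finite P] (G : Subgroup (MulAut P)) (N K : Subgroup P)
    (hNK : N ≤ K) : Subgroup (MulAut P) :=
  let M : Submonoid (MulAut P) :=
    { carrier := {β | β ∈ G ∧ (∀ x ∈ N, β x = x) ∧ (∀ x ∈ K, x⁻¹ * β x ∈ N) ∧ ∀ x, x⁻¹ * β x ∈ K}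
      one_mem' := ⟨one_mem G, fun _ _ => rfl, fun x _ => by simp, fun x => by simp⟩
      mul_mem' := by
        rintro β γ ⟨hb, b1, b2, b3⟩ ⟨hc, c1, c2, c3⟩
        refine ⟨mul_mem hb hc, fun x hx => by rw [MulAut.mul_apply, c1 x hx, b1 x hx],
          fun x hx => ?_, fun x => ?_⟩
        · have e : x⁻¹ * (β * γ) x = (x⁻¹ * β x) * β (x⁻¹ * γ x) := by
            rw [MulAut.mul_apply, map_mul, map_inv]; group
          rw [e]
          exact mul_mem (b2 x hx) ((b1 _ (c2 x hx)).symm ▸ c2 x hx)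
        · have e : x⁻¹ * (β * γ) x = (x⁻¹ * β x) * β (x⁻¹ * γ x) := by
            rw [MulAut.mul_apply, map_mul, map_inv]; group
          rw [e]
          refine mul_mem (b3 x) ?_
          have e' : β (x⁻¹ * γ x) = (x⁻¹ * γ x) * ((x⁻¹ * γ x)⁻¹ * β (x⁻¹ * γ x)) := by group
          rw [e']
          exact mul_mem (c3 x) (hNK (b2 _ (c3 x))) }
  { M with
    inv_mem' := fun {β} hβ => by
      have h := (M.pow_mem hβ (orderOf β - 1))
      rwa [← inv_eq_of_mul_eq_one_right (b := β ^ (orderOf β - 1)) (by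
        rw [← pow_succ', Nat.sub_add_cancel (orderOf_pos β), pow_orderOf_eq_one])] at h }

variable [Finite S] [Fact p.Prime]

/-- A `p`-subgroup containing the induced automorphisms of a fully automized subgroup. -/
theorem le_autInducedBy {E : Subgroup Ω} (hE : F.IsFullyAutomized p E)
    (W : Subgroup (MulAut E)) (hW : IsPGroup p W) (hWG : W ≤ F.autGroup E)
    (hAW : autInducedBy S E ≤ W) : W ≤ autInducedBy S E := by
  obtain ⟨R, hR⟩ := hE.2
  intro β hβ
  have h := R.is_maximal' (Q := W.subgroupOf (F.autGroup E)) (isPGroup_subgroupOf hWG hW)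
    (hR ▸ fun x hx => hAW hx)
  have : (⟨β, hWG hβ⟩ : F.autGroup E) ∈ (R : Subgroup (F.autGroup E)) := h.le hβ
  rw [hR] at this
  exact this

variable (F) (p) in
/-- An automorphism of `S` inverting `L` and splitting `Z(S)`. -/
def Good (L : Subgroup Ω) (δ : MulAut S) : Prop :=
  δ ∈ F.autGroup S ∧ (∀ x : S, (x : Ω) ∈ L → δ x = x⁻¹) ∧
    ∀ z : S, (z : Ω) ∈ centerOf S → ∃ c : S, (c : Ω) ∈ centerOf S ∧ δ c = c ∧ ((z * c⁻¹ : S) : Ω) ∈ L

variable (hp2 : p ≠ 2) (hS : IsPGroup p S) (hF : F.IsSaturated p) {L : Subgroup Ω}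
  (hLZ : L ≤ centerOf S) (hLc : Nat.card L = p)

include hS hF in
theorem exists_pow_fix {δ : MulAut S} (hδ : δ ∈ F.autGroup S) :
    ∃ m : ℕ, ¬ p ∣ m ∧ ∀ z : S, (z : Ω) ∈ centerOf S → (δ ^ m) z = z := by
  have := finite_mulAut_of_le (S := S) (le_refl S)
  obtain ⟨R, hR⟩ := IsSaturated.top_autGroup_sylow hS hF
  haveI : (R : Subgroup (F.autGroup S)).Normal := hR ▸ (Cfsg.innNormal ↥S).subgroupOf _
  haveI := Sylow.unique_of_normal R inferInstance
  set A : F.autGroup S := ⟨δ, hδ⟩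
  obtain ⟨k, m, hm, he⟩ := Nat.exists_eq_pow_mul_and_not_dvd (orderOf_pos A).ne' p
    (Fact.out : p.Prime).ne_one
  have hm0 : 0 < m := Nat.pos_of_ne_zero fun h => hm (h ▸ dvd_zero p)
  have hp : IsPGroup p (Subgroup.zpowers (A ^ m)) := by
    refine IsPGroup.of_card (n := k) ?_
    rw [Nat.card_zpowers, orderOf_pow_of_dvd hm0.ne' ⟨p ^ k, by rw [he, mul_comm]⟩, he,
      Nat.mul_div_cancel _ hm0]
  obtain ⟨R', hR'⟩ := hp.exists_le_sylow
  have hmem : (A ^ m : F.autGroup S) ∈ (R : Subgroup (F.autGroup S)) :=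
    (Subsingleton.elim R' R) ▸ hR' (Subgroup.mem_zpowers _)
  rw [hR] at hmem
  obtain ⟨s, hs⟩ := (Subgroup.mem_subgroupOf.1 hmem : ((A ^ m : F.autGroup S) : MulAut S) ∈ Cfsg.Inn S)
  refine ⟨m, hm, fun z hz => ?_⟩
  rw [show δ ^ m = ((A ^ m : F.autGroup S) : MulAut S) from rfl, ← hs]
  apply Subtype.ext
  show (s : Ω) * z * (s : Ω)⁻¹ = z
  rw [centerOf_comm hz s.2, mul_inv_cancel_right]

include hp2 hLZ hLc hS hF in
/-- Two good automorphisms fix the same central elements. -/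
theorem Good.unique {δ₁ δ₂ : MulAut S} (h₁ : Good F L δ₁) (h₂ : Good F L δ₂) {c : S}
    (hc : (c : Ω) ∈ centerOf S) (hfix : δ₁ c = c) : δ₂ c = c := by
  obtain ⟨c', hc', hfix', hl⟩ := h₂.2.2 c hc
  set l := c * c'⁻¹ with hld
  have hlc : c = l * c' := by rw [hld, inv_mul_cancel_right]
  have h1 : δ₂ c = l⁻¹ * c' := by rw [hlc, map_mul, h₂.2.1 l hl, hfix']
  obtain ⟨m, hm, hfm⟩ := exists_pow_fix hS hF (mul_mem h₂.1 h₁.1)
  have hγl : (δ₂ * δ₁) l = l := by
    rw [MulAut.mul_apply, h₁.2.1 l hl, map_inv, h₂.2.1 l hl, inv_inv]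
  have hγc : (δ₂ * δ₁) c = c * l⁻¹ * l⁻¹ := by
    rw [MulAut.mul_apply, hfix, h1]
    have hlcomm : ∀ s : S, s * l = l * s := fun s => Subtype.ext (centerOf_comm (hLZ hl) s.2)
    rw [hlc]
    have : ∀ s : S, s * l⁻¹ = l⁻¹ * s := fun s => ((show Commute s l from hlcomm s).inv_right).eq
    rw [mul_assoc l c' l⁻¹, this c', mul_inv_cancel_left, this c']
  have hpow : ∀ j : ℕ, ((δ₂ * δ₁) ^ j) c = c * (l⁻¹ * l⁻¹) ^ j := by
    intro j
    induction j with
    | zero => simp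
    | succ j ih =>
      rw [pow_succ' (δ₂ * δ₁), MulAut.mul_apply, ih, map_mul (δ₂ * δ₁), map_pow (δ₂ * δ₁),
        map_mul (δ₂ * δ₁), map_inv (δ₂ * δ₁), hγl, hγc, pow_succ' (l⁻¹ * l⁻¹)]
      simp only [mul_assoc]
  have h3 := hfm c hc
  rw [hpow, mul_eq_left] at h3
  have h4 : l ^ (2 * m) = 1 := by
    rw [← inv_eq_one, ← inv_pow, pow_mul, sq]; exact h3
  have h5 : l ^ p = 1 := by
    apply Subtype.ext
    have := pow_card_eq_one' (x := (⟨(l : Ω), hl⟩ : L))
    rw [hLc] at this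
    simpa using congrArg Subtype.val this
  have hl1 : l = 1 := by
    rw [← orderOf_eq_one_iff]
    rcases (Nat.dvd_prime Fact.out).1 (orderOf_dvd_of_pow_eq_one h5) with h | h
    · exact h
    · exfalso
      have hd := orderOf_dvd_of_pow_eq_one h4
      rw [h] at hd
      rcases (Fact.out : p.Prime).dvd_mul.1 hd with h' | h'
      · exact hp2 ((Nat.prime_dvd_prime_iff_eq Fact.out Nat.prime_two).1 h')
      · exact hm h'
  rw [h1, hlc, hl1]
  simp

variable (hcomm : ∀ s ∈ S, ∀ u ∈ S, s * u * s⁻¹ * u⁻¹ ∈ L)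

section essential

variable {E : Subgroup Ω} (hE : F.IsEssential p E)

include hLZ hE in
theorem center_le : centerOf S ≤ E := fun _ hz => (centerOf_le_of_isCentric hE.1 hz).1

include hLZ hE in
theorem L_le : L ≤ E := hLZ.trans (center_le hLZ hE)

include hLZ hcomm hE in
theorem conj_mem_E {s x : Ω} (hs : s ∈ S) (hx : x ∈ E) : s * x * s⁻¹ ∈ E := by
  rw [show s * x * s⁻¹ = (s * x * s⁻¹ * x⁻¹) * x by group]
  exact mul_mem (L_le hLZ hE (hcomm s hs x (hE.1.1 hx))) hx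

include hLZ hcomm hE in
theorem le_normalizer_E : S ≤ Subgroup.normalizer (E : Set Ω) := by
  rw [Subgroup.le_normalizer_iff]
  exact fun s hs x hx => conj_mem_E hLZ hcomm hE hs hx

include hLZ in
theorem induced_fix {a : MulAut E} (ha : a ∈ autInducedBy S E) {x : E}
    (hx : (x : Ω) ∈ centerOf S) : a x = x := by
  obtain ⟨s, hs, h⟩ := mem_autInducedBy_iff.1 ha
  exact Subtype.ext (by rw [h, centerOf_comm hx hs, mul_inv_cancel_right])

include hE hcomm in
theorem induced_comm {a : MulAut E} (ha : a ∈ autInducedBy S E) (x : E) :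
    ((x⁻¹ * a x : E) : Ω) ∈ L := by
  obtain ⟨s, hs, h⟩ := mem_autInducedBy_iff.1 ha
  rw [Subgroup.coe_mul, h, Subgroup.coe_inv]
  have := hcomm (x : Ω)⁻¹ (inv_mem (hE.1.1 x.2)) s hs
  rwa [inv_inv, mul_assoc ((x : Ω)⁻¹ * s), mul_assoc (x : Ω)⁻¹, ← mul_assoc s] at this

include hS hF hLZ hcomm hE in
/-- Conjugates of induced automorphisms by maps sending `L` into the fixed points. -/
theorem conj_mem_induced {g : MulAut E} (hg : g ∈ F.autGroup E)
    (hfix : ∀ a ∈ autInducedBy S E, ∀ x : E, (x : Ω) ∈ L → a (g x) = g x)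
    {a : MulAut E} (ha : a ∈ autInducedBy S E) : g * a * g⁻¹ ∈ autInducedBy S E := by
  have hES := hE.1.1
  have := finite_le hES
  set Le := L.subgroupOf E with hLe
  set N := Le.map g.toMonoidHom with hN
  have hNK : N ≤ Le ⊔ N := le_sup_right
  set W := stab (F.autGroup E) N (Le ⊔ N) hNK with hW
  have hinN : ∀ b ∈ autInducedBy S E, ∀ x : E, x⁻¹ * (g * b * g⁻¹) x ∈ N := by
    intro b hb x
    refine ⟨(g⁻¹ x)⁻¹ * b (g⁻¹ x), induced_comm hcomm hE hb _, ?_⟩
    show g ((g⁻¹ x)⁻¹ * b (g⁻¹ x)) = _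
    rw [map_mul, map_inv, MulAut.apply_inv_self, MulAut.mul_apply, MulAut.mul_apply]
  have hAW : autInducedBy S E ≤ W := by
    intro b hb
    have hK : ∀ x ∈ Le ⊔ N, b x = x := by
      intro x hx
      have hle : Le ⊔ N ≤ MonoidHom.eqLocus b.toMonoidHom (MonoidHom.id E) := by
        refine sup_le (fun y hy => induced_fix hLZ hb (hLZ hy)) ?_
        rintro _ ⟨y, hy, rfl⟩
        exact hfix b hb y hy
      exact hle hx
    refine ⟨autInducedBy_le_autGroup hES hb, fun x hx => hK x (hNK hx), fun x hx => ?_,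
      fun x => le_sup_left (a := Le) (induced_comm hcomm hE hb x)⟩
    rw [hK x hx, inv_mul_cancel]
    exact one_mem _
  have hBW : g * a * g⁻¹ ∈ W := by
    refine ⟨mul_mem (mul_mem hg (autInducedBy_le_autGroup hES ha)) (inv_mem hg), ?_,
      fun x _ => hinN a ha x, fun x => hNK (hinN a ha x)⟩
    rintro _ ⟨y, hy, rfl⟩
    show (g * a * g⁻¹) (g y) = g y
    rw [MulAut.mul_apply, MulAut.mul_apply, MulAut.inv_apply_self, induced_fix hLZ ha (hLZ hy)]
  exact le_autInducedBy (IsSaturated.fullyAutomized hS hF hE.2.1) W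
    (isPGroup_of_chain (hS.to_le hES) W (fun β hβ => hβ.2.1) (fun β hβ => hβ.2.2.1)
      (fun β hβ => hβ.2.2.2)) (fun β hβ => hβ.1) hAW hBW

include hS hF hLZ hcomm hE hLc in
theorem map_L_eq (hne : E ≠ S) {g : MulAut E} (hg : g ∈ F.autGroup E)
    (hfix : ∀ a ∈ autInducedBy S E, ∀ x : E, (x : Ω) ∈ L → a (g x) = g x)
    {x : E} (hx : (x : Ω) ∈ L) : ((g x : E) : Ω) ∈ L := by
  have hES := hE.1.1
  have := finite_le hES
  set Le := L.subgroupOf E with hLe
  set N := Le.map g.toMonoidHom with hN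
  have hcL : Nat.card Le = p := by
    rw [Nat.card_congr (Subgroup.subgroupOfEquivOfLe (L_le hLZ hE)).toEquiv, hLc]
  by_cases hbot : Le ⊓ N = ⊥
  · exfalso
    refine hne (le_antisymm hES fun s hs => ?_)
    set gs : normalizerIn S E := ⟨s, hs, le_normalizer_E hLZ hcomm hE hs⟩
    have ha : conjAut gs ∈ autInducedBy S E := conjAut_mem gs
    have h1 : g * conjAut gs * g⁻¹ = 1 := by
      refine MulEquiv.ext fun y => (inv_mul_eq_one.1 ?_).symm
      have hA' : y⁻¹ * (g * conjAut gs * g⁻¹) y ∈ Le :=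
        induced_comm hcomm hE (conj_mem_induced hS hF hLZ hcomm hE hg hfix ha) y
      have hB' : y⁻¹ * (g * conjAut gs * g⁻¹) y ∈ N :=
        ⟨(g⁻¹ y)⁻¹ * conjAut gs (g⁻¹ y), induced_comm hcomm hE ha _, by
          show g ((g⁻¹ y)⁻¹ * conjAut gs (g⁻¹ y)) = _
          rw [map_mul, map_inv, MulAut.apply_inv_self, MulAut.mul_apply, MulAut.mul_apply]⟩
      have h := Subgroup.mem_inf.2 ⟨hA', hB'⟩
      rw [hbot] at h
      exact h
    exact mem_of_conjAut_inn hE.1 gs (by rw [conj_eq_one_iff.1 h1]; exact one_mem _)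
  · have hd : Nat.card ↥(Le ⊓ N) ∣ p := hcL ▸ Subgroup.card_dvd_of_le inf_le_left
    rcases (Nat.dvd_prime Fact.out).1 hd with h | h
    · exact absurd (Subgroup.eq_bot_of_card_eq _ h) hbot
    · have h1 : Le ⊓ N = N := Subgroup.eq_of_le_of_card_ge inf_le_right (by
        rw [h, hN, Subgroup.card_map_of_injective (MulEquiv.injective g), hcL])
      exact (Subgroup.mem_inf.1 (h1.symm ▸ ⟨x, hx, rfl⟩ : g x ∈ Le ⊓ N)).1

include hS hF hLZ hcomm hE hLc in
theorem exists_moving (hne : E ≠ S) :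
    ∃ g ∈ F.autGroup E, ∃ x : E, (x : Ω) ∈ L ∧ ((g x : E) : Ω) ∉ L := by
  by_contra h
  push Not at h
  have hES := hE.1.1
  have := finite_le hES
  have hA := autInducedBy_le_autGroup (F := F) hES
  haveI : ((autInducedBy S E).subgroupOf (F.autGroup E)).Normal :=
    ⟨fun a ha g => conj_mem_induced hS hF hLZ hcomm hE g.2
      (fun b hb x hx => induced_fix hLZ hb (hLZ (h _ g.2 x hx))) ha⟩
  have hle := Core.le_pCore (p := p) (N := (autInducedBy S E).subgroupOf (F.autGroup E))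
    (isPGroup_subgroupOf hA (isPGroup_autInducedBy hS))
  refine hne (le_antisymm hES fun s hs => ?_)
  set gs : normalizerIn S E := ⟨s, hs, le_normalizer_E hLZ hcomm hE hs⟩
  refine mem_of_conjAut_inn hE.1 gs ?_
  rw [← (IsEssential.isRadical hS hE).2]
  exact ⟨⟨conjAut gs, hA (conjAut_mem gs)⟩, hle (conjAut_mem gs), rfl⟩

include hp2 hS hF hLZ hcomm hE hLc in
/-- A conjugate of an induced automorphism moving `L` gives a good automorphism of `S`. -/
theorem exists_good (hne : E ≠ S) {g : MulAut E} (hg : g ∈ F.autGroup E) {a : MulAut E}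
    (ha : a ∈ autInducedBy S E) {x₀ : E} (hx₀ : (x₀ : Ω) ∈ L) (hb : (g * a * g⁻¹) x₀ ≠ x₀) :
    ∃ δ : MulAut S, Good F L δ ∧ ∀ (z : S) (zE : E), (z : Ω) = zE → (z : Ω) ∈ centerOf S →
      δ z = z → (g * a * g⁻¹) zE = zE := by
  have hES := hE.1.1
  have := finite_le hES
  set b := g * a * g⁻¹ with hbd
  have hcard : Nat.card (L.subgroupOf E) = p := by
    rw [Nat.card_congr (Subgroup.subgroupOfEquivOfLe (L_le hLZ hE)).toEquiv, hLc]
  have hx1 : x₀ ≠ 1 := fun h => hb (by rw [h, map_one])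
  have hLgen : ∀ y : E, (y : Ω) ∈ L → ∃ i : ℕ, y = x₀ ^ i := by
    intro y hy
    obtain ⟨i, hi⟩ := mem_powers_iff_mem_zpowers.2 (mem_zpowers_of_prime_card (g := (⟨x₀, hx₀⟩ : L.subgroupOf E))
      (g' := (⟨y, hy⟩ : L.subgroupOf E)) hcard (fun h => hx1 (congrArg Subtype.val h)))
    exact ⟨i, (congrArg Subtype.val hi).symm⟩
  have hlcomm : ∀ (y : E) (l : E), (l : Ω) ∈ centerOf S → Commute y l := fun y l hl =>
    Subtype.ext (centerOf_comm hl (hES y.2))
  -- the image line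
  set N := (L.subgroupOf E).map g.toMonoidHom with hN
  have hbN : ∀ y ∈ N, b y = y := by
    rintro _ ⟨y, hy, rfl⟩
    show (g * a * g⁻¹) (g y) = g y
    rw [MulAut.mul_apply, MulAut.mul_apply, MulAut.inv_apply_self, induced_fix hLZ ha (hLZ hy)]
  have hbd' : ∀ y : E, y⁻¹ * b y ∈ N := fun y =>
    ⟨(g⁻¹ y)⁻¹ * a (g⁻¹ y), induced_comm hcomm hE ha _, by
      show g ((g⁻¹ y)⁻¹ * a (g⁻¹ y)) = _
      rw [map_mul, map_inv, MulAut.apply_inv_self, hbd, MulAut.mul_apply, MulAut.mul_apply]⟩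
  set m := x₀⁻¹ * b x₀ with hm
  have hmN : m ∈ N := hbd' x₀
  have hm1 : m ≠ 1 := fun h => hb (inv_mul_eq_one.1 h).symm
  have hNc : Nat.card N = p := by
    rw [hN, Subgroup.card_map_of_injective (MulEquiv.injective g), hcard]
  have hNgen : ∀ y ∈ N, ∃ i : ℕ, y = m ^ i := by
    intro y hy
    obtain ⟨i, hi⟩ := mem_powers_iff_mem_zpowers.2 (mem_zpowers_of_prime_card (g := (⟨m, hmN⟩ : N))
      (g' := (⟨y, hy⟩ : N)) hNc (fun h => hm1 (congrArg Subtype.val h)))
    exact ⟨i, (congrArg Subtype.val hi).symm⟩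
  -- some induced automorphism moves the line
  obtain ⟨a', ha', hmove⟩ : ∃ a' ∈ autInducedBy S E, a' m ≠ m := by
    by_contra h
    push Not at h
    have hgL : ∀ x : E, (x : Ω) ∈ L → ((g x : E) : Ω) ∈ L := fun x hx =>
      map_L_eq hS hF hLZ hLc hcomm hE hne hg (fun a' ha' y hy => by
        obtain ⟨i, hi⟩ := hNgen _ ⟨y, hy, rfl⟩
        rw [show g y = g.toMonoidHom y from rfl, hi, map_pow, h a' ha']) hx
    exact hb (induced_fix hLZ (conj_mem_induced hS hF hLZ hcomm hE hg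
      (fun a' ha' y hy => induced_fix hLZ ha' (hLZ (hgL y hy))) ha) (hLZ hx₀))
  obtain ⟨j, hj⟩ := hLgen _ (induced_comm hcomm hE ha' m)
  have hxp : x₀ ^ p = 1 := by
    have := congrArg Subtype.val (pow_card_eq_one' (x := (⟨x₀, hx₀⟩ : L.subgroupOf E)))
    rwa [hcard] at this
  have hjp : ¬ p ∣ j := by
    rintro ⟨i, rfl⟩
    rw [pow_mul, hxp, one_pow] at hj
    exact hmove (inv_mul_eq_one.1 hj).symm
  obtain ⟨k, hk⟩ : ∃ k : ℕ, x₀ ^ (j * k) = x₀⁻¹ := by
    refine ⟨(-(j : ZMod p)⁻¹).val, ?_⟩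
    have h0 : ((j * (-(j : ZMod p)⁻¹).val : ℕ) : ZMod p) + 1 = 0 := by
      have hj0 : (j : ZMod p) ≠ 0 := fun h => hjp ((ZMod.natCast_eq_zero_iff j p).1 h)
      rw [Nat.cast_mul, ZMod.natCast_zmod_val, mul_neg, mul_inv_cancel₀ hj0, neg_add_cancel]
    have h1 : p ∣ j * (-(j : ZMod p)⁻¹).val + 1 := by
      refine (ZMod.natCast_eq_zero_iff _ p).1 ?_
      rw [Nat.cast_add, Nat.cast_one]
      exact h0
    obtain ⟨i, hi⟩ := h1
    refine eq_inv_of_mul_eq_one_left ?_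
    rw [← pow_succ, hi, pow_mul, hxp, one_pow]
  -- the square of `a' b^k a'` inverts `L`
  set bk := b ^ k with hbk
  have hbkx : bk x₀ = x₀ * m ^ k := by
    rw [hbk]
    clear hk hbk bk
    induction k with
    | zero => simp
    | succ k ih =>
      rw [pow_succ' b, MulAut.mul_apply, ih, map_mul, map_pow, hbN m hmN, pow_succ' m, ← mul_assoc,
        hm, mul_inv_cancel_left]
  have hbkfix : ∀ y : E, b y = y → bk y = y := by
    intro y hy
    rw [hbk]
    clear hk hbk hbkx bk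
    induction k with
    | zero => rfl
    | succ k ih => rw [pow_succ', MulAut.mul_apply, ih, hy]
  set m' := m ^ k with hm'
  have hma : a' m' = m' * x₀⁻¹ := by
    have h0 : a' m = m * x₀ ^ j := by rw [← hj, mul_inv_cancel_left]
    rw [hm', map_pow, h0, ((hlcomm m x₀ (hLZ hx₀)).pow_right j).mul_pow, ← pow_mul, hk]
  have hax : a' x₀ = x₀ := induced_fix hLZ ha' (hLZ hx₀)
  have hbm : bk m' = m' := hbkfix _ (hbN _ (pow_mem hmN k))
  set w := a' * bk * a' with hw
  have hwx : w x₀ = m' := by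
    rw [hw, MulAut.mul_apply, MulAut.mul_apply, hax, hbkx, map_mul, hax, hma, ← mul_assoc,
      ← (hlcomm m' x₀ (hLZ hx₀)).eq, mul_inv_cancel_right]
  have hwm : w m' = x₀⁻¹ := by
    rw [hw, MulAut.mul_apply, MulAut.mul_apply, hma, map_mul, map_inv, hbm, hbkx, mul_inv_rev,
      mul_inv_cancel_left, map_inv, hax]
  set w2 := w * w with hw2
  have hwL : ∀ y : E, (y : Ω) ∈ L → w2 y = y⁻¹ := by
    intro y hy
    obtain ⟨i, rfl⟩ := hLgen y hy
    rw [map_pow, hw2, MulAut.mul_apply, hwx, hwm, inv_pow]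
  have hwfix : ∀ y : E, (y : Ω) ∈ centerOf S → b y = y → w2 y = y := by
    intro y hy hby
    have h : w y = y := by
      rw [hw, MulAut.mul_apply, MulAut.mul_apply, induced_fix hLZ ha' hy, hbkfix y hby,
        induced_fix hLZ ha' hy]
    rw [hw2, MulAut.mul_apply, h, h]
  have hdec : ∀ y : E, (y : Ω) ∈ centerOf S →
      ∃ c : E, (c : Ω) ∈ centerOf S ∧ b c = c ∧ ((y * c⁻¹ : E) : Ω) ∈ L := by
    intro y hy
    obtain ⟨i, hi⟩ := hNgen _ (hbd' y)
    have hyb : b y = y * m ^ i := by rw [← hi, mul_inv_cancel_left]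
    have hli : ((x₀ ^ i : E) : Ω) ∈ L := by
      rw [SubmonoidClass.coe_pow]; exact pow_mem hx₀ i
    refine ⟨y * (x₀ ^ i)⁻¹, mul_mem hy (inv_mem (hLZ hli)), ?_, ?_⟩
    · have hbx : b x₀ = x₀ * m := by rw [hm, mul_inv_cancel_left]
      rw [map_mul, map_inv, map_pow, hyb, hbx, (hlcomm m x₀ (hLZ hx₀)).symm.mul_pow, mul_inv_rev,
        mul_assoc, mul_inv_cancel_left]
    · rw [mul_inv_rev, inv_inv, ← mul_assoc, (hlcomm y _ (hLZ hli)).eq, mul_inv_cancel_right]
      exact hli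
  have hwZ : ∀ y : E, (y : Ω) ∈ centerOf S → ((w2 y : E) : Ω) ∈ centerOf S ∧ w2 (w2 y) = y := by
    intro y hy
    obtain ⟨c, hc, hbc, hl⟩ := hdec y hy
    have hyc : y = (y * c⁻¹) * c := (inv_mul_cancel_right y c).symm
    have h1 : w2 y = (y * c⁻¹)⁻¹ * c := by
      conv_lhs => rw [hyc]
      rw [map_mul, hwL _ hl, hwfix c hc hbc]
    refine ⟨by rw [h1]; exact mul_mem (inv_mem (hLZ hl)) hc, ?_⟩
    rw [h1, map_mul, map_inv, hwL _ hl, inv_inv, hwfix c hc hbc, ← hyc]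
  have hG := autInducedBy_le_autGroup (F := F) hES
  have hwG : w2 ∈ F.autGroup E := by
    have hbG : b ∈ F.autGroup E := mul_mem (mul_mem hg (hG ha)) (inv_mem hg)
    have : w ∈ F.autGroup E := mul_mem (mul_mem (hG ha') (pow_mem hbG k)) (hG ha')
    exact mul_mem this this
  -- it normalises the induced automorphisms
  set Zc := (centerOf S).subgroupOf E
  have hconj : ∀ c ∈ autInducedBy S E, w2 * c * w2⁻¹ ∈ autInducedBy S E := by
    have hLZc : ∀ y : E, (y : Ω) ∈ L → y ∈ Zc := fun y hy => hLZ hy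
    intro c hc
    refine le_autInducedBy (IsSaturated.fullyAutomized hS hF hE.2.1)
      (stab (F.autGroup E) Zc Zc le_rfl)
      (isPGroup_of_chain (hS.to_le hES) _ (fun β hβ => hβ.2.1) (fun β hβ => hβ.2.2.1)
        (fun β hβ => hβ.2.2.2)) (fun β hβ => hβ.1)
      (fun d hd => ⟨hG hd, fun y hy => induced_fix hLZ hd hy,
        fun y _ => hLZc _ (induced_comm hcomm hE hd y), fun y => hLZc _ (induced_comm hcomm hE hd y)⟩)
      ?_
    have hall : ∀ y : E, y⁻¹ * (w2 * c * w2⁻¹) y ∈ Zc := by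
      intro y
      have e : y⁻¹ * (w2 * c * w2⁻¹) y = w2 ((w2⁻¹ y)⁻¹ * c (w2⁻¹ y)) := by
        rw [map_mul, map_inv, MulAut.apply_inv_self, MulAut.mul_apply, MulAut.mul_apply]
      rw [e]
      exact (hwZ _ (hLZ (induced_comm hcomm hE hc _))).1
    refine ⟨mul_mem (mul_mem hwG (hG hc)) (inv_mem hwG), fun y hy => ?_, fun y _ => hall y, hall⟩
    obtain ⟨h1, h2⟩ := hwZ y hy
    have h3 : w2⁻¹ y = w2 y := by
      conv_lhs => rw [← h2]
      rw [MulAut.inv_apply_self]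
    rw [MulAut.mul_apply, MulAut.mul_apply, h3, induced_fix hLZ hc h1, h2]
  -- extension to `S`
  have he : IsoIn F (w2 : E ≃* E) := (mem_autGroup_iff_isoIn hES).1 hwG
  have hext : S ≤ extender S E (isoHom (w2 : E ≃* E)) := by
    intro s hs
    set gs : normalizerIn S E := ⟨s, hs, le_normalizer_E hLZ hcomm hE hs⟩
    obtain ⟨h, hh, hhc⟩ := mem_autInducedBy_iff.1 (hconj _ (conjAut_mem gs))
    refine mem_extender_iff.2 ⟨hs, le_normalizer_E hLZ hcomm hE hs, h, hh, fun y hy => ?_⟩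
    rw [isoHom_apply, isoHom_apply, ← hhc (w2 y)]
    refine congrArg Subtype.val ?_
    show w2 _ = w2 (conjAut gs (w2⁻¹ (w2 y)))
    rw [MulAut.inv_apply_self]
    rfl
  obtain ⟨η, hη, hag⟩ := exists_extension
    (IsSaturated.receptive hS hF (IsSaturated.fullyCentralized hS hF hE.2.1)) he hES hext
  obtain ⟨d, hd, hdv⟩ := exists_iso hη (hom_range_eq_self hη)
  set δ : MulAut S := d
  have hδ : ∀ (z : S) (y : E), (z : Ω) = y → ((δ z : S) : Ω) = (w2 y : E) := by
    intro z y h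
    obtain rfl : z = Subgroup.inclusion hES y := Subtype.ext h
    exact (hdv _).trans (hag y)
  refine ⟨δ, ⟨(mem_autGroup_iff_isoIn le_rfl).2 hd, fun z hz => ?_, fun z hz => ?_⟩, ?_⟩
  · apply Subtype.ext
    rw [hδ z ⟨z, L_le hLZ hE hz⟩ rfl, hwL _ hz]
    rfl
  · obtain ⟨c, hc, hbc, hl⟩ := hdec ⟨z, center_le hLZ hE hz⟩ hz
    refine ⟨Subgroup.inclusion hES c, hc, Subtype.ext ?_, hl⟩
    rw [hδ _ c rfl, hwfix c hc hbc]
    rfl
  · intro z zE hzE hz hfix
    obtain ⟨c, hc, hbc, hl⟩ := hdec zE (hzE ▸ hz)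
    have h1 : w2 zE = zE := Subtype.ext (by rw [← hδ z zE hzE, hfix, hzE])
    have hyc : zE = (zE * c⁻¹) * c := (inv_mul_cancel_right zE c).symm
    set l := zE * c⁻¹ with hl'
    have h2 : w2 zE = l⁻¹ * c := by
      conv_lhs => rw [hyc]
      rw [map_mul, hwL _ hl, hwfix c hc hbc]
    rw [h2, hyc] at h1
    have h3 : l * l = 1 := by
      have := mul_right_cancel h1
      nth_rewrite 1 [← this]
      exact inv_mul_cancel l
    have h4 : l = 1 := by
      have hlp : l ^ p = 1 := by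
        obtain ⟨i, hi⟩ := hLgen l hl
        rw [hi, ← pow_mul, mul_comm, pow_mul, hxp, one_pow]
      rw [← orderOf_eq_one_iff]
      exact Nat.eq_one_of_dvd_coprimes ((Nat.coprime_primes Nat.prime_two Fact.out).2 hp2.symm)
        (orderOf_dvd_of_pow_eq_one (by rw [sq, h3])) (orderOf_dvd_of_pow_eq_one hlp)
    rw [hyc, h4, one_mul, hbc]

include hp2 hS hF hLZ hcomm hE hLc in
/-- The good fixed points are invariant under the automorphisms of an essential subgroup. -/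
theorem fixed_invariant (hne : E ≠ S) {δ₀ : MulAut S} (h₀ : Good F L δ₀) {h : MulAut E}
    (hh : h ∈ F.autGroup E) {z : S} {zE : E} (hzE : (z : Ω) = zE) (hz : (z : Ω) ∈ centerOf S)
    (hfix : δ₀ z = z) {w : S} (hw : (w : Ω) = ((h zE : E) : Ω)) :
    (w : Ω) ∈ centerOf S ∧ δ₀ w = w := by
  have hES := hE.1.1
  -- `zE` is fixed by all conjugates of the induced automorphisms
  have key : ∀ g ∈ F.autGroup E, ∀ a ∈ autInducedBy S E, (g * a * g⁻¹) zE = zE := by
    intro g hg a ha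
    have hmv : ∀ b ∈ autInducedBy S E, ∀ x : E, (x : Ω) ∈ L → (g * b * g⁻¹) x ≠ x →
        (g * b * g⁻¹) zE = zE := by
      intro b hb x hx hbx
      obtain ⟨δ, hδ, hδz⟩ := exists_good hp2 hS hF hLZ hLc hcomm hE hne hg hb hx hbx
      exact hδz z zE hzE hz (Good.unique hp2 hS hF hLZ hLc h₀ hδ hz hfix)
    by_cases hall : ∀ b ∈ autInducedBy S E, ∀ x : E, (x : Ω) ∈ L → (g * b * g⁻¹) x = x
    · -- then `g` preserves `L`
      have hinv : ∀ x : E, (x : Ω) ∈ L → ((g⁻¹ x : E) : Ω) ∈ L := fun x hx =>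
        map_L_eq hS hF hLZ hLc hcomm hE hne (inv_mem hg) (fun b hb y hy => by
          have := congrArg (⇑(g⁻¹ : MulAut _)) (hall b hb y hy)
          rwa [MulAut.mul_apply, MulAut.mul_apply, MulAut.inv_apply_self] at this) hx
      have hg' : ∀ x : E, (x : Ω) ∈ L → ((g x : E) : Ω) ∈ L := by
        intro x hx
        have := finite_le hES
        have hsurj : (L.subgroupOf E).map (g⁻¹).toMonoidHom = L.subgroupOf E :=
          Subgroup.eq_of_le_of_card_ge (Subgroup.map_le_iff_le_comap.2 fun y hy => hinv y hy)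
            (le_of_eq (Subgroup.card_map_of_injective (MulEquiv.injective g⁻¹)).symm)
        obtain ⟨y, hy, hyx⟩ := hsurj.ge (show x ∈ L.subgroupOf E from hx)
        have : g x = y := by rw [← hyx]; exact MulAut.apply_inv_self _ g y
        rw [this]
        exact hy
      exact induced_fix hLZ (conj_mem_induced hS hF hLZ hcomm hE hg
        (fun b hb x hx => induced_fix hLZ hb (hLZ (hg' x hx))) ha) (hzE ▸ hz)
    · push Not at hall
      obtain ⟨b, hb, x, hx, hbx⟩ := hall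
      by_cases hax : (g * a * g⁻¹) x = x
      · have hab : (g * (a * b) * g⁻¹) x ≠ x := by
          intro h
          rw [show g * (a * b) * g⁻¹ = (g * a * g⁻¹) * (g * b * g⁻¹) by group, MulAut.mul_apply] at h
          exact hbx ((g * a * g⁻¹).injective (h.trans hax.symm))
        have h1 := hmv (a * b) (mul_mem ha hb) x hx hab
        rw [show g * (a * b) * g⁻¹ = (g * a * g⁻¹) * (g * b * g⁻¹) by group, MulAut.mul_apply,
          hmv b hb x hx hbx] at h1
        exact h1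
      · exact hmv a ha x hx hax
  have key' : ∀ g ∈ F.autGroup E, ∀ a ∈ autInducedBy S E, (g * a * g⁻¹) (h zE) = h zE := by
    intro g hg a ha
    have := congrArg h (key (h⁻¹ * g) (mul_mem (inv_mem hh) hg) a ha)
    rw [MulAut.mul_apply, MulAut.mul_apply, MulAut.mul_apply, mul_inv_rev, inv_inv, MulAut.mul_apply,
      MulAut.apply_inv_self] at this
    exact this
  have hwZ : (w : Ω) ∈ centerOf S := by
    refine ⟨w.2, Subgroup.mem_centralizer_iff.2 fun s hs => ?_⟩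
    set gs : normalizerIn S E := ⟨s, hs, le_normalizer_E hLZ hcomm hE hs⟩
    have := key' 1 (one_mem _) _ (conjAut_mem gs)
    rw [inv_one, mul_one, one_mul] at this
    have h2 := congrArg Subtype.val this
    rw [conjAut_apply, ← hw] at h2
    exact mul_inv_eq_iff_eq_mul.1 h2
  refine ⟨hwZ, ?_⟩
  obtain ⟨g, hg, x, hx, hgx⟩ := exists_moving hS hF hLZ hLc hcomm hE hne
  obtain ⟨b, hb, x', hx', hbx⟩ : ∃ b ∈ autInducedBy S E, ∃ x' : E, (x' : Ω) ∈ L ∧
      (g * b * g⁻¹) x' ≠ x' := by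
    by_contra hall
    push Not at hall
    have := finite_le hES
    have hinv : ∀ x : E, (x : Ω) ∈ L → ((g⁻¹ x : E) : Ω) ∈ L := fun x hx =>
      map_L_eq hS hF hLZ hLc hcomm hE hne (inv_mem hg) (fun b hb y hy => by
        have := congrArg (⇑(g⁻¹ : MulAut _)) (hall b hb y hy)
        rwa [MulAut.mul_apply, MulAut.mul_apply, MulAut.inv_apply_self] at this) hx
    have hsurj : (L.subgroupOf E).map (g⁻¹).toMonoidHom = L.subgroupOf E :=
      Subgroup.eq_of_le_of_card_ge (Subgroup.map_le_iff_le_comap.2 fun y hy => hinv y hy)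
        (le_of_eq (Subgroup.card_map_of_injective (MulEquiv.injective g⁻¹)).symm)
    obtain ⟨y, hy, hyx⟩ := hsurj.ge (show x ∈ L.subgroupOf E from hx)
    exact hgx (by
      have : g x = y := by rw [← hyx]; exact MulAut.apply_inv_self _ g y
      rw [this]; exact hy)
  obtain ⟨δ, hδ, -⟩ := exists_good hp2 hS hF hLZ hLc hcomm hE hne hg hb hx' hbx
  refine Good.unique hp2 hS hF hLZ hLc hδ h₀ hwZ ?_
  obtain ⟨c, hc, hfc, hl⟩ := hδ.2.2 w hwZ
  have hsplit : δ w = (w * c⁻¹)⁻¹ * c := by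
    conv_lhs => rw [show w = (w * c⁻¹) * c from (inv_mul_cancel_right w c).symm]
    rw [map_mul, hδ.2.1 _ hl, hfc]
  obtain ⟨δ', hδ', hδ'z⟩ := exists_good hp2 hS hF hLZ hLc hcomm hE hne hg hb hx' hbx
  have hfc' := Good.unique hp2 hS hF hLZ hLc hδ hδ' hc hfc
  have hcE := hδ'z c ⟨c, center_le hLZ hE hc⟩ rfl hc hfc'
  -- the difference is a fixed element of `L`
  set b' := g * b * g⁻¹
  have hl' : b' ⟨((w * c⁻¹ : S) : Ω), L_le hLZ hE hl⟩ = ⟨((w * c⁻¹ : S) : Ω), L_le hLZ hE hl⟩ := by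
    have e : (⟨((w * c⁻¹ : S) : Ω), L_le hLZ hE hl⟩ : E) = h zE * (⟨c, center_le hLZ hE hc⟩ : E)⁻¹ :=
      Subtype.ext (by simp [hw])
    rw [e, map_mul, map_inv, key' g hg b hb, hcE]
  have hone : w * c⁻¹ = 1 := by
    by_contra hne1
    refine hbx ?_
    have hcard : Nat.card (L.subgroupOf E) = p := by
      rw [Nat.card_congr (Subgroup.subgroupOfEquivOfLe (L_le hLZ hE)).toEquiv, hLc]
    obtain ⟨i, hi⟩ := mem_zpowers_of_prime_card
      (g := (⟨⟨((w * c⁻¹ : S) : Ω), L_le hLZ hE hl⟩, hl⟩ : L.subgroupOf E))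
      (g' := (⟨x', hx'⟩ : L.subgroupOf E)) hcard (fun h1 => hne1 (Subtype.ext
        (by simpa using congrArg (fun u : L.subgroupOf E => ((u : E) : Ω)) h1)))
    have hi' : x' = (⟨((w * c⁻¹ : S) : Ω), L_le hLZ hE hl⟩ : E) ^ i :=
      (congrArg Subtype.val hi).symm
    rw [hi', map_zpow, hl']
  rw [hsplit, hone, inv_one, one_mul]
  exact (mul_inv_eq_one.1 hone).symm

end essential

variable (hnab : ∃ s ∈ S, ∃ u ∈ S, s * u * s⁻¹ * u⁻¹ ≠ 1) (hne' : centerOf S ≠ L)

include hp2 hS hF hLZ hLc hcomm hnab hne' in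
theorem core_ne_bot : F.core ≠ ⊥ := by
  classical
  intro hcore
  have hnot : ∀ Q : Subgroup Ω, F.IsNormal Q → Q = ⊥ := fun Q hQ =>
    le_bot_iff.1 (hcore ▸ le_core hQ)
  obtain ⟨s₀, hs₀, u₀, hu₀, hc₀⟩ := hnab
  have hgen : ∀ ψ : MulAut S, ∀ x : S, (x : Ω) ∈ L → ((ψ x : S) : Ω) ∈ L := by
    intro ψ x hx
    set c : S := ⟨s₀, hs₀⟩ * ⟨u₀, hu₀⟩ * ⟨s₀, hs₀⟩⁻¹ * ⟨u₀, hu₀⟩⁻¹
    have hcL : (c : Ω) ∈ L := hcomm _ hs₀ _ hu₀
    obtain ⟨i, hi⟩ := mem_zpowers_of_prime_card (g := (⟨(c : Ω), hcL⟩ : L))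
      (g' := (⟨(x : Ω), hx⟩ : L)) hLc (fun h => hc₀ (congrArg Subtype.val h))
    have hxi : x = c ^ i := Subtype.ext (by
      rw [SubgroupClass.coe_zpow]; exact (congrArg Subtype.val hi).symm)
    rw [hxi, map_zpow, SubgroupClass.coe_zpow]
    refine zpow_mem ?_ i
    simp only [c, map_mul, map_inv, Subgroup.coe_mul, Subgroup.coe_inv]
    exact hcomm _ (ψ _).2 _ (ψ _).2
  by_cases hex : ∃ δ : MulAut S, Good F L δ
  swap
  · refine hc₀ ?_
    have hSn : F.IsNormal S := isNormal_of_invariant hS hF fun P hP => by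
      rcases hP with rfl | hP
      · exact ⟨le_rfl, fun α _ => map_subgroupOf_eq le_rfl (fun x _ => x.2)⟩
      · exfalso
        refine hex ?_
        by_cases hne : P = S
        · exfalso
          subst hne
          have := finite_mulAut_of_le (S := P) (le_refl P)
          obtain ⟨hc, hfn, hN, H, hH⟩ := hP
          obtain ⟨-, hd, -⟩ := LocalEven.stronglyPEmbedded_iff.1 hH
          obtain ⟨R, hR⟩ := IsSaturated.top_autGroup_sylow hS hF
          refine R.not_dvd_index ?_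
          rw [hR, Subgroup.index_eq_card]
          exact hd.trans (Subgroup.card_subgroup_dvd_card H)
        obtain ⟨g, hg, x, hx, hgx⟩ := exists_moving hS hF hLZ hLc hcomm hP hne
        have := finite_le hP.1.1
        by_contra hnone
        refine hgx ?_
        have hinv : ∀ x : P, (x : Ω) ∈ L → ((g⁻¹ x : P) : Ω) ∈ L := fun x hx =>
          map_L_eq hS hF hLZ hLc hcomm hP hne (inv_mem hg) (fun b hb y hy => by
            by_contra hb'
            have hbx : (g * b * g⁻¹) y ≠ y := fun h => hb' (by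
              have := congrArg (⇑(g⁻¹ : MulAut _)) h
              rwa [MulAut.mul_apply, MulAut.mul_apply, MulAut.inv_apply_self] at this)
            obtain ⟨δ, hδ, -⟩ := exists_good hp2 hS hF hLZ hLc hcomm hP hne hg hb hy hbx
            exact hnone ⟨δ, hδ⟩) hx
        have hsurj : (L.subgroupOf P).map (g⁻¹).toMonoidHom = L.subgroupOf P :=
          Subgroup.eq_of_le_of_card_ge (Subgroup.map_le_iff_le_comap.2 fun y hy => hinv y hy)
            (le_of_eq (Subgroup.card_map_of_injective (MulEquiv.injective g⁻¹)).symm)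
        obtain ⟨y, hy, hyx⟩ := hsurj.ge (show x ∈ L.subgroupOf P from hx)
        have : g x = y := by rw [← hyx]; exact MulAut.apply_inv_self _ g y
        rw [this]; exact hy
    have h1 : s₀ ∈ (⊥ : Subgroup Ω) := hnot S hSn ▸ hs₀
    rw [Subgroup.mem_bot.1 h1]
    group
  obtain ⟨δ₀, h₀⟩ := hex
  let C : Subgroup Ω :=
    (MonoidHom.eqLocus δ₀.toMonoidHom (MonoidHom.id S) ⊓ (centerOf S).subgroupOf S).map S.subtype
  have hC : ∀ x : S, (x : Ω) ∈ C ↔ δ₀ x = x ∧ (x : Ω) ∈ centerOf S := by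
    intro x
    refine ⟨?_, fun h => ⟨x, ⟨h.1, h.2⟩, rfl⟩⟩
    rintro ⟨y, hy, hyx⟩
    obtain rfl : y = x := Subtype.ext hyx
    exact ⟨hy.1, hy.2⟩
  have hCS : C ≤ S := Subgroup.map_subtype_le _
  have hCn : F.IsNormal C := isNormal_of_invariant hS hF fun P hP => by
    by_cases hPS : P = S
    · subst hPS
      refine ⟨hCS, fun ψ hψ => map_subgroupOf_eq le_rfl ?_⟩
      rintro _ ⟨x, hx, rfl⟩
      obtain ⟨hfix, hz⟩ := (hC x).1 hx
      refine (hC _).2 ?_
      have hψZ : ∀ z : P, (z : Ω) ∈ centerOf P → ((ψ z : P) : Ω) ∈ centerOf P := by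
        intro z hz
        refine ⟨(ψ z).2, Subgroup.mem_centralizer_iff.2 fun y hy => ?_⟩
        have h1 : (ψ.symm ⟨y, hy⟩ : P) * z = z * ψ.symm ⟨y, hy⟩ :=
          Subtype.ext (centerOf_comm hz (ψ.symm ⟨y, hy⟩).2)
        have h2 := congrArg ψ h1
        rw [map_mul, map_mul, MulEquiv.apply_symm_apply] at h2
        exact congrArg Subtype.val h2
      refine ⟨?_, hψZ x hz⟩
      have hψ' : Good F L (ψ * δ₀ * ψ⁻¹) := by
        refine ⟨mul_mem (mul_mem hψ h₀.1) (inv_mem hψ), fun y hy => ?_, fun z hz' => ?_⟩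
        · rw [MulAut.mul_apply, MulAut.mul_apply, h₀.2.1 _ (hgen ψ⁻¹ y hy), map_inv,
            MulAut.apply_inv_self]
        · have hz'' : ((ψ⁻¹ z : P) : Ω) ∈ centerOf P := by
            refine ⟨(ψ⁻¹ z).2, Subgroup.mem_centralizer_iff.2 fun y hy => ?_⟩
            have h1 : ψ ⟨y, hy⟩ * z = z * ψ ⟨y, hy⟩ := Subtype.ext (centerOf_comm hz' (ψ ⟨y, hy⟩).2)
            have h2 := congrArg (⇑(ψ⁻¹ : MulAut _)) h1
            rw [map_mul, map_mul, MulAut.inv_apply_self] at h2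
            exact congrArg Subtype.val h2
          obtain ⟨c, hc, hfc, hl⟩ := h₀.2.2 _ hz''
          refine ⟨ψ c, hψZ c hc, by rw [MulAut.mul_apply, MulAut.mul_apply, MulAut.inv_apply_self, hfc], ?_⟩
          have := hgen ψ _ hl
          rwa [map_mul, map_inv, MulAut.apply_inv_self] at this
      refine Good.unique hp2 hS hF hLZ hLc hψ' h₀ (hψZ x hz) ?_
      show ψ (δ₀ (ψ⁻¹ (ψ x))) = ψ x
      rw [MulAut.inv_apply_self, hfix]
    · rcases hP with rfl | hP
      · exact absurd rfl hPS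
      refine ⟨fun c hc => center_le hLZ hP ((hC ⟨c, hCS hc⟩).1 hc).2,
        fun ψ hψ => map_subgroupOf_eq hP.1.1 ?_⟩
      rintro _ ⟨x, hx, rfl⟩
      obtain ⟨hfix, hz⟩ := (hC (Subgroup.inclusion hP.1.1 x)).1 hx
      obtain ⟨h1, h2⟩ := fixed_invariant hp2 hS hF hLZ hLc hcomm hP hPS h₀ hψ
        (z := Subgroup.inclusion hP.1.1 x) rfl hz hfix (w := Subgroup.inclusion hP.1.1 (ψ x)) rfl
      exact (hC _).2 ⟨h2, h1⟩
  have hCbot := hnot C hCn
  refine hne' (le_antisymm (fun z hz => ?_) hLZ)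
  obtain ⟨c, hc, hfc, hl⟩ := h₀.2.2 ⟨z, hz.1⟩ hz
  have hc1 : (c : Ω) = 1 := Subgroup.mem_bot.1 (hCbot ▸ (hC c).2 ⟨hfc, hc⟩)
  simpa [hc1] using hl

end CfsgLib.Fusion.CentralTorus
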