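import Cfsg.Agent.Lib.Fusion.CentralizerSubsystem

/-!
# The centralizer of a normal subsystem is normal
-/

set_option autoImplicit false

namespace CfsgLib.Fusion

open Cfsg Cfsg.FusionSystem

universe u

variable {Ω : Type u} [Group Ω] {S T : Subgroup Ω} {F : FusionSystem S} {E : FusionSystem T}
  {p : ℕ} [Fact p.Prime] [Finite S]

/-- Over `C_S(E)` there is a normal subsystem of `F` lying in `C_F(T)`. -/
theorem exists_centralizer_normal_pPower (hS : IsPGroup p S) (hE : E.IsNormalIn F p) :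
    ∃ D : FusionSystem (centOf F E),
      (D.IsNormalIn F p ∧ ∀ P : Subgroup Ω, D.Hom P ⊆ F.centralizerHom T P) ∧
        D.HasPPowerIndexIn (centSystem F T hE.1.2.2.2.1.1) p := by
  have hE' := hE
  obtain ⟨⟨hEs, hF, hEi⟩, -⟩ := hE'
  have hT := hEi.2.1
  have hext : ∀ {P : Subgroup Ω}, P ≤ centOf F E → ∀ {φ : P →* Ω}, φ ∈ F.Hom P →
      ∃ ψ ∈ F.Hom (P ⊔ T), ∀ x : P, ψ (Subgroup.inclusion le_sup_left x) = φ x :=
    fun hP _ hφ => exists_extend_of_le_centOf hS hE hP hφ
  have hC := stronglyClosed_centOf hS hE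
  have hCT : centOf F E ≤ centralizerIn S T := (centBy_centOf hS hE).1
  have hfoc : centFocal F T ≤ centOf F E :=
    le_sSup (show centFocal F T ∈ {Y | CentBy F E Y} from centBy_centFocal hS hE)
  generalize centOf F E = C at hext hC hCT hfoc ⊢
  have hDS : centralizerIn S T ≤ S := centralizerIn_le T
  have := finite_le hDS
  have hCS : C ≤ S := hC.1
  have := finite_le hCS
  have := finite_mulAut_of_le (S := S) hCS
  have hDp : IsPGroup p (centralizerIn S T) := hS.to_le hDS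
  have hD0 := centSystem_isCentralizerSystem F T hT.1
  set D0 := centSystem F T hT.1 with hD0def
  have hTfn : F.IsFullyNormalized T := fullyNormalized_closed hT
  have hTfc := IsSaturated.fullyCentralized hS hF hTfn
  have hD0sat : D0.IsSaturated p := centralizerSystem_saturated hS hF hTfc hD0
  have hh : D0.hyperfocalSubgroup p ≤ C :=
    hyperfocal_le_of_focal_le ((centFocal_eq hD0).le.trans hfoc)
  have hCn : ∀ s ∈ centralizerIn S T, ∀ y ∈ C, s * y * s⁻¹ ∈ C := fun s hs y hy =>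
    conj_mem_of_mem_normalizer (StronglyClosed.normal_in hC (hDS hs)) hy
  obtain ⟨D, hDs, hDi, -⟩ := exists_pPowerSystem hDp hD0sat hCT hh
  have hDn := pPowerIndex_isNormalIn hDp hD0sat hCT hCn hh hDs hDi
  have hDsub : ∀ P : Subgroup Ω, D.Hom P ⊆ F.centralizerHom T P := fun P φ hφ => hDi.1 P hφ
  have hCTS : C ⊔ T ≤ S := sup_le hCS hT.1
  have := finite_le hCTS
  refine ⟨D, ⟨⟨⟨hDs, hF, fun P φ hφ => (hDsub P hφ).1, hC, ?_, ?_⟩, ?_⟩, hDsub⟩, hDi⟩
  · -- transport by automorphisms of `C`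
    intro P hPC φ hφ α hα
    set f : MulAut C := α⁻¹ with hf
    obtain ⟨ψ, hψ, hψv⟩ := hext le_rfl ((mem_autGroup_iff hCS).1 hα)
    obtain ⟨κ, hκ, hκv⟩ := exists_iso hψ (Subgroup.eq_of_le_of_card_ge
      (range_le_of_gens (fun x => Subgroup.mem_sup_left (by rw [hψv]; exact (α x).2))
        (fun t => Subgroup.mem_sup_right (StronglyClosed.apply_mem hT hψ t.2)))
      (le_of_eq (Nat.card_congr (MonoidHom.ofInjective (F.injective_of_mem hψ)).toEquiv)))
    have hκT : ∀ w : ↥(C ⊔ T), (w : Ω) ∈ T → ((κ.symm w : _) : Ω) ∈ T := fun w hw =>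
      StronglyClosed.apply_mem hT hκ.symm.mem hw
    have hκC : ∀ c : C, κ (Subgroup.inclusion le_sup_left c) =
        Subgroup.inclusion le_sup_left (α c) := fun c => Subtype.ext ((hκv _).trans (hψv c))
    have hκC' : ∀ c : C, κ.symm (Subgroup.inclusion le_sup_left c) =
        Subgroup.inclusion le_sup_left (f c) := fun c => by
      rw [MulEquiv.symm_apply_eq, hκC, hf, MulAut.apply_inv_self]
    have htw : (twistSystem D f).IsSubsystemOf D0 := by
      rintro R χ ⟨hR, hχC, χ', hχ', hv⟩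
      obtain ⟨-, -, -, ξ, hξ, hξR, hξT⟩ := hDsub _ hχ'
      have hR' : R ⊔ T ≤ C ⊔ T := sup_le_sup_right hR T
      have hfR : mapS f R ⊔ T ≤ C ⊔ T := sup_le_sup_right (mapS_le R) T
      -- into `f(R) T`
      have h1 := restrict_mem hκ.symm.mem hR'
      have h1v : ∀ w : ↥(R ⊔ T),
          ((κ.symm (Subgroup.inclusion hR' w) : _) : Ω) ∈ mapS f R ⊔ T := fun w =>
        range_le_of_gens (ψ := ((C ⊔ T).subtype.comp κ.symm.toMonoidHom).comp
            (Subgroup.inclusion hR'))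
          (fun x => Subgroup.mem_sup_left (by
            show ((κ.symm (Subgroup.inclusion le_sup_left ⟨(x : Ω), hR x.2⟩) : _) : Ω) ∈ mapS f R
            rw [hκC']
            exact apply_mem_mapS hR x))
          (fun t => Subgroup.mem_sup_right (hκT _ t.2)) ⟨w, rfl⟩
      have h2v : ∀ w, ξ w ∈ C ⊔ T := fun w => range_le_of_gens
        (fun x => Subgroup.mem_sup_left (by rw [hξR]; exact hom_apply_mem hχ' x))
        (fun t => Subgroup.mem_sup_right (by rw [hξT]; exact t.2)) ⟨w, rfl⟩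
      have h3 := F.comp_mem (F.comp_mem h1 hξ h1v) hκ.mem (fun w => h2v _)
      refine mem_centSystem_of_fix hT.1 h3 le_sup_left le_sup_right (fun t => ?_)
        (hR.trans hCT) fun x => ?_
      · show ((κ ⟨ξ ⟨_, h1v _⟩, _⟩ : _) : Ω) = t
        have e1 : ξ ⟨_, h1v (Subgroup.inclusion le_sup_right t)⟩ =
            ((κ.symm (Subgroup.inclusion hR' (Subgroup.inclusion le_sup_right t)) : _) : Ω) :=
          hξT ⟨_, hκT _ t.2⟩
        exact (congrArg (fun w => ((κ w : _) : Ω)) (Subtype.ext e1)).trans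
          (congrArg Subtype.val (κ.apply_symm_apply
            (Subgroup.inclusion hR' (Subgroup.inclusion le_sup_right t))))
      · show χ x = ((κ ⟨ξ ⟨_, h1v _⟩, _⟩ : _) : Ω)
        have e1 : ξ ⟨_, h1v (Subgroup.inclusion le_sup_left x)⟩ =
            ((f ⟨χ x, hχC x⟩ : C) : Ω) := by
          refine Eq.trans (congrArg ξ (Subtype.ext ?_)) ((hξR
            ⟨(f ⟨x, hR x.2⟩ : Ω), apply_mem_mapS hR x⟩).trans
            (hv x (hR x.2) (hχC x) (apply_mem_mapS hR x)))
          exact (congrArg Subtype.val (hκC' ⟨x, hR x.2⟩) :)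
        let w : ↥(C ⊔ T) := Subgroup.inclusion le_sup_left (f ⟨χ x, hχC x⟩)
        let w' : ↥(C ⊔ T) := ⟨ξ ⟨_, h1v (Subgroup.inclusion le_sup_left x)⟩, h2v _⟩
        have e2 : w = w' := Subtype.ext e1.symm
        show χ x = ((κ w' : _) : Ω)
        rw [← e2, hκC, hf, MulAut.apply_inv_self]
        rfl
    have hle : twistSystem D f ≤ D := subsystem_le_of_residual hDp hCT
      ((twistSystem_sysEquiv D f).saturated hDs) htw hDi.2.2
    obtain ⟨χ, hχ, hv⟩ := (twistSystem_sysEquiv D f).1 P φ hφ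
    exact ⟨χ, hle _ hχ, fun x hφx hαx => hv x (hPC x.2) hφx hαx⟩
  · -- the Frattini condition
    intro P hPC φ hφ
    obtain ⟨ψ, hψ, hψv⟩ := hext hPC hφ
    have := finite_le hT.1
    have hψT := restrict_mem hψ (le_sup_right : T ≤ P ⊔ T)
    obtain ⟨a, ha, hav⟩ := exists_iso hψT (Subgroup.eq_of_le_of_card_ge
      (by rintro _ ⟨t, rfl⟩; exact StronglyClosed.apply_mem hT hψ t.2)
      (le_of_eq (Nat.card_congr (MonoidHom.ofInjective (F.injective_of_mem hψT)).toEquiv)))
    obtain ⟨κ, hκ, hκa, -⟩ := exists_lift hS hF hTfc ((mem_autGroup_iff_isoIn hT.1).2 ha)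
    have hWS : T ⊔ centralizerIn S T ≤ S := sup_centralizerIn_le_S hT.1
    have := finite_le hWS
    have hκ' := (mem_autGroup_iff_isoIn hWS).1 hκ
    have hψW : ∀ w, ψ w ∈ T ⊔ centralizerIn S T := fun w => range_le_of_gens
      (fun x => Subgroup.mem_sup_right (hCT (StronglyClosed.apply_mem hC hψ (hPC x.2))))
      (fun t => Subgroup.mem_sup_left (StronglyClosed.apply_mem hT hψ t.2)) ⟨w, rfl⟩
    have hχ := F.comp_mem hψ hκ'.symm.mem hψW
    obtain ⟨χ, hχdef, hχ⟩ : ∃ χ : ↥(P ⊔ T) →* Ω,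
        (∀ w, χ w = (((κ : MulAut ↥(T ⊔ centralizerIn S T)).symm ⟨ψ w, hψW w⟩ : _) : Ω)) ∧
        χ ∈ F.Hom (P ⊔ T) := ⟨_, fun w => rfl, hχ⟩
    have hχT : ∀ t : T, χ (Subgroup.inclusion le_sup_right t) = t := fun t => by
      rw [hχdef, show (⟨ψ (Subgroup.inclusion le_sup_right t), hψW _⟩ :
        ↥(T ⊔ centralizerIn S T)) = κ (Subgroup.inclusion le_sup_left t) from
        Subtype.ext ((hav t).symm.trans (hκa _ t.2).symm), MulEquiv.symm_apply_apply]
      rfl
    have hφ' : χ.comp (Subgroup.inclusion le_sup_left) ∈ D0.Hom P :=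
      mem_centSystem_of_fix hT.1 hχ le_sup_left le_sup_right hχT (hPC.trans hCT) fun x => rfl
    obtain ⟨γ, hγ, φ₀, hφ₀, hdec⟩ :=
      (pPowerIndex_invariant hDp hD0sat hCT hCn hh hDs hDi).2.2.2 P hPC _ hφ'
    have hκC : ∀ w : ↥(T ⊔ centralizerIn S T), (w : Ω) ∈ C → ((κ w : _) : Ω) ∈ C := fun w hw =>
      StronglyClosed.apply_mem hC ((mem_autGroup_iff hWS).1 hκ) hw
    obtain ⟨k, hk, hkv⟩ := exists_restrict_aut hWS (hCT.trans le_sup_right) hκ hκC
    have hγF : γ ∈ F.autGroup C :=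
      (mem_autGroup_iff hCS).2 (((hD0 _).le ((mem_autGroup_iff hCT).1 hγ)).1)
    refine ⟨k * γ, mul_mem hk hγF, φ₀, hφ₀, fun x hx => ?_⟩
    have e1 := hdec x hx
    rw [MonoidHom.comp_apply, hχdef] at e1
    rw [MulAut.mul_apply, ← hkv _ (γ ⟨φ₀ x, hx⟩).2]
    have e2 : (⟨((γ ⟨φ₀ x, hx⟩ : C) : Ω), Subgroup.mem_sup_right (hCT (γ ⟨φ₀ x, hx⟩).2)⟩ :
        ↥(T ⊔ centralizerIn S T)) =
        (κ : MulAut ↥(T ⊔ centralizerIn S T)).symm
          ⟨ψ (Subgroup.inclusion le_sup_left x), hψW _⟩ := Subtype.ext e1.symm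
    rw [show (κ ⟨((γ ⟨φ₀ x, hx⟩ : C) : Ω), _⟩ : ↥(T ⊔ centralizerIn S T)) =
      ⟨ψ (Subgroup.inclusion le_sup_left x), hψW _⟩ from by
        rw [e2, MulEquiv.apply_symm_apply]]
    exact (hψv x).symm
  · -- the extension condition
    set M := C ⊔ centralizerIn S C
    have hMS : M ≤ S := sup_centralizerIn_le_S hCS
    have := finite_le hMS
    let Ext : MulAut C → Prop := fun α => ∃ β ∈ F.autGroup M,
      (∀ x : C, ((β (Subgroup.inclusion le_sup_left x) : M) : Ω) = ((α x : C) : Ω)) ∧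
        ∀ c : M, (c : Ω) ∈ centralizerIn S C →
          (c : Ω)⁻¹ * ((β c : M) : Ω) ∈ C ⊓ Subgroup.centralizer (C : Set Ω)
    have hcomm : ∀ (α : MulAut C) (β : MulAut M),
        (∀ x : C, ((β (Subgroup.inclusion le_sup_left x) : M) : Ω) = ((α x : C) : Ω)) →
        ∀ c : M, (c : Ω) ∈ centralizerIn S C → ((β c : M) : Ω) ∈ centralizerIn S C := by
      intro α β hβ c hc
      refine mem_centralizerIn.2 ⟨hMS (β c).2, fun y hy => ?_⟩
      obtain ⟨x, hx⟩ : ∃ x : C, α x = ⟨y, hy⟩ := ⟨α⁻¹ ⟨y, hy⟩, MulAut.apply_inv_self C α _⟩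
      have e : ((β (Subgroup.inclusion le_sup_left x) : M) : Ω) = y := by rw [hβ, hx]
      rw [← e, ← Subgroup.coe_mul, ← Subgroup.coe_mul, ← map_mul, ← map_mul]
      congr 2
      exact Subtype.ext ((mem_centralizerIn.1 hc).2 x x.2)
    have hmul : ∀ a b, Ext a → Ext b → Ext (a * b) := by
      rintro a b ⟨β, hβ, hβT, hβC⟩ ⟨γ, hγ, hγT, hγC⟩
      refine ⟨β * γ, mul_mem hβ hγ, fun x => ?_, fun c hc => ?_⟩
      · rw [MulAut.mul_apply, show γ (Subgroup.inclusion le_sup_left x) =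
          Subgroup.inclusion le_sup_left (b x) from Subtype.ext (hγT x), hβT]
        rfl
      · have h := mul_mem (hγC c hc) (hβC (γ c) (hcomm b γ hγT c hc))
        rw [mul_assoc, mul_inv_cancel_left] at h
        exact h
    have hone : Ext 1 := ⟨1, one_mem _, fun x => rfl, fun c _ => by
      rw [MulAut.one_apply, inv_mul_cancel]; exact one_mem _⟩
    let H : Subgroup (MulAut C) :=
      { carrier := {α | Ext α}
        one_mem' := hone
        mul_mem' := fun ha hb => hmul _ _ ha hb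
        inv_mem' := fun {a} ha => by
          obtain ⟨n, hn⟩ := mem_powers_iff_mem_zpowers.2
            (Subgroup.inv_mem _ (Subgroup.mem_zpowers a))
          show Ext a⁻¹
          rw [← show a ^ n = a⁻¹ from hn]
          clear hn
          induction n with
          | zero => exact hone
          | succ n ih => rw [pow_succ]; exact hmul _ _ ih ha }
    have hinner : autInducedBy C C ≤ H := by
      intro α hα
      obtain ⟨t, ht, htv⟩ := mem_autInducedBy_iff.1 hα
      have htN : t ∈ Subgroup.normalizer (M : Set Ω) :=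
        Subgroup.le_normalizer (le_sup_left (b := centralizerIn S C) ht)
      refine ⟨M.normalizerMonoidHom ⟨t, htN⟩,
        autInducedBy_le_autGroup hMS (mem_autInducedBy_iff.2 ⟨t, hCS ht, fun x => rfl⟩),
        fun x => (htv x).symm, fun c hc => ?_⟩
      show (c : Ω)⁻¹ * (t * (c : Ω) * t⁻¹) ∈ _
      rw [(mem_centralizerIn.1 hc).2 t ht, mul_inv_cancel_right, inv_mul_cancel]
      exact one_mem _
    have hfcC : D0.IsFullyCentralized C := IsSaturated.fullyCentralized hDp hD0sat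
      (fullyNormalized_closed (stronglyClosed_of_hyperfocal hDp hD0sat hCT hCn hh))
    have hsyl := (IsSaturated.fullyAutomized (hS.to_le hCS) hDs isFullyNormalized_self).2
    refine le_of_sylow_of_coprime (p := p) (H := H) hsyl hinner ?_
    rintro α hα ⟨n, hn, hcop⟩
    obtain ⟨β, hβ, hβv, hβc⟩ := hDn.2 α hα
    have hl : Liftable D0 C α :=
      ⟨β, ⟨hβ, fun r hr => by
          rw [show r = Subgroup.inclusion le_sup_left (⟨(r : Ω), hr⟩ : C) from rfl, hβv]
          exact (α _).2,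
        fun c hc => (hβc c hc).1⟩, fun r hr => hβv ⟨r, hr⟩⟩
    exact exists_extension_centralizer hS hF hT hC hCT hfcC hl hn hcop

/-- Over `C_S(E)` there is a normal subsystem of `F` lying in `C_F(T)`. -/
theorem exists_centralizer_normal (hS : IsPGroup p S) (hE : E.IsNormalIn F p) :
    ∃ D : FusionSystem (centOf F E),
      D.IsNormalIn F p ∧ ∀ P : Subgroup Ω, D.Hom P ⊆ F.centralizerHom T P :=
  let ⟨D, h, _⟩ := exists_centralizer_normal_pPower hS hE
  ⟨D, h⟩

end CfsgLib.Fusion
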