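import Cfsg.Agent.Lib.Fusion.NormalCentralizerClosed

/-!
# Maps inside `C_S(E)` extend over `T`
-/

set_option autoImplicit false

namespace CfsgLib.Fusion

open Cfsg Cfsg.FusionSystem

universe u

variable {Ω : Type u} [Group Ω] {S T : Subgroup Ω} {F : FusionSystem S} {E : FusionSystem T}
  {p : ℕ} [Fact p.Prime] [Finite S]

/-- A map of the system with source in `C_S(E)` extends to a map on the product with `T`. -/
theorem exists_extend_of_le_centOf (hS : IsPGroup p S) (hE : E.IsNormalIn F p) {P : Subgroup Ω}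
    (hP : P ≤ centOf F E) {φ : P →* Ω} (hφ : φ ∈ F.Hom P) :
    ∃ ψ ∈ F.Hom (P ⊔ T), ∀ x : P, ψ (Subgroup.inclusion le_sup_left x) = φ x := by
  have hE' := hE
  obtain ⟨⟨hEs, hF, hEi⟩, -⟩ := hE'
  have hT := hEi.2.1
  have hC := stronglyClosed_centOf hS hE
  have hres : ∀ {L : Subgroup Ω} {χ : L →* Ω}, χ ∈ F.Hom L → T ≤ L →
      ∃ ψ ∈ F.Hom ((L ⊓ centOf F E) ⊔ T), ∀ x : ↥(L ⊓ centOf F E),
        ψ (Subgroup.inclusion le_sup_left x) = χ (Subgroup.inclusion inf_le_left x) :=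
    fun hχ hTL => ⟨_, restrict_mem hχ (sup_le inf_le_left hTL), fun x => rfl⟩
  let FC : FusionSystem S :=
    { Hom := fun L => {χ | χ ∈ F.Hom L ∧ ∃ ψ ∈ F.Hom ((L ⊓ centOf F E) ⊔ T),
        ∀ x : ↥(L ⊓ centOf F E),
          ψ (Subgroup.inclusion le_sup_left x) = χ (Subgroup.inclusion inf_le_left x)}
      le_of_mem := fun h => F.le_of_mem h.1
      injective_of_mem := fun h => F.injective_of_mem h.1
      conj_mem := fun {L g} hL hg => ⟨F.conj_mem hL hg, conjHom _ g,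
        F.conj_mem (sup_le (inf_le_left.trans hL) hT.1) hg, fun x => rfl⟩
      comp_mem := fun {L M χ η} hχ hη h => by
        obtain ⟨a, ha, hav⟩ := hχ.2
        obtain ⟨b, hb, hbv⟩ := hη.2
        have hv : ∀ k, a k ∈ (M ⊓ centOf F E) ⊔ T := fun k => range_le_of_gens
          (fun x => Subgroup.mem_sup_left (by
            rw [hav]
            exact ⟨h _, StronglyClosed.apply_mem hC hχ.1 x.2.2⟩))
          (fun y => Subgroup.mem_sup_right (StronglyClosed.apply_mem hT ha y.2)) ⟨k, rfl⟩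
        refine ⟨F.comp_mem hχ.1 hη.1 h, _, F.comp_mem ha hb hv, fun x => ?_⟩
        exact (congrArg b (Subtype.ext (hav x))).trans
          (hbv ⟨χ (Subgroup.inclusion inf_le_left x), h _,
            StronglyClosed.apply_mem hC hχ.1 x.2.2⟩)
      inv_mem := fun {L χ} hχ => by
        obtain ⟨χ', hχ', hχ'v⟩ := F.inv_mem hχ.1
        refine ⟨χ', ⟨hχ', ?_⟩, hχ'v⟩
        obtain ⟨a, ha, hav⟩ := hχ.2
        have hback : ∀ y : χ.range, (y : Ω) ∈ centOf F E → ∀ x : L, χ x = y →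
            (x : Ω) ∈ centOf F E := by
          intro y hy x hxy
          have h1 := StronglyClosed.apply_mem hC hχ' (x := ⟨χ x, x, rfl⟩)
            (show χ x ∈ centOf F E by rw [hxy]; exact hy)
          rwa [hχ'v x] at h1
        have hTa : T ≤ a.range := fun t ht => by
          obtain ⟨s, hs⟩ := ((StronglyClosed.weaklyClosed hT).2 _
            (restrict_mem ha le_sup_right)).ge ht
          exact ⟨Subgroup.inclusion le_sup_right s, hs⟩
        have hle : (χ.range ⊓ centOf F E) ⊔ T ≤ a.range := sup_le (by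
          rintro _ ⟨⟨x, rfl⟩, hy⟩
          exact ⟨Subgroup.inclusion le_sup_left ⟨x, x.2, hback ⟨χ x, x, rfl⟩ hy x rfl⟩, hav _⟩) hTa
        obtain ⟨ι, hι, -, hιl, -⟩ := exists_inv ha rfl
        refine ⟨_, restrict_mem hι hle, ?_⟩
        rintro ⟨_, ⟨x, rfl⟩, hy⟩
        show ι ⟨χ x, _⟩ = χ' ⟨χ x, _⟩
        let w : ↥((L ⊓ centOf F E) ⊔ T) :=
          Subgroup.inclusion le_sup_left ⟨x, x.2, hback ⟨χ x, x, rfl⟩ hy x rfl⟩
        have e : a w = χ x := hav ⟨x, x.2, hback ⟨χ x, x, rfl⟩ hy x rfl⟩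
        calc ι ⟨χ x, _⟩ = ι ⟨a w, w, rfl⟩ := congrArg ι (Subtype.ext e.symm)
          _ = (x : Ω) := hιl w ⟨w, rfl⟩
          _ = χ' ⟨χ x, _⟩ := (hχ'v x).symm }
  have hFC : F ≤ FC := by
    refine alperin_gen hS hF FC ?_ ?_
    · intro a ha
      have h1 := (mem_autGroup_iff le_rfl).1 ha
      exact (mem_autGroup_iff le_rfl).2 ⟨h1, hres h1 hT.1⟩
    intro L hLS hess hup
    by_cases hTL : T ≤ L
    · intro a ha
      have h1 := (mem_autGroup_iff hLS.le).1 ha
      exact Subgroup.mem_sup_left ((mem_autGroup_iff hLS.le).2 ⟨h1, hres h1 hTL⟩)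
    refine autGroup_le_sup_ext_centOf hS hE hLS hess hTL
      (fun M _ χ hχ x hx => StronglyClosed.apply_mem hC hχ hx) (FC.autGroup L)
      (fun b hb => autInducedBy_le_autGroup hLS.le hb) fun δ hδ hfix => ?_
    refine (mem_autGroup_iff hLS.le).2 ⟨(mem_autGroup_iff hLS.le).1 hδ, _,
      incl_mem (sup_le (inf_le_left.trans hLS.le) hT.1), fun x => ?_⟩
    show (x : Ω) = ((δ (Subgroup.inclusion inf_le_left x) : L) : Ω)
    rw [hfix _ x.2.2]
    rfl
  obtain ⟨-, ψ, hψ, hψv⟩ := hFC P hφ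
  exact ⟨_, restrict_mem hψ (sup_le_sup_right (le_inf le_rfl hP) T),
    fun x => hψv ⟨x, x.2, hP x.2⟩⟩

end CfsgLib.Fusion
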