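import Cfsg.Agent.Lib.Fusion.NormalCentralizer
import Cfsg.Agent.Lib.Fusion.PrimeIndexLift
import Cfsg.Agent.Lib.Fusion.CentricExtend
import Cfsg.Agent.Lib.Fusion.NormalCriterion
import Mathlib.GroupTheory.Transfer

/-!
# Averaging over the lifts to `R C_S(R)`

An element `c` centralizing `T` becomes, up to a power prime to `p` and an element of `Z(R)` centralized
by `N_T(R)`, fixed by the lifts of order prime to `p`.
-/

set_option autoImplicit false

namespace CfsgLib.Fusion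

open Cfsg Cfsg.FusionSystem
open scoped commutatorElement

/-! ### Cocycles -/

/-- Averaging a cocycle which is a homomorphism with fixed values on a subgroup of index prime to
`p`. -/
theorem average_cocycle {L M : Type*} [Group L] [Finite L] [CommGroup M] {p : ℕ} [Fact p.Prime]
    (σ : L →* MulAut M) (hM : IsPGroup p M) (Q : Subgroup L) (hm : Q.index.Coprime p) (u : L → M)
    (hu : ∀ x y, u (x * y) = u x * σ x (u y)) (hfix : ∀ q ∈ Q, ∀ x, σ x (u q) = u q)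
    (hst : ∀ x, ∀ q ∈ Q, x * q * x⁻¹ ∈ Q → u (x * q * x⁻¹) = u q) :
    ∃ k : ℕ, k.Coprime p ∧ ∃ v : M, (∀ q ∈ Q, σ q v = v) ∧
      ∀ x, (∃ n : ℕ, x ^ n = 1 ∧ n.Coprime p) → σ x v * u x ^ k = v := by
  classical
  set m := Q.index with hmdef
  let Fix : Subgroup M :=
    { carrier := {a | ∀ x, σ x a = a}
      one_mem' := fun x => map_one _
      mul_mem' := fun ha hb x => by rw [map_mul, ha x, hb x]
      inv_mem' := fun ha x => by rw [map_inv, ha x] }
  let φ : Q →* Fix := MonoidHom.mk' (fun q => ⟨u q, fun x => hfix q q.2 x⟩) fun a b =>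
    Subtype.ext (by
      show u ((a : L) * b) = u a * u b
      rw [hu, hfix b b.2])
  let V : L →* Fix := MonoidHom.transfer φ
  have hVq : ∀ q : Q, V (q : L) = φ q ^ m := by
    intro q
    refine transfer_eq_pow_index φ q fun k g hg => ?_
    rw [← map_pow]
    refine Subtype.ext ?_
    have h1 := hst g⁻¹ ((q : L) ^ k) (Q.pow_mem q.2 k) (by rwa [inv_inv])
    rw [inv_inv] at h1
    show u (g⁻¹ * (q : L) ^ k * g) = u ((q ^ k : Q) : L)
    rw [h1, SubgroupClass.coe_pow]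
  let w : L → M := fun x => u x ^ m / (V x : M)
  have hw : ∀ x y, w (x * y) = w x * σ x (w y) := by
    intro x y
    show u (x * y) ^ m / ((V (x * y) : Fix) : M) = u x ^ m / (V x : M) *
      σ x (u y ^ m / (V y : M))
    rw [hu, mul_pow, map_mul, Subgroup.coe_mul, map_div, map_pow, (V y).2 x, div_mul_div_comm]
  have hwQ : ∀ q ∈ Q, w q = 1 := by
    intro q hq
    show u q ^ m / (V q : M) = 1
    rw [hVq ⟨q, hq⟩, SubgroupClass.coe_pow, div_eq_one]
    rfl
  haveI := Fintype.ofFinite (L ⧸ Q)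
  let f : L ⧸ Q → M := fun z => Quotient.liftOn' z w fun a b hab => by
    have h := hw a (a⁻¹ * b)
    rw [mul_inv_cancel_left, hwQ _ (QuotientGroup.leftRel_apply.1 hab), map_one, mul_one] at h
    exact h.symm
  have hf : ∀ (g : L) z, f (g • z) = w g * σ g (f z) := fun g z =>
    Quotient.inductionOn' z fun a => hw g a
  set v := ∏ z, f z with hv
  have hgv : ∀ g, σ g v * w g ^ m = v := by
    intro g
    have h1 : ∏ z, f (g • z) = v := Fintype.prod_equiv (MulAction.toPerm g) _ _ fun z => rfl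
    conv_rhs => rw [← h1]
    simp only [hf, Finset.prod_mul_distrib, Finset.prod_const, Finset.card_univ]
    rw [hv, map_prod, ← Nat.card_eq_fintype_card, ← Subgroup.index_eq_card, mul_comm, hmdef]
  refine ⟨m * m, hm.mul_left hm, v, fun q hq => ?_, ?_⟩
  · have h := hgv q
    rwa [hwQ q hq, one_pow, mul_one] at h
  rintro x ⟨n, hn, hcop⟩
  have hVx : V x = 1 := by
    obtain ⟨a, ha⟩ := (hM.to_subgroup Fix) (V x)
    refine eq_one_of_coprime_pow (p := p) (Nat.Coprime.coprime_dvd_left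
      (orderOf_dvd_of_pow_eq_one ?_) hcop) ha
    rw [← map_pow, hn, map_one]
  have h := hgv x
  have hwx : w x = u x ^ m := by
    show u x ^ m / (V x : M) = u x ^ m
    rw [hVx, Subgroup.coe_one, div_one]
  rwa [hwx, ← pow_mul] at h

/-- The action of a group of automorphisms on an invariant subgroup. -/
def subAct {W : Type*} [Group W] (L : Subgroup (MulAut W)) (N : Subgroup W)
    (h : ∀ x ∈ L, ∀ y ∈ N, (x : MulAut W) y ∈ N) : L →* MulAut N :=
  MonoidHom.mk' (fun x =>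
    { toFun := fun y => ⟨(x : MulAut W) (y : W), h x x.2 y y.2⟩
      invFun := fun y => ⟨(x : MulAut W)⁻¹ (y : W), h _ (inv_mem x.2) y y.2⟩
      left_inv := fun y => Subtype.ext (MulAut.inv_apply_self W _ _)
      right_inv := fun y => Subtype.ext (MulAut.apply_inv_self W _ _)
      map_mul' := fun a b => Subtype.ext (map_mul (x : MulAut W) (a : W) (b : W)) })
    fun _ _ => MulEquiv.ext fun _ => Subtype.ext rfl

universe u

variable {Ω : Type u} [Group Ω] {S T : Subgroup Ω} {F : FusionSystem S} {E : FusionSystem T}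
  {p : ℕ}

/-- An automorphism of `R C_S(R)` fixing `R` and trivial modulo `R` is conjugation by an element of
`C_S(R)`. -/
theorem exists_conj_of_kernel [Fact p.Prime] [Finite S] (hS : IsPGroup p S) (hF : F.IsSaturated p)
    {R : Subgroup Ω} (hR : F.IsFullyCentralized R) {z : MulAut ↥(R ⊔ centralizerIn S R)}
    (hz : TrivAut F R z)
    (hzR : ∀ r : ↥(R ⊔ centralizerIn S R), (r : Ω) ∈ R → z r = r) :
    ∃ d ∈ centralizerIn S R,
      ∀ w : ↥(R ⊔ centralizerIn S R), ((z w : _) : Ω) = d * (w : Ω) * d⁻¹ := by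
  have hWS : R ⊔ centralizerIn S R ≤ S := sup_centralizerIn_le_S hR.1
  have hD := centSystem_isCentralizerSystem F R hR.1
  set D := centSystem F R hR.1 with hDdef
  have hDsat : D.IsSaturated p := centralizerSystem_saturated hS hF hR hD
  have hCS : centralizerIn S R ≤ S := centralizerIn_le R
  have := finite_le hCS
  have hCp : IsPGroup p (centralizerIn S R) := hS.to_le hCS
  have := finite_mulAut_of_le (S := S) hCS
  have hzC : ∀ c : ↥(R ⊔ centralizerIn S R), (c : Ω) ∈ centralizerIn S R →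
      ((z c : _) : Ω) ∈ centralizerIn S R := hz.apply_centralizer hR.1
  -- members of `Aut_D(C_S(R))` fix `R ∩ C_S(R)`
  have hfixR : ∀ α ∈ D.autGroup (centralizerIn S R), ∀ c : centralizerIn S R, (c : Ω) ∈ R →
      α c = c := by
    intro α hα c hc
    obtain ⟨-, -, -, ψ, -, hψC, hψR⟩ := (hD _).le ((mem_autGroup_iff le_rfl).1 hα)
    refine Subtype.ext ?_
    have h1 := hψR ⟨c, hc⟩
    have h2 := hψC c
    exact h2.symm.trans ((congrArg ψ (Subtype.ext rfl)).trans h1)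
  let Kd : Subgroup (MulAut (centralizerIn S R)) :=
    { carrier := {α | α ∈ D.autGroup (centralizerIn S R) ∧
        ∀ c : centralizerIn S R, ((c⁻¹ * α c : centralizerIn S R) : Ω) ∈ R}
      one_mem' := ⟨one_mem _, fun c => by simp⟩
      mul_mem' := fun {a b} ha hb => by
        refine ⟨mul_mem ha.1 hb.1, fun c => ?_⟩
        have h1 : c⁻¹ * (a * b) c = c⁻¹ * b c * ((b c)⁻¹ * a (b c)) := by
          rw [mul_assoc, mul_inv_cancel_left]; rfl
        rw [h1]
        exact R.mul_mem (hb.2 c) (ha.2 (b c))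
      inv_mem' := fun {a} ha => by
        refine ⟨inv_mem ha.1, fun c => ?_⟩
        have h1 := R.inv_mem (ha.2 (a⁻¹ c))
        rw [MulAut.apply_inv_self] at h1
        simpa using h1 }
  have hKp : IsPGroup p Kd := by
    rintro ⟨α, hα⟩
    obtain ⟨e, he⟩ := IsPGroup.iff_card.1 hCp
    refine ⟨e, Subtype.ext (MulEquiv.ext fun c => ?_)⟩
    show (α ^ p ^ e) c = c
    rw [pow_shift α (mul_inv_cancel_left c (α c)).symm (hfixR α hα.1 _ (hα.2 c)) (p ^ e), ← he,
      pow_card_eq_one', mul_one]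
  have hKn : ∀ h ∈ D.autGroup (centralizerIn S R), ∀ k ∈ Kd, h⁻¹ * k * h ∈ Kd := by
    intro h hh k hk
    refine ⟨mul_mem (mul_mem (inv_mem hh) hk.1) hh, fun c => ?_⟩
    have h1 : c⁻¹ * (h⁻¹ * k * h) c = h⁻¹ ((h c)⁻¹ * k (h c)) := by
      rw [map_mul, map_inv, MulAut.inv_apply_self]; rfl
    rw [h1, hfixR _ (inv_mem hh) _ (hk.2 _)]
    exact hk.2 _
  -- the restriction of `z`
  have hres := restrict_mem ((mem_autGroup_iff hWS).1 hz.1) (le_sup_right (a := R))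
  have hle : (((R ⊔ centralizerIn S R).subtype.comp z.toMonoidHom).comp
      (Subgroup.inclusion le_sup_right)).range ≤ centralizerIn S R := by
    rintro _ ⟨c, rfl⟩
    exact hzC _ c.2
  obtain ⟨α, hα, hαv⟩ := exists_iso hres (Subgroup.eq_of_le_of_card_ge hle
    (le_of_eq (Nat.card_congr (MonoidHom.ofInjective (F.injective_of_mem hres)).toEquiv)))
  have hαD : (α : MulAut (centralizerIn S R)) ∈ D.autGroup (centralizerIn S R) := by
    refine (mem_autGroup_iff le_rfl).2 ((hD _).ge ⟨hα.mem, le_rfl, fun c => (α c).2,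
      _, restrict_mem ((mem_autGroup_iff hWS).1 hz.1) (sup_comm _ _).le, fun c => (hαv c).symm,
      fun r => ?_⟩)
    exact congrArg Subtype.val (hzR _ r.2)
  have hαK : (α : MulAut (centralizerIn S R)) ∈ Kd := ⟨hαD, fun c => by
    rw [Subgroup.coe_mul, hαv, Subgroup.coe_inv]
    exact hz.2.2 (Subgroup.inclusion le_sup_right c) c.2⟩
  -- a normal `p`-subgroup lies in the Sylow subgroup of inner automorphisms
  obtain ⟨h, hh, hv⟩ := (IsSaturated.top_autGroup_sylow hCp hDsat).exists_conj_mem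
    (fun a ha => (show a ∈ D.autGroup (centralizerIn S R) ∧ _ from ha).1) hKp
  have hin := hv _ (hKn h hh _ hαK)
  rw [show h * (h⁻¹ * α * h) * h⁻¹ = (α : MulAut (centralizerIn S R)) by group] at hin
  obtain ⟨d, hd⟩ := hin
  refine ⟨d, d.2, fun w => ?_⟩
  let g : ↥(R ⊔ centralizerIn S R) →* Ω := (MulAut.conj (d : Ω)).toMonoidHom.comp
    (R ⊔ centralizerIn S R).subtype
  suffices hsub : ⊤ ≤ ((R ⊔ centralizerIn S R).subtype.comp z.toMonoidHom).eqLocus g from
    hsub (Subgroup.mem_top w)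
  rw [← Subgroup.subgroupOf_self (H := R ⊔ centralizerIn S R),
    Subgroup.subgroupOf_sup le_sup_left le_sup_right]
  refine sup_le (fun r hr => ?_) fun c hc => ?_
  · show ((z r : _) : Ω) = (d : Ω) * (r : Ω) * (d : Ω)⁻¹
    rw [hzR r hr, ← (mem_centralizerIn.1 d.2).2 r hr, mul_inv_cancel_right]
  · show ((z c : _) : Ω) = (d : Ω) * (c : Ω) * (d : Ω)⁻¹
    have h1 := hαv ⟨c, hc⟩
    rw [← hd] at h1
    exact h1.symm

/-- The automorphisms of `R C_S(R)` trivial modulo `R` restricting into `A`. -/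
def liftIn [Finite S] (F : FusionSystem S) {R : Subgroup Ω} (hR : R ≤ S)
    (A : Subgroup (MulAut R)) : Subgroup (MulAut ↥(R ⊔ centralizerIn S R)) where
  carrier := {x | TrivAut F R x ∧ ∃ a ∈ A, ∀ (r : Ω) (hr : r ∈ R),
    ((x ⟨r, le_sup_left (b := centralizerIn S R) hr⟩ : _) : Ω) = ((a ⟨r, hr⟩ : R) : Ω)}
  one_mem' := ⟨TrivAut.one R, 1, one_mem _, fun r hr => rfl⟩
  mul_mem' := by
    rintro x y ⟨hx, a, ha, hxa⟩ ⟨hy, b, hb, hyb⟩
    refine ⟨hx.mul hy, a * b, mul_mem ha hb, fun r hr => ?_⟩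
    show ((x (y ⟨r, _⟩) : _) : Ω) = _
    rw [show y ⟨r, le_sup_left (b := centralizerIn S R) hr⟩ =
      ⟨((b ⟨r, hr⟩ : R) : Ω), le_sup_left (b := centralizerIn S R) (b ⟨r, hr⟩).2⟩ from
      Subtype.ext (hyb r hr), hxa _ (b ⟨r, hr⟩).2]
    rfl
  inv_mem' := by
    rintro x ⟨hx, a, ha, hxa⟩
    refine ⟨hx.inv hR, a⁻¹, inv_mem ha, fun r hr => ?_⟩
    have h1 : x ⟨((a⁻¹ ⟨r, hr⟩ : R) : Ω), le_sup_left (b := centralizerIn S R) (a⁻¹ ⟨r, hr⟩).2⟩ =
        ⟨r, le_sup_left (b := centralizerIn S R) hr⟩ :=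
      Subtype.ext (by rw [hxa _ (a⁻¹ ⟨r, hr⟩).2, Subtype.coe_eta, MulAut.apply_inv_self])
    rw [← h1, MulAut.inv_apply_self]

variable [Fact p.Prime] [Finite S]

/-- Averaging over the lifts. -/
theorem lift_average (hS : IsPGroup p S) (hF : F.IsSaturated p) (hT : F.StronglyClosed T)
    {R : Subgroup Ω} (hRT : R ≤ T) (hR : F.IsFullyNormalized R) (hRc : centralizerIn T R ≤ R)
    (A : Subgroup (MulAut R)) (hAP : autInducedBy T R ≤ A)
    (hsyl : IsSylowIn p (autInducedBy T R) A) (hlift : ∀ a ∈ A, Liftable F R a)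
    {c : Ω} (hc : c ∈ centralizerIn S T) (M : Subgroup Ω)
    (hM : M ≤ R ⊓ Subgroup.centralizer (R : Set Ω))
    (hMinv : ∀ x ∈ liftIn F hR.1 A, ∀ y : ↥(R ⊔ centralizerIn S R),
      (y : Ω) ∈ M → (((x : MulAut ↥(R ⊔ centralizerIn S R)) y : _) : Ω) ∈ M)
    (hu : ∀ x ∈ liftIn F hR.1 A, ∀ y : ↥(R ⊔ centralizerIn S R),
      (y : Ω) = c → ((y⁻¹ * (x : MulAut ↥(R ⊔ centralizerIn S R)) y : _) : Ω) ∈ M) :
    ∃ k : ℕ, k.Coprime p ∧ ∃ v ∈ M, (∀ t ∈ normalizerIn T R, t * v = v * t) ∧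
      ∀ x ∈ liftIn F hR.1 A, (∃ n : ℕ, x ^ n = 1 ∧ n.Coprime p) →
        ∀ y : ↥(R ⊔ centralizerIn S R), (y : Ω) = c ^ k * v → x y = y := by
  classical
  have hfc := IsSaturated.fullyCentralized hS hF hR
  have hWS : R ⊔ centralizerIn S R ≤ S := sup_centralizerIn_le_S hR.1
  have := finite_le hWS
  have := finite_mulAut_of_le (S := S) hWS
  have := finite_mulAut_of_le (S := S) hR.1
  have hcR : c ∈ centralizerIn S R := centralizerIn_antitone hRT hc
  set L := liftIn F hR.1 A with hL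
  obtain ⟨c₀, hc₀⟩ : ∃ c₀ : ↥(R ⊔ centralizerIn S R), (c₀ : Ω) = c :=
    ⟨⟨c, Subgroup.mem_sup_right hcR⟩, rfl⟩
  have hcR₀ : (c₀ : Ω) ∈ centralizerIn S R := hc₀.symm ▸ hcR
  set N : Subgroup ↥(R ⊔ centralizerIn S R) := M.subgroupOf _ with hN
  have hNcomm : ∀ a b : N, a * b = b * a := fun a b => by
    refine Subtype.ext (Subtype.ext ?_)
    exact Subgroup.mem_centralizer_iff.1 (hM b.2).2 _ (hM a.2).1
  letI : CommGroup N := { (inferInstance : Group N) with mul_comm := hNcomm }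
  have hNp : IsPGroup p N := (hS.to_le hWS).to_subgroup N
  set σ : L →* MulAut N := subAct L N (fun x hx y hy => hMinv x hx y hy) with hσ
  let u : L → N := fun x => ⟨c₀⁻¹ * (x : MulAut ↥(R ⊔ centralizerIn S R)) c₀, hu x x.2 c₀ hc₀⟩
  have hcoc : ∀ x y, u (x * y) = u x * σ x (u y) := fun x y => Subtype.ext (by
    show c₀⁻¹ * (x : MulAut ↥(R ⊔ centralizerIn S R)) ((y : MulAut ↥(R ⊔ centralizerIn S R)) c₀) =
      c₀⁻¹ * (x : MulAut ↥(R ⊔ centralizerIn S R)) c₀ * (x : MulAut ↥(R ⊔ centralizerIn S R)) (c₀⁻¹ * (y : MulAut ↥(R ⊔ centralizerIn S R)) c₀)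
    rw [mul_assoc, ← map_mul, mul_inv_cancel_left])
  -- the restriction to `R`
  have hex : ∀ x : L, ∃ a : A, ∀ (r : Ω) (hr : r ∈ R),
      (((x : MulAut ↥(R ⊔ centralizerIn S R)) ⟨r, le_sup_left (b := centralizerIn S R) hr⟩ : _) : Ω) =
        (((a : MulAut R) ⟨r, hr⟩ : R) : Ω) := fun x => by
    obtain ⟨a, ha, hv⟩ := x.2.2
    exact ⟨⟨a, ha⟩, hv⟩
  choose res hresv using hex
  have huniq : ∀ (x : L) (a : A), (∀ (r : Ω) (hr : r ∈ R),
      (((x : MulAut ↥(R ⊔ centralizerIn S R)) ⟨r, le_sup_left (b := centralizerIn S R) hr⟩ : _) : Ω) =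
        (((a : MulAut R) ⟨r, hr⟩ : R) : Ω)) → res x = a := fun x a h =>
    Subtype.ext (MulEquiv.ext fun r => Subtype.ext ((hresv x r r.2).symm.trans (h r r.2)))
  let res' : L →* A := MonoidHom.mk' res fun x y => huniq _ _ fun r hr => by
    show (((x : MulAut ↥(R ⊔ centralizerIn S R)) ((y : MulAut ↥(R ⊔ centralizerIn S R)) ⟨r, _⟩) : _) : Ω) = _
    rw [show (y : MulAut ↥(R ⊔ centralizerIn S R)) ⟨r, le_sup_left (b := centralizerIn S R) hr⟩ =
      ⟨(((res y : MulAut R) ⟨r, hr⟩ : R) : Ω),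
        le_sup_left (b := centralizerIn S R) ((res y : MulAut R) ⟨r, hr⟩).2⟩ from
      Subtype.ext (hresv y r hr), hresv x _ ((res y : MulAut R) ⟨r, hr⟩).2]
    rfl
  have hsurj : Function.Surjective res' := fun a => by
    obtain ⟨x, hx, hv⟩ := hlift a a.2
    exact ⟨⟨x, hx, a, a.2, hv⟩, huniq _ _ hv⟩
  set Q : Subgroup L := ((autInducedBy T R).subgroupOf A).comap res' with hQ
  have hQi : Q.index.Coprime p := by
    obtain ⟨U, hU⟩ := hsyl
    rw [hQ, Subgroup.index_comap_of_surjective _ hsurj, ← hU]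
    exact ((Fact.out : p.Prime).coprime_iff_not_dvd.2 U.not_dvd_index).symm
  -- elements of `Q` are conjugations by `t d`
  have hQconj : ∀ q ∈ Q, ∃ t ∈ normalizerIn T R, ∃ d ∈ centralizerIn S R,
      ∀ w : ↥(R ⊔ centralizerIn S R),
        (((q : MulAut ↥(R ⊔ centralizerIn S R)) w : _) : Ω) = t * d * (w : Ω) * (t * d)⁻¹ := by
    intro q hq
    obtain ⟨t, ht, htv⟩ := mem_autInducedBy_iff.1 (Subgroup.mem_subgroupOf.1 hq)
    have htN : t ∈ normalizerIn T R := ⟨ht, mem_normalizer_of_conj_eq _ htv⟩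
    obtain ⟨τ, hτ, hτv⟩ := exists_conj_trivAut hT hRT hRc htN
    obtain ⟨d, hd, hdv⟩ := exists_conj_of_kernel hS hF hfc ((hτ.inv hR.1).mul q.2.1) (fun r hr => by
      show τ⁻¹ ((q : MulAut ↥(R ⊔ centralizerIn S R)) r) = r
      rw [show (q : MulAut ↥(R ⊔ centralizerIn S R)) r = τ r from Subtype.ext (by
        rw [hτv]; exact (hresv q r hr).trans (htv ⟨r, hr⟩)), MulAut.inv_apply_self])
    refine ⟨t, htN, d, hd, fun w => ?_⟩
    have h1 : (q : MulAut ↥(R ⊔ centralizerIn S R)) w = τ ((τ⁻¹ * (q : MulAut ↥(R ⊔ centralizerIn S R))) w) := by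
      rw [MulAut.mul_apply, MulAut.apply_inv_self]
    rw [h1, hτv, hdv]
    group
  have hfix : ∀ q ∈ Q, ∀ x, σ x (u q) = u q := by
    intro q hq x
    obtain ⟨t, ht, d, hd, hqv⟩ := hQconj q hq
    have htc : t * c = c * t := (mem_centralizerIn.1 hc).2 t ht.1
    obtain ⟨τ, hτ, hτv⟩ := exists_conj_trivAut hT hRT hRc ht
    obtain ⟨d₀, hd₀⟩ : ∃ d₀ : ↥(R ⊔ centralizerIn S R), (d₀ : Ω) = d :=
      ⟨⟨d, Subgroup.mem_sup_right hd⟩, rfl⟩
    have hcomm : ((⁅c₀⁻¹, d₀⁆ : ↥(R ⊔ centralizerIn S R)) : Ω) ∈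
        ⁅centralizerIn S R, centralizerIn S R⁆ := by
      have h1 := Subgroup.commutator_mem_commutator (Subgroup.inv_mem _ hcR₀)
        (hd₀.symm ▸ hd : (d₀ : Ω) ∈ centralizerIn S R)
      simpa [commutatorElement_def] using h1
    have huq : c₀⁻¹ * (q : MulAut ↥(R ⊔ centralizerIn S R)) c₀ = τ ⁅c₀⁻¹, d₀⁆ := by
      refine Subtype.ext ?_
      rw [hτv, Subgroup.coe_mul, hqv, Subgroup.coe_inv, commutatorElement_def]
      simp only [Subgroup.coe_mul, Subgroup.coe_inv, hc₀, hd₀, inv_inv]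
      have h2 : c⁻¹ * t = t * c⁻¹ := by
        rw [inv_mul_eq_iff_eq_mul, ← mul_assoc, ← htc, mul_inv_cancel_right]
      calc c⁻¹ * (t * d * c * (t * d)⁻¹) = c⁻¹ * t * (d * c * d⁻¹ * t⁻¹) := by group
        _ = t * (c⁻¹ * d * c * d⁻¹) * t⁻¹ := by rw [h2]; group
    rw [hτ.fix_commutator hR.1 _ hcomm] at huq
    refine Subtype.ext ?_
    show (x : MulAut ↥(R ⊔ centralizerIn S R)) (c₀⁻¹ * (q : MulAut ↥(R ⊔ centralizerIn S R)) c₀) = c₀⁻¹ * (q : MulAut ↥(R ⊔ centralizerIn S R)) c₀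
    rw [huq]
    exact x.2.1.fix_commutator hR.1 _ hcomm
  have hst : ∀ x, ∀ q ∈ Q, x * q * x⁻¹ ∈ Q → u (x * q * x⁻¹) = u q := by
    intro x q hq hq'
    obtain ⟨t, ht, d, hd, hqv⟩ := hQconj q hq
    obtain ⟨t', ht', d', hd', hqv'⟩ := hQconj _ hq'
    have hsS : t * d ∈ S := S.mul_mem (hT.1 ht.1) hd.1
    have hs'S : t' * d' ∈ S := S.mul_mem (hT.1 ht'.1) hd'.1
    -- `x` extends to `t d`
    have hxe : IsoIn F ((x : MulAut ↥(R ⊔ centralizerIn S R)) : ↥(R ⊔ centralizerIn S R) ≃* ↥(R ⊔ centralizerIn S R)) :=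
      (mem_autGroup_iff_isoIn hWS).1 x.2.1.1
    have hrec := IsSaturated.receptive hS hF
      (fullyCentralized_of_centric (isCentric_sup_centralizerIn hfc))
    have hext : (R ⊔ centralizerIn S R) ⊔ Subgroup.zpowers (t * d) ≤
        extender S (R ⊔ centralizerIn S R)
          (isoHom ((x : MulAut ↥(R ⊔ centralizerIn S R)) : ↥(R ⊔ centralizerIn S R) ≃* ↥(R ⊔ centralizerIn S R))) := by
      refine sup_le (le_sup_left.trans (sup_le_extender hxe)) (Subgroup.zpowers_le.2 ?_)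
      refine mem_extender_iff.2 ⟨hsS, mem_normalizer_of_conj_eq _ hqv, t' * d', hs'S,
        fun w hw => ?_⟩
      have h1 := hqv' ((x : MulAut ↥(R ⊔ centralizerIn S R)) w)
      rw [show ((x * q * x⁻¹ : L) : MulAut ↥(R ⊔ centralizerIn S R)) ((x : MulAut ↥(R ⊔ centralizerIn S R)) w) =
          (x : MulAut ↥(R ⊔ centralizerIn S R)) ((q : MulAut ↥(R ⊔ centralizerIn S R)) w) by
        show (x : MulAut ↥(R ⊔ centralizerIn S R)) ((q : MulAut ↥(R ⊔ centralizerIn S R)) ((x : MulAut ↥(R ⊔ centralizerIn S R))⁻¹ ((x : MulAut ↥(R ⊔ centralizerIn S R)) w))) = _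
        rw [MulAut.inv_apply_self]] at h1
      show (((x : MulAut ↥(R ⊔ centralizerIn S R)) ⟨t * d * w * (t * d)⁻¹, hw⟩ : _) : Ω) =
        t' * d' * (((x : MulAut ↥(R ⊔ centralizerIn S R)) w : _) : Ω) * (t' * d')⁻¹
      rw [show (⟨t * d * w * (t * d)⁻¹, hw⟩ : ↥(R ⊔ centralizerIn S R)) = (q : MulAut ↥(R ⊔ centralizerIn S R)) w from
        Subtype.ext (hqv w).symm]
      exact h1
    obtain ⟨ψ, hψ, hψv⟩ := exists_extension hrec hxe le_sup_left hext
    let cU : ↥((R ⊔ centralizerIn S R) ⊔ Subgroup.zpowers (t * d)) := Subgroup.inclusion le_sup_left c₀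
    obtain ⟨tU, htU⟩ : ∃ tU : ↥((R ⊔ centralizerIn S R) ⊔ Subgroup.zpowers (t * d)),
        (tU : Ω) = t := by
      have h : t * d * d⁻¹ ∈ (R ⊔ centralizerIn S R) ⊔ Subgroup.zpowers (t * d) :=
        mul_mem (Subgroup.mem_sup_right (Subgroup.mem_zpowers _))
          (Subgroup.mem_sup_left (Subgroup.mem_sup_right (Subgroup.inv_mem _ hd)))
      rw [mul_inv_cancel_right] at h
      exact ⟨⟨t, h⟩, rfl⟩
    let dU : ↥((R ⊔ centralizerIn S R) ⊔ Subgroup.zpowers (t * d)) :=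
      Subgroup.inclusion le_sup_left ⟨d, Subgroup.mem_sup_right hd⟩
    have ht₁ : ψ tU ∈ T := StronglyClosed.apply_mem hT hψ (htU.symm ▸ ht.1)
    have hxc : ((ψ cU : Ω)) = (((x : MulAut ↥(R ⊔ centralizerIn S R)) c₀ : _) : Ω) := hψv c₀
    have hxd : ψ dU ∈ centralizerIn S R := by
      rw [show ψ dU = _ from hψv ⟨d, Subgroup.mem_sup_right hd⟩]
      exact x.2.1.apply_centralizer hR.1 _ hd
    have htc : t * c = c * t := (mem_centralizerIn.1 hc).2 t ht.1
    have hc1 : ψ tU * ψ cU = ψ cU * ψ tU := by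
      rw [← map_mul, ← map_mul]
      refine congrArg ψ (Subtype.ext ?_)
      show (tU : Ω) * (c₀ : Ω) = (c₀ : Ω) * (tU : Ω)
      rw [htU, hc₀, htc]
    have hc2 : ψ tU * c = c * ψ tU := (mem_centralizerIn.1 hc).2 _ ht₁
    -- so `u x` commutes with `ψ t` and `ψ d`
    have hux : ((u x : N) : Ω) = c⁻¹ * ψ cU := by
      show (((c₀⁻¹ * (x : MulAut ↥(R ⊔ centralizerIn S R)) c₀ : ↥(R ⊔ centralizerIn S R))) : Ω) = _
      rw [Subgroup.coe_mul, Subgroup.coe_inv, hc₀, hxc]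
    have hk1 : Commute (ψ tU) ((u x : N) : Ω) := by
      rw [hux]
      exact (Commute.inv_right hc2).mul_right hc1
    have hk2 : Commute (ψ dU) ((u x : N) : Ω) :=
      ((mem_centralizerIn.1 hxd).2 _ (hM (u x).2).1).symm
    have hq'v : ∀ w : ↥(R ⊔ centralizerIn S R),
        ((((x * q * x⁻¹ : L) : MulAut ↥(R ⊔ centralizerIn S R)) ((x : MulAut ↥(R ⊔ centralizerIn S R)) w) : _) : Ω) =
          ψ tU * ψ dU * (((x : MulAut ↥(R ⊔ centralizerIn S R)) w : _) : Ω) * (ψ tU * ψ dU)⁻¹ := by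
      intro w
      have e : ((x * q * x⁻¹ : L) : MulAut ↥(R ⊔ centralizerIn S R)) ((x : MulAut ↥(R ⊔ centralizerIn S R)) w) =
          (x : MulAut ↥(R ⊔ centralizerIn S R)) ((q : MulAut ↥(R ⊔ centralizerIn S R)) w) := by
        show (x : MulAut ↥(R ⊔ centralizerIn S R)) ((q : MulAut ↥(R ⊔ centralizerIn S R)) ((x : MulAut ↥(R ⊔ centralizerIn S R))⁻¹ ((x : MulAut ↥(R ⊔ centralizerIn S R)) w))) = _
        rw [MulAut.inv_apply_self]
      rw [e, show (((x : MulAut ↥(R ⊔ centralizerIn S R)) ((q : MulAut ↥(R ⊔ centralizerIn S R)) w) : _) : Ω) =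
        ψ (Subgroup.inclusion le_sup_left ((q : MulAut ↥(R ⊔ centralizerIn S R)) w)) from (hψv _).symm,
        show (((x : MulAut ↥(R ⊔ centralizerIn S R)) w : _) : Ω) = ψ (Subgroup.inclusion le_sup_left w) from (hψv _).symm,
        ← map_mul, ← map_inv, ← map_mul, ← map_mul]
      refine congrArg ψ (Subtype.ext ?_)
      show (((q : MulAut ↥(R ⊔ centralizerIn S R)) w : _) : Ω) = (tU : Ω) * d * (w : Ω) * ((tU : Ω) * d)⁻¹
      rw [hqv, htU]
    have hux' : ((x * q * x⁻¹ : L) : MulAut ↥(R ⊔ centralizerIn S R)) (u x : N) = (u x : N) := by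
      obtain ⟨w, hw⟩ : ∃ w, (x : MulAut ↥(R ⊔ centralizerIn S R)) w = (u x : N) :=
        ⟨_, MulAut.apply_inv_self _ (x : MulAut ↥(R ⊔ centralizerIn S R)) _⟩
      refine Subtype.ext ?_
      have h := hq'v w
      rw [hw] at h
      rw [h, (Commute.mul_left hk1 hk2).eq, mul_inv_cancel_right]
    refine Subtype.ext ?_
    have e1 : ((x * q * x⁻¹ : L) : MulAut ↥(R ⊔ centralizerIn S R)) ((x : MulAut ↥(R ⊔ centralizerIn S R)) c₀) =
        (x : MulAut ↥(R ⊔ centralizerIn S R)) ((q : MulAut ↥(R ⊔ centralizerIn S R)) c₀) := by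
      show (x : MulAut ↥(R ⊔ centralizerIn S R)) ((q : MulAut ↥(R ⊔ centralizerIn S R)) ((x : MulAut ↥(R ⊔ centralizerIn S R))⁻¹ ((x : MulAut ↥(R ⊔ centralizerIn S R)) c₀))) = _
      rw [MulAut.inv_apply_self]
    have e2 : (x : MulAut ↥(R ⊔ centralizerIn S R)) ((q : MulAut ↥(R ⊔ centralizerIn S R)) c₀) = (x : MulAut ↥(R ⊔ centralizerIn S R)) c₀ * (u q : N) := by
      rw [show (q : MulAut ↥(R ⊔ centralizerIn S R)) c₀ = c₀ * (u q : N) from (mul_inv_cancel_left c₀ _).symm, map_mul]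
      exact congrArg _ (congrArg Subtype.val (hfix q hq x))
    have e3 : ((x * q * x⁻¹ : L) : MulAut ↥(R ⊔ centralizerIn S R)) ((x : MulAut ↥(R ⊔ centralizerIn S R)) c₀) =
        c₀ * (u (x * q * x⁻¹) : N) * (u x : N) := by
      conv_lhs => rw [show (x : MulAut ↥(R ⊔ centralizerIn S R)) c₀ = c₀ * (u x : N) from (mul_inv_cancel_left c₀ _).symm]
      rw [map_mul, hux']
      exact congrArg (· * _) (mul_inv_cancel_left c₀ _).symm
    rw [e1, e2] at e3
    replace e3 := (congrArg (· * ((u q : N) : ↥(R ⊔ centralizerIn S R)))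
      (mul_inv_cancel_left c₀ ((x : MulAut ↥(R ⊔ centralizerIn S R)) c₀))).trans e3
    change c₀ * ((u x : N) : ↥(R ⊔ centralizerIn S R)) * (u q : N) =
      c₀ * (u (x * q * x⁻¹) : N) * (u x : N) at e3
    rw [mul_assoc c₀, mul_assoc c₀, mul_right_inj] at e3
    rw [show ((u (x * q * x⁻¹) : N) : ↥(R ⊔ centralizerIn S R)) * (u x : N) =
      (u x : N) * (u (x * q * x⁻¹) : N) from congrArg Subtype.val (hNcomm _ _), mul_right_inj] at e3
    exact e3.symm
  obtain ⟨k, hk, v, hvQ, hvx⟩ := average_cocycle σ hNp Q hQi u hcoc hfix hst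
  refine ⟨k, hk, ((v : ↥(R ⊔ centralizerIn S R)) : Ω), v.2, fun t ht => ?_,
    fun x hx hord y hy => ?_⟩
  · obtain ⟨τ, hτ, hτv⟩ := exists_conj_trivAut hT hRT hRc ht
    have ha : conjAut (S := T) ⟨t, ht⟩ ∈ A := hAP (conjAut_mem _)
    have hτL : τ ∈ L := ⟨hτ, _, ha, fun r hr => hτv _⟩
    have hτQ : (⟨τ, hτL⟩ : L) ∈ Q := by
      rw [hQ, Subgroup.mem_comap, Subgroup.mem_subgroupOf, show res' ⟨τ, hτL⟩ = ⟨_, ha⟩ from
        huniq _ _ fun r hr => hτv _]
      exact conjAut_mem _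
    have h1 := congrArg (fun z : N => ((z : ↥(R ⊔ centralizerIn S R)) : Ω)) (hvQ _ hτQ)
    have h2 : t * ((v : ↥(R ⊔ centralizerIn S R)) : Ω) * t⁻¹ = (v : ↥(R ⊔ centralizerIn S R)) :=
      (hτv _).symm.trans h1
    exact mul_inv_eq_iff_eq_mul.1 h2
  · obtain ⟨n, hn, hcop⟩ := hord
    have h1 := congrArg (fun z : N => (z : ↥(R ⊔ centralizerIn S R)))
      (hvx ⟨x, hx⟩ ⟨n, Subtype.ext (by rw [SubgroupClass.coe_pow]; exact hn), hcop⟩)
    rw [show y = c₀ ^ k * (v : ↥(R ⊔ centralizerIn S R)) from Subtype.ext (by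
      rw [hy, Subgroup.coe_mul, SubgroupClass.coe_pow, hc₀]), map_mul, map_pow,
      show x c₀ = c₀ * (u ⟨x, hx⟩ : N) from (mul_inv_cancel_left c₀ _).symm]
    have hcu : Commute c₀ ((u ⟨x, hx⟩ : N) : ↥(R ⊔ centralizerIn S R)) := Subtype.ext
      ((mem_centralizerIn.1 hcR₀).2 _ (hM (u ⟨x, hx⟩).2).1).symm
    rw [hcu.mul_pow, mul_assoc]
    refine congrArg (c₀ ^ k * ·) ?_
    have h2 : ((σ ⟨x, hx⟩ v * u ⟨x, hx⟩ ^ k : N) : ↥(R ⊔ centralizerIn S R)) = v := h1
    rw [hNcomm, Subgroup.coe_mul, SubgroupClass.coe_pow] at h2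
    exact h2

end CfsgLib.Fusion
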