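import Cfsg.Agent.Lib.Fusion.Saturated
import Mathlib.GroupTheory.Nilpotent

/-!
The Roberts–Shpectorov criterion: it is enough that `S` is fully automized and every fully
normalized subgroup is receptive.
-/

set_option autoImplicit false

namespace CfsgLib.Fusion

open Cfsg Cfsg.FusionSystem

variable {Ω : Type*} [Group Ω] {S : Subgroup Ω} {F : FusionSystem S} {p : ℕ}

theorem fullyNormalized_top [Finite S] : F.IsFullyNormalized S := by
  refine ⟨le_rfl, fun Q hQ => ?_⟩
  have h : Q = S := Subgroup.eq_of_le_of_card_ge (isConj_le_right hQ) (isConj_card hQ).le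
  rw [h]

/-- Extensions of automorphisms are compatible with powers. -/
theorem extends_pow {P N : Subgroup Ω} (hPN : P ≤ N) {α : MulAut P} {β : MulAut N}
    (h : ∀ x : P, ((β (Subgroup.inclusion hPN x) : N) : Ω) = α x) (n : ℕ) :
    ∀ x : P, (((β ^ n) (Subgroup.inclusion hPN x) : N) : Ω) = (α ^ n) x := by
  induction n with
  | zero => intro x; rfl
  | succ n ih =>
      intro x
      rw [pow_succ, pow_succ, MulAut.mul_apply, MulAut.mul_apply]
      have : β (Subgroup.inclusion hPN x) = Subgroup.inclusion hPN (α x) := Subtype.ext (h x)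
      rw [this]
      exact ih _

theorem fullyAutomized_of_criterion [Finite S] [Fact p.Prime] (hS : IsPGroup p S)
    (htop : F.IsFullyAutomized p S)
    (hrec : ∀ P : Subgroup Ω, F.IsFullyNormalized P → F.IsReceptive P) :
    ∀ n (P : Subgroup Ω), Nat.card S - Nat.card P ≤ n → F.IsFullyNormalized P →
      F.IsFullyAutomized p P := by
  intro n
  induction n with
  | zero =>
      intro P hn hP
      have : P = S := Subgroup.eq_of_le_of_card_ge hP.1 (Nat.sub_eq_zero_iff_le.1 (Nat.le_zero.1 hn))
      rw [this]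
      exact htop
  | succ n ih =>
    intro P hn hP
    rcases eq_or_lt_of_le hP.1 with rfl | hlt
    · exact htop
    have hfinA := finite_mulAut_of_le (S := S) hP.1
    set H := autInducedBy S P with hH
    have hHle : H ≤ F.autGroup P := autInducedBy_le_autGroup hP.1
    obtain ⟨T, hHT, hTle, hTp, hTsyl⟩ :=
      exists_isSylowIn_ge hHle (isPGroup_autInducedBy (P := P) hS)
    by_cases hTH : T ≤ H
    · exact ⟨hP.1, by
        have : T = H := le_antisymm hTH hHT
        rw [this] at hTsyl
        exact hTsyl⟩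
    exfalso
    -- an element of `T` outside `Aut_S(P)` normalizing it
    have : Group.IsNilpotent T := hTp.isNilpotent
    have hlt' : H.subgroupOf T < ⊤ := by
      refine lt_of_le_of_ne le_top fun h => hTH ?_
      exact Subgroup.subgroupOf_eq_top.1 h
    obtain ⟨⟨α, hαT⟩, hαN, hαH⟩ :=
      SetLike.exists_of_lt (Group.normalizerCondition_of_isNilpotent (H.subgroupOf T) hlt')
    replace hαH : α ∉ H := hαH
    have hconjH : ∀ c ∈ H, α * c * α⁻¹ ∈ H := fun c hc =>
      (Subgroup.mem_normalizer_iff.1 hαN ⟨c, hHT hc⟩).1 hc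
    set N := normalizerIn S P with hN
    have hPN : P ≤ N := le_normalizerIn hP.1
    have := finite_le (normalizerIn_le (S := S) P)
    have hαF : IsoIn F (α : P ≃* P) := (mem_autGroup_iff_isoIn hP.1).1 (hTle hαT)
    have hext : N ≤ extender S P (isoHom (α : P ≃* P)) := by
      intro g hg
      let c : MulAut P := P.normalizerMonoidHom ⟨g, hg.2⟩
      obtain ⟨h, hh, hh'⟩ :=
        mem_autInducedBy_iff.1 (hconjH c (mem_autInducedBy_iff.2 ⟨g, hg.1, fun x => rfl⟩))
      refine mem_extender_iff.2 ⟨hg.1, hg.2, h, hh, fun x hx => ?_⟩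
      have e : (⟨g * (x : Ω) * g⁻¹, hx⟩ : P) = c x := Subtype.ext rfl
      rw [isoHom_apply, isoHom_apply, e, ← hh' (α x)]
      simp [MulAut.mul_apply]
    obtain ⟨ψ, hψ, hag⟩ := exists_extension (hrec P hP) hαF hPN hext
    have hψmem : ∀ g : N, ψ g ∈ N :=
      fun g => extension_mem_normalizerIn hψ hPN inf_le_right hag g
    have hψrange : ψ.range = N := by
      refine Subgroup.eq_of_le_of_card_ge (by rintro _ ⟨g, rfl⟩; exact hψmem g) ?_
      rw [← Nat.card_congr (MonoidHom.ofInjective (F.injective_of_mem hψ)).toEquiv]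
    obtain ⟨β, hβ, hβval⟩ := exists_iso hψ hψrange
    have hβα : ∀ x : P, ((β (Subgroup.inclusion hPN x) : N) : Ω) = α x := fun x => by
      rw [hβval, hag]
    -- pass to powers of order a power of `p`
    have hfinN := finite_mulAut_of_le (S := S) (normalizerIn_le (S := S) P)
    obtain ⟨j, m, hm, hord⟩ :=
      Nat.exists_eq_pow_mul_and_not_dvd (orderOf_pos (β : MulAut N)).ne' p
        (Fact.out : p.Prime).ne_one
    obtain ⟨k, hk⟩ := hTp ⟨α, hαT⟩
    have hk' : α ^ p ^ k = 1 := congrArg Subtype.val hk
    have hαm : α ^ m ∉ H := by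
      intro hmem
      obtain ⟨y, hy⟩ := Nat.exists_mul_mod_eq_one_of_coprime
        (((Fact.out : p.Prime).coprime_iff_not_dvd.2 hm).symm.pow_right (k + 1))
        (Nat.one_lt_pow (Nat.succ_ne_zero k) (Fact.out : p.Prime).one_lt)
      have hk1 : α ^ p ^ (k + 1) = 1 := by rw [pow_succ, pow_mul, hk', one_pow]
      have hy' : α ^ (m * y) = α := by
        rw [← Nat.mod_add_div (m * y) (p ^ (k + 1)), hy.2, pow_add, pow_mul, hk1, one_pow, pow_one,
          mul_one]
      apply hαH
      show α ∈ H
      rw [← hy', pow_mul]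
      exact H.pow_mem hmem y
    set b : MulAut N := (β : MulAut N) ^ m with hb
    have hbp : b ^ p ^ j = 1 := by
      rw [hb, ← pow_mul, mul_comm, ← hord]
      exact pow_orderOf_eq_one _
    have hbα := extends_pow hPN hβα m
    have hbF : b ∈ F.autGroup N :=
      Subgroup.pow_mem _ ((mem_autGroup_iff_isoIn (normalizerIn_le P)).2 hβ) m
    -- move `N` to a fully automized conjugate
    obtain ⟨Q, hNQ, hQn⟩ := exists_fullyNormalized (F := F) (normalizerIn_le (S := S) P)
    obtain ⟨e, he⟩ := isConj_iff.1 hNQ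
    have hQauto : F.IsFullyAutomized p Q := by
      refine ih Q ?_ hQn
      have h1 : Nat.card P < Nat.card N := by
        have hne : P ≠ N := by
          intro h
          have : Group.IsNilpotent S := hS.isNilpotent
          have hPlt : P.subgroupOf S < ⊤ := by
            refine lt_of_le_of_ne le_top fun h' => hlt.not_ge ?_
            exact Subgroup.subgroupOf_eq_top.1 h'
          obtain ⟨⟨g, hgS⟩, hgN, hgP⟩ :=
            SetLike.exists_of_lt (Group.normalizerCondition_of_isNilpotent (P.subgroupOf S) hPlt)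
          have : g ∈ N := by
            refine ⟨hgS, Subgroup.mem_normalizer_iff.2 fun x => ⟨fun hx => ?_, fun hx => ?_⟩⟩
            · exact (Subgroup.mem_normalizer_iff.1 hgN ⟨x, hP.1 hx⟩).1 hx
            · have hxS : x ∈ S := by
                have := hP.1 hx
                have h2 : x = g⁻¹ * (g * x * g⁻¹) * g := by group
                rw [h2]
                exact S.mul_mem (S.mul_mem (S.inv_mem hgS) this) hgS
              exact (Subgroup.mem_normalizer_iff.1 hgN ⟨x, hxS⟩).2 hx
          rw [← h] at this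
          exact hgP this
        exact Nat.lt_of_le_of_ne (Subgroup.card_le_of_le hPN)
          fun hc => hne (Subgroup.eq_of_le_of_card_ge hPN hc.ge)
      have h2 := isConj_card hNQ
      have h3 : Nat.card N ≤ Nat.card S := Subgroup.card_le_of_le (normalizerIn_le P)
      rw [show Nat.card Q = Nat.card N from h2.symm]
      omega
    have hfinQ := finite_mulAut_of_le (S := S) hQn.1
    set c : MulAut Q := MulAut.congr e b with hc
    have hcp : IsPGroup p (Subgroup.zpowers c) := by
      refine IsPGroup.of_card (n := (Nat.card (Subgroup.zpowers c)).factorization p) ?_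
      obtain ⟨i, -, hi⟩ := (Nat.dvd_prime_pow (Fact.out : p.Prime)).1
        (orderOf_dvd_of_pow_eq_one (show c ^ p ^ j = 1 by rw [hc, ← map_pow, hbp, map_one]))
      rw [Nat.card_zpowers, hi, (Fact.out : p.Prime).factorization_pow]
      simp
    have hcF : c ∈ F.autGroup Q := by
      rw [← he.congr_autGroup]
      exact ⟨b, hbF, rfl⟩
    obtain ⟨a, ha, haconj⟩ :=
      IsSylowIn.exists_conj_mem hQauto.2 ((Subgroup.zpowers_le (H := F.autGroup Q)).2 hcF) hcp
    obtain ⟨s, hs, hs'⟩ := mem_autInducedBy_iff.1 (haconj c (Subgroup.mem_zpowers c))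
    set f : N ≃* Q := e.trans (a : Q ≃* Q) with hf
    have hfF : IsoIn F f := he.trans ((mem_autGroup_iff_isoIn hQn.1).1 ha)
    have hsf : ∀ x : N, (f (b x) : Ω) = s * (f x : Ω) * s⁻¹ := by
      intro x
      rw [← hs' (f x), hc, hf]
      simp [MulAut.mul_apply, MulAut.congr]
    -- the image of `P` and its normalizer
    set P' := img (isoHom f) P with hP'
    have hPP' : F.IsConj P P' := isConj_img hfF.mem hPN
    have hQN : Q = normalizerIn S P' := by
      have := finite_le (normalizerIn_le (S := S) P')
      refine Subgroup.eq_of_le_of_card_ge ?_ ?_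
      · intro y hy
        refine ⟨hQn.1 hy, ?_⟩
        have hnorm : Q ≤ Subgroup.normalizer (P' : Set Ω) := by
          rw [Subgroup.le_normalizer_iff]
          intro u hu z hz
          obtain ⟨x, hx, rfl⟩ := mem_img.1 hz
          refine mem_img.2 ⟨f.symm ⟨u, hu⟩ * x * (f.symm ⟨u, hu⟩)⁻¹, ?_, ?_⟩
          · exact conj_mem_of_mem_normalizer (f.symm ⟨u, hu⟩).2.2 hx
          · simp
        exact hnorm hy
      · rw [← isConj_card hfF.isConj]
        exact hP.2 P' hPP'
    have hsQ : s ∈ Q := by
      rw [hQN]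
      refine ⟨hs, ?_⟩
      have hfwd : ∀ z ∈ P', s * z * s⁻¹ ∈ P' := by
        intro z hz
        obtain ⟨x, hx, rfl⟩ := mem_img.1 hz
        refine mem_img.2 ⟨b x, ?_, ?_⟩
        · have := hbα ⟨x, hx⟩
          rw [show Subgroup.inclusion hPN ⟨(x : Ω), hx⟩ = x from Subtype.ext rfl] at this
          rw [this]
          exact ((α ^ m) _).2
        · exact hsf x
      have := finite_le (isConj_le_right hPP')
      show s ∈ Subgroup.normalizer (P' : Set Ω)
      rw [Subgroup.mem_normalizer_iff_map_conj_eq]
      refine Subgroup.eq_of_le_of_card_ge ?_ ?_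
      · rintro _ ⟨z, hz, rfl⟩
        simpa using hfwd z hz
      · rw [Subgroup.card_map_of_injective (MulAut.conj s).injective]
    apply hαm
    refine mem_autInducedBy_iff.2 ⟨(f.symm ⟨s, hsQ⟩ : N), (f.symm ⟨s, hsQ⟩).2.1, fun x => ?_⟩
    rw [← hbα x]
    have : b (Subgroup.inclusion hPN x) =
        f.symm ⟨s, hsQ⟩ * Subgroup.inclusion hPN x * (f.symm ⟨s, hsQ⟩)⁻¹ := by
      apply f.injective
      apply Subtype.ext
      rw [hsf]
      simp
    rw [hb] at this
    rw [this]
    rfl

/-- The Roberts–Shpectorov criterion for saturation. -/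
theorem saturated_of_criterion [Finite S] [Fact p.Prime] (hS : IsPGroup p S)
    (htop : F.IsFullyAutomized p S)
    (hrec : ∀ P : Subgroup Ω, F.IsFullyNormalized P → F.IsReceptive P) :
    F.IsSaturated p :=
  saturated_of_fullyNormalized fun P hP =>
    ⟨fullyAutomized_of_criterion hS htop hrec _ P le_rfl hP, hrec P hP⟩

end CfsgLib.Fusion
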