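import Cfsg.Agent.Lib.Fusion.PPowerExistence
import Cfsg.Agent.Lib.Fusion.RobertsShpectorov

/-!
Subsystems of `p`-power index over normal subgroups are normal.
-/

set_option autoImplicit false

namespace CfsgLib.Fusion

open Cfsg Cfsg.FusionSystem

universe u

variable {Ω : Type u} [Group Ω] {S : Subgroup Ω} {F : FusionSystem S} {p : ℕ} {T : Subgroup Ω}

/-- The pullback of a system along an automorphism of its subgroup. -/
def twistSystem (E : FusionSystem T) (f : MulAut T) : FusionSystem T where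
  Hom P := {φ | P ≤ T ∧ (∀ x : P, φ x ∈ T) ∧ ∃ φ' ∈ E.Hom (mapS f P),
    ∀ (x : P) (hx : (x : Ω) ∈ T) (hφx : φ x ∈ T) (hm : (f ⟨x, hx⟩ : Ω) ∈ mapS f P),
      φ' ⟨f ⟨x, hx⟩, hm⟩ = f ⟨φ x, hφx⟩}
  le_of_mem h := ⟨h.1, h.2.1⟩
  injective_of_mem := by
    rintro P φ ⟨hP, hφT, φ', hφ', hv⟩ a b hab
    have h1 := hv a (hP a.2) (hφT a) (apply_mem_mapS hP a)
    have h2 := hv b (hP b.2) (hφT b) (apply_mem_mapS hP b)
    have h3 := E.injective_of_mem hφ' (h1.trans ((congrArg (fun t => ((f t : T) : Ω))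
      (show (⟨φ a, hφT a⟩ : T) = ⟨φ b, hφT b⟩ from Subtype.ext hab)).trans h2.symm))
    exact Subtype.ext (congrArg Subtype.val (f.injective (Subtype.ext (congrArg Subtype.val h3 :))) :)
  conj_mem {P g} hP hg := ⟨hP, fun x => T.mul_mem (T.mul_mem hg (hP x.2)) (T.inv_mem hg),
    conjHom _ (f ⟨g, hg⟩ : Ω), E.conj_mem (mapS_le P) (f _).2, fun x hx hφx hm => by
      show (f ⟨g, hg⟩ : Ω) * (f ⟨x, hx⟩ : Ω) * (f ⟨g, hg⟩ : Ω)⁻¹ = _
      rw [show (⟨conjHom P g x, hφx⟩ : T) = ⟨g, hg⟩ * ⟨x, hx⟩ * ⟨g, hg⟩⁻¹ from Subtype.ext rfl,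
        map_mul, map_mul, map_inv]
      rfl⟩
  comp_mem := by
    rintro P Q φ ψ ⟨hP, hφT, φ', hφ', hv⟩ ⟨hQ, hψT, ψ', hψ', hw⟩ h
    have hm : ∀ y : mapS f P, φ' y ∈ mapS f Q := by
      rintro ⟨_, t, ht, rfl⟩
      have := hv ⟨t, ht⟩ t.2 (hφT _) ⟨t, ht, rfl⟩
      refine this ▸ ?_
      exact ⟨⟨φ ⟨t, ht⟩, hφT _⟩, h _, rfl⟩
    refine ⟨hP, fun x => hψT _, _, E.comp_mem hφ' hψ' hm, fun x hx hφx hmem => ?_⟩
    have e1 := hv x hx (hφT x) hmem
    have e2 := hw ⟨φ x, h x⟩ (hφT x) hφx (e1 ▸ hm ⟨f ⟨x, hx⟩, hmem⟩)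
    exact (congrArg ψ' (Subtype.ext e1)).trans e2
  inv_mem := by
    rintro P φ ⟨hP, hφT, φ', hφ', hv⟩
    have hr : φ'.range = mapS f φ.range := by
      ext z
      constructor
      · rintro ⟨⟨_, t, ht, rfl⟩, rfl⟩
        exact ⟨⟨φ ⟨t, ht⟩, hφT _⟩, ⟨_, rfl⟩, (hv ⟨t, ht⟩ t.2 (hφT _) ⟨t, ht, rfl⟩).symm⟩
      · rintro ⟨t, ⟨x, hx⟩, rfl⟩
        refine ⟨⟨f ⟨x, hP x.2⟩, apply_mem_mapS hP x⟩, ?_⟩
        rw [hv x (hP x.2) (hφT x) _]
        exact congrArg (fun w => ((f w : T) : Ω)) (Subtype.ext hx)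
    have hinj : Function.Injective φ := fun a b hab => by
      have h1 := hv a (hP a.2) (hφT a) (apply_mem_mapS hP a)
      have h2 := hv b (hP b.2) (hφT b) (apply_mem_mapS hP b)
      have h3 := E.injective_of_mem hφ' (h1.trans ((congrArg (fun t => ((f t : T) : Ω))
        (show (⟨φ a, hφT a⟩ : T) = ⟨φ b, hφT b⟩ from Subtype.ext hab)).trans h2.symm))
      exact Subtype.ext (congrArg Subtype.val (f.injective (Subtype.ext (congrArg Subtype.val h3 :))) :)
    let e : P ≃* φ.range := MonoidHom.ofInjective hinj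
    have he : ∀ y : φ.range, φ (e.symm y) = y := fun y =>
      congrArg Subtype.val (e.apply_symm_apply y)
    obtain ⟨ψ', hψ', -, hl, -⟩ := exists_inv hφ' hr
    refine ⟨P.subtype.comp e.symm.toMonoidHom, ⟨?_, fun y => hP (e.symm y).2, ψ', hψ', ?_⟩,
      fun x => congrArg Subtype.val (e.symm_apply_apply x)⟩
    · rintro _ ⟨x, rfl⟩; exact hφT x
    intro y hy hy' hm
    set x := e.symm y
    have h1 := hv x (hP x.2) (hφT x) (apply_mem_mapS hP x)
    have e1 : φ' ⟨f ⟨x, hP x.2⟩, apply_mem_mapS hP x⟩ = (f ⟨y, hy⟩ : Ω) :=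
      h1.trans (congrArg (fun w => ((f w : T) : Ω)) (Subtype.ext (he y)))
    exact (congrArg ψ' (Subtype.ext e1.symm)).trans (hl _ (e1 ▸ hm))

theorem twistSystem_sysEquiv (E : FusionSystem T) (f : MulAut T) :
    SysEquiv E (twistSystem E f) f.symm := by
  refine ⟨fun P φ hφ => ?_, fun P φ hφ => ?_⟩
  · have hP := hom_le hφ
    have hT := hom_apply_mem hφ
    let q : mapS f.symm P →* Ω := T.subtype.comp (f.symm.toMonoidHom.comp
      ((φ.codRestrict T hT).comp (mapSEquiv f.symm hP).symm.toMonoidHom))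
    have hq : ∀ x : P, ∀ hm, q ⟨(f.symm ⟨x, hP x.2⟩ : Ω), hm⟩ = (f.symm ⟨φ x, hT x⟩ : Ω) := by
      intro x hm
      have : (⟨(f.symm ⟨x, hP x.2⟩ : Ω), hm⟩ : mapS f.symm P) = mapSEquiv f.symm hP x :=
        Subtype.ext rfl
      rw [this]
      simp [q]
    refine ⟨q, ⟨mapS_le P, fun y => (f.symm _).2, ?_⟩, fun x hx hφx hm => hq x hm⟩
    obtain ⟨χ, hχ, hχv⟩ : ∃ χ ∈ E.Hom (mapS f (mapS f.symm P)), ∀ (y : P) hy, χ ⟨y, hy⟩ = φ y :=
      ⟨φ.comp (Subgroup.inclusion (le_of_eq (mapS_symm' (f := f) hP))), restrict_mem hφ _,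
        fun y hy => congrArg φ (Subtype.ext rfl)⟩
    refine ⟨χ, hχ, ?_⟩
    rintro ⟨_, t, ht, rfl⟩ hx hφx hm
    have e : (⟨(f.symm t : Ω), hx⟩ : T) = f.symm t := Subtype.ext rfl
    have e' : (f ⟨(f.symm t : Ω), hx⟩ : Ω) = t := by rw [e, MulEquiv.apply_symm_apply]
    refine (congrArg χ (Subtype.ext e' : (⟨_, hm⟩ : mapS f (mapS f.symm P)) = ⟨(t : Ω), e' ▸ hm⟩)).trans ?_
    rw [hχv ⟨t, ht⟩]
    have h1 := hq ⟨t, ht⟩ ⟨t, ht, rfl⟩
    rw [show (⟨_, hφx⟩ : T) = f.symm ⟨φ ⟨t, ht⟩, hT _⟩ from Subtype.ext h1, MulEquiv.apply_symm_apply]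
  · obtain ⟨hP, hT, φ', hφ', hv⟩ := hφ
    exact ⟨φ', hφ', fun x hx hφx hm => hv x hx hφx hm⟩

section

variable [Fact p.Prime] [Finite S] (hS : IsPGroup p S) (hF : F.IsSaturated p)

include hS hF in
theorem stronglyClosed_of_hyperfocal (hTS : T ≤ S) (hTn : ∀ s ∈ S, ∀ y ∈ T, s * y * s⁻¹ ∈ T)
    (hT : F.hyperfocalSubgroup p ≤ T) : F.StronglyClosed T := by
  refine ⟨hTS, fun R hR φ hφ x => ?_⟩
  obtain ⟨s, hs, hv⟩ := exists_conj_mod_hyperfocal hS hF hφ
  have h := T.mul_mem (hTn s hs _ (hR x.2)) (hT (hv x))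
  rwa [mul_inv_cancel_left] at h

variable (hTS : T ≤ S) (hTn : ∀ s ∈ S, ∀ y ∈ T, s * y * s⁻¹ ∈ T)
  (hT : F.hyperfocalSubgroup p ≤ T) {E : FusionSystem T} (hEs : E.IsSaturated p)
  (hEi : E.HasPPowerIndexIn F p)

include hS hF hTS hTn hT hEs hEi in
theorem pPowerIndex_invariant : E.IsInvariantIn F := by
  have := finite_le hTS
  refine ⟨hEi.1, stronglyClosed_of_hyperfocal hS hF hTS hTn hT, fun P hPT φ hφ α hα => ?_, ?_⟩
  · -- transport by `α`
    have hα' := (mem_autGroup_iff hTS).1 ((F.autGroup T).inv_mem hα)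
    set f : MulAut T := α⁻¹
    have hEF' : (twistSystem E f).IsSubsystemOf F := by
      rintro R χ ⟨hR, hχT, χ', hχ', hv⟩
      have hαF := (mem_autGroup_iff hTS).1 hα
      have h1 : (T.subtype.comp f.toMonoidHom).comp (Subgroup.inclusion hR) ∈ F.Hom R :=
        restrict_mem hα' hR
      have h2 : ∀ x : R, (T.subtype.comp f.toMonoidHom).comp (Subgroup.inclusion hR) x ∈ mapS f R :=
        fun x => apply_mem_mapS hR x
      have h3 := F.comp_mem h1 (hEi.1 _ hχ') h2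
      refine comp_mem' h3 hαF (fun x => hom_apply_mem hχ' _) fun x => ?_
      have h4 := hv x (hR x.2) (hχT x) (apply_mem_mapS hR x)
      show χ x = ((α ⟨χ' ⟨f ⟨x, hR x.2⟩, _⟩, _⟩ : T) : Ω)
      rw [show (⟨χ' ⟨f ⟨x, hR x.2⟩, apply_mem_mapS hR x⟩, hom_apply_mem hχ' _⟩ : T) =
        f ⟨χ x, hχT x⟩ from Subtype.ext h4]
      exact (congrArg Subtype.val (MulAut.apply_inv_self T α ⟨χ x, hχT x⟩)).symm
    have hle : twistSystem E f ≤ E := subsystem_le_of_residual hS hTS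
      ((twistSystem_sysEquiv E f).saturated hEs) hEF' hEi.2.2
    obtain ⟨χ, hχ, hv⟩ := (twistSystem_sysEquiv E f).1 P φ hφ
    exact ⟨χ, hle _ hχ, fun x hφx hαx => hv x (hPT x.2) hφx hαx⟩
  · intro P hP φ hφ
    obtain ⟨E₀, hE₀s, hE₀i, hdec⟩ := exists_pPowerSystem hS hF hTS hT
    obtain ⟨s, hs, φ₀, hφ₀, hv⟩ := hdec P hP φ hφ
    have hsN : s ∈ Subgroup.normalizer (T : Set Ω) := by
      rw [Subgroup.mem_normalizer_iff]
      refine fun y => ⟨hTn s hs y, fun hy => ?_⟩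
      have := hTn s⁻¹ (S.inv_mem hs) _ hy
      simpa [mul_assoc] using this
    refine ⟨T.normalizerMonoidHom ⟨s, hsN⟩,
      autInducedBy_le_autGroup hTS (mem_autInducedBy_iff.2 ⟨s, hs, fun x => rfl⟩), φ₀,
      (hom_eq_of_pPowerIndex hS rfl hTS hE₀s hEs hE₀i hEi P) ▸ hφ₀, fun x hx => hv x⟩

include hS hF hTS hTn hT hEs hEi in
theorem pPowerIndex_isNormalIn : E.IsNormalIn F p := by
  have := finite_le hTS
  have := finite_mulAut_of_le (S := S) hTS
  refine ⟨⟨hEs, hF, pPowerIndex_invariant hS hF hTS hTn hT hEs hEi⟩, ?_⟩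
  set C := centralizerIn S T
  set M := T ⊔ C
  have hMS : M ≤ S := sup_le hTS (centralizerIn_le T)
  have := finite_le hMS
  have := finite_mulAut_of_le (S := S) hMS
  let Ext : MulAut T → Prop := fun α => ∃ β ∈ F.autGroup M,
    (∀ x : T, ((β (Subgroup.inclusion le_sup_left x) : M) : Ω) = ((α x : T) : Ω)) ∧
      ∀ c : M, (c : Ω) ∈ C → (c : Ω)⁻¹ * ((β c : M) : Ω) ∈ T ⊓ Subgroup.centralizer (T : Set Ω)
  have hcomm : ∀ (α : MulAut T) (β : MulAut M),
      (∀ x : T, ((β (Subgroup.inclusion le_sup_left x) : M) : Ω) = ((α x : T) : Ω)) →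
      ∀ c : M, (c : Ω) ∈ C → ((β c : M) : Ω) ∈ C := by
    intro α β hβ c hc
    refine mem_centralizerIn.2 ⟨hMS (β c).2, fun y hy => ?_⟩
    obtain ⟨x, hx⟩ : ∃ x : T, α x = ⟨y, hy⟩ := ⟨α⁻¹ ⟨y, hy⟩, MulAut.apply_inv_self T α _⟩
    have e : ((β (Subgroup.inclusion le_sup_left x) : M) : Ω) = y := by rw [hβ, hx]
    rw [← e, ← Subgroup.coe_mul, ← Subgroup.coe_mul, ← map_mul, ← map_mul]
    congr 2
    exact Subtype.ext ((mem_centralizerIn.1 hc).2 x x.2)
  have hmul : ∀ a b, Ext a → Ext b → Ext (a * b) := by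
    rintro a b ⟨β, hβ, hβT, hβC⟩ ⟨γ, hγ, hγT, hγC⟩
    refine ⟨β * γ, mul_mem hβ hγ, fun x => ?_, fun c hc => ?_⟩
    · rw [MulAut.mul_apply, show γ (Subgroup.inclusion le_sup_left x) =
        Subgroup.inclusion le_sup_left (b x) from Subtype.ext (hγT x), hβT]
      rfl
    · have h := mul_mem (hγC c hc) (hβC (γ c) (hcomm b γ hγT c hc))
      rw [mul_assoc, mul_inv_cancel_left] at h
      exact h
  have hinner : ∀ α ∈ autInducedBy T T, Ext α := by
    intro α hα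
    obtain ⟨t, ht, htv⟩ := mem_autInducedBy_iff.1 hα
    have htN : t ∈ Subgroup.normalizer (M : Set Ω) := Subgroup.le_normalizer (le_sup_left (b := C) ht)
    refine ⟨M.normalizerMonoidHom ⟨t, htN⟩,
      autInducedBy_le_autGroup hMS (mem_autInducedBy_iff.2 ⟨t, hTS ht, fun x => rfl⟩),
      fun x => (htv x).symm, fun c hc => ?_⟩
    show (c : Ω)⁻¹ * (t * (c : Ω) * t⁻¹) ∈ _
    rw [(mem_centralizerIn.1 hc).2 t ht, mul_inv_cancel_right, inv_mul_cancel]
    exact one_mem _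
  have hclosed := stronglyClosed_of_hyperfocal hS hF hTS hTn hT
  have hfc : F.IsFullyCentralized T := by
    refine ⟨hTS, fun Q hQ => ?_⟩
    obtain ⟨φ, hφ, rfl⟩ := hQ
    have hle : φ.range ≤ T := by rintro _ ⟨x, rfl⟩; exact hclosed.2 T le_rfl φ hφ x
    rw [Subgroup.eq_of_le_of_card_ge hle (by rw [← isConj_card ⟨φ, hφ, rfl⟩])]
  have hcop : ∀ α ∈ F.autGroup T, (orderOf α).Coprime p → Ext α := by
    intro α hα hc
    have he : IsoIn F (α : T ≃* T) := (mem_autGroup_iff_isoIn hTS).1 hα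
    obtain ⟨ψ, hψ, hag⟩ := exists_extension (IsSaturated.receptive hS hF hfc) he le_sup_left
      (sup_le_extender he)
    have hrange : ψ.range ≤ M := by
      rw [MonoidHom.range_eq_map, Subgroup.map_le_iff_le_comap]
      intro y _
      rw [Subgroup.mem_comap]
      have hsup : (T.subgroupOf M ⊔ C.subgroupOf M) = ⊤ := by
        rw [← Subgroup.subgroupOf_sup le_sup_left le_sup_right, Subgroup.subgroupOf_self]
      have hy : y ∈ (T.subgroupOf M ⊔ C.subgroupOf M) := hsup ▸ Subgroup.mem_top y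
      refine (sup_le ?_ ?_ : T.subgroupOf M ⊔ C.subgroupOf M ≤ M.comap ψ) hy
      · intro z hz
        rw [Subgroup.mem_comap]
        have h1 := hag ⟨z, hz⟩
        have h2 : ψ z = ψ (Subgroup.inclusion le_sup_left ⟨(z : Ω), hz⟩) := congrArg ψ (Subtype.ext rfl)
        rw [h2, h1]
        exact le_sup_left (b := C) (α _).2
      · intro z hz
        exact le_sup_right (a := T) (extension_mem_centralizerIn hψ le_sup_left hag z hz)
    let b' : M →* M := ψ.codRestrict M fun y => hrange ⟨y, rfl⟩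
    have hb' : Function.Injective b' := fun x y h =>
      F.injective_of_mem hψ (congrArg Subtype.val h :)
    let β : MulAut M := MulEquiv.ofBijective b' ⟨hb', Finite.injective_iff_surjective.1 hb'⟩
    have hβF : β ∈ F.autGroup M := (mem_autGroup_iff hMS).2 (hom_congr hψ fun _ => rfl)
    obtain ⟨n, hn, hn'⟩ := exists_coprime_pow β (orderOf_pos β) hc
    have hext : ∀ x : T, (((β ^ n) (Subgroup.inclusion le_sup_left x) : M) : Ω) = ((α x : T) : Ω) := by
      intro x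
      rw [extends_pow (α := α) le_sup_left hag n x, hn α (pow_orderOf_eq_one α)]
    refine ⟨β ^ n, pow_mem hβF n, hext, fun c hc' => ⟨hT ?_, ?_⟩⟩
    · exact mem_hyperfocal_of_coprime hMS (pow_mem hβF n) hn' c
    · exact (Subgroup.centralizer (T : Set Ω)).mul_mem
        ((Subgroup.centralizer (T : Set Ω)).inv_mem hc'.2) (hcomm α (β ^ n) hext c hc').2
  intro α hα
  show Ext α
  obtain ⟨R, hR⟩ := (IsSaturated.fullyAutomized (hS.to_le hTS) hEs isFullyNormalized_self).2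
  obtain ⟨a, ha, k, hk, hak⟩ := Transfer.exists_mul_mem_pResidual R (⟨α, hα⟩ : E.autGroup T)
  rw [hR] at ha
  rw [show α = (a : MulAut T) * (k : MulAut T) from congrArg Subtype.val hak]
  refine hmul _ _ (hinner _ ha) ?_
  clear hak
  induction hk using Subgroup.closure_induction with
  | mem x hx =>
    refine hcop _ ((mem_autGroup_iff hTS).2 (hEi.1 T ((mem_autGroup_iff le_rfl).1 x.2))) ?_
    show Nat.Coprime _ p
    rw [Subgroup.orderOf_coe]
    exact hx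
  | one => exact hinner _ (one_mem _)
  | mul x y _ _ hx hy => exact hmul _ _ hx hy
  | inv x _ hx =>
    obtain ⟨m, hm⟩ : ∃ m : ℕ, (x⁻¹ : E.autGroup T) = x ^ m := by
      have : Finite (E.autGroup T) := Subtype.finite
      exact ⟨orderOf x - 1, by
        rw [eq_comm, eq_inv_iff_mul_eq_one, ← pow_succ,
          Nat.sub_add_cancel (orderOf_pos x), pow_orderOf_eq_one]⟩
    rw [hm]
    clear hm
    induction m with
    | zero => exact hinner _ (one_mem _)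
    | succ m ih => rw [pow_succ]; exact hmul _ _ ih hx

end

end CfsgLib.Fusion
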