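import Cfsg.Agent.Lib.Fusion.CentralizerRestrict
import Cfsg.Agent.Lib.Fusion.LiftAverage
import Cfsg.Agent.Lib.Fusion.PPowerNormal

/-!
# The centralizer of a normal subsystem

The subsystem of `p`-power index over `C_S(E)` of `C_F(T)` is normal in `F`.
-/

set_option autoImplicit false

namespace CfsgLib.Fusion

open Cfsg Cfsg.FusionSystem

universe u

variable {Ω : Type u} [Group Ω] {S T : Subgroup Ω} {F : FusionSystem S} {E : FusionSystem T}
  {p : ℕ}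

theorem hyperfocal_le_of_focal_le {C : Subgroup Ω} (h : F.focalSubgroup ≤ C) :
    F.hyperfocalSubgroup p ≤ C := by
  refine le_trans ((Subgroup.closure_le _).2 ?_) h
  rintro _ ⟨P, α, x, hP, -, rfl⟩
  exact Subgroup.subset_closure ⟨P, _, x, (mem_autGroup_iff hP).1 α.2, rfl⟩

variable [Fact p.Prime] [Finite S]

omit [Fact p.Prime] in
/-- The inverse of an automorphism preserves what the automorphism preserves. -/
theorem pres_inv' {W : Subgroup Ω} (hW : W ≤ S) {κ : MulAut W} {U : Set Ω}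
    (h : ∀ r : W, (r : Ω) ∈ U → ((κ r : W) : Ω) ∈ U) (r : W) (hr : (r : Ω) ∈ U) :
    ((κ⁻¹ r : W) : Ω) ∈ U := by
  have := finite_mulAut_of_le (S := S) hW
  obtain ⟨n, hn⟩ := mem_powers_iff_mem_zpowers.2
    (Subgroup.inv_mem _ (Subgroup.mem_zpowers κ))
  rw [← show κ ^ n = κ⁻¹ from hn]
  clear hn
  induction n generalizing r with
  | zero => exact hr
  | succ n ih => rw [pow_succ, MulAut.mul_apply]; exact ih _ (h r hr)

/-- A map fixing `T` gives a member of the centralizer system. -/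
theorem mem_centSystem_of_fix (hTS : T ≤ S) {U P : Subgroup Ω} {ψ : U →* Ω} (hψ : ψ ∈ F.Hom U)
    (hPU : P ≤ U) (hTU : T ≤ U) (hfix : ∀ t : T, ψ (Subgroup.inclusion hTU t) = t)
    (hP : P ≤ centralizerIn S T) {φ : P →* Ω}
    (hφ : ∀ x : P, φ x = ψ (Subgroup.inclusion hPU x)) :
    φ ∈ (centSystem F T hTS).Hom P := by
  refine ⟨restrict_mem' hψ hPU hφ, hP, fun x => ?_, _, restrict_mem hψ (sup_le hPU hTU),
    fun x => (hφ x).symm, fun t => hfix t⟩
  refine mem_centralizerIn.2 ⟨?_, fun r hr => ?_⟩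
  · rw [hφ]; exact hom_apply_mem hψ _
  · rw [hφ]
    have h := (mem_centralizerIn.1 (hP x.2)).2 r hr
    calc r * ψ (Subgroup.inclusion hPU x) = ψ (Subgroup.inclusion hTU ⟨r, hr⟩) *
          ψ (Subgroup.inclusion hPU x) := by rw [hfix]
      _ = ψ (Subgroup.inclusion hPU x) * ψ (Subgroup.inclusion hTU ⟨r, hr⟩) := by
          rw [← map_mul, ← map_mul]
          exact congrArg ψ (Subtype.ext h)
      _ = ψ (Subgroup.inclusion hPU x) * r := by rw [hfix]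

/-- The extension condition, at an automorphism of order prime to `p`. -/
theorem exists_extension_centralizer (hS : IsPGroup p S) (hF : F.IsSaturated p)
    (hT : F.StronglyClosed T) {C : Subgroup Ω} (hC : F.StronglyClosed C)
    (hCT : C ≤ centralizerIn S T) (hfcC : (centSystem F T hT.1).IsFullyCentralized C)
    {α : MulAut C} (hl : Liftable (centSystem F T hT.1) C α) {n : ℕ} (hn : α ^ n = 1)
    (hcop : n.Coprime p) :
    ∃ β ∈ F.autGroup (C ⊔ centralizerIn S C),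
      (∀ x : C, ((β (Subgroup.inclusion le_sup_left x) : _) : Ω) = ((α x : C) : Ω)) ∧
      ∀ c : ↥(C ⊔ centralizerIn S C), (c : Ω) ∈ centralizerIn S C →
        (c : Ω)⁻¹ * ((β c : _) : Ω) ∈ C ⊓ Subgroup.centralizer (C : Set Ω) := by
  have hD := centSystem_isCentralizerSystem F T hT.1
  set D := centSystem F T hT.1 with hDdef
  have hTfc := IsSaturated.fullyCentralized hS hF (fullyNormalized_closed hT)
  have hDsat : D.IsSaturated p := centralizerSystem_saturated hS hF hTfc hD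
  have hCS : C ≤ S := hC.1
  have hDS : centralizerIn S T ≤ S := centralizerIn_le T
  have := finite_le hDS
  have hDp : IsPGroup p (centralizerIn S T) := hS.to_le hDS
  set C₀ := centralizerIn (centralizerIn S T) C with hC₀
  have hC₀T : C₀ ≤ centralizerIn S T := centralizerIn_le C
  have hWD : C ⊔ C₀ ≤ centralizerIn S T := sup_le hCT hC₀T
  obtain ⟨ξ₀, hξ₀, ⟨m, hm, hmcop⟩, hξ₀v⟩ := Liftable.exists_pPrime (F := D) hCT hl hn hcop
  -- as a map of `F` fixing `T`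
  obtain ⟨-, -, -, ψ, hψ, hψW, hψT⟩ := (hD _).le ((mem_autGroup_iff hWD).1 hξ₀.1)
  have hUS : (C ⊔ C₀) ⊔ T ≤ S := sup_le (hWD.trans hDS) hT.1
  have := finite_le hUS
  have := finite_le (hWD.trans hDS)
  have hrange : ψ.range = (C ⊔ C₀) ⊔ T := by
    refine Subgroup.eq_of_le_of_card_ge (range_le_of_gens
      (fun x => Subgroup.mem_sup_left (by rw [hψW]; exact (ξ₀ x).2))
      (fun t => Subgroup.mem_sup_right (by rw [hψT]; exact t.2))) ?_
    exact le_of_eq (Nat.card_congr (MonoidHom.ofInjective (F.injective_of_mem hψ)).toEquiv)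
  obtain ⟨ξ, hξ, hξv⟩ := exists_iso hψ hrange
  have hξF : (ξ : MulAut ↥((C ⊔ C₀) ⊔ T)) ∈ F.autGroup ((C ⊔ C₀) ⊔ T) :=
    (mem_autGroup_iff_isoIn hUS).2 hξ
  have hξW : ∀ w : ↥(C ⊔ C₀), ξ (Subgroup.inclusion le_sup_left w) =
      Subgroup.inclusion le_sup_left (ξ₀ w) := fun w => Subtype.ext ((hξv _).trans (hψW w))
  have hξT : ∀ t : T, ξ (Subgroup.inclusion le_sup_right t) =
      Subgroup.inclusion le_sup_right t := fun t => Subtype.ext ((hξv _).trans (hψT t))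
  -- the extender
  have hTn := StronglyClosed.normal_in hT
  have hCn := StronglyClosed.normal_in hC
  have hC₀n : S ≤ Subgroup.normalizer (C₀ : Set Ω) := by
    refine Subgroup.le_normalizer_iff.2 fun g hg z hz => ?_
    have hzS : z ∈ centralizerIn S T := hC₀T hz
    refine mem_centralizerIn.2 ⟨mem_centralizerIn.2
      ⟨S.mul_mem (S.mul_mem hg hzS.1) (S.inv_mem hg), fun t ht => ?_⟩, fun c hc => ?_⟩
    · have h := (mem_centralizerIn.1 hzS).2 _
        (conj_mem_of_mem_normalizer (hTn (S.inv_mem hg)) ht)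
      rw [inv_inv] at h
      calc t * (g * z * g⁻¹) = g * (g⁻¹ * t * g * z) * g⁻¹ := by group
        _ = g * (z * (g⁻¹ * t * g)) * g⁻¹ := by rw [h]
        _ = g * z * g⁻¹ * t := by group
    · have h := (mem_centralizerIn.1 hz).2 _
        (conj_mem_of_mem_normalizer (hCn (S.inv_mem hg)) hc)
      rw [inv_inv] at h
      calc c * (g * z * g⁻¹) = g * (g⁻¹ * c * g * z) * g⁻¹ := by group
        _ = g * (z * (g⁻¹ * c * g)) * g⁻¹ := by rw [h]
        _ = g * z * g⁻¹ * c := by group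
  have hUn : S ≤ Subgroup.normalizer (((C ⊔ C₀) ⊔ T : Subgroup Ω) : Set Ω) := by
    refine Subgroup.le_normalizer_iff.2 fun g hg x hx => ?_
    have hle : ((C ⊔ C₀) ⊔ T).map (MulAut.conj g).toMonoidHom ≤ (C ⊔ C₀) ⊔ T := by
      rw [Subgroup.map_sup, Subgroup.map_sup]
      refine sup_le_sup (sup_le_sup ?_ ?_) ?_ <;> rintro _ ⟨y, hy, rfl⟩
      · exact conj_mem_of_mem_normalizer (hCn hg) hy
      · exact conj_mem_of_mem_normalizer (hC₀n hg) hy
      · exact conj_mem_of_mem_normalizer (hTn hg) hy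
    exact hle ⟨x, hx, rfl⟩
  have hkey : ∀ s ∈ centralizerIn S C, ∃ d ∈ C₀, ∀ x : ↥((C ⊔ C₀) ⊔ T),
      ∀ hm : s * (x : Ω) * s⁻¹ ∈ (C ⊔ C₀) ⊔ T,
        ((ξ ⟨_, hm⟩ : _) : Ω) = s * d * ((ξ x : _) : Ω) * (s * d)⁻¹ := by
    intro s hs
    obtain ⟨σ, hσF, hσ⟩ : ∃ σ : MulAut ↥((C ⊔ C₀) ⊔ T), σ ∈ F.autGroup ((C ⊔ C₀) ⊔ T) ∧
        ∀ x, ((σ x : _) : Ω) = s * (x : Ω) * s⁻¹ :=
      ⟨((C ⊔ C₀) ⊔ T).normalizerMonoidHom ⟨s, hUn hs.1⟩,
        autInducedBy_le_autGroup hUS (mem_autInducedBy_iff.2 ⟨s, hs.1, fun _ => rfl⟩),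
        fun _ => rfl⟩
    set k : MulAut ↥((C ⊔ C₀) ⊔ T) := σ⁻¹ * (ξ * σ * (ξ : MulAut ↥((C ⊔ C₀) ⊔ T))⁻¹) with hk
    have hkF : k ∈ F.autGroup ((C ⊔ C₀) ⊔ T) :=
      mul_mem (inv_mem hσF) (mul_mem (mul_mem hξF hσF) (inv_mem hξF))
    have hfixT : ∀ x : ↥((C ⊔ C₀) ⊔ T), (x : Ω) ∈ T → ξ x = x := fun x hx => hξT ⟨x, hx⟩
    have hinvT : ∀ x : ↥((C ⊔ C₀) ⊔ T), (x : Ω) ∈ T →
        (ξ : MulAut ↥((C ⊔ C₀) ⊔ T))⁻¹ x = x := fun x hx => by
      conv_lhs => rw [← hfixT x hx]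
      exact MulAut.inv_apply_self _ ξ x
    have hkT : ∀ x : ↥((C ⊔ C₀) ⊔ T), (x : Ω) ∈ T → k x = x := by
      intro x hx
      show σ⁻¹ (ξ (σ ((ξ : MulAut ↥((C ⊔ C₀) ⊔ T))⁻¹ x))) = x
      rw [hinvT x hx, hfixT (σ x) (by rw [hσ]; exact conj_mem_of_mem_normalizer (hTn hs.1) hx),
        MulAut.inv_apply_self]
    have hξC : ∀ w : ↥((C ⊔ C₀) ⊔ T), (w : Ω) ∈ C → ((ξ w : _) : Ω) ∈ C := fun w hw =>
      StronglyClosed.apply_mem hC ((mem_autGroup_iff hUS).1 hξF) hw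
    have hσC : ∀ w : ↥((C ⊔ C₀) ⊔ T), (w : Ω) ∈ C → σ w = w := fun w hw => Subtype.ext (by
      rw [hσ, ← (mem_centralizerIn.1 hs).2 _ hw, mul_inv_cancel_right])
    have hkC : ∀ x : ↥((C ⊔ C₀) ⊔ T), (x : Ω) ∈ C → k x = x := by
      intro x hx
      have h1 := pres_inv' hUS hξC x hx
      show σ⁻¹ (ξ (σ ((ξ : MulAut ↥((C ⊔ C₀) ⊔ T))⁻¹ x))) = x
      rw [hσC _ h1, MulAut.apply_inv_self]
      conv_lhs => rw [← hσC x hx]
      exact MulAut.inv_apply_self _ σ x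
    have hξC₀ : ∀ w : ↥((C ⊔ C₀) ⊔ T), (w : Ω) ∈ C₀ → ((ξ w : _) : Ω) ∈ C₀ := fun w hw => by
      rw [show w = Subgroup.inclusion le_sup_left ⟨(w : Ω), Subgroup.mem_sup_right (S := C) hw⟩
        from rfl, hξW]
      exact hξ₀.apply_centralizer (S := centralizerIn S T) hCT _ hw
    have hξmod : ∀ w : ↥((C ⊔ C₀) ⊔ T), (w : Ω) ∈ C₀ → ((w⁻¹ * ξ w : _) : Ω) ∈ C := fun w hw => by
      rw [show w = Subgroup.inclusion le_sup_left ⟨(w : Ω), Subgroup.mem_sup_right (S := C) hw⟩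
        from rfl, hξW, ← map_inv, ← map_mul]
      exact hξ₀.2.2 ⟨(w : Ω), Subgroup.mem_sup_right (S := C) hw⟩ hw
    have hσC₀ : ∀ w : ↥((C ⊔ C₀) ⊔ T), (w : Ω) ∈ C₀ → ((σ w : _) : Ω) ∈ C₀ := fun w hw => by
      rw [hσ]; exact conj_mem_of_mem_normalizer (hC₀n hs.1) hw
    have hkmod : ∀ x : ↥((C ⊔ C₀) ⊔ T), (x : Ω) ∈ C₀ → ((x⁻¹ * k x : _) : Ω) ∈ C := by
      intro x hx
      set y := (ξ : MulAut ↥((C ⊔ C₀) ⊔ T))⁻¹ x with hy
      have hyC₀ : (y : Ω) ∈ C₀ := pres_inv' hUS hξC₀ x hx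
      have hxy : x = ξ y := (MulAut.apply_inv_self _ (ξ : MulAut ↥((C ⊔ C₀) ⊔ T)) x).symm
      have e1 := hξmod y hyC₀
      have e2 := hξmod (σ y) (hσC₀ y hyC₀)
      have hσinv : ∀ z : ↥((C ⊔ C₀) ⊔ T), (z : Ω) ∈ C → σ⁻¹ z = z := fun z hz => by
        conv_lhs => rw [← hσC z hz]
        exact MulAut.inv_apply_self _ σ z
      have h3 : k x = y * ((σ y)⁻¹ * ξ (σ y)) := by
        show σ⁻¹ (ξ (σ y)) = _
        conv_lhs => rw [← mul_inv_cancel_left (σ y) (ξ (σ y))]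
        rw [map_mul, MulAut.inv_apply_self, hσinv _ e2]
      rw [h3, hxy, ← mul_assoc, Subgroup.coe_mul]
      refine C.mul_mem ?_ e2
      rw [show (ξ y)⁻¹ * y = (y⁻¹ * ξ y)⁻¹ by group]
      exact C.inv_mem e1
    have hkC₀ : ∀ x : ↥((C ⊔ C₀) ⊔ T), (x : Ω) ∈ C₀ → ((k x : _) : Ω) ∈ C ⊔ C₀ := fun x hx => by
      have h := mul_mem (Subgroup.mem_sup_right (S := C) hx) (Subgroup.mem_sup_left (T := C₀) (hkmod x hx))
      rwa [Subgroup.coe_mul, Subgroup.coe_inv, mul_inv_cancel_left] at h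
    -- restrict to `C C₀`
    have hres := restrict_mem ((mem_autGroup_iff hUS).1 hkF) (le_sup_left : C ⊔ C₀ ≤ (C ⊔ C₀) ⊔ T)
    have hkW : ∀ w : ↥(C ⊔ C₀), ((k (Subgroup.inclusion le_sup_left w) : _) : Ω) ∈ C ⊔ C₀ := by
      intro w
      exact range_le_of_gens (ψ := (((C ⊔ C₀) ⊔ T).subtype.comp k.toMonoidHom).comp
          (Subgroup.inclusion le_sup_left)) (U := C ⊔ C₀)
        (fun c => Subgroup.mem_sup_left (by
          show ((k _ : _) : Ω) ∈ C
          rw [hkC _ c.2]; exact c.2))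
        (fun c => hkC₀ _ c.2) ⟨w, rfl⟩
    obtain ⟨k₀, hk₀, hk₀v⟩ := exists_iso hres (Subgroup.eq_of_le_of_card_ge
      (by rintro _ ⟨w, rfl⟩; exact hkW w)
      (le_of_eq (Nat.card_congr (MonoidHom.ofInjective (F.injective_of_mem hres)).toEquiv)))
    have hk₀D : (k₀ : MulAut ↥(C ⊔ C₀)) ∈ D.autGroup (C ⊔ C₀) :=
      (mem_autGroup_iff hWD).2 (mem_centSystem_of_fix hT.1 ((mem_autGroup_iff hUS).1 hkF)
        le_sup_left le_sup_right (fun t => congrArg Subtype.val (hkT _ t.2)) hWD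
        fun w => hk₀v w)
    have hk₀C : ∀ r : ↥(C ⊔ C₀), (r : Ω) ∈ C → k₀ r = r := fun r hr =>
      Subtype.ext ((hk₀v r).trans (congrArg Subtype.val (hkC (Subgroup.inclusion le_sup_left r) hr)))
    obtain ⟨d, hd, hdv⟩ := exists_conj_of_kernel (F := D) (z := k₀) hDp hDsat hfcC
      ⟨hk₀D, fun r hr => (congrArg Subtype.val (hk₀C r hr)).symm ▸ hr, fun c hc => by
        rw [Subgroup.coe_mul, Subgroup.coe_inv, hk₀v]
        exact hkmod (Subgroup.inclusion le_sup_left c) hc⟩ hk₀C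
    refine ⟨d, hd, ?_⟩
    have hkd : ∀ w : ↥((C ⊔ C₀) ⊔ T), ((k w : _) : Ω) = d * (w : Ω) * d⁻¹ := by
      intro w
      let g : ↥((C ⊔ C₀) ⊔ T) →* Ω := (MulAut.conj d).toMonoidHom.comp ((C ⊔ C₀) ⊔ T).subtype
      suffices hsub : ⊤ ≤ (((C ⊔ C₀) ⊔ T).subtype.comp k.toMonoidHom).eqLocus g from
        hsub (Subgroup.mem_top w)
      rw [← Subgroup.subgroupOf_self (H := (C ⊔ C₀) ⊔ T),
        Subgroup.subgroupOf_sup le_sup_left le_sup_right]
      refine sup_le (fun x hx => ?_) fun x hx => ?_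
      · show ((k x : _) : Ω) = d * (x : Ω) * d⁻¹
        exact ((hk₀v ⟨x, hx⟩).symm).trans (hdv ⟨x, hx⟩)
      · show ((k x : _) : Ω) = d * (x : Ω) * d⁻¹
        have h : (x : Ω) * d = d * (x : Ω) := (mem_centralizerIn.1 (hC₀T hd)).2 _ hx
        rw [hkT x hx, ← h, mul_inv_cancel_right]
    intro x hm
    have e : (⟨s * (x : Ω) * s⁻¹, hm⟩ : ↥((C ⊔ C₀) ⊔ T)) = σ x := Subtype.ext (hσ x).symm
    rw [e, show ξ (σ x) = σ (k (ξ x)) by
      show _ = σ (σ⁻¹ (ξ (σ ((ξ : MulAut ↥((C ⊔ C₀) ⊔ T))⁻¹ (ξ x)))))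
      rw [MulAut.apply_inv_self, MulAut.inv_apply_self], hσ, hkd]
    group
  -- `C C₀ T` has no other conjugate
  have hUfc : F.IsFullyCentralized ((C ⊔ C₀) ⊔ T) := by
    refine ⟨hUS, ?_⟩
    rintro _ ⟨φ, hφ, rfl⟩
    have hle : φ.range ≤ (C ⊔ C₀) ⊔ T := by
      have hTs : ∀ t ∈ T, ∃ s : T, φ (Subgroup.inclusion le_sup_right s) = t := fun t ht =>
        ((StronglyClosed.weaklyClosed hT).2 _ (restrict_mem hφ le_sup_right)).ge ht
      have hCs : ∀ c ∈ C, ∃ s : C, φ (Subgroup.inclusion (le_sup_left.trans le_sup_left) s) = c :=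
        fun c hc => ((StronglyClosed.weaklyClosed hC).2 _
          (restrict_mem hφ (le_sup_left.trans le_sup_left))).ge hc
      refine range_le_of_gens (fun w => ?_)
        (fun t => Subgroup.mem_sup_right (StronglyClosed.apply_mem hT hφ t.2))
      refine range_le_of_gens (ψ := φ.comp (Subgroup.inclusion le_sup_left))
        (U := (C ⊔ C₀) ⊔ T)
        (fun c => Subgroup.mem_sup_left (Subgroup.mem_sup_left (StronglyClosed.apply_mem hC hφ c.2)))
        (fun z => ?_) ⟨w, rfl⟩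
      refine Subgroup.mem_sup_left (Subgroup.mem_sup_right (mem_centralizerIn.2
        ⟨mem_centralizerIn.2 ⟨hom_apply_mem hφ _, fun t ht => ?_⟩, fun c hc => ?_⟩))
      · obtain ⟨s, rfl⟩ := hTs t ht
        show φ _ * φ _ = φ _ * φ _
        rw [← map_mul, ← map_mul]
        exact congrArg φ (Subtype.ext ((mem_centralizerIn.1 (hC₀T z.2)).2 _ s.2))
      · obtain ⟨s, rfl⟩ := hCs c hc
        show φ _ * φ _ = φ _ * φ _
        rw [← map_mul, ← map_mul]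
        exact congrArg φ (Subtype.ext ((mem_centralizerIn.1 z.2).2 _ s.2))
    rw [Subgroup.eq_of_le_of_card_ge hle
      (le_of_eq (Nat.card_congr (MonoidHom.ofInjective (F.injective_of_mem hφ)).toEquiv))]
  have hVext : ((C ⊔ C₀) ⊔ T) ⊔ centralizerIn S C ≤ extender S ((C ⊔ C₀) ⊔ T) (isoHom ξ) := by
    refine sup_le (le_sup_left.trans (sup_le_extender hξ)) fun s hs => ?_
    obtain ⟨d, hd, hdv⟩ := hkey s hs
    exact mem_extender_iff.2 ⟨hs.1, hUn hs.1, s * d,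
      S.mul_mem hs.1 (hC₀T hd).1, fun x hm => hdv x hm⟩
  obtain ⟨χ, hχ, hχv⟩ := exists_extension (IsSaturated.receptive hS hF hUfc) hξ le_sup_left hVext
  -- restrict to `C C_S(C)`
  have hCV : C ≤ (C ⊔ C₀) ⊔ T := le_sup_left.trans le_sup_left
  have hMV : C ⊔ centralizerIn S C ≤ ((C ⊔ C₀) ⊔ T) ⊔ centralizerIn S C :=
    sup_le_sup_right hCV _
  have hχC : ∀ r : C, χ (Subgroup.inclusion hMV (Subgroup.inclusion le_sup_left r)) =
      ((α r : C) : Ω) := fun r =>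
    (hχv (Subgroup.inclusion hCV r)).trans ((congrArg Subtype.val
      (hξW (Subgroup.inclusion le_sup_left r))).trans (hξ₀v r r.2))
  have hres := restrict_mem hχ hMV
  have hMS : C ⊔ centralizerIn S C ≤ S := sup_le hCS (centralizerIn_le C)
  have := finite_le hMS
  have := finite_mulAut_of_le (S := S) hMS
  have hMr : (χ.comp (Subgroup.inclusion hMV)).range ≤ C ⊔ centralizerIn S C := range_le_of_gens
    (fun r => Subgroup.mem_sup_left (by rw [MonoidHom.comp_apply, hχC]; exact (α r).2))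
    (fun z => Subgroup.mem_sup_right (mem_centralizerIn.2 ⟨hom_apply_mem hres _, fun c hc => by
      have h1 := hχC (α⁻¹ ⟨c, hc⟩)
      rw [MulAut.apply_inv_self] at h1
      show c * (χ.comp (Subgroup.inclusion hMV)) (Subgroup.inclusion le_sup_right z) = _
      rw [MonoidHom.comp_apply, show c = χ (Subgroup.inclusion hMV
        (Subgroup.inclusion le_sup_left (α⁻¹ ⟨c, hc⟩))) from h1.symm, ← map_mul χ, ← map_mul χ]
      refine congrArg χ (Subtype.ext ?_)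
      exact (mem_centralizerIn.1 z.2).2 _ (α⁻¹ ⟨c, hc⟩).2⟩))
  obtain ⟨β, hβ, hβv⟩ := exists_iso hres (Subgroup.eq_of_le_of_card_ge hMr
    (le_of_eq (Nat.card_congr (MonoidHom.ofInjective (F.injective_of_mem hres)).toEquiv)))
  have hβF : (β : MulAut ↥(C ⊔ centralizerIn S C)) ∈ F.autGroup (C ⊔ centralizerIn S C) :=
    (mem_autGroup_iff_isoIn hMS).2 hβ
  obtain ⟨i, j, hij, ⟨e, he⟩, hj⟩ :=
    exists_p_split (p := p) (β : MulAut ↥(C ⊔ centralizerIn S C))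
  have hpowC : ∀ (a : ℕ) (r : C),
      (((β : MulAut ↥(C ⊔ centralizerIn S C)) ^ a) (Subgroup.inclusion le_sup_left r)) =
        Subgroup.inclusion le_sup_left ((α ^ a) r) := by
    intro a
    induction a with
    | zero => exact fun r => rfl
    | succ a ih =>
      intro r
      rw [pow_succ, pow_succ, MulAut.mul_apply, MulAut.mul_apply,
        show (β : MulAut ↥(C ⊔ centralizerIn S C)) (Subgroup.inclusion le_sup_left r) =
          Subgroup.inclusion le_sup_left (α r) from Subtype.ext ((hβv _).trans (hχC r)), ih]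
  have hai : α ^ i = 1 := by
    have h1 : (α ^ i) ^ p ^ e = 1 := by
      refine MulEquiv.ext fun r => Subgroup.inclusion_injective (le_sup_left (b := centralizerIn S C)) ?_
      rw [← pow_mul, ← hpowC, pow_mul, he]
      rfl
    refine orderOf_eq_one_iff.1 (Nat.eq_one_of_dvd_coprimes (hcop.symm.pow_left e)
      (orderOf_dvd_of_pow_eq_one h1) (orderOf_dvd_of_pow_eq_one ?_))
    rw [← pow_mul, mul_comm, pow_mul, hn, one_pow]
  have haj : α ^ j = α := by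
    refine MulEquiv.ext fun r => Subgroup.inclusion_injective (le_sup_left (b := centralizerIn S C)) ?_
    have h2 := hpowC (i + j) r
    rw [pow_add (β : MulAut ↥(C ⊔ centralizerIn S C)), hij, pow_add α, hai, one_mul] at h2
    exact h2.symm.trans (Subtype.ext ((hβv _).trans (hχC r)))
  set ρ : MulAut ↥(C ⊔ centralizerIn S C) := (β : MulAut ↥(C ⊔ centralizerIn S C)) ^ j with hρ
  refine ⟨ρ, pow_mem hβF j, fun r => by rw [hρ, hpowC, haj]; rfl, fun c hc => ?_⟩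
  -- the displacement of `c` lies in `C₀`
  have hρC : ∀ r : C, ρ (Subgroup.inclusion le_sup_left r) = Subgroup.inclusion le_sup_left (α r) :=
    fun r => by rw [hρ, hpowC, haj]
  have hρcent : ∀ z : ↥(C ⊔ centralizerIn S C), (z : Ω) ∈ centralizerIn S C →
      ((ρ z : _) : Ω) ∈ centralizerIn S C := by
    intro z hz
    refine mem_centralizerIn.2 ⟨hMS (ρ z).2, fun r hr => ?_⟩
    have h1 := hρC (α⁻¹ ⟨r, hr⟩)
    rw [MulAut.apply_inv_self] at h1
    rw [show r = ((ρ (Subgroup.inclusion le_sup_left (α⁻¹ ⟨r, hr⟩)) : _) : Ω) by rw [h1]; rfl,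
      ← Subgroup.coe_mul, ← Subgroup.coe_mul, ← map_mul, ← map_mul]
    exact congrArg (fun w => ((ρ w : _) : Ω)) (Subtype.ext
      ((mem_centralizerIn.1 hz).2 _ (α⁻¹ ⟨r, hr⟩).2))
  obtain ⟨b, hb⟩ : ∃ b, ∀ (x : ↥(C ⊔ centralizerIn S C)) (hx : (x : Ω) ∈ C₀),
      ((ρ x : _) : Ω) =
        (((ξ₀ ^ b) ⟨(x : Ω), Subgroup.mem_sup_right (S := C) (T := C₀) hx⟩ : _) : Ω) := by
    refine ⟨j, fun x hx => ?_⟩
    have hmain : ∀ (a : ℕ) (z : ↥(C ⊔ centralizerIn S C)) (hz : (z : Ω) ∈ C₀),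
        ((((β : MulAut ↥(C ⊔ centralizerIn S C)) ^ a) z : _) : Ω) =
          (((ξ₀ ^ a) ⟨(z : Ω), Subgroup.mem_sup_right (S := C) hz⟩ : _) : Ω) := by
      intro a
      induction a with
      | zero => exact fun z hz => rfl
      | succ a ih =>
        intro z hz
        rw [pow_succ, pow_succ, MulAut.mul_apply, MulAut.mul_apply]
        have e1 : ((β z : _) : Ω) = ((ξ₀ ⟨(z : Ω), Subgroup.mem_sup_right (S := C) hz⟩ : _) : Ω) :=
          (hβv z).trans ((hχv ⟨z, Subgroup.mem_sup_left (Subgroup.mem_sup_right hz)⟩).trans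
            (congrArg Subtype.val (hξW ⟨(z : Ω), Subgroup.mem_sup_right (S := C) hz⟩)))
        have e2 : ((β z : _) : Ω) ∈ C₀ :=
          e1.symm ▸ hξ₀.apply_centralizer (S := centralizerIn S T) hCT _ hz
        rw [ih _ e2, show (⟨((β z : _) : Ω), Subgroup.mem_sup_right (S := C) e2⟩ : ↥(C ⊔ C₀)) =
          ξ₀ ⟨(z : Ω), Subgroup.mem_sup_right (S := C) hz⟩ from Subtype.ext e1]
    exact hmain j x hx
  have hmod : ∀ x : ↥(C ⊔ centralizerIn S C), (x : Ω) ∈ C₀ →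
      ((x⁻¹ * ρ x : _) : Ω) ∈ C ⊓ Subgroup.centralizer (C : Set Ω) := by
    intro x hx
    refine ⟨?_, ?_⟩
    · rw [Subgroup.coe_mul, Subgroup.coe_inv, hb x hx]
      exact (hξ₀.pow b).2.2 ⟨(x : Ω), Subgroup.mem_sup_right (S := C) hx⟩ hx
    · have hxC : (x : Ω) ∈ centralizerIn S C :=
        mem_centralizerIn.2 ⟨(hC₀T hx).1, (mem_centralizerIn.1 hx).2⟩
      exact (mul_mem (Subgroup.inv_mem _ hxC) (hρcent x hxC)).2
  have hz0 : ((c⁻¹ * ρ c : _) : Ω) ∈ C₀ := by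
    have hcC : ((c⁻¹ * ρ c : _) : Ω) ∈ centralizerIn S C :=
      mul_mem (Subgroup.inv_mem _ hc) (hρcent c hc)
    refine mem_centralizerIn.2 ⟨mem_centralizerIn.2 ⟨hcC.1, fun t ht => ?_⟩,
      (mem_centralizerIn.1 hcC).2⟩
    -- `β` fixes `T`, so its powers move `c` inside the centralizer of `T`
    have hstep : ∀ w : ↥(C ⊔ centralizerIn S C), ∀ t ∈ T,
        t * ((w : Ω)⁻¹ * ((β w : _) : Ω)) = (w : Ω)⁻¹ * ((β w : _) : Ω) * t := by
      intro w t ht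
      have hwS : (w : Ω) ∈ S := hMS w.2
      let tU : ↥(((C ⊔ C₀) ⊔ T) ⊔ centralizerIn S C) :=
        Subgroup.inclusion le_sup_left (Subgroup.inclusion le_sup_right (⟨t, ht⟩ : T))
      let wU : ↥(((C ⊔ C₀) ⊔ T) ⊔ centralizerIn S C) := Subgroup.inclusion hMV w
      have hfix : ∀ u : ↥(((C ⊔ C₀) ⊔ T) ⊔ centralizerIn S C), (u : Ω) ∈ T → χ u = u := by
        intro u hu
        have h1 := hχv (Subgroup.inclusion le_sup_right (⟨(u : Ω), hu⟩ : T))
        rw [hξT] at h1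
        exact (congrArg χ (Subtype.ext rfl)).trans h1
      have hwt : (w : Ω) * t * (w : Ω)⁻¹ ∈ T := conj_mem_of_mem_normalizer (hTn hwS) ht
      have h1 : χ (wU * tU * wU⁻¹) = (w : Ω) * t * (w : Ω)⁻¹ := hfix _ hwt
      have e : χ wU = ((β w : _) : Ω) := (hβv w).symm
      rw [map_mul, map_mul, map_inv, hfix tU ht, e] at h1
      change ((β w : _) : Ω) * t * ((β w : _) : Ω)⁻¹ = _ at h1
      rw [mul_inv_eq_iff_eq_mul] at h1
      calc t * ((w : Ω)⁻¹ * ((β w : _) : Ω))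
          = (w : Ω)⁻¹ * ((w : Ω) * t * (w : Ω)⁻¹ * ((β w : _) : Ω)) := by group
        _ = (w : Ω)⁻¹ * (((β w : _) : Ω) * t) := by rw [h1]
        _ = (w : Ω)⁻¹ * ((β w : _) : Ω) * t := by group
    have hpow' : ∀ (a : ℕ) (t : Ω), t ∈ T →
        t * ((c : Ω)⁻¹ * ((((β : MulAut ↥(C ⊔ centralizerIn S C)) ^ a) c : _) : Ω)) =
          (c : Ω)⁻¹ * ((((β : MulAut ↥(C ⊔ centralizerIn S C)) ^ a) c : _) : Ω) * t := by
      intro a
      induction a with
      | zero => intro t ht; simp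
      | succ a ih =>
        intro t ht
        rw [pow_succ' (β : MulAut ↥(C ⊔ centralizerIn S C)), MulAut.mul_apply]
        set w := ((β : MulAut ↥(C ⊔ centralizerIn S C)) ^ a) c
        calc t * ((c : Ω)⁻¹ * ((β w : _) : Ω))
            = t * ((c : Ω)⁻¹ * (w : Ω)) * ((w : Ω)⁻¹ * ((β w : _) : Ω)) := by group
          _ = (c : Ω)⁻¹ * (w : Ω) * (t * ((w : Ω)⁻¹ * ((β w : _) : Ω))) := by
              rw [ih t ht, mul_assoc]
          _ = (c : Ω)⁻¹ * ((β w : _) : Ω) * t := by rw [hstep w t ht]; group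
    rw [Subgroup.coe_mul, Subgroup.coe_inv]
    exact hpow' j t ht
  set z := c⁻¹ * ρ c with hzdef
  let Z : Subgroup Ω := C ⊓ Subgroup.centralizer (C : Set Ω)
  -- iterate
  have hZρ : ∀ w : ↥(C ⊔ centralizerIn S C), (w : Ω) ∈ Z → ((ρ w : _) : Ω) ∈ Z := by
    intro w hw
    refine ⟨?_, (hρcent w ⟨hCS hw.1, hw.2⟩).2⟩
    rw [show w = Subgroup.inclusion le_sup_left (⟨(w : Ω), hw.1⟩ : C) from rfl, hρC]
    exact (α _).2
  have hZcomm : ∀ w : ↥(C ⊔ centralizerIn S C), (w : Ω) ∈ Z → Commute w z := fun w hw =>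
    Subtype.ext ((mem_centralizerIn.1 hz0).2 _ hw.1)
  have hpw : ∀ a : ℕ, ∃ ε : ↥(C ⊔ centralizerIn S C), (ε : Ω) ∈ Z ∧
      (ρ ^ a) c = c * z ^ a * ε := by
    intro a
    induction a with
    | zero => exact ⟨1, Z.one_mem, by simp⟩
    | succ a ih =>
      obtain ⟨ε, hε, hεv⟩ := ih
      have hζ : (((z ^ a)⁻¹ * ρ (z ^ a) : _) : Ω) ∈ Z :=
        hmod _ (by rw [SubgroupClass.coe_pow]; exact Subgroup.pow_mem _ hz0 a)
      refine ⟨(z ^ a)⁻¹ * ρ (z ^ a) * ρ ε, ?_, ?_⟩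
      · rw [Subgroup.coe_mul]; exact Z.mul_mem hζ (hZρ ε hε)
      · rw [pow_succ', MulAut.mul_apply, hεv, map_mul, map_mul]
        have hc1 : ρ c = c * z := by rw [hzdef, mul_inv_cancel_left]
        rw [hc1, pow_succ']
        group
  obtain ⟨N, hN, hNcop⟩ : ∃ N : ℕ, ρ ^ N = 1 ∧ N.Coprime p := ⟨_, pow_orderOf_eq_one _, hj⟩
  obtain ⟨ε, hε, hεv⟩ := hpw N
  rw [hN, MulAut.one_apply, mul_assoc, left_eq_mul, ← eq_inv_iff_mul_eq_one] at hεv
  have hzN : (z : Ω) ^ N ∈ Z := by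
    rw [← SubgroupClass.coe_pow, hεv]
    exact Z.inv_mem hε
  obtain ⟨a, ha⟩ := (hS.to_le hMS) z
  have ha' : (z : Ω) ^ p ^ a = 1 := congrArg Subtype.val ha
  obtain ⟨l, hl⟩ := exists_pow_eq_self_of_coprime (n := N) (x := (z : Ω))
    (Nat.Coprime.coprime_dvd_right (orderOf_dvd_of_pow_eq_one ha') (hNcop.pow_right a))
  rw [← Subgroup.coe_inv, ← Subgroup.coe_mul, ← hzdef, ← hl]
  exact Z.pow_mem hzN l

end CfsgLib.Fusion
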