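import Cfsg.Agent.Lib.Fusion.InnerThompson
import Cfsg.Agent.Lib.Fusion.BadNormal
import Cfsg.Agent.Lib.Fusion.Criterion

/-!
Characteristic subgroups deciding whether a system is inner.
-/

set_option autoImplicit false

namespace CfsgLib.Fusion

open Cfsg Cfsg.FusionSystem

universe u

variable {Ω : Type u} [Group Ω] {S : Subgroup Ω} {F : FusionSystem S} {p : ℕ}

/-- The normalizer of a normal subgroup without bad automorphisms has only inner maps. -/
theorem normalizer_inner_of_locTriv [Fact p.Prime] [Finite S] (hS : IsPGroup p S)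
    (hF : F.IsSaturated p) {X : Subgroup Ω} (hX : X ≤ S)
    (hXN : S ≤ Subgroup.normalizer (X : Set Ω)) (h : LocTriv F p X) {P : Subgroup Ω}
    {φ : P →* Ω} (hφ : φ ∈ F.normalizerHom X P) : φ ∈ (innerFusionSystem S).Hom P := by
  have hNS : normalizerIn S X = S := inf_eq_left.2 hXN
  have := finite_le (normalizerIn_le (S := S) X)
  have hsys := normSystem_isNormalizerSystem F X hX
  set N := normSystem F X hX
  have hsub : N.IsSubsystemOf F := fun A χ hχ => normalizerSystem_le hsys hχ
  have hfn : F.IsFullyNormalized X := ⟨hX, fun R _ => by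
    rw [hNS]; exact Subgroup.card_le_of_le (normalizerIn_le R)⟩
  have hN : N = innerFusionSystem (normalizerIn S X) := by
    have hNX := normalizerSystem_isNormal hX hsys
    refine eq_inner_over (hS.to_le (normalizerIn_le X))
      (normalizerSystem_saturated hS hF hfn hsys) hNX fun R hXR hR b hb hc => ?_
    have hbN := (mem_autGroup_iff hR).1 hb
    exact h.mono hsub (normalizerIn_le X) R hXR (fun x hx => ⟨hR hx, (hR hx).2⟩) b hb hc
      fun x hx => StronglyClosed.apply_mem (IsNormal.stronglyClosed hNX) hbN hx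
  have hφN : φ ∈ N.Hom P := hφ
  rw [hN] at hφN
  obtain ⟨hP, g, hg, hv⟩ := hφN
  exact ⟨hP.trans (normalizerIn_le X), g, normalizerIn_le X hg, hv⟩

/-- Maps centralizing a subgroup normalize it. -/
theorem centralizerHom_subset_normalizerHom {Q P : Subgroup Ω} {φ : P →* Ω}
    (hφ : φ ∈ F.centralizerHom Q P) : φ ∈ F.normalizerHom Q P := by
  obtain ⟨h1, h2, h3, ψ, hψ, hψP, hψQ⟩ := hφ
  refine ⟨h1, h2.trans (centralizerIn_le_normalizerIn Q),
    fun x => centralizerIn_le_normalizerIn Q (h3 x), ψ, hψ, hψP, map_eq_of_fix hψQ⟩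

theorem thompsonA_normal (S : Subgroup Ω) :
    S ≤ Subgroup.normalizer ((thompsonSubgroupAOf S : Subgroup Ω) : Set Ω) :=
  Subgroup.le_normalizer.trans (normalizer_le_normalizer_thompsonA S)

theorem centerOf_normal (S : Subgroup Ω) :
    S ≤ Subgroup.normalizer ((centerOf S : Subgroup Ω) : Set Ω) := fun _ hg =>
  Subgroup.centralizer_le_normalizer _ (Subgroup.mem_centralizer_iff.2 fun _ hy =>
    (centerOf_comm hy hg).symm)

theorem centerOf_ne_bot [Fact p.Prime] [Finite S] (hS : IsPGroup p S) (hS1 : S ≠ ⊥) :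
    centerOf S ≠ ⊥ := by
  have : Nontrivial S := (Subgroup.nontrivial_iff_ne_bot S).2 hS1
  have := hS.center_nontrivial
  obtain ⟨⟨⟨x, hx⟩, hxc⟩, hne⟩ := exists_ne (1 : Subgroup.center S)
  intro h
  have hmem : x ∈ centerOf S := ⟨hx, Subgroup.mem_centralizer_iff.2 fun y hy =>
    congrArg Subtype.val (Subgroup.mem_center_iff.1 hxc ⟨y, hy⟩)⟩
  exact hne (Subtype.ext (Subtype.ext (Subgroup.mem_bot.1 (h.le hmem))))

/-- A system that is not inner has a bad normal subgroup; `p` odd or no sections `S₄`. -/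
theorem exists_bad_normal_free [Fact p.Prime] [Finite S] (hS : IsPGroup p S) (hF : F.IsSaturated p)
    (hfree : p ≠ 2 ∨ FourFree F) (hne : F ≠ innerFusionSystem S) :
    ∃ Y : Subgroup Ω, Y ≠ ⊥ ∧ Y ≤ S ∧ S ≤ Subgroup.normalizer (Y : Set Ω) ∧ ¬ LocTriv F p Y := by
  obtain ⟨X, hX1, hXS, -⟩ := exists_bad hS hF hne
  have hS1 : S ≠ ⊥ := fun h => hX1 (le_bot_iff.1 (h ▸ hXS))
  by_contra hall
  simp only [not_exists, not_and, not_not] at hall
  have hZ := hall _ (centerOf_ne_bot hS hS1) inf_le_left (centerOf_normal S)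
  have hJne : thompsonSubgroupAOf S ≠ ⊥ := fun h => centerOf_ne_bot hS hS1
    (le_bot_iff.1 ((center_le_thompsonA (le_refl S)).trans h.le))
  have hJ := hall _ hJne (thompsonAOf_le S) (thompsonA_normal S)
  exact hne (inner_of_center_thompson hS hF hfree
    (fun P φ hφ => normalizer_inner_of_locTriv hS hF inf_le_left (centerOf_normal S) hZ
      (centralizerHom_subset_normalizerHom hφ))
    fun P φ hφ => normalizer_inner_of_locTriv hS hF (thompsonAOf_le S) (thompsonA_normal S) hJ hφ)

/-- All automorphisms of `S` fix the Thompson subgroup. -/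
theorem thompsonA_characteristic (S : Subgroup Ω) :
    ((thompsonSubgroupAOf S).subgroupOf S).Characteristic := by
  rw [thompsonSubgroupAOf, Subgroup.subgroupOf,
    Subgroup.comap_map_eq_self_of_injective S.subtype_injective]
  exact Subgroup.characteristic_iff_map_eq.2 fun e => PLocal.map_equiv_thompsonA e

/-- If characteristic subgroups have `p`-groups of automorphisms, the system is inner. -/
theorem inner_of_char_automizers [Fact p.Prime] : ∀ (n : ℕ) {Ω : Type u} [Group Ω]
    {S : Subgroup Ω} [Finite S] {F : FusionSystem S}, Nat.card S = n → IsPGroup p S →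
    F.IsSaturated p → (p ≠ 2 ∨ FourFree F) →
    (∀ Q : Subgroup Ω, Q ≤ S → Q ≠ ⊥ → (Q.subgroupOf S).Characteristic →
      IsPGroup p (F.autGroup Q)) → F = innerFusionSystem S := by
  intro n
  induction n using Nat.strong_induction_on with
  | _ n ih =>
  intro Ω _ S _ F hn hS hF hfree hchar
  by_contra hne
  obtain ⟨X, hX1, hXS, -⟩ := exists_bad hS hF hne
  have hS1 : S ≠ ⊥ := fun h => hX1 (le_bot_iff.1 (h ▸ hXS))
  have hZ1 := centerOf_ne_bot hS hS1
  refine hne (inner_of_center_thompson hS hF hfree ?_ ?_)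
  · -- the centralizer of the centre
    set Z := centerOf S with hZdef
    have hZS : Z ≤ S := inf_le_left
    have hCS : centralizerIn S Z = S := le_antisymm (centralizerIn_le Z) fun g hg =>
      mem_centralizerIn.2 ⟨hg, fun z hz => (centerOf_comm hz hg).symm⟩
    have hfc : F.IsFullyCentralized Z := ⟨hZS, fun R _ => by
      rw [hCS]; exact Subgroup.card_le_of_le (centralizerIn_le R)⟩
    have hsys := centSystem_isCentralizerSystem F Z hZS
    set C := copySystem hCS (centSystem F Z hZS) with hC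
    have hCsat : C.IsSaturated p :=
      copySystem_saturated hCS (centralizerSystem_saturated hS hF hfc hsys)
    have hCF : C.IsSubsystemOf F := fun P φ hφ => hφ.1
    have hCZ : C.IsCentral Z := by
      refine ⟨hZS, fun P φ hφ => ?_⟩
      obtain ⟨h1, h2, h3, ψ, hψ, hψP, hψZ⟩ := hφ
      have hs : P ⊔ Z ⊔ Z ≤ P ⊔ Z := sup_le le_rfl le_sup_right
      refine ⟨ψ, ⟨hψ, ?_, fun x => ?_, ψ.comp (Subgroup.inclusion hs), restrict_mem hψ hs,
        fun x => rfl, hψZ⟩, hψP, hψZ⟩
      · rw [hCS]; exact sup_le (h2.trans hCS.le) hZS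
      · rw [hCS]; exact hom_apply_mem hψ x
    have hCn := isCentral_isNormal hCZ
    suffices hinner : C = innerFusionSystem S from
      fun P φ hφ => (congrArg (fun E : FusionSystem S => E.Hom P) hinner).le (hφ : φ ∈ C.Hom P)
    obtain ⟨Ω', _, θ, S', E, _, hS', hE, hEsat, hlt⟩ :=
      exists_factor_quotient hS hCsat (IsNormal.stronglyClosed hCn)
    refine inner_of_factor_inner hS hCsat hCn ?_ hE
      (ih _ (hn ▸ hlt hZ1) rfl hS' hEsat
        (hfree.imp id fun hf => (hf.mono hCF le_rfl).factor (p := p) hE) ?_)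
    · intro R hZR hRS b hb
      refine ⟨1, S.one_mem, fun x hx => ?_⟩
      obtain ⟨-, -, -, ψ, -, hψP, hψZ⟩ := (mem_autGroup_iff hRS).1 hb
      rw [one_mul, inv_one, mul_one]
      have h1 := hψZ ⟨x, hx⟩
      rw [show Subgroup.inclusion le_sup_right (⟨x, hx⟩ : Z) = Subgroup.inclusion le_sup_left x from
        Subtype.ext rfl, hψP] at h1
      exact h1
    intro Q' hQ'S hQ'1 hQ'char
    obtain ⟨hTS, hθ, hrange, hiff⟩ := hE
    set Q := preimageAlong θ Q' with hQ
    have hQS : Q ≤ S := preimageAlong_le θ Q'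
    have hQ1 : Q ≠ ⊥ := fun h =>
      hZ1 (le_bot_iff.1 ((ker_le_preimageAlong hTS hθ Q').trans h.le))
    have hQchar : (Q.subgroupOf S).Characteristic := by
      refine Subgroup.characteristic_iff_le_comap.2 fun a x hx => ?_
      -- the induced automorphism of the quotient
      set θ' : S →* S' := θ.codRestrict S' (fun s => hrange ▸ ⟨s, rfl⟩) with hθ'
      have hθs : Function.Surjective θ' := fun y => by
        obtain ⟨s, hs⟩ := hrange.ge y.2
        exact ⟨s, Subtype.ext hs⟩
      have hker : ∀ (a : MulAut S) (s : S), (s : Ω) ∈ Z → ((a s : S) : Ω) ∈ Z := by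
        intro a s hs
        refine ⟨(a s).2, Subgroup.mem_centralizer_iff.2 fun y hy => ?_⟩
        have h1 : a.symm ⟨y, hy⟩ * s = s * a.symm ⟨y, hy⟩ :=
          Subtype.ext (centerOf_comm hs (a.symm ⟨y, hy⟩).2)
        have h2 := congrArg a h1
        rw [map_mul, map_mul, MulEquiv.apply_symm_apply] at h2
        exact congrArg Subtype.val h2
      have hk : ∀ a : MulAut S, θ'.ker ≤ (θ'.comp a.toMonoidHom).ker := fun a s hs =>
        Subtype.ext ((hθ _).2 (hker a s ((hθ s).1 (congrArg Subtype.val hs))))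
      let f : MulAut S → (S' →* S') := fun a =>
        MonoidHom.liftOfSurjective θ' hθs ⟨θ'.comp a.toMonoidHom, hk a⟩
      have hf : ∀ a s, f a (θ' s) = θ' (a s) := fun a s =>
        MonoidHom.liftOfRightInverse_comp_apply θ' _ (Function.rightInverse_surjInv hθs)
          ⟨θ'.comp a.toMonoidHom, hk a⟩ s
      let α : MulAut S' := MonoidHom.toMulEquiv (f a) (f a⁻¹)
        (MonoidHom.ext fun y => by
          obtain ⟨s, rfl⟩ := hθs y
          show f a⁻¹ (f a (θ' s)) = θ' s
          rw [hf, hf, MulAut.inv_apply_self])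
        (MonoidHom.ext fun y => by
          obtain ⟨s, rfl⟩ := hθs y
          show f a (f a⁻¹ (θ' s)) = θ' s
          rw [hf, hf, MulAut.apply_inv_self])
      have hxQ : θ' x ∈ Q'.subgroupOf S' := (mem_preimageAlong (θ := θ) (x := x)).1 hx
      have h1 : (α (θ' x) : S') ∈ Q'.subgroupOf S' :=
        (Subgroup.characteristic_iff_le_comap.1 hQ'char α) hxQ
      refine (mem_preimageAlong (θ := θ) (x := a x)).2 ?_
      have h2 : α (θ' x) = θ' (a x) := hf a x
      rw [h2] at h1
      exact h1
    have hfin := finite_le hQS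
    have hfa := finite_mulAut_of_le (S := S) hQS
    have hfin' := finite_le (S := S') hQ'S
    have hfa' := finite_mulAut_of_le (S := S') hQ'S
    refine isPGroup_of_coprime_trivial fun g hg => ?_
    obtain ⟨-, φ, hφ, hP, hφS, hm, hv⟩ := (hiff Q' _).1 ((mem_autGroup_iff hQ'S).1 g.2)
    have hr : φ.range = Q := Subgroup.eq_of_le_of_card_ge
      (by
        rintro _ ⟨x, rfl⟩
        exact (mem_preimageAlong (x := ⟨φ x, hφS x⟩)).2
          ((hv x).subst (motive := (· ∈ Q')) ((g : MulAut Q') _).2))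
      (le_of_eq (Nat.card_congr (MonoidHom.ofInjective (C.injective_of_mem hφ)).toEquiv))
    obtain ⟨e, he, hev⟩ := exists_iso hφ hr
    set b : MulAut Q := e with hb
    have hbF : b ∈ F.autGroup Q :=
      (mem_autGroup_iff hQS).2 (hCF Q he)
    obtain ⟨k, hk⟩ := hchar Q hQS hQ1 hQchar ⟨b, hbF⟩
    have hk' : b ^ p ^ k = 1 := congrArg Subtype.val hk
    have hpow : ∀ (i : ℕ) (x : Q), θ ⟨((b ^ i) x : Q), hQS ((b ^ i) x).2⟩ =
        (((g : MulAut Q') ^ i) ⟨θ ⟨x, hP x.2⟩, hm x⟩ : Q') := by
      intro i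
      induction i with
      | zero => intro x; rfl
      | succ i ih =>
          intro x
          have h1 : (⟨(((b ^ (i + 1)) x : Q) : Ω), hQS ((b ^ (i + 1)) x).2⟩ : S) =
              ⟨φ ((b ^ i) x), hφS _⟩ :=
            Subtype.ext (by rw [pow_succ', MulAut.mul_apply]; exact hev _)
          rw [h1, ← hv ((b ^ i) x), pow_succ', MulAut.mul_apply]
          exact congrArg (fun z => (((g : MulAut Q') z : Q') : Ω')) (Subtype.ext (ih x))
    have hg1 : (g : MulAut Q') ^ p ^ k = 1 := by
      refine MulEquiv.ext fun y => ?_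
      obtain ⟨x, hx⟩ := exists_preimage (θ := θ) (hQ'S.trans hrange.ge) y
      obtain rfl : (⟨_, hm x⟩ : Q') = y := Subtype.ext hx
      have h2 := hpow (p ^ k) x
      simp only [hk', MulAut.one_apply] at h2
      exact Subtype.ext h2.symm
    exact orderOf_eq_one_iff.1 (Nat.eq_one_of_dvd_coprimes (hg.pow_right k) dvd_rfl
      (orderOf_dvd_of_pow_eq_one (Subtype.ext hg1)))
  · -- the normalizer of the Thompson subgroup
    intro P φ hφ
    set J := thompsonSubgroupAOf S with hJdef
    have hJS : J ≤ S := thompsonAOf_le S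
    refine normalizer_inner_of_locTriv hS hF hJS (thompsonA_normal S) ?_ hφ
    have hJ1 : J ≠ ⊥ := fun h => hZ1
      (le_bot_iff.1 ((center_le_thompsonA (le_refl S)).trans h.le))
    have hNS : normalizerIn S J = S := inf_eq_left.2 (thompsonA_normal S)
    have hfn : F.IsFullyNormalized J := ⟨hJS, fun R _ => by
      rw [hNS]; exact Subgroup.card_le_of_le (normalizerIn_le R)⟩
    have hJc : F.IsCentric J := isCentric_of_centralizerIn_le hS hF
      (IsSaturated.fullyCentralized hS hF hfn) fun c hc =>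
        mem_thompsonA_of_centralizes le_rfl (mem_centralizerIn.1 hc).1 (mem_centralizerIn.1 hc).2
    intro R hJR hR b hb hc hbJ
    have hRS : R ≤ S := hR.trans (normalizerIn_le J)
    have hbF := (mem_autGroup_iff hRS).1 hb
    have := finite_le hJS
    obtain ⟨e, he, hev⟩ := exists_iso (restrict_mem hbF hJR)
      (Subgroup.eq_of_le_of_card_ge (K := J)
        (by rintro _ ⟨x, rfl⟩; exact hbJ _ x.2)
        (le_of_eq (Nat.card_congr (MonoidHom.ofInjective
          (F.injective_of_mem (restrict_mem hbF hJR))).toEquiv)))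
    set c : MulAut J := e with hcdef
    have hcmem : c ∈ F.autGroup J := (mem_autGroup_iff_isoIn hJS).2 he
    obtain ⟨k, hk⟩ := hchar J hJS hJ1 (thompsonA_characteristic S) ⟨c, hcmem⟩
    have hk' : c ^ p ^ k = 1 := congrArg Subtype.val hk
    have hpow : ∀ (i : ℕ) (x : J), (((c ^ i) x : J) : Ω) = ((b ^ i) (Subgroup.inclusion hJR x) : R) := by
      intro i
      induction i with
      | zero => intro x; rfl
      | succ i ih =>
          intro x
          rw [pow_succ', MulAut.mul_apply, pow_succ', MulAut.mul_apply, hev]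
          exact congrArg (fun z => ((b z : R) : Ω)) (Subtype.ext (ih x))
    obtain ⟨m, hm⟩ := exists_pow_eq_self_of_coprime (x := b) ((hc.pow_right k).symm)
    have hfix : ∀ x : R, (x : Ω) ∈ J → R.subtype x = R.subtype.comp b.toMonoidHom x := by
      intro x hx
      have h1 := hpow (p ^ k * m) ⟨x, hx⟩
      rw [pow_mul c, hk', one_pow, pow_mul b, hm] at h1
      exact h1
    obtain ⟨z, -, -, hz⟩ := maps_agree hS hF hJR hJc (incl_mem hRS) hbF hfix
    exact eq_one_of_conj hS hc (hRS z.2) fun x => hz x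

end CfsgLib.Fusion
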