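import Cfsg.Agent.Lib.Fusion.SubnormalConstrained
import Cfsg.Agent.Lib.Fusion.NormalSubgroup
import Cfsg.Agent.Lib.Fusion.Transport
import Cfsg.Agent.Lib.Fusion.Invariant
import Mathlib.GroupTheory.IsSubnormal

/-!
Constrained systems of groups and their subnormal subgroups.
-/

set_option autoImplicit false

namespace CfsgLib.Fusion

open Cfsg Cfsg.FusionSystem

section

variable {Ω Ω' : Type*} [Group Ω] [Group Ω'] {S : Subgroup Ω} {S' : Subgroup Ω'}
  {F : FusionSystem S} {F' : FusionSystem S'} {f : S ≃* S'} {p : ℕ}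

theorem mapS_sup {P Q : Subgroup Ω} (hP : P ≤ S) (hQ : Q ≤ S) :
    mapS f (P ⊔ Q) = mapS f P ⊔ mapS f Q := by
  rw [mapS, Subgroup.subgroupOf_sup hP hQ, Subgroup.map_sup]
  rfl

/-- Isomorphisms of systems preserve normal subgroups. -/
theorem SysEquiv.isNormal (h : SysEquiv F F' f) {Q : Subgroup Ω} (hQ : F.IsNormal Q) :
    F'.IsNormal (mapS f Q) := by
  refine ⟨mapS_le Q, fun P' φ' hφ' => ?_⟩
  have hP' := hom_le hφ'
  set P := mapS f.symm P' with hPdef
  obtain ⟨φ, hφ, hv⟩ := h.2 P' φ' hφ'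
  have hPS : P ≤ S := mapS_le P'
  obtain ⟨ψ, hψ, hψP, hψQ⟩ := hQ.2 P φ hφ
  obtain ⟨ψ', hψ', hv'⟩ := h.1 _ ψ hψ
  have heq : mapS f (P ⊔ Q) = P' ⊔ mapS f Q := by
    rw [mapS_sup hPS hQ.1, hPdef, mapS_symm' hP']
  refine ⟨ψ'.comp (Subgroup.inclusion heq.ge), restrict_mem hψ' heq.ge, fun x => ?_, ?_⟩
  · have hxS := hP' x.2
    have hm : (f.symm ⟨x, hxS⟩ : Ω) ∈ P := apply_mem_mapS hP' x
    have h1 := hv' (Subgroup.inclusion le_sup_left ⟨_, hm⟩) (f.symm ⟨x, hxS⟩).2 (hom_apply_mem hψ _)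
      ⟨f.symm ⟨x, hxS⟩, Subgroup.mem_sup_left hm, rfl⟩
    have h2 := hv x hxS (hom_apply_mem hφ' x) (hom_le hφ |> fun _ => hm)
    have h3 : ψ (Subgroup.inclusion le_sup_left ⟨_, hm⟩) = φ ⟨_, hm⟩ := hψP _
    simp only [MonoidHom.comp_apply]
    calc ψ' _ = ψ' ⟨f ⟨(f.symm ⟨x, hxS⟩ : Ω), (f.symm ⟨x, hxS⟩).2⟩,
            ⟨f.symm ⟨x, hxS⟩, Subgroup.mem_sup_left hm, rfl⟩⟩ :=
          congrArg ψ' (Subtype.ext (by simp))
      _ = _ := h1
      _ = (f (f.symm ⟨φ' x, hom_apply_mem hφ' x⟩) : Ω') :=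
          congrArg (fun s => (f s : Ω')) (Subtype.ext (h3.trans h2))
      _ = φ' x := by simp
  · ext y
    constructor
    · rintro ⟨z, ⟨q, hq, hqz⟩, rfl⟩
      have h1 := hv' ⟨q, Subgroup.mem_sup_right hq⟩ q.2 (hom_apply_mem hψ _)
        ⟨q, Subgroup.mem_sup_right hq, rfl⟩
      refine ⟨⟨ψ ⟨q, Subgroup.mem_sup_right hq⟩, hom_apply_mem hψ _⟩, hψQ.le ⟨_, hq, rfl⟩, ?_⟩
      show (f _ : Ω') = ψ' _
      rw [← h1]
      exact congrArg ψ' (Subtype.ext hqz)
    · rintro ⟨q, hq, rfl⟩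
      obtain ⟨w, hw, hwq⟩ := hψQ.ge hq
      have hwS : (w : Ω) ∈ S := hQ.1 hw
      refine ⟨⟨f ⟨w, hwS⟩, Subgroup.mem_sup_right ⟨⟨w, hwS⟩, hw, rfl⟩⟩, ⟨⟨w, hwS⟩, hw, rfl⟩, ?_⟩
      exact (hv' w hwS (hom_apply_mem hψ _) ⟨⟨w, hwS⟩, w.2, rfl⟩).trans
        (congrArg (fun s => (f s : Ω')) (Subtype.ext hwq))

theorem SysEquiv.isConstrained [Fact p.Prime] [Finite S] (h : SysEquiv F F' f)
    (hF : F.IsConstrained p) : F'.IsConstrained p := by
  obtain ⟨hsat, Q, hQn, hQc⟩ := hF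
  exact ⟨h.saturated hsat, _, h.isNormal hQn, h.isCentric hQc⟩

end

variable {G : Type*} [Group G] [Finite G] {p : ℕ} [Fact p.Prime]

/-- The system of a subgroup inside a subgroup and inside the group. -/
theorem constrained_of_nested {H K T : Subgroup G} (hTH : T ≤ H) (hHK : H ≤ K) {T' : Subgroup K}
    (hT' : T' = T.subgroupOf K) (hle : T' ≤ H.subgroupOf K)
    (h : (fusionSystemOfSubgroup (H.subgroupOf K) T' hle).IsConstrained p) :
    (fusionSystemOfSubgroup H T hTH).IsConstrained p := by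
  subst hT'
  refine SysEquiv.isConstrained (f := Subgroup.subgroupOfEquivOfLe (hTH.trans hHK)) ?_ h
  constructor
  · rintro P φ ⟨hP, hφT, g, hg, hgv⟩
    refine ⟨conjHom _ (g : G), ⟨mapS_le P, ?_, g, hg, fun _ => rfl⟩, fun x hx hφx hm => ?_⟩
    · rintro ⟨_, s, hs, rfl⟩
      have h1 := hφT ⟨s, hs⟩
      rw [hgv] at h1
      exact h1
    · exact (congrArg Subtype.val (hgv x)).symm
  · rintro P φ ⟨hP, hφT, g, hg, hgv⟩
    refine ⟨conjHom _ (⟨g, hHK hg⟩ : K), ⟨mapS_le P, ?_, ⟨g, hHK hg⟩, hg, fun _ => rfl⟩,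
      fun x hx hφx hm => ?_⟩
    · rintro ⟨_, s, hs, rfl⟩
      show g * (s : G) * g⁻¹ ∈ T
      rw [← hgv ⟨s, hs⟩]
      exact hφT _
    · exact Subtype.ext (hgv x).symm

/-- Subnormal subgroups inherit a constrained system. -/
theorem constrained_of_subnormal (S : Sylow p G)
    (hF : (groupFusionSystem (S : Subgroup G)).IsConstrained p) {H : Subgroup G}
    (hH : H.IsSubnormal) : IsSylowIn p ((S : Subgroup G) ⊓ H) H ∧
      (fusionSystemOfSubgroup H ((S : Subgroup G) ⊓ H) inf_le_right).IsConstrained p := by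
  induction hH with
  | top =>
      refine ⟨isSylowIn_inf_normal S ⊤, ?_⟩
      have hle : (S : Subgroup G) ≤ (S : Subgroup G) ⊓ ⊤ := le_inf le_rfl le_top
      have h := normalSubgroup_isNormalIn (p := p) S ⊤
      exact isConstrained_of_isNormalIn S.isPGroup' hF h
  | step H K hle _ hN ih =>
      obtain ⟨⟨R, hR⟩, hK⟩ := ih
      have := hN
      have hR' : (R : Subgroup K) = (S : Subgroup G).subgroupOf K := by
        rw [hR, Subgroup.inf_subgroupOf_right]
      have hKc : (groupFusionSystem (R : Subgroup K)).IsConstrained p := by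
        have := SysEquiv.isConstrained (fusionSystemOfSubgroup_sysEquiv inf_le_right) hK
        rwa [← hR] at this
      have hsyl := isSylowIn_inf_normal R (H.subgroupOf K)
      have hT : (R : Subgroup K) ⊓ H.subgroupOf K = ((S : Subgroup G) ⊓ H).subgroupOf K := by
        rw [hR']
        exact (Subgroup.comap_inf _ _ _).symm
      have hcon := isConstrained_of_isNormalIn R.isPGroup' hKc
        (normalSubgroup_isNormalIn R (H.subgroupOf K))
      refine ⟨?_, constrained_of_nested inf_le_right hle hT inf_le_right hcon⟩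
      · rw [hT] at hsyl
        obtain ⟨U, hU⟩ := hsyl
        refine ⟨U.mapSurjective (f := (Subgroup.subgroupOfEquivOfLe hle).toMonoidHom)
          (Subgroup.subgroupOfEquivOfLe hle).surjective, ?_⟩
        show (U : Subgroup ↥(H.subgroupOf K)).map _ = _
        rw [hU]
        ext x
        constructor
        · rintro ⟨y, hy, rfl⟩; exact hy
        · intro hx
          exact ⟨(Subgroup.subgroupOfEquivOfLe hle).symm x, hx, by simp⟩

end CfsgLib.Fusion
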