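import Cfsg.Agent.Lib.Fusion.ComponentExists
import Cfsg.Agent.Lib.Fusion.RadicalNormalizer
import Cfsg.Agent.Lib.Fusion.SubnormalGroup
import Cfsg.Agent.Lib.LocalEvenB.CharP

/-!
# Characteristic `p`-type or component type
-/

set_option autoImplicit false

namespace CfsgLib.Fusion

open Cfsg Cfsg.FusionSystem

variable {Ω : Type*} [Group Ω] {S T : Subgroup Ω} {F : FusionSystem S} {p : ℕ}

/-- A saturated subsystem over the same group of a constrained system is constrained. -/
theorem isConstrained_of_subsystem [Fact p.Prime] [Finite S] (hS : IsPGroup p S)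
    {E : FusionSystem S} (hsub : E.IsSubsystemOf F) (hEs : E.IsSaturated p)
    (hF : F.IsConstrained p) : E.IsConstrained p := by
  obtain ⟨hQn, hQc⟩ := exists_normal_centric_core hF
  obtain ⟨n, C, h0, hlast, hmono, hC, hcomm⟩ := IsNormal.exists_series hS hQn
  have hclosed : ∀ R : Subgroup Ω, F.StronglyClosed R → E.StronglyClosed R := fun R hR =>
    ⟨hR.1, fun P hP φ hφ => hR.2 P hP φ (hsub P hφ)⟩
  refine ⟨hEs, F.core, isNormal_of_series hS hEs (hclosed _ (IsNormal.stronglyClosed hQn)) C h0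
    hlast hmono hcomm (fun i => StronglyClosed.weaklyClosed (hclosed _ (hC _))), hQn.1,
    fun R hR => ?_⟩
  obtain ⟨φ, hφ, hr⟩ := hR
  exact hQc.2 R ⟨φ, hsub _ hφ, hr⟩

/-- Two systems with the same maps over equal groups. -/
theorem isConstrained_congr {T₁ T₂ : Subgroup Ω} (h : T₁ = T₂) {E₁ : FusionSystem T₁}
    {E₂ : FusionSystem T₂} (heq : ∀ P : Subgroup Ω, E₁.Hom P = E₂.Hom P)
    (hc : E₁.IsConstrained p) : E₂.IsConstrained p := by
  subst h
  exact fusionSystem_ext heq ▸ hc

theorem centralizerIn_normalizerIn (S U : Subgroup Ω) :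
    centralizerIn (normalizerIn S U) U = centralizerIn S U := by
  ext c
  refine ⟨fun h => ⟨h.1.1, h.2⟩, fun h => ⟨⟨h.1, ?_⟩, h.2⟩⟩
  exact Subgroup.centralizer_le_normalizer (U : Set Ω) h.2

/-- `N_F(U)` is constrained as soon as `C_F(U)` is. -/
theorem normSystem_constrained [Fact p.Prime] [Finite S] (hS : IsPGroup p S)
    (hF : F.IsSaturated p) {U : Subgroup Ω} (hU : F.IsFullyNormalized U)
    (hc : (centSystem F U hU.1).IsConstrained p) : (normSystem F U hU.1).IsConstrained p := by
  set N := normSystem F U hU.1 with hNdef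
  have hN := normSystem_isNormalizerSystem F U hU.1
  have := finite_le (normalizerIn_le (S := S) U)
  have hNp : IsPGroup p (normalizerIn S U) := hS.to_le (normalizerIn_le U)
  have hNs : N.IsSaturated p := normalizerSystem_saturated hS hF hU hN
  have hn : N.IsNormal U := normalizerSystem_isNormal hU.1 hN
  have h := exists_centralizer_normal hNp (inner_isNormalIn_of_normal hNp hNs hn)
  rw [centOf_inner hNp hNs hn, centralizerIn_normalizerIn] at h
  obtain ⟨D, hDn, hDc⟩ := h
  have := finite_le (centralizerIn_le (S := S) U)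
  have hsub : D.IsSubsystemOf (centSystem F U hU.1) := fun P φ hφ => by
    obtain ⟨hφN, hP, hv, ψ, hψ, hψP, hψU⟩ := hDc P hφ
    rw [centralizerIn_normalizerIn] at hP
    exact ⟨normalizerSystem_le hN hφN, hP, fun x => centralizerIn_normalizerIn S U ▸ hv x, ψ,
      normalizerSystem_le hN hψ, hψP, hψU⟩
  obtain ⟨hWn, hWc⟩ := exists_normal_centric_core
    (isConstrained_of_subsystem (hS.to_le (centralizerIn_le U)) hsub hDn.1.1 hc)
  have hW : N.IsNormal D.core := invariant_core_isNormal hNp hNs hDn.1.1 hDn.1.2.2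
  have hUW := isNormal_sup hn hW
  refine ⟨hNs, U ⊔ D.core, hUW, hUW.1, fun R hR => ?_⟩
  obtain ⟨φ, hφ, hr⟩ := hR
  obtain rfl : R = U ⊔ D.core :=
    hr.symm.trans ((StronglyClosed.weaklyClosed (IsNormal.stronglyClosed hUW)).2 φ hφ)
  intro c hc'
  obtain ⟨hcN, hcc⟩ := mem_centralizerIn.1 hc'
  refine Subgroup.mem_sup_right (hWc.2 _ (isConj_refl core_le) (mem_centralizerIn.2
    ⟨mem_centralizerIn.2 ⟨hcN.1, fun u hu => hcc u (Subgroup.mem_sup_left hu)⟩,
      fun w hw => hcc w (Subgroup.mem_sup_right hw)⟩))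

/-- Transport of centralizer systems along an isomorphism, one direction. -/
theorem sysHom_centSystem {U V : Subgroup Ω} (hUS : U ≤ S) (hVS : V ≤ S)
    {κ : ↥(U ⊔ centralizerIn S U) ≃* ↥(V ⊔ centralizerIn S V)} (hκ : IsoIn F κ)
    (f : centralizerIn S U ≃* centralizerIn S V)
    (hκf : ∀ c : centralizerIn S U,
      ((κ (Subgroup.inclusion le_sup_right c) : _) : Ω) = ((f c : centralizerIn S V) : Ω))
    (hκU : ∀ u : U, ((κ (Subgroup.inclusion le_sup_left u) : _) : Ω) ∈ V)
    (hκV : ∀ v : V, ((κ.symm (Subgroup.inclusion le_sup_left v) : _) : Ω) ∈ U) :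
    SysHom (centSystem F U hUS) (centSystem F V hVS) f := by
  rintro P φ ⟨-, hPC, hφC, a, ha, haP, haU⟩
  set M := mapS f P with hMdef
  have hMC : M ≤ centralizerIn S V := mapS_le P
  have hMV : M ⊔ V ≤ V ⊔ centralizerIn S V :=
    sup_le (hMC.trans le_sup_right) le_sup_left
  have hPU : P ⊔ U ≤ U ⊔ centralizerIn S U := sup_le (hPC.trans le_sup_right) le_sup_left
  have hfs : ∀ y : M, ((f.symm ⟨y, hMC y.2⟩ : centralizerIn S U) : Ω) ∈ P := by
    rintro ⟨y, hy⟩
    obtain ⟨s, hs, rfl⟩ := mem_mapS.1 hy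
    rw [Subtype.coe_eta, MulEquiv.symm_apply_apply]
    exact hs
  have hκs : ∀ c : centralizerIn S V,
      ((κ.symm (Subgroup.inclusion le_sup_right c) : _) : Ω) = ((f.symm c : _) : Ω) := by
    intro c
    have h1 : κ (Subgroup.inclusion le_sup_right (f.symm c)) =
        Subgroup.inclusion le_sup_right c := Subtype.ext (by rw [hκf, MulEquiv.apply_symm_apply]; rfl)
    rw [← h1, MulEquiv.symm_apply_apply]
    rfl
  let m : ↥(M ⊔ V) →* Ω := (isoHom κ.symm).comp (Subgroup.inclusion hMV)
  have hm : m ∈ F.Hom (M ⊔ V) := restrict_mem hκ.symm.mem hMV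
  have hmv : ∀ w, m w ∈ P ⊔ U := fun w => range_le_of_gens
    (fun y => Subgroup.mem_sup_left (by
      show ((κ.symm (Subgroup.inclusion le_sup_right ⟨(y : Ω), hMC y.2⟩) : _) : Ω) ∈ P
      rw [hκs]
      exact hfs y))
    (fun v => Subgroup.mem_sup_right (hκV v)) ⟨w, rfl⟩
  have hav : ∀ w, a w ∈ U ⊔ centralizerIn S U := fun w => range_le_of_gens
    (fun x => Subgroup.mem_sup_right (by rw [haP]; exact hφC x))
    (fun u => Subgroup.mem_sup_left (by rw [haU]; exact u.2)) ⟨w, rfl⟩
  have hb := F.comp_mem (F.comp_mem hm ha hmv) hκ.mem (fun w => hav _)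
  obtain ⟨b, hbdef, hbF⟩ : ∃ b : ↥(M ⊔ V) →* Ω,
      (∀ w, b w = ((κ ⟨a ⟨m w, hmv w⟩, hav _⟩ : _) : Ω)) ∧ b ∈ F.Hom (M ⊔ V) :=
    ⟨_, fun w => rfl, hb⟩
  have hbV : ∀ v : V, b (Subgroup.inclusion le_sup_right v) = v := fun v => by
    rw [hbdef]
    have e1 : a ⟨m (Subgroup.inclusion le_sup_right v), hmv _⟩ =
        ((κ.symm (Subgroup.inclusion le_sup_left v) : _) : Ω) := haU ⟨_, hκV v⟩
    rw [show (⟨a ⟨m (Subgroup.inclusion le_sup_right v), hmv _⟩, hav _⟩ :
      ↥(U ⊔ centralizerIn S U)) = κ.symm (Subgroup.inclusion le_sup_left v) from Subtype.ext e1,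
      MulEquiv.apply_symm_apply]
    rfl
  have hbM : ∀ (y : M), b (Subgroup.inclusion le_sup_left y) =
      ((f ⟨φ ⟨_, hfs y⟩, hφC _⟩ : centralizerIn S V) : Ω) := fun y => by
    rw [hbdef, ← hκf]
    congr 2
    refine Subtype.ext ?_
    show a _ = φ _
    rw [← haP]
    exact congrArg a (Subtype.ext (hκs ⟨(y : Ω), hMC y.2⟩))
  refine ⟨b.comp (Subgroup.inclusion le_sup_left), ⟨restrict_mem hbF _, hMC, fun y => ?_, b, hbF,
    fun y => rfl, hbV⟩, fun x hx hφx hmem => ?_⟩
  · rw [MonoidHom.comp_apply, hbM]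
    exact (f _).2
  · rw [MonoidHom.comp_apply, hbM]
    congr 2
    refine Subtype.ext (congrArg φ (Subtype.ext ?_))
    show ((f.symm ⟨((f ⟨x, hx⟩ : centralizerIn S V) : Ω), _⟩ : _) : Ω) = x
    rw [Subtype.coe_eta, MulEquiv.symm_apply_apply]

/-- The centralizer systems of conjugate fully centralized subgroups are isomorphic. -/
theorem exists_centSystem_sysEquiv [Fact p.Prime] [Finite S] (hS : IsPGroup p S)
    (hF : F.IsSaturated p) {U V : Subgroup Ω} (hU : F.IsFullyCentralized U)
    (hV : F.IsFullyCentralized V) (h : F.IsConj U V) :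
    ∃ f : centralizerIn S U ≃* centralizerIn S V,
      SysEquiv (centSystem F U hU.1) (centSystem F V hV.1) f := by
  obtain ⟨e, he⟩ := isConj_iff.1 h
  obtain ⟨ψ, hψ, hag⟩ := exists_extension (IsSaturated.receptive hS hF hV) he le_sup_left
    (sup_le_extender he)
  have hψC : ∀ c : ↥(U ⊔ centralizerIn S U), (c : Ω) ∈ centralizerIn S U →
      ψ c ∈ centralizerIn S V := extension_mem_centralizerIn hψ le_sup_left hag
  have := finite_le (centralizerIn_le (S := S) U)
  have := finite_le (centralizerIn_le (S := S) V)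
  have hcard : Nat.card (centralizerIn S U) = Nat.card (centralizerIn S V) :=
    le_antisymm (hV.2 U (isConj_symm h)) (hU.2 V h)
  let g : centralizerIn S U →* centralizerIn S V :=
    (ψ.comp (Subgroup.inclusion le_sup_right)).codRestrict _ fun c => hψC _ c.2
  have hg : Function.Bijective g := by
    refine (Nat.bijective_iff_injective_and_card g).2 ⟨fun x y hxy => ?_, hcard⟩
    exact Subgroup.inclusion_injective _ (F.injective_of_mem hψ (congrArg Subtype.val hxy))
  let f := MulEquiv.ofBijective g hg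
  have hr : ψ.range = V ⊔ centralizerIn S V := by
    refine le_antisymm (range_le_of_gens (fun u => Subgroup.mem_sup_left (by
      rw [hag]; exact (e u).2)) fun c => Subgroup.mem_sup_right (hψC _ c.2)) (sup_le ?_ ?_)
    · intro v hv
      exact ⟨_, (hag (e.symm ⟨v, hv⟩)).trans (congrArg Subtype.val (e.apply_symm_apply ⟨v, hv⟩))⟩
    · intro v hv
      obtain ⟨c, hc⟩ := hg.2 ⟨v, hv⟩
      exact ⟨_, congrArg Subtype.val hc⟩
  obtain ⟨κ, hκ, hκv⟩ := exists_iso hψ hr
  have hκf : ∀ c : centralizerIn S U,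
      ((κ (Subgroup.inclusion le_sup_right c) : _) : Ω) = ((f c : centralizerIn S V) : Ω) :=
    fun c => hκv _
  have hκU : ∀ u : U, ((κ (Subgroup.inclusion le_sup_left u) : _) : Ω) ∈ V := fun u => by
    rw [hκv, hag]; exact (e u).2
  have hκV : ∀ v : V, ((κ.symm (Subgroup.inclusion le_sup_left v) : _) : Ω) ∈ U := fun v => by
    have h1 : κ (Subgroup.inclusion le_sup_left (e.symm v)) = Subgroup.inclusion le_sup_left v :=
      Subtype.ext (by rw [hκv, hag, MulEquiv.apply_symm_apply]; rfl)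
    rw [← h1, MulEquiv.symm_apply_apply]
    exact (e.symm v).2
  refine ⟨f, sysHom_centSystem hU.1 hV.1 hκ f hκf hκU hκV,
    sysHom_centSystem hV.1 hU.1 hκ.symm f.symm (fun c => ?_) hκV
      (fun u => by rw [MulEquiv.symm_symm]; exact hκU u)⟩
  have h1 : κ (Subgroup.inclusion le_sup_right (f.symm c)) = Subgroup.inclusion le_sup_right c :=
    Subtype.ext (by rw [hκf, MulEquiv.apply_symm_apply]; rfl)
  rw [← h1, MulEquiv.symm_apply_apply]
  rfl

/-- The `A × B` lemma for an automorphism of a `p`-group. -/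
theorem fixes_of_axb {W : Type*} [Group W] [Finite W] [Fact p.Prime] (hW : IsPGroup p W)
    {Q V : Subgroup W} (hQ : Q.Normal) (γ : MulAut W) (hc : (orderOf γ).Coprime p)
    (hQγ : ∀ q ∈ Q, γ q ∈ Q) (hV : ∀ v ∈ V, γ v = v)
    (hfix : ∀ q ∈ Q, (∀ v ∈ V, v * q = q * v) → γ q = q) : ∀ q ∈ Q, γ q = q := by
  have : Finite (MulAut W) := Finite.of_injective (fun e : MulAut W => (e : W ≃* W).toEquiv)
    fun a b h => MulEquiv.ext fun x => Equiv.congr_fun h x
  let A := Subgroup.zpowers γ
  let G := W ⋊[A.subtype] A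
  have : Finite G := Finite.of_equiv _ SemidirectProduct.equivProd.symm
  let i : W →* G := SemidirectProduct.inl
  let x : G := SemidirectProduct.inr ⟨γ, Subgroup.mem_zpowers γ⟩
  have hi : Function.Injective i := SemidirectProduct.inl_injective
  have hconj : ∀ w : W, x * i w * x⁻¹ = i (γ w) := fun w => by
    rw [show x * i w * x⁻¹ = x * i w * SemidirectProduct.inr ⟨γ, Subgroup.mem_zpowers γ⟩⁻¹ by
      rw [map_inv]]
    exact (SemidirectProduct.inl_aut (φ := A.subtype) ⟨γ, Subgroup.mem_zpowers γ⟩ w).symm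
  have hord : orderOf x = orderOf γ := by
    rw [orderOf_injective _ SemidirectProduct.inr_injective, Subgroup.orderOf_mk]
  set R := Q.map i with hRdef
  have hxR : x ∈ Subgroup.normalizer (R : Set G) := by
    rw [Subgroup.mem_normalizer_iff_map_conj_eq]
    refine Subgroup.eq_of_le_of_card_ge ?_ (card_conjOf x R).ge
    rintro _ ⟨_, ⟨q, hq, rfl⟩, rfl⟩
    exact ⟨γ q, hQγ q hq, (hconj q).symm⟩
  have hBR : V.map i ≤ Subgroup.normalizer (R : Set G) := by
    rintro _ ⟨v, -, rfl⟩
    rw [Subgroup.mem_normalizer_iff_map_conj_eq]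
    refine Subgroup.eq_of_le_of_card_ge ?_ (card_conjOf (i v) R).ge
    rintro _ ⟨_, ⟨q, hq, rfl⟩, rfl⟩
    refine ⟨v * q * v⁻¹, hQ.conj_mem q hq v, ?_⟩
    show i (v * q * v⁻¹) = i v * i q * (i v)⁻¹
    rw [map_mul, map_mul, map_inv]
  have hxB : x ∈ Subgroup.centralizer ((V.map i : Subgroup G) : Set G) := by
    refine Subgroup.mem_centralizer_iff.2 ?_
    rintro _ ⟨v, hv, rfl⟩
    have := hconj v
    rw [hV v hv, mul_inv_eq_iff_eq_mul] at this
    exact this.symm
  have hfix' : x ∈ Subgroup.centralizer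
      ((R ⊓ Subgroup.centralizer ((V.map i : Subgroup G) : Set G) : Subgroup G) : Set G) := by
    refine Subgroup.mem_centralizer_iff.2 ?_
    rintro _ ⟨⟨q, hq, rfl⟩, hqc⟩
    have h1 : γ q = q := hfix q hq fun v hv => hi (by
      rw [map_mul, map_mul]
      exact Subgroup.mem_centralizer_iff.1 hqc _ ⟨v, hv, rfl⟩)
    have := hconj q
    rw [h1, mul_inv_eq_iff_eq_mul] at this
    exact this.symm
  have hmain := CfsgLib.LocalEvenB.mem_centralizer_of_axb (p := p) (hord.symm ▸ hc)
    ((hW.to_subgroup Q).map i) ((hW.to_subgroup V).map i) hBR hxR hxB hfix'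
  intro q hq
  refine hi ?_
  rw [← hconj q, mul_inv_eq_iff_eq_mul]
  exact (Subgroup.mem_centralizer_iff.1 hmain _ ⟨q, hq, rfl⟩).symm

/-- An automorphism of order prime to `p` centralizing `V` and the core of `C_F(V)` is trivial
in a constrained system. -/
theorem coprime_aut_eq_one_of_fix [Fact p.Prime] [Finite S] (hS : IsPGroup p S)
    (hF : F.IsConstrained p) {Q V K : Subgroup Ω} (hQn : F.IsNormal Q) (hQc : F.IsCentric Q)
    (hVS : V ≤ S) (hRK : Q ⊓ Subgroup.centralizer (V : Set Ω) ≤ K) {P : Subgroup Ω} (hPS : P ≤ S)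
    {a : MulAut P} (hcop : (orderOf a).Coprime p)
    (ha : P.subtype.comp a.toMonoidHom ∈ (centSystem F V hVS).centralizerHom K P) : a = 1 := by
  obtain ⟨-, -, -, c, ⟨-, -, -, b, hb, hbc, hbV⟩, hca, hcK⟩ := ha
  set W := P ⊔ K ⊔ V ⊔ Q with hWdef
  obtain ⟨ψ, hψ, hψb, hψQ⟩ := hQn.2 _ b hb
  have hWS : W ≤ S := hom_le hψ
  have hPW : P ≤ W := (le_sup_left.trans le_sup_left).trans le_sup_left
  have hKW : K ≤ W := (le_sup_right.trans le_sup_left).trans le_sup_left
  have hVW : V ≤ W := le_sup_right.trans le_sup_left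
  have hψP : ∀ x : P, ψ (Subgroup.inclusion hPW x) = (a x : Ω) := fun x =>
    (hψb (Subgroup.inclusion (le_sup_left.trans le_sup_left) x)).trans
      ((hbc (Subgroup.inclusion le_sup_left x)).trans (hca x))
  have hψK : ∀ k : K, ψ (Subgroup.inclusion hKW k) = k := fun k =>
    (hψb (Subgroup.inclusion (le_sup_right.trans le_sup_left) k)).trans
      ((hbc (Subgroup.inclusion le_sup_right k)).trans (hcK k))
  have hψV : ∀ v : V, ψ (Subgroup.inclusion hVW v) = v := fun v =>
    (hψb (Subgroup.inclusion le_sup_right v)).trans (hbV v)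
  have hψQ' : ∀ q : Q, ψ (Subgroup.inclusion le_sup_right q) ∈ Q := fun q =>
    hψQ.le ⟨_, q.2, rfl⟩
  have hr : ψ.range = W := by
    have := finite_le hWS
    refine Subgroup.eq_of_le_of_card_ge (range_le_of_gens (fun w => ?_) fun q =>
      Subgroup.mem_sup_right (hψQ' q))
      (le_of_eq (Nat.card_congr (MonoidHom.ofInjective (F.injective_of_mem hψ)).toEquiv))
    rw [hψb]
    refine range_le_of_gens (ψ := b) (fun y => ?_) (fun v => ?_) ⟨w, rfl⟩
    · rw [hbc]
      exact Subgroup.mem_sup_left (Subgroup.mem_sup_left (range_le_of_gens (ψ := c)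
        (fun x => by rw [hca]; exact Subgroup.mem_sup_left (a x).2)
        (fun k => by rw [hcK]; exact Subgroup.mem_sup_right k.2) ⟨y, rfl⟩))
    · rw [hbV]
      exact Subgroup.mem_sup_left (Subgroup.mem_sup_right v.2)
  obtain ⟨β, -, hβv⟩ := exists_iso hψ hr
  have := finite_le hWS
  have : Finite (MulAut W) := finite_mulAut_of_le hWS
  obtain ⟨n, hn, hcopn⟩ := exists_coprime_pow (p := p) (β : MulAut W) (orderOf_pos _) hcop
  set γ : MulAut W := (β : MulAut W) ^ n with hγ
  have hfix : ∀ w : W, ψ w = w → γ w = w := by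
    intro w hw
    have h1 : (β : MulAut W) w = w := Subtype.ext ((hβv w).trans hw)
    rw [hγ]
    clear hcopn hn hγ
    induction n with
    | zero => rfl
    | succ n ih => rw [pow_succ, MulAut.mul_apply, h1, ih]
  have hγP : ∀ x : P, γ (Subgroup.inclusion hPW x) = Subgroup.inclusion hPW (a x) := by
    intro x
    have h1 : ∀ y : P, (β : MulAut W) (Subgroup.inclusion hPW y) =
        Subgroup.inclusion hPW (a y) := fun y => Subtype.ext ((hβv _).trans (hψP y))
    have h2 : ∀ m : ℕ, ((β : MulAut W) ^ m) (Subgroup.inclusion hPW x) =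
        Subgroup.inclusion hPW ((a ^ m) x) := by
      intro m
      induction m with
      | zero => rfl
      | succ m ih => rw [pow_succ', MulAut.mul_apply, ih, h1, pow_succ', MulAut.mul_apply]
    rw [hγ, h2, hn a (pow_orderOf_eq_one a)]
  have hγQ : ∀ w : W, (w : Ω) ∈ Q → ((γ w : W) : Ω) ∈ Q := by
    rw [hγ]
    clear hcopn hn hγ hfix hγP
    induction n with
    | zero => exact fun w hw => hw
    | succ n ih =>
      intro w hw
      rw [pow_succ, MulAut.mul_apply]
      exact ih _ (by rw [show ((β : MulAut W) w : Ω) = _ from hβv w]; exact hψQ' ⟨w, hw⟩)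
  have hN : (Q.subgroupOf W).Normal := ⟨fun q hq w => Subgroup.mem_subgroupOf.2 (by
    have := conj_mem_of_mem_normalizer (IsNormal.normal_in hQn (hWS w.2))
      (Subgroup.mem_subgroupOf.1 hq)
    simpa using this)⟩
  have hQfix : ∀ w : W, (w : Ω) ∈ Q → γ w = w := fun w hw =>
    fixes_of_axb (hS.to_le hWS) hN γ hcopn (fun q hq => hγQ q hq)
      (V := V.subgroupOf W) (fun v hv => hfix v (hψV ⟨v, hv⟩))
      (fun q hq hqV => hfix q (hψK ⟨q, hRK ⟨hq, Subgroup.mem_centralizer_iff.2 fun v hv =>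
        (congrArg Subtype.val (hqV ⟨v, hVW hv⟩ hv) :)⟩⟩)) w hw
  have hone : ∀ w : W, γ w = w := by
    intro w
    set z : W := w⁻¹ * γ w with hz
    have hzQ : (z : Ω) ∈ Q := by
      refine hQc.2 Q (isConj_refl hQc.1) (mem_centralizerIn.2 ⟨hWS z.2, fun q hq => ?_⟩)
      set q' : W := ⟨q, le_sup_right (a := P ⊔ K ⊔ V) hq⟩ with hq'
      have h1 := hQfix (w * q' * w⁻¹) (hN.conj_mem q' hq w)
      rw [map_mul, map_mul, map_inv, hQfix q' hq] at h1
      have h2 : q' * z = z * q' := by
        calc q' * z = w⁻¹ * (w * q' * w⁻¹) * γ w := by rw [hz]; group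
          _ = w⁻¹ * (γ w * q' * (γ w)⁻¹) * γ w := by rw [h1]
          _ = z * q' := by rw [hz]; group
      exact congrArg Subtype.val h2
    have hγz := hQfix z hzQ
    have hw : γ w = w * z := by rw [hz, mul_inv_cancel_left]
    have hit : ∀ m : ℕ, (γ ^ m) w = w * z ^ m := by
      intro m
      induction m with
      | zero => simp
      | succ m ih => rw [pow_succ', MulAut.mul_apply, ih, map_mul, map_pow, hγz, hw, pow_succ',
          mul_assoc]
    have hm := hit (orderOf γ)
    rw [pow_orderOf_eq_one, MulAut.one_apply, left_eq_mul] at hm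
    obtain ⟨k, hk⟩ := (hS.to_le hWS) z
    rw [hw, eq_one_of_coprime_pow (p := p) (a := k)
      (hcopn.coprime_dvd_left (orderOf_dvd_of_pow_eq_one hm)) hk, mul_one]
  refine MulEquiv.ext fun x => ?_
  exact Subgroup.inclusion_injective hPW ((hγP x).symm.trans (hone _))

/-- An unconstrained system has an unconstrained normal subsystem centralizing its core. -/
theorem exists_centralizing_not_constrained [Fact p.Prime] [Finite S] (hS : IsPGroup p S)
    (hF : F.IsSaturated p) (hnc : ¬ F.IsConstrained p) :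
    ∃ D : FusionSystem (centralizerIn S F.core), D.IsNormalIn F p ∧ ¬ D.IsConstrained p ∧
      ∀ P : Subgroup Ω, D.Hom P ⊆ F.centralizerHom F.core P := by
  have hQn : F.IsNormal F.core := core_isNormal
  have h := exists_centralizer_normal hS (inner_isNormalIn_of_normal hS hF hQn)
  rw [centOf_inner hS hF hQn] at h
  obtain ⟨D, hDn, hDc⟩ := h
  refine ⟨D, hDn, fun hc => ?_, hDc⟩
  have := finite_le (centralizerIn_le (S := S) F.core)
  obtain ⟨-, hcen⟩ := exists_normal_centric_core hc
  have hle : D.core ≤ F.core := le_core (invariant_core_isNormal hS hF hDn.1.1 hDn.1.2.2)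
  refine hnc ⟨hF, F.core, hQn, hQn.1, fun R hR => ?_⟩
  obtain ⟨φ, hφ, hr⟩ := hR
  obtain rfl : R = F.core :=
    hr.symm.trans ((StronglyClosed.weaklyClosed (IsNormal.stronglyClosed hQn)).2 φ hφ)
  exact fun c hc' => hle (hcen.2 _ (isConj_refl core_le)
    (mem_centralizerIn.2 ⟨hc', fun y hy => (mem_centralizerIn.1 hc').2 y (hle hy)⟩))

/-- Centralizer systems in a constrained system are constrained. -/
theorem centSystem_constrained [Fact p.Prime] [Finite S] (hS : IsPGroup p S)
    (hF : F.IsConstrained p) {V : Subgroup Ω} (hV : F.IsFullyCentralized V) :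
    (centSystem F V hV.1).IsConstrained p := by
  set L := centSystem F V hV.1 with hLdef
  have hCS : centralizerIn S V ≤ S := centralizerIn_le V
  have := finite_le hCS
  have hLp : IsPGroup p (centralizerIn S V) := hS.to_le hCS
  have hLs : L.IsSaturated p :=
    centralizerSystem_saturated hS hF.1 hV (centSystem_isCentralizerSystem F V hV.1)
  by_contra hnc
  obtain ⟨D, hDn, hDnc, hDc⟩ := exists_centralizing_not_constrained hLp hLs hnc
  obtain ⟨hQn, hQc⟩ := exists_normal_centric_core hF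
  set Q := F.core with hQdef
  have hQS : Q ≤ S := hQn.1
  set R := Q ⊓ Subgroup.centralizer (V : Set Ω) with hRdef
  have hRC : R ≤ centralizerIn S V := inf_le_inf_right _ hQS
  have hRL : R ≤ L.core := by
    refine le_core ⟨hRC, fun P φ hφ => ?_⟩
    obtain ⟨hφF, hP, hφC, a, ha, haP, haV⟩ := hφ
    obtain ⟨b, hb, hba, hbQ⟩ := hQn.2 _ a ha
    have hle : (P ⊔ R) ⊔ V ≤ (P ⊔ V) ⊔ Q :=
      sup_le (sup_le (le_sup_left.trans le_sup_left) (inf_le_left.trans le_sup_right))
        (le_sup_right.trans le_sup_left)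
    obtain ⟨c, hc, hcdef⟩ : ∃ c ∈ F.Hom (P ⊔ R ⊔ V), ∀ w, c w = b (Subgroup.inclusion hle w) :=
      ⟨_, restrict_mem hb hle, fun w => rfl⟩
    have hcP : ∀ x : P, c (Subgroup.inclusion (le_sup_left.trans le_sup_left) x) = φ x := fun x => by
      rw [hcdef, ← haP]
      exact hba (Subgroup.inclusion le_sup_left x)
    have hcV : ∀ v : V, c (Subgroup.inclusion le_sup_right v) = v := fun v => by
      rw [hcdef]
      exact (hba (Subgroup.inclusion le_sup_right v)).trans (haV v)
    have hcR : ∀ r : R, c (Subgroup.inclusion (le_sup_right.trans le_sup_left) r) ∈ R := fun r => by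
      refine ⟨?_, Subgroup.mem_centralizer_iff.2 fun v hv => ?_⟩
      · rw [hcdef]
        exact hbQ.le ⟨_, r.2.1, rfl⟩
      · show ((⟨v, hv⟩ : V) : Ω) * _ = _ * ((⟨v, hv⟩ : V) : Ω)
        rw [← hcV ⟨v, hv⟩, ← map_mul, ← map_mul]
        exact congrArg c (Subtype.ext (Subgroup.mem_centralizer_iff.1 r.2.2 v hv))
    have hv : ∀ w : ↥(P ⊔ R), c (Subgroup.inclusion le_sup_left w) ∈ centralizerIn S V := fun w =>
      range_le_of_gens (ψ := c.comp (Subgroup.inclusion le_sup_left))
        (fun x => by rw [MonoidHom.comp_apply]; exact (hcP x).symm ▸ hφC x)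
        (fun r => hRC (hcR r)) ⟨w, rfl⟩
    refine ⟨c.comp (Subgroup.inclusion le_sup_left),
      ⟨restrict_mem hc _, sup_le hP hRC, hv, c, hc, fun x => rfl, hcV⟩, fun x => hcP x, ?_⟩
    have := finite_le (hRC.trans hCS)
    refine Subgroup.eq_of_le_of_card_ge ?_ ?_
    · rintro _ ⟨x, hx, rfl⟩
      exact hcR ⟨x, hx⟩
    · have : Finite ↥(P ⊔ R) := finite_le ((sup_le hP hRC).trans hCS)
      rw [Subgroup.card_map_of_injective (F.injective_of_mem (restrict_mem hc _)),
        Nat.card_congr (Subgroup.subgroupOfEquivOfLe le_sup_right).toEquiv]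
  have hVS := hV.1
  have hTC : centralizerIn (centralizerIn S V) L.core ≤ centralizerIn S V := centralizerIn_le _
  have := finite_le hTC
  have hinn : D = innerFusionSystem (centralizerIn (centralizerIn S V) L.core) := by
    refine eq_inner_of_isPGroup_autGroup (hLp.to_le hTC) hDn.1.1 fun P hP => ?_
    have hPS : P ≤ S := hP.trans (hTC.trans hCS)
    have := finite_le hPS
    have := finite_mulAut_of_le (S := S) hPS
    refine isPGroup_of_coprime_trivial fun a hcop => Subtype.ext ?_
    rw [← Subgroup.orderOf_coe] at hcop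
    exact coprime_aut_eq_one_of_fix hS hF hQn hQc hVS hRL hPS hcop
      (hDc P ((mem_autGroup_iff hP).1 a.2))
  exact hDnc ⟨hDn.1.1, _, isNormal_self_of_eq_inner hinn, isCentric_self⟩

/-- Either every local system is constrained or some centralizer system has a component. -/
theorem charPType_or_componentType [Fact p.Prime] [Finite S] (hS : IsPGroup p S)
    (hF : F.IsSaturated p) : F.IsOfCharacteristicPType p ∨ F.IsOfComponentType p := by
  refine Classical.or_iff_not_imp_right.2 fun hct U hU1 hUn E hE => ?_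
  have hN : E = normSystem F U hUn.1 := fusionSystem_ext fun P => by rw [hE P]; rfl
  subst hN
  refine normSystem_constrained hS hF hUn ?_
  have hUS := hUn.1
  have := finite_le hUS
  have hp : p.Prime := Fact.out
  -- an element of order `p` in the centre of `U`
  obtain ⟨z, hzc, hzo⟩ : ∃ z : U, z ∈ Subgroup.center U ∧ orderOf z = p := by
    have : Nontrivial U := (Subgroup.nontrivial_iff_ne_bot U).2 hU1
    have : Nontrivial (Subgroup.center U) := (hS.to_le hUS).center_nontrivial
    have hd : p ∣ Nat.card (Subgroup.center U) :=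
      (((hS.to_le hUS).to_subgroup _).card_eq_or_dvd).resolve_left Finite.one_lt_card.ne'
    obtain ⟨w, hw⟩ := exists_prime_orderOf_dvd_card' p hd
    exact ⟨w, w.2, by rw [← hw, Subgroup.orderOf_coe]⟩
  set X := Subgroup.zpowers (z : Ω) with hXdef
  have hXU : X ≤ U := Subgroup.zpowers_le.2 z.2
  have hXcard : Nat.card X = p := by rw [hXdef, Nat.card_zpowers, Subgroup.orderOf_coe, hzo]
  have hXcomm : ∀ x ∈ X, ∀ u ∈ U, x * u = u * x := by
    rintro x ⟨k, rfl⟩ u hu
    have h1 : Commute ((z : U) : Ω) u :=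
      (congrArg Subtype.val (Subgroup.mem_center_iff.1 hzc ⟨u, hu⟩).symm :)
    exact (h1.zpow_left k).eq
  have hXS : X ≤ S := hXU.trans hUS
  obtain ⟨X', hXX', h₁, h₂, hX'n⟩ := IsSaturated.exists_rep hS hF hXS
  obtain ⟨φ, hφ, hφN, himg⟩ := exists_normalizer_map hS h₁ h₂ hXX'
  have hX'c := IsSaturated.fullyCentralized hS hF hX'n
  have hX'S := hX'n.1
  have hMs : (centSystem F X' hX'S).IsSaturated p :=
    centralizerSystem_saturated hS hF hX'c (centSystem_isCentralizerSystem F X' hX'S)
  have hCS := centralizerIn_le (S := S) X'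
  have := finite_le hCS
  have hMp : IsPGroup p (centralizerIn S X') := hS.to_le hCS
  have hMc : (centSystem F X' hX'S).IsConstrained p :=
    (isConstrained_iff_no_component hMp hMs).2 fun ⟨T, C, hC⟩ => hct
      ⟨X', (isConj_card hXX').symm.trans hXcard, hX'n, _, centSystem_isCentralizerSystem F X' hX'S,
        T, C, hC⟩
  have hUN : U ≤ normalizerIn S X := fun u hu => centralizerIn_le_normalizerIn X
    (mem_centralizerIn.2 ⟨hUS hu, fun x hx => hXcomm x hx u hu⟩)
  have hCUN : centralizerIn S U ≤ normalizerIn S X :=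
    (centralizerIn_antitone hXU).trans (centralizerIn_le_normalizerIn X)
  set U' := img φ U with hU'def
  have hU'C : U' ≤ centralizerIn S X' := by
    intro y hy
    obtain ⟨u, hu, rfl⟩ := mem_img.1 hy
    exact normalizer_map_centralizer hφ himg _
      (mem_centralizerIn.2 ⟨hUS hu, fun x hx => hXcomm x hx _ hu⟩)
  have hX'U' : X' ≤ U' := himg ▸ img_mono φ hXU
  obtain ⟨V, hU'V, hVn⟩ := exists_fullyNormalized (F := centSystem F X' hX'S) hU'C
  have hVc := IsSaturated.fullyCentralized hMp hMs hVn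
  have hVC := hVn.1
  have hX'V : X' ≤ V := by
    obtain ⟨χ, ⟨-, -, -, a, -, haU, haX⟩, hr⟩ := hU'V
    intro x hx
    rw [← hr]
    exact ⟨⟨x, hX'U' hx⟩, (haU _).symm.trans ((congrArg a (Subtype.ext rfl)).trans (haX ⟨x, hx⟩))⟩
  have hcentV : centralizerIn (centralizerIn S X') V = centralizerIn S V := by
    ext c
    refine ⟨fun h => ⟨h.1.1, h.2⟩, fun h => ⟨?_, h.2⟩⟩
    exact centralizerIn_antitone hX'V h
  have hUV : F.IsConj U V := by
    refine isConj_trans (isConj_img hφ hUN) ?_
    obtain ⟨χ, hχ, hr⟩ := hU'V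
    exact ⟨χ, hχ.1, hr⟩
  have hUc := IsSaturated.fullyCentralized hS hF hUn
  have hVfc : F.IsFullyCentralized V := by
    refine ⟨hVC.trans hCS, fun R hR => (hUc.2 R (isConj_trans hUV hR)).trans ?_⟩
    have hle := hVc.2 U' (isConj_symm hU'V)
    rw [hcentV] at hle
    refine le_trans ?_ hle
    have := finite_le (centralizerIn_le (S := centralizerIn S X') U')
    refine Nat.card_le_card_of_injective (fun c : centralizerIn S U =>
      (⟨φ ⟨c, hCUN c.2⟩, mem_centralizerIn.2 ⟨normalizer_map_centralizer hφ himg _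
        (centralizerIn_antitone hXU c.2), fun y hy => ?_⟩⟩ :
          centralizerIn (centralizerIn S X') U')) fun a b hab => ?_
    · obtain ⟨u, hu, rfl⟩ := mem_img.1 hy
      rw [← map_mul, ← map_mul]
      exact congrArg φ (Subtype.ext ((mem_centralizerIn.1 c.2).2 _ hu))
    · exact Subtype.ext (congrArg Subtype.val
        (F.injective_of_mem hφ (congrArg Subtype.val hab)) :)
  have hVcon : (centSystem F V hVfc.1).IsConstrained p := by
    refine isConstrained_congr hcentV (fun P => ?_) (centSystem_constrained hMp hMc hVc)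
    ext χ
    constructor
    · rintro ⟨hχ, hP, hv, a, ha, haP, haV⟩
      exact ⟨hχ.1, hcentV ▸ hP, fun x => hcentV ▸ hv x, a, ha.1, haP, haV⟩
    · rintro ⟨hχ, hP, hv, a, ha, haP, haV⟩
      have hPX : P ≤ centralizerIn S X' := hP.trans (centralizerIn_antitone hX'V)
      have haC : ∀ w, a w ∈ centralizerIn S X' := fun w => range_le_of_gens
        (fun x => by rw [haP]; exact centralizerIn_antitone hX'V (hv x))
        (fun v => by rw [haV]; exact hVC v.2) ⟨w, rfl⟩
      have haM : a ∈ (centSystem F X' hX'S).Hom (P ⊔ V) := by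
        refine ⟨ha, sup_le hPX hVC, haC, a.comp (Subgroup.inclusion
          (sup_le le_rfl (hX'V.trans le_sup_right))), restrict_mem ha _, fun x => rfl, fun x => ?_⟩
        exact haV ⟨x, hX'V x.2⟩
      have hχM : χ ∈ (centSystem F X' hX'S).Hom P :=
        restrict_mem' haM le_sup_left fun x => (haP x).symm
      exact ⟨hχM, hcentV.symm ▸ hP, fun x => hcentV.symm ▸ hv x, a, haM, haP, haV⟩
  obtain ⟨f, hf⟩ := exists_centSystem_sysEquiv hS hF hUc hVfc hUV
  have := finite_le (centralizerIn_le (S := S) V)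
  exact SysEquiv.isConstrained hf.symm hVcon

end CfsgLib.Fusion
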