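import Cfsg.Agent.Lib.Fusion.Centric

/-!
A map lies in a saturated subsystem as soon as its restriction to a centric subgroup does.
-/

set_option autoImplicit false

namespace CfsgLib.Fusion

open Cfsg Cfsg.FusionSystem

variable {Ω : Type*} [Group Ω] {S : Subgroup Ω} {F : FusionSystem S} {p : ℕ}

theorem mem_of_restrict_centric [Fact p.Prime] [Finite S] (hS : IsPGroup p S)
    (hF : F.IsSaturated p) {E : FusionSystem S} (hE : E.IsSaturated p) (hEF : E ≤ F)
    {P Q : Subgroup Ω} (hQP : Q ≤ P) (hQ : F.IsCentric Q) {φ : P →* Ω} (hφ : φ ∈ F.Hom P)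
    (hres : φ.comp (Subgroup.inclusion hQP) ∈ E.Hom Q) : φ ∈ E.Hom P := by
  have hPS := hom_le hφ
  have := finite_le hPS
  suffices H : ∀ (n : ℕ) (Q : Subgroup Ω) (hQP : Q ≤ P), F.IsCentric Q →
      Nat.card P - Nat.card Q ≤ n → φ.comp (Subgroup.inclusion hQP) ∈ E.Hom Q → φ ∈ E.Hom P from
    H _ Q hQP hQ le_rfl hres
  clear hres hQ hQP
  intro n
  induction n with
  | zero =>
      intro Q hQP hQ hle hres
      obtain rfl : Q = P := Subgroup.eq_of_le_of_card_ge hQP (by omega)
      exact hom_congr hres fun x => rfl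
  | succ n ih =>
      intro Q hQP hQ hle hres
      rcases eq_or_lt_of_le hQP with rfl | hlt
      · exact hom_congr hres fun x => rfl
      set R := normalizerIn P Q with hR
      have hRP : R ≤ P := normalizerIn_le Q
      have hQR : Q < R := lt_normalizerIn (hS.to_le hPS) hlt
      have hRS := hRP.trans hPS
      obtain ⟨e, he, hev⟩ := exists_iso hres rfl
      have hQ' : E.IsCentric (φ.comp (Subgroup.inclusion hQP)).range := by
        refine ⟨hom_range_le hres, fun T hT => ?_⟩
        obtain ⟨ψ, hψ, hψT⟩ := hT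
        exact hQ.2 T (isConj_trans ⟨_, hEF _ hres, rfl⟩ ⟨ψ, hEF _ hψ, hψT⟩)
      have hrec := IsSaturated.receptive hS hE (isCentric_fullyCentralized hQ')
      obtain ⟨ψ, hψ, hag⟩ := exists_extension hrec he hQR.le (by
        intro g hg
        refine mem_extender_iff.2 ⟨hPS hg.1, hg.2, φ ⟨g, hg.1⟩, hom_apply_mem hφ _, fun x hx => ?_⟩
        rw [isoHom_apply, isoHom_apply, hev, hev]
        have : (Subgroup.inclusion hQP ⟨g * x * g⁻¹, hx⟩) =
            ⟨g, hg.1⟩ * Subgroup.inclusion hQP x * ⟨g, hg.1⟩⁻¹ := Subtype.ext rfl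
        simp only [MonoidHom.coe_comp, Function.comp_apply]
        rw [this, map_mul, map_mul, map_inv])
      obtain ⟨z, -, -, hzy⟩ := maps_agree_normal hS hF hQR.le hQ inf_le_right (hEF _ hψ)
        (restrict_mem hφ hRP) fun x hx => (hag ⟨x, hx⟩).trans (hev _)
      refine ih R hRP (isCentric_mono hQ hQR.le hRS) ?_ ?_
      · have := finite_le hRS
        have : Nat.card Q < Nat.card R := lt_of_le_of_ne (Subgroup.card_le_of_le hQR.le) fun e =>
          hQR.ne (Subgroup.eq_of_le_of_card_ge hQR.le e.ge)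
        omega
      · exact comp_mem' (E.conj_mem hRS (hRS z.2)) hψ (fun x => (z * x * z⁻¹).2)
          fun x => hzy x

/-- Two saturated systems agree as soon as they agree on the maps of minimal centric subgroups. -/
theorem eq_of_minimal_centric [Fact p.Prime] [Finite S] (hS : IsPGroup p S)
    (hF : F.IsSaturated p) {E : FusionSystem S} (hE : E.IsSaturated p) (hEF : E ≤ F)
    (hmin : ∀ Q : Subgroup Ω, F.IsCentric Q → (∀ R : Subgroup Ω, R < Q → ¬ F.IsCentric R) →
      F.Hom Q ⊆ E.Hom Q) : F ≤ E := by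
  have key : ∀ (n : ℕ) (T : Subgroup Ω), F.IsCentric T → Nat.card T ≤ n →
      ∃ Q, Q ≤ T ∧ F.IsCentric Q ∧ ∀ R : Subgroup Ω, R < Q → ¬ F.IsCentric R := by
    intro n
    induction n with
    | zero =>
        intro T hT hn
        have := finite_le hT.1
        have : 0 < Nat.card T := Nat.card_pos
        omega
    | succ n ih =>
        intro T hT hn
        by_cases h : ∃ R, R < T ∧ F.IsCentric R
        · obtain ⟨R, hR, hRc⟩ := h
          have := finite_le hT.1
          have hlt : Nat.card R < Nat.card T :=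
            lt_of_le_of_ne (Subgroup.card_le_of_le hR.le) fun e =>
              hR.ne (Subgroup.eq_of_le_of_card_ge hR.le e.ge)
          obtain ⟨Q, hQR, hQ⟩ := ih R hRc (by omega)
          exact ⟨Q, hQR.trans hR.le, hQ⟩
        · exact ⟨T, le_rfl, hT, fun R hR hRc => h ⟨R, hR, hRc⟩⟩
  have hcent : ∀ T : Subgroup Ω, F.IsCentric T → F.Hom T ⊆ E.Hom T := by
    intro T hT φ hφ
    obtain ⟨Q, hQT, hQc, hQm⟩ := key _ T hT le_rfl
    exact mem_of_restrict_centric hS hF hE hEF hQT hQc hφ (hmin Q hQc hQm (restrict_mem hφ hQT))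
  refine alperin hS hF E fun T hT α hα => ?_
  have hTc : F.IsCentric T := by
    rcases hT with rfl | h
    · exact isCentric_self
    · exact h.1
  exact (mem_autGroup_iff hTc.1).2 (hcent T hTc ((mem_autGroup_iff hTc.1).1 hα))

end CfsgLib.Fusion
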