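import Cfsg.Agent.Lib.Fusion.Invariant
import Cfsg.Agent.Lib.Fusion.Transport
import Cfsg.Agent.Lib.Fusion.Factor
import Cfsg.Prelude.Def_TwoFusion

/-!
Saturated systems over a direct product of two strongly closed subgroups: the full subsystem over
one factor, and the one fixing the other factor elementwise.
-/

set_option autoImplicit false

namespace CfsgLib.Fusion.ClosedFactors

open Cfsg Cfsg.FusionSystem CfsgLib.Fusion

variable {Ω : Type*} [Group Ω] {S : Subgroup Ω} {F : FusionSystem S} {p : ℕ}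

theorem aut_of_hom [Finite S] {P : Subgroup Ω} {φ : P →* Ω} (hφ : φ ∈ F.Hom P)
    (h : ∀ x, φ x ∈ P) : ∃ a ∈ F.autGroup P, ∀ x : P, ((a x : P) : Ω) = φ x := by
  have := finite_le (hom_le hφ)
  have hinj : Function.Injective (φ.codRestrict P h) := fun x y he =>
    F.injective_of_mem hφ (congrArg Subtype.val he :)
  exact ⟨MulEquiv.ofBijective _ ⟨hinj, Finite.injective_iff_surjective.1 hinj⟩,
    (mem_autGroup_iff (hom_le hφ)).2 (hom_congr hφ fun _ => rfl), fun _ => rfl⟩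

/-- Transport of a map by an automorphism of the whole of `S`. -/
theorem conj_hom {b : MulAut S} (hb : b ∈ F.autGroup S) {A B : Subgroup Ω} (hB : B ≤ S)
    (hBA : ∀ y : B, ((b⁻¹ ⟨y, hB y.2⟩ : S) : Ω) ∈ A) {φ : A →* Ω} (hφ : φ ∈ F.Hom A) :
    ∃ χ ∈ F.Hom B, ∀ y : B,
      χ y = ((b ⟨φ ⟨_, hBA y⟩, hom_apply_mem hφ _⟩ : S) : Ω) := by
  have h1 := restrict_mem ((mem_autGroup_iff le_rfl).1 ((F.autGroup S).inv_mem hb)) hB
  refine ⟨_, F.comp_mem (F.comp_mem h1 hφ hBA) ((mem_autGroup_iff le_rfl).1 hb)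
    (fun y => hom_apply_mem hφ _), fun y => rfl⟩

variable {S₁ S₂ : Subgroup Ω}

section

variable [Finite S] (hprod : IsInternalDirectProduct S₁ S₂ S)

include hprod in
omit [Finite S] in
theorem exists_split {s : Ω} (hs : s ∈ S) : ∃ a ∈ S₁, ∃ b ∈ S₂, s = a * b := by
  have h : S₁ ≤ Subgroup.normalizer (S₂ : Set Ω) :=
    le_trans (fun a ha => Subgroup.mem_centralizer_iff.2 fun b hb => (hprod.2.2.1 a ha b hb).symm)
      (Subgroup.centralizer_le_normalizer _)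
  have h' : s ∈ ((S₁ ⊔ S₂ : Subgroup Ω) : Set Ω) := hprod.2.2.2.2.ge hs
  rw [Subgroup.coe_mul_of_left_le_normalizer_right _ _ h, Set.mem_mul] at h'
  obtain ⟨a, ha, b, hb, hab⟩ := h'
  exact ⟨a, ha, b, hb, hab.symm⟩

include hprod in
omit [Finite S] in
theorem right_le_centralizerIn {P : Subgroup Ω} (hP : P ≤ S₁) : S₂ ≤ centralizerIn S P :=
  fun b hb => mem_centralizerIn.2 ⟨hprod.2.1 hb, fun x hx => hprod.2.2.1 x (hP hx) b hb⟩

include hprod in
omit [Finite S] in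
theorem left_le_centralizerIn : S₁ ≤ centralizerIn S S₂ :=
  fun a ha => mem_centralizerIn.2 ⟨hprod.1 ha, fun x hx => (hprod.2.2.1 a ha x hx).symm⟩

include hprod in
omit [Finite S] in
theorem autInducedBy_left {P : Subgroup Ω} (hP : P ≤ S₁) :
    autInducedBy S P = autInducedBy S₁ P := by
  refine le_antisymm (fun α hα => ?_) (autInducedBy_mono hprod.1)
  obtain ⟨g, hg, h⟩ := mem_autInducedBy_iff.1 hα
  obtain ⟨a, ha, b, hb, rfl⟩ := exists_split hprod hg
  refine mem_autInducedBy_iff.2 ⟨a, ha, fun x => ?_⟩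
  rw [h x, mul_inv_rev]
  have hc : b * (x : Ω) * b⁻¹ = x := by
    rw [← hprod.2.2.1 x (hP x.2) b hb, mul_inv_cancel_right]
  conv_rhs => rw [← hc]
  group

variable [Fact p.Prime] (hS : IsPGroup p S) (hF : F.IsSaturated p)
  (h₁ : F.StronglyClosed S₁) (h₂ : F.StronglyClosed S₂)

include hprod hS hF h₁ h₂ in
/-- Every map between subgroups of `S₁` extends over `S₂`. -/
theorem extend_sup {P : Subgroup Ω} (hP : P ≤ S₁) {φ : P →* Ω} (hφ : φ ∈ F.Hom P) :
    ∃ ψ ∈ F.Hom (P ⊔ S₂), ∀ x : P, ψ (Subgroup.inclusion le_sup_left x) = φ x := by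
  obtain ⟨e, he, hev⟩ := exists_iso hφ rfl
  obtain ⟨Q, hQc, hQn⟩ := exists_fullyNormalized (F := F) he.le_right
  obtain ⟨f, hf⟩ := isConj_iff.1 hQc
  have hrec := IsSaturated.receptive hS hF (IsSaturated.fullyCentralized hS hF hQn)
  have hP' : φ.range ≤ S₁ := by
    rintro _ ⟨x, rfl⟩; exact h₁.2 P hP φ hφ x
  obtain ⟨ψ₁, hψ₁, hag₁⟩ := exists_extension hrec (he.trans hf) (le_sup_left : P ≤ P ⊔ S₂)
    ((sup_le_sup_left (right_le_centralizerIn hprod hP) P).trans (sup_le_extender (he.trans hf)))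
  obtain ⟨ψ₂, hψ₂, hag₂⟩ := exists_extension hrec hf (le_sup_left : φ.range ≤ φ.range ⊔ S₂)
    ((sup_le_sup_left (right_le_centralizerIn hprod hP') _).trans (sup_le_extender hf))
  have hrange : Q ⊔ S₂ ≤ ψ₂.range := by
    refine sup_le (fun y hy => ⟨_, (hag₂ (f.symm ⟨y, hy⟩)).trans (by simp)⟩) fun y hy => ?_
    have := finite_le (h₂.1)
    let r : S₂ →* S₂ := (ψ₂.comp (Subgroup.inclusion le_sup_right)).codRestrict S₂
      fun z => StronglyClosed.apply_mem h₂ hψ₂ z.2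
    have hr : Function.Injective r := fun a b h =>
      Subgroup.inclusion_injective _ (F.injective_of_mem hψ₂ (congrArg Subtype.val h :))
    obtain ⟨z, hz⟩ := Finite.injective_iff_surjective.1 hr ⟨y, hy⟩
    exact ⟨_, congrArg Subtype.val hz⟩
  obtain ⟨ψi, hψi, -, hl, -⟩ := exists_inv hψ₂ rfl
  have hm : ∀ z, ψ₁ z ∈ ψ₂.range := apply_mem_of_sup
    (fun x => hrange (Subgroup.mem_sup_left (by rw [hag₁]; exact (f (e x)).2)))
    (fun x => hrange (Subgroup.mem_sup_right (StronglyClosed.apply_mem h₂ hψ₁ x.2)))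
  refine ⟨_, F.comp_mem hψ₁ hψi hm, fun x => ?_⟩
  have h1 : ψ₂ (Subgroup.inclusion le_sup_left (e x)) = ψ₁ (Subgroup.inclusion le_sup_left x) := by
    rw [hag₁, hag₂]; rfl
  show ψi ⟨ψ₁ (Subgroup.inclusion le_sup_left x), hm _⟩ = φ x
  rw [← hev]
  simp only [← h1]
  exact hl _ _

include hprod hS hF h₁ h₂ in
/-- An automorphism of `S₁` in the system extends to one of `S`. -/
theorem exists_ext_aut {α : MulAut S₁} (hα : α ∈ F.autGroup S₁) :
    ∃ b ∈ F.autGroup S, ∀ x : S₁, ((b ⟨x, hprod.1 x.2⟩ : S) : Ω) = ((α x : S₁) : Ω) := by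
  obtain ⟨ψ, hψ, hag⟩ := extend_sup hprod hS hF h₁ h₂ le_rfl ((mem_autGroup_iff h₁.1).1 hα)
  obtain ⟨b, hb, hbv⟩ := aut_of_hom (restrict_mem hψ hprod.2.2.2.2.ge)
    fun x => hom_apply_mem hψ _
  exact ⟨b, hb, fun x => (hbv _).trans (hag x)⟩

omit [Finite S] [Fact p.Prime] in
theorem centralizerHom_mk (hprod : IsInternalDirectProduct S₁ S₂ S) (h₁ : F.StronglyClosed S₁)
    {P : Subgroup Ω} (hP : P ≤ S₁) {φ : P →* Ω}
    (hφ : φ ∈ F.Hom P) {ψ : ↥(P ⊔ S₂) →* Ω} (hψ : ψ ∈ F.Hom (P ⊔ S₂))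
    (hag : ∀ x : P, ψ (Subgroup.inclusion le_sup_left x) = φ x)
    (hfix : ∀ x : S₂, ψ (Subgroup.inclusion le_sup_right x) = x) : φ ∈ F.centralizerHom S₂ P :=
  ⟨hφ, hP.trans (left_le_centralizerIn hprod),
    fun x => left_le_centralizerIn hprod (h₁.2 P hP φ hφ x), ψ, hψ, hag, hfix⟩

include hprod hS hF h₁ h₂ in
/-- Every map is an automorphism of `S` after a map fixing `S₂`. -/
theorem exists_factor {P : Subgroup Ω} (hP : P ≤ S₁) {φ : P →* Ω} (hφ : φ ∈ F.Hom P) :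
    ∃ b ∈ F.autGroup S, ∃ φ₀ ∈ F.centralizerHom S₂ P,
      ∀ (x : P) (hx : φ₀ x ∈ S), φ x = ((b ⟨φ₀ x, hx⟩ : S) : Ω) := by
  obtain ⟨ψ, hψ, hag⟩ := extend_sup hprod hS hF h₁ h₂ hP hφ
  obtain ⟨β, hβ, hβv⟩ := aut_of_hom (restrict_mem hψ (le_sup_right : S₂ ≤ P ⊔ S₂))
    fun x => StronglyClosed.apply_mem h₂ hψ x.2
  -- `β` extends to `S`
  have hn : F.IsFullyNormalized S₂ := by
    refine ⟨h₂.1, fun Q hQ => le_of_eq ?_⟩
    obtain ⟨χ, hχ, rfl⟩ := hQ
    have := finite_le h₂.1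
    have : χ.range = S₂ := Subgroup.eq_of_le_of_card_ge
      (by rintro _ ⟨x, rfl⟩; exact h₂.2 S₂ le_rfl χ hχ x)
      (Nat.card_congr (MonoidHom.ofInjective (F.injective_of_mem hχ)).toEquiv).le
    rw [this]
  have hβi : IsoIn F (β : S₂ ≃* S₂) := (mem_autGroup_iff_isoIn h₂.1).1 hβ
  have hle : S ≤ S₂ ⊔ centralizerIn S S₂ := fun s hs => by
    obtain ⟨a, ha, b, hb, rfl⟩ := exists_split hprod hs
    exact mul_mem (Subgroup.mem_sup_right (left_le_centralizerIn hprod ha))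
      (Subgroup.mem_sup_left hb)
  obtain ⟨γ, hγ, hγv⟩ := exists_extension
    (IsSaturated.receptive hS hF (IsSaturated.fullyCentralized hS hF hn)) hβi h₂.1
    (hle.trans (sup_le_extender hβi))
  obtain ⟨b, hb, hbv⟩ := aut_of_hom hγ fun x => hom_apply_mem hγ x
  have hbi := (mem_autGroup_iff le_rfl).1 ((F.autGroup S).inv_mem hb)
  refine ⟨b, hb, _, centralizerHom_mk hprod h₁ hP
    (F.comp_mem hφ hbi fun x => hom_apply_mem hφ x)
    (F.comp_mem hψ hbi fun x => hom_apply_mem hψ x) (fun x => ?_) (fun x => ?_), fun x hx => ?_⟩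
  · exact congrArg (fun z : S => ((b⁻¹ z : S) : Ω)) (Subtype.ext (hag x))
  · have h1 : b ⟨(x : Ω), h₂.1 x.2⟩ =
        ⟨ψ (Subgroup.inclusion le_sup_right x), hom_apply_mem hψ _⟩ :=
      Subtype.ext ((hbv _).trans ((hγv x).trans (hβv x)))
    show ((b⁻¹ ⟨ψ (Subgroup.inclusion le_sup_right x), _⟩ : S) : Ω) = x
    rw [← h1, MulAut.inv_apply_self]
  · show φ x = ((b (b⁻¹ ⟨φ x, hom_apply_mem hφ x⟩) : S) : Ω)
    rw [MulAut.apply_inv_self]

include hprod hS hF h₁ h₂ in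
/-- A system over `S₁` of maps of `F` that is closed under transport by `Aut_F(S)` and through
which all maps factor is invariant. -/
theorem invariant_of {E : FusionSystem S₁} (hsub : E.IsSubsystemOf F)
    (hconj : ∀ b ∈ F.autGroup S, ∀ (A B : Subgroup Ω), A ≤ S₁ → B ≤ S₁ → ∀ (hB : B ≤ S)
      (hBA : ∀ y : B, ((b⁻¹ ⟨y, hB y.2⟩ : S) : Ω) ∈ A) (φ : A →* Ω), φ ∈ E.Hom A →
      ∀ χ ∈ F.Hom B, (∀ (y : B) (h : φ ⟨_, hBA y⟩ ∈ S),
        χ y = ((b ⟨φ ⟨_, hBA y⟩, h⟩ : S) : Ω)) → χ ∈ E.Hom B)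
    (hfr : ∀ (P : Subgroup Ω), P ≤ S₁ → F.centralizerHom S₂ P ⊆ E.Hom P) :
    E.IsInvariantIn F := by
  refine ⟨hsub, h₁, fun P hPT φ hφ α hα => ?_, fun P hP φ hφ => ?_⟩
  · obtain ⟨b, hb, hbv⟩ := exists_ext_aut hprod hS hF h₁ h₂ hα
    have hB : (P.subgroupOf S₁).map (S₁.subtype.comp α.toMonoidHom) ≤ S₁ := mapS_le P
    have hBA : ∀ y : ↥((P.subgroupOf S₁).map (S₁.subtype.comp α.toMonoidHom)),
        ((b⁻¹ ⟨y, h₁.1 (hB y.2)⟩ : S) : Ω) ∈ P := by
      rintro ⟨_, x, hx, rfl⟩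
      have h1 : b ⟨(x : Ω), h₁.1 x.2⟩ = ⟨((α x : S₁) : Ω), h₁.1 (α x).2⟩ := Subtype.ext (hbv x)
      show ((b⁻¹ ⟨((α x : S₁) : Ω), _⟩ : S) : Ω) ∈ P
      rw [← h1, MulAut.inv_apply_self]
      exact hx
    obtain ⟨χ, hχ, hχv⟩ := conj_hom hb (hB.trans h₁.1) hBA (hsub P hφ)
    refine ⟨χ, hconj b hb P _ hPT hB (hB.trans h₁.1) hBA φ hφ χ hχ (fun y _ => hχv y), fun x hφx hαx => ?_⟩
    rw [hχv]
    have h1 : b ⟨(x : Ω), h₁.1 (hPT x.2)⟩ = ⟨_, h₁.1 (α ⟨x, hPT x.2⟩).2⟩ :=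
      Subtype.ext (hbv ⟨x, hPT x.2⟩)
    have h2 : (⟨_, hBA ⟨_, hαx⟩⟩ : P) = x := by
      apply Subtype.ext
      show ((b⁻¹ ⟨_, _⟩ : S) : Ω) = x
      rw [← h1, MulAut.inv_apply_self]
    exact (congrArg (fun z : S => ((b z : S) : Ω)) (Subtype.ext (congrArg φ h2) :
      (⟨_, _⟩ : S) = ⟨φ x, h₁.1 hφx⟩)).trans (hbv ⟨φ x, hφx⟩)
  · obtain ⟨b, hb, φ₀, hφ₀, hv⟩ := exists_factor hprod hS hF h₁ h₂ hP hφ
    obtain ⟨α, hα, hαv⟩ := aut_of_hom (restrict_mem ((mem_autGroup_iff le_rfl).1 hb) h₁.1)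
      fun x => StronglyClosed.apply_mem h₁ ((mem_autGroup_iff le_rfl).1 hb) x.2
    exact ⟨α, hα, φ₀, hfr P hP hφ₀, fun x hx => (hv x (h₁.1 hx)).trans (hαv ⟨φ₀ x, hx⟩).symm⟩

variable {R R' : FusionSystem S₁} (hR : ∀ P : Subgroup Ω, P ≤ S₁ → R.Hom P = F.Hom P)
  (hR' : ∀ P : Subgroup Ω, P ≤ S₁ → R'.Hom P = F.centralizerHom S₂ P)

include hR in
omit [Finite S] [Fact p.Prime] in
theorem full_subsystem : R.IsSubsystemOf F := fun P φ hφ => hR P (hom_le hφ) ▸ hφ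

include hR' in
omit [Finite S] [Fact p.Prime] in
theorem fix_subsystem : R'.IsSubsystemOf F := fun P φ hφ => (hR' P (hom_le hφ) ▸ hφ).1

include hprod hS hF h₁ h₂ hR in
theorem full_saturated : R.IsSaturated p := by
  intro P hP
  obtain ⟨Q, hPQ, ha, hr, -⟩ := IsSaturated.exists_rep hS hF (hP.trans h₁.1)
  obtain ⟨φ, hφ, rfl⟩ := hPQ
  have hQ : φ.range ≤ S₁ := by rintro _ ⟨x, rfl⟩; exact h₁.2 P hP φ hφ x
  refine ⟨φ.range, ⟨φ, (hR P hP).ge hφ, rfl⟩, ⟨hQ, ?_⟩, hQ, fun A χ hχ hA => ?_⟩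
  · have hK : R.autGroup φ.range = F.autGroup φ.range := by
      ext a
      rw [mem_autGroup_iff hQ, mem_autGroup_iff ha.1, hR _ hQ]
    rw [hK, ← autInducedBy_left hprod hQ]
    exact ha.2
  · have hAS : A ≤ S₁ := hom_le hχ
    obtain ⟨ψ, hψ, hag⟩ := hr.2 A χ (hR A hAS ▸ hχ) hA
    have hle : extender S₁ A χ ≤ extender S A χ := by
      intro g hg
      obtain ⟨h1, h2, h, h3, h4⟩ := mem_extender_iff.1 hg
      exact mem_extender_iff.2 ⟨hprod.1 h1, h2, h, hprod.1 h3, h4⟩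
    have hN : extender S₁ A χ ≤ S₁ := fun g hg => (mem_extender_iff.1 hg).1
    exact ⟨_, (hR _ hN).ge (restrict_mem hψ hle), fun x hx hN' => hag x hx (hle hN')⟩

include hprod hS hF h₁ h₂ hR' in
theorem fix_saturated : R'.IsSaturated p := by
  intro P hP
  obtain ⟨Q, hPQ, -, -, hQn⟩ := IsSaturated.exists_rep hS hF (hP.trans h₁.1)
  obtain ⟨φ, hφ, rfl⟩ := hPQ
  obtain ⟨b, hb, φ₀, hφ₀, hv⟩ := exists_factor hprod hS hF h₁ h₂ hP hφ
  have hQ : φ₀.range ≤ S₁ := by rintro _ ⟨x, rfl⟩; exact h₁.2 P hP φ₀ hφ₀.1 x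
  have hQn₀ : F.IsFullyNormalized φ₀.range := by
    have hmap : mapS (b : S ≃* S) φ₀.range = φ.range := by
      ext y
      constructor
      · rintro ⟨s, ⟨x, hx⟩, rfl⟩
        exact ⟨x, (hv x (hx ▸ s.2)).trans (congrArg (fun z : S => ((b z : S) : Ω)) (Subtype.ext hx))⟩
      · rintro ⟨x, rfl⟩
        exact ⟨⟨φ₀ x, hom_apply_mem hφ₀.1 x⟩, ⟨x, rfl⟩, (hv x _).symm⟩
    have hcard : Nat.card (normalizerIn S φ.range) = Nat.card (normalizerIn S φ₀.range) := by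
      rw [← hmap]
      exact card_normalizerIn_mapS (hQ.trans h₁.1)
    refine ⟨hQ.trans h₁.1, fun A hA => hcard ▸ hQn.2 A ?_⟩
    exact isConj_trans (isConj_trans (isConj_symm ⟨φ, hφ, rfl⟩) ⟨φ₀, hφ₀.1, rfl⟩) hA
  set Q := φ₀.range
  refine ⟨Q, ⟨φ₀, (hR' P hP).ge hφ₀, rfl⟩, ⟨hQ, ?_⟩, hQ, fun A χ hχ hA => ?_⟩
  · have := finite_mulAut_of_le (S := S) (hQ.trans h₁.1)
    refine IsSylowIn.of_le (A := F.autGroup Q) ?_ ?_ ?_ (autInducedBy_le_autGroup hQ)
    · rw [← autInducedBy_left hprod hQ]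
      exact (IsSaturated.fullyAutomized hS hF hQn₀).2
    · exact (autInducedBy_mono hprod.1).trans (autInducedBy_le_autGroup (hQ.trans h₁.1))
    · exact fun a ha => (mem_autGroup_iff (hQ.trans h₁.1)).2
        (fix_subsystem hR' Q ((mem_autGroup_iff hQ).1 ha))
  · have hAS : A ≤ S₁ := hom_le hχ
    have hχ' := hR' A hAS ▸ hχ
    obtain ⟨hχF, -, -, ψ₀, hψ₀, hag₀, hfix₀⟩ := hχ'
    -- `Q ⊔ S₂` is fully centralized
    have hQ2 : F.IsFullyCentralized (Q ⊔ S₂) := by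
      refine ⟨sup_le (hQ.trans h₁.1) h₂.1, fun Y hY => ?_⟩
      obtain ⟨η, hη, rfl⟩ := hY
      set B := η.range
      have hS2Y : S₂ ≤ B := by
        have := finite_le h₂.1
        intro y hy
        let r : S₂ →* S₂ := (η.comp (Subgroup.inclusion le_sup_right)).codRestrict S₂
          fun z => StronglyClosed.apply_mem h₂ hη z.2
        have hr : Function.Injective r := fun a b h =>
          Subgroup.inclusion_injective _ (F.injective_of_mem hη (congrArg Subtype.val h :))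
        obtain ⟨z, hz⟩ := Finite.injective_iff_surjective.1 hr ⟨y, hy⟩
        exact ⟨_, congrArg Subtype.val hz⟩
      have hconj : F.IsConj (img η Q) Q := isConj_symm (isConj_img hη le_sup_left)
      obtain ⟨hfc, hfa⟩ := IsSaturated.fullyNormalized_all hS hF hQn₀
      obtain ⟨θ, hθ, -, himg⟩ := exists_normalizer_map hS hfa (IsSaturated.receptive hS hF hfc) hconj
      have hCN : centralizerIn S B ≤ normalizerIn S (img η Q) :=
        (centralizerIn_antitone (img_le_range η Q)).trans (centralizerIn_le_normalizerIn _)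
      have hS2N : S₂ ≤ normalizerIn S (img η Q) := by
        refine le_trans (right_le_centralizerIn hprod ?_) (centralizerIn_le_normalizerIn _)
        rintro _ ⟨x, hx, rfl⟩
        exact StronglyClosed.apply_mem h₁ hη (hQ hx)
      have hm : ∀ y : centralizerIn S B, θ ⟨y, hCN y.2⟩ ∈ centralizerIn S (Q ⊔ S₂) := by
        intro y
        refine mem_centralizerIn.2 ⟨hom_apply_mem hθ _, ?_⟩
        have hsup : Q ⊔ S₂ ≤ Subgroup.centralizer {θ ⟨y, hCN y.2⟩} := by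
          refine sup_le (fun z hz => ?_) fun z hz => ?_
          · rw [Subgroup.mem_centralizer_singleton_iff]
            have := mem_centralizerIn.1 (normalizer_map_centralizer hθ himg ⟨y, hCN y.2⟩
              (centralizerIn_antitone (img_le_range η Q) y.2))
            exact this.2 z hz
          · rw [Subgroup.mem_centralizer_singleton_iff]
            have := finite_le h₂.1
            let r : S₂ →* S₂ := (θ.comp (Subgroup.inclusion hS2N)).codRestrict S₂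
              fun z => StronglyClosed.apply_mem h₂ hθ z.2
            have hr : Function.Injective r := fun a b h =>
              Subgroup.inclusion_injective _ (F.injective_of_mem hθ (congrArg Subtype.val h :))
            obtain ⟨w, hw⟩ := Finite.injective_iff_surjective.1 hr ⟨z, hz⟩
            have hw' : θ (Subgroup.inclusion hS2N w) = z := congrArg Subtype.val hw
            rw [← hw', ← map_mul, ← map_mul]
            congr 1
            exact Subtype.ext ((mem_centralizerIn.1 y.2).2 _ (hS2Y w.2))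
        intro z hz
        exact Subgroup.mem_centralizer_singleton_iff.1 (hsup hz)
      have := finite_le (centralizerIn_le (S := S) (Q ⊔ S₂))
      exact Nat.card_le_card_of_injective (fun y : centralizerIn S B =>
        (⟨_, hm y⟩ : centralizerIn S (Q ⊔ S₂))) fun a b h =>
          Subtype.ext (congrArg Subtype.val (F.injective_of_mem hθ (congrArg Subtype.val h :)) :)
    -- `ψ₀` as an isomorphism onto `Q ⊔ S₂`
    have hψr : ψ₀.range = Q ⊔ S₂ := by
      apply le_antisymm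
      · rintro _ ⟨z, rfl⟩
        refine apply_mem_of_sup (fun x => Subgroup.mem_sup_left ?_)
          (fun x => Subgroup.mem_sup_right ?_) z
        · rw [hag₀, ← hA]; exact ⟨x, rfl⟩
        · rw [hfix₀]; exact x.2
      · refine sup_le (fun y hy => ?_) fun y hy => ⟨_, hfix₀ ⟨y, hy⟩⟩
        rw [← hA] at hy
        obtain ⟨x, rfl⟩ := hy
        exact ⟨_, hag₀ x⟩
    obtain ⟨Ψ, hΨ, hΨv⟩ := (IsSaturated.receptive hS hF hQ2).2 _ ψ₀ hψ₀ hψr
    have hN : extender S₁ A χ ≤ S₁ := fun g hg => (mem_extender_iff.1 hg).1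
    have hN2 : extender S₁ A χ ⊔ S₂ ≤ extender S (A ⊔ S₂) ψ₀ := by
      refine sup_le (fun g hg => ?_)
        (le_sup_right.trans (le_extender (hom_le hψ₀) fun x => hom_apply_mem hψ₀ x))
      obtain ⟨hg1, hgn, h, hh, heq⟩ := mem_extender_iff.1 hg
      refine mem_extender_iff.2 ⟨hprod.1 hg1, ?_, h, hprod.1 hh, ?_⟩
      · have : g ∈ Subgroup.normalizer (S₂ : Set Ω) := StronglyClosed.normal_in h₂ (hprod.1 hg1)
        exact Subgroup.normalizer_inf_normalizer_le_normalizer_sup A S₂ ⟨hgn, this⟩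
      · intro z hz
        let L : ↥(A ⊔ S₂) →* Ω := (MulAut.conj h).toMonoidHom.comp ψ₀
        have hgn' : g ∈ Subgroup.normalizer ((A ⊔ S₂ : Subgroup Ω) : Set Ω) :=
          Subgroup.normalizer_inf_normalizer_le_normalizer_sup A S₂
            ⟨hgn, StronglyClosed.normal_in h₂ (hprod.1 hg1)⟩
        let L' : ↥(A ⊔ S₂) →* Ω := ψ₀.comp ((A ⊔ S₂).normalizerMonoidHom ⟨g, hgn'⟩).toMonoidHom
        have hLL : L' = L := by
          have htop : (L'.eqLocus L) = ⊤ := by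
            rw [eq_top_iff]
            intro w _
            have hle : A ⊔ S₂ ≤ (L'.eqLocus L).map (A ⊔ S₂).subtype := by
              refine sup_le (fun a ha => ⟨⟨a, Subgroup.mem_sup_left ha⟩, ?_, rfl⟩)
                fun a ha => ⟨⟨a, Subgroup.mem_sup_right ha⟩, ?_, rfl⟩
              · have hga := conj_mem_of_mem_normalizer hgn ha
                show ψ₀ (Subgroup.inclusion le_sup_left ⟨g * a * g⁻¹, hga⟩) =
                  h * ψ₀ (Subgroup.inclusion le_sup_left ⟨a, ha⟩) * h⁻¹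
                rw [hag₀, hag₀]
                exact heq ⟨a, ha⟩ hga
              · have hc : g * a * g⁻¹ = a := by
                  rw [hprod.2.2.1 g hg1 a ha, mul_inv_cancel_right]
                have hc' : h * a * h⁻¹ = a := by
                  rw [hprod.2.2.1 h hh a ha, mul_inv_cancel_right]
                show ψ₀ ⟨g * a * g⁻¹, _⟩ =
                  h * ψ₀ (Subgroup.inclusion le_sup_right ⟨a, ha⟩) * h⁻¹
                rw [hfix₀, hc']
                exact (congrArg ψ₀ (Subtype.ext hc)).trans (hfix₀ ⟨a, ha⟩)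
            obtain ⟨u, hu, huw⟩ := hle w.2
            exact (Subtype.ext huw : u = w) ▸ hu
          exact MonoidHom.ext fun w => (htop.ge (Subgroup.mem_top w) :)
        exact DFunLike.congr_fun hLL z
    have hΨN := restrict_mem hΨ hN2
    refine ⟨_, (hR' _ hN).ge (centralizerHom_mk hprod h₁ hN (restrict_mem hΨN le_sup_left) hΨN
      (fun _ => rfl) fun y => ?_), fun x hx hN' => ?_⟩
    · exact (hΨv y (Subgroup.mem_sup_right y.2) _).trans (hfix₀ y)
    · exact (hΨv x (Subgroup.mem_sup_left hx) _).trans (hag₀ ⟨x, hx⟩)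

include hprod hS hF h₁ h₂ hR in
theorem full_invariant : R.IsInvariantIn F := by
  refine invariant_of hprod hS hF h₁ h₂ (full_subsystem hR)
    (fun b hb A B hA hB _ _ φ hφ χ hχ _ => (hR B hB).ge hχ) fun P hP φ hφ => (hR P hP).ge hφ.1

include hprod hS hF h₁ h₂ hR' in
theorem fix_invariant : R'.IsInvariantIn F := by
  refine invariant_of hprod hS hF h₁ h₂ (fix_subsystem hR')
    (fun b hb A B hA hB hBS hBA φ hφ χ hχ hχv => (hR' B hB).ge ?_) fun P hP => (hR' P hP).ge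
  obtain ⟨hφF, -, -, ψ, hψ, hag, hfix⟩ := hR' A hA ▸ hφ
  have hbS2 : ∀ y : S₂, ((b⁻¹ ⟨y, h₂.1 y.2⟩ : S) : Ω) ∈ S₂ := fun y =>
    StronglyClosed.apply_mem h₂
      (restrict_mem ((mem_autGroup_iff le_rfl).1 ((F.autGroup S).inv_mem hb)) h₂.1) (x := y) y.2
  have hBS' : B ⊔ S₂ ≤ S := sup_le hBS h₂.1
  have hBA' : ∀ y : ↥(B ⊔ S₂), ((b⁻¹ ⟨y, hBS' y.2⟩ : S) : Ω) ∈ A ⊔ S₂ :=
    apply_mem_of_sup (ψ := (S.subtype.comp (b⁻¹ : MulAut S).toMonoidHom).comp
      (Subgroup.inclusion hBS')) (fun x => Subgroup.mem_sup_left (hBA x))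
      (fun x => Subgroup.mem_sup_right (hbS2 x))
  obtain ⟨X, hX, hXv⟩ := conj_hom hb hBS' hBA' hψ
  refine centralizerHom_mk hprod h₁ hB hχ hX (fun x => ?_) fun x => ?_
  · rw [hXv, hχv x (hom_apply_mem hφF _)]
    exact congrArg (fun z : S => ((b z : S) : Ω)) (Subtype.ext ((congrArg ψ (Subtype.ext rfl)).trans
      (hag ⟨_, hBA x⟩)))
  · rw [hXv]
    have h1 : ψ (⟨_, hBA' (Subgroup.inclusion le_sup_right x)⟩) =
        ((b⁻¹ ⟨x, h₂.1 x.2⟩ : S) : Ω) := hfix ⟨_, hbS2 x⟩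
    exact (congrArg (fun z : S => ((b z : S) : Ω))
      (Subtype.ext h1 : (⟨_, _⟩ : S) = b⁻¹ ⟨x, h₂.1 x.2⟩)).trans (by rw [MulAut.apply_inv_self])

end

end CfsgLib.Fusion.ClosedFactors
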