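import Cfsg.Agent.Lib.Fusion.Factor

/-!
Products with a strongly closed subgroup.
-/

set_option autoImplicit false

namespace CfsgLib.Fusion

open Cfsg Cfsg.FusionSystem

variable {Ω : Type*} [Group Ω] {S : Subgroup Ω} {F : FusionSystem S} {p : ℕ}

/-- `T ⊔ U` is strongly closed as soon as maps defined on `T` keep elements of `U` inside `T ⊔ U`. -/
theorem stronglyClosed_sup_of [Fact p.Prime] [Finite S] (hS : IsPGroup p S) (hF : F.IsSaturated p)
    {T U : Subgroup Ω} (hT : F.StronglyClosed T) (hU : U ≤ S)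
    (h : ∀ (P : Subgroup Ω) (φ : P →* Ω), φ ∈ F.Hom P → T ≤ P → ∀ x : P, (x : Ω) ∈ U → φ x ∈ T ⊔ U) :
    F.StronglyClosed (T ⊔ U) := by
  refine ⟨sup_le hT.1 hU, fun R hR φ hφ x => ?_⟩
  obtain ⟨-, ψ, hψ, hv⟩ := le_liftSystem hS hF hT R hφ
  set a := Subgroup.inclusion (le_sup_left : R ≤ R ⊔ T) x with ha
  have hx : (x : Ω) ∈ (↑(U ⊔ T) : Set Ω) := by
    rw [sup_comm]
    exact hR x.2
  rw [Subgroup.coe_mul_of_left_le_normalizer_right U T
    (hU.trans (StronglyClosed.normal_in hT))] at hx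
  obtain ⟨u, hu, t, ht, hut⟩ := hx
  have hut' : u * t = (x : Ω) := hut
  have hu' : u ∈ R ⊔ T := by
    rw [show u = (x : Ω) * t⁻¹ by rw [← hut', mul_inv_cancel_right]]
    exact mul_mem (Subgroup.mem_sup_left x.2) (Subgroup.mem_sup_right (inv_mem ht))
  have ha' : a = ⟨u, hu'⟩ * ⟨t, Subgroup.mem_sup_right ht⟩ := Subtype.ext hut'.symm
  have hψa : ψ a ∈ T ⊔ U := by
    rw [ha', map_mul]
    exact mul_mem (h _ ψ hψ le_sup_right _ hu)
      (Subgroup.mem_sup_left (StronglyClosed.apply_mem hT hψ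
        (x := ⟨t, Subgroup.mem_sup_right ht⟩) ht))
  rw [← mul_inv_cancel_left (ψ a) (φ x)]
  exact mul_mem hψa (Subgroup.mem_sup_left (hv x))

end CfsgLib.Fusion
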