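import Cfsg.Agent.Lib.Fusion.Factor
import Cfsg.Agent.Lib.Fusion.Series
import Cfsg.Prelude.Def_Transfer

/-!
The hyperfocal subgroup through automorphisms of order prime to `p`.
-/

set_option autoImplicit false

namespace CfsgLib.Fusion

open Cfsg Cfsg.FusionSystem

variable {Ω : Type*} [Group Ω] {S : Subgroup Ω} {F : FusionSystem S} {p : ℕ}

/-- It is enough to treat automorphisms of order prime to `p`. -/
theorem hyperfocal_le_of_coprime {U : Subgroup Ω}
    (h : ∀ (P : Subgroup Ω) (α : MulAut P), P ≤ S → α ∈ F.autGroup P →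
      (orderOf α).Coprime p → ∀ x : P, (x : Ω)⁻¹ * α x ∈ U) :
    F.hyperfocalSubgroup p ≤ U := by
  rw [FusionSystem.hyperfocalSubgroup, Subgroup.closure_le]
  rintro _ ⟨P, α, x, hP, hα, rfl⟩
  let K : Subgroup (F.autGroup P) :=
    { carrier := {a | ∀ y : P, (y : Ω)⁻¹ * ((a : MulAut P) y : Ω) ∈ U}
      one_mem' := fun y => by simp
      mul_mem' := fun {a b} ha hb y => by
        have := U.mul_mem (hb y) (ha ((b : MulAut P) y))
        simpa [mul_assoc] using this
      inv_mem' := fun {a} ha y => by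
        have := U.inv_mem (ha ((a : MulAut P)⁻¹ y))
        simpa using this }
  refine (?_ : pResidual p (F.autGroup P) ≤ K) hα x
  rw [pResidual, Subgroup.closure_le]
  exact fun a ha y => h P a hP a.2 (by rwa [Subgroup.orderOf_coe]) y

theorem mem_hyperfocal_of_coprime {P : Subgroup Ω} {α : MulAut P} (hP : P ≤ S)
    (hα : α ∈ F.autGroup P) (hc : (orderOf α).Coprime p) (x : P) :
    (x : Ω)⁻¹ * α x ∈ F.hyperfocalSubgroup p :=
  Subgroup.subset_closure ⟨P, ⟨α, hα⟩, x, hP,
    Subgroup.subset_closure (by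
      show (orderOf (⟨α, hα⟩ : F.autGroup P)).Coprime p
      rwa [Subgroup.orderOf_mk]), rfl⟩

/-- A power of `b` of order prime to `p` that is congruent to `1` modulo a number prime to `p`. -/
theorem exists_coprime_pow {G : Type*} [Group G] [Fact p.Prime] (b : G) (hb : 0 < orderOf b)
    {r : ℕ} (hr : r.Coprime p) :
    ∃ n : ℕ, (∀ {H : Type _} [Group H] (a : H), a ^ r = 1 → a ^ n = a) ∧
      (orderOf (b ^ n)).Coprime p := by
  have hp : p.Prime := Fact.out
  obtain ⟨k, m, hm, hord⟩ := Nat.exists_eq_pow_mul_and_not_dvd hb.ne' p hp.ne_one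
  have hr0 : 0 < r := by
    rcases Nat.eq_zero_or_pos r with h | h
    · rw [h, Nat.coprime_zero_left] at hr
      exact absurd hr hp.ne_one
    · exact h
  obtain ⟨u, hu⟩ : ∃ u, p ^ k * u ≡ 1 [MOD r] := by
    rcases Nat.lt_or_ge 1 r with h | h
    · obtain ⟨u, -, hu⟩ := Nat.exists_mul_mod_eq_one_of_coprime (hr.symm.pow_left k) h
      exact ⟨u, by rw [Nat.ModEq, hu, Nat.mod_eq_of_lt h]⟩
    · exact ⟨0, by rw [show r = 1 by omega]; exact Nat.modEq_one⟩
  refine ⟨p ^ k * u, fun {H} _ a ha => ?_, ?_⟩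
  · rw [pow_eq_pow_mod _ ha, hu, ← pow_eq_pow_mod _ ha, pow_one]
  · have h1 : orderOf (b ^ (p ^ k * u)) ∣ m := by
      refine orderOf_dvd_of_pow_eq_one ?_
      rw [← pow_mul, show p ^ k * u * m = orderOf b * u by rw [hord]; ring, pow_mul,
        pow_orderOf_eq_one, one_pow]
    exact (((Nat.Prime.coprime_iff_not_dvd hp).2 hm).symm).coprime_dvd_left h1

/-- An automorphism of order prime to `p` agrees modulo a strongly closed `T` with one of `PT`. -/
theorem exists_aut_mod [Fact p.Prime] [Finite S] (hS : IsPGroup p S) (hF : F.IsSaturated p)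
    {T : Subgroup Ω} (hT : F.StronglyClosed T) {P : Subgroup Ω} {α : MulAut P} (hP : P ≤ S)
    (hα : α ∈ F.autGroup P) (hc : (orderOf α).Coprime p) :
    ∃ β ∈ F.autGroup (P ⊔ T), (orderOf β).Coprime p ∧
      ∀ x : P, (β (Subgroup.inclusion le_sup_left x) : Ω)⁻¹ * α x ∈ T := by
  obtain ⟨-, ψ, hψ, hv⟩ := le_liftSystem hS hF hT P ((mem_autGroup_iff hP).1 hα)
  replace hv : ∀ x : P, (ψ (Subgroup.inclusion le_sup_left x))⁻¹ * (α x : Ω) ∈ T := hv
  have hPT : P ⊔ T ≤ S := sup_le hP hT.1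
  have hfinM := finite_le hPT
  have hψr : ψ.range = P ⊔ T := by
    refine Subgroup.eq_of_le_of_card_ge ?_ ?_
    · rintro _ ⟨z, rfl⟩
      refine apply_mem_of_sup (fun x => ?_)
        (fun x => Subgroup.mem_sup_right (StronglyClosed.apply_mem hT hψ x.2)) z
      have := hv x
      rw [show ψ (Subgroup.inclusion le_sup_left x) =
        (α x : Ω) * ((ψ (Subgroup.inclusion le_sup_left x))⁻¹ * (α x : Ω))⁻¹ by group]
      exact mul_mem (Subgroup.mem_sup_left (α x).2) (Subgroup.mem_sup_right (T.inv_mem this))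
    · exact (Nat.card_congr (MonoidHom.ofInjective (F.injective_of_mem hψ)).toEquiv).le
  obtain ⟨β₀, hβ₀, hβ₀v⟩ := exists_iso hψ hψr
  set b : MulAut ↥(P ⊔ T) := β₀ with hbdef
  have hbF : b ∈ F.autGroup (P ⊔ T) := (mem_autGroup_iff_isoIn hPT).2 hβ₀
  have hfin := finite_mulAut_of_le (S := S) hPT
  have hpow : ∀ (i : ℕ) (x : P),
      (((b ^ i) (Subgroup.inclusion le_sup_left x) : ↥(P ⊔ T)) : Ω)⁻¹ * ((α ^ i) x : Ω) ∈ T := by
    intro i
    induction i with
    | zero => intro x; simp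
    | succ i ih =>
        intro x
        set u := (b ^ i) (Subgroup.inclusion le_sup_left x) with hu
        set y := (α ^ i) x with hy
        set t : ↥(P ⊔ T) := u⁻¹ * Subgroup.inclusion le_sup_left y with ht
        have htT : (t : Ω) ∈ T := ih x
        have hbt : (b t : Ω) ∈ T := StronglyClosed.apply_mem hT ((mem_autGroup_iff hPT).1 hbF) htT
        have h1 : (b (Subgroup.inclusion le_sup_left y) : Ω) = (b u : Ω) * (b t : Ω) := by
          rw [← Subgroup.coe_mul, ← map_mul, ht, mul_inv_cancel_left]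
        have h2 := hv y
        rw [← hβ₀v, h1] at h2
        rw [pow_succ', pow_succ', MulAut.mul_apply, MulAut.mul_apply, ← hu, ← hy]
        have := T.mul_mem hbt h2
        simpa [mul_assoc] using this
  obtain ⟨n, hn1, hn2⟩ := exists_coprime_pow (p := p) b (orderOf_pos b) hc
  refine ⟨b ^ n, Subgroup.pow_mem _ hbF n, hn2, fun x => ?_⟩
  have := hpow n x
  rwa [hn1 α (pow_orderOf_eq_one α)] at this

end CfsgLib.Fusion
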