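import Cfsg.Agent.Lib.Fusion.NormalCentralizerClosed
import Cfsg.Agent.Lib.Fusion.ConstrainedNormal
import Cfsg.Agent.Lib.Fusion.NormalExtend
import Cfsg.Agent.Lib.Fusion.HyperfocalGen

/-!
# A normal subsystem moves a normal subgroup only inside itself
-/

set_option autoImplicit false

namespace CfsgLib.Fusion

open Cfsg Cfsg.FusionSystem

universe u

variable {Ω : Type u} [Group Ω] {S U : Subgroup Ω} {F : FusionSystem S} {E : FusionSystem U}
  {p : ℕ} {Q : Subgroup Ω}

/-- The meet of a normal subgroup with the group of a normal subsystem is normal in the latter. -/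
theorem isNormal_inf_of_subsystem [Fact p.Prime] [Finite S] (hS : IsPGroup p S)
    (hU : F.StronglyClosed U) (hEs : E.IsSaturated p) (hsub : E.IsSubsystemOf F)
    (hQn : F.IsNormal Q) : E.IsNormal (Q ⊓ U) := by
  have hUS := hU.1
  have := finite_le hUS
  have hclosed : ∀ C : Subgroup Ω, F.StronglyClosed C → E.StronglyClosed (C ⊓ U) := fun C hC =>
    ⟨inf_le_right, fun R hR φ hφ x => ⟨hC.2 R (hR.trans inf_le_left) φ (hsub R hφ) x,
      hU.2 R (hR.trans inf_le_right) φ (hsub R hφ) x⟩⟩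
  obtain ⟨n, C, h0, hlast, hmono, hC, hcomm⟩ := IsNormal.exists_series hS hQn
  refine isNormal_of_series (hS.to_le hUS) hEs (hclosed Q (IsNormal.stronglyClosed hQn))
    (fun i => C i ⊓ U) (by simp [h0]) (by simp [hlast])
    (fun a b hab => inf_le_inf_right _ (hmono hab)) (fun i => ?_)
    (fun i => StronglyClosed.weaklyClosed (hclosed _ (hC _)))
  refine le_inf ((Subgroup.commutator_mono inf_le_left inf_le_left).trans (hcomm i))
    ((Subgroup.commutator_mono inf_le_right inf_le_right).trans ?_)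
  exact Subgroup.commutator_le.2 fun a ha b hb =>
    U.mul_mem (U.mul_mem (U.mul_mem ha hb) (U.inv_mem ha)) (U.inv_mem hb)

/-- `φ` extends over `Q` moving it only inside `U`. -/
def Disp (F : FusionSystem S) (U Q P : Subgroup Ω) (φ : P →* Ω) : Prop :=
  ∃ ψ ∈ F.Hom (P ⊔ Q), (∀ x : P, ψ (Subgroup.inclusion le_sup_left x) = φ x) ∧
    (∀ q : Q, ψ (Subgroup.inclusion le_sup_right q) ∈ Q) ∧
    ∀ q : Q, (q : Ω)⁻¹ * ψ (Subgroup.inclusion le_sup_right q) ∈ U

/-- The maps of `E` moving `Q` only inside `U`. -/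
def dispSystem [Finite S] (hU : F.StronglyClosed U) (hQ : F.IsNormal Q)
    (hsub : E.IsSubsystemOf F) : FusionSystem U where
  Hom P := {φ | φ ∈ E.Hom P ∧ Disp F U Q P φ}
  le_of_mem h := E.le_of_mem h.1
  injective_of_mem h := E.injective_of_mem h.1
  conj_mem := by
    intro P g hP hg
    refine ⟨E.conj_mem hP hg, conjHom _ g, F.conj_mem (sup_le (hP.trans hU.1) hQ.1) (hU.1 hg),
      fun x => rfl, fun q => ?_, fun q => ?_⟩
    · exact conj_mem_of_mem_normalizer (IsNormal.normal_in hQ (hU.1 hg)) q.2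
    · show (q : Ω)⁻¹ * (g * q * g⁻¹) ∈ U
      have h1 := conj_mem_of_mem_normalizer
        (StronglyClosed.normal_in hU (S.inv_mem (hQ.1 q.2))) hg
      rw [inv_inv] at h1
      simpa [mul_assoc] using U.mul_mem h1 (U.inv_mem hg)
  comp_mem := by
    rintro P R φ ψ ⟨hφ, a, ha, haP, haQ, had⟩ ⟨hψ, b, hb, hbR, hbQ, hbd⟩ h
    have hm : ∀ w, a w ∈ R ⊔ Q := fun w => range_le_of_gens
      (fun x => Subgroup.mem_sup_left (by rw [haP]; exact h x))
      (fun q => Subgroup.mem_sup_right (haQ q)) ⟨w, rfl⟩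
    refine ⟨E.comp_mem hφ hψ h, _, F.comp_mem ha hb hm, fun x => ?_, fun q => ?_, fun q => ?_⟩
    · show b _ = ψ _
      rw [← hbR]
      exact congrArg b (Subtype.ext (haP x))
    · show b ⟨_, hm (Subgroup.inclusion le_sup_right q)⟩ ∈ Q
      exact hbQ ⟨_, haQ q⟩
    · show (q : Ω)⁻¹ * b ⟨_, hm (Subgroup.inclusion le_sup_right q)⟩ ∈ U
      have h1 := U.mul_mem (had q) (hbd ⟨_, haQ q⟩)
      rwa [mul_assoc, mul_inv_cancel_left] at h1
  inv_mem := by
    rintro P φ ⟨hφ, a, ha, haP, haQ, had⟩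
    obtain ⟨φi, hφi, hl⟩ := E.inv_mem hφ
    have hQimg : (Q.subgroupOf (P ⊔ Q)).map a = Q := by
      have := finite_le hQ.1
      have : Finite ↥(P ⊔ Q) := finite_le (hom_le ha)
      refine Subgroup.eq_of_le_of_card_ge ?_ ?_
      · rintro _ ⟨w, hw, rfl⟩
        exact haQ ⟨w, hw⟩
      · rw [Subgroup.card_map_of_injective (F.injective_of_mem ha),
          Nat.card_congr (Subgroup.subgroupOfEquivOfLe le_sup_right).toEquiv]
    obtain ⟨ai, hai, -, hal, -⟩ := exists_inv ha (ext_range haP hQimg)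
    have hback : ∀ q : Q, ∃ q' : Q, a (Subgroup.inclusion le_sup_right q') = q ∧
        ai (Subgroup.inclusion le_sup_right q) = q' := by
      intro q
      obtain ⟨w, hw, hwq⟩ := hQimg.ge q.2
      refine ⟨⟨w, hw⟩, hwq, ?_⟩
      have hm : a w ∈ φ.range ⊔ Q := hwq.symm ▸ Subgroup.mem_sup_right q.2
      exact (congrArg ai (Subtype.ext hwq.symm :
        Subgroup.inclusion (le_sup_right (a := φ.range)) q = ⟨a w, hm⟩)).trans (hal w hm)
    refine ⟨φi, ⟨hφi, ai, hai, ?_, fun q => ?_, fun q => ?_⟩, hl⟩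
    · rintro ⟨_, x, rfl⟩
      rw [hl x]
      exact (congrArg ai (Subtype.ext (haP x).symm :
        (Subgroup.inclusion le_sup_left ⟨φ x, ⟨x, rfl⟩⟩ : ↥(φ.range ⊔ Q)) =
          ⟨a (Subgroup.inclusion le_sup_left x), (haP x).symm ▸ Subgroup.mem_sup_left ⟨x, rfl⟩⟩)).trans
        (hal _ _)
    · obtain ⟨q', -, h2⟩ := hback q
      rw [h2]
      exact q'.2
    · obtain ⟨q', h1, h2⟩ := hback q
      rw [h2, ← h1]
      have := U.inv_mem (had q')
      rwa [mul_inv_rev, inv_inv] at this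

variable [Fact p.Prime] [Finite S]

omit [Fact p.Prime] in
/-- Extensions over the normal `Q` preserve the displacement property. -/
theorem disp_congr (hU : F.StronglyClosed U) (hQn : F.IsNormal Q) (hsub : E.IsSubsystemOf F)
    {P P' : Subgroup Ω} (hP : P ≤ U) {e : P ≃* P'} (he : IsoIn F e) {a : MulAut P}
    (ha : a ∈ E.autGroup P)
    (h : MulAut.congr e a ∈ (dispSystem hU hQn hsub).autGroup P') :
    a ∈ (dispSystem hU hQn hsub).autGroup P := by
  obtain ⟨ε, hε, hεv, hεQ⟩ := hQn.2 P (isoHom e) he.mem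
  have hr : ε.range = P' ⊔ Q := by rw [ext_range hεv hεQ, isoHom_range]
  obtain ⟨κ, hκ, hκv⟩ := exists_iso hε hr
  have hP' : P' ≤ U := fun y hy => by
    have h1 := hU.2 P hP _ he.mem (e.symm ⟨y, hy⟩)
    rwa [isoHom_apply, MulEquiv.apply_symm_apply] at h1
  obtain ⟨-, ψ, hψ, hψP, hψQ, hψd⟩ := (mem_autGroup_iff hP').1 h
  have hκQ : ∀ q : Q, ((κ (Subgroup.inclusion le_sup_right q) : _) : Ω) ∈ Q := fun q => by
    rw [hκv]; exact hεQ.le ⟨_, q.2, rfl⟩
  have hκs : ∀ q : Q, ((κ.symm (Subgroup.inclusion le_sup_right q) : _) : Ω) ∈ Q := fun q => by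
    obtain ⟨w, hw, hwq⟩ := hεQ.ge q.2
    have h1 : κ w = Subgroup.inclusion le_sup_right q := Subtype.ext ((hκv w).trans hwq)
    rw [← h1, MulEquiv.symm_apply_apply]
    exact hw
  have hψm : ∀ w, ψ w ∈ P' ⊔ Q := fun w => range_le_of_gens
    (fun x => Subgroup.mem_sup_left (by rw [hψP]; exact (MulAut.congr e a x).2))
    (fun q => Subgroup.mem_sup_right (hψQ q)) ⟨w, rfl⟩
  obtain ⟨χ, hχdef, hχ⟩ : ∃ χ : ↥(P ⊔ Q) →* Ω,
      (∀ w, χ w = ((κ.symm ⟨ψ (κ w), hψm _⟩ : _) : Ω)) ∧ χ ∈ F.Hom (P ⊔ Q) :=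
    ⟨_, fun w => rfl, F.comp_mem (F.comp_mem hκ.mem hψ (fun w => (κ w).2)) hκ.symm.mem
      (fun w => hψm _)⟩
  refine (mem_autGroup_iff hP).2 ⟨(mem_autGroup_iff hP).1 ha, χ, hχ, fun x => ?_, fun q => ?_,
    fun q => ?_⟩
  · have h1 : κ (Subgroup.inclusion le_sup_left x) = Subgroup.inclusion le_sup_left (e x) :=
      Subtype.ext ((hκv _).trans (hεv x))
    have h2 : (⟨ψ (κ (Subgroup.inclusion le_sup_left x)), hψm _⟩ : ↥(P' ⊔ Q)) =
        κ (Subgroup.inclusion le_sup_left (a x)) := by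
      refine Subtype.ext ((congrArg ψ h1).trans ((hψP _).trans ?_))
      rw [hκv, hεv]
      simp [MulAut.congr]
    rw [hχdef, h2, MulEquiv.symm_apply_apply]
    rfl
  · rw [hχdef]
    exact hκs ⟨_, by
      show ψ (κ _) ∈ Q
      exact hψQ ⟨_, hκQ q⟩⟩
  · set q₁ : Q := ⟨_, hκQ q⟩ with hq₁
    have h2 : κ (Subgroup.inclusion le_sup_right q) = Subgroup.inclusion le_sup_right q₁ :=
      Subtype.ext rfl
    set u : ↥(P' ⊔ Q) := (Subgroup.inclusion le_sup_right q₁)⁻¹ *
      ⟨ψ (Subgroup.inclusion le_sup_right q₁), hψm _⟩ with hu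
    have h3 : ((κ.symm u : _) : Ω) ∈ U :=
      StronglyClosed.apply_mem hU hκ.symm.mem (x := u) (hψd q₁)
    have h4 : κ.symm ⟨ψ (κ (Subgroup.inclusion le_sup_right q)), hψm _⟩ =
        Subgroup.inclusion le_sup_right q * κ.symm u := by
      apply κ.injective
      rw [map_mul, MulEquiv.apply_symm_apply, MulEquiv.apply_symm_apply, hu, h2,
        mul_inv_cancel_left]
    rw [hχdef, h4, Subgroup.coe_mul, Subgroup.coe_inclusion, inv_mul_cancel_left]
    exact h3

/-- A liftable automorphism of order prime to `p` at a fully normalized subgroup. -/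
theorem disp_of_liftable (hS : IsPGroup p S) (hE : E.IsNormalIn F p) (hQn : F.IsNormal Q)
    {P : Subgroup Ω} (hPU : P ≤ U) (hP : F.IsFullyNormalized P) (hRP : Q ⊓ U ≤ P)
    {a : MulAut P} (ha : a ∈ E.autGroup P) (hlift : Liftable F P a) {n : ℕ} (hn : a ^ n = 1)
    (hcop : n.Coprime p) : Disp F U Q P (P.subtype.comp a.toMonoidHom) := by
  obtain ⟨⟨hEs, hF, hEi⟩, -⟩ := hE
  have hU := hEi.2.1
  have hUS := hU.1
  have := finite_le hUS
  have hUp : IsPGroup p U := hS.to_le hUS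
  have hQS := hQn.1
  have hPS := hP.1
  set W := P ⊔ centralizerIn S P with hWdef
  obtain ⟨x, hx, ⟨m, hm, hmc⟩, hxa⟩ := Liftable.exists_pPrime hPS hlift hn hcop
  have hWS : W ≤ S := sup_centralizerIn_le_S hPS
  obtain ⟨ψ, hψ, hψW, hψQ⟩ := hQn.2 W _ ((mem_autGroup_iff hWS).1 hx.1)
  have hr : ψ.range = W ⊔ Q := by
    rw [ext_range hψW hψQ]
    congr 1
    exact le_antisymm (by rintro _ ⟨y, rfl⟩; exact (x y).2)
      fun y hy => ⟨x⁻¹ ⟨y, hy⟩, congrArg Subtype.val (MulAut.apply_inv_self W x ⟨y, hy⟩)⟩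
  obtain ⟨β, hβ, hβv⟩ := exists_iso hψ hr
  have hMS : W ⊔ Q ≤ S := sup_le hWS hQS
  have := finite_le hMS
  have : Finite (MulAut ↥(W ⊔ Q)) := finite_mulAut_of_le hMS
  obtain ⟨k, hk, hkc⟩ := exists_coprime_pow (p := p) (β : MulAut ↥(W ⊔ Q)) (orderOf_pos _) hmc
  set γ : MulAut ↥(W ⊔ Q) := (β : MulAut ↥(W ⊔ Q)) ^ k with hγdef
  have hγF : γ ∈ F.autGroup (W ⊔ Q) := pow_mem ((mem_autGroup_iff_isoIn hMS).2 hβ) k
  have hγh := (mem_autGroup_iff hMS).1 hγF
  have hγW : ∀ w : W, γ (Subgroup.inclusion le_sup_left w) =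
      Subgroup.inclusion le_sup_left (x w) := by
    intro w
    have h1 : ∀ y : W, (β : MulAut ↥(W ⊔ Q)) (Subgroup.inclusion le_sup_left y) =
        Subgroup.inclusion le_sup_left (x y) := fun y => Subtype.ext ((hβv _).trans (hψW y))
    have h2 : ∀ i : ℕ, ((β : MulAut ↥(W ⊔ Q)) ^ i) (Subgroup.inclusion le_sup_left w) =
        Subgroup.inclusion le_sup_left ((x ^ i) w) := by
      intro i
      induction i with
      | zero => rfl
      | succ i ih => rw [pow_succ', MulAut.mul_apply, ih, h1, pow_succ', MulAut.mul_apply]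
    rw [hγdef, h2, hk x hm]
  have hγQ : ∀ w : ↥(W ⊔ Q), (w : Ω) ∈ Q → ((γ w : _) : Ω) ∈ Q := fun w hw =>
    StronglyClosed.apply_mem (IsNormal.stronglyClosed hQn) hγh hw
  have hγU : ∀ w : ↥(W ⊔ Q), (w : Ω) ∈ U → ((γ w : _) : Ω) ∈ U := fun w hw =>
    StronglyClosed.apply_mem hU hγh hw
  have hPW : P ≤ W := le_sup_left
  have hγP : ∀ y : P, ((γ (Subgroup.inclusion le_sup_left (Subgroup.inclusion hPW y)) : _) : Ω) =
      ((a y : P) : Ω) := fun y => by
    rw [hγW]
    exact hxa y y.2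
  -- `Q` normalizes `P`
  have hQN : ∀ q ∈ Q, q ∈ Subgroup.normalizer (P : Set Ω) := by
    intro q hq
    rw [Subgroup.mem_normalizer_iff_map_conj_eq]
    have := finite_le hPS
    refine Subgroup.eq_of_le_of_card_ge ?_ (card_conjOf q P).ge
    rintro _ ⟨y, hy, rfl⟩
    have h1 : q * y * q⁻¹ * y⁻¹ ∈ Q ⊓ U := by
      refine ⟨?_, ?_⟩
      · have := Q.mul_mem hq (conj_mem_of_mem_normalizer (IsNormal.normal_in hQn (hPS hy))
          (Q.inv_mem hq))
        simpa [mul_assoc] using this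
      · exact U.mul_mem (conj_mem_of_mem_normalizer
          (StronglyClosed.normal_in hU (hQS hq)) (hPU hy)) (U.inv_mem (hPU hy))
    have := P.mul_mem (hRP h1) hy
    rwa [inv_mul_cancel_right] at this
  -- inner automorphisms from `Q` lying in the subsystem come from `U`
  have hinn : autInducedBy Q P ⊓ E.autGroup P ≤ autInducedBy U P := by
    have := finite_mulAut_of_le (S := S) hPS
    set A := E.autGroup P with hA
    have hKn : ((autInducedBy Q P).subgroupOf A).Normal := by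
      refine ⟨fun b hb g => ?_⟩
      obtain ⟨q, hq, hqv⟩ := mem_autInducedBy_iff.1 (Subgroup.mem_subgroupOf.1 hb)
      obtain ⟨η, hη, hηP, hηQ⟩ := hQn.2 P _ (hEi.1 P ((mem_autGroup_iff hPU).1 g.2))
      refine Subgroup.mem_subgroupOf.2 (mem_autInducedBy_iff.2
        ⟨η ⟨q, Subgroup.mem_sup_right hq⟩, hηQ.le ⟨_, hq, rfl⟩, fun y => ?_⟩)
      obtain ⟨z, rfl⟩ := (g : MulAut P).surjective y
      have e1 : ((g * b * g⁻¹ : A) : MulAut P) ((g : MulAut P) z) =
          (g : MulAut P) ((b : MulAut P) z) := by simp [MulAut.mul_apply]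
      have e2 := hηP ((b : MulAut P) z)
      have e3 : Subgroup.inclusion (le_sup_left (b := Q)) ((b : MulAut P) z) =
          ⟨q, Subgroup.mem_sup_right hq⟩ * Subgroup.inclusion le_sup_left z *
            (⟨q, Subgroup.mem_sup_right hq⟩ : ↥(P ⊔ Q))⁻¹ := Subtype.ext (hqv z)
      rw [e1]
      refine e2.symm.trans ?_
      rw [e3, map_mul, map_mul, map_inv, hηP]
      rfl
    have hKp : IsPGroup p ((autInducedBy Q P).subgroupOf A) :=
      ((isPGroup_autInducedBy (P := P) (hS.to_le hQS)).to_le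
        (inf_le_left : autInducedBy Q P ⊓ A ≤ _)).of_equiv
        ((Subgroup.subgroupOfEquivOfLe (inf_le_right : autInducedBy Q P ⊓ A ≤ A)).symm.trans
          (MulEquiv.subgroupCongr (Subgroup.inf_subgroupOf_right _ _)))
    obtain ⟨R, hR⟩ := (IsSaturated.fullyAutomized hUp hEs
      (fullyNormalized_of_ambient hS hF hU hEi.1 hP hPU)).2
    intro b hb
    have h1 := (Core.le_pCore hKp).trans (Core.pCore_le_sylow R)
      (show (⟨b, hb.2⟩ : A) ∈ (autInducedBy Q P).subgroupOf A from hb.1)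
    rw [hR] at h1
    exact h1
  let N : Subgroup ↥(W ⊔ Q) := U.subgroupOf (W ⊔ Q)
  have hNn : N.Normal := ⟨fun u hu g => Subgroup.mem_subgroupOf.2
    (by
      have := conj_mem_of_mem_normalizer (StronglyClosed.normal_in hU (hMS g.2))
        (Subgroup.mem_subgroupOf.1 hu)
      simpa using this)⟩
  have hdisp : ∀ q : ↥(W ⊔ Q), (q : Ω) ∈ Q → ((q⁻¹ * γ q : _) : Ω) ∈ U := by
    intro q hq
    set w : ↥(W ⊔ Q) := q⁻¹ * γ q with hw
    have hwQ : (w : Ω) ∈ Q := Q.mul_mem (Q.inv_mem hq) (hγQ q hq)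
    -- the automorphism induced by `w`
    set cq : MulAut P := conjAut (S := S) ⟨(q : Ω), hQS hq, hQN _ hq⟩ with hcq
    set cw : MulAut P := conjAut (S := S) ⟨(w : Ω), hQS hwQ, hQN _ hwQ⟩ with hcw
    have hcqE : cq⁻¹ * a * cq ∈ E.autGroup P := by
      have h1 : IsoIn F ((cq⁻¹ : MulAut P) : P ≃* P) := (mem_autGroup_iff_isoIn hPS).1
        (inv_mem (autInducedBy_le_autGroup hPS (conjAut_mem _)))
      have h2 := invariant_congr hEi hPU h1 ha
      refine Eq.mp (congrArg (· ∈ E.autGroup P) ?_) h2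
      refine MulEquiv.ext fun y => ?_
      rfl
    have hcwv : cw = cq⁻¹ * a * cq * a⁻¹ := by
      refine MulEquiv.ext fun y => ?_
      obtain ⟨z, rfl⟩ := a.surjective y
      apply cq.injective
      apply Subtype.ext
      simp only [MulAut.mul_apply, MulAut.inv_apply_self, MulAut.apply_inv_self]
      rw [← hγP (cq z), hcq, hcw]
      simp only [conjAut_apply]
      rw [← hγP z]
      have e : Subgroup.inclusion (le_sup_left (b := Q))
          (Subgroup.inclusion hPW (conjAut (S := S) ⟨(q : Ω), hQS hq, hQN _ hq⟩ z)) =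
          q * Subgroup.inclusion le_sup_left (Subgroup.inclusion hPW z) * q⁻¹ := Subtype.ext rfl
      rw [e, map_mul, map_mul, map_inv, hw]
      simp only [Subgroup.coe_mul, Subgroup.coe_inv]
      group
    obtain ⟨t, htU, htv⟩ := mem_autInducedBy_iff.1 (hinn (show cw ∈ autInducedBy Q P ⊓ E.autGroup P
      from ⟨mem_autInducedBy_iff.2 ⟨w, hwQ, fun y => rfl⟩,
        hcwv ▸ mul_mem hcqE (Subgroup.inv_mem _ ha)⟩))
    have hc : t⁻¹ * (w : Ω) ∈ centralizerIn S P := by
      refine mem_centralizerIn.2 ⟨S.mul_mem (S.inv_mem (hUS htU)) (hMS w.2), fun y hy => ?_⟩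
      have h1 : (w : Ω) * y * (w : Ω)⁻¹ = t * y * t⁻¹ := htv ⟨y, hy⟩
      calc y * (t⁻¹ * (w : Ω)) = t⁻¹ * (t * y * t⁻¹) * (w : Ω) := by group
        _ = t⁻¹ * (w : Ω) * y := by rw [← h1]; group
    set c : ↥(W ⊔ Q) := ⟨_, Subgroup.mem_sup_left (Subgroup.mem_sup_right hc)⟩ with hcdef
    set t' : ↥(W ⊔ Q) := w * c⁻¹ with ht'
    have ht'U : (t' : Ω) ∈ U := by
      rw [ht', hcdef]
      show (w : Ω) * (t⁻¹ * (w : Ω))⁻¹ ∈ U
      rw [mul_inv_rev, mul_inv_cancel_left, inv_inv]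
      exact htU
    let π := QuotientGroup.mk' N
    have hπ : ∀ u : ↥(W ⊔ Q), (u : Ω) ∈ U → π u = 1 := fun u hu =>
      (QuotientGroup.eq_one_iff u).2 (Subgroup.mem_subgroupOf.2 hu)
    have hπc : π (γ c) = π c := by
      let cW : W := ⟨_, Subgroup.mem_sup_right hc⟩
      have h1 : ((cW⁻¹ * x cW : W) : Ω) ∈ U := hPU (hx.2.2 cW hc)
      have h2 : γ c = c * Subgroup.inclusion le_sup_left (cW⁻¹ * x cW) := by
        rw [show c = Subgroup.inclusion le_sup_left cW from rfl, hγW, ← map_mul,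
          mul_inv_cancel_left]
      rw [h2, map_mul, hπ (Subgroup.inclusion le_sup_left (cW⁻¹ * x cW)) h1, mul_one]
    have hπw : π (γ w) = π w := by
      have h3 : t' * c = w := inv_mul_cancel_right w c
      calc π (γ w) = π (γ t') * π (γ c) := by rw [← map_mul, ← map_mul, h3]
        _ = π t' * π c := by rw [hπ _ (hγU _ ht'U), hπ _ ht'U, hπc]
        _ = π w := by rw [← map_mul, h3]
    have hit : ∀ i : ℕ, π ((γ ^ i) q) = π q * π w ^ i := by
      intro i
      induction i with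
      | zero => simp
      | succ i ih =>
        set u := (q * w ^ i)⁻¹ * (γ ^ i) q with hu
        have hu1 : (u : Ω) ∈ U := by
          refine Subgroup.mem_subgroupOf.1 ((QuotientGroup.eq_one_iff u).1 ?_)
          show π u = 1
          rw [hu, map_mul, map_inv, map_mul, map_pow, ih, inv_mul_cancel]
        rw [pow_succ', MulAut.mul_apply, show (γ ^ i) q = q * w ^ i * u by
          rw [hu, mul_inv_cancel_left]]
        have h5 : γ q = q * w := by rw [hw, mul_inv_cancel_left]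
        calc π (γ (q * w ^ i * u)) = π (γ q) * π (γ w) ^ i * π (γ u) := by
              simp only [map_mul, map_pow]
          _ = π q * π w ^ (i + 1) := by
              rw [hπ _ (hγU _ hu1), mul_one, hπw, h5, map_mul, pow_succ', mul_assoc]
    have h1 := hit (orderOf γ)
    rw [pow_orderOf_eq_one, MulAut.one_apply, left_eq_mul] at h1
    obtain ⟨j, hj⟩ := (hS.to_le hMS) w
    refine Subgroup.mem_subgroupOf.1 ((QuotientGroup.eq_one_iff w).1
      (eq_one_of_coprime_pow (p := p) (a := j)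
        (hkc.coprime_dvd_left (orderOf_dvd_of_pow_eq_one h1)) ?_))
    show π w ^ p ^ j = 1
    rw [← map_pow, hj, map_one]
  refine ⟨_, restrict_mem hγh (sup_le_sup_right hPW Q), fun y => hγP y, fun q => hγQ _ q.2,
    fun q => ?_⟩
  exact hdisp (Subgroup.inclusion le_sup_right q) q.2

/-- All automorphisms of `E` at centric subgroups containing `Q ∩ U` move `Q` inside `U`. -/
theorem autGroup_le_disp (hS : IsPGroup p S) (hE : E.IsNormalIn F p) (hQn : F.IsNormal Q) :
    ∀ (P : Subgroup Ω), TCentric F U P → Q ⊓ U ≤ P →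
      E.autGroup P ≤ (dispSystem hE.1.2.2.2.1 hQn hE.1.2.2.1).autGroup P := by
  have hE' := hE
  obtain ⟨⟨hEs, hF, hEi⟩, hext⟩ := hE'
  have hU := hEi.2.1
  have hUS := hU.1
  have hsub := hEi.1
  have := finite_le hUS
  have hUp : IsPGroup p U := hS.to_le hUS
  have hR : F.StronglyClosed (Q ⊓ U) :=
    ⟨inf_le_right.trans hUS, fun P hP φ hφ x =>
      ⟨(IsNormal.stronglyClosed hQn).2 P (hP.trans inf_le_left) φ hφ x,
        hU.2 P (hP.trans inf_le_right) φ hφ x⟩⟩
  suffices ∀ (n : ℕ) (P : Subgroup Ω), Nat.card U - Nat.card P ≤ n → TCentric F U P → Q ⊓ U ≤ P →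
      E.autGroup P ≤ (dispSystem hU hQn hsub).autGroup P from fun P => this _ P le_rfl
  intro n
  induction n using Nat.strong_induction_on with
  | _ n ih =>
    intro P₀ hn hP₀ hR₀ a₀ ha₀
    obtain ⟨P, hconj, hP⟩ := exists_fullyNormalized (F := F) (hP₀.1.trans hUS)
    obtain ⟨e, he⟩ := isConj_iff.1 hconj
    have hPc := hP₀.conj hU hconj
    have hPU := hPc.1
    have hRP : Q ⊓ U ≤ P := by
      intro y hy
      have := finite_le hR.1
      obtain ⟨z, hz⟩ := Finite.surjective_of_injective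
        (f := fun z : ↥(Q ⊓ U) => (⟨e (Subgroup.inclusion hR₀ z),
          StronglyClosed.apply_mem hR he.mem (x := Subgroup.inclusion hR₀ z) z.2⟩ : ↥(Q ⊓ U)))
        (fun z w h => Subgroup.inclusion_injective hR₀ (e.injective (Subtype.ext
          (congrArg Subtype.val h :)))) ⟨y, hy⟩
      have h2 : ((e (Subgroup.inclusion hR₀ z) : P) : Ω) = y := congrArg Subtype.val hz
      exact h2 ▸ (e (Subgroup.inclusion hR₀ z)).2
    refine disp_congr hU hQn hsub hP₀.1 he ha₀ ?_
    have ha := invariant_congr hEi hP₀.1 he ha₀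
    generalize MulAut.congr e a₀ = a at ha ⊢
    have hcard : Nat.card P = Nat.card P₀ := (isConj_card hconj).symm
    have hRc : centralizerIn U P ≤ P := hPc.2 P (isConj_refl hP.1)
    have := finite_le hP.1
    have := finite_mulAut_of_le (S := S) hP.1
    have hPfn := fullyNormalized_of_ambient hS hF hU hsub hP hPU
    have hsyl := (IsSaturated.fullyAutomized hUp hEs hPfn).2
    have hPI : autInducedBy U P ≤ E.autGroup P := autInducedBy_le_autGroup hPU
    have hPL : autInducedBy U P ≤ liftGroup F E hP.1 := by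
      intro b hb
      obtain ⟨t, ht, htv⟩ := mem_autInducedBy_iff.1 hb
      obtain ⟨x, hx, hxv⟩ := trivAut_conjAut hU hPU hRc ⟨ht, mem_normalizer_of_conj_eq b htv⟩
      exact ⟨hPI hb, x, hx, fun r hr => (hxv r hr).trans (htv ⟨r, hr⟩).symm⟩
    have hL : liftGroup F E hP.1 ≤ (dispSystem hU hQn hsub).autGroup P := by
      refine le_of_sylow_of_coprime (IsSylowIn.of_le hsyl hPI (fun b hb => hb.1) hPL)
        (autInducedBy_le_autGroup hPU) ?_
      rintro b ⟨hbE, hbl⟩ ⟨m, hm, hmc⟩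
      exact (mem_autGroup_iff hPU).2 ⟨(mem_autGroup_iff hPU).1 hbE,
        disp_of_liftable hS hE hQn hPU hP hRP hbE hbl hm hmc⟩
    rcases eq_or_lt_of_le hPU with hPU' | hlt
    · subst hPU'
      obtain ⟨β, hβ, hβv, hβz⟩ := hext a ha
      exact hL ⟨ha, β, ⟨hβ, fun r hr => (hβv ⟨r, hr⟩).symm ▸ (a ⟨r, hr⟩).2,
        fun c hc => (hβz c hc).1⟩, fun r hr => hβv ⟨r, hr⟩⟩
    have hXL : (autInducedBy U P).map (MulAut.conj a).toMonoidHom ≤ liftGroup F E hP.1 := by
      rintro _ ⟨b, hb, rfl⟩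
      have hb' : a * b * a⁻¹ ∈ E.autGroup P := mul_mem (mul_mem ha (hPI hb)) (inv_mem ha)
      refine ⟨hb', liftable_of_pPower hS hF hEs hEi hPU hP hRc hb' ?_⟩
      obtain ⟨k, hk⟩ := isPGroup_autInducedBy (P := P) hUp ⟨b, hb⟩
      refine ⟨k, ?_⟩
      show (MulAut.conj a b) ^ p ^ k = 1
      rw [← map_pow, show b ^ p ^ k = 1 from congrArg Subtype.val hk, map_one]
    obtain ⟨k, hk, hkv⟩ := (IsSylowIn.of_le hsyl hPI (fun b hb =>
      (show b ∈ E.autGroup P ∧ Liftable F P b from hb).1) hPL).exists_conj_mem hXL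
      ((isPGroup_autInducedBy (P := P) hUp).map _)
    have hka : k * a ∈ E.autGroup P := mul_mem hk.1 ha
    have hnorm : ∀ b ∈ autInducedBy U P, k * a * b * (k * a)⁻¹ ∈ autInducedBy U P := by
      intro b hb
      have := hkv _ (Subgroup.mem_map_of_mem _ hb)
      simp only [MulEquiv.coe_toMonoidHom, MulAut.conj_apply] at this
      rwa [show k * a * b * (k * a)⁻¹ = k * (a * b * a⁻¹) * k⁻¹ by group]
    have hie : IsoIn E ((k * a : MulAut P) : P ≃* P) := (mem_autGroup_iff_isoIn hPU).1 hka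
    have hQ : normalizerIn U P ≤ extender U P (isoHom ((k * a : MulAut P) : P ≃* P)) := by
      intro t ht
      obtain ⟨h, hh, hhv⟩ := mem_autInducedBy_iff.1 (hnorm _ (conjAut_mem ⟨t, ht⟩))
      refine mem_extender_iff.2 ⟨ht.1, ht.2, h, hh, fun x hx => ?_⟩
      have h1 := hhv ((k * a) x)
      rw [← MulAut.mul_apply, inv_mul_cancel_right, MulAut.mul_apply] at h1
      exact h1
    set N := normalizerIn U P with hNdef
    obtain ⟨φ, hφ, hφv⟩ := exists_extension
      (IsSaturated.receptive hUp hEs (IsSaturated.fullyCentralized hUp hEs hPfn)) hie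
      (le_normalizerIn hPU) hQ
    have hNU : N ≤ U := normalizerIn_le P
    have := finite_le hNU
    have hrange : φ.range = N := Subgroup.eq_of_le_of_card_ge
      (by rintro _ ⟨g, rfl⟩; exact extension_mem_normalizerIn hφ _ inf_le_right hφv g)
      (le_of_eq (Nat.card_congr (MonoidHom.ofInjective (E.injective_of_mem hφ)).toEquiv))
    obtain ⟨α, hα, hαv⟩ := exists_iso hφ hrange
    have hlt' := lt_normalizerIn hUp hlt
    have hcardN : Nat.card P < Nat.card N := by
      refine lt_of_le_of_ne (Subgroup.card_le_of_le hlt'.le) fun h => hlt'.ne ?_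
      exact Subgroup.eq_of_le_of_card_ge hlt'.le h.ge
    have hNle := Subgroup.card_le_of_le hNU
    have hαD := ih _ (by omega : Nat.card U - Nat.card N < n) N le_rfl
      (hPc.mono hlt'.le hNU) (hRP.trans hlt'.le) ((mem_autGroup_iff_isoIn hNU).2 hα)
    have hkaD : k * a ∈ (dispSystem hU hQn hsub).autGroup P := by
      refine (mem_autGroup_iff hPU).2 (restrict_mem' ((mem_autGroup_iff hNU).1 hαD) hlt'.le
        fun y => ?_)
      exact ((hφv y).symm.trans (hαv _).symm :)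
    have := Subgroup.mul_mem _ (Subgroup.inv_mem _ (hL hk)) hkaD
    rwa [inv_mul_cancel_left] at this

/-- Every map of a normal subsystem extends over a normal subgroup moving it inside the group of the
subsystem. -/
theorem disp_of_normal (hS : IsPGroup p S) (hE : E.IsNormalIn F p) (hQn : F.IsNormal Q)
    {P : Subgroup Ω} {φ : P →* Ω} (hφ : φ ∈ E.Hom P) : Disp F U Q P φ := by
  have hE' := hE
  obtain ⟨⟨hEs, hF, hEi⟩, -⟩ := hE'
  have hU := hEi.2.1
  have := finite_le hU.1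
  have hUp : IsPGroup p U := hS.to_le hU.1
  have hR := isNormal_inf_of_subsystem hS hU hEs hEi.1 hQn
  refine ((alperin hUp hEs (dispSystem hU hQn hEi.1) fun P hP => ?_) P hφ).2
  rcases hP with rfl | hP
  · exact autGroup_le_disp hS hE hQn _ (tCentric_of_centric hEi isCentric_self) inf_le_right
  · exact autGroup_le_disp hS hE hQn _ (tCentric_of_centric hEi hP.1)
      (IsNormal.le_centric_radical hUp hR hP.1 (IsEssential.isRadical hUp hP))

end CfsgLib.Fusion
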