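import Cfsg.Agent.Lib.Fusion.Hyperfocal
import Cfsg.Agent.Lib.Fusion.Alperin

/-!
Uniqueness of subsystems of `p`-power index.
-/

set_option autoImplicit false

namespace CfsgLib.Fusion

open Cfsg Cfsg.FusionSystem

variable {Ω : Type*} [Group Ω] {S : Subgroup Ω} {F : FusionSystem S} {p : ℕ}

/-- A saturated subsystem over `T` lies in every subsystem over `T` containing the `p`-residual of
the automorphism groups. -/
theorem subsystem_le_of_residual [Fact p.Prime] [Finite S] (hS : IsPGroup p S) {T : Subgroup Ω}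
    (hTS : T ≤ S) {E E' : FusionSystem T} (hE : E.IsSaturated p) (hsub : E.IsSubsystemOf F)
    (hres : ∀ P : Subgroup Ω, P ≤ T →
      (pResidual p (F.autGroup P)).map (F.autGroup P).subtype ≤ E'.autGroup P) :
    E ≤ E' := by
  have := finite_le hTS
  refine alperin (hS.to_le hTS) hE E' fun P hP α hα => ?_
  have hPn : E.IsFullyNormalized P := by
    rcases hP with rfl | h
    · exact isFullyNormalized_self
    · exact h.2.1
  have hPT := hPn.1
  have := finite_mulAut_of_le (S := T) hPT
  obtain ⟨R, hR⟩ := (IsSaturated.fullyAutomized (hS.to_le hTS) hE hPn).2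
  obtain ⟨a, ha, k, hk, hak⟩ := Transfer.exists_mul_mem_pResidual R (⟨α, hα⟩ : E.autGroup P)
  rw [hR] at ha
  have hle : E.autGroup P ≤ F.autGroup P := fun β hβ =>
    (mem_autGroup_iff (hPT.trans hTS)).2 (hsub P ((mem_autGroup_iff hPT).1 hβ))
  have hk' : (k : MulAut P) ∈ E'.autGroup P :=
    hres P hPT ⟨Subgroup.inclusion hle k, Transfer.map_pResidual_le _ ⟨k, hk, rfl⟩, rfl⟩
  have he : (α : MulAut P) = (a : MulAut P) * (k : MulAut P) := congrArg Subtype.val hak
  rw [he]
  exact mul_mem (autInducedBy_le_autGroup hPT (Subgroup.mem_subgroupOf.1 ha)) hk'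

/-- Saturated subsystems of `p`-power index over the same subgroup have the same maps. -/
theorem hom_eq_of_pPowerIndex [Fact p.Prime] [Finite S] (hS : IsPGroup p S) {T T' : Subgroup Ω}
    (hT : T = T') (hTS : T ≤ S) {E : FusionSystem T} {E' : FusionSystem T'}
    (hE : E.IsSaturated p) (hE' : E'.IsSaturated p) (hi : E.HasPPowerIndexIn F p)
    (hi' : E'.HasPPowerIndexIn F p) (P : Subgroup Ω) : E.Hom P = E'.Hom P := by
  subst hT
  exact Set.Subset.antisymm (subsystem_le_of_residual hS hTS hE hi.1 hi'.2.2 P)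
    (subsystem_le_of_residual hS hTS hE' hi'.1 hi.2.2 P)

/-- The system of `O^p(G)` has `p`-power index. -/
theorem pPowerIndex_pResidual {G : Type*} [Group G] [Finite G] [Fact p.Prime] (S : Sylow p G) :
    (fusionSystemOfSubgroup (pResidual p G) ((S : Subgroup G) ⊓ pResidual p G)
      inf_le_right).HasPPowerIndexIn (groupFusionSystem (S : Subgroup G)) p := by
  refine ⟨?_, (hyperfocal_group S).le, fun P hP => ?_⟩
  · rintro P φ ⟨hP, hφ, g, -, hg⟩
    exact ⟨hP.trans inf_le_left, fun x => (hφ x).1, g, hg⟩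
  have hPS : P ≤ (S : Subgroup G) := hP.trans inf_le_left
  let h : Subgroup.normalizer (P : Set G) →* (groupFusionSystem (S : Subgroup G)).autGroup P :=
    P.normalizerMonoidHom.codRestrict _ fun n => by
      rw [groupFusion_autGroup hPS]
      exact mem_autInducedBy_iff.2 ⟨n, trivial, fun _ => rfl⟩
  have hsurj : Function.Surjective h := fun β => by
    obtain ⟨n, -, hn⟩ := mem_autInducedBy_iff.1 ((groupFusion_autGroup hPS).le β.2)
    exact ⟨⟨n, mem_normalizer_of_conj_eq (β : MulAut P) hn⟩,
      Subtype.ext (MulEquiv.ext fun y => Subtype.ext (hn y).symm)⟩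
  rintro _ ⟨α, hα, rfl⟩
  rw [← Transfer.map_pResidual_of_surjective h hsurj] at hα
  obtain ⟨k, hk, rfl⟩ := hα
  refine (mem_autGroup_iff hP).2 ⟨hP, fun x => hP (P.normalizerMonoidHom k x).2, k,
    Transfer.map_subtype_pResidual_le _ ⟨k, hk, rfl⟩, fun x => rfl⟩

end CfsgLib.Fusion
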