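import Cfsg.Agent.Lib.Fusion.ComponentExists
import Cfsg.Agent.Lib.Fusion.NormalDisplace
import Cfsg.Agent.Lib.Fusion.PPowerUnique

/-!
# Components centralize normal subgroups
-/

set_option autoImplicit false

namespace CfsgLib.Fusion

open Cfsg Cfsg.FusionSystem

variable {Ω : Type*} [Group Ω] {S : Subgroup Ω} {F : FusionSystem S} {p : ℕ}

/-- The centralizer system of a normal subgroup is normal. -/
theorem centSystem_isNormalIn [Fact p.Prime] [Finite S] (hS : IsPGroup p S) (hF : F.IsSaturated p)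
    {Q : Subgroup Ω} (hQ : F.IsNormal Q) : (centSystem F Q hQ.1).IsNormalIn F p := by
  have h := exists_centralizer_normal_pPower hS (inner_isNormalIn_of_normal hS hF hQ)
  rw [centOf_inner hS hF hQ] at h
  obtain ⟨D, ⟨hDn, -⟩, hDi⟩ := h
  have hCS := centralizerIn_le (S := S) Q
  have := finite_le hCS
  have hCp : IsPGroup p (centralizerIn S Q) := hS.to_le hCS
  have hQfc := IsSaturated.fullyCentralized hS hF
    (fullyNormalized_closed (IsNormal.stronglyClosed hQ))
  have hDC : centSystem F Q hQ.1 = D := by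
    refine fusionSystem_ext fun P => ?_
    refine hom_eq_of_pPowerIndex (F := centSystem F Q hQ.1) hCp rfl le_rfl
      (centralizerSystem_saturated hS hF hQfc (centSystem_isCentralizerSystem F Q hQ.1)) hDn.1.1
      ⟨fun P => subset_rfl, hyperfocal_le, fun R _ => ?_⟩ hDi P
    exact Subgroup.map_subtype_le _
  rw [hDC]
  exact hDn

/-- A quasisimple system centralizes its normal subgroups. -/
theorem le_center_of_quasisimple [Fact p.Prime] [Finite S] (hS : IsPGroup p S)
    (hq : F.Quasisimple p) {Q : Subgroup Ω} (hQ : F.IsNormal Q) : Q ≤ F.center := by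
  have hq' := hq
  obtain ⟨hF, hyp, hfac⟩ := hq'
  set q := QuotientGroup.mk' (F.center.subgroupOf S) with hqdef
  have hθ : ∀ s : S, q s = 1 ↔ (s : Ω) ∈ F.center := fun s => QuotientGroup.eq_one_iff s
  have hr : q.range = ⊤ := MonoidHom.range_eq_top.2 (QuotientGroup.mk'_surjective _)
  have hZ : F.IsCentral F.center := center_isCentral
  have hZn := isCentral_isNormal hZ
  have hsc := IsNormal.stronglyClosed hZn
  set E := factorSystem F hsc q hθ hr
  have hE : F.IsFactorSystem F.center q E := ⟨hsc.1, hθ, hr, fun _ _ => Iff.rfl⟩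
  obtain ⟨hEs, -, hsimple⟩ := hfac E hE
  have hQn := isNormal_imageAlong hS hF hsc hE hQ
  have hT : IsPGroup p (⊤ : Subgroup (S ⧸ F.center.subgroupOf S)) :=
    (hS.to_quotient _).to_subgroup ⊤
  rcases hsimple _ _ (inner_isNormalIn_of_normal hT hEs hQn) with h | ⟨h, heq⟩
  · intro x hx
    refine (hθ ⟨x, hQ.1 hx⟩).1 (Subgroup.mem_bot.1 (h.le ?_))
    exact ⟨⟨x, hQ.1 hx⟩, hx, rfl⟩
  · refine absurd ⟨hF, S, ?_, isCentric_self⟩ (not_isConstrained_of_quasisimple hS hq)
    have hinn : E = innerFusionSystem ⊤ := fusionSystem_ext fun P => by rw [← heq P, h]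
    refine isNormal_self_of_eq_inner (inner_of_factor_inner hS hF hZn (fun R _ hR b hb =>
      ⟨1, S.one_mem, fun x hx => ?_⟩) hE hinn)
    have h1 : ((b x : R) : Ω) = x := ((isCentral_iff hS hF).1 hZ).2 _ hx _
      (isConjElt_of_hom ((mem_autGroup_iff hR).1 hb) x)
    simp [h1]

/-- A quasisimple system inside `E ⊴ F` fixing `Q ∩ U` is in the centralizer of the normal `Q`. -/
theorem centralizerHom_of_normal_step [Fact p.Prime] [Finite S] (hS : IsPGroup p S)
    {U T : Subgroup Ω} {E : FusionSystem U} {C : FusionSystem T} (hE : E.IsNormalIn F p)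
    (hC : C.Quasisimple p) {Q : Subgroup Ω} (hQ : F.IsNormal Q)
    (hCE : ∀ P : Subgroup Ω, C.Hom P ⊆ E.centralizerHom (Q ⊓ U) P) :
    ∀ P : Subgroup Ω, C.Hom P ⊆ F.centralizerHom Q P := by
  have hU := hE.1.2.2.2.1
  have hsub := hE.1.2.2.1
  have hTU : T ≤ U := hom_le (hCE T (incl_mem le_rfl)).1
  have hTS : T ≤ S := hTU.trans hU.1
  have := finite_le hTS
  have hTp : IsPGroup p T := hS.to_le hTS
  obtain ⟨hCs, hyp, -⟩ := hC
  -- automorphisms of order prime to `p` extend fixing `Q`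
  have key : ∀ (P : Subgroup Ω), P ≤ T → ∀ a ∈ C.autGroup P, (orderOf a).Coprime p →
      ∃ ψ ∈ F.Hom (P ⊔ Q), (∀ x : P, ψ (Subgroup.inclusion le_sup_left x) = (a x : Ω)) ∧
        ∀ q : Q, ψ (Subgroup.inclusion le_sup_right q) = q := by
    intro P hP a ha hcop
    obtain ⟨-, -, -, b, hb, hbP, hbR⟩ := hCE P ((mem_autGroup_iff hP).1 ha)
    set M := P ⊔ (Q ⊓ U) ⊔ Q with hMdef
    obtain ⟨ψ, hψ, hψb, hψQ, hψd⟩ := disp_of_normal hS hE hQ hb
    have hMS : M ≤ S := hom_le hψ
    have hr : ψ.range = M := by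
      have := finite_le hMS
      refine Subgroup.eq_of_le_of_card_ge (range_le_of_gens (fun w => ?_) fun q =>
        Subgroup.mem_sup_right (hψQ q))
        (le_of_eq (Nat.card_congr (MonoidHom.ofInjective (F.injective_of_mem hψ)).toEquiv))
      rw [hψb]
      exact Subgroup.mem_sup_left (range_le_of_gens (ψ := b)
        (fun x => by rw [hbP]; exact Subgroup.mem_sup_left (a x).2)
        (fun r => by rw [hbR]; exact Subgroup.mem_sup_right r.2) ⟨w, rfl⟩)
    obtain ⟨β, hβ, hβv⟩ := exists_iso hψ hr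
    have := finite_le hMS
    have : Finite (MulAut M) := finite_mulAut_of_le hMS
    obtain ⟨n, hn, hcopn⟩ := exists_coprime_pow (p := p) (β : MulAut M) (orderOf_pos _) hcop
    set γ : MulAut M := (β : MulAut M) ^ n with hγdef
    have hγF : γ ∈ F.autGroup M := pow_mem ((mem_autGroup_iff_isoIn hMS).2 hβ) n
    have hPM : P ≤ M := le_sup_left.trans le_sup_left
    have hRM : Q ⊓ U ≤ M := le_sup_right.trans le_sup_left
    have hβP : ∀ x : P, (β : MulAut M) (Subgroup.inclusion hPM x) =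
        Subgroup.inclusion hPM (a x) := fun x => Subtype.ext
      ((hβv _).trans ((hψb (Subgroup.inclusion le_sup_left x)).trans (hbP x)))
    have hβR : ∀ r : ↥(Q ⊓ U), (β : MulAut M) (Subgroup.inclusion hRM r) =
        Subgroup.inclusion hRM r := fun r => Subtype.ext
      ((hβv _).trans ((hψb (Subgroup.inclusion le_sup_right r)).trans (hbR r)))
    have hpP : ∀ (i : ℕ) (x : P), ((β : MulAut M) ^ i) (Subgroup.inclusion hPM x) =
        Subgroup.inclusion hPM ((a ^ i) x) := by
      intro i x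
      induction i with
      | zero => rfl
      | succ i ih => rw [pow_succ', MulAut.mul_apply, ih, hβP, pow_succ', MulAut.mul_apply]
    have hpQ : ∀ (i : ℕ) (w : M), (w : Ω) ∈ Q →
        ∃ r : ↥(Q ⊓ U), ((β : MulAut M) ^ i) w = w * Subgroup.inclusion hRM r := by
      intro i
      induction i with
      | zero => exact fun w _ => ⟨1, by simp⟩
      | succ i ih =>
        intro w hw
        obtain ⟨r, hr'⟩ := ih w hw
        obtain ⟨r', hr''⟩ : ∃ r' : ↥(Q ⊓ U), (β : MulAut M) w = w * Subgroup.inclusion hRM r' := by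
          refine ⟨⟨(w : Ω)⁻¹ * ψ w, Q.mul_mem (Q.inv_mem hw) (hψQ ⟨w, hw⟩), hψd ⟨w, hw⟩⟩,
            Subtype.ext ?_⟩
          show ((β w : M) : Ω) = w * ((w : Ω)⁻¹ * ψ w)
          rw [mul_inv_cancel_left]
          exact hβv w
        refine ⟨r' * r, ?_⟩
        rw [pow_succ', MulAut.mul_apply, hr', map_mul, hr'', hβR, map_mul, mul_assoc]
    refine ⟨_, restrict_mem ((mem_autGroup_iff hMS).1 hγF) (sup_le_sup_right le_sup_left Q),
      fun x => ?_, fun q => ?_⟩
    · show ((γ (Subgroup.inclusion hPM x) : M) : Ω) = _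
      rw [hγdef, hpP, hn a (pow_orderOf_eq_one a)]
      rfl
    · set w : M := Subgroup.inclusion le_sup_right q with hw
      obtain ⟨r, hr'⟩ := hpQ n w q.2
      have hfixR : γ (Subgroup.inclusion hRM r) = Subgroup.inclusion hRM r := by
        rw [hγdef]
        clear hn hcopn hγdef hγF hr'
        induction n with
        | zero => rfl
        | succ n ih => rw [pow_succ, MulAut.mul_apply, hβR, ih]
      have h1 := eq_one_of_shift_fixed hS hMS ⟨_, pow_orderOf_eq_one γ, hcopn⟩
        (w := w) (u := Subgroup.inclusion hRM r) hr' hfixR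
      show ((γ w : M) : Ω) = q
      rw [hγdef, hr', h1, mul_one]
      rfl
  -- `T` centralizes `Q`
  have hTQ : T ≤ centralizerIn S Q := by
    refine hyp.ge.trans (hyperfocal_le_of_coprime fun P a hP ha hcop x => ?_)
    obtain ⟨ψ, hψ, hψP, hψQ⟩ := key P hP a ha hcop
    have hPS : P ≤ S := hP.trans hTS
    refine mem_centralizerIn.2 ⟨S.mul_mem (S.inv_mem (hPS x.2)) (hPS (a x).2), fun q hq => ?_⟩
    obtain ⟨-, -, -, b, -, hbP, hbR⟩ := hCE P ((mem_autGroup_iff hP).1 ha)
    have hr : (x : Ω) * q * (x : Ω)⁻¹ * q⁻¹ ∈ Q ⊓ U := by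
      refine ⟨Q.mul_mem (conj_mem_of_mem_normalizer (IsNormal.normal_in hQ (hPS x.2)) hq)
        (Q.inv_mem hq), ?_⟩
      have h1 := conj_mem_of_mem_normalizer (StronglyClosed.normal_in hU (hQ.1 hq))
        (U.inv_mem (hTU (hP x.2)))
      simpa [mul_assoc] using U.mul_mem (hTU (hP x.2)) h1
    set w₁ : ↥(P ⊔ Q) := Subgroup.inclusion le_sup_left x
    set w₂ : ↥(P ⊔ Q) := Subgroup.inclusion le_sup_right (⟨q, hq⟩ : Q)
    have h2 : ψ (w₁ * w₂ * w₁⁻¹ * w₂⁻¹) = (w₁ * w₂ * w₁⁻¹ * w₂⁻¹ : ↥(P ⊔ Q)) :=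
      (congrArg ψ (Subtype.ext rfl :
        w₁ * w₂ * w₁⁻¹ * w₂⁻¹ = Subgroup.inclusion le_sup_right (⟨_, hr.1⟩ : Q))).trans
        (hψQ ⟨_, hr.1⟩)
    simp only [map_mul, map_inv, w₁, w₂, hψP, hψQ] at h2
    simp only [Subgroup.coe_mul, Subgroup.coe_inv, Subgroup.coe_inclusion, mul_left_inj] at h2
    calc q * ((x : Ω)⁻¹ * (a x : Ω)) = (x : Ω)⁻¹ * ((x : Ω) * q * (x : Ω)⁻¹) * (a x : Ω) := by group
      _ = (x : Ω)⁻¹ * ((a x : Ω) * q * (a x : Ω)⁻¹) * (a x : Ω) := by rw [h2]
      _ = (x : Ω)⁻¹ * (a x : Ω) * q := by group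
  -- so every map does
  let C' : FusionSystem T :=
    { Hom := fun P => {φ | φ ∈ C.Hom P ∧ FixExt F Q P φ}
      le_of_mem := fun h => C.le_of_mem h.1
      injective_of_mem := fun h => C.injective_of_mem h.1
      conj_mem := fun {P g} hP hg => ⟨C.conj_mem hP hg, conjHom _ g,
        F.conj_mem (sup_le (hP.trans hTS) hQ.1) (hTS hg), fun x => rfl, fun q => by
          show g * (q : Ω) * g⁻¹ = q
          rw [← (mem_centralizerIn.1 (hTQ hg)).2 q q.2, mul_inv_cancel_right]⟩
      comp_mem := fun {P R φ ψ} hφ hψ h => by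
        obtain ⟨a, ha, haP, haQ⟩ := hφ.2
        obtain ⟨b, hb, hbR, hbQ⟩ := hψ.2
        have hm : ∀ w, a w ∈ R ⊔ Q := fun w => range_le_of_gens
          (fun x => Subgroup.mem_sup_left (by rw [haP]; exact h x))
          (fun q => Subgroup.mem_sup_right (by rw [haQ]; exact q.2)) ⟨w, rfl⟩
        refine ⟨C.comp_mem hφ.1 hψ.1 h, _, F.comp_mem ha hb hm, fun x => ?_, fun q => ?_⟩
        · show b _ = ψ _
          rw [← hbR]
          exact congrArg b (Subtype.ext (haP x))
        · show b ⟨_, hm (Subgroup.inclusion le_sup_right q)⟩ = q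
          exact (congrArg b (Subtype.ext (haQ q))).trans (hbQ q)
      inv_mem := fun {P φ} hφ => by
        obtain ⟨φi, hφi, hl⟩ := C.inv_mem hφ.1
        obtain ⟨a, ha, haP, haQ⟩ := hφ.2
        obtain ⟨ai, hai, -, hal, -⟩ := exists_inv ha (ext_range haP (map_eq_of_fix haQ))
        refine ⟨φi, ⟨hφi, ai, hai, ?_, fun q => ?_⟩, hl⟩
        · rintro ⟨_, x, rfl⟩
          rw [hl x]
          exact (congrArg ai (Subtype.ext (haP x).symm :
            (Subgroup.inclusion le_sup_left ⟨φ x, ⟨x, rfl⟩⟩ : ↥(φ.range ⊔ Q)) =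
              ⟨a (Subgroup.inclusion le_sup_left x),
                (haP x).symm ▸ Subgroup.mem_sup_left ⟨x, rfl⟩⟩)).trans (hal _ _)
        · exact (congrArg ai (Subtype.ext (haQ q).symm :
            Subgroup.inclusion (le_sup_right (a := φ.range)) q =
              ⟨a (Subgroup.inclusion le_sup_right q),
                (haQ q).symm ▸ Subgroup.mem_sup_right q.2⟩)).trans (hal _ _) }
  have hall : C ≤ C' := by
    refine alperin hTp hCs C' fun P hP => ?_
    have hfn : C.IsFullyNormalized P := by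
      rcases hP with rfl | hP
      · exact isFullyNormalized_self
      · exact hP.2.1
    have hPT := hfn.1
    have := finite_mulAut_of_le (S := S) (hPT.trans hTS)
    refine le_of_sylow_of_coprime (IsSaturated.fullyAutomized hTp hCs hfn).2
      (autInducedBy_le_autGroup hPT) ?_
    rintro a ha ⟨m, hm, hmc⟩
    exact (mem_autGroup_iff hPT).2 ⟨(mem_autGroup_iff hPT).1 ha,
      key P hPT a ha (hmc.coprime_dvd_left (orderOf_dvd_of_pow_eq_one hm))⟩
  intro P φ hφ
  exact ⟨hsub P (hCE P hφ).1, (hom_le hφ).trans hTQ, fun x => hTQ (hom_apply_mem hφ x),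
    (hall P hφ).2⟩

theorem component_centralizes_aux {T : Subgroup Ω} {C : FusionSystem T}
    (h : C.IsSubnormalIn F p) : p.Prime → Finite S → IsPGroup p S → F.IsSaturated p →
      C.Quasisimple p → ∀ Q : Subgroup Ω, F.IsNormal Q →
        ∀ P : Subgroup Ω, C.Hom P ⊆ F.centralizerHom Q P := by
  induction h with
  | refl F p =>
    intro hp hfin hS hF hq Q hQ P φ hφ
    have := Fact.mk hp
    have hZ : F.IsCentral Q := by
      have hle := le_center_of_quasisimple hS hq hQ
      obtain ⟨-, hc⟩ := center_isCentral (F := F)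
      refine ⟨hQ.1, fun P φ hφ => ?_⟩
      obtain ⟨ψ, hψ, hψP, hψZ⟩ := hc P φ hφ
      exact ⟨_, restrict_mem hψ (sup_le_sup_left hle P), fun x => hψP x,
        fun q => hψZ ⟨q, hle q.2⟩⟩
    refine ⟨hφ, ?_, ?_, hZ.2 P φ hφ⟩
    · exact fun x hx => mem_centralizerIn.2 ⟨hom_le hφ hx, fun q hq' =>
        ((mem_centralizerIn.1 (IsCentral.le_centralizer hZ hq')).2 x (hom_le hφ hx)).symm⟩
    · exact fun x => mem_centralizerIn.2 ⟨hom_apply_mem hφ x, fun q hq' =>
        ((mem_centralizerIn.1 (IsCentral.le_centralizer hZ hq')).2 _ (hom_apply_mem hφ x)).symm⟩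
  | step h hn ih =>
    intro hp hfin hS hF hq Q hQ
    have := Fact.mk hp
    have hU := hn.1.2.2.2.1
    have := finite_le hU.1
    exact centralizerHom_of_normal_step hS hn hq hQ (fun P => ih hp inferInstance (hS.to_le hU.1)
      hn.1.1 hq _ (isNormal_inf_of_subsystem hS hU hn.1.1 hn.1.2.2.1 hQ) P)

/-- Every component centralizes every normal subgroup. -/
theorem component_centralizes [Fact p.Prime] [Finite S] (hS : IsPGroup p S) (hF : F.IsSaturated p)
    {T : Subgroup Ω} {C : FusionSystem T} (hC : C.IsComponentIn F p) {Q : Subgroup Ω}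
    (hQ : F.IsNormal Q) (P : Subgroup Ω) : C.Hom P ⊆ F.centralizerHom Q P :=
  component_centralizes_aux hC.1 Fact.out inferInstance hS hF hC.2 Q hQ P

/-- The layer centralizes the core. -/
theorem layer_centralizes_core [Fact p.Prime] [Finite S] (hS : IsPGroup p S) (hF : F.IsSaturated p)
    {T : Subgroup Ω} {E : FusionSystem T} (hE : E.IsLayerOf F p) (P : Subgroup Ω) :
    E.Hom P ⊆ F.centralizerHom F.core P := by
  have hQ : F.IsNormal F.core := core_isNormal
  exact hE.2.2 _ _ (centSystem_isNormalIn hS hF hQ)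
    (fun U C hC P => component_centralizes hS hF hC hQ P) P

end CfsgLib.Fusion
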