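import Cfsg.Agent.Lib.Fusion.ComponentTransport

/-!
The layer is invariant under automorphisms of the system.
-/

set_option autoImplicit false

namespace CfsgLib.Fusion

open Cfsg Cfsg.FusionSystem

variable {Ω : Type*} [Group Ω] {S T : Subgroup Ω} {F : FusionSystem S} {E : FusionSystem T}
  {p : ℕ} [Fact p.Prime] [Finite S] {α : S ≃* S}

theorem SysEquiv.isComponentIn (h : SysEquiv F F α) {U : Subgroup Ω} {C : FusionSystem U}
    (hC : C.IsComponentIn F p) (hU : U ≤ S) :
    (transportSys C (mapSEquiv α hU)).IsComponentIn F p := by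
  have : Finite U := finite_le hU
  have hE := transportSys_sysEquiv C (mapSEquiv α hU)
  exact ⟨IsSubnormalIn.sysEquiv hC.1 h (restricts_mapSEquiv α hU) hE, hE.quasisimple hC.2⟩

theorem layer_invariant (h : SysEquiv F F α) (hE : E.IsLayerOf F p) :
    mapS α T = T ∧ ∀ (P : Subgroup Ω) (φ : P →* Ω), φ ∈ E.Hom P →
      ∀ φ' : mapS α P →* Ω, InducedAlong (S.subtype.comp α.toMonoidHom) φ φ' →
        φ' ∈ E.Hom (mapS α P) := by
  obtain ⟨hn, hcomp, hmin⟩ := hE
  have hT : T ≤ S := hn.1.2.2.2.1.1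
  have : Finite T := finite_le hT
  set g := mapSEquiv α.symm hT with hg
  have hr := restricts_mapSEquiv α.symm hT
  have hE₁ := transportSys_sysEquiv E g
  have hsub : E.IsSubsystemOf (transportSys E g) := by
    refine hmin _ _ (h.symm.isNormalIn hr hE₁ hn) fun U C hC => ?_
    have hU : U ≤ S := IsSubsystemOf.le (IsSubnormalIn.isSubsystemOf hC.1)
    have hC₁ := transportSys_sysEquiv C (mapSEquiv α hU)
    have hsub₁ := hcomp _ _ (h.isComponentIn hC hU)
    refine hE₁.1.isSubsystem (g := (mapSEquiv α hU).symm) ⟨IsSubsystemOf.le hsub₁, ?_⟩ hC₁.1 hsub₁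
    exact fun t ht => (restricts_mapSEquiv α hU).symm.2 t (hT ht)
  have hTT : mapS α.symm T = T := by
    have : Finite (mapS α.symm T : Subgroup Ω) := finite_le (mapS_le T)
    exact (Subgroup.eq_of_le_of_card_ge (IsSubsystemOf.le hsub) (card_mapS hT).le).symm
  have hαT : mapS α T = T := by
    conv_lhs => rw [← hTT]
    exact mapS_symm' (f := α) hT
  refine ⟨hαT, fun P φ hφ φ' hi => ?_⟩
  obtain ⟨hPS, hφS, hP', hv⟩ := hi
  have hφ₁ := hsub P hφ
  refine hE₁.2.mem hφ₁ ?_ φ' fun x hm => ?_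
  · rw [hr.symm.mapS_eq (hom_le hφ₁)]
    exact le_rfl
  · have hx := hom_le hφ₁ x.2
    have hφx := hom_apply_mem hφ₁ x
    refine Eq.trans (congrArg φ' (Subtype.ext ?_)) ((hv x).trans ?_)
    · exact hr.symm.2 ⟨x, hx⟩ (hPS x.2)
    · exact (hr.symm.2 ⟨φ x, hφx⟩ (hφS x)).symm

end CfsgLib.Fusion
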