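import Cfsg.Agent.Lib.Fusion.LiftFamily
import Cfsg.Agent.Lib.Fusion.LeastNormal

/-!
The `p'`-residual of a weakly normal subsystem is normal.
-/

set_option autoImplicit false

namespace CfsgLib.Fusion

open Cfsg Cfsg.FusionSystem

variable {Ω : Type*} [Group Ω] {S T : Subgroup Ω} {F : FusionSystem S} {E : FusionSystem T}
  {p : ℕ}

/-- Radical subgroups of an invariant subsystem are permuted by `F`. -/
theorem invariant_isRadical (hE : E.IsInvariantIn F) {R R' : Subgroup Ω} (hR : R ≤ T) {e : R ≃* R'}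
    (he : IsoIn F e) (h : E.IsRadical p R) : E.IsRadical p R' := by
  have hR' : R' ≤ T := fun y hy => by
    have h1 := hE.2.1.2 R hR _ he.mem (e.symm ⟨y, hy⟩)
    rwa [isoHom_apply, MulEquiv.apply_symm_apply] at h1
  refine ⟨hR', ?_⟩
  have hmap : (E.autGroup R).map (MulAut.congr e).toMonoidHom = E.autGroup R' := by
    refine le_antisymm ?_ fun b hb => ⟨_, invariant_congr hE hR' he.symm hb, ?_⟩
    · rintro _ ⟨a, ha, rfl⟩
      exact invariant_congr hE hR he ha
    · exact MulEquiv.ext fun y => by simp [MulAut.congr]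
  let ε : E.autGroup R ≃* E.autGroup R' :=
    ((MulAut.congr e).subgroupMap (E.autGroup R)).trans (MulEquiv.subgroupCongr hmap)
  have hcore : (pCore p (E.autGroup R)).map ε.toMonoidHom = pCore p (E.autGroup R') :=
    Core.map_equiv_pCore ε
  have hcomp : (E.autGroup R').subtype.comp ε.toMonoidHom =
      (MulAut.congr e).toMonoidHom.comp (E.autGroup R).subtype := MonoidHom.ext fun _ => rfl
  rw [← hcore, Subgroup.map_map, hcomp, ← Subgroup.map_map, h.2]
  ext β
  constructor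
  · rintro ⟨_, ⟨g, rfl⟩, rfl⟩
    exact ⟨e g, MulEquiv.ext fun y => by simp [MulAut.congr]⟩
  · rintro ⟨g, rfl⟩
    exact ⟨_, ⟨e.symm g, rfl⟩, MulEquiv.ext fun y => by simp [MulAut.congr]⟩

/-- `Aut_F(T)` permutes the generated maps of an invariant subsystem. -/
theorem GenMap.topConj_ambient (hE : E.IsInvariantIn F) {P : Subgroup Ω} {φ : P →* Ω}
    (h : GenMap E p φ) {α : MulAut T} (hα : α ∈ F.autGroup T) :
    ∀ {P' : Subgroup Ω} (hP' : P' ≤ T)
      (h1 : ∀ y : P', ((α⁻¹ (Subgroup.inclusion hP' y) : T) : Ω) ∈ P) (h2 : ∀ x, φ x ∈ T),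
      GenMap E p (CfsgLib.Fusion.topConj α φ hP' h1 h2) := by
  induction h with
  | incl φ hP hφ =>
      intro P' hP' h1 h2
      refine GenMap.incl _ hP' fun y => ?_
      rw [topConj_apply]
      have h3 : (⟨φ ⟨_, h1 y⟩, h2 _⟩ : T) = α⁻¹ (Subgroup.inclusion hP' y) := Subtype.ext (hφ _)
      rw [h3, MulAut.apply_inv_self]
      rfl
  | @step R φ hc hr a ha hk hφ hle χ hχ ih =>
      intro P' hP' h1 h2
      have hαF := (mem_autGroup_iff hE.2.1.1).1 hα
      obtain ⟨e, he, hev⟩ := exists_iso (restrict_mem hαF hc.1) rfl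
      have h2' : ∀ x, φ x ∈ T := fun x => hc.1 (hle x)
      obtain ⟨k, hk⟩ := hk
      refine GenMap.step (TCentric.isCentric hE.1
          ((tCentric_of_centric hE hc).conj hE.2.1 he.isConj))
        (invariant_isRadical hE hc.1 he hr) (MulAut.congr e a) (invariant_congr hE hc.1 he ha)
        ⟨k, by rw [← map_pow, hk, map_one]⟩ (ih hP' h1 h2')
        (fun y => ⟨⟨_, hle ⟨_, h1 y⟩⟩, rfl⟩) _ fun y => ?_
      rw [topConj_apply]
      have h3 : (⟨CfsgLib.Fusion.topConj α φ hP' h1 h2' y,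
          ⟨⟨_, hle ⟨_, h1 y⟩⟩, rfl⟩⟩ : _) = e ⟨φ ⟨_, h1 y⟩, hle _⟩ :=
        Subtype.ext (hev ⟨φ ⟨_, h1 y⟩, hle _⟩).symm
      rw [h3]
      simp only [MulAut.congr, MulEquiv.coe_mk, Equiv.coe_fn_mk, MulEquiv.trans_apply,
        MulEquiv.symm_apply_apply]
      rw [hev]
      show ((α ⟨χ ⟨_, h1 y⟩, h2 _⟩ : T) : Ω) = ((α ⟨a ⟨φ ⟨_, h1 y⟩, hle _⟩, _⟩ : T) : Ω)
      congr 2
      exact Subtype.ext (hχ _)

variable [Fact p.Prime] [Finite S]

/-- The `p'`-residual of a weakly normal subsystem is normal. -/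
theorem pPrimeResidual_normal (hS : IsPGroup p S) (hF : F.IsSaturated p) (hEs : E.IsSaturated p)
    (hEi : E.IsInvariantIn F) {D : FusionSystem T} (hD : E.IsPPrimeResidual p D) :
    D.IsNormalIn F p := by
  classical
  have hT : F.StronglyClosed T := hEi.2.1
  have := finite_le hT.1
  have hTp : IsPGroup p T := hS.to_le hT.1
  set A := leastTop hTp hEs with hAdef
  have hA : A ≤ E.autGroup T := leastTop_le hTp hEs
  have hEF : ∀ a ∈ E.autGroup T, a ∈ F.autGroup T := fun a ha =>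
    (mem_autGroup_iff hT.1).2 (hEi.1 T ((mem_autGroup_iff le_rfl).1 ha))
  have hTc : TCentric F T T := ⟨le_rfl, fun Q' hQ' => by
    obtain ⟨φ', hφ', rfl⟩ := hQ'
    rw [(StronglyClosed.weaklyClosed hT).2 φ' hφ']
    exact centralizerIn_le T⟩
  set K := indexSystem hTp hEs A hA with hKdef
  have hKsat : K.IsSaturated p := indexSystem_saturated hTp hEs A hA (leastTop_det hTp hEs)
  have hDK : D = K := by
    refine fusionSystem_ext fun P => Set.Subset.antisymm
      (hD.2.2 K hKsat (hasPrimeToPIndex_of_gen_le hTp hEs (genSystem_le_indexSystem hTp hEs A hA)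
        (indexSystem_le hTp hEs A hA)) P) fun φ hφ => ?_
    have hGD : genSystem hTp hEs ≤ D := genSystem_le_of hTp hEs fun R hR a ha hk =>
      hD.2.1.2 R hR.1 (mem_closure_pow ha hk)
    have htop : A ≤ D.autGroup T := by
      refine (Subgroup.closure_le _).2 ?_
      rintro α ⟨hα, R, hR, ψ, hψ, hv⟩
      exact climb_map hD.1 hD.2.1.1 hα hR (hGD R hψ) hv hTp hEs
    obtain ⟨α, hα, φ₀, hφ₀, hv⟩ := hφ
    exact comp_mem' (hGD P hφ₀) ((mem_autGroup_iff le_rfl).1 (htop hα))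
      (hom_apply_mem (GenMap.mem hφ₀)) fun x => hv x _
  have hKE : ∀ {P : Subgroup Ω} {φ : P →* Ω}, φ ∈ K.Hom P → φ ∈ E.Hom P := fun {P φ} h =>
    indexSystem_le hTp hEs A hA P h
  -- `A` is invariant under `Aut_F(T)`
  have hAinv : ∀ b ∈ F.autGroup T, ∀ a ∈ A, b * a * b⁻¹ ∈ A := by
    intro b hb a ha
    induction ha using Subgroup.closure_induction with
    | mem x hx =>
        obtain ⟨hxE, R, hR, φ, hφ, hv⟩ := hx
        have hφT : ∀ z, φ z ∈ T := hom_apply_mem (GenMap.mem hφ)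
        obtain ⟨e, he, hev⟩ := exists_iso
          (restrict_mem ((mem_autGroup_iff hT.1).1 hb) hR.1) rfl
        set R' := ((T.subtype.comp b.toMonoidHom).comp (Subgroup.inclusion hR.1)).range with hR'
        have hR'T : R' ≤ T := by rintro _ ⟨z, rfl⟩; exact SetLike.coe_mem _
        have h1 : ∀ y : R', ((b⁻¹ (Subgroup.inclusion hR'T y) : T) : Ω) ∈ R := by
          rintro ⟨_, z, rfl⟩
          refine (congrArg (fun w => w ∈ R) (resT_inv_apply b hR.1 (x := z) rfl)).mpr z.2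
        refine Subgroup.subset_closure ⟨invariant_conj_mem hEi le_rfl hxE hb, R',
          TCentric.isCentric hEi.1 ((tCentric_of_centric hEi hR).conj hT he.isConj),
          topConj b φ hR'T h1 hφT, GenMap.topConj_ambient hEi hφ hb hR'T h1 hφT, fun y hy => ?_⟩
        rw [topConj_apply, MulAut.mul_apply, MulAut.mul_apply]
        congr 2
        refine Subtype.ext ?_
        show φ _ = _
        rw [hv _ (hR.1 (h1 y))]
        rfl
    | one => simp
    | mul x y _ _ hx hy =>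
        rw [show b * (x * y) * b⁻¹ = b * x * b⁻¹ * (b * y * b⁻¹) by group]
        exact A.mul_mem hx hy
    | inv x _ hx =>
        rw [show b * x⁻¹ * b⁻¹ = (b * x * b⁻¹)⁻¹ by group]
        exact A.inv_mem hx
  rw [hDK]
  refine ⟨⟨hKsat, hF, fun P φ h => hEi.1 P (hKE h), hT, ?_, ?_⟩, ?_⟩
  · -- invariance
    intro P hPT φ hφ α hα
    obtain ⟨a, ha, g, hg, hgv⟩ := hφ
    set P' := (P.subgroupOf T).map (T.subtype.comp α.toMonoidHom) with hP'def
    have hP'T : P' ≤ T := by rintro _ ⟨z, -, rfl⟩; exact SetLike.coe_mem _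
    have h1 : ∀ y : P', ((α⁻¹ (Subgroup.inclusion hP'T y) : T) : Ω) ∈ P := by
      rintro ⟨_, z, hz, rfl⟩
      show ((α⁻¹ (α z) : T) : Ω) ∈ P
      rw [MulAut.inv_apply_self]
      exact hz
    have hgT : ∀ x, g x ∈ T := hom_apply_mem (GenMap.mem hg)
    set g' := topConj α g hP'T h1 hgT with hg'def
    have hg' : GenMap E p g' := GenMap.topConj_ambient hEi hg hα hP'T h1 hgT
    refine ⟨(T.subtype.comp (α * a * α⁻¹ : MulAut T).toMonoidHom).comp
        (g'.codRestrict T (hom_apply_mem hg'.mem)),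
      ⟨α * a * α⁻¹, hAinv α hα a ha, g', hg', fun _ _ => rfl⟩, fun x hφx hαx => ?_⟩
    show (((α * a * α⁻¹ : MulAut T) ⟨g' ⟨_, hαx⟩, _⟩ : T) : Ω) = _
    have h3 : g' ⟨((α ⟨x, hPT x.2⟩ : T) : Ω), hαx⟩ = ((α ⟨g x, hgT x⟩ : T) : Ω) := by
      rw [hg'def, topConj_apply]
      congr 3
      refine congrArg g (Subtype.ext ?_)
      show ((α⁻¹ (α ⟨x, hPT x.2⟩) : T) : Ω) = x
      rw [MulAut.inv_apply_self]
    simp only [h3, Subtype.coe_eta, MulAut.mul_apply, MulAut.inv_apply_self]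
    congr 2
    exact Subtype.ext (hgv x _).symm
  · -- Frattini
    intro P hP φ hφ
    obtain ⟨α, hα, e, he, hv⟩ := hEi.2.2.2 P hP φ hφ
    obtain ⟨β, hβ, g, hg, hgv⟩ := exists_gen_decomp hTp hEs he
    refine ⟨α * β, mul_mem hα (hEF β hβ), g, genSystem_le_indexSystem hTp hEs A hA P hg,
      fun x hx => ?_⟩
    rw [hv x (hom_apply_mem he x), MulAut.mul_apply]
    congr 2
    exact Subtype.ext (hgv x hx)
  · -- extension
    intro γ hγ
    obtain ⟨a, ha, g, hg, hgv⟩ := (mem_autGroup_iff le_rfl).1 hγ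
    let H := liftFamily hS hF hEs hEi
    have hAH : A ≤ H.stab hT T := by
      refine (Subgroup.closure_le _).2 ?_
      rintro α ⟨hα, R, hR, φ, hφ, hv⟩
      refine TFamily.mem_stab_top hS hF hEs hEi (tCentric_of_centric hEi hR) hα
        ⟨hEF α hα, fun hR' => ?_⟩
      exact (genMap_hasLift hS hF hEs hEi hφ hR').congr fun x => (hv x (hR.1 x.2)).symm
    have hlift : HasLift F T (T.subtype.comp γ.toMonoidHom) :=
      hasLift_comp hT hTc le_rfl (genMap_hasLift hS hF hEs hEi hg hTc)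
        ((hAH ha).2 hTc : HasLift F T (resT a le_rfl)) (hom_apply_mem (GenMap.mem hg)) _
        fun x => hgv x _
    obtain ⟨ψ, hψ, hag, hX⟩ := hlift
    have hr : ψ.range = T ⊔ centralizerIn S T := by
      rw [lift_range_eq hT hTc hψ hag hX]
      congr 1
      ext y
      exact ⟨fun ⟨x, hx⟩ => hx ▸ SetLike.coe_mem _,
        fun hy => ⟨γ⁻¹ ⟨y, hy⟩, congrArg Subtype.val (MulAut.apply_inv_self T γ ⟨y, hy⟩)⟩⟩
    obtain ⟨β, hβ, hβv⟩ := exists_iso hψ hr
    refine ⟨β, (mem_autGroup_iff_isoIn (sup_le hT.1 (centralizerIn_le T))).2 hβ,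
      fun x => (hβv _).trans (hag x), fun c hc => ?_⟩
    rw [hβv]
    refine ⟨hX c hc, Subgroup.mem_centralizer_iff.2 fun u hu => ?_⟩
    have h1 : u * ψ c = ψ c * u := by
      have h2 := hag (γ⁻¹ ⟨u, hu⟩)
      have h3 : (T.subtype.comp γ.toMonoidHom) (γ⁻¹ ⟨u, hu⟩) = u :=
        congrArg Subtype.val (MulAut.apply_inv_self T γ ⟨u, hu⟩)
      rw [h3] at h2
      rw [← h2, ← map_mul, ← map_mul]
      congr 1
      exact Subtype.ext (centralizerIn_comm hc (SetLike.coe_mem _))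
    rw [← mul_assoc, centralizerIn_comm (Subgroup.inv_mem _ hc) hu, mul_assoc, h1, mul_assoc]

end CfsgLib.Fusion
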