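import Cfsg.Agent.Lib.Fusion.Layer
import Cfsg.Agent.Lib.Fusion.LayerChar
import Cfsg.Agent.Lib.Fusion.ComponentCentralizes
import Cfsg.Agent.Lib.Fusion.WeakNormalResidual
import Cfsg.Agent.Lib.Fusion.PrimeIndexLeast
import Cfsg.Agent.Lib.Fusion.PPowerNormal
import Cfsg.Agent.Lib.Fusion.CentralizerSubsystem

/-!
# Systems that are their own layer
-/

set_option autoImplicit false
set_option maxHeartbeats 800000
set_option linter.unusedSectionVars false

namespace CfsgLib.Fusion.Closed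

open Cfsg Cfsg.FusionSystem CfsgLib.Fusion

universe u

variable {Ω : Type u} [Group Ω] {S T W U : Subgroup Ω} {F : FusionSystem S} {E : FusionSystem W}
  {C : FusionSystem T} {p : ℕ}

/-- A system is closed if it is its own layer. -/
def IsClosed (E : FusionSystem W) (p : ℕ) : Prop := E.IsLayerOf E p

theorem subnormal_trans {D : FusionSystem W} (h₂ : D.IsSubnormalIn F p) :
    C.IsSubnormalIn D p → C.IsSubnormalIn F p := by
  induction h₂ with
  | refl F p => exact id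
  | step _ hn ih => exact fun h => .step (ih h) hn

theorem component_of_normal (hn : E.IsNormalIn F p) (hC : C.IsComponentIn E p) :
    C.IsComponentIn F p := ⟨.step hC.1 hn, hC.2⟩

theorem component_le (hC : C.IsComponentIn F p) : T ≤ S :=
  IsSubsystemOf.le (IsSubnormalIn.isSubsystemOf hC.1)

theorem normal_le (hn : E.IsNormalIn F p) : W ≤ S := hn.1.2.2.2.1.1

variable [Fact p.Prime] [Finite S]

/-- The base of a component is not abelian. -/
theorem component_not_abelian (hS : IsPGroup p S) (hC : C.IsComponentIn F p)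
    (hab : ∀ x ∈ T, ∀ y ∈ T, x * y = y * x) : False := by
  have := finite_le (component_le hC)
  have hT := hS.to_le (component_le hC)
  refine not_isConstrained_of_quasisimple hT hC.2 ⟨hC.2.1, T, ?_, isCentric_self⟩
  exact isNormal_of_stronglyClosed_abelian hT hC.2.1 stronglyClosed_top
    ⟨⟨fun a b => Subtype.ext (hab a a.2 b b.2)⟩⟩

/-- The layer of a normal subsystem is normal. -/
theorem layer_normal (hS : IsPGroup p S) (hn : E.IsNormalIn F p) {L : FusionSystem U}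
    (hL : L.IsLayerOf E p) : L.IsNormalIn F p := by
  have hF := hn.1.2.1
  have hWS := normal_le hn
  have := finite_le hWS
  have hWp := hS.to_le hWS
  have hUW := normal_le hL.1
  have hUS := hUW.trans hWS
  have := finite_le hUS
  have hUp := hS.to_le hUS
  -- the automorphisms of the layer from those of `F`
  have hres : ∀ γ ∈ F.autGroup W, ∃ γU ∈ F.autGroup U,
      (∀ (r : Ω) (hr : r ∈ U), ((γ ⟨r, hUW hr⟩ : W) : Ω) = ((γU ⟨r, hr⟩ : U) : Ω)) ∧
        SysHom L L γU := by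
    intro γ hγ
    obtain ⟨hmap, hind⟩ := layer_invariant (sysEquiv_of_invariant hn.1.2.2 hγ) hL
    obtain ⟨γU, hγU, hv⟩ := exists_restrict_aut hWS hUW hγ fun r hr => by
      have h : ((γ r : W) : Ω) ∈ mapS γ U := ⟨r, hr, rfl⟩
      rwa [hmap] at h
    refine ⟨γU, hγU, hv, fun P φ hφ => ?_⟩
    have hPU := hom_le hφ
    have hPW := hPU.trans hUW
    set φ₁ : mapS γ P →* Ω := (W.subtype.comp γ.toMonoidHom).comp
      ((φ.codRestrict W fun x => hUW (hom_apply_mem hφ x)).comp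
        (mapSEquiv γ hPW).symm.toMonoidHom) with hφ₁
    have hφ₁v : ∀ x : P, φ₁ ⟨(γ ⟨x, hPW x.2⟩ : W), apply_mem_mapS hPW x⟩ =
        ((γ ⟨φ x, hUW (hom_apply_mem hφ x)⟩ : W) : Ω) := fun x => by
      rw [show (⟨(γ ⟨x, hPW x.2⟩ : W), apply_mem_mapS hPW x⟩ : mapS γ P) = mapSEquiv γ hPW x from
        Subtype.ext rfl]
      show (γ ⟨φ ((mapSEquiv γ hPW).symm (mapSEquiv γ hPW x)), _⟩ : Ω) = _
      simp only [MulEquiv.symm_apply_apply]
    have hmem : φ₁ ∈ L.Hom (mapS γ P) :=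
      hind P φ hφ φ₁ ⟨hPW, fun x => hUW (hom_apply_mem hφ x), fun x => apply_mem_mapS hPW x, hφ₁v⟩
    have hle : mapS γU P ≤ mapS γ P := by
      rintro _ ⟨r, hr, rfl⟩
      exact ⟨⟨r, hUW r.2⟩, hr, hv r r.2⟩
    refine ⟨_, restrict_mem hmem hle, fun x hx hφx hm => ?_⟩
    rw [← hv _ hφx, ← hφ₁v x]
    exact congrArg φ₁ (Subtype.ext (hv _ hx).symm)
  have hclosed : F.StronglyClosed U := by
    refine ⟨hUS, fun R hR φ hφ x => ?_⟩
    obtain ⟨γ, hγ, φ₀, hφ₀, hv⟩ := hn.1.2.2.2.2.2 R (hR.trans hUW) φ hφ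
    obtain ⟨γU, -, hγUv, -⟩ := hres γ hγ
    have hx₀ : φ₀ x ∈ U := hL.1.1.2.2.2.1.2 R hR φ₀ hφ₀ x
    rw [hv x (hUW hx₀), hγUv _ hx₀]
    exact SetLike.coe_mem _
  have hsub : L.IsSubsystemOf F := fun P φ hφ => hn.1.2.2.1 P (hL.1.1.2.2.1 P hφ)
  have hinv : L.IsInvariantIn F := by
    refine ⟨hsub, hclosed, fun P hPU φ hφ α hα => ?_, fun P hPU φ hφ => ?_⟩
    · obtain ⟨γ, hγ, φ₀, hφ₀, hv⟩ := hn.1.2.2.2.2.2 U hUW _ ((mem_autGroup_iff hUS).1 hα)
      obtain ⟨γU, -, hγUv, hγUL⟩ := hres γ hγ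
      obtain ⟨β, hβ, hβv⟩ := exists_iso hφ₀ (Q := U) (Subgroup.eq_of_le_of_card_ge
        (by rintro _ ⟨x, rfl⟩; exact hL.1.1.2.2.2.1.2 U le_rfl φ₀ hφ₀ x)
        (Nat.card_congr (MonoidHom.ofInjective (E.injective_of_mem hφ₀)).toEquiv).le)
      have hαe : (β : U ≃* U).trans γU = α := MulEquiv.ext fun x => Subtype.ext (by
        have hx₀ : φ₀ x ∈ U := hβv x ▸ (β x).2
        refine Eq.symm ((hv x (hUW hx₀)).trans ((hγUv _ hx₀).trans ?_))
        exact congrArg (fun z => ((γU z : U) : Ω)) (Subtype.ext (hβv x).symm))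
      obtain ⟨χ, hχ, hχv⟩ := (SysHom.trans (sysEquiv_of_invariant hL.1.1.2.2
        ((mem_autGroup_iff_isoIn hUW).2 hβ)).1 hγUL) P φ hφ
      subst hαe
      exact ⟨χ, hχ, fun x hφx hαx => hχv x (hPU x.2) hφx hαx⟩
    · obtain ⟨γ, hγ, φ₁, hφ₁, hv⟩ := hn.1.2.2.2.2.2 P (hPU.trans hUW) φ hφ
      obtain ⟨β, hβ, φ₀, hφ₀, hβv⟩ := hL.1.1.2.2.2.2.2 P hPU φ₁ hφ₁
      obtain ⟨γU, hγU, hγUv, -⟩ := hres γ hγ
      refine ⟨γU * β, mul_mem hγU ((mem_autGroup_iff hUS).2
        (hn.1.2.2.1 U ((mem_autGroup_iff hUW).1 hβ))), φ₀, hφ₀, fun x hx => ?_⟩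
      have h1 := hβv x hx
      have hx₁ : φ₁ x ∈ U := h1 ▸ (β _).2
      rw [hv x (hUW hx₁), hγUv _ hx₁, MulAut.mul_apply]
      exact congrArg (fun z => ((γU z : U) : Ω)) (Subtype.ext h1)
  obtain ⟨D, hD⟩ := exists_pPrimeResidual hUp hL.1.1.1
  have hDF : D.IsNormalIn F p := pPrimeResidual_normal hS hF hL.1.1.1 hinv hD
  have hDL : D.IsNormalIn L p :=
    pPrimeResidual_normal hUp hL.1.1.1 hL.1.1.1 isInvariantIn_refl hD
  obtain ⟨M, ⟨hMF, hMD, hME⟩, -⟩ := Meet.Data.exists_meet ⟨hS, hF, hDF, hn⟩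
  have hLM : L.IsSubsystemOf M := hL.2.2 _ M hME fun V Q hQ => by
    have hQU : V ≤ U := IsSubsystemOf.le (hL.2.1 V Q hQ)
    have h1 := component_of_le hWp hn.1.1 hQ hL.1 hQU
    have h2 := component_of_normal hDF (component_of_le hUp hL.1.1.1 h1 hDL hQU)
    exact IsSubnormalIn.isSubsystemOf
      (component_of_le hS hF h2 hMF (le_inf hQU (hQU.trans hUW))).1
  have hDeq : D = L := fusionSystem_ext fun P =>
    Set.Subset.antisymm (hDL.1.2.2.1 P) ((hLM P).trans (hMD.1.2.2.1 P))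
  exact hDeq ▸ hDF

/-- The layer is closed. -/
theorem layer_isClosed (hS : IsPGroup p S) (hE : E.IsLayerOf F p) : IsClosed E p := by
  have hF := hE.1.1.2.1
  have hWS := normal_le hE.1
  have := finite_le hWS
  have hWp := hS.to_le hWS
  obtain ⟨U, L, hL⟩ := exists_layer hWp hE.1.1.1
  have hsub : E.IsSubsystemOf L := hE.2.2 U L (layer_normal hS hE.1 hL) fun V Q hQ =>
    hL.2.1 V Q (component_of_le hS hF hQ hE.1 (IsSubsystemOf.le (hE.2.1 V Q hQ)))
  exact ⟨isNormalIn_refl hE.1.1.1, fun V Q hQ => IsSubnormalIn.isSubsystemOf hQ.1,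
    fun R D hD hD' P φ hφ => hL.2.2 R D hD hD' P (hsub P hφ)⟩

/-- A closed system has a component or is trivial: its least normal subsystem property. -/
theorem closed_le (hE : IsClosed E p) {D : FusionSystem U} (hD : D.IsNormalIn E p)
    (h : ∀ (V : Subgroup Ω) (Q : FusionSystem V), Q.IsComponentIn E p → V ≤ U)
    (hS : IsPGroup p S) (hWS : W ≤ S) : E.IsSubsystemOf D := by
  have := finite_le hWS
  exact hE.2.2 U D hD fun V Q hQ => IsSubnormalIn.isSubsystemOf
    (component_of_le (hS.to_le hWS) hE.1.1.1 hQ hD (h V Q hQ)).1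

/-- The least normal subsystem containing a component. -/
theorem exists_least (hS : IsPGroup p S) (hF : F.IsSaturated p) (hC : C.IsComponentIn F p) :
    ∃ (W : Subgroup Ω) (E : FusionSystem W), E.IsNormalIn F p ∧ T ≤ W ∧ IsClosed E p ∧
      ∀ (U : Subgroup Ω) (D : FusionSystem U), D.IsNormalIn F p → T ≤ U → E.IsSubsystemOf D := by
  classical
  have hex : ∃ (n : ℕ) (W : Subgroup Ω) (E : FusionSystem W), E.IsNormalIn F p ∧ T ≤ W ∧
      (homGraphs E).ncard = n := ⟨_, S, F, isNormalIn_refl hF, component_le hC, rfl⟩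
  obtain ⟨W, E, hn, hle, hcard⟩ := Nat.find_spec hex
  have hWS := normal_le hn
  have := finite_le hWS
  have hmin : ∀ (U : Subgroup Ω) (D : FusionSystem U), D.IsNormalIn F p → T ≤ U →
      E.IsSubsystemOf D := by
    intro U D hD hTU
    have := finite_le (normal_le hD)
    obtain ⟨M, ⟨hMF, hME, hMD⟩, -⟩ := Meet.Data.exists_meet ⟨hS, hF, hn, hD⟩
    have hall : W ⊓ U = W ∧ ∀ P : Subgroup Ω, M.Hom P = E.Hom P := by
      by_contra hne
      exact absurd (Nat.find_le ⟨_, M, hMF, le_inf hle hTU, rfl⟩)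
        (not_le.2 (hcard ▸ ncard_homGraphs_lt inf_le_left hME.1.2.2.1 hne))
    intro P φ hφ
    rw [← hall.2] at hφ
    exact hMD.1.2.2.1 P hφ
  refine ⟨W, E, hn, hle, ?_, hmin⟩
  obtain ⟨U, L, hL⟩ := exists_layer (hS.to_le hWS) hn.1.1
  have hsub : E.IsSubsystemOf L := hmin U L (layer_normal hS hn hL)
    (IsSubsystemOf.le (hL.2.1 T C (component_of_le hS hF hC hn hle)))
  exact ⟨isNormalIn_refl hn.1.1, fun V Q hQ => IsSubnormalIn.isSubsystemOf hQ.1,
    fun R D hD hD' P φ hφ => hL.2.2 R D hD hD' P (hsub P hφ)⟩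

/-- A closed normal subsystem centralizes the normal subgroups. -/
theorem centralizes (hS : IsPGroup p S) (hn : E.IsNormalIn F p) (hE : IsClosed E p)
    {Q : Subgroup Ω} (hQ : F.IsNormal Q) (P : Subgroup Ω) :
    E.Hom P ⊆ F.centralizerHom Q P := by
  have hF := hn.1.2.1
  have hWS := normal_le hn
  have := finite_le hWS
  have hc := centSystem_isNormalIn hS hF hQ
  have := finite_le (centralizerIn_le (S := S) Q)
  obtain ⟨M, ⟨-, hME, hMc⟩, -⟩ := Meet.Data.exists_meet ⟨hS, hF, hn, hc⟩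
  refine (closed_le hE hME (fun V D hD => le_inf (component_le hD) fun v hv => ?_) hS hWS P).trans
    (hMc.1.2.2.1 P)
  exact (component_centralizes hS hF (component_of_normal hn hD) hQ V
    (incl_mem le_rfl)).2.1 hv

/-- A normal subgroup lies centrally in a closed normal subsystem. -/
theorem le_center_closed (hS : IsPGroup p S) (hn : E.IsNormalIn F p) (hE : IsClosed E p)
    {Q : Subgroup Ω} (hQ : F.IsNormal Q) (hQW : Q ≤ W) : Q ≤ E.center := by
  have hWS := normal_le hn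
  have := finite_le hWS
  refine le_center ((isCentral_iff (hS.to_le hWS) hn.1.1).2 ⟨hQW, fun x hx y hy => ?_⟩)
  obtain ⟨φ, hφ, rfl⟩ := hy
  obtain ⟨-, -, -, ψ, -, hψP, hψQ⟩ := centralizes hS hn hE hQ _ hφ
  rw [← hψP]
  exact (congrArg ψ (Subtype.ext rfl)).trans (hψQ ⟨x, hx⟩)

/-- A closed system is its own focal subgroup. -/
theorem focal_eq (hS : IsPGroup p S) (hWS : W ≤ S) (hE : IsClosed E p) : E.focalSubgroup = W := by
  have := finite_le hWS
  have hWp := hS.to_le hWS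
  have hEs := hE.1.1.1
  have hle : E.focalSubgroup ≤ W := by
    refine (Subgroup.closure_le _).2 ?_
    rintro _ ⟨P, φ, x, hφ, rfl⟩
    exact W.mul_mem (W.inv_mem (hom_le hφ x.2)) (hom_apply_mem hφ x)
  have hhyp : E.hyperfocalSubgroup p ≤ E.focalSubgroup := hyperfocal_le_of_focal_le le_rfl
  obtain ⟨G, hGs, hGi, -⟩ := exists_pPowerSystem hWp hEs hle hhyp
  have hnorm : ∀ s ∈ W, ∀ y ∈ E.focalSubgroup, s * y * s⁻¹ ∈ E.focalSubgroup := fun s hs y hy => by
    have h1 : y⁻¹ * (s * y * s⁻¹) ∈ E.focalSubgroup := Subgroup.subset_closure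
      ⟨W, conjHom W s, ⟨y, hle hy⟩, E.conj_mem le_rfl hs, rfl⟩
    have h2 := mul_mem hy h1
    rwa [mul_inv_cancel_left] at h2
  have hGn := pPowerIndex_isNormalIn hWp hEs hle hnorm hhyp hGs hGi
  refine le_antisymm hle (IsSubsystemOf.le (closed_le hE hGn (fun V D hD => ?_) hS hWS))
  have hVW := component_le hD
  have := finite_le hVW
  rw [← hD.2.2.1]
  refine (hyperfocal_le_of_focal_le le_rfl).trans (Subgroup.closure_mono ?_)
  rintro _ ⟨P, φ, x, hφ, rfl⟩
  exact ⟨P, φ, x, IsSubnormalIn.isSubsystemOf hD.1 P hφ, rfl⟩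

end CfsgLib.Fusion.Closed
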