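import Cfsg.Agent.Lib.Fusion.CentralProduct
import Cfsg.Agent.Lib.Fusion.ComponentCentralizes
import Cfsg.Agent.Lib.Fusion.LayerClosed

/-!
# A normal subsystem over the product of two commuting strongly closed bases
-/

set_option autoImplicit false
set_option linter.unusedSectionVars false

namespace CfsgLib.Fusion.Central

open Cfsg Cfsg.FusionSystem CfsgLib.Fusion

universe u

variable {Ω : Type u} [Group Ω] {S T₁ T₂ : Subgroup Ω} {F : FusionSystem S}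
  {E₁ : FusionSystem T₁} {E₂ : FusionSystem T₂} {p : ℕ} [Fact p.Prime] [Finite S]

/-- A normal subsystem over `T` whose maps fix a normal subgroup commuting with `T`. -/
theorem exists_fixing (hS : IsPGroup p S) (hF : F.IsSaturated p) (hE : E₁.IsNormalIn F p)
    {Q : Subgroup Ω} (hQ : F.IsNormal Q) (hcomm : ∀ x ∈ T₁, ∀ q ∈ Q, q * x = x * q) :
    ∃ M : FusionSystem T₁, M.IsNormalIn F p ∧ Q ⊓ T₁ ≤ M.center := by
  have hTS : T₁ ≤ S := hE.1.2.2.2.1.1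
  have := finite_le hTS
  have := finite_le (centralizerIn_le (S := S) Q)
  have hTC : T₁ ≤ centralizerIn S Q := fun x hx => mem_centralizerIn.2 ⟨hTS hx, hcomm x hx⟩
  obtain ⟨M, ⟨hMF, -, hMC⟩, -⟩ :=
    Meet.Data.exists_meet ⟨hS, hF, hE, centSystem_isNormalIn hS hF hQ⟩
  have hbase : T₁ ⊓ centralizerIn S Q = T₁ := inf_eq_left.2 hTC
  suffices h : ∀ {W : Subgroup Ω} (D : FusionSystem W), W = T₁ → D.IsNormalIn F p →
      (∀ P : Subgroup Ω, D.Hom P ⊆ F.centralizerHom Q P) →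
      ∃ M : FusionSystem T₁, M.IsNormalIn F p ∧ Q ⊓ T₁ ≤ M.center from
    h M hbase hMF hMC.1.2.2.1
  intro W D hW hDn hDc
  subst hW
  refine ⟨D, hDn, le_center ((isCentral_iff (hS.to_le hTS) hDn.1.1).2
    ⟨inf_le_right, fun x hx y hy => ?_⟩)⟩
  obtain ⟨φ, hφ, rfl⟩ := hy
  obtain ⟨-, -, -, ψ, -, hψP, hψQ⟩ := hDc _ hφ
  rw [← hψP]
  exact (congrArg ψ (Subtype.ext rfl)).trans (hψQ ⟨x, hx.1⟩)

/-- Two normal subsystems over commuting bases give a normal subsystem over the product. -/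
theorem exists_commuting_product (hS : IsPGroup p S) (hF : F.IsSaturated p)
    (h₁ : E₁.IsNormalIn F p) (h₂ : E₂.IsNormalIn F p)
    (hc : ∀ x ∈ T₁, ∀ y ∈ T₂, x * y = y * x) :
    ∃ D : FusionSystem (T₁ ⊔ T₂), D.IsNormalIn F p ∧
      (T₁ ⊓ T₂ ≤ E₁.center → T₁ ⊓ T₂ ≤ E₂.center → IsCentralProductOf E₁ E₂ D) := by
  by_cases hcen : T₁ ⊓ T₂ ≤ E₁.center ∧ T₁ ⊓ T₂ ≤ E₂.center
  · have h : CData p F E₁ E₂ := ⟨hS, hF, h₁, h₂, hc, hcen.1, hcen.2⟩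
    exact ⟨h.prodC, h.prodC_normal, fun _ _ => h.prodC_centralProduct⟩
  have hs₁ := h₁.1.2.2.2.1
  have hs₂ := h₂.1.2.2.2.1
  have hUn : F.IsNormal (T₁ ⊓ T₂) := isNormal_of_stronglyClosed_abelian hS hF
    ⟨inf_le_left.trans hs₁.1, fun R hR φ hφ x =>
      ⟨hs₁.2 R (hR.trans inf_le_left) φ hφ x, hs₂.2 R (hR.trans inf_le_right) φ hφ x⟩⟩
    ⟨⟨fun a b => Subtype.ext (hc a a.2.1 b b.2.2)⟩⟩
  obtain ⟨M₁, hM₁, hM₁c⟩ := exists_fixing hS hF h₁ hUn fun x hx q hq => (hc x hx q hq.2).symm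
  obtain ⟨M₂, hM₂, hM₂c⟩ := exists_fixing hS hF h₂ hUn fun y hy q hq => hc q hq.1 y hy
  have h : CData p F M₁ M₂ := ⟨hS, hF, hM₁, hM₂, hc, fun u hu => hM₁c ⟨hu, hu.1⟩,
    fun u hu => hM₂c ⟨hu, hu.2⟩⟩
  exact ⟨h.prodC, h.prodC_normal, fun hc₁ hc₂ => absurd ⟨hc₁, hc₂⟩ hcen⟩

end CfsgLib.Fusion.Central
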