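import Cfsg.Agent.Lib.Fusion.SubnormalConstrained
import Cfsg.Agent.Lib.Fusion.Factor

/-!
A constrained system modulo a central subgroup is constrained.
-/

set_option autoImplicit false

namespace CfsgLib.Fusion

open Cfsg Cfsg.FusionSystem

variable {Ω Ω' : Type*} [Group Ω] [Group Ω'] {S : Subgroup Ω} {F : FusionSystem S} {p : ℕ}
  {θ : S →* Ω'} {S' : Subgroup Ω'} {E : FusionSystem S'}

theorem imageAlong_sup {P Q : Subgroup Ω} (hP : P ≤ S) (hQ : Q ≤ S) :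
    imageAlong θ (P ⊔ Q) = imageAlong θ P ⊔ imageAlong θ Q := by
  rw [imageAlong, Subgroup.subgroupOf_sup hP hQ, Subgroup.map_sup]
  rfl

/-- The image of a normal subgroup is normal in a factor system. -/
theorem isNormal_imageAlong [Fact p.Prime] [Finite S] (hS : IsPGroup p S) (hF : F.IsSaturated p)
    {T : Subgroup Ω} (hT : F.StronglyClosed T) (hE : F.IsFactorSystem T θ E) {Q : Subgroup Ω}
    (hQ : F.IsNormal Q) : E.IsNormal (imageAlong θ Q) := by
  obtain ⟨⟨-, hmor⟩, -, -⟩ := factor_isSurjectiveMorphism hS hF hT hE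
  obtain ⟨-, hθ, hS', hiff⟩ := hE
  refine ⟨(Subgroup.map_le_range _ _).trans hS'.le, fun P' φ' hφ' => ?_⟩
  have h0 := (hiff P' φ').1 hφ'
  set P := preimageAlong θ P'
  obtain ⟨hP', φ, hφ, hind⟩ := h0
  have hPS : P ≤ S := preimageAlong_le θ P'
  obtain ⟨ψ, hψ, hψP, hψQ⟩ := hQ.2 P φ hφ
  obtain ⟨ψ', hψ', hP₀, hψS, hm, hv⟩ := hmor _ ψ hψ
  have hle : P' ≤ θ.range := hP'.trans hS'.ge
  have heq : imageAlong θ (P ⊔ Q) = P' ⊔ imageAlong θ Q := by
    rw [imageAlong_sup hPS hQ.1, imageAlong_preimageAlong hle]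
  refine ⟨ψ'.comp (Subgroup.inclusion heq.ge), restrict_mem hψ' heq.ge, fun y => ?_, ?_⟩
  · obtain ⟨x, hx⟩ := exists_preimage hle y
    obtain ⟨hP₁, hφS, hm₁, hv₁⟩ := hind
    calc ψ' _ = ψ' ⟨θ ⟨(x : Ω), hP₁ x.2⟩, hm (Subgroup.inclusion le_sup_left x)⟩ :=
          congrArg ψ' (Subtype.ext hx.symm)
      _ = θ ⟨ψ (Subgroup.inclusion le_sup_left x), hψS _⟩ := hv (Subgroup.inclusion le_sup_left x)
      _ = θ ⟨φ x, hφS x⟩ := congrArg θ (Subtype.ext (hψP x))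
      _ = φ' y := by
          rw [← hv₁ x]
          exact congrArg φ' (Subtype.ext hx)
  · ext y
    constructor
    · rintro ⟨z, ⟨q, hq, hqz⟩, rfl⟩
      refine ⟨⟨ψ ⟨q, Subgroup.mem_sup_right hq⟩, hψS _⟩, hψQ.le ⟨_, hq, rfl⟩, ?_⟩
      rw [← hv]
      exact congrArg ψ' (Subtype.ext hqz)
    · rintro ⟨q, hq, rfl⟩
      obtain ⟨w, hw, hwq⟩ := hψQ.ge hq
      have hwS : (w : Ω) ∈ S := hQ.1 hw
      refine ⟨⟨θ ⟨w, hwS⟩, Subgroup.mem_sup_right ⟨⟨w, hwS⟩, hw, rfl⟩⟩, ⟨⟨w, hwS⟩, hw, rfl⟩, ?_⟩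
      exact ((hv w)).trans (congrArg θ (Subtype.ext hwq))

/-- A constrained system modulo a central subgroup is constrained. -/
theorem isConstrained_factor_central [Fact p.Prime] [Finite S] (hS : IsPGroup p S)
    (hF : F.IsConstrained p) {Z : Subgroup Ω} (hZ : F.IsCentral Z)
    (hE : F.IsFactorSystem Z θ E) : E.IsConstrained p := by
  obtain ⟨hQn, hQc⟩ := exists_normal_centric_core hF
  have hFsat := hF.1
  have hZn := isCentral_isNormal hZ
  have hZsc := IsNormal.stronglyClosed hZn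
  set Q := F.core
  have hQS : Q ≤ S := hQn.1
  have := finite_le hQS
  have hEn := isNormal_imageAlong hS hFsat hZsc hE hQn
  refine ⟨factor_saturated hS hFsat hZsc hE, _, hEn, hEn.1, fun R hR => ?_⟩
  obtain ⟨hZS, hθ, hS', -⟩ := hE
  have : Finite S' := hS' ▸ (Finite.of_surjective θ.rangeRestrict θ.rangeRestrict_surjective)
  obtain ⟨φ', hφ', hr⟩ := hR
  obtain rfl : R = imageAlong θ Q :=
    hr.symm.trans ((StronglyClosed.weaklyClosed (IsNormal.stronglyClosed hEn)).2 φ' hφ')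
  intro c hc
  obtain ⟨hcS, hcc⟩ := mem_centralizerIn.1 hc
  obtain ⟨s, rfl⟩ := hS'.ge hcS
  have hzfix : ∀ α ∈ F.autGroup Q, ∀ q : Q, (q : Ω) ∈ Z → α q = q := fun α hα q hq =>
    Subtype.ext (((isCentral_iff hS hFsat).1 hZ).2 q hq _
      (isConjElt_of_hom ((mem_autGroup_iff hQS).1 hα) q))
  let K : Subgroup (MulAut Q) :=
    { carrier := {α | α ∈ F.autGroup Q ∧ ∀ q : Q, ((q⁻¹ * α q : Q) : Ω) ∈ Z}
      one_mem' := ⟨one_mem _, fun q => by simp⟩
      mul_mem' := by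
        rintro a b ⟨haF, ha⟩ ⟨hbF, hb⟩
        refine ⟨mul_mem haF hbF, fun q => ?_⟩
        have e : q⁻¹ * (a * b) q = q⁻¹ * a q * a (q⁻¹ * b q) := by
          rw [MulAut.mul_apply, map_mul, map_inv]; group
        rw [e, hzfix a haF _ (hb q), Subgroup.coe_mul]
        exact Z.mul_mem (ha q) (hb q)
      inv_mem' := by
        rintro a ⟨haF, ha⟩
        refine ⟨inv_mem haF, fun q => ?_⟩
        have h := Z.inv_mem (ha (a⁻¹ q))
        rw [MulAut.apply_inv_self, ← Subgroup.coe_inv, mul_inv_rev, inv_inv] at h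
        exact h }
  have hsQ : (s : Ω) ∈ Q := by
    refine mem_core_of_centric hS hFsat hQn hQc K (fun α hα => hα.1) ?_ ?_ s.2 ?_
    · rintro α hα κ ⟨hκF, hκ⟩
      refine ⟨mul_mem (mul_mem hα hκF) (inv_mem hα), fun q => ?_⟩
      have h := StronglyClosed.apply_mem hZsc ((mem_autGroup_iff hQS).1 hα)
        (x := (α⁻¹ q)⁻¹ * κ (α⁻¹ q)) (hκ (α⁻¹ q))
      have e : α ((α⁻¹ q)⁻¹ * κ (α⁻¹ q)) = q⁻¹ * (α * κ * α⁻¹) q := by
        rw [map_mul, map_inv, MulAut.apply_inv_self]; rfl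
      rw [← e]
      exact h
    · intro κ
      let N : Fin 3 → Subgroup Q := ![⊥, Z.subgroupOf Q, ⊤]
      obtain ⟨k, hk⟩ := exists_pow_eq_one_of_stabilizes (hS.to_le hQS) N rfl rfl (κ : MulAut Q)
        (fun i y hy => by
          fin_cases i
          · simp only [N] at hy ⊢; simp at hy ⊢; simp [hy]
          · show ((κ : MulAut Q) y : Ω) ∈ Z
            rw [hzfix _ κ.2.1 y hy]; exact hy
          · exact Subgroup.mem_top _)
        (fun i y hy => by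
          fin_cases i
          · show y⁻¹ * (κ : MulAut Q) y ∈ (⊥ : Subgroup Q)
            rw [hzfix _ κ.2.1 y hy, inv_mul_cancel]; exact one_mem _
          · exact κ.2.2 y)
      exact ⟨k, Subtype.ext hk⟩
    · have hsN : (s : Ω) ∈ Subgroup.normalizer (Q : Set Ω) := IsNormal.normal_in hQn s.2
      refine ⟨conjAut (⟨s, s.2, hsN⟩ : normalizerIn S Q),
        ⟨autInducedBy_le_autGroup hQS (conjAut_mem _), fun q => ?_⟩, fun q => rfl⟩
      have hcomm := hcc _ ⟨⟨q, hQS q.2⟩, q.2, rfl⟩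
      refine (hθ ((⟨q, hQS q.2⟩ : S)⁻¹ * (s * ⟨q, hQS q.2⟩ * s⁻¹))).1 ?_
      rw [map_mul, map_mul, map_mul, map_inv, map_inv, ← hcomm, mul_inv_cancel_right,
        inv_mul_cancel]
  exact ⟨s, hsQ, rfl⟩

end CfsgLib.Fusion
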