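import Cfsg.Agent.Lib.Fusion.InnerBasic
import Cfsg.Agent.Lib.Fusion.Factor
import Cfsg.Agent.Lib.Fusion.HyperfocalGen
import Cfsg.Agent.Lib.Fusion.RadicalNormalizer
import Cfsg.Agent.Lib.PGroups.Basic

/-!
Inner systems and factor systems.
-/

set_option autoImplicit false

namespace CfsgLib.Fusion

open Cfsg Cfsg.FusionSystem

variable {Ω : Type*} [Group Ω] {S : Subgroup Ω} {F : FusionSystem S} {p : ℕ}

/-- An automorphism of order prime to `p` inducing conjugation by a `p`-element is trivial there. -/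
theorem eq_of_conj_on [Fact p.Prime] {R : Type*} [Group R] {G : Type*} [Group G] (f : R → G)
    {s : Set R} {b : MulAut R} (hs : ∀ x ∈ s, b x ∈ s) (hb : (orderOf b).Coprime p) {g : G} {k : ℕ}
    (hg : g ^ p ^ k = 1) (h : ∀ x ∈ s, f (b x) = g * f x * g⁻¹) : ∀ x ∈ s, f (b x) = f x := by
  have hpow : ∀ (i : ℕ) (x : R), x ∈ s → (b ^ i) x ∈ s ∧ f ((b ^ i) x) = g ^ i * f x * (g ^ i)⁻¹ := by
    intro i
    induction i with
    | zero => intro x hx; simpa using hx
    | succ i ih =>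
        intro x hx
        obtain ⟨h1, h2⟩ := ih x hx
        rw [pow_succ', MulAut.mul_apply]
        refine ⟨hs _ h1, ?_⟩
        rw [h _ h1, h2, pow_succ']
        group
  have hfix : ∀ (i : ℕ) (x : R), x ∈ s →
      ((b ^ p ^ k) ^ i) x ∈ s ∧ f (((b ^ p ^ k) ^ i) x) = f x := by
    intro i x hx
    rw [← pow_mul]
    refine ⟨(hpow _ x hx).1, ?_⟩
    rw [(hpow _ x hx).2, pow_mul, hg, one_pow]
    simp
  obtain ⟨m, hm⟩ := exists_pow_eq_self_of_coprime (x := b) ((hb.pow_right k).symm)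
  intro x hx
  conv_lhs => rw [← hm]
  exact (hfix m x hx).2

/-- An automorphism of order prime to `p` fixing `Q` and congruent to `1` modulo `Q` is trivial. -/
theorem eq_one_of_fix_mod [Fact p.Prime] (hS : IsPGroup p S) {R Q : Subgroup Ω} (hR : R ≤ S)
    {b : MulAut R} (hb : (orderOf b).Coprime p) (hfix : ∀ x : R, (x : Ω) ∈ Q → b x = x)
    (hmod : ∀ x : R, (x : Ω)⁻¹ * (b x : Ω) ∈ Q) : b = 1 := by
  refine MulEquiv.ext fun x => ?_
  set d : R := x⁻¹ * b x with hd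
  have hdQ : (d : Ω) ∈ Q := hmod x
  have hbx : b x = x * d := (mul_inv_cancel_left x (b x)).symm
  have hpow : ∀ i : ℕ, (b ^ i) x = x * d ^ i := by
    intro i
    induction i with
    | zero => simp
    | succ i ih =>
        rw [pow_succ', MulAut.mul_apply, ih, map_mul, map_pow, hfix d hdQ, hbx, mul_assoc,
          ← pow_succ']
  have h1 := hpow (orderOf b)
  rw [pow_orderOf_eq_one, MulAut.one_apply, left_eq_mul] at h1
  obtain ⟨k, hk⟩ := (hS.to_le hR) d
  have h2 : d = 1 := orderOf_eq_one_iff.1 (Nat.eq_one_of_dvd_coprimes (hb.pow_right k).symm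
    (orderOf_dvd_of_pow_eq_one hk) (orderOf_dvd_of_pow_eq_one h1))
  rw [hbx, h2, mul_one]
  rfl

section

variable {Ω' : Type*} [Group Ω'] {θ : S →* Ω'} {T : Subgroup Ω} {S' : Subgroup Ω'}
  {E : FusionSystem S'}

theorem mem_normalizer_preimageAlong {θ : S →* Ω'} {Y' : Subgroup Ω'} {x : S}
    (hx : θ x ∈ Subgroup.normalizer (Y' : Set Ω')) :
    (x : Ω) ∈ Subgroup.normalizer (preimageAlong θ Y' : Set Ω) := by
  have key : ∀ x : S, θ x ∈ Subgroup.normalizer (Y' : Set Ω') →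
      ∀ y ∈ preimageAlong θ Y', (x : Ω) * y * (x : Ω)⁻¹ ∈ preimageAlong θ Y' := by
    intro x hx y hy
    have hyS := preimageAlong_le θ Y' hy
    refine (mem_preimageAlong (θ := θ) (x := x * ⟨y, hyS⟩ * x⁻¹)).2 ?_
    rw [map_mul, map_mul, map_inv]
    exact (Subgroup.mem_normalizer_iff.1 hx _).1 ((mem_preimageAlong (x := ⟨y, hyS⟩)).1 hy)
  refine Subgroup.mem_normalizer_iff.2 fun y => ⟨key x hx y, fun hy => ?_⟩
  have h := key x⁻¹ (by rw [map_inv]; exact inv_mem hx) _ hy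
  simpa [mul_assoc] using h

theorem le_normalizer_preimageAlong (hS' : θ.range = S') {Y' : Subgroup Ω'}
    (h : S' ≤ Subgroup.normalizer (Y' : Set Ω')) :
    S ≤ Subgroup.normalizer (preimageAlong θ Y' : Set Ω) := fun x hx =>
  mem_normalizer_preimageAlong (x := ⟨x, hx⟩) (h (hS' ▸ ⟨_, rfl⟩))

theorem lt_preimageAlong (hTS : T ≤ S) (hθ : ∀ s : S, θ s = 1 ↔ (s : Ω) ∈ T) {Y' : Subgroup Ω'}
    (hY : Y' ≤ θ.range) (hne : Y' ≠ ⊥) : T < preimageAlong θ Y' := by
  refine lt_of_le_of_ne (ker_le_preimageAlong hTS hθ Y') fun h => hne ((Subgroup.eq_bot_iff_forall _).2 ?_)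
  intro y hy
  obtain ⟨x, rfl⟩ := hY hy
  exact (hθ x).2 (h.ge (mem_preimageAlong.2 hy))

/-- Triviality of `p'`-automorphisms passes to factor systems. -/
theorem locTriv_factor [Fact p.Prime] [Finite S] (hE : F.IsFactorSystem T θ E)
    {Y' : Subgroup Ω'} (h : LocTriv F p (preimageAlong θ Y')) : LocTriv E p Y' := by
  obtain ⟨hTS, hθ, hS', hiff⟩ := hE
  intro R' hYR hR b' hb' hc hbY
  have hR'S : R' ≤ S' := hR.trans inf_le_left
  obtain ⟨-, hb''⟩ := (hiff R' _).1 ((mem_autGroup_iff hR'S).1 hb')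
  set R := preimageAlong θ R' with hRdef
  have hRS : R ≤ S := preimageAlong_le θ R'
  obtain ⟨φ, hφ, hPS, hφS, hm, hv⟩ := hb''
  have := finite_le hRS
  have := finite_mulAut_of_le (S := S) hRS
  have hr : φ.range = R := Subgroup.eq_of_le_of_card_ge
    (by
      rintro _ ⟨x, rfl⟩
      exact (mem_preimageAlong (x := ⟨φ x, hφS x⟩)).2 ((hv x).subst (motive := (· ∈ R')) (b' _).2))
    (le_of_eq (Nat.card_congr (MonoidHom.ofInjective (F.injective_of_mem hφ)).toEquiv))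
  obtain ⟨e, he, hev⟩ := exists_iso hφ hr
  set b : MulAut R := e with hbdef
  have hb : b ∈ F.autGroup R := (mem_autGroup_iff_isoIn hRS).2 he
  have hpow : ∀ (i : ℕ) (x : R), θ ⟨((b ^ i) x : R), hRS ((b ^ i) x).2⟩ =
      ((b' ^ i) ⟨θ ⟨x, hPS x.2⟩, hm x⟩ : R') := by
    intro i
    induction i with
    | zero => intro x; rfl
    | succ i ih =>
        intro x
        have h1 : (⟨(((b ^ (i + 1)) x : R) : Ω), hRS ((b ^ (i + 1)) x).2⟩ : S) =
            ⟨φ ((b ^ i) x), hφS _⟩ := Subtype.ext (by rw [pow_succ', MulAut.mul_apply]; exact hev _)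
        rw [h1, ← hv ((b ^ i) x), pow_succ', MulAut.mul_apply]
        exact congrArg (fun z => ((b' z : R') : Ω')) (Subtype.ext (ih x))
  obtain ⟨n, hn, hnc⟩ := exists_coprime_pow b (orderOf_pos b) hc
  have hbn : b' ^ n = b' := hn b' (pow_orderOf_eq_one b')
  have h1 : b ^ n = 1 := by
    refine h R (preimageAlong_mono hYR) (fun x hx => ⟨hRS hx,
      mem_normalizer_preimageAlong (x := ⟨x, hRS hx⟩) (hR (mem_preimageAlong.1 hx)).2⟩)
      _ (pow_mem hb n) hnc fun x hx => ?_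
    refine (mem_preimageAlong (x := ⟨_, hRS ((b ^ n) x).2⟩)).2 ?_
    rw [hpow n x, hbn]
    exact hbY ⟨_, hm x⟩ ((mem_preimageAlong (θ := θ) (x := ⟨x, hPS x.2⟩)).1 hx)
  refine MulEquiv.ext fun y => ?_
  obtain ⟨x, hx⟩ := exists_preimage (θ := θ) (hR'S.trans hS'.ge) y
  obtain rfl : (⟨_, hm x⟩ : R') = y := Subtype.ext hx
  have h2 := hpow n x
  simp only [h1, MulAut.one_apply] at h2
  rw [hbn] at h2
  exact Subtype.ext h2.symm

/-- The image of a strongly closed subgroup in a factor system is strongly closed. -/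
theorem stronglyClosed_imageAlong [Finite S] (hE : F.IsFactorSystem T θ E)
    (hT : F.StronglyClosed T) {D : Subgroup Ω} (hD : F.StronglyClosed D) :
    E.StronglyClosed (imageAlong θ D) := by
  obtain ⟨hTS, hθ, hS', hiff⟩ := hE
  refine ⟨(Subgroup.map_le_range _ _).trans hS'.le, fun R' hR' φ' hφ' y => ?_⟩
  obtain ⟨hR'S, φ, hφ, hPS, hφS, hm, hv⟩ := (hiff R' φ').1 hφ'
  obtain ⟨d, hd, hdy⟩ := hR' y.2
  have hdP : (d : Ω) ∈ preimageAlong θ R' := mem_preimageAlong.2 (hdy ▸ y.2)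
  obtain rfl : y = ⟨θ ⟨d, hPS hdP⟩, hm ⟨d, hdP⟩⟩ := Subtype.ext hdy.symm
  rw [hv ⟨d, hdP⟩]
  exact ⟨_, StronglyClosed.apply_mem hD hφ (x := ⟨(d : Ω), hdP⟩) hd, rfl⟩

/-- If every automorphism acts on the normal `Q` as an element of `S` and the factor system is
inner, then so is the system. -/
theorem inner_of_factor_inner [Fact p.Prime] [Finite S] (hS : IsPGroup p S) (hF : F.IsSaturated p)
    {Q : Subgroup Ω} (hQ : F.IsNormal Q)
    (hact : ∀ R : Subgroup Ω, Q ≤ R → R ≤ S → ∀ b ∈ F.autGroup R, ∃ g ∈ S,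
      ∀ x : R, (x : Ω) ∈ Q → ((b x : R) : Ω) = g * (x : Ω) * g⁻¹)
    (hE : F.IsFactorSystem Q θ E) (hinn : E = innerFusionSystem S') : F = innerFusionSystem S := by
  have hQsc := IsNormal.stronglyClosed hQ
  refine eq_inner_over hS hF hQ fun R hQR hRS b hb hc => ?_
  have hbh := (mem_autGroup_iff hRS).1 hb
  obtain ⟨φ', hφ', hP, hφS, hm, hv⟩ :=
    (factor_isSurjectiveMorphism hS hF hQsc hE).1.2 R _ hbh
  obtain ⟨hTS, hθ, hS', -⟩ := hE
  subst hinn
  obtain ⟨-, g', hg', hgv⟩ := hφ'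
  obtain ⟨s, rfl⟩ := hS'.ge hg'
  obtain ⟨k, hk⟩ := hS s
  refine eq_one_of_fix_mod (Q := Q) hS hRS hc (fun x hx => ?_) fun x => ?_
  · obtain ⟨g, hg, hgQ⟩ := hact R hQR hRS b hb
    obtain ⟨l, hl⟩ := hS ⟨g, hg⟩
    exact Subtype.ext (eq_of_conj_on (fun x : R => (x : Ω)) (s := {x : R | (x : Ω) ∈ Q})
      (fun y hy => StronglyClosed.apply_mem hQsc hbh hy) hc
      (show g ^ p ^ l = 1 by simpa using congrArg Subtype.val hl) hgQ x hx)
  · have h := eq_of_conj_on (fun x : R => θ ⟨x, hRS x.2⟩) (s := Set.univ) (fun _ _ => trivial) hc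
      (show θ s ^ p ^ k = 1 by rw [← map_pow, hk, map_one])
      (fun y _ => (hv y).symm.trans (hgv _)) x trivial
    have h1 : θ ((⟨x, hRS x.2⟩ : S)⁻¹ * ⟨(b x : R), hRS (b x).2⟩) = 1 := by
      rw [map_mul, map_inv, inv_mul_eq_one]
      exact h.symm
    exact (hθ _).1 h1

end

end CfsgLib.Fusion
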