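import Cfsg.Agent.Lib.Fusion.Focal
import Cfsg.Agent.Lib.Fusion.Transport
import Cfsg.Agent.Lib.Fusion.NormalSubgroup
import Cfsg.Agent.Lib.Transfer.Fusion

/-!
# The hyperfocal subgroup
-/

set_option autoImplicit false

namespace CfsgLib.Fusion

open Cfsg Cfsg.FusionSystem
open scoped commutatorElement

variable {Ω : Type*} [Group Ω] {S : Subgroup Ω} {F : FusionSystem S} {p : ℕ}

theorem hyperfocal_le : F.hyperfocalSubgroup p ≤ S := by
  rw [FusionSystem.hyperfocalSubgroup, Subgroup.closure_le]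
  rintro _ ⟨P, α, x, hP, -, rfl⟩
  exact S.mul_mem (S.inv_mem (hP x.2)) (hP ((α : MulAut P) x).2)

theorem hyperfocal_mono [Finite S] {T : Subgroup Ω} {E : FusionSystem T}
    (hE : E.IsSubsystemOf F) (hTS : T ≤ S) :
    E.hyperfocalSubgroup p ≤ F.hyperfocalSubgroup p := by
  rw [FusionSystem.hyperfocalSubgroup, Subgroup.closure_le]
  rintro _ ⟨P, α, x, hP, hα, rfl⟩
  have hle : E.autGroup P ≤ F.autGroup P := fun β hβ =>
    (mem_autGroup_iff (hP.trans hTS)).2 (hE P ((mem_autGroup_iff hP).1 hβ))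
  exact Subgroup.subset_closure ⟨P, Subgroup.inclusion hle α, x, hP.trans hTS,
    Transfer.map_pResidual_le _ ⟨α, hα, rfl⟩, rfl⟩

/-- `S` normalizes the hyperfocal subgroup. -/
theorem hyperfocal_conj_mem {s : Ω} (hs : s ∈ S) {y : Ω} (hy : y ∈ F.hyperfocalSubgroup p) :
    s * y * s⁻¹ ∈ F.hyperfocalSubgroup p := by
  have hle : F.hyperfocalSubgroup p ≤
      (F.hyperfocalSubgroup p).comap (MulAut.conj s).toMonoidHom := by
    conv_lhs => rw [FusionSystem.hyperfocalSubgroup]
    rw [Subgroup.closure_le]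
    rintro _ ⟨P, α, x, hP, hα, rfl⟩
    set P' := P.map (MulAut.conj s).toMonoidHom
    let e : P ≃* P' := Subgroup.equivMapOfInjective P _ (MulAut.conj s).injective
    have he : IsoIn F e :=
      (conj_mem' hP hs fun _ => rfl : (isoHom e) ∈ F.Hom P)
    let h : F.autGroup P →* F.autGroup P' :=
      ((MulAut.congr e).toMonoidHom.comp (F.autGroup P).subtype).codRestrict _
        fun a => he.congr_autGroup.le ⟨a, a.2, rfl⟩
    refine Subgroup.subset_closure ⟨P', h α, e x, he.le_right,
      Transfer.map_pResidual_le h ⟨α, hα, rfl⟩, ?_⟩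
    show s * ((x : Ω)⁻¹ * ((α : MulAut P) x : P)) * s⁻¹ = (e x : Ω)⁻¹ * (e ((α : MulAut P) (e.symm (e x))) : Ω)
    rw [MulEquiv.symm_apply_apply]
    show _ = (s * (x : Ω) * s⁻¹)⁻¹ * (s * (((α : MulAut P) x : P) : Ω) * s⁻¹)
    group
  exact hle hy

/-- The maps preserving membership in `T`. -/
def membSystem (F : FusionSystem S) (T : Subgroup Ω) (hT : ∀ s ∈ S, ∀ y ∈ T, s * y * s⁻¹ ∈ T) :
    FusionSystem S where
  Hom P := {φ | φ ∈ F.Hom P ∧ ∀ x : P, (x : Ω) ∈ T ↔ φ x ∈ T}
  le_of_mem h := F.le_of_mem h.1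
  injective_of_mem h := F.injective_of_mem h.1
  conj_mem {P g} hP hg := ⟨F.conj_mem hP hg, fun x => ⟨fun hx => hT g hg _ hx, fun hx => by
    simpa [conjHom, mul_assoc] using hT g⁻¹ (S.inv_mem hg) _ hx⟩⟩
  comp_mem := by
    rintro P Q φ ψ ⟨hφ, hv⟩ ⟨hψ, hw⟩ h
    exact ⟨F.comp_mem hφ hψ h, fun x => (hv x).trans (hw ⟨φ x, h x⟩)⟩
  inv_mem := by
    rintro P φ ⟨hφ, hv⟩
    obtain ⟨ψ, hψ, hψv⟩ := F.inv_mem hφ
    refine ⟨ψ, ⟨hψ, ?_⟩, hψv⟩
    rintro ⟨_, x, rfl⟩
    show φ x ∈ T ↔ ψ ⟨φ x, ⟨x, rfl⟩⟩ ∈ T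
    rw [hψv x]
    exact (hv x).symm

theorem hyperfocal_stronglyClosed [Fact p.Prime] [Finite S] (hS : IsPGroup p S)
    (hF : F.IsSaturated p) : F.StronglyClosed (F.hyperfocalSubgroup p) := by
  set T := F.hyperfocalSubgroup p
  have hT : ∀ s ∈ S, ∀ y ∈ T, s * y * s⁻¹ ∈ T := fun s hs y hy => hyperfocal_conj_mem hs hy
  have hle : F ≤ membSystem F T hT := by
    refine alperin hS hF _ fun P hP α hα => ?_
    have hPn : F.IsFullyNormalized P := by
      rcases hP with rfl | h
      · exact isFullyNormalized_self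
      · exact h.2.1
    have hPS := hPn.1
    have := finite_mulAut_of_le (S := S) hPS
    obtain ⟨R, hR⟩ := (IsSaturated.fullyAutomized hS hF hPn).2
    obtain ⟨a, ha, k, hk, hak⟩ := Transfer.exists_mul_mem_pResidual R (⟨α, hα⟩ : F.autGroup P)
    rw [hR] at ha
    obtain ⟨g, hg, hgv⟩ := mem_autInducedBy_iff.1 (Subgroup.mem_subgroupOf.1 ha)
    refine (mem_autGroup_iff hPS).2 ⟨(mem_autGroup_iff hPS).1 hα, fun x => ?_⟩
    set y : P := (k : MulAut P) x with hy
    have h1 : (x : Ω)⁻¹ * (y : Ω) ∈ T := Subgroup.subset_closure ⟨P, k, x, hPS, hk, rfl⟩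
    have h3 : ((α x : P) : Ω) = g * (y : Ω) * g⁻¹ := by
      rw [← hgv y, hy]
      exact congrArg (fun z : MulAut P => ((z x : P) : Ω)) (congrArg Subtype.val hak)
    show (x : Ω) ∈ T ↔ ((α x : P) : Ω) ∈ T
    rw [h3]
    constructor
    · intro hx
      refine hT g hg _ ?_
      simpa using T.mul_mem hx h1
    · intro hx
      have hy' : (y : Ω) ∈ T := by simpa [mul_assoc] using hT g⁻¹ (S.inv_mem hg) _ hx
      simpa using T.mul_mem hy' (T.inv_mem h1)
  exact ⟨hyperfocal_le, fun R hR φ hφ x => ((hle R hφ).2 x).1 (hR x.2)⟩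

section GroupCase

variable {G : Type*} [Group G] [Finite G] [Fact p.Prime]

/-- The hyperfocal subgroup theorem. -/
theorem hyperfocal_group (S : Sylow p G) :
    (groupFusionSystem (S : Subgroup G)).hyperfocalSubgroup p =
      (S : Subgroup G) ⊓ pResidual p G := by
  refine le_antisymm ?_ ?_
  · rw [FusionSystem.hyperfocalSubgroup, Subgroup.closure_le]
    rintro _ ⟨P, α, x, hP, hα, rfl⟩
    refine ⟨Subgroup.mul_mem _ (Subgroup.inv_mem _ (hP x.2)) (hP ((α : MulAut P) x).2), ?_⟩
    let h : Subgroup.normalizer (P : Set G) →* (groupFusionSystem (S : Subgroup G)).autGroup P :=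
      P.normalizerMonoidHom.codRestrict _ fun n => by
        rw [groupFusion_autGroup hP]
        exact mem_autInducedBy_iff.2 ⟨n, trivial, fun _ => rfl⟩
    have hsurj : Function.Surjective h := fun β => by
      obtain ⟨n, -, hn⟩ := mem_autInducedBy_iff.1 ((groupFusion_autGroup hP).le β.2)
      exact ⟨⟨n, mem_normalizer_of_conj_eq (β : MulAut P) hn⟩,
        Subtype.ext (MulEquiv.ext fun y => Subtype.ext (hn y).symm)⟩
    rw [← Transfer.map_pResidual_of_surjective h hsurj] at hα
    obtain ⟨k, hk, rfl⟩ := hα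
    have hkG : (k : G) ∈ pResidual p G := Transfer.map_subtype_pResidual_le _ ⟨k, hk, rfl⟩
    show (x : G)⁻¹ * ((k : G) * (x : G) * (k : G)⁻¹) ∈ pResidual p G
    have := Subgroup.mul_mem _ ((inferInstance : (pResidual p G).Normal).conj_mem _ hkG (x : G)⁻¹) (Subgroup.inv_mem _ hkG)
    simpa [mul_assoc] using this
  · set H := pResidual p G
    set T := (S : Subgroup G) ⊓ H
    have hTsyl : IsSylowIn p T H := isSylowIn_inf_normal S H
    have hTH : T ≤ H := inf_le_right
    set E := fusionSystemOfSubgroup H T hTH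
    have hEsat := fusionSystemOfSubgroup_saturated hTH hTsyl
    have hTp : IsPGroup p T := S.isPGroup'.to_le inf_le_left
    have hsub : E.IsSubsystemOf (groupFusionSystem (S : Subgroup G)) := by
      rintro P φ ⟨hP, hφ, g, -, hg⟩
      exact ⟨hP.trans inf_le_left, fun x => (hφ x).1, g, hg⟩
    -- `T` lies in the derived subgroup of `H`
    have hfoc : T ≤ E.focalSubgroup := by
      intro t ht
      obtain ⟨R, hR⟩ := hTsyl
      have htR : (⟨t, hTH ht⟩ : H) ∈ (R : Subgroup H) := by rw [hR]; exact ht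
      have hcomm : (⟨t, hTH ht⟩ : H) ∈ _root_.commutator H := by
        let π : H →* H ⧸ _root_.commutator H := QuotientGroup.mk' _
        have htop : pResidual p (H ⧸ _root_.commutator H) = ⊤ := by
          rw [← Transfer.map_pResidual_of_surjective π QuotientGroup.mk_surjective,
            Transfer.pResidual_pResidual, ← MonoidHom.range_eq_map]
          exact MonoidHom.range_eq_top.2 QuotientGroup.mk_surjective
        let C : Subgroup (H ⧸ _root_.commutator H) :=
          { carrier := {q | Nat.Coprime (orderOf q) p}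
            one_mem' := by simp
            mul_mem' := fun {a b} ha hb => by
              have hab : Commute a b := by
                obtain ⟨a, rfl⟩ := QuotientGroup.mk_surjective a
                obtain ⟨b, rfl⟩ := QuotientGroup.mk_surjective b
                show (QuotientGroup.mk a : H ⧸ _root_.commutator H) * QuotientGroup.mk b =
                  QuotientGroup.mk b * QuotientGroup.mk a
                rw [← QuotientGroup.mk_mul, ← QuotientGroup.mk_mul, QuotientGroup.eq]
                have h := Subgroup.commutator_mem_commutator (Subgroup.mem_top b⁻¹) (Subgroup.mem_top a⁻¹)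
                rw [commutatorElement_def, inv_inv, inv_inv] at h
                rw [mul_inv_rev]
                simpa [mul_assoc, _root_.commutator_def] using h
              exact Nat.Coprime.coprime_dvd_left hab.orderOf_mul_dvd_lcm
                (Nat.Coprime.coprime_dvd_left (Nat.lcm_dvd_mul _ _) (Nat.Coprime.mul_left ha hb))
            inv_mem' := fun {a} ha => by
              show Nat.Coprime (orderOf a⁻¹) p
              rw [orderOf_inv]; exact ha }
        have hC : ∀ q, q ∈ C := fun q => by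
          have : pResidual p (H ⧸ _root_.commutator H) ≤ C := Transfer.pResidual_le_iff.2 fun g hg => hg
          exact this (htop.ge (Subgroup.mem_top q))
        obtain ⟨k, hk⟩ := IsPGroup.iff_orderOf.1 R.isPGroup' ⟨_, htR⟩
        have h1 : orderOf (π ⟨t, hTH ht⟩) ∣ p ^ k := by
          rw [← hk, ← Subgroup.orderOf_coe]
          exact orderOf_map_dvd π _
        have h2 : orderOf (π ⟨t, hTH ht⟩) = 1 :=
          Nat.Coprime.eq_one_of_dvd ((hC _).pow_right k) h1
        exact (QuotientGroup.eq_one_iff _).1 (orderOf_eq_one_iff.1 h2)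
      have hmem : (⟨t, hTH ht⟩ : H) ∈ (R : Subgroup H).focalSubgroup := by
        rw [← Subgroup.commutator_inf_eq_focalSubgroup]
        exact ⟨hcomm, htR⟩
      have hle : (R : Subgroup H).focalSubgroup ≤ E.focalSubgroup.comap H.subtype := by
        rw [Subgroup.focalSubgroup_def, Subgroup.closure_le]
        rintro _ ⟨hg, x, hx, u, rfl⟩
        rw [hR] at hg hx
        have hx' : (x : G) ∈ T := hx
        have hg' : (x : G) * (u : G) * (x : G)⁻¹ * (u : G)⁻¹ ∈ T := hg
        have hu : (u : G) * (x : G)⁻¹ * (u : G)⁻¹ ∈ T := by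
          have := T.mul_mem (T.inv_mem hx') hg'
          simpa [mul_assoc] using this
        refine Subgroup.subset_closure ⟨Subgroup.zpowers (x : G)⁻¹,
          conjHom (Subgroup.zpowers (x : G)⁻¹) (u : G), ⟨(x : G)⁻¹, Subgroup.mem_zpowers _⟩,
          ⟨Subgroup.zpowers_le.2 (T.inv_mem hx'), ?_, u, u.2, fun _ => rfl⟩, ?_⟩
        · rintro ⟨_, j, rfl⟩
          show (u : G) * ((x : G)⁻¹) ^ j * (u : G)⁻¹ ∈ T
          rw [← conj_zpow]
          exact T.zpow_mem hu j
        · show (x : G) * (u : G) * (x : G)⁻¹ * (u : G)⁻¹ =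
            ((x : G)⁻¹)⁻¹ * ((u : G) * (x : G)⁻¹ * (u : G)⁻¹)
          group
      exact hle hmem
    rw [focal_eq_hyperfocal_sup hTp hEsat] at hfoc
    refine le_trans ?_ (hyperfocal_mono hsub inf_le_left)
    set N := (E.hyperfocalSubgroup p).subgroupOf T
    have hN : N.Normal := ⟨fun a ha b => hyperfocal_conj_mem b.2 ha⟩
    by_contra hne
    have hnt : Nontrivial (T ⧸ N) := by
      rw [QuotientGroup.nontrivial_iff]
      exact fun h => hne fun x hx => h.ge (Subgroup.mem_top (⟨x, hx⟩ : T))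
    have := (hTp.to_quotient N).isNilpotent
    refine (Group.IsSolvable.commutator_lt_top_of_nontrivial (T ⧸ N)).ne ?_
    rw [eq_top_iff]
    intro q _
    obtain ⟨t, rfl⟩ := QuotientGroup.mk_surjective q
    have ht : (t : G) ∈ ((E.hyperfocalSubgroup p).subgroupOf T ⊔ ⁅(⊤ : Subgroup T), ⊤⁆).map T.subtype := by
      rw [Subgroup.map_sup, Subgroup.map_commutator, ← MonoidHom.range_eq_map, Subgroup.range_subtype,
        Subgroup.subgroupOf_map_subtype, inf_eq_left.2 hyperfocal_le]
      exact hfoc t.2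
    obtain ⟨t', ht', htt⟩ := ht
    obtain rfl : t' = t := Subtype.ext htt
    have h := Subgroup.mem_map_of_mem (QuotientGroup.mk' N) ht'
    rw [Subgroup.map_sup, QuotientGroup.map_mk'_self, bot_sup_eq, Subgroup.map_commutator,
      Subgroup.map_top_of_surjective _ QuotientGroup.mk_surjective] at h
    exact h

end GroupCase

end CfsgLib.Fusion
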