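import Cfsg.Agent.Lib.Fusion.Biset.Park
import Cfsg.Agent.Lib.Fusion.Hyperfocal
import Cfsg.Agent.Lib.Fusion.HyperfocalGen
import Cfsg.Agent.Lib.PGroups.Basic

/-!
# Tate's theorem for saturated fusion systems

A transfer along a characteristic biset shows that the hyperfocal subgroup `T` is not contained
in `M Φ(S)` for a proper `M < T` over which `T` is central of exponent `p`.
-/

set_option autoImplicit false

namespace CfsgLib.Fusion

open Cfsg Cfsg.FusionSystem MulAction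
open scoped IsMulCommutative

universe u

variable {Ω : Type u} [Group Ω] {S : Subgroup Ω} {F : FusionSystem S} {p : ℕ}

/-- The maps that are conjugation by an element of `S` modulo `T`. -/
def innerModSystem (F : FusionSystem S) (T : Subgroup Ω) (hT : ∀ s ∈ S, ∀ y ∈ T, s * y * s⁻¹ ∈ T) :
    FusionSystem S where
  Hom P := {φ | φ ∈ F.Hom P ∧ ∃ s ∈ S, ∀ x : P, (s * (x : Ω) * s⁻¹)⁻¹ * φ x ∈ T}
  le_of_mem h := F.le_of_mem h.1
  injective_of_mem h := F.injective_of_mem h.1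
  conj_mem {P g} hP hg := ⟨F.conj_mem hP hg, g, hg, fun x => by
    show (g * (x : Ω) * g⁻¹)⁻¹ * (g * (x : Ω) * g⁻¹) ∈ T
    rw [inv_mul_cancel]; exact T.one_mem⟩
  comp_mem := by
    rintro P Q φ ψ ⟨hφ, s, hs, hv⟩ ⟨hψ, t, ht, hw⟩ h
    refine ⟨F.comp_mem hφ hψ h, t * s, S.mul_mem ht hs, fun x => ?_⟩
    show (t * s * (x : Ω) * (t * s)⁻¹)⁻¹ * ψ ⟨φ x, h x⟩ ∈ T
    have h2 : (t * φ x * t⁻¹)⁻¹ * ψ ⟨φ x, h x⟩ ∈ T := hw ⟨φ x, h x⟩
    rw [show (t * s * (x : Ω) * (t * s)⁻¹)⁻¹ * ψ ⟨φ x, h x⟩ =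
      (t * ((s * (x : Ω) * s⁻¹)⁻¹ * φ x) * t⁻¹) * ((t * φ x * t⁻¹)⁻¹ * ψ ⟨φ x, h x⟩) by group]
    exact T.mul_mem (hT t ht _ (hv x)) h2
  inv_mem := by
    rintro P φ ⟨hφ, s, hs, hv⟩
    obtain ⟨ψ, hψ, hψv⟩ := F.inv_mem hφ
    refine ⟨ψ, ⟨hψ, s⁻¹, S.inv_mem hs, ?_⟩, hψv⟩
    rintro ⟨_, x, rfl⟩
    show (s⁻¹ * φ x * s⁻¹⁻¹)⁻¹ * ψ ⟨φ x, ⟨x, rfl⟩⟩ ∈ T
    rw [hψv x, show (s⁻¹ * φ x * s⁻¹⁻¹)⁻¹ * (x : Ω) =
      s⁻¹ * ((φ x)⁻¹ * (s * (x : Ω) * s⁻¹)) * s⁻¹⁻¹ by group]
    refine hT _ (S.inv_mem hs) _ ?_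
    simpa [mul_inv_rev, mul_assoc] using T.inv_mem (hv x)

/-- Every map of a saturated system is conjugation by an element of `S` modulo the hyperfocal
subgroup. -/
theorem exists_conj_mod_hyperfocal [Fact p.Prime] [Finite S] (hS : IsPGroup p S)
    (hF : F.IsSaturated p) {P : Subgroup Ω} {φ : P →* Ω} (hφ : φ ∈ F.Hom P) :
    ∃ s ∈ S, ∀ x : P, (s * (x : Ω) * s⁻¹)⁻¹ * φ x ∈ F.hyperfocalSubgroup p := by
  set T := F.hyperfocalSubgroup p
  have hT : ∀ s ∈ S, ∀ y ∈ T, s * y * s⁻¹ ∈ T := fun s hs y hy => hyperfocal_conj_mem hs hy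
  have hle : F ≤ innerModSystem F T hT := by
    refine alperin hS hF _ fun P hP α hα => ?_
    have hPn : F.IsFullyNormalized P := by
      rcases hP with rfl | h
      · exact isFullyNormalized_self
      · exact h.2.1
    have hPS := hPn.1
    have := finite_mulAut_of_le (S := S) hPS
    obtain ⟨R, hR⟩ := (IsSaturated.fullyAutomized hS hF hPn).2
    obtain ⟨a, ha, k, hk, hak⟩ := Transfer.exists_mul_mem_pResidual R (⟨α, hα⟩ : F.autGroup P)
    rw [hR] at ha
    obtain ⟨g, hg, hgv⟩ := mem_autInducedBy_iff.1 (Subgroup.mem_subgroupOf.1 ha)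
    refine (mem_autGroup_iff hPS).2 ⟨(mem_autGroup_iff hPS).1 hα, g, hg, fun x => ?_⟩
    set y : P := (k : MulAut P) x with hy
    have h1 : (x : Ω)⁻¹ * (y : Ω) ∈ T := Subgroup.subset_closure ⟨P, k, x, hPS, hk, rfl⟩
    have h3 : ((α x : P) : Ω) = g * (y : Ω) * g⁻¹ := by
      rw [← hgv y, hy]
      exact congrArg (fun z : MulAut P => ((z x : P) : Ω)) (congrArg Subtype.val hak)
    show (g * (x : Ω) * g⁻¹)⁻¹ * ((α x : P) : Ω) ∈ T
    rw [h3, show (g * (x : Ω) * g⁻¹)⁻¹ * (g * (y : Ω) * g⁻¹) = g * ((x : Ω)⁻¹ * (y : Ω)) * g⁻¹ by group]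
    exact hT g hg _ h1
  exact (hle P hφ).2

section Transfer

theorem tate_tel_aux {A : Type*} [CommGroup A] (a b c e f : A) :
    a * b⁻¹ * (e * f) = a * c⁻¹ * f * (c * b⁻¹ * e) := by
  rw [show a * c⁻¹ * f * (c * b⁻¹ * e) = a * (c⁻¹ * c) * b⁻¹ * (e * f) by ac_rfl,
    inv_mul_cancel, mul_one]

variable [Fact p.Prime] [Finite S]

/-- The biset transfer: if `T` is the hyperfocal subgroup and `M ≤ T` is normal in `S` with `T/M`
central of exponent `p` in `S/M`, and `T ≤ M Φ(S)`, then `T = M`. -/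
theorem hyperfocal_le_of_le_sup_frattini (hS : IsPGroup p S) (hF : F.IsSaturated p)
    {M : Subgroup Ω} (hMT : M ≤ F.hyperfocalSubgroup p)
    (hMn : ∀ s ∈ S, ∀ y ∈ M, s * y * s⁻¹ ∈ M)
    (hcen : ∀ s ∈ S, ∀ y ∈ F.hyperfocalSubgroup p, s * y * s⁻¹ * y⁻¹ ∈ M)
    (hexp : ∀ y ∈ F.hyperfocalSubgroup p, y ^ p ∈ M)
    (hle : F.hyperfocalSubgroup p ≤ M ⊔ (⁅S, S⁆ ⊔ (frattini S).map S.subtype)) :
    F.hyperfocalSubgroup p ≤ M := by
  classical
  set T := F.hyperfocalSubgroup p with hTdef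
  have hTS : T ≤ S := hyperfocal_le
  set NT : Subgroup S := T.subgroupOf S with hNT
  set NM : Subgroup S := M.subgroupOf S with hNM
  have : NT.Normal := ⟨fun a ha b => hyperfocal_conj_mem b.2 ha⟩
  have : NM.Normal := ⟨fun a ha b => hMn b b.2 a ha⟩
  let π : S →* S ⧸ NM := QuotientGroup.mk' NM
  -- `T/M` is central of exponent `p`
  have hcentral : ∀ t : S, t ∈ NT → π t ∈ Subgroup.center (S ⧸ NM) := fun t ht => by
    refine Subgroup.mem_center_iff.2 fun q => ?_
    obtain ⟨s, rfl⟩ := QuotientGroup.mk'_surjective NM q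
    have h : s * t * s⁻¹ * t⁻¹ ∈ NM := hcen s s.2 t ht
    have h1 : π (s * t * s⁻¹ * t⁻¹) = 1 := (QuotientGroup.eq_one_iff _).2 h
    rw [map_mul, map_mul, map_mul, map_inv, map_inv, mul_inv_eq_one] at h1
    exact mul_inv_eq_iff_eq_mul.1 h1
  have hpow : ∀ t : S, t ∈ NT → π t ^ p = 1 := fun t ht => by
    rw [← map_pow]
    exact (QuotientGroup.eq_one_iff _).2 (hexp t ht)
  -- the biset
  obtain ⟨X, i, j, hX, n, hn, hpn⟩ := exists_charBiset (F := F) hS hF
  let _ : MulAction S X := rightAct S X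
  have hfree : ∀ (b : S) (x : X), b • x = x → b = 1 := fun b x h => hX.right_free b x h
  have : Fintype (orbitRel.Quotient S X) := Fintype.ofFinite _
  have hO : Fintype.card (orbitRel.Quotient S X) = n := by
    rw [← Nat.card_eq_fintype_card]
    exact Nat.eq_of_mul_eq_mul_left Nat.card_pos ((card_eq_card_mul_orbits hfree).symm.trans hn)
  -- an equivariant map to `S/T`
  have hσ : ∀ x : X, ∃ σ : S ⧸ NT, ∀ k : ↥S × ↥S, k • x = x →
      QuotientGroup.mk' NT k.1 * σ = σ * QuotientGroup.mk' NT k.2 := by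
    intro x
    obtain ⟨P, φ, hφ, htw⟩ := hX.twisted x
    obtain ⟨s, hs, hsv⟩ := exists_conj_mod_hyperfocal hS hF hφ
    refine ⟨QuotientGroup.mk' NT ⟨s, hs⟩, fun k hk => ?_⟩
    obtain ⟨hP, e⟩ := (htw k).1 (mem_stabilizer_iff.2 hk)
    have h := hsv ⟨k.2, hP⟩
    rw [e] at h
    have h1 : QuotientGroup.mk' NT ((⟨s, hs⟩ * k.2 * (⟨s, hs⟩ : S)⁻¹)⁻¹ * k.1) = 1 :=
      (QuotientGroup.eq_one_iff _).2 h
    rw [map_mul, map_inv, map_mul, map_mul, map_inv, inv_mul_eq_one] at h1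
    rw [← h1, inv_mul_cancel_right]
  choose σ hσ using hσ
  let rep : X → X := fun x => (Quotient.mk'' x : orbitRel.Quotient (↥S × ↥S) X).out
  have hrep : ∀ x : X, ∃ k : ↥S × ↥S, k • rep x = x := fun x =>
    Quotient.exact' (Quotient.out_eq' (Quotient.mk'' x : orbitRel.Quotient (↥S × ↥S) X)).symm
  choose kk hkk using hrep
  let c : X → S ⧸ NT := fun x =>
    QuotientGroup.mk' NT (kk x).1 * σ (rep x) * (QuotientGroup.mk' NT (kk x).2)⁻¹
  have hc : ∀ (k : ↥S × ↥S) (x : X),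
      c (k • x) = QuotientGroup.mk' NT k.1 * c x * (QuotientGroup.mk' NT k.2)⁻¹ := by
    intro k x
    have hr : rep (k • x) = rep x := congrArg Quotient.out (Quotient.sound' ⟨k, rfl⟩)
    have hst : ((k * kk x)⁻¹ * kk (k • x)) • rep x = rep x := by
      have h0 := hkk (k • x)
      rw [hr] at h0
      rw [mul_smul, h0, inv_smul_eq_iff, mul_smul, hkk]
    have h1 := hσ _ _ hst
    simp only [Prod.fst_mul, Prod.snd_mul, Prod.fst_inv, Prod.snd_inv, map_mul, map_inv,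
      mul_inv_rev] at h1
    simp only [c, hr]
    rw [show QuotientGroup.mk' NT (kk (k • x)).1 * σ (rep x) * (QuotientGroup.mk' NT (kk (k • x)).2)⁻¹ =
      QuotientGroup.mk' NT k.1 * QuotientGroup.mk' NT (kk x).1 *
        ((QuotientGroup.mk' NT (kk x).1)⁻¹ * (QuotientGroup.mk' NT k.1)⁻¹ *
          QuotientGroup.mk' NT (kk (k • x)).1 * σ (rep x)) *
        (QuotientGroup.mk' NT (kk (k • x)).2)⁻¹ by group, h1]
    group
  -- a lift, exactly equivariant on the right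
  let ro : X → X := fun x => (Quotient.mk'' x : orbitRel.Quotient S X).out
  have hro : ∀ x : X, ∃ b : S, b • ro x = x := fun x =>
    Quotient.exact' (Quotient.out_eq' (Quotient.mk'' x : orbitRel.Quotient S X)).symm
  choose bb hbb using hro
  let W : X → S := fun x => (c (ro x)).out * (bb x)⁻¹
  have hWb : ∀ (b : S) (x : X), W (b • x) = W x * b⁻¹ := by
    intro b x
    have hr : ro (b • x) = ro x := congrArg Quotient.out (Quotient.sound' ⟨b, rfl⟩)
    have hbx : bb (b • x) = b * bb x := by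
      have h0 := hbb (b • x)
      rw [hr] at h0
      have h1 : ((b * bb x)⁻¹ * bb (b • x)) • ro x = ro x := by
        rw [mul_smul, h0, inv_smul_eq_iff, mul_smul, hbb]
      exact (inv_mul_eq_one.1 (hfree _ _ h1)).symm
    simp only [W, hr, hbx, mul_inv_rev, mul_assoc]
  have hWc : ∀ x : X, QuotientGroup.mk' NT (W x) = c x := by
    intro x
    have h := hc (1, bb x) (ro x)
    have hx : ((1, bb x) : ↥S × ↥S) • ro x = x := hbb x
    rw [hx] at h
    rw [h, map_mul, map_inv]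
    show QuotientGroup.mk (c (ro x)).out * _ = _
    rw [QuotientGroup.out_eq']
    simp
  let L : S → X → X := fun a x => ((a, 1) : ↥S × ↥S) • x
  have hLb : ∀ (a b : S) (x : X), L a (b • x) = b • L a x := fun a b x => by
    show ((a, 1) : ↥S × ↥S) • ((1, b) : ↥S × ↥S) • x = ((1, b) : ↥S × ↥S) • ((a, 1) : ↥S × ↥S) • x
    rw [smul_smul, smul_smul, Prod.mk_mul_mk, Prod.mk_mul_mk, one_mul, mul_one, one_mul, mul_one]
  have hLmul : ∀ (a a' : S) (x : X), L (a * a') x = L a (L a' x) := fun a a' x => by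
    show ((a * a', 1) : ↥S × ↥S) • x = ((a, 1) : ↥S × ↥S) • ((a', 1) : ↥S × ↥S) • x
    rw [smul_smul, Prod.mk_mul_mk, mul_one]
  have hzmem : ∀ (a : S) (x : X), W (L a x) * (W x)⁻¹ * a⁻¹ ∈ NT := fun a x => by
    refine (QuotientGroup.eq_one_iff _).1 ?_
    show QuotientGroup.mk' NT _ = 1
    rw [map_mul, map_mul, map_inv, map_inv, hWc, hWc, hc]
    simp [mul_assoc]
  let z : S → X → Subgroup.center (S ⧸ NM) := fun a x =>
    ⟨π (W (L a x) * (W x)⁻¹ * a⁻¹), hcentral _ (hzmem a x)⟩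
  have hzb : ∀ (a b : S) (x : X), z a (b • x) = z a x := fun a b x => by
    refine Subtype.ext (congrArg π ?_)
    rw [hLb, hWb, hWb]
    group
  have hzout : ∀ (a : S) (x : X), z a (Quotient.mk'' x : orbitRel.Quotient S X).out = z a x := by
    intro a x
    conv_rhs => rw [← hbb x]
    exact (hzb a _ _).symm
  -- permutations of the right orbits
  let perm : ∀ e : X → X, (∀ (b : S) x, e (b • x) = b • e x) →
      orbitRel.Quotient S X → orbitRel.Quotient S X := fun e he =>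
    Quotient.map' e fun x y h => by
      obtain ⟨b, rfl⟩ := h
      exact ⟨b, (he b y).symm⟩
  have hperm : ∀ (e : X → X) (he : ∀ (b : S) x, e (b • x) = b • e x), Function.Surjective e →
      Function.Bijective (perm e he) := by
    intro e he hsurj
    refine (Finite.surjective_iff_bijective).1 fun o => ?_
    induction o using Quotient.inductionOn' with
    | h y =>
      obtain ⟨x, rfl⟩ := hsurj y
      exact ⟨Quotient.mk'' x, rfl⟩
  have hreindex : ∀ (f : X → Subgroup.center (S ⧸ NM)), (∀ (b : S) x, f (b • x) = f x) →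
      ∀ (e : X → X), (∀ (b : S) x, e (b • x) = b • e x) → Function.Surjective e →
        ∏ o : orbitRel.Quotient S X, f (e o.out) = ∏ o : orbitRel.Quotient S X, f o.out := by
    intro f hf e he hsurj
    have hfout : ∀ x : X, f (Quotient.mk'' x : orbitRel.Quotient S X).out = f x := fun x => by
      conv_rhs => rw [← hbb x]
      exact (hf _ _).symm
    rw [← Equiv.prod_comp (Equiv.ofBijective _ (hperm e he hsurj)) (fun o => f o.out)]
    refine Finset.prod_congr rfl fun o _ => ?_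
    show f (e o.out) = f (perm e he o).out
    have h1 : perm e he o = Quotient.mk'' (e o.out) := by
      conv_lhs => rw [← Quotient.out_eq' o]
      rfl
    rw [h1, hfout]
  have hLsurj : ∀ a : S, Function.Surjective (L a) := fun a y =>
    ⟨L a⁻¹ y, by
      rw [← hLmul, mul_inv_cancel]
      exact one_smul _ y⟩
  -- the transfer
  have hzmul : ∀ (a a' : S) (x : X), z (a * a') x = z a (L a' x) * z a' x := by
    intro a a' x
    refine Subtype.ext ?_
    show π (W (L (a * a') x) * (W x)⁻¹ * (a * a')⁻¹) =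
      π (W (L a (L a' x)) * (W (L a' x))⁻¹ * a⁻¹) * π (W (L a' x) * (W x)⁻¹ * a'⁻¹)
    have hc' := Subgroup.mem_center_iff.1 (hcentral _ (hzmem a' x)) (π a)
    rw [show W (L (a * a') x) * (W x)⁻¹ * (a * a')⁻¹ =
      W (L a (L a' x)) * (W (L a' x))⁻¹ * a⁻¹ *
        (a * (W (L a' x) * (W x)⁻¹ * a'⁻¹) * a⁻¹) by rw [hLmul]; group]
    generalize W (L a (L a' x)) * (W (L a' x))⁻¹ * a⁻¹ = u
    generalize W (L a' x) * (W x)⁻¹ * a'⁻¹ = v at hc' ⊢
    rw [map_mul, map_mul π (a * v), map_mul π a v, hc', mul_assoc (π v), ← map_mul π a,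
      mul_inv_cancel, map_one, mul_one]
  let η : S →* Subgroup.center (S ⧸ NM) := MonoidHom.mk'
    (fun a => ∏ o : orbitRel.Quotient S X, z a o.out) fun a a' => by
      simp only [hzmul, Finset.prod_mul_distrib]
      rw [hreindex (z a) (fun b x => hzb a b x) (L a') (fun b x => hLb a' b x) (hLsurj a')]
  have hη : ∀ a, η a = ∏ o : orbitRel.Quotient S X, z a o.out := fun _ => rfl
  have hηp : ∀ a : S, η a ^ p = 1 := fun a => by
    rw [hη, ← Finset.prod_pow]
    refine Finset.prod_eq_one fun o _ => Subtype.ext ?_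
    exact hpow _ (hzmem a _)
  -- the power map on `T`
  let ι : ∀ t : S, t ∈ NT → Subgroup.center (S ⧸ NM) := fun t ht => ⟨π t, hcentral t ht⟩
  -- `η` is the inverse of the power map on the generators
  have key : ∀ (P : Subgroup Ω) (α : MulAut P), P ≤ S → α ∈ F.autGroup P →
      (orderOf α).Coprime p → ∀ x : P, ∀ (h : (x : Ω)⁻¹ * α x ∈ S) (h' : ⟨_, h⟩ ∈ NT),
        η ⟨_, h⟩ * ι ⟨_, h⟩ h' ^ n = 1 := by
    intro P α hPS hα hcop
    let inc : P →* S := Subgroup.inclusion hPS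
    have hd : ∀ (β : MulAut P), β ∈ F.autGroup P → (orderOf β).Coprime p →
        ∀ q : P, (inc q)⁻¹ * inc (β q) ∈ NT := fun β hβ hβc q =>
      mem_hyperfocal_of_coprime hPS hβ hβc q
    let e : P → Subgroup.center (S ⧸ NM) := fun q => ι _ (hd α hα hcop q)
    obtain ⟨g, hg⟩ := hX.exists_conj ((mem_autGroup_iff hPS).1 hα)
    let gf : X → X := fun x => (g : Equiv.Perm X) x
    have hgb : ∀ (b : S) (x : X), gf (b • x) = b • gf x := fun b x => g.2 b x
    have hgq : ∀ (q : P) (x : X), L (inc (α q)) (gf x) = gf (L (inc q) x) := fun q x =>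
      congrArg (fun k : parkGroup S X => (k : Equiv.Perm X) x) (hg q)
    let k : X → S ⧸ NM := fun x => π (W (gf x) * (W x)⁻¹)
    have hkb : ∀ (b : S) (x : X), k (b • x) = k x := fun b x => by
      show π (W (gf (b • x)) * (W (b • x))⁻¹) = π (W (gf x) * (W x)⁻¹)
      rw [hgb, hWb, hWb]
      exact congrArg π (by group)
    let D : P →* Subgroup.center (S ⧸ NM) := MonoidHom.mk'
      (fun q => η (inc (α q)) * (η (inc q))⁻¹ * e q ^ n) fun q r => by
        have he : e (q * r) = e q * e r := by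
          refine Subtype.ext ?_
          show π ((inc (q * r))⁻¹ * inc (α (q * r))) =
            π ((inc q)⁻¹ * inc (α q)) * π ((inc r)⁻¹ * inc (α r))
          have hc' := Subgroup.mem_center_iff.1 (hcentral _ (hd α hα hcop q)) (π (inc r)⁻¹)
          rw [show (inc (q * r))⁻¹ * inc (α (q * r)) =
            (inc r)⁻¹ * ((inc q)⁻¹ * inc (α q)) * inc (α r) by
            simp only [map_mul, mul_inv_rev]; group,
            map_mul π _ (inc (α r)), map_mul π _ ((inc q)⁻¹ * inc (α q)), hc', mul_assoc, ← map_mul]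
        simp only [map_mul, mul_inv_rev, he, mul_pow]
        ac_rfl
    have hDdef : ∀ q, D q = η (inc (α q)) * (η (inc q))⁻¹ * e q ^ n := fun _ => rfl
    have hDT : ∀ q : P, inc q ∈ NT → D q = 1 := by
      intro q hq
      have ha : inc (α q) ∈ NT := by
        have := NT.mul_mem hq (hd α hα hcop q)
        rwa [mul_inv_cancel_left] at this
      have hterm : ∀ x : X, ((z (inc (α q)) (gf x) * (z (inc q) x)⁻¹ * e q :
          Subgroup.center (S ⧸ NM)) : S ⧸ NM) = k (L (inc q) x) * (k x)⁻¹ := by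
        intro x
        show π (W (L (inc (α q)) (gf x)) * (W (gf x))⁻¹ * (inc (α q))⁻¹) *
          (π (W (L (inc q) x) * (W x)⁻¹ * (inc q)⁻¹))⁻¹ * π ((inc q)⁻¹ * inc (α q)) = _
        simp only [k, map_mul, map_inv, mul_inv_rev, inv_inv, hgq]
        have hcq := Subgroup.mem_center_iff.1 (hcentral _ hq)
        have hca := Subgroup.mem_center_iff.1 (hcentral _ ha)
        have hm : π (W (L (inc q) x)) * (π (W x))⁻¹ ∈ Subgroup.center (S ⧸ NM) := by
          have := mul_mem (hcentral _ (hzmem (inc q) x)) (hcentral _ hq)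
          simpa only [map_mul, map_inv, inv_mul_cancel_right] using this
        set A := π (W (gf (L (inc q) x)))
        set B := π (W (gf x))
        set C := π (W (L (inc q) x))
        set D' := π (W x)
        set u := π (inc q)
        set v := π (inc (α q))
        have hm' := Subgroup.mem_center_iff.1 ((Subgroup.center (S ⧸ NM)).inv_mem hm) B⁻¹
        calc A * B⁻¹ * v⁻¹ * (u * (D' * C⁻¹)) * (u⁻¹ * v)
            = A * B⁻¹ * v⁻¹ * (u * (D' * C⁻¹ * u⁻¹)) * v := by group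
          _ = A * B⁻¹ * v⁻¹ * ((D' * C⁻¹ * u⁻¹) * u) * v := by rw [(hcq _).symm]
          _ = A * B⁻¹ * v⁻¹ * (D' * C⁻¹ * v) := by group
          _ = A * B⁻¹ * v⁻¹ * (v * (D' * C⁻¹)) := by rw [hca]
          _ = A * (B⁻¹ * (C * D'⁻¹)⁻¹) := by group
          _ = A * ((C * D'⁻¹)⁻¹ * B⁻¹) := by rw [hm']
          _ = A * (D'⁻¹ * (C * D'⁻¹)⁻¹ * D') * B⁻¹ := by
            rw [Subgroup.mem_center_iff.1 ((Subgroup.center (S ⧸ NM)).inv_mem hm) D'⁻¹]; group
          _ = _ := by group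
      -- the product of `k (q x) (k x)⁻¹` over the orbits is trivial
      let ρ : S ⧸ NM → S ⧸ NM := fun u =>
        (QuotientGroup.mk' (Subgroup.center (S ⧸ NM)) u).out
      have hρ : ∀ u, u * (ρ u)⁻¹ ∈ Subgroup.center (S ⧸ NM) := fun u => by
        refine (QuotientGroup.eq_one_iff _).1 ?_
        rw [QuotientGroup.mk_mul, QuotientGroup.mk_inv, mul_inv_eq_one]
        exact (QuotientGroup.out_eq' _).symm
      let ζ : X → Subgroup.center (S ⧸ NM) := fun x => ⟨k x * (ρ (k x))⁻¹, hρ _⟩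
      have hζb : ∀ (b : S) x, ζ (b • x) = ζ x := fun b x => Subtype.ext (by
        show k (b • x) * (ρ (k (b • x)))⁻¹ = _
        rw [hkb])
      have hρeq : ∀ x, ρ (k (L (inc q) x)) = ρ (k x) := fun x => by
        refine congrArg Quotient.out ((QuotientGroup.eq_iff_div_mem).2 ?_)
        rw [div_eq_mul_inv, ← hterm x]
        exact SetLike.coe_mem _
      have hterm' : ∀ x, z (inc (α q)) (gf x) * (z (inc q) x)⁻¹ * e q =
          ζ (L (inc q) x) * (ζ x)⁻¹ := fun x => Subtype.ext (by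
        rw [hterm x]
        show _ = k (L (inc q) x) * (ρ (k (L (inc q) x)))⁻¹ * (k x * (ρ (k x))⁻¹)⁻¹
        rw [hρeq x]
        group)
      rw [hDdef, hη, hη, ← hreindex (z (inc (α q))) (fun b x => hzb _ b x) gf hgb
        (g : Equiv.Perm X).surjective, ← Finset.prod_inv_distrib, ← Finset.prod_mul_distrib,
        ← hO, Fintype.card, ← Finset.prod_const, ← Finset.prod_mul_distrib]
      simp only [hterm', Finset.prod_mul_distrib, Finset.prod_inv_distrib]
      rw [hreindex ζ hζb (L (inc q)) (fun b x => hLb _ b x) (hLsurj _), mul_inv_cancel]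
    have hDα : ∀ q : P, D (α q) = D q := fun q => by
      have h : inc (q⁻¹ * α q) ∈ NT := by
        rw [map_mul, map_inv]
        exact hd α hα hcop q
      conv_lhs => rw [show α q = q * (q⁻¹ * α q) from (mul_inv_cancel_left q (α q)).symm]
      rw [map_mul, hDT _ h, mul_one]
    have htel : ∀ (i : ℕ) (q : P), ∃ h : (inc q)⁻¹ * inc ((α ^ i) q) ∈ NT,
        η (inc ((α ^ i) q)) * (η (inc q))⁻¹ * ι _ h ^ n = D q ^ i := by
      intro i
      induction i with
      | zero =>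
        intro q
        have h0 : (inc q)⁻¹ * inc ((α ^ 0) q) ∈ NT := by
          rw [pow_zero, MulAut.one_apply, inv_mul_cancel]
          exact NT.one_mem
        refine ⟨h0, ?_⟩
        have h1 : ∀ h, ι ((inc q)⁻¹ * inc ((α ^ 0) q)) h = 1 := fun h => Subtype.ext (by
          show π _ = 1
          rw [pow_zero, MulAut.one_apply, inv_mul_cancel, map_one])
        rw [h1 h0, pow_zero, one_pow, mul_one, pow_zero, MulAut.one_apply, mul_inv_cancel]
      | succ i ih =>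
        intro q
        obtain ⟨h1, e1⟩ := ih (α q)
        have e2 : (α ^ (i + 1)) q = (α ^ i) (α q) := by rw [pow_succ, MulAut.mul_apply]
        rw [e2]
        have e3 : (inc q)⁻¹ * inc ((α ^ i) (α q)) =
            ((inc q)⁻¹ * inc (α q)) * ((inc (α q))⁻¹ * inc ((α ^ i) (α q))) := by group
        have h2 : (inc q)⁻¹ * inc ((α ^ i) (α q)) ∈ NT := e3 ▸ NT.mul_mem (hd α hα hcop q) h1
        refine ⟨h2, ?_⟩
        have e4 : ι _ h2 = e q * ι _ h1 := Subtype.ext (by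
          show π _ = π _ * π _
          rw [← map_mul, ← e3])
        rw [hDα q] at e1
        rw [e4, pow_succ, ← e1, hDdef, mul_pow]
        exact tate_tel_aux _ _ _ _ _
    have hD1 : ∀ q : P, D q = 1 := fun q => by
      obtain ⟨h, e1⟩ := htel (orderOf α) q
      have h0 : ι _ h = 1 := Subtype.ext (by
        show π _ = 1
        rw [pow_orderOf_eq_one, MulAut.one_apply, inv_mul_cancel, map_one])
      rw [h0, pow_orderOf_eq_one] at e1
      simp only [MulAut.one_apply, mul_inv_cancel, one_pow, mul_one] at e1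
      have hp1 : D q ^ p = 1 := by
        have he : e q ^ p = 1 := Subtype.ext (hpow _ (hd α hα hcop q))
        rw [hDdef, mul_pow, mul_pow, inv_pow, hηp, hηp, ← pow_mul, mul_comm n, pow_mul, he]
        simp
      exact orderOf_eq_one_iff.1 (Nat.eq_one_of_dvd_coprimes hcop
        (orderOf_dvd_of_pow_eq_one e1.symm) (orderOf_dvd_of_pow_eq_one hp1))
    intro x h h'
    have hx : (⟨_, h⟩ : S) = (inc x)⁻¹ * inc (α x) := rfl
    have he : ι _ h' = e x := rfl
    rw [he, show η ⟨_, h⟩ = η (inc (α x)) * (η (inc x))⁻¹ by rw [hx, map_mul, map_inv, mul_comm]]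
    exact hD1 x
  -- hence on all of `T`
  let K : Subgroup Ω :=
    { carrier := {t | ∃ (h : t ∈ S) (h' : (⟨t, h⟩ : S) ∈ NT), η ⟨t, h⟩ * ι _ h' ^ n = 1}
      one_mem' := ⟨S.one_mem, T.one_mem, by
        have : ι (1 : S) NT.one_mem = 1 := Subtype.ext (map_one π)
        show η 1 * ι (1 : S) NT.one_mem ^ n = 1
        rw [this, map_one, one_pow, mul_one]⟩
      mul_mem' := by
        rintro a b ⟨ha, ha', ea⟩ ⟨hb, hb', eb⟩
        refine ⟨S.mul_mem ha hb, NT.mul_mem ha' hb', ?_⟩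
        have : ι _ (NT.mul_mem ha' hb') = ι _ ha' * ι _ hb' := Subtype.ext (map_mul π _ _)
        show η (⟨a, ha⟩ * ⟨b, hb⟩) * ι _ (NT.mul_mem ha' hb') ^ n = 1
        rw [this, map_mul, mul_pow, mul_mul_mul_comm, ea, eb, mul_one]
      inv_mem' := by
        rintro a ⟨ha, ha', ea⟩
        refine ⟨S.inv_mem ha, NT.inv_mem ha', ?_⟩
        have : ι _ (NT.inv_mem ha') = (ι _ ha')⁻¹ := Subtype.ext (map_inv π _)
        show η (⟨a, ha⟩⁻¹) * ι _ (NT.inv_mem ha') ^ n = 1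
        rw [this, map_inv, inv_pow, ← mul_inv, ea, inv_one] }
  have hTK : T ≤ K := hyperfocal_le_of_coprime fun P α hPS hα hcop x =>
    ⟨S.mul_mem (S.inv_mem (hPS x.2)) (hPS (α x).2), mem_hyperfocal_of_coprime hPS hα hcop x,
      key P α hPS hα hcop x (S.mul_mem (S.inv_mem (hPS x.2)) (hPS (α x).2))
        (mem_hyperfocal_of_coprime hPS hα hcop x)⟩
  -- `η` kills `M`, the derived and the Frattini subgroup
  have hker : M ⊔ (⁅S, S⁆ ⊔ (frattini S).map S.subtype) ≤ η.ker.map S.subtype := by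
    refine sup_le ?_ (sup_le ?_ (Subgroup.map_mono ?_))
    · intro m hm
      obtain ⟨h, h', e1⟩ := hTK (hMT hm)
      have h0 : ι _ h' = 1 := Subtype.ext ((QuotientGroup.eq_one_iff _).2 (show (⟨m, h⟩ : S) ∈ NM from hm))
      rw [h0, one_pow, mul_one] at e1
      exact ⟨⟨m, h⟩, e1, rfl⟩
    · rw [← Subgroup.map_subtype_commutator]
      exact Subgroup.map_mono (Abelianization.commutator_subset_ker η)
    · exact CfsgLib.PGroups.frattini_le_of_elementary (p := p)
        (Abelianization.commutator_subset_ker η)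
        fun x => by rw [MonoidHom.mem_ker, map_pow]; exact hηp x
  intro t ht
  obtain ⟨h, h', e1⟩ := hTK ht
  obtain ⟨s, hs, hst⟩ := hker (hle ht)
  rw [show s = ⟨t, h⟩ from Subtype.ext hst] at hs
  rw [MonoidHom.mem_ker.1 hs, one_mul] at e1
  have h1 : ι _ h' = 1 := orderOf_eq_one_iff.1 (Nat.eq_one_of_dvd_coprimes
    ((Fact.out : p.Prime).coprime_iff_not_dvd.2 hpn)
    (orderOf_dvd_of_pow_eq_one (Subtype.ext (hpow _ h') : ι _ h' ^ p = 1))
    (orderOf_dvd_of_pow_eq_one e1))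
  exact ((QuotientGroup.eq_one_iff _).1 (congrArg Subtype.val h1) : (⟨t, h⟩ : S) ∈ NM)

/-- Between a normal `U` and the hyperfocal subgroup lies no gap inside `U Φ(S)`. -/
theorem hyperfocal_le_of_sup_frattini (hS : IsPGroup p S) (hF : F.IsSaturated p)
    {U : Subgroup Ω} (hUT : U ≤ F.hyperfocalSubgroup p)
    (hUn : ∀ s ∈ S, ∀ y ∈ U, s * y * s⁻¹ ∈ U)
    (hle : F.hyperfocalSubgroup p ≤ U ⊔ (⁅S, S⁆ ⊔ (frattini S).map S.subtype)) :
    F.hyperfocalSubgroup p ≤ U := by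
  classical
  set T := F.hyperfocalSubgroup p with hT
  have hTS : T ≤ S := hyperfocal_le
  by_contra hne
  have hfin : Finite {M : Subgroup Ω // M ≤ S} := by
    refine Finite.of_injective (fun M => M.1.subgroupOf S) fun A B h => Subtype.ext ?_
    have := congrArg (Subgroup.map S.subtype) h
    simpa only [Subgroup.subgroupOf_map_subtype, inf_eq_left.2 A.2, inf_eq_left.2 B.2] using this
  let s : Set {M : Subgroup Ω // M ≤ S} :=
    {M | U ≤ M.1 ∧ M.1 ≤ T ∧ ¬ T ≤ M.1 ∧ ∀ s ∈ S, ∀ y ∈ M.1, s * y * s⁻¹ ∈ M.1}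
  obtain ⟨⟨M, hMS⟩, ⟨hUM, hMT, hTM, hMn⟩, hmax⟩ :=
    (Set.toFinite s).exists_maximal ⟨⟨U, hUT.trans hTS⟩, le_rfl, hUT, hne, hUn⟩
  set NM : Subgroup S := M.subgroupOf S with hNM
  have : NM.Normal := ⟨fun a ha b => hMn b b.2 a ha⟩
  have : (T.subgroupOf S).Normal := ⟨fun a ha b => hyperfocal_conj_mem b.2 ha⟩
  set Z := (T.subgroupOf S).map (QuotientGroup.mk' NM) with hZ
  have hZn : Z.Normal := Subgroup.Normal.map inferInstance _ (QuotientGroup.mk'_surjective NM)
  have hZne : Nontrivial Z := by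
    rw [Subgroup.nontrivial_iff_ne_bot, ne_eq, hZ, Subgroup.map_eq_bot_iff, QuotientGroup.ker_mk']
    exact fun h => hTM fun t ht => h (show (⟨t, hTS ht⟩ : S) ∈ T.subgroupOf S from ht)
  have hnb : Z ⊓ Subgroup.center (S ⧸ NM) ≠ ⊥ :=
    CfsgLib.PGroups.inf_center_ne_bot (hS.to_quotient NM) ((Subgroup.nontrivial_iff_ne_bot Z).1 hZne)
  obtain ⟨⟨w, hw⟩, hw0⟩ := Subgroup.ne_bot_iff_exists_ne_one.1 hnb
  have hw1 : w ≠ 1 := fun h => hw0 (Subtype.ext h)
  obtain ⟨d, hd⟩ := IsPGroup.iff_orderOf.1 (hS.to_quotient NM) w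
  obtain ⟨d, rfl⟩ : ∃ e, d = e + 1 := Nat.exists_eq_succ_of_ne_zero (by
    rintro rfl; exact hw1 (orderOf_eq_one_iff.1 (by simpa using hd)))
  set v := w ^ (p ^ d) with hv
  have hvZ : v ∈ Z ⊓ Subgroup.center (S ⧸ NM) := Subgroup.pow_mem _ hw _
  have hvp : v ^ p = 1 := by rw [hv, ← pow_mul, ← pow_succ, ← hd, pow_orderOf_eq_one]
  have hv1 : v ≠ 1 := fun h => by
    have h2 := Nat.le_of_dvd (pow_pos (Fact.out : p.Prime).pos _) (orderOf_dvd_of_pow_eq_one h)
    rw [hd, pow_succ] at h2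
    have h3 := (Fact.out : p.Prime).one_lt
    have h4 := pow_pos (Fact.out : p.Prime).pos d
    nlinarith
  let M' : Subgroup Ω := ((Subgroup.zpowers v).comap (QuotientGroup.mk' NM)).map S.subtype
  have hMM' : M ≤ M' := fun m hm => ⟨⟨m, hMS hm⟩, by
    show QuotientGroup.mk' NM ⟨m, hMS hm⟩ ∈ Subgroup.zpowers v
    rw [show QuotientGroup.mk' NM ⟨m, hMS hm⟩ = 1 from
      (QuotientGroup.eq_one_iff _).2 (show (⟨m, hMS hm⟩ : S) ∈ NM from hm)]
    exact one_mem _, rfl⟩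
  have hM'T : M' ≤ T := by
    rintro _ ⟨t, ht, rfl⟩
    obtain ⟨t', ht', e⟩ := (Subgroup.zpowers_le.2 hvZ.1) ht
    have h1 : t'⁻¹ * t ∈ NM := QuotientGroup.eq.1 e
    have h2 := T.mul_mem ht' (hMT h1)
    simpa using h2
  have hM'n : ∀ s ∈ S, ∀ y ∈ M', s * y * s⁻¹ ∈ M' := by
    rintro s hs _ ⟨t, ht, rfl⟩
    refine ⟨⟨s, hs⟩ * t * ⟨s, hs⟩⁻¹, ?_, rfl⟩
    show QuotientGroup.mk' NM (_ * _ * _) ∈ Subgroup.zpowers v
    rw [map_mul, map_mul, Subgroup.mem_center_iff.1 ((Subgroup.zpowers_le.2 hvZ.2) ht),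
      map_inv, mul_inv_cancel_right]
    exact ht
  have hTM' : T ≤ M' := by
    by_contra h
    have := hmax (y := ⟨M', hM'T.trans hTS⟩) ⟨hUM.trans hMM', hM'T, h, hM'n⟩ hMM'
    obtain ⟨t, ht⟩ := QuotientGroup.mk'_surjective NM v
    have h1 : (t : Ω) ∈ M' := ⟨t, by
      show QuotientGroup.mk' NM t ∈ Subgroup.zpowers v
      rw [ht]; exact Subgroup.mem_zpowers v, rfl⟩
    exact hv1 (ht ▸ (QuotientGroup.eq_one_iff _).2 (show t ∈ NM from this h1))
  have hTv : ∀ t, ∀ ht : t ∈ T, QuotientGroup.mk' NM ⟨t, hTS ht⟩ ∈ Subgroup.zpowers v := fun t ht => by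
    obtain ⟨u, hu, hut⟩ := hTM' ht
    rwa [show (⟨t, hTS ht⟩ : S) = u from Subtype.ext hut.symm]
  refine hTM (hyperfocal_le_of_le_sup_frattini hS hF hMT hMn (fun s hs y hy => ?_) (fun y hy => ?_)
    (hle.trans (sup_le_sup_right hUM _)))
  · have h1 := Subgroup.mem_center_iff.1 ((Subgroup.zpowers_le.2 hvZ.2) (hTv y hy))
      (QuotientGroup.mk' NM ⟨s, hs⟩)
    have h2 : QuotientGroup.mk' NM (⟨s, hs⟩ * ⟨y, hTS hy⟩ * ⟨s, hs⟩⁻¹ * ⟨y, hTS hy⟩⁻¹) = 1 := by
      rw [map_mul, map_mul, map_mul, h1, map_inv, map_inv, mul_inv_cancel_right, mul_inv_cancel]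
    exact show _ ∈ NM from (QuotientGroup.eq_one_iff (N := NM) ((⟨s, hs⟩ : S) * (⟨y, hTS hy⟩ : S) * (⟨s, hs⟩ : S)⁻¹ * (⟨y, hTS hy⟩ : S)⁻¹)).1 h2
  · obtain ⟨m, hm⟩ := hTv y hy
    have h2 : QuotientGroup.mk' NM (⟨y, hTS hy⟩ ^ p) = 1 := by
      rw [map_pow, ← hm]
      show (v ^ m) ^ p = 1
      rw [← zpow_natCast, ← zpow_mul, mul_comm, zpow_mul, zpow_natCast, hvp, one_zpow]
    exact show _ ∈ NM from (QuotientGroup.eq_one_iff (N := NM) ((⟨y, hTS hy⟩ : S) ^ p)).1 h2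

end Transfer

end CfsgLib.Fusion
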