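import Cfsg.Agent.Lib.Fusion.PPowerTransfer
import Cfsg.Agent.Lib.Fusion.PPowerUnique
import Cfsg.Agent.Lib.Fusion.Tate
import Cfsg.Agent.Lib.ClassSizes.Basic

/-!
Existence of saturated subsystems of `p`-power index over every subgroup containing the hyperfocal
subgroup, with the decomposition of every map into one of the subsystem and a conjugation.
-/

set_option autoImplicit false

namespace CfsgLib.Fusion

open Cfsg Cfsg.FusionSystem

universe u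

variable {Ω : Type u} [Group Ω] {S : Subgroup Ω} {F : FusionSystem S} {p : ℕ}
variable {T : Subgroup Ω} {G : Type u} [Group G] {ι : S →* G} {A : Type*} [CommGroup A]
  {τ : G →* A}

theorem DetectingTransfer.apply_mem (hD : DetectingTransfer F T G ι A τ) {P : Subgroup Ω}
    {φ : P →* Ω} (hφ : φ ∈ F.Hom P) (x : P) (hx : (x : Ω) ∈ T) : φ x ∈ T := by
  obtain ⟨g, hg⟩ := hD.conj hφ
  have h := congrArg τ (hg x)
  rw [map_mul, map_mul, (hD.ker ⟨x, hom_le hφ x.2⟩).2 hx, mul_one, mul_eq_right] at h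
  exact (hD.ker ⟨φ x, hom_apply_mem hφ x⟩).1 h

/-- The maps realised in the kernel of the transfer. -/
def detSystem (hD : DetectingTransfer F T G ι A τ) (hTS : T ≤ S) : FusionSystem T where
  Hom P := {φ | φ ∈ F.Hom P ∧ P ≤ T ∧ ∃ g : G, τ g = 1 ∧
    ∀ (x : P) (h : (x : Ω) ∈ S) (h' : φ x ∈ S), ι ⟨φ x, h'⟩ * g = g * ι ⟨x, h⟩}
  le_of_mem h := ⟨h.2.1, fun x => hD.apply_mem h.1 x (h.2.1 x.2)⟩
  injective_of_mem h := F.injective_of_mem h.1
  conj_mem {P g} hP hg := ⟨F.conj_mem (hP.trans hTS) (hTS hg), hP, ι ⟨g, hTS hg⟩, (hD.ker _).2 hg,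
    fun x h h' => by
      rw [← map_mul, ← map_mul]
      exact congrArg ι (Subtype.ext (show g * (x : Ω) * g⁻¹ * g = g * (x : Ω) by group))⟩
  comp_mem := by
    rintro P Q φ ψ ⟨hφ, hP, g, hg, hgv⟩ ⟨hψ, -, k, hk, hkv⟩ h
    refine ⟨F.comp_mem hφ hψ h, hP, k * g, by rw [map_mul, hg, hk, one_mul], fun x hx hx' => ?_⟩
    have h1 := hgv x hx (hom_apply_mem hφ x)
    have h2 := hkv ⟨φ x, h x⟩ (hom_apply_mem hφ x) hx'
    change ι ⟨ψ ⟨φ x, h x⟩, hx'⟩ * (k * g) = _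
    rw [← mul_assoc, h2, mul_assoc, h1, mul_assoc]
  inv_mem := by
    rintro P φ ⟨hφ, hP, g, hg, hgv⟩
    obtain ⟨ψ, hψ, hv⟩ := F.inv_mem hφ
    refine ⟨ψ, ⟨hψ, ?_, g⁻¹, by rw [map_inv, hg, inv_one], ?_⟩, hv⟩
    · rintro _ ⟨x, rfl⟩; exact hD.apply_mem hφ x (hP x.2)
    · rintro ⟨_, x, rfl⟩ h h'
      have h1 := hgv x (hom_le hφ x.2) h
      rw [show (⟨ψ ⟨φ x, ⟨x, rfl⟩⟩, h'⟩ : S) = ⟨x, hom_le hφ x.2⟩ from Subtype.ext (hv x),
        eq_inv_mul_iff_mul_eq, ← mul_assoc, mul_inv_eq_iff_eq_mul]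
      exact h1.symm

theorem isPPowerIndex_detSystem [Fact p.Prime] [Finite S] (hD : DetectingTransfer F T G ι A τ)
    (hTS : T ≤ S) (hA : ∀ a : A, a ^ p = 1) (hT : F.hyperfocalSubgroup p ≤ T) :
    (detSystem hD hTS).HasPPowerIndexIn F p := by
  refine ⟨fun P φ h => h.1, hT, fun P hP => ?_⟩
  rw [Subgroup.map_le_iff_le_comap, pResidual, Subgroup.closure_le]
  intro α hα
  have hPS := hP.trans hTS
  set r := orderOf α with hr
  obtain ⟨g, hg⟩ := hD.conj ((mem_autGroup_iff hPS).1 α.2)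
  replace hg : ∀ x : P, ι ⟨((α : MulAut P) x : Ω), hPS ((α : MulAut P) x).2⟩ * g =
      g * ι ⟨x, hPS x.2⟩ := hg
  obtain ⟨k, hk1, hk2⟩ := Nat.chineseRemainder hα (1 : ℕ) 0
  have hαk : (α : MulAut P) ^ k = α := by
    have h1 : α ^ k = α ^ 1 := by
      rw [pow_eq_pow_iff_modEq]
      exact hk1
    rw [pow_one] at h1
    exact congrArg Subtype.val h1
  have hpow : ∀ (i : ℕ) (x : P), ι ⟨(((α : MulAut P) ^ i) x : Ω), hPS (((α : MulAut P) ^ i) x).2⟩ *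
      g ^ i = g ^ i * ι ⟨x, hPS x.2⟩ := by
    intro i
    induction i with
    | zero => intro x; simp
    | succ i ih =>
      intro x
      have h1 := ih ((α : MulAut P) x)
      calc ι ⟨(((α : MulAut P) ^ (i + 1)) x : Ω), _⟩ * g ^ (i + 1)
          = ι ⟨(((α : MulAut P) ^ i) ((α : MulAut P) x) : Ω), hPS (((α : MulAut P) ^ i) ((α : MulAut P) x)).2⟩ * g ^ i * g := by
            rw [pow_succ g, ← mul_assoc]
            congr 3
        _ = g ^ i * (ι ⟨((α : MulAut P) x : Ω), hPS ((α : MulAut P) x).2⟩ * g) := by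
            rw [h1, mul_assoc]
        _ = g ^ (i + 1) * ι ⟨x, hPS x.2⟩ := by rw [hg, pow_succ, mul_assoc]
  refine (mem_autGroup_iff hP).2 ⟨(mem_autGroup_iff hPS).1 α.2, hP, g ^ k, ?_, fun x h h' => ?_⟩
  · obtain ⟨c, rfl⟩ : p ∣ k := Nat.modEq_zero_iff_dvd.1 hk2
    rw [map_pow, pow_mul, hA, one_pow]
  · have := hpow k x
    simp only [hαk] at this
    exact this

section Step

variable [Fact p.Prime] [Finite S] (hS : IsPGroup p S) (hF : F.IsSaturated p)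
  (hD : DetectingTransfer F T G ι A τ) (hTS : T ≤ S) (hA : Nat.card A = p)

include hS hF hD hTS hA in
/-- An element centralizing a fully centralized subgroup of `T` is corrected into the kernel. -/
theorem exists_adjust {Q : Subgroup Ω} (hQT : Q ≤ T) (hQ : F.IsFullyCentralized Q) (h : G)
    (hh : ∀ y : Q, ι ⟨y, hTS (hQT y.2)⟩ * h = h * ι ⟨y, hTS (hQT y.2)⟩) :
    ∃ c, ∃ hc : c ∈ S, c ∈ centralizerIn S Q ∧ τ (ι ⟨c, hc⟩ * h) = 1 := by
  have hQS := hQT.trans hTS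
  by_cases hC : centralizerIn S Q ≤ T
  · refine ⟨1, S.one_mem, one_mem _, ?_⟩
    rw [show (⟨1, S.one_mem⟩ : S) = 1 from rfl, map_one, one_mul]
    refine hD.centralizer Q hQS hQT (fun P' hP' => ?_) h hh
    obtain ⟨e, he⟩ := isConj_iff.1 (isConj_symm hP')
    obtain ⟨ψ, hψ, hag⟩ := exists_extension (IsSaturated.receptive hS hF hQ) he le_sup_left
      (sup_le_extender he)
    intro z hz
    have h1 := hC (extension_mem_centralizerIn hψ le_sup_left hag ⟨z, le_sup_right (a := P') hz⟩ hz)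
    obtain ⟨g, hg⟩ := hD.conj hψ
    have h2 := congrArg τ (hg ⟨z, le_sup_right (a := P') hz⟩)
    rw [map_mul, map_mul, (hD.ker _).2 h1, one_mul] at h2
    exact (hD.ker ⟨z, centralizerIn_le _ hz⟩).1 (mul_eq_left.1 h2.symm)
  · set U := ((centralizerIn S Q).subgroupOf S).map (τ.comp ι)
    have : Finite A := Nat.finite_of_card_ne_zero (by rw [hA]; exact (Fact.out : p.Prime).ne_zero)
    have : Fact (Nat.card A).Prime := ⟨by rw [hA]; exact Fact.out⟩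
    rcases U.eq_bot_or_eq_top_of_prime_card with hU | hU
    · refine absurd (fun z hz => ?_) hC
      have : τ (ι ⟨z, centralizerIn_le _ hz⟩) ∈ U := ⟨⟨z, centralizerIn_le _ hz⟩, hz, rfl⟩
      rw [hU, Subgroup.mem_bot] at this
      exact (hD.ker _).1 this
    · obtain ⟨c, hc, hcv⟩ : (τ h)⁻¹ ∈ U := hU ▸ Subgroup.mem_top _
      refine ⟨c, c.2, hc, ?_⟩
      rw [map_mul, show τ (ι ⟨c, c.2⟩) = (τ h)⁻¹ from hcv, inv_mul_cancel]

include hS hF hD hTS hA in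
/-- A fully normalized subgroup is fully automized in the kernel system. -/
theorem detSystem_fullyAutomized {Q : Subgroup Ω} (hQT : Q ≤ T) (hQ : F.IsFullyNormalized Q) :
    (detSystem hD hTS).IsFullyAutomized p Q := by
  have hQS := hQT.trans hTS
  have := finite_mulAut_of_le (S := S) hQS
  set E := detSystem hD hTS
  obtain ⟨R, hR⟩ := (IsSaturated.fullyAutomized hS hF hQ).2
  set H := (E.autGroup Q).subgroupOf (F.autGroup Q)
  have hEF : E.autGroup Q ≤ F.autGroup Q := fun β hβ =>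
    (mem_autGroup_iff hQS).2 ((mem_autGroup_iff hQT).1 hβ).1
  have : H.Normal := by
    refine ⟨fun α hα β => ?_⟩
    obtain ⟨-, -, g, hg, hgv⟩ := (mem_autGroup_iff hQT).1 (Subgroup.mem_subgroupOf.1 hα)
    obtain ⟨k, hk⟩ := hD.conj ((mem_autGroup_iff hQS).1 β.2)
    refine Subgroup.mem_subgroupOf.2 ((mem_autGroup_iff hQT).2
      ⟨(mem_autGroup_iff hQS).1 (β * α * β⁻¹).2, hQT, k * g * k⁻¹, ?_, fun x h h' => ?_⟩)
    · rw [map_mul, map_mul, map_inv, hg, mul_one, mul_inv_cancel]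
    set y : Q := (β : MulAut Q)⁻¹ x with hy
    have hk' : ∀ z : Q, ι ⟨((β : MulAut Q) z : Ω), hQS ((β : MulAut Q) z).2⟩ * k =
      k * ι ⟨z, hQS z.2⟩ := hk
    have hg' : ι ⟨((α : MulAut Q) y : Ω), hQS ((α : MulAut Q) y).2⟩ * g = g * ι ⟨y, hQS y.2⟩ :=
      hgv y _ _
    have h1 : k⁻¹ * ι ⟨x, h⟩ = ι ⟨y, hQS y.2⟩ * k⁻¹ := by
      have := hk' y
      rw [show (⟨((β : MulAut Q) y : Ω), _⟩ : S) = ⟨x, h⟩ from
        Subtype.ext (by rw [hy, MulAut.apply_inv_self])] at this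
      rw [eq_mul_inv_iff_mul_eq, mul_assoc, this, inv_mul_cancel_left]
    change ι ⟨((β : MulAut Q) ((α : MulAut Q) y) : Ω), h'⟩ * (k * g * k⁻¹) = _
    rw [mul_assoc (k * g), h1, ← mul_assoc, ← mul_assoc, hk', mul_assoc k, hg', mul_assoc k g,
      ← mul_assoc g, ← mul_assoc k]
    simp only [mul_assoc]
  have hTE : autInducedBy T Q ≤ E.autGroup Q := autInducedBy_le_autGroup hQT
  have heq : (autInducedBy T Q).subgroupOf (F.autGroup Q) = (R : Subgroup (F.autGroup Q)) ⊓ H := by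
    ext α
    rw [hR]
    refine ⟨fun hα => ⟨autInducedBy_mono hTS hα, hTE hα⟩, fun ⟨hα1, hα2⟩ => ?_⟩
    obtain ⟨s, hs, hsv'⟩ := mem_autInducedBy_iff.1 hα1
    have hsv : ∀ x : Q, (((α : MulAut Q) x : Q) : Ω) = s * (x : Ω) * s⁻¹ := hsv'
    obtain ⟨-, -, g, hg, hgv⟩ := (mem_autGroup_iff hQT).1 (Subgroup.mem_subgroupOf.1 hα2)
    obtain ⟨c, hc, hcC, hcv⟩ := exists_adjust hS hF hD hTS hA hQT
      (IsSaturated.fullyCentralized hS hF hQ) (g⁻¹ * ι ⟨s, hs⟩) fun y => by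
      have h2 : ι ⟨((α : MulAut Q) y : Ω), hQS ((α : MulAut Q) y).2⟩ * g = g * ι ⟨y, hTS (hQT y.2)⟩ :=
        hgv y (hTS (hQT y.2)) _
      have h3 : ι ⟨((α : MulAut Q) y : Ω), hQS ((α : MulAut Q) y).2⟩ * ι ⟨s, hs⟩ =
          ι ⟨s, hs⟩ * ι ⟨y, hTS (hQT y.2)⟩ := by
        rw [← map_mul, ← map_mul]
        exact congrArg ι (Subtype.ext (show ((α : MulAut Q) y : Ω) * s = s * y by rw [hsv]; group))
      rw [← mul_assoc, show ι ⟨y, hTS (hQT y.2)⟩ * g⁻¹ =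
        g⁻¹ * ι ⟨((α : MulAut Q) y : Ω), hQS ((α : MulAut Q) y).2⟩ by
        rw [mul_inv_eq_iff_eq_mul, mul_assoc, h2, inv_mul_cancel_left],
        mul_assoc, mul_assoc, h3]
    refine Subgroup.mem_subgroupOf.2 (mem_autInducedBy_iff.2 ⟨s * c, ?_, fun x => ?_⟩)
    · rw [map_mul, map_mul, map_inv, hg, inv_one, one_mul, mul_comm, ← map_mul, ← map_mul] at hcv
      exact (hD.ker (⟨s, hs⟩ * ⟨c, hc⟩)).1 hcv
    · rw [hsv, show s * c * (x : Ω) * (s * c)⁻¹ = s * (c * (x : Ω) * c⁻¹) * s⁻¹ by group,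
        ← (mem_centralizerIn.1 hcC).2 x x.2, mul_inv_cancel_right]
  have hdvd := CfsgLib.ClassSizes.relIndex_dvd_index_of_normal_right H (R : Subgroup (F.autGroup Q))
  have hrel : (autInducedBy T Q).relIndex (E.autGroup Q) = (R : Subgroup (F.autGroup Q)).relIndex H := by
    rw [← Subgroup.inf_relIndex_right (R : Subgroup (F.autGroup Q)) H, ← heq,
      Subgroup.relIndex_subgroupOf hEF]
  have hnd : ¬ p ∣ ((autInducedBy T Q).subgroupOf (E.autGroup Q)).index := fun h => by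
    refine R.not_dvd_index ?_
    exact (h.trans (show (autInducedBy T Q).relIndex (E.autGroup Q) ∣
      (R : Subgroup (F.autGroup Q)).index from hrel ▸ hdvd))
  have hp : IsPGroup p ((autInducedBy T Q).subgroupOf (E.autGroup Q)) :=
    (isPGroup_autInducedBy (P := Q) (hS.to_le hTS)).of_equiv (Subgroup.subgroupOfEquivOfLe hTE).symm
  exact ⟨hQT, hp.toSylow hnd, rfl⟩

include hS hF hD hTS hA in
/-- A fully centralized subgroup is receptive in the kernel system. -/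
theorem detSystem_receptive {Q : Subgroup Ω} (hQT : Q ≤ T) (hQ : F.IsFullyCentralized Q) :
    (detSystem hD hTS).IsReceptive Q := by
  refine ⟨hQT, ?_⟩
  rintro P φ ⟨hφ, hPT, g, hg, hgv⟩ hrange
  obtain ⟨ψ, hψ, hag⟩ := (IsSaturated.receptive hS hF hQ).2 P φ hφ hrange
  have hN : extender T P φ ≤ extender S P φ := Subgroup.closure_mono
    fun a ⟨ha, haN, k, hk, hak⟩ => ⟨hTS ha, haN, k, hTS hk, hak⟩
  have hNT : extender T P φ ≤ T := extender_le_sup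
  have hPN : P ≤ extender T P φ := le_extender hPT fun x => hD.apply_mem hφ x (hPT x.2)
  obtain ⟨g₂, hg₂⟩ := hD.conj (restrict_mem hψ hN)
  obtain ⟨c, hc, hcC, hcv⟩ := exists_adjust hS hF hD hTS hA hQT hQ (g₂ * g⁻¹) fun y => by
    obtain ⟨x, hx⟩ : (y : Ω) ∈ φ.range := hrange ▸ y.2
    have h1 := hgv x (hom_le hφ x.2) (hom_apply_mem hφ x)
    have h2 := hg₂ (Subgroup.inclusion hPN x)
    have e1 : (⟨ψ.comp (Subgroup.inclusion hN) (Subgroup.inclusion hPN x),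
        hom_apply_mem (restrict_mem hψ hN) _⟩ : S) = ⟨y, hTS (hQT y.2)⟩ :=
      Subtype.ext ((hag x x.2 (hN (hPN x.2))).trans hx)
    rw [e1] at h2
    rw [show (⟨φ x, hom_apply_mem hφ x⟩ : S) = ⟨y, hTS (hQT y.2)⟩ from Subtype.ext hx] at h1
    replace h2 : ι ⟨y, hTS (hQT y.2)⟩ * g₂ = g₂ * ι ⟨x, hom_le hφ x.2⟩ := h2
    rw [← mul_assoc, h2, mul_assoc, mul_assoc,
      show ι ⟨x, hom_le hφ x.2⟩ * g⁻¹ = g⁻¹ * ι ⟨y, hTS (hQT y.2)⟩ by
        rw [mul_inv_eq_iff_eq_mul, mul_assoc, h1, inv_mul_cancel_left]]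
  have hval : ∀ a, ψ.comp (Subgroup.inclusion hN) a ∈ S := hom_apply_mem (restrict_mem hψ hN)
  let ψ₂ : extender T P φ →* Ω := (MulAut.conj c).toMonoidHom.comp (ψ.comp (Subgroup.inclusion hN))
  refine ⟨ψ₂, ⟨comp_mem' (restrict_mem hψ hN) (F.conj_mem le_rfl hc) hval fun _ => rfl, hNT,
    ι ⟨c, hc⟩ * g₂, ?_, fun x h h' => ?_⟩, fun x hP hN' => ?_⟩
  · have : τ (g₂ * g⁻¹) = τ g₂ := by rw [map_mul, map_inv, hg, inv_one, mul_one]
    rw [map_mul, ← this, ← map_mul, hcv]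
  · have h2 := hg₂ x
    have e : (⟨ψ₂ x, h'⟩ : S) = ⟨c, hc⟩ * ⟨ψ.comp (Subgroup.inclusion hN) x, hval x⟩ * ⟨c, hc⟩⁻¹ :=
      Subtype.ext rfl
    rw [e, map_mul, map_mul, map_inv, mul_assoc, inv_mul_cancel_left, mul_assoc, h2, mul_assoc]
  · have h1 : ψ.comp (Subgroup.inclusion hN) ⟨x, hN'⟩ = φ ⟨x, hP⟩ := hag x hP _
    show c * ψ.comp (Subgroup.inclusion hN) ⟨x, hN'⟩ * c⁻¹ = φ ⟨x, hP⟩
    rw [h1, ← (mem_centralizerIn.1 hcC).2 _ (hrange ▸ ⟨⟨x, hP⟩, rfl⟩), mul_inv_cancel_right]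

omit [Fact p.Prime] [Finite S] in
include hD hTS in
/-- Every map is a map of the kernel system followed by a conjugation. -/
theorem exists_decomp {P : Subgroup Ω} (hPT : P ≤ T) {φ : P →* Ω} (hφ : φ ∈ F.Hom P) :
    ∃ s ∈ S, ∃ φ₀ ∈ (detSystem hD hTS).Hom P, ∀ x, φ x = s * φ₀ x * s⁻¹ := by
  obtain ⟨g, hg⟩ := hD.conj hφ
  obtain ⟨s, hs⟩ := hD.surj (τ g)⁻¹
  refine ⟨(s : Ω)⁻¹, S.inv_mem s.2, (MulAut.conj (s : Ω)).toMonoidHom.comp φ,
    ⟨comp_mem' hφ (F.conj_mem le_rfl s.2) (hom_apply_mem hφ) fun _ => rfl, hPT, ι s * g,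
      by rw [map_mul, hs, inv_mul_cancel], fun x h h' => ?_⟩, fun x => ?_⟩
  · have e : (⟨(MulAut.conj (s : Ω)).toMonoidHom.comp φ x, h'⟩ : S) =
        s * ⟨φ x, hom_apply_mem hφ x⟩ * s⁻¹ := Subtype.ext rfl
    rw [e, map_mul, map_mul, map_inv, mul_assoc, inv_mul_cancel_left, mul_assoc, hg, mul_assoc]
  · show φ x = (s : Ω)⁻¹ * ((s : Ω) * φ x * (s : Ω)⁻¹) * (s : Ω)⁻¹⁻¹
    group

include hS hF hD hTS hA in
theorem detSystem_saturated : (detSystem hD hTS).IsSaturated p := by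
  intro P hPT
  obtain ⟨Q₀, hQ₀, -, -, hQ₀n⟩ := IsSaturated.exists_rep hS hF (hPT.trans hTS)
  obtain ⟨φ, hφ, hφr⟩ := hQ₀
  obtain ⟨s, hs, φ₀, hφ₀, hv⟩ := exists_decomp hD hTS hPT hφ
  refine ⟨φ₀.range, ⟨φ₀, hφ₀, rfl⟩, ?_⟩
  have hQT : φ₀.range ≤ T := by
    rintro _ ⟨x, rfl⟩; exact hD.apply_mem hφ₀.1 x (hPT x.2)
  have hcj : F.IsConj φ₀.range Q₀ :=
    isConj_trans (isConj_symm ⟨φ₀, hφ₀.1, rfl⟩) ⟨φ, hφ, hφr⟩
  have hmap : Q₀ = φ₀.range.map (MulAut.conj s).toMonoidHom := by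
    rw [← hφr, MonoidHom.map_range]
    congr 1
    exact MonoidHom.ext hv
  have hn : F.IsFullyNormalized φ₀.range := by
    refine ⟨hQT.trans hTS, fun R hR => (hQ₀n.2 R (isConj_trans (isConj_symm hcj) hR)).trans ?_⟩
    have := finite_le (normalizerIn_le (S := S) φ₀.range)
    refine Nat.card_le_card_of_injective
      (fun a : normalizerIn S Q₀ => (⟨s⁻¹ * a * s, S.mul_mem (S.mul_mem (S.inv_mem hs) a.2.1) hs, ?_⟩ :
        normalizerIn S φ₀.range)) fun a b h => Subtype.ext ?_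
    · have h1 : (a : Ω) ∈ Subgroup.normalizer
          ((φ₀.range.map (MulAut.conj s).toMonoidHom : Subgroup Ω) : Set Ω) :=
        (SetLike.ext_iff.1 (congrArg (fun Z : Subgroup Ω => Subgroup.normalizer (Z : Set Ω)) hmap)
          (a : Ω)).1 a.2.2
      rw [Subgroup.mem_normalizer_iff] at h1
      refine Subgroup.mem_normalizer_iff.2 fun y => ?_
      have h2 := h1 (s * y * s⁻¹)
      rw [show (a : Ω) * (s * y * s⁻¹) * (a : Ω)⁻¹ = s * (s⁻¹ * a * s * y * (s⁻¹ * a * s)⁻¹) * s⁻¹ by group] at h2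
      have hmem : ∀ z, s * z * s⁻¹ ∈ φ₀.range.map (MulAut.conj s).toMonoidHom ↔ z ∈ φ₀.range :=
        fun z => Subgroup.mem_map_iff_mem (MulEquiv.injective _)
      rwa [hmem, hmem] at h2
    · exact mul_left_cancel (mul_right_cancel (congrArg Subtype.val h :))
  exact ⟨detSystem_fullyAutomized hS hF hD hTS hA hQT hn,
    detSystem_receptive hS hF hD hTS hA hQT (IsSaturated.fullyCentralized hS hF hn)⟩

end Step

/-- Existence of a saturated subsystem of `p`-power index over a subgroup containing the hyperfocal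
subgroup, with decomposition of the maps. -/
theorem exists_pPowerSystem [Fact p.Prime] [Finite S] (hS : IsPGroup p S) (hF : F.IsSaturated p)
    (hTS : T ≤ S) (hT : F.hyperfocalSubgroup p ≤ T) :
    ∃ E : FusionSystem T, E.IsSaturated p ∧ E.HasPPowerIndexIn F p ∧
      ∀ P : Subgroup Ω, P ≤ T → ∀ φ ∈ F.Hom P,
        ∃ s ∈ S, ∃ φ₀ ∈ E.Hom P, ∀ x, φ x = s * φ₀ x * s⁻¹ := by
  induction hn : Nat.card S using Nat.strong_induction_on generalizing S with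
  | _ n ih =>
    subst hn
    rcases eq_or_lt_of_le hTS with rfl | hlt
    · refine ⟨F, hF, ⟨fun P => subset_rfl, hT, fun P hP => ?_⟩, fun P _ φ hφ =>
        ⟨1, T.one_mem, φ, hφ, fun x => by simp⟩⟩
      exact Subgroup.map_subtype_le _
    -- a maximal subgroup above
    obtain ⟨M, hM, hTM⟩ : ∃ M, IsCoatom M ∧ T.subgroupOf S ≤ M := by
      rcases eq_top_or_exists_le_coatom (T.subgroupOf S) with h | h
      · exact absurd (Subgroup.subgroupOf_eq_top.1 h) hlt.not_ge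
      · exact h
    have := CfsgLib.PGroups.normal_of_isCoatom' hS hM
    let T₁ : Subgroup Ω := M.map S.subtype
    have hT₁S : T₁ ≤ S := Subgroup.map_subtype_le M
    have hTT₁ : T ≤ T₁ := fun x hx =>
      ⟨⟨x, hTS hx⟩, hTM (Subgroup.mem_subgroupOf.2 hx), rfl⟩
    have hmem : ∀ s : S, (s : Ω) ∈ T₁ ↔ s ∈ M := fun s =>
      Subgroup.mem_map_iff_mem S.subtype_injective
    have hcard : Nat.card (S ⧸ M) = p := CfsgLib.PGroups.index_of_isCoatom hS hM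
    have : IsCyclic (S ⧸ M) := CfsgLib.PGroups.quotient_mulComm_of_isCoatom hS hM
    let _ : CommGroup (S ⧸ M) := IsCyclic.commGroup
    let χ : S →* S ⧸ M := QuotientGroup.mk' M
    have hker : ∀ s : S, χ s = 1 ↔ (s : Ω) ∈ T₁ := fun s => by
      rw [hmem]; exact QuotientGroup.eq_one_iff s
    have hA : ∀ a : S ⧸ M, a ^ p = 1 := fun a => by rw [← hcard]; exact pow_card_eq_one'
    have hst : ∀ {P : Subgroup Ω} {φ : P →* Ω} (hφ : φ ∈ F.Hom P) (x : P),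
        χ ⟨φ x, hom_apply_mem hφ x⟩ = χ ⟨x, hom_le hφ x.2⟩ := by
      intro P φ hφ x
      obtain ⟨s, hs, hv⟩ := exists_conj_mod_hyperfocal hS hF hφ
      have h1 := hTT₁ (hT (hv x))
      have h2 : χ ((⟨s, hs⟩ * ⟨x, hom_le hφ x.2⟩ * ⟨s, hs⟩⁻¹)⁻¹ * ⟨φ x, hom_apply_mem hφ x⟩) = 1 :=
        (hker _).2 h1
      rw [map_mul, map_inv, inv_mul_eq_one] at h2
      rw [← h2, map_mul, map_mul, map_inv, mul_comm (χ ⟨s, hs⟩), mul_inv_cancel_right]
    obtain ⟨G, i₁, i₂, ι, τ, hD⟩ := exists_detectingTransfer (T := T₁) hS hF hA χ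
      (QuotientGroup.mk'_surjective M) hker hst
    set E₁ := detSystem hD hT₁S
    have hE₁ : E₁.IsSaturated p := detSystem_saturated hS hF hD hT₁S hcard
    have hE₁i : E₁.HasPPowerIndexIn F p :=
      isPPowerIndex_detSystem hD hT₁S hA (hT.trans hTT₁)
    have hlt₁ : Nat.card T₁ < Nat.card S := by
      rw [Subgroup.card_subtype, ← M.card_mul_index]
      exact lt_mul_of_one_lt_right Nat.card_pos
        (by rw [CfsgLib.PGroups.index_of_isCoatom hS hM]; exact (Fact.out : p.Prime).one_lt)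
    have := finite_le hT₁S
    obtain ⟨E, hE, hEi, hdec⟩ := ih _ hlt₁ (hS.to_le hT₁S) hE₁ hTT₁
      ((hyperfocal_mono hE₁i.1 hT₁S).trans hT) rfl
    refine ⟨E, hE, ⟨fun P φ h => hE₁i.1 P (hEi.1 P h), hT, fun P hP => ?_⟩, fun P hP φ hφ => ?_⟩
    · refine le_trans ?_ (hEi.2.2 P hP)
      rw [Subgroup.map_le_iff_le_comap, pResidual, Subgroup.closure_le]
      intro α hα
      have h1 : (α : MulAut P) ∈ E₁.autGroup P :=
        hE₁i.2.2 P (hP.trans hTT₁) ⟨α, Subgroup.subset_closure hα, rfl⟩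
      refine ⟨⟨α, h1⟩, Subgroup.subset_closure ?_, rfl⟩
      show Nat.Coprime (orderOf (⟨(α : MulAut P), h1⟩ : E₁.autGroup P)) p
      rw [Subgroup.orderOf_mk, Subgroup.orderOf_coe]
      exact hα
    · obtain ⟨s, hs, φ₁, hφ₁, hv⟩ := exists_decomp hD hT₁S (hP.trans hTT₁) hφ
      obtain ⟨t, ht, φ₀, hφ₀, hv'⟩ := hdec P hP φ₁ hφ₁
      exact ⟨s * t, S.mul_mem hs (hT₁S ht), φ₀, hφ₀, fun x => by rw [hv, hv']; group⟩

end CfsgLib.Fusion
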