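import Cfsg.Agent.Lib.Fusion.PrimeIndexVal

/-!
The normal subsystem of index prime to `p` cut out by a character of `Aut_F(T)` trivial on a
normal subsystem over `T`.
-/

set_option autoImplicit false

namespace CfsgLib.Fusion

open Cfsg Cfsg.FusionSystem

variable {Ω : Type*} [Group Ω] {S T : Subgroup Ω} {F : FusionSystem S} {p : ℕ}

section Normal

variable [Finite S] [Fact p.Prime] (hS : IsPGroup p S) (hF : F.IsSaturated p)

/-- An index system with a normal group of automorphisms of `S` is normal. -/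
theorem indexSystem_isNormalIn (A : Subgroup (MulAut S)) (hA : A ≤ F.autGroup S)
    (hdet : DetGroup hS hF A)
    (hAn : ∀ a ∈ A, ∀ b ∈ F.autGroup S, b * a * b⁻¹ ∈ A) :
    (indexSystem hS hF A hA).IsNormalIn F p := by
  refine ⟨⟨indexSystem_saturated hS hF A hA hdet, hF, indexSystem_le hS hF A hA, stronglyClosed_top,
    ?_, ?_⟩, ?_⟩
  · intro P hPS φ hφ α hα
    obtain ⟨a, ha, φ₀, hφ₀, hv⟩ := hφ
    set P' := (P.subgroupOf S).map (S.subtype.comp α.toMonoidHom) with hP'
    have hP'S : P' ≤ S := by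
      rintro _ ⟨x, -, rfl⟩
      exact SetLike.coe_mem _
    have h1 : ∀ y : P', ((α⁻¹ (Subgroup.inclusion hP'S y) : S) : Ω) ∈ P := by
      rintro ⟨_, x, hx, rfl⟩
      rw [show Subgroup.inclusion hP'S ⟨_, ⟨x, hx, rfl⟩⟩ = α x from rfl, MulAut.inv_apply_self]
      exact hx
    have hφ' : GenMap F p (topConj α φ₀ hP'S h1 (hom_apply_mem hφ₀)) :=
      GenMap.topConj hφ₀ hα _ _ _
    refine ⟨(S.subtype.comp (α * a * α⁻¹ : MulAut S).toMonoidHom).comp
      ((topConj α φ₀ hP'S h1 (hom_apply_mem hφ₀)).codRestrict S (hom_apply_mem (GenMap.mem hφ'))),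
      ⟨_, hAn a ha α hα, _, hφ', fun _ _ => rfl⟩, fun x hφx hαx => ?_⟩
    show (((α * a * α⁻¹ : MulAut S) ⟨topConj α φ₀ hP'S h1 _ ⟨_, hαx⟩, _⟩ : S) : Ω) = _
    rw [MulAut.mul_apply, MulAut.mul_apply]
    congr 2
    have e1 : (⟨topConj α φ₀ hP'S h1 (hom_apply_mem hφ₀) ⟨_, hαx⟩,
        hom_apply_mem (GenMap.mem hφ') _⟩ : S) = α ⟨φ₀ x, hom_apply_mem hφ₀ x⟩ := by
      refine Subtype.ext ?_
      show topConj α φ₀ hP'S h1 (hom_apply_mem hφ₀) ⟨_, hαx⟩ = _
      rw [topConj_apply]
      congr 2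
      refine Subtype.ext (congrArg φ₀ (Subtype.ext ?_))
      show ((α⁻¹ (α ⟨(x : Ω), hPS x.2⟩) : S) : Ω) = x
      rw [MulAut.inv_apply_self]
    rw [e1, MulAut.inv_apply_self]
    exact Subtype.ext (hv x _).symm
  · intro P _ φ hφ
    obtain ⟨α, hα, φ₀, hφ₀, hv⟩ := exists_gen_decomp hS hF hφ
    exact ⟨α, hα, φ₀, genSystem_le_indexSystem hS hF A hA P hφ₀, hv⟩
  · intro α hα
    have hU : S ⊔ centralizerIn S S = S := sup_eq_left.2 inf_le_left
    have hUS : S ⊔ centralizerIn S S ≤ S := hU.le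
    have hαF : α ∈ F.autGroup S := (mem_autGroup_iff le_rfl).2
      (indexSystem_le hS hF A hA S ((mem_autGroup_iff le_rfl).1 hα))
    have := finite_le hUS
    let β₀ : ↥(S ⊔ centralizerIn S S) →* Ω :=
      (S.subtype.comp α.toMonoidHom).comp (Subgroup.inclusion hUS)
    have hβ₀ : β₀ ∈ F.Hom _ := restrict_mem ((mem_autGroup_iff le_rfl).1 hαF) hUS
    have hr : β₀.range = S ⊔ centralizerIn S S := Subgroup.eq_of_le_of_card_ge
      (by rintro _ ⟨x, rfl⟩; exact Subgroup.mem_sup_left (SetLike.coe_mem _))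
      (le_of_eq (Nat.card_congr (MonoidHom.ofInjective (F.injective_of_mem hβ₀)).toEquiv))
    obtain ⟨β, hβ, hβv⟩ := exists_iso hβ₀ hr
    refine ⟨β, (mem_autGroup_iff_isoIn hUS).2 hβ, fun x => hβv _, fun c hc => ?_⟩
    rw [hβv]
    obtain ⟨hcS, hcc⟩ := mem_centralizerIn.1 hc
    refine ⟨S.mul_mem (S.inv_mem hcS) (SetLike.coe_mem _),
      Subgroup.mem_centralizer_iff.2 fun y hy => ?_⟩
    show y * ((c : Ω)⁻¹ * (α ⟨c, _⟩ : S)) = (c : Ω)⁻¹ * (α ⟨c, _⟩ : S) * y
    obtain ⟨z, hz⟩ := α.surjective ⟨y, hy⟩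
    have h1 : (α z : S) * α ⟨c, hcS⟩ = α ⟨c, hcS⟩ * α z := by
      rw [← map_mul, ← map_mul]
      exact congrArg α (Subtype.ext (hcc z z.2))
    rw [hz] at h1
    have h1' : y * ((α ⟨c, hcS⟩ : S) : Ω) = ((α ⟨c, hcS⟩ : S) : Ω) * y := congrArg Subtype.val h1
    have h2 : y * (c : Ω)⁻¹ = (c : Ω)⁻¹ * y :=
      ((Commute.inv_right (hcc y hy : Commute y (c : Ω))).eq)
    rw [← mul_assoc, h2, mul_assoc, h1', ← mul_assoc]

end Normal

section Char

variable [Finite S] [Fact p.Prime] {E : FusionSystem T} {Δ : Type*} [Group Δ] [Finite Δ]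
  {χ : F.autGroup T →* Δ}

/-- Elements acting on `R` inside the `p`-core of `Aut_F(R)`. -/
def plusGroup (F : FusionSystem S) (p : ℕ) (R : Subgroup Ω) : Subgroup Ω :=
  ((((pCore p (F.autGroup R)).map (F.autGroup R).subtype).comap
    (R.normalizerMonoidHom.comp (Subgroup.inclusion (inf_le_right :
      normalizerIn S R ≤ Subgroup.normalizer (R : Set Ω)))))).map (normalizerIn S R).subtype

omit [Finite S] [Fact p.Prime] in
theorem plusGroup_le (F : FusionSystem S) (p : ℕ) (R : Subgroup Ω) :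
    plusGroup F p R ≤ normalizerIn S R := Subgroup.map_subtype_le _

omit [Finite S] [Fact p.Prime] in
theorem mem_plusGroup {R : Subgroup Ω} (g : normalizerIn S R) :
    (g : Ω) ∈ plusGroup F p R ↔ conjAut g ∈ (pCore p (F.autGroup R)).map (F.autGroup R).subtype := by
  constructor
  · rintro ⟨g', hg', hgg⟩
    obtain rfl : g' = g := Subtype.ext hgg
    exact hg'
  · exact fun h => ⟨g, h, rfl⟩

set_option maxHeartbeats 1000000 in
/-- Determinacy follows from determinacy at the centric radical subgroups. -/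
theorem detGroup_of_radical (hS : IsPGroup p S) (hF : F.IsSaturated p) (A : Subgroup (MulAut S))
    (hA : A ≤ F.autGroup S)
    (hbase : ∀ α ∈ F.autGroup S, ∀ R : Subgroup Ω, F.IsCentric R → F.IsRadical p R →
      ∀ φ ∈ (genSystem hS hF).Hom R,
      (∀ (x : R) (h : (x : Ω) ∈ S), φ x = ((α ⟨x, h⟩ : S) : Ω)) → α ∈ A) :
    DetGroup hS hF A := by
  classical
  have hdetA : ∀ (m : ℕ), ∀ α ∈ F.autGroup S, ∀ R : Subgroup Ω, F.IsCentric R →
      Nat.card S - Nat.card R ≤ m → ∀ φ ∈ (genSystem hS hF).Hom R,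
      (∀ (x : R) (h : (x : Ω) ∈ S), φ x = ((α ⟨x, h⟩ : S) : Ω)) → α ∈ A := by
    intro m
    induction m using Nat.strong_induction_on with
    | _ m ihm =>
    intro α hα R hR hm φ hφ hv
    have hRS := hR.1
    by_cases hrad : F.IsRadical p R
    · exact hbase α hα R hR hrad φ hφ hv
    -- move `R` to a fully normalized subgroup
    obtain ⟨u, hu, hun⟩ := exists_gen_normalizer_map hS hF hRS
    have hRN : R ≤ normalizerIn S R := le_normalizerIn hRS
    set R₁ := img u R with hR₁
    obtain ⟨r, hr, hrv⟩ := exists_iso (Q := R₁) (restrict_mem hu hRN) (range_restrict u hRN)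
    have hR₁c : F.IsCentric R₁ :=
      isCentric_of_isConj hR (isConj_img (GenMap.mem hu) hRN)
    have hR₁S := hR₁c.1
    have hR₁rad : ¬ F.IsRadical p R₁ := fun h =>
      hrad (isRadical_congr (show IsoIn F r from GenMap.mem hr.mem).symm h)
    have hcard₁ : Nat.card R₁ = Nat.card R := (Nat.card_congr r.toEquiv).symm
    set αh : S →* Ω := S.subtype.comp α.toMonoidHom with hαh
    have hαR : ∀ x : R, ((α (Subgroup.inclusion hRS x) : S) : Ω) = φ x := fun x =>
      (hv x (hRS x.2)).symm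
    have hαN : ∀ x : R, φ x ∈ normalizerIn S φ.range := fun x =>
      le_normalizerIn (hom_range_le (GenMap.mem hφ)) ⟨x, rfl⟩
    -- the restriction of `α` to `R₁` is generated
    obtain ⟨φ₁, hφ₁, hv₁⟩ : ∃ φ₁ ∈ (genSystem hS hF).Hom R₁,
        ∀ (x : R₁) (h : (x : Ω) ∈ S), φ₁ x = ((α ⟨x, h⟩ : S) : Ω) := by
      have hP' : φ.range ≤ S := hom_range_le (GenMap.mem hφ)
      have h1 : ∀ y : φ.range, ((α⁻¹ (Subgroup.inclusion hP' y) : S) : Ω) ∈ normalizerIn S R := by
        rintro ⟨_, x, rfl⟩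
        rw [show Subgroup.inclusion hP' ⟨φ x, ⟨x, rfl⟩⟩ = α (Subgroup.inclusion hRS x) from
          Subtype.ext (hαR x).symm, MulAut.inv_apply_self]
        exact hRN x.2
      have hu' := GenMap.topConj hu hα hP' h1 (hom_apply_mem (GenMap.mem hu))
      obtain ⟨θ, hθ, -, hθv, hθr⟩ := exists_inv hr.mem (isoHom_range r)
      have hθR : ∀ y, θ y ∈ R := fun y => (hθr y).1
      have hmem : ∀ y, φ ⟨θ y, hθR y⟩ ∈ φ.range := fun y => ⟨_, rfl⟩
      refine ⟨(topConj α u hP' h1 (hom_apply_mem (GenMap.mem hu))).comp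
        ((φ.comp (θ.codRestrict R hθR)).codRestrict φ.range hmem), GenMap.comp hu' (GenMap.comp hφ hθ hθR
        (χ := φ.comp (θ.codRestrict R hθR)) fun _ => rfl) hmem fun _ => rfl, fun y h => ?_⟩
      show topConj α u hP' h1 _ ⟨φ ⟨θ y, _⟩, _⟩ = _
      rw [topConj_apply]
      congr 2
      obtain ⟨x, rfl⟩ := r.surjective y
      have e1 : (⟨θ (r x), hθR _⟩ : R) = x := Subtype.ext (hθv x (r x).2)
      refine Subtype.ext ?_
      show u ⟨((α⁻¹ (Subgroup.inclusion hP' ⟨φ ⟨θ (r x), hθR _⟩, _⟩) : S) : Ω), _⟩ = (r x : Ω)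
      rw [hrv]
      refine congrArg u (Subtype.ext ?_)
      show ((α⁻¹ (Subgroup.inclusion hP' ⟨φ ⟨θ (r x), hθR _⟩, _⟩) : S) : Ω) = x
      rw [show Subgroup.inclusion hP' ⟨φ ⟨θ (r x), hθR _⟩, ⟨_, rfl⟩⟩ =
        α (Subgroup.inclusion hRS x) from Subtype.ext (by
          show φ ⟨θ (r x), _⟩ = _
          rw [e1]; exact (hαR x).symm), MulAut.inv_apply_self]
      rfl
    -- above the order of `R`
    have hup : ∀ α ∈ F.autGroup S, ∀ M : Subgroup Ω, F.IsCentric M → Nat.card R < Nat.card M →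
        ∀ ψ ∈ (genSystem hS hF).Hom M,
        (∀ (x : M) (h : (x : Ω) ∈ S), ψ x = ((α ⟨x, h⟩ : S) : Ω)) → α ∈ A := by
      intro α' hα' M hM hlt ψ hψ hψv
      have := Subgroup.card_le_of_le hM.1
      exact ihm (Nat.card S - Nat.card M) (by omega) α' hα' M hM le_rfl ψ hψ hψv
    -- the chain
    set D := indexSystem hS hF A hA with hD
    have hGD : genSystem hS hF ≤ D := genSystem_le_indexSystem hS hF A hA
    set Rx := plusGroup F p R₁ with hRp
    have hRpN : Rx ≤ normalizerIn S R₁ := plusGroup_le F p R₁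
    have hR₁N : R₁ ≤ normalizerIn S R₁ := le_normalizerIn hR₁S
    have hR₁p : R₁ ≤ Rx := fun x hx => (mem_plusGroup (⟨x, hR₁N hx⟩ : normalizerIn S R₁)).2
      ⟨⟨conjAut _, autInducedBy_le_autGroup hR₁S (conjAut_mem _)⟩,
        innIn_le_pCore hS hR₁S ⟨⟨x, hx⟩, MulEquiv.ext fun y => Subtype.ext rfl⟩, rfl⟩
    have hRplt : R₁ < Rx := by
      refine lt_of_le_of_ne hR₁p fun h => hR₁rad ?_
      rw [isRadical_iff_le hS hR₁S]
      intro a ha
      obtain ⟨T₁, hT₁⟩ := (IsSaturated.fullyAutomized hS hF hun).2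
      have haS : a ∈ (autInducedBy S R₁).subgroupOf (F.autGroup R₁) :=
        hT₁ ▸ Core.pCore_le_sylow T₁ ha
      obtain ⟨g, hg, hgv⟩ := mem_autInducedBy_iff.1 (Subgroup.mem_subgroupOf.1 haS)
      set g' : normalizerIn S R₁ := ⟨g, hg, mem_normalizer_of_conj_eq _ hgv⟩ with hg'
      have e : conjAut g' = (a : MulAut R₁) :=
        MulEquiv.ext fun y => Subtype.ext (hgv y).symm
      have hgR : g ∈ R₁ := h.ge ((mem_plusGroup g').2 ⟨a, ha, e.symm⟩)
      exact ⟨⟨g, hgR⟩, MulEquiv.ext fun y => Subtype.ext (hgv y).symm⟩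
    -- generated maps between fully normalized conjugates lift to `Rx`
    have chain : ∀ ψ : R₁ →* Ω, GenMap F p ψ → ∀ (Q₂ : Subgroup Ω), F.IsFullyNormalized Q₂ →
        ∀ v ∈ (genSystem hS hF).Hom (normalizerIn S ψ.range), ∀ w : R₁ ≃* Q₂,
          (∀ (x : R₁) (h : ψ x ∈ normalizerIn S ψ.range), (w x : Ω) = v ⟨ψ x, h⟩) →
          ∃ η ∈ D.Hom Rx, ∀ x : R₁, η (Subgroup.inclusion hR₁p x) = w x := by
      intro ψ hψ
      induction hψ with
      | incl ψ hP hψ =>
          intro Q₂ hQ₂ v hv w hwv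
          have hrg : ψ.range = R₁ := by
            ext y
            exact ⟨fun ⟨x, hx⟩ => by rw [← hx, hψ]; exact x.2, fun hy => ⟨⟨y, hy⟩, hψ _⟩⟩
          have hle : Rx ≤ normalizerIn S ψ.range := by rw [hrg]; exact hRpN
          refine ⟨v.comp (Subgroup.inclusion hle), restrict_mem (hGD _ hv) hle, fun x => ?_⟩
          rw [hwv x (by rw [hψ]; exact hle (hR₁p x.2))]
          exact congrArg v (Subtype.ext (hψ x).symm)
      | @step U ψ hc hrU a ha hk hψ hle ψ' hψ' ihs =>
          intro Q₂ hQ₂ v hv w hwv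
          have hUS := hc.1
          set R₀ := ψ.range with hR₀
          have hR₀U : R₀ ≤ U := by rintro _ ⟨x, rfl⟩; exact hle x
          have hR₀S := hR₀U.trans hUS
          obtain ⟨g, hg, hgn⟩ := exists_gen_normalizer_map hS hF hR₀S
          have hR₀N : R₀ ≤ normalizerIn S R₀ := le_normalizerIn hR₀S
          obtain ⟨q, hq, hqv⟩ := exists_iso (GenMap.mem hψ) (Q := R₀) rfl
          set Q₁ := img g R₀ with hQ₁
          obtain ⟨s, hs, hsv⟩ := exists_iso (Q := Q₁) (restrict_mem (GenMap.mem hg) hR₀N)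
            (range_restrict g hR₀N)
          obtain ⟨η₁, hη₁, hη₁v⟩ := ihs _ hgn g hg (q.trans s) fun x h => by
            rw [MulEquiv.trans_apply, hsv]
            exact congrArg g (Subtype.ext (hqv x))
          have hQ₁c : F.IsCentric Q₁ := isCentric_of_isConj hR₁c (hq.trans hs).isConj
          have hQ₁S := hQ₁c.1
          set W := normalizerIn U R₀ with hW
          have hWN : W ≤ normalizerIn S R₀ := inf_le_inf_right _ hUS
          have hR₀W : R₀ ≤ W := le_normalizerIn hR₀U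
          have hlt : R₀ < U := by
            refine lt_of_le_of_ne hR₀U fun h => hR₁rad ?_
            subst h
            exact isRadical_congr hq.symm hrU
          have := finite_le hUS
          have := finite_le ((normalizerIn_le (S := U) R₀).trans hUS)
          have hltW := lt_normalizerIn (hS.to_le hUS) hlt
          set aW : W →* Ω := (U.subtype.comp a.toMonoidHom).comp (Subgroup.inclusion inf_le_left)
            with haW
          have haWG : aW ∈ (genSystem hS hF).Hom W := restrict_mem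
            ((mem_autGroup_iff hUS).1 (genSystem_pow_mem hS hF hUS ha hk)) _
          have himg : img aW R₀ = ψ'.range := by
            ext y
            constructor
            · rintro ⟨x, hx, rfl⟩
              obtain ⟨z, hz⟩ := (hx : (x : Ω) ∈ R₀)
              exact ⟨z, (hψ' z).trans (congrArg (fun w : U => ((a w : U) : Ω)) (Subtype.ext hz))⟩
            · rintro ⟨z, rfl⟩
              exact ⟨⟨ψ z, hR₀W ⟨z, rfl⟩⟩, ⟨z, rfl⟩, (hψ' z).symm⟩
          have haWN : ∀ x, aW x ∈ normalizerIn S ψ'.range := fun x => by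
            have := gen_map_mem_normalizerIn (GenMap.mem haWG) hR₀W x x.2.2
            rwa [himg] at this
          obtain ⟨θ, hθ, -, hθv, hθr⟩ :=
            exists_inv (restrict_mem hg hWN) (range_restrict g hWN)
          have hθW : ∀ y, θ y ∈ W := fun y => (hθr y).1
          set t : img g W →* Ω :=
            v.comp ((aW.comp (θ.codRestrict W hθW)).codRestrict _ fun y => haWN _) with ht
          have htG : t ∈ (genSystem hS hF).Hom (img g W) :=
            comp_mem' (comp_mem' hθ haWG hθW fun _ => rfl) hv (fun y => haWN _) fun _ => rfl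
          have hQW : Q₁ ≤ img g W := img_mono g hR₀W
          have htv : ∀ y : Q₁, t (Subgroup.inclusion hQW y) = (((q.trans s).symm.trans w) y : Ω) := by
            intro y
            obtain ⟨x, rfl⟩ := (q.trans s).surjective y
            show _ = ((w ((q.trans s).symm ((q.trans s) x)) : Q₂) : Ω)
            rw [(q.trans s).symm_apply_apply]
            have hx : ψ' x ∈ normalizerIn S ψ'.range :=
              le_normalizerIn (hom_range_le (GenMap.mem (GenMap.step hc hrU a ha hk hψ hle ψ' hψ')))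
                ⟨x, rfl⟩
            rw [hwv x hx]
            refine congrArg v (Subtype.ext ?_)
            show aW ⟨θ _, _⟩ = ψ' x
            have e0 := hθv ⟨ψ x, hR₀W ⟨x, rfl⟩⟩ ⟨⟨ψ x, hR₀N ⟨x, rfl⟩⟩, hR₀W ⟨x, rfl⟩, rfl⟩
            have e1 : θ (Subgroup.inclusion hQW ((q.trans s) x)) = ψ x := by
              refine Eq.trans ?_ e0
              congr 1
              refine Subtype.ext ?_
              show (((q.trans s) x : img g R₀) : Ω) = g _
              rw [MulEquiv.trans_apply, hsv]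
              exact congrArg g (Subtype.ext (hqv x))
            rw [hψ']
            show ((a ⟨θ _, _⟩ : U) : Ω) = _
            exact congrArg (fun w : U => ((a w : U) : Ω)) (Subtype.ext e1)
          set e₂ : Q₁ ≃* Q₂ := (q.trans s).symm.trans w with he₂
          have he₂F : IsoIn F e₂ :=
            restrict_mem' (GenMap.mem htG) hQW fun y => (htv y).symm
          set Qx := plusGroup F p Q₁ with hQp
          set M := Qx ⊔ img g W with hM
          have hMN : M ≤ normalizerIn S Q₁ := by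
            refine sup_le (plusGroup_le F p Q₁) ?_
            rintro _ ⟨x, -, rfl⟩
            exact gen_map_mem_normalizerIn (GenMap.mem hg) hR₀N x x.2.2
          have hext : M ≤ extender S Q₁ (isoHom e₂) := by
            refine sup_le (fun y hy => ?_) (fun y hy => ?_)
            · have hyN := plusGroup_le F p Q₁ hy
              obtain ⟨c, hc', hcv⟩ := (mem_plusGroup (⟨y, hyN⟩ : normalizerIn S Q₁)).1 hy
              let ε : F.autGroup Q₁ ≃* F.autGroup Q₂ :=
                ((MulAut.congr e₂).subgroupMap (F.autGroup Q₁)).trans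
                  (MulEquiv.subgroupCongr he₂F.congr_autGroup)
              have hεc : ε c ∈ pCore p (F.autGroup Q₂) :=
                (Core.map_equiv_pCore ε) ▸ Subgroup.mem_map_of_mem _ hc'
              obtain ⟨T₂, hT₂⟩ := (IsSaturated.fullyAutomized hS hF hQ₂).2
              have h3 : ε c ∈ (autInducedBy S Q₂).subgroupOf (F.autGroup Q₂) :=
                hT₂ ▸ Core.pCore_le_sylow T₂ hεc
              obtain ⟨h, hh, hhv⟩ := mem_autInducedBy_iff.1 (Subgroup.mem_subgroupOf.1 h3)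
              refine mem_extender_iff.2 ⟨hyN.1, hyN.2, h, hh, fun x hx => ?_⟩
              have h4 := hhv (e₂ x)
              rw [isoHom_apply, isoHom_apply, ← h4]
              show _ = ((MulAut.congr e₂ (c : MulAut Q₁)) (e₂ x) : Q₂).1
              have hcx : (c : MulAut Q₁) x = (⟨y * x * y⁻¹, hx⟩ : Q₁) := by
                rw [show (c : MulAut Q₁) = conjAut (⟨y, hyN⟩ : normalizerIn S Q₁) from hcv]
                exact Subtype.ext rfl
              simp only [MulAut.congr, MulEquiv.coe_mk, Equiv.coe_fn_mk, MulEquiv.trans_apply,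
                MulEquiv.symm_apply_apply]
              rw [hcx]
            · have hyN := hMN (Subgroup.mem_sup_right hy)
              refine mem_extender_iff.2 ⟨hyN.1, hyN.2, t ⟨y, hy⟩,
                hom_apply_mem (GenMap.mem htG) _, fun x hx => ?_⟩
              rw [isoHom_apply, isoHom_apply, ← htv, ← htv, ← map_inv, ← map_mul, ← map_mul]
              rfl
          have hQ₁M : Q₁ ≤ M := hQW.trans le_sup_right
          obtain ⟨ξ, hξ, hag⟩ := exists_extension
            (IsSaturated.receptive hS hF (IsSaturated.fullyCentralized hS hF hQ₂)) he₂F hQ₁M hext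
          have hWM : img g W ≤ M := le_sup_right
          obtain ⟨z, -, -, hzv⟩ := maps_agree hS hF hQW hQ₁c (GenMap.mem htG)
            (restrict_mem hξ hWM) fun x hx => (htv ⟨(x : Ω), hx⟩).trans (hag ⟨(x : Ω), hx⟩).symm
          have hgWS : img g W ≤ S := hom_le htG
          have hξD : ξ ∈ D.Hom M := by
            refine det_map_at hS hF A hA hWM (isCentric_mono hQ₁c hQW hgWS) ?_ hξ ?_
            · intro α' hα' M' hM' hcM ψ₂ hψ₂ hψ₂v
              refine hup α' hα' M' hM' ?_ ψ₂ hψ₂ hψ₂v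
              rw [hcM, card_img ((genSystem hS hF).injective_of_mem hg) hWN, ← hcard₁,
                Nat.card_congr q.toEquiv]
              exact lt_of_le_of_ne (Subgroup.card_le_of_le hltW.le) fun h =>
                hltW.ne (Subgroup.eq_of_le_of_card_ge hltW.le h.ge)
            · exact comp_mem' (D.conj_mem hgWS (hgWS z.2)) (hGD _ htG)
                (fun x => (z * x * z⁻¹).2) fun x => hzv x
          have hη₁M : ∀ y, η₁ y ∈ Qx := by
            intro y
            have hyN := hRpN y.2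
            have hη₁F := indexSystem_le hS hF A hA _ hη₁
            have himg₁ : img η₁ R₁ = Q₁ := by
              ext z
              constructor
              · rintro ⟨x, hx, rfl⟩
                rw [show x = Subgroup.inclusion hR₁p ⟨(x : Ω), hx⟩ from rfl, hη₁v]
                exact SetLike.coe_mem _
              · intro hz
                exact ⟨Subgroup.inclusion hR₁p ((q.trans s).symm ⟨z, hz⟩),
                  ((q.trans s).symm ⟨z, hz⟩).2, by rw [hη₁v, MulEquiv.apply_symm_apply]⟩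
            have hmem := gen_map_mem_normalizerIn hη₁F hR₁p y hyN.2
            rw [himg₁] at hmem
            refine (mem_plusGroup (⟨η₁ y, hmem⟩ : normalizerIn S Q₁)).2 ?_
            obtain ⟨c, hc', hcv⟩ := (mem_plusGroup (⟨(y : Ω), hyN⟩ : normalizerIn S R₁)).1 y.2
            have he₁ : IsoIn F (q.trans s) := hq.trans hs
            let ε : F.autGroup R₁ ≃* F.autGroup Q₁ :=
              ((MulAut.congr (q.trans s)).subgroupMap (F.autGroup R₁)).trans
                (MulEquiv.subgroupCongr he₁.congr_autGroup)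
            refine ⟨ε c, (Core.map_equiv_pCore ε) ▸ Subgroup.mem_map_of_mem _ hc', ?_⟩
            show MulAut.congr (q.trans s) (c : MulAut R₁) = conjAut _
            refine MulEquiv.ext fun z => ?_
            obtain ⟨x, rfl⟩ := (q.trans s).surjective z
            refine Subtype.ext ?_
            show ((MulAut.congr (q.trans s) (c : MulAut R₁) ((q.trans s) x) : Q₁) : Ω) =
              η₁ y * ((q.trans s) x : Ω) * (η₁ y)⁻¹
            simp only [MulAut.congr, MulEquiv.coe_mk, Equiv.coe_fn_mk]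
            show (((q.trans s) ((c : MulAut R₁) ((q.trans s).symm ((q.trans s) x))) : Q₁) : Ω) = _
            rw [(q.trans s).symm_apply_apply, ← hη₁v, ← hη₁v, ← map_inv, ← map_mul, ← map_mul]
            congr 1
            refine Subtype.ext ?_
            show (((c : MulAut R₁) x : R₁) : Ω) = (y : Ω) * x * (y : Ω)⁻¹
            rw [show (c : MulAut R₁) = conjAut (⟨(y : Ω), hyN⟩ : normalizerIn S R₁) from hcv]
            rfl
          refine ⟨ξ.comp (η₁.codRestrict M fun y => Subgroup.mem_sup_left (hη₁M y)),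
            comp_mem' hη₁ hξD (fun y => Subgroup.mem_sup_left (hη₁M y)) fun _ => rfl, fun x => ?_⟩
          show ξ ⟨η₁ _, _⟩ = _
          rw [show (⟨η₁ (Subgroup.inclusion hR₁p x), Subgroup.mem_sup_left (hη₁M _)⟩ : M) =
            Subgroup.inclusion hQ₁M ((q.trans s) x) from Subtype.ext (hη₁v x), hag, he₂,
            MulEquiv.trans_apply]
          exact congrArg (fun z => ((w z : Q₂) : Ω)) ((q.trans s).symm_apply_apply x)
    -- conclusion
    have hφ₁F := GenMap.mem hφ₁
    have hiff : ∀ x : S, ((x : Ω) ∈ φ₁.range) ↔ (((α⁻¹ x : S) : Ω) ∈ R₁) := by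
      intro x
      constructor
      · rintro ⟨y, hy⟩
        have : x = α ⟨y, hR₁S y.2⟩ := Subtype.ext (hy.symm.trans (hv₁ y _))
        rw [this, MulAut.inv_apply_self]
        exact y.2
      · intro hx
        refine ⟨⟨_, hx⟩, ?_⟩
        rw [hv₁ _ (hR₁S hx)]
        exact congrArg Subtype.val (MulAut.apply_inv_self S α x)
    have hn₂ : F.IsFullyNormalized φ₁.range :=
      isFullyNormalized_aut hun (hom_range_le hφ₁F) (Subgroup.inv_mem _ hα) hiff
    obtain ⟨w, hw, hwv⟩ := exists_iso hφ₁F (Q := φ₁.range) rfl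
    obtain ⟨η, hη, hηv⟩ := chain φ₁ hφ₁ _ hn₂ _ (incl_mem (normalizerIn_le _)) w fun x h => hwv x
    have hRpS : Rx ≤ S := hRpN.trans (normalizerIn_le R₁)
    have hαp : αh.comp (Subgroup.inclusion hRpS) ∈ F.Hom Rx :=
      restrict_mem ((mem_autGroup_iff le_rfl).1 hα) hRpS
    obtain ⟨z, -, -, hzv⟩ := maps_agree hS hF hR₁p hR₁c (indexSystem_le hS hF A hA _ hη) hαp
      fun x hx => by
        have h1 := hηv ⟨(x : Ω), hx⟩
        refine h1.trans ((hwv _).trans ?_)
        exact hv₁ _ (hR₁S hx)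
    obtain ⟨a, ha, g, hg, hgv⟩ : αh.comp (Subgroup.inclusion hRpS) ∈ D.Hom Rx :=
      comp_mem' (D.conj_mem hRpS (hRpS z.2)) hη (fun x => (z * x * z⁻¹).2) fun x => hzv x
    have := finite_le hRpS
    have hlt : Nat.card R < Nat.card Rx := hcard₁ ▸ lt_of_le_of_ne
      (Subgroup.card_le_of_le hRplt.le) fun h =>
        hRplt.ne (Subgroup.eq_of_le_of_card_ge hRplt.le h.ge)
    have h2 : a⁻¹ * α ∈ A := by
      refine hup _ (Subgroup.mul_mem _ (Subgroup.inv_mem _ (hA ha)) hα) Rx
        (isCentric_mono hR₁c hR₁p hRpS) hlt g hg fun x h => ?_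
      have h3 := hgv x (hom_apply_mem (GenMap.mem hg) x)
      have h4 : α ⟨x, h⟩ = a ⟨g x, hom_apply_mem (GenMap.mem hg) x⟩ := Subtype.ext h3
      rw [MulAut.mul_apply, h4, MulAut.inv_apply_self]
    have := A.mul_mem ha h2
    rwa [mul_inv_cancel_left] at this
  exact fun α hα R hR φ hφ hv => hdetA _ α hα R hR le_rfl φ hφ hv

set_option maxHeartbeats 1000000 in
theorem exists_primeIndex_normal (hS : IsPGroup p S) (hF : F.IsSaturated p) (hTS : T ≤ S)
    (hd : CharData F E p χ) (hχ : Function.Surjective χ) [Nontrivial Δ] :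
    ∃ F₀ : FusionSystem S, F₀.IsNormalIn F p ∧ ¬ (∀ P : Subgroup Ω, F₀.Hom P = F.Hom P) ∧
      E.IsSubsystemOf F₀ ∧
      (∀ α : MulAut S, α ∈ F₀.autGroup S ↔ α ∈ F.autGroup S ∧ ∃ β : F.autGroup T, χ β = 1 ∧
        ∀ t : T, (((β : MulAut T) t : T) : Ω) = ((α ⟨(t : Ω), hTS t.2⟩ : S) : Ω)) ∧
      ∀ R : FusionSystem S, F.IsPPrimeResidual p R → R.IsSubsystemOf F₀ := by
  classical
  have hsc := hd.closed
  have := finite_le hTS
  have hTp : IsPGroup p T := hS.to_le hTS
  -- restriction to `T`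
  have hresmem : ∀ (α : F.autGroup S) (t : T),
      (((α : MulAut S) (Subgroup.inclusion hTS t) : S) : Ω) ∈ T := fun α t =>
    hsc.2 T le_rfl _ (restrict_mem ((mem_autGroup_iff le_rfl).1 α.2) hTS) t
  let res₀ : F.autGroup S → MulAut T := fun α => MulEquiv.ofBijective
    (((S.subtype.comp (α : MulAut S).toMonoidHom).comp (Subgroup.inclusion hTS)).codRestrict T
      (hresmem α))
    ((Nat.bijective_iff_injective_and_card _).2 ⟨fun a b h =>
      Subgroup.inclusion_injective hTS ((α : MulAut S).injective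
        (Subtype.ext ((congrArg Subtype.val h :)))), rfl⟩)
  have hres₀v : ∀ (α : F.autGroup S) (t : T), ((res₀ α t : T) : Ω) =
      (((α : MulAut S) (Subgroup.inclusion hTS t) : S) : Ω) := fun α t => rfl
  let res : F.autGroup S →* F.autGroup T :=
    MonoidHom.mk' (fun α => ⟨res₀ α, (mem_autGroup_iff hTS).2
      (restrict_mem' ((mem_autGroup_iff le_rfl).1 α.2) hTS fun t => rfl)⟩)
      fun a b => Subtype.ext (MulEquiv.ext fun t => Subtype.ext rfl)
  have hresv : ∀ (α : F.autGroup S) (t : T), (((res α : MulAut T) t : T) : Ω) =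
      (((α : MulAut S) (Subgroup.inclusion hTS t) : S) : Ω) := fun α t => rfl
  set A : Subgroup (MulAut S) := (χ.comp res).ker.map (F.autGroup S).subtype with hAdef
  have hA : A ≤ F.autGroup S := Subgroup.map_subtype_le _
  have hAiff : ∀ (α : F.autGroup S), (α : MulAut S) ∈ A ↔ χ (res α) = 1 := fun α => by
    constructor
    · rintro ⟨a, ha, hav⟩
      obtain rfl : a = α := Subtype.ext hav
      exact ha
    · exact fun h => ⟨α, h, rfl⟩
  have hgenF := genSystem_le hS hF
  -- `α` followed by generated maps has the value of `α`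
  have hval : ∀ (α : F.autGroup S) {Q : Subgroup Ω}, Q ≤ T → ∀ (φ₀ : Q →* Ω),
      φ₀ ∈ (genSystem hS hF).Hom Q → ∀ (φ : Q →* Ω),
      (∀ (x : Q) (h : φ₀ x ∈ S), φ x = (((α : MulAut S) ⟨φ₀ x, h⟩ : S) : Ω)) →
      HasVal E χ φ (χ (res α)) := by
    intro α Q hQ φ₀ hφ₀ φ hv
    have h1 : HasVal E χ φ₀ 1 := hd.val_restrict (hd.genMap_val hS hφ₀ Q le_rfl hQ) le_rfl
      fun x => rfl
    have h2 : HasVal E χ (T.subtype.comp (res α : MulAut T).toMonoidHom) (χ (res α)) :=
      hd.val_aut le_rfl (res α) fun t => rfl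
    have h3 := hd.val_comp h1 h2 (fun x => hd.val_range h1 ⟨x, rfl⟩) (θ := φ) fun x =>
      hv x (hom_apply_mem (GenMap.mem hφ₀) x)
    rwa [mul_one] at h3
  have hdet : DetGroup hS hF A := detGroup_of_radical hS hF A hA fun α hα R hR hrad φ hφ hv => by
    have hRS := hR.1
    refine (hAiff ⟨α, hα⟩).2 ?_
    have hTC := tCentric_inf_of_radical hS hF hsc hR hrad fun he h => isRadical_congr he h
    have h1 := hd.genMap_val hS hφ (R ⊓ T) inf_le_left inf_le_right
    have h2 : HasVal E χ (φ.comp (Subgroup.inclusion (inf_le_left : R ⊓ T ≤ R)))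
        (χ (res ⟨α, hα⟩)) :=
      hd.val_aut inf_le_right (res ⟨α, hα⟩) fun x => hv _ (hRS x.2.1)
    exact hd.val_unique hS hTC h2 h1
  have hAn : ∀ a ∈ A, ∀ b ∈ F.autGroup S, b * a * b⁻¹ ∈ A := by
    intro a ha b hb
    obtain ⟨a', ha', rfl⟩ := ha
    refine ⟨⟨b, hb⟩ * a' * ⟨b, hb⟩⁻¹, ?_, ?_⟩
    · exact Subgroup.Normal.conj_mem (MonoidHom.normal_ker (χ.comp res)) a' ha' ⟨b, hb⟩
    · rw [map_mul, map_mul, map_inv]
      rfl
  set F₀ := indexSystem hS hF A hA with hF₀
  have htop : ∀ α : MulAut S, α ∈ F₀.autGroup S ↔ α ∈ A := by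
    refine fun α => ⟨fun h => ?_, fun h => top_le_indexSystem hS hF A hA h⟩
    obtain ⟨a, ha, φ₀, hφ₀, hv⟩ := (mem_autGroup_iff le_rfl).1 h
    have hαF : α ∈ F.autGroup S := (mem_autGroup_iff le_rfl).2
      (indexSystem_le hS hF A hA S ((mem_autGroup_iff le_rfl).1 h))
    have h1 : a⁻¹ * α ∈ A := by
      refine hdet _ (Subgroup.mul_mem _ (Subgroup.inv_mem _ (hA ha)) hαF) S isCentric_self φ₀ hφ₀
        fun x hx => ?_
      have h3 : a ⟨φ₀ x, hom_apply_mem (GenMap.mem hφ₀) x⟩ = α x := Subtype.ext (hv x _).symm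
      rw [MulAut.mul_apply, show (⟨(x : Ω), hx⟩ : S) = x from rfl, ← h3, MulAut.inv_apply_self]
    have := A.mul_mem ha h1
    rwa [mul_inv_cancel_left] at this
  refine ⟨F₀, indexSystem_isNormalIn hS hF A hA hdet hAn, fun heq => ?_, ?_, fun α => ?_, ?_⟩
  · -- proper
    obtain ⟨d, hd1⟩ := exists_ne (1 : Δ)
    obtain ⟨b, hb⟩ := hχ d
    have hTfn : F.IsFullyNormalized T := ⟨hTS, fun Q hQ => by
      obtain ⟨φ, hφ, rfl⟩ := hQ
      rw [(StronglyClosed.weaklyClosed hsc).2 φ hφ]⟩
    obtain ⟨P, hP⟩ := (IsSaturated.fullyAutomized hS hF hTfn).2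
    have := finite_mulAut_of_le (S := S) hTS
    have hPker : (P : Subgroup (F.autGroup T)) ≤ χ.ker := fun x hx => by
      obtain ⟨k, hk⟩ := P.isPGroup' ⟨x, hx⟩
      have hk' : x ^ p ^ k = 1 := congrArg Subtype.val hk
      rw [MonoidHom.mem_ker, ← orderOf_eq_one_iff]
      exact Nat.eq_one_of_dvd_coprimes (Nat.Coprime.pow_right k hd.coprime) (orderOf_dvd_natCard _)
        (orderOf_dvd_of_pow_eq_one (by rw [← map_pow, hk', map_one]))
    have hfr := (Sylow.normalizer_sup_eq_top' P hPker).ge (Subgroup.mem_top b)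
    obtain ⟨n, hn, k, hk, rfl⟩ := Subgroup.mem_sup_of_normal_right.1 hfr
    have hnI : IsoIn F ((n : MulAut T) : T ≃* T) := (mem_autGroup_iff_isoIn hTS).1 n.2
    have hnormT : ∀ s ∈ S, ∀ x ∈ T, s * x * s⁻¹ ∈ T := fun s hs x hx =>
      hsc.2 T le_rfl _ (F.conj_mem hTS hs) ⟨x, hx⟩
    obtain ⟨ψ, hψ, hag⟩ := exists_extension (IsSaturated.receptive hS hF
      (IsSaturated.fullyCentralized hS hF hTfn)) hnI hTS (by
        intro s hs
        have hsN : s ∈ Subgroup.normalizer (T : Set Ω) := Subgroup.mem_normalizer_iff.2 fun x =>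
          ⟨hnormT s hs x, fun hx => by
            have := hnormT s⁻¹ (S.inv_mem hs) _ hx
            simpa [mul_assoc] using this⟩
        set c : MulAut T := T.normalizerMonoidHom ⟨s, hsN⟩ with hc
        have hcI : c ∈ autInducedBy S T := mem_autInducedBy_iff.2 ⟨s, hs, fun _ => rfl⟩
        have hcF : c ∈ F.autGroup T := autInducedBy_le_autGroup hTS hcI
        obtain ⟨h, hh, hhv⟩ := mem_autInducedBy_iff.1 (hP.le ((Subgroup.mem_normalizer_iff.1 hn
          ⟨c, hcF⟩).1 (hP.ge hcI)) : (n : MulAut T) * c * (n : MulAut T)⁻¹ ∈ autInducedBy S T)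
        refine mem_extender_iff.2 ⟨hs, hsN, h, hh, fun x hx => ?_⟩
        have := hhv ((n : MulAut T) x)
        rw [map_mul, map_mul, map_inv, Subgroup.coe_subtype, MulAut.mul_apply, MulAut.mul_apply, MulAut.inv_apply_self] at this
        exact this)
    obtain ⟨α, hα, hαv⟩ := exists_iso hψ (hom_range_eq_self hψ)
    have hαA : (α : MulAut S) ∈ A := (htop _).1 ((mem_autGroup_iff le_rfl).2 (by
      rw [heq]; exact hom_congr hψ fun x => hαv x))
    have hαF : (α : MulAut S) ∈ F.autGroup S := (mem_autGroup_iff_isoIn le_rfl).2 hα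
    have hres : res ⟨α, hαF⟩ = n :=
      Subtype.ext (MulEquiv.ext fun t => Subtype.ext ((hαv _).trans (hag t)))
    refine hd1 ?_
    rw [← hb, map_mul, show χ k = 1 from hk, mul_one, ← hres]
    exact (hAiff ⟨α, hαF⟩).1 hαA
  · -- containing `E`
    let D : FusionSystem T :=
      { Hom := fun P => {φ | φ ∈ F₀.Hom P ∧ P ≤ T ∧ ∀ x, φ x ∈ T}
        le_of_mem := fun h => ⟨h.2.1, h.2.2⟩
        injective_of_mem := fun h => F₀.injective_of_mem h.1
        conj_mem := fun {P g} hP hg => ⟨F₀.conj_mem (hP.trans hTS) (hTS hg), hP,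
          fun x => T.mul_mem (T.mul_mem hg (hP x.2)) (T.inv_mem hg)⟩
        comp_mem := fun hφ hψ h => ⟨F₀.comp_mem hφ.1 hψ.1 h, hφ.2.1, fun x => hψ.2.2 _⟩
        inv_mem := fun {P φ} hφ => by
          obtain ⟨ψ, hψ, -, hψv, hψr⟩ := exists_inv hφ.1 rfl
          refine ⟨ψ, ⟨hψ, ?_, fun y => hφ.2.1 (hψr y).1⟩, fun x => hψv x _⟩
          rintro _ ⟨x, rfl⟩
          exact hφ.2.2 x }
    have hone : ∀ {Q : Subgroup Ω}, TCentric F T Q → E.autGroup Q ≤ D.autGroup Q := by
      intro Q hQ e he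
      have heE := (mem_autGroup_iff hQ.1).1 he
      have heF := hd.sub Q heE
      obtain ⟨α, hα, φ₀, hφ₀, hv⟩ := exists_gen_decomp hS hF heF
      have h1 := hval ⟨α, hα⟩ hQ.1 φ₀ hφ₀ _ hv
      have h2 : χ (res ⟨α, hα⟩) = 1 := hd.val_unique hS hQ h1 (hd.val_of_mem heE)
      exact (mem_autGroup_iff hQ.1).2
        ⟨⟨α, (hAiff ⟨α, hα⟩).2 h2, φ₀, hφ₀, hv⟩, hQ.1, fun x => hQ.1 (e x).2⟩
    have hTC : TCentric F T T := ⟨le_rfl, fun Q hQ => by
      obtain ⟨φ, hφ, rfl⟩ := hQ
      rw [(StronglyClosed.weaklyClosed hsc).2 φ hφ]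
      exact centralizerIn_le T⟩
    have hED : E ≤ D := by
      refine alperin_gen hTp hd.normal.1.1 D (hone hTC) fun P hP hess _ =>
        (hone ⟨hP.le, ?_⟩).trans le_sup_left
      rintro _ ⟨φ, hφ, rfl⟩ y hy
      obtain ⟨γ, hγ, e, he, hv⟩ := hd.normal.1.2.2.2.2.2 P hP.le φ hφ
      obtain ⟨hyT, hyc⟩ := mem_centralizerIn.1 hy
      set z : T := γ⁻¹ ⟨y, hyT⟩ with hz
      have hzc : (z : Ω) ∈ centralizerIn T e.range := by
        refine mem_centralizerIn.2 ⟨z.2, ?_⟩
        rintro _ ⟨x, rfl⟩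
        have h1 := hyc (φ x) ⟨x, rfl⟩
        rw [hv x (hom_apply_mem he x)] at h1
        have h2 : γ (⟨e x, hom_apply_mem he x⟩ * z) = γ (z * ⟨e x, hom_apply_mem he x⟩) := by
          rw [map_mul, map_mul, hz, MulAut.apply_inv_self]
          exact Subtype.ext h1
        exact congrArg Subtype.val (γ.injective h2)
      obtain ⟨x, hx⟩ := hess.1.2 e.range ⟨e, he, rfl⟩ hzc
      refine ⟨x, ?_⟩
      rw [hv x (hom_apply_mem he x), show (⟨e x, hom_apply_mem he x⟩ : T) = z from Subtype.ext hx,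
        hz, MulAut.apply_inv_self]
    exact fun P φ hφ => (hED P hφ).1
  · -- the automorphisms of `S`
    rw [htop]
    constructor
    · intro h
      refine ⟨hA h, res ⟨α, hA h⟩, (hAiff ⟨α, hA h⟩).1 h, fun t => rfl⟩
    · rintro ⟨hα, β, hβ1, hβ⟩
      refine (hAiff ⟨α, hα⟩).2 ?_
      rwa [show res ⟨α, hα⟩ = β from Subtype.ext (MulEquiv.ext fun t => Subtype.ext (hβ t).symm)]
  · intro R hR
    exact hR.2.2 F₀ (indexSystem_saturated hS hF A hA hdet)
      (hasPrimeToPIndex_of_gen_le hS hF (genSystem_le_indexSystem hS hF A hA)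
        (indexSystem_le hS hF A hA))

end Char

end CfsgLib.Fusion
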