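import Cfsg.Agent.Lib.Fusion.SubnormalConstrained
import Cfsg.Agent.Lib.Fusion.SolvableExtension
import Cfsg.Agent.Lib.Fusion.WeakNormalResidual
import Cfsg.Agent.Lib.Fusion.PPowerNormal
import Cfsg.Agent.Lib.Fusion.PrimeIndexChar
import Cfsg.Agent.Lib.Fusion.NormalExtend
import Cfsg.Agent.Lib.Fusion.CoprimeCriterion
import Cfsg.Agent.Lib.PLocal.PSolvableExt

/-!
# Terminating residual series

A saturated system has a terminating residual series exactly when it is constrained and the
automorphism group of its core is `p`-solvable.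
-/

set_option autoImplicit false

namespace CfsgLib.Fusion

open Cfsg Cfsg.FusionSystem
open scoped commutatorElement

universe u

variable {Ω : Type u} [Group Ω] {S T : Subgroup Ω} {F : FusionSystem S} {E : FusionSystem T}
  {p : ℕ}

/-- Restriction of automorphisms to a strongly closed subgroup. -/
theorem exists_resHom [Finite S] {Q P : Subgroup Ω} (hQ : F.StronglyClosed Q) (hQP : Q ≤ P)
    (hP : P ≤ S) :
    ∃ r : F.autGroup P →* F.autGroup Q, ∀ (a : F.autGroup P) (q : Q),
      (((r a : MulAut Q) q : Q) : Ω) = (((a : MulAut P) ⟨q, hQP q.2⟩ : P) : Ω) := by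
  have hex : ∀ a : F.autGroup P, ∃ b : F.autGroup Q, ∀ q : Q,
      (((b : MulAut Q) q : Q) : Ω) = (((a : MulAut P) ⟨q, hQP q.2⟩ : P) : Ω) := by
    intro a
    have hφ := restrict_mem ((mem_autGroup_iff hP).1 a.2) hQP
    obtain ⟨e, he, hev⟩ := exists_iso hφ ((StronglyClosed.weaklyClosed hQ).2 _ hφ)
    exact ⟨⟨e, (mem_autGroup_iff_isoIn hQ.1).2 he⟩, hev⟩
  choose r hr using hex
  refine ⟨MonoidHom.mk' r fun a b => Subtype.ext (MulEquiv.ext fun q => Subtype.ext ?_), hr⟩
  rw [hr, Subgroup.coe_mul, Subgroup.coe_mul, MulAut.mul_apply, MulAut.mul_apply, hr]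
  congr 2
  exact Subtype.ext (hr b q).symm

/-- A coprime automorphism fixing `Q` and moving `x` by an element of `Q` fixes `x`. -/
theorem fixed_of_displace {P : Subgroup Ω} (hP : IsPGroup p P) {a : MulAut P}
    (ha : (orderOf a).Coprime p) {x : P} (hz : a (x⁻¹ * a x) = x⁻¹ * a x) : a x = x := by
  set z := x⁻¹ * a x
  have h : ∀ n : ℕ, (a ^ n) x = x * z ^ n := by
    intro n
    induction n with
    | zero => simp
    | succ n ih =>
        rw [pow_succ', MulAut.mul_apply, ih, map_mul, map_pow, hz, pow_succ',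
          show a x = x * z from (mul_inv_cancel_left x (a x)).symm, mul_assoc]
  have h1 := h (orderOf a)
  rw [pow_orderOf_eq_one, MulAut.one_apply, left_eq_mul] at h1
  have h2 : z = 1 := Transfer.eq_one_of_coprime_of_isPGroup hP
    (ha.coprime_dvd_left (orderOf_dvd_of_pow_eq_one h1))
  exact (inv_mul_eq_one.1 h2).symm

/-- The core of an invariant saturated subsystem is normal. -/
theorem invariant_core_isNormal [Fact p.Prime] [Finite S] (hS : IsPGroup p S) (hF : F.IsSaturated p)
    (hEs : E.IsSaturated p) (hE : E.IsInvariantIn F) : F.IsNormal E.core := by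
  have hTS := hE.2.1.1
  have := finite_le hTS
  have hT : IsPGroup p T := hS.to_le hTS
  set Q := E.core
  have hQn : E.IsNormal Q := core_isNormal
  have hQT : Q ≤ T := core_le
  obtain ⟨n, C, h0, hlast, hmono, hsc, hcomm⟩ := IsNormal.exists_series hT hQn
  have hCQ : ∀ i, C i ≤ Q := fun i => hlast ▸ hmono (Fin.le_last i)
  have hcm : ∀ (α : MulAut T) (A B D : Subgroup Ω), ⁅A, B⁆ ≤ D →
      ⁅autMap α A, autMap α B⁆ ≤ autMap α D := by
    intro α A B D h
    rw [autMap, autMap, ← Subgroup.map_commutator]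
    refine Subgroup.map_mono (Subgroup.commutator_le.2 fun a ha b hb => ?_)
    exact h (Subgroup.commutator_mem_commutator ha hb)
  have hQle : ∀ α ∈ F.autGroup T, autMap α Q ≤ Q := by
    intro α hα
    refine le_core (isNormal_of_series hT hEs (stronglyClosed_autMap hE hα (IsNormal.stronglyClosed hQn))
      (fun i => autMap α (C i)) ?_ ?_ (fun a b h => autMap_mono α (hmono h))
      (fun i => hcm α _ _ _ (hcomm i))
      (fun i => StronglyClosed.weaklyClosed (stronglyClosed_autMap hE hα (hsc _))))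
    · simp [h0, autMap]
    · simp [hlast]
  have hQeq : ∀ α ∈ F.autGroup T, autMap α Q = Q := by
    refine fun α hα => le_antisymm (hQle α hα) fun x hx => ?_
    have h1 : (α⁻¹ ⟨x, hQT hx⟩ : T).1 ∈ Q := hQle _ (inv_mem hα) (mem_autMap.2 hx)
    have h2 := (mem_autMap (α := α)).2 h1
    rwa [MulAut.apply_inv_self] at h2
  let D : Fin (n + 1) → Subgroup Ω := fun i => T ⊓ ⨅ α : F.autGroup T, autMap (α : MulAut T) (C i)
  have hD : ∀ i x, x ∈ D i ↔ x ∈ T ∧ ∀ α : F.autGroup T, x ∈ autMap (α : MulAut T) (C i) :=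
    fun i x => by simp [D, Subgroup.mem_iInf]
  have hDsc : ∀ i, F.StronglyClosed (D i) := by
    intro i
    refine stronglyClosed_of_invariant hE ⟨inf_le_left, fun R hR φ hφ x => (hD i _).2
      ⟨hom_apply_mem hφ x, fun α => ?_⟩⟩ fun β hβ => ?_
    · exact (stronglyClosed_autMap hE α.2 (hsc i)).2 R
        (fun y hy => ((hD i y).1 (hR hy)).2 α) φ hφ x
    · rintro _ ⟨y, hy, rfl⟩
      refine (hD i _).2 ⟨(β y).2, fun α => ?_⟩
      obtain ⟨z, hz, hzy⟩ := ((hD i _).1 hy).2 ((⟨β, hβ⟩ : F.autGroup T)⁻¹ * α)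
      refine ⟨z, hz, congrArg Subtype.val (show (α : MulAut T) z = β y from ?_)⟩
      have : β⁻¹ ((α : MulAut T) z) = y := Subtype.ext hzy
      rw [← this, MulAut.apply_inv_self]
  have hD1 : ∀ i, D i ≤ C i := fun i x hx => by
    obtain ⟨z, hz, hzx⟩ := ((hD i x).1 hx).2 1
    exact hzx ▸ hz
  have hlast' : D (Fin.last n) = Q := by
    refine le_antisymm ((hD1 _).trans hlast.le) fun x hx => (hD _ x).2 ⟨hQT hx, fun α => ?_⟩
    rw [hlast, hQeq _ α.2]
    exact hx
  refine isNormal_of_series hS hF (hlast' ▸ hDsc _) D ?_ hlast' ?_ (fun i => ?_)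
    fun i => StronglyClosed.weaklyClosed (hDsc _)
  · exact le_bot_iff.1 ((hD1 0).trans h0.le)
  · exact fun a b hab x hx => (hD b x).2
      ⟨((hD a x).1 hx).1, fun α => autMap_mono _ (hmono hab) (((hD a x).1 hx).2 α)⟩
  · refine Subgroup.commutator_le.2 fun a ha b hb => (hD _ _).2
      ⟨T.mul_mem (T.mul_mem (T.mul_mem ((hD _ a).1 ha).1 (hQT hb)) (T.inv_mem ((hD _ a).1 ha).1))
        (T.inv_mem (hQT hb)), fun α => ?_⟩
    refine hcm α _ _ _ (hcomm i) (Subgroup.commutator_mem_commutator (((hD _ a).1 ha).2 α) ?_)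
    rw [hQeq _ α.2]
    exact hb

/-- The automorphism group of the core is `p`-solvable as soon as that of some normal centric
subgroup is. -/
theorem pSolvable_core_of_centric [Fact p.Prime] [Finite S] (hS : IsPGroup p S) {Q : Subgroup Ω}
    (hQn : F.IsNormal Q) (hQc : F.IsCentric Q) (h : IsPSolvable p (F.autGroup Q)) :
    IsPSolvable p (F.autGroup F.core) := by
  have hle : Q ≤ F.core := le_core hQn
  have hRS : F.core ≤ S := core_le
  have := finite_mulAut_of_le (S := S) hRS
  obtain ⟨r, hr⟩ := exists_resHom (IsNormal.stronglyClosed hQn) hle hRS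
  refine isPSolvable_of_ker_pGroup r.rangeRestrict r.rangeRestrict_surjective ?_
    (PLocal.isPSolvable_subgroup h _)
  rw [MonoidHom.ker_rangeRestrict]
  refine isPGroup_of_coprime_trivial fun a ha => ?_
  rw [← Subgroup.orderOf_coe, ← Subgroup.orderOf_coe] at ha
  have hfix : ∀ y : F.core, (y : Ω) ∈ Q → ((a : F.autGroup F.core) : MulAut F.core) y = y := by
    intro y hy
    have h1 := hr a ⟨y, hy⟩
    rw [MonoidHom.mem_ker.1 a.2] at h1
    exact Subtype.ext h1.symm
  refine Subtype.ext (Subtype.ext (MulEquiv.ext fun x => ?_))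
  refine fixed_of_displace (hS.to_le hRS) ha (hfix _ ?_)
  set b : MulAut F.core := ((a : F.autGroup F.core) : MulAut F.core)
  refine hQc.2 Q (isConj_refl hQn.1) (mem_centralizerIn.2
    ⟨S.mul_mem (S.inv_mem (hRS x.2)) (hRS (b x).2), fun q hq => ?_⟩)
  have hxq : (x : Ω) * q * (x : Ω)⁻¹ ∈ Q :=
    conj_mem_of_mem_normalizer (IsNormal.normal_in hQn (hRS x.2)) hq
  have h1 := hfix ⟨_, hle hxq⟩ hxq
  rw [show (⟨_, hle hxq⟩ : F.core) = x * ⟨q, hle hq⟩ * x⁻¹ from Subtype.ext rfl, map_mul, map_mul,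
    map_inv, hfix ⟨q, hle hq⟩ hq] at h1
  have h2 : ((b x : F.core) : Ω) * q * ((b x : F.core) : Ω)⁻¹ = (x : Ω) * q * (x : Ω)⁻¹ :=
    congrArg Subtype.val h1
  show q * ((x : Ω)⁻¹ * b x) = (x : Ω)⁻¹ * b x * q
  calc q * ((x : Ω)⁻¹ * b x) = (x : Ω)⁻¹ * ((x : Ω) * q * (x : Ω)⁻¹) * b x := by group
    _ = (x : Ω)⁻¹ * b x * q := by rw [← h2]; group

/-- The automorphism group of a smaller normal subgroup is an image of that of the core. -/
theorem pSolvable_of_normal [Fact p.Prime] [Finite S] (hS : IsPGroup p S) {Q : Subgroup Ω}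
    (hQ : F.IsNormal Q) (h : IsPSolvable p (F.autGroup F.core)) :
    IsPSolvable p (F.autGroup Q) := by
  obtain ⟨r, hr⟩ := exists_resHom (IsNormal.stronglyClosed hQ) (le_core hQ) core_le
  refine PLocal.isPSolvable_of_surjective r (fun b => ?_) h
  obtain ⟨α, hα, hv⟩ := IsNormal.exists_aut core_isNormal (le_core hQ)
    ((mem_autGroup_iff hQ.1).1 b.2)
  exact ⟨⟨α, hα⟩, Subtype.ext (MulEquiv.ext fun q => Subtype.ext ((hr _ q).trans (hv q)))⟩

/-- Normal subsystems inherit constraint with `p`-solvable automorphism group. -/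
theorem good_of_normalIn [Fact p.Prime] [Finite S] (hS : IsPGroup p S)
    (hF : F.IsConstrained p) (hFp : IsPSolvable p (F.autGroup F.core)) (hE : E.IsNormalIn F p) :
    E.IsConstrained p ∧ IsPSolvable p (E.autGroup E.core) := by
  have hn := invariant_core_isNormal hS hF.1 hE.1.1 hE.1.2.2
  have hle : E.autGroup E.core ≤ F.autGroup E.core := fun a ha =>
    (mem_autGroup_iff hn.1).2 (hE.1.2.2.1 _ ((mem_autGroup_iff core_le).1 ha))
  exact ⟨isConstrained_of_isNormalIn hS hF hE,
    PLocal.isPSolvable_congr (Subgroup.subgroupOfEquivOfLe hle)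
      (PLocal.isPSolvable_subgroup (pSolvable_of_normal hS hn hFp) _)⟩

theorem invariant_self [Finite S] (F : FusionSystem S) : F.IsInvariantIn F := by
  refine ⟨fun P => subset_rfl, stronglyClosed_top, fun P hPS φ hφ α hα => ?_, fun P hP φ hφ => ?_⟩
  · have hα' := (mem_autGroup_iff le_rfl).1 hα
    have hi' := (mem_autGroup_iff le_rfl).1 (inv_mem hα)
    set R := (P.subgroupOf S).map (S.subtype.comp α.toMonoidHom)
    have hRS : R ≤ S := by rintro _ ⟨y, -, rfl⟩; exact (α y).2
    have h1 : ∀ y : R, ((α⁻¹ (Subgroup.inclusion hRS y) : S) : Ω) ∈ P := by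
      rintro ⟨_, y, hy, rfl⟩
      have : (Subgroup.inclusion hRS ⟨_, y, hy, rfl⟩ : S) = α y := Subtype.ext rfl
      rw [this, MulAut.inv_apply_self]
      exact hy
    refine ⟨_, F.comp_mem (F.comp_mem (restrict_mem hi' hRS) hφ h1) hα' (fun y => hom_apply_mem hφ _),
      fun x hx hax => ?_⟩
    show ((α ⟨φ ⟨_, h1 ⟨_, hax⟩⟩, _⟩ : S) : Ω) = _
    congr 2
    refine Subtype.ext (congrArg φ (Subtype.ext ?_))
    show ((α⁻¹ (α ⟨x, hPS x.2⟩) : S) : Ω) = x
    rw [MulAut.inv_apply_self]
  · exact ⟨1, one_mem _, φ, hφ, fun x hx => rfl⟩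

/-- The subgroup generated by the elements of `p`-power order. -/
theorem pElements_normal {G : Type*} [Group G] :
    (Subgroup.closure {g : G | ∃ k : ℕ, orderOf g = p ^ k}).Normal := by
  refine ⟨fun a ha g => ?_⟩
  have hle : Subgroup.closure {g : G | ∃ k : ℕ, orderOf g = p ^ k} ≤
      (Subgroup.closure {g : G | ∃ k : ℕ, orderOf g = p ^ k}).comap (MulAut.conj g).toMonoidHom :=
    (Subgroup.closure_le _).2 fun x ⟨k, hk⟩ => Subgroup.subset_closure
      ⟨k, by rw [← hk]; exact orderOf_injective _ (MulAut.conj g).injective x⟩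
  exact hle ha

theorem pElements_index_coprime [Fact p.Prime] {G : Type*} [Group G] [Finite G] :
    (Subgroup.closure {g : G | ∃ k : ℕ, orderOf g = p ^ k}).index.Coprime p := by
  obtain ⟨P⟩ : Nonempty (Sylow p G) := inferInstance
  refine Nat.Coprime.coprime_dvd_left (Subgroup.index_dvd_of_le ?_)
    ((Fact.out : p.Prime).coprime_iff_not_dvd.2 P.not_dvd_index).symm
  intro g hg
  obtain ⟨k, hk⟩ := IsPGroup.iff_orderOf.1 P.2 ⟨g, hg⟩
  exact Subgroup.subset_closure ⟨k, by rw [← hk, Subgroup.orderOf_mk]⟩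

/-- Passing up along the `p'`-residual. -/
theorem good_of_pPrimeResidual [Fact p.Prime] [Finite S] (hS : IsPGroup p S) (hF : F.IsSaturated p)
    {E : FusionSystem S} (hE : F.IsPPrimeResidual p E) (hEc : E.IsConstrained p)
    (hEp : IsPSolvable p (E.autGroup E.core)) :
    F.IsConstrained p ∧ IsPSolvable p (F.autGroup F.core) := by
  have hn := pPrimeResidual_normal hS hF hF (invariant_self F) hE
  have hQn := invariant_core_isNormal hS hF hE.1 hn.1.2.2
  obtain ⟨-, hQcE⟩ := exists_normal_centric_core hEc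
  set Q := E.core
  have hQS : Q ≤ S := hQn.1
  have hQc : F.IsCentric Q := ⟨hQS, fun R ⟨φ, hφ, hR⟩ => by
    rw [← hR, (StronglyClosed.weaklyClosed (IsNormal.stronglyClosed hQn)).2 φ hφ]
    exact hQcE.2 Q (isConj_refl hQS)⟩
  refine ⟨⟨hF, Q, hQn, hQc⟩, pSolvable_core_of_centric hS hQn hQc ?_⟩
  have := finite_mulAut_of_le (S := S) hQS
  set N := Subgroup.closure {α : F.autGroup Q | ∃ k : ℕ, orderOf α = p ^ k} with hN
  have := pElements_normal (p := p) (G := F.autGroup Q)
  refine PLocal.isPSolvable_extension N ?_ (PLocal.isPSolvable_of_card (Or.inr ?_))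
  · have hle : N.map (F.autGroup Q).subtype ≤ E.autGroup Q := hE.2.1.2 Q hQS
    refine PLocal.isPSolvable_congr ?_
      (PLocal.isPSolvable_subgroup hEp ((N.map (F.autGroup Q).subtype).subgroupOf (E.autGroup Q)))
    exact (Subgroup.subgroupOfEquivOfLe hle).trans
      (N.equivMapOfInjective _ (F.autGroup Q).subtype_injective).symm
  · rw [← Subgroup.index_eq_card]
    exact pElements_index_coprime

/-- Modulo the hyperfocal subgroup every map is a conjugation by an element of `S`. -/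
theorem hyperfocal_congr [Fact p.Prime] [Finite S] (hS : IsPGroup p S) (hF : F.IsSaturated p)
    {P : Subgroup Ω} {φ : P →* Ω} (hφ : φ ∈ F.Hom P) (x : P) :
    ∃ s ∈ S, (s * (x : Ω) * s⁻¹)⁻¹ * φ x ∈ F.hyperfocalSubgroup p := by
  set T := F.hyperfocalSubgroup p
  have hT : ∀ s ∈ S, ∀ y ∈ T, s * y * s⁻¹ ∈ T := fun s hs y hy => hyperfocal_conj_mem hs hy
  let M : FusionSystem S :=
    { Hom := fun P => {φ | φ ∈ F.Hom P ∧ ∀ x : P, ∃ s ∈ S, (s * (x : Ω) * s⁻¹)⁻¹ * φ x ∈ T}
      le_of_mem := fun h => F.le_of_mem h.1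
      injective_of_mem := fun h => F.injective_of_mem h.1
      conj_mem := fun {P g} hP hg => ⟨F.conj_mem hP hg, fun x => ⟨g, hg, by
        rw [show conjHom P g x = g * (x : Ω) * g⁻¹ from rfl, inv_mul_cancel]
        exact T.one_mem⟩⟩
      comp_mem := by
        rintro P Q φ ψ ⟨hφ, hv⟩ ⟨hψ, hw⟩ h
        refine ⟨F.comp_mem hφ hψ h, fun x => ?_⟩
        obtain ⟨s, hs, h1⟩ := hv x
        obtain ⟨r, hr, h2⟩ := hw ⟨φ x, h x⟩
        refine ⟨r * s, S.mul_mem hr hs, ?_⟩
        show (r * s * (x : Ω) * (r * s)⁻¹)⁻¹ * ψ ⟨φ x, h x⟩ ∈ T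
        convert T.mul_mem (hT r hr _ h1) h2 using 1
        group
      inv_mem := by
        rintro P φ ⟨hφ, hv⟩
        obtain ⟨ψ, hψ, hψv⟩ := F.inv_mem hφ
        refine ⟨ψ, ⟨hψ, ?_⟩, hψv⟩
        rintro ⟨_, x, rfl⟩
        obtain ⟨s, hs, h1⟩ := hv x
        refine ⟨s⁻¹, S.inv_mem hs, ?_⟩
        rw [hψv x]
        convert hT _ (S.inv_mem hs) _ (T.inv_mem h1) using 1
        group }
  have hle : F ≤ M := by
    refine alperin hS hF _ fun P hP α hα => ?_
    have hPn : F.IsFullyNormalized P := by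
      rcases hP with rfl | h
      · exact isFullyNormalized_self
      · exact h.2.1
    have hPS := hPn.1
    have := finite_mulAut_of_le (S := S) hPS
    obtain ⟨R, hR⟩ := (IsSaturated.fullyAutomized hS hF hPn).2
    obtain ⟨a, ha, k, hk, hak⟩ := Transfer.exists_mul_mem_pResidual R (⟨α, hα⟩ : F.autGroup P)
    rw [hR] at ha
    obtain ⟨g, hg, hgv⟩ := mem_autInducedBy_iff.1 (Subgroup.mem_subgroupOf.1 ha)
    refine (mem_autGroup_iff hPS).2 ⟨(mem_autGroup_iff hPS).1 hα, fun x => ⟨g, hg, ?_⟩⟩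
    set y : P := (k : MulAut P) x with hy
    have h1 : (x : Ω)⁻¹ * (y : Ω) ∈ T := Subgroup.subset_closure ⟨P, k, x, hPS, hk, rfl⟩
    have h3 : ((α x : P) : Ω) = g * (y : Ω) * g⁻¹ := by
      rw [← hgv y, hy]
      exact congrArg (fun z : MulAut P => ((z x : P) : Ω)) (congrArg Subtype.val hak)
    show (g * (x : Ω) * g⁻¹)⁻¹ * ((α x : P) : Ω) ∈ T
    rw [h3]
    convert hT g hg _ h1 using 1
    group
  exact (hle P hφ).2 x

/-- Passing up along the `p`-residual. -/
theorem good_of_pResidual [Fact p.Prime] [Finite S] (hS : IsPGroup p S) (hF : F.IsSaturated p)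
    {D : FusionSystem (F.hyperfocalSubgroup p)} (hD : F.IsPResidual p D) (hDc : D.IsConstrained p)
    (hDp : IsPSolvable p (D.autGroup D.core)) :
    F.IsConstrained p ∧ IsPSolvable p (F.autGroup F.core) := by
  have hTn : ∀ s ∈ S, ∀ y ∈ (F.hyperfocalSubgroup p), s * y * s⁻¹ ∈ (F.hyperfocalSubgroup p) := fun s hs y hy => hyperfocal_conj_mem hs hy
  have hTS : (F.hyperfocalSubgroup p) ≤ S := hyperfocal_le
  have := finite_le hTS
  have hDn : D.IsNormalIn F p := pPowerIndex_isNormalIn hS hF hTS hTn le_rfl hD.1 hD.2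
  have hQn := invariant_core_isNormal hS hF hD.1 hDn.1.2.2
  obtain ⟨-, hQcD⟩ := exists_normal_centric_core hDc
  set Q := D.core
  have hQT : Q ≤ (F.hyperfocalSubgroup p) := core_le
  set C := centralizerIn S Q with hC
  have hCN : C ≤ Subgroup.normalizer (Q : Set Ω) :=
    inf_le_right.trans (Subgroup.centralizer_le_normalizer _)
  have hCT : C ⊓ (F.hyperfocalSubgroup p) ≤ Q := fun x hx => hQcD.2 Q (isConj_refl hQT)
    (mem_centralizerIn.2 ⟨hx.2, (mem_centralizerIn.1 hx.1).2⟩)
  have hCsc : F.StronglyClosed C := by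
    refine ⟨inf_le_left, fun R hR φ hφ x => ?_⟩
    obtain ⟨ψ, hψ, hψR, hψQ⟩ := hQn.2 R φ hφ
    refine mem_centralizerIn.2 ⟨hom_apply_mem hφ x, fun q hq => ?_⟩
    obtain ⟨z, hz, rfl⟩ := hψQ.ge hq
    rw [← hψR x, ← map_mul, ← map_mul]
    exact congrArg ψ (Subtype.ext ((mem_centralizerIn.1 (hR x.2)).2 z hz))
  have hST : S ≤ Subgroup.normalizer ((F.hyperfocalSubgroup p) : Set Ω) :=
    StronglyClosed.normal_in (hyperfocal_stronglyClosed hS hF)
  let K : ℕ → Subgroup Ω := fun m => S.lowerCentralSeries m ⊔ (F.hyperfocalSubgroup p)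
  have hKdec : ∀ m, ∀ u ∈ K m, ∃ l ∈ S.lowerCentralSeries m, ∃ t ∈ (F.hyperfocalSubgroup p), l * t = u := by
    intro m u hu
    have hu' : u ∈ (↑(S.lowerCentralSeries m ⊔ (F.hyperfocalSubgroup p)) : Set Ω) := hu
    rw [Subgroup.coe_mul_of_left_le_normalizer_right _ (F.hyperfocalSubgroup p)
      ((S.lowerCentralSeries_le_self m).trans hST)] at hu'
    exact hu'
  have hKconj : ∀ m, ∀ s ∈ S, ∀ u ∈ K m, s * u * s⁻¹ ∈ K m := by
    intro m s hs u hu
    obtain ⟨l, hl, t, ht, rfl⟩ := hKdec m u hu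
    rw [show s * (l * t) * s⁻¹ = ⁅s, l⁆ * l * (s * t * s⁻¹) by
      simp only [commutatorElement_def]; group]
    refine mul_mem (Subgroup.mem_sup_left (mul_mem ?_ hl)) (Subgroup.mem_sup_right (hTn s hs t ht))
    refine S.lowerCentralSeries_antitone (Nat.le_succ m) ?_
    rw [Subgroup.lowerCentralSeries_succ, Subgroup.commutator_comm]
    exact Subgroup.commutator_mem_commutator hs hl
  have hCKsc : ∀ m, F.StronglyClosed (C ⊓ K m) := by
    refine fun m => ⟨inf_le_left.trans hCsc.1, fun R hR φ hφ x => ?_⟩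
    refine ⟨hCsc.2 R (hR.trans inf_le_left) φ hφ x, ?_⟩
    obtain ⟨s, hs, ht⟩ := hyperfocal_congr hS hF hφ x
    rw [show φ x = s * (x : Ω) * s⁻¹ * ((s * (x : Ω) * s⁻¹)⁻¹ * φ x) by group]
    exact mul_mem (hKconj m s hs x (hR x.2).2) (Subgroup.mem_sup_right ht)
  have : Group.IsNilpotent S := hS.isNilpotent
  obtain ⟨n, hn⟩ := (Subgroup.isNilpotent_iff_lowerCentralSeries S).1 this
  have hCn : F.IsNormal C := by
    refine isNormal_of_series hS hF hCsc
      (Fin.cons ⊥ (fun j : Fin (n + 1) => C ⊓ K (n - j)) : Fin (n + 1 + 1) → Subgroup Ω) rfl ?_ ?_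
      (fun i => ?_) (fun i => ?_)
    · rw [← Fin.succ_last, Fin.cons_succ]
      simp only [Fin.val_last, Nat.sub_self, K]
      exact inf_eq_left.2 (le_sup_of_le_left (by simpa using hCsc.1))
    · refine Fin.monotone_iff_le_succ.2 fun i => ?_
      induction i using Fin.cases with
      | zero => simp
      | succ j =>
          rw [← Fin.succ_castSucc, Fin.cons_succ, Fin.cons_succ]
          refine inf_le_inf_left _ (sup_le_sup_right (S.lowerCentralSeries_antitone ?_) _)
          simp only [Fin.val_castSucc, Fin.val_succ]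
          omega
    · induction i using Fin.cases with
      | zero =>
          rw [Fin.cons_succ]
          show ⁅C ⊓ K (n - ((0 : Fin (n + 1)) : ℕ)), C⁆ ≤ ⊥
          have hKn : K n = (F.hyperfocalSubgroup p) := by simp [K, hn]
          simp only [Fin.val_zero, Nat.sub_zero, hKn]
          refine Subgroup.commutator_le.2 fun a ha b hb => ?_
          rw [Subgroup.mem_bot, commutatorElement_eq_one_iff_mul_comm]
          exact (mem_centralizerIn.1 hb).2 a (hCT ha)
      | succ j =>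
          rw [← Fin.succ_castSucc, Fin.cons_succ, Fin.cons_succ]
          simp only [Fin.val_castSucc, Fin.val_succ]
          refine Subgroup.commutator_le.2 fun a ha c hc => ?_
          refine ⟨C.mul_mem (C.mul_mem (C.mul_mem ha.1 hc) (C.inv_mem ha.1)) (C.inv_mem hc), ?_⟩
          obtain ⟨l, hl, t, ht, rfl⟩ := hKdec _ a ha.2
          have hlS : l ∈ S := S.lowerCentralSeries_le_self _ hl
          have hcS : c ∈ S := hCsc.1 hc
          rw [show ⁅l * t, c⁆ = (l * (t * (c * t⁻¹ * c⁻¹)) * l⁻¹) * ⁅l, c⁆ by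
            simp only [commutatorElement_def]; group]
          refine mul_mem (Subgroup.mem_sup_right
            (hTn l hlS _ ((F.hyperfocalSubgroup p).mul_mem ht (hTn c hcS _ ((F.hyperfocalSubgroup p).inv_mem ht))))) (Subgroup.mem_sup_left ?_)
          have h1 : ⁅l, c⁆ ∈ S.lowerCentralSeries (n - (j + 1) + 1) := by
            rw [Subgroup.lowerCentralSeries_succ]
            exact Subgroup.commutator_mem_commutator hl hcS
          rwa [show n - (j : ℕ) = n - (j + 1) + 1 by omega]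
    · induction i using Fin.cases with
      | zero => simpa using StronglyClosed.weaklyClosed stronglyClosed_bot
      | succ j =>
          rw [← Fin.succ_castSucc, Fin.cons_succ]
          exact StronglyClosed.weaklyClosed (hCKsc _)
  have hQ'n : F.IsNormal (C ⊔ Q) := isNormal_sup hCn hQn
  have hQ'S : C ⊔ Q ≤ S := hQ'n.1
  have hQ'c : F.IsCentric (C ⊔ Q) := ⟨hQ'S, fun R ⟨φ, hφ, hR⟩ => by
    rw [← hR, (StronglyClosed.weaklyClosed (IsNormal.stronglyClosed hQ'n)).2 φ hφ]
    intro y hy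
    obtain ⟨hyS, hyc⟩ := mem_centralizerIn.1 hy
    exact Subgroup.mem_sup_left
      (mem_centralizerIn.2 ⟨hyS, fun q hq => hyc q (Subgroup.mem_sup_right hq)⟩)⟩
  refine ⟨⟨hF, _, hQ'n, hQ'c⟩, pSolvable_core_of_centric hS hQ'n hQ'c ?_⟩
  have := finite_mulAut_of_le (S := S) hQn.1
  have := finite_mulAut_of_le (S := S) hQ'S
  have hA : IsPSolvable p (F.autGroup Q) := by
    refine PLocal.isPSolvable_extension (pResidual p (F.autGroup Q)) ?_
      (PLocal.isPSolvable_of_card (Or.inl (IsPGroup.iff_card.1 Transfer.isPGroup_quotient_pResidual)))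
    have hle := hD.2.2.2 Q hQT
    refine PLocal.isPSolvable_congr ?_ (PLocal.isPSolvable_subgroup hDp
      (((pResidual p (F.autGroup Q)).map (F.autGroup Q).subtype).subgroupOf (D.autGroup Q)))
    exact (Subgroup.subgroupOfEquivOfLe hle).trans
      ((pResidual p (F.autGroup Q)).equivMapOfInjective _ (F.autGroup Q).subtype_injective).symm
  obtain ⟨r, hr⟩ := exists_resHom (IsNormal.stronglyClosed hQn) (le_sup_right : Q ≤ C ⊔ Q) hQ'S
  refine isPSolvable_of_ker_pGroup r.rangeRestrict r.rangeRestrict_surjective ?_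
    (PLocal.isPSolvable_subgroup hA _)
  rw [MonoidHom.ker_rangeRestrict]
  refine isPGroup_of_coprime_trivial fun a ha => ?_
  rw [← Subgroup.orderOf_coe] at ha
  set b : MulAut ↥(C ⊔ Q) := ((a : F.autGroup (C ⊔ Q)) : MulAut ↥(C ⊔ Q))
  have hfix : ∀ y : ↥(C ⊔ Q), (y : Ω) ∈ Q → b y = y := by
    intro y hy
    have h1 := hr a ⟨y, hy⟩
    rw [MonoidHom.mem_ker.1 a.2] at h1
    exact Subtype.ext h1.symm
  have hb : (orderOf b).Coprime p := by rwa [Subgroup.orderOf_coe]
  have hfixC : ∀ y : ↥(C ⊔ Q), (y : Ω) ∈ C → b y = y := by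
    intro y hy
    refine fixed_of_displace (hS.to_le hQ'S) hb (hfix _ (hCT ⟨?_, ?_⟩))
    · exact C.mul_mem (C.inv_mem hy)
        (StronglyClosed.apply_mem hCsc ((mem_autGroup_iff hQ'S).1 (a : F.autGroup (C ⊔ Q)).2) hy)
    · exact Subgroup.subset_closure ⟨C ⊔ Q, a, y, hQ'S, Transfer.mem_pResidual_of_coprime ha, rfl⟩
  refine Subtype.ext (Subtype.ext (MulEquiv.ext fun x => ?_))
  have hx : (x : Ω) ∈ (↑(C ⊔ Q) : Set Ω) := x.2
  rw [Subgroup.coe_mul_of_left_le_normalizer_right C Q hCN] at hx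
  obtain ⟨c, hc, q, hq, hcq⟩ := hx
  show b x = x
  rw [show x = (⟨c, Subgroup.mem_sup_left hc⟩ * ⟨q, Subgroup.mem_sup_right hq⟩ : ↥(C ⊔ Q)) from
    Subtype.ext hcq.symm, map_mul, hfixC _ hc, hfix _ hq]

/-- The inner system of a normal subgroup is normal. -/
theorem inner_isNormalIn_of_normal [Fact p.Prime] [Finite S] (hS : IsPGroup p S)
    (hF : F.IsSaturated p) {Q : Subgroup Ω} (hQN : F.IsNormal Q) :
    (innerFusionSystem Q).IsNormalIn F p := by
  have hQ := hQN.1
  refine ⟨⟨?_, hF, fun P φ hφ => ?_, IsNormal.stronglyClosed hQN, ?_, fun P hP φ hφ => ?_⟩, ?_⟩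
  · rw [innerFusionSystem_eq]
    have := finite_le hQ
    refine (fusionSystemOfSubgroup_sysEquiv (le_refl Q)).symm.saturated ?_
    obtain ⟨R, hR⟩ := isSylowIn_self (hS.to_le hQ)
    rw [← hR]
    exact groupFusion_saturated R
  · obtain ⟨hP, g, hg, hv⟩ := hφ
    exact conj_mem' (hP.trans hQ) (hQ hg) hv
  · rintro P hPQ φ ⟨-, g, hg, hv⟩ α -
    refine ⟨conjHom _ ((α ⟨g, hg⟩ : Q) : Ω), ⟨?_, _, (α ⟨g, hg⟩).2, fun _ => rfl⟩, ?_⟩
    · rintro _ ⟨t, -, rfl⟩
      exact (α t).2
    · intro x hx hm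
      show ((α ⟨g, hg⟩ : Q) : Ω) * (α ⟨x, hPQ x.2⟩ : Q) * ((α ⟨g, hg⟩ : Q) : Ω)⁻¹ = _
      rw [show (⟨φ x, hx⟩ : Q) = ⟨g, hg⟩ * ⟨x, hPQ x.2⟩ * ⟨g, hg⟩⁻¹ from Subtype.ext (hv x),
        map_mul, map_mul, map_inv]
      rfl
  · obtain ⟨α, hα, hαv⟩ := IsNormal.exists_aut hQN hP hφ
    exact ⟨α, hα, P.subtype, ⟨hP, 1, Q.one_mem, fun x => by simp⟩, fun x hx => (hαv x).symm⟩
  · intro α hα
    obtain ⟨-, g, hg, hv⟩ := (mem_autGroup_iff le_rfl).1 hα
    set M := Q ⊔ centralizerIn S Q
    have hMS : M ≤ S := sup_le hQ (centralizerIn_le Q)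
    refine ⟨MulAut.conj (⟨g, Subgroup.mem_sup_left hg⟩ : M), inn_le_autGroup hMS ⟨_, rfl⟩,
      fun x => (hv x).symm, fun c hc => ?_⟩
    show (c : Ω)⁻¹ * (g * (c : Ω) * g⁻¹) ∈ _
    rw [(mem_centralizerIn.1 hc).2 g hg, mul_inv_cancel_right, inv_mul_cancel]
    exact one_mem _

/-- A constrained system with `p`-solvable automorphisms of the core which is its own residual
on both sides is trivial. -/
theorem eq_bot_of_stable [Fact p.Prime] [Finite S] (hS : IsPGroup p S)
    (hc : F.IsConstrained p) (hp : IsPSolvable p (F.autGroup F.core))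
    (hres : F.IsPPrimeResidual p F) (hhyp : F.hyperfocalSubgroup p = S) : S = ⊥ := by
  have hF := hc.1
  obtain ⟨hQn, hQc⟩ := exists_normal_centric_core hc
  set Q := F.core
  have hQS : Q ≤ S := hQn.1
  have := finite_le hQS
  have := finite_mulAut_of_le (S := S) hQS
  -- generated by elements of `p`-power order
  have hN : Subgroup.closure {α : F.autGroup Q | ∃ k : ℕ, orderOf α = p ^ k} = ⊤ := by
    by_contra hne
    set N := Subgroup.closure {α : F.autGroup Q | ∃ k : ℕ, orderOf α = p ^ k}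
    have := pElements_normal (p := p) (G := F.autGroup Q)
    have : Nontrivial (F.autGroup Q ⧸ N) := QuotientGroup.nontrivial_iff.2 hne
    have hd : CharData F (innerFusionSystem Q) p (QuotientGroup.mk' N) := by
      refine ⟨inner_isNormalIn_of_normal hS hF hQn, ?_, ?_⟩
      · rw [← Subgroup.index_eq_card]
        exact pElements_index_coprime
      · intro a ha
        rw [QuotientGroup.ker_mk']
        obtain ⟨-, g, hg, hv⟩ := (mem_autGroup_iff le_rfl).1 (Subgroup.mem_subgroupOf.1 ha)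
        have he : (a : MulAut Q) = MulAut.conj (⟨g, hg⟩ : Q) :=
          MulEquiv.ext fun x => Subtype.ext (hv x)
        obtain ⟨k, hk⟩ := isPGroup_iff_orderOf_dvd_pow.1 (hS.to_le hQS) ⟨g, hg⟩
        obtain ⟨j, -, hj⟩ := (Nat.dvd_prime_pow Fact.out).1
          ((orderOf_map_dvd (MulAut.conj (G := Q)) ⟨g, hg⟩).trans hk)
        exact Subgroup.subset_closure ⟨j, by rw [← Subgroup.orderOf_coe, he]; exact hj⟩
    obtain ⟨F₀, hn, hneq, -, -, hle⟩ :=
      exists_primeIndex_normal hS hF hQS hd (QuotientGroup.mk'_surjective N)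
    exact hneq fun P => Set.Subset.antisymm (hn.1.2.2.1 P) (hle F hres P)
  -- conjugation by `S`
  let ρ : S →* F.autGroup Q := (Q.normalizerMonoidHom.comp
    (Subgroup.inclusion (IsNormal.normal_in hQn))).codRestrict _ fun s =>
      autInducedBy_le_autGroup hQS (mem_autInducedBy_iff.2 ⟨s, s.2, fun _ => rfl⟩)
  have hρ : ∀ (s : S) (q : Q), (((ρ s : MulAut Q) q : Q) : Ω) = s * (q : Ω) * (s : Ω)⁻¹ :=
    fun _ _ => rfl
  set O := pResidual p (F.autGroup Q) with hOdef
  have hO : O = ⊤ := by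
    have hrel : ∀ (P : Subgroup Ω) (hP : P ≤ S) (α : F.autGroup P), α ∈ pResidual p (F.autGroup P) →
        ∀ x : P, (ρ ⟨x, hP x.2⟩)⁻¹ * ρ ⟨((α : MulAut P) x : P), hP ((α : MulAut P) x).2⟩ ∈ O := by
      intro P hP α hα
      induction hα using Subgroup.closure_induction with
      | one => intro x; simp
      | mul a b _ _ ha hb =>
          intro x
          have := O.mul_mem (hb x) (ha ((b : MulAut P) x))
          simpa [mul_assoc] using this
      | inv a _ ha =>
          intro x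
          have := O.inv_mem (ha ((a : MulAut P)⁻¹ x))
          simp only [MulAut.apply_inv_self, mul_inv_rev, inv_inv] at this
          exact this
      | mem a ha =>
          intro x
          obtain ⟨ψ, hψ, hψP, hψQ⟩ := hQn.2 P _ ((mem_autGroup_iff hP).1 a.2)
          have hrng : (ψ.comp (Subgroup.inclusion (le_sup_right : Q ≤ P ⊔ Q))).range = Q := by
            rw [range_restrict]
            exact hψQ
          obtain ⟨f, hf, hfv⟩ := exists_iso (restrict_mem hψ (le_sup_right : Q ≤ P ⊔ Q)) hrng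
          set b : F.autGroup Q := ⟨f, (mem_autGroup_iff_isoIn hQS).2 hf⟩
          have h1 : ∀ y : P, ρ ⟨((a : MulAut P) y : P), hP ((a : MulAut P) y).2⟩ =
              b * ρ ⟨y, hP y.2⟩ * b⁻¹ := by
            intro y
            refine eq_mul_inv_iff_mul_eq.2 (Subtype.ext (MulEquiv.ext fun q => Subtype.ext ?_))
            show (((a : MulAut P) y : P) : Ω) * (f q : Ω) * (((a : MulAut P) y : P) : Ω)⁻¹ =
              ((f ((ρ ⟨y, hP y.2⟩ : MulAut Q) q) : Q) : Ω)
            have e : (((a : MulAut P) y : P) : Ω) = ψ (Subgroup.inclusion le_sup_left y) :=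
              (hψP y).symm
            rw [hfv, hfv, e, ← map_inv, MonoidHom.comp_apply, MonoidHom.comp_apply, ← map_mul, ← map_mul]
            exact congrArg ψ (Subtype.ext (hρ ⟨y, hP y.2⟩ q).symm)
          have hpow : ∀ (m : ℕ) (y : P), ρ ⟨(((a : MulAut P) ^ m) y : P),
              hP (((a : MulAut P) ^ m) y).2⟩ = b ^ m * ρ ⟨y, hP y.2⟩ * (b ^ m)⁻¹ := by
            intro m
            induction m with
            | zero => intro y; simp
            | succ m ih =>
                intro y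
                simp only [pow_succ', MulAut.mul_apply]
                rw [h1, ih]
                group
          obtain ⟨k, hk⟩ := Transfer.exists_pow_prime_pow_coprime (p := p) b
          have haco : (orderOf (a : MulAut P)).Coprime p := by rwa [Subgroup.orderOf_coe]
          obtain ⟨j, hj⟩ := exists_pow_eq_self_of_coprime (n := p ^ k) (haco.symm.pow_left k)
          rw [← pow_mul] at hj
          have hc : b ^ (p ^ k * j) ∈ O := by
            rw [pow_mul]
            exact O.pow_mem (Transfer.mem_pResidual_of_coprime hk) j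
          have h2 := hpow (p ^ k * j) x
          simp only [hj] at h2
          rw [h2, ← mul_assoc, ← mul_assoc]
          exact O.mul_mem ((inferInstance : O.Normal).conj_mem' _ hc _) (O.inv_mem hc)
    have hall : ∀ s : S, ρ s ∈ O := by
      have hle : F.hyperfocalSubgroup p ≤ (O.comap ρ).map S.subtype := by
        rw [FusionSystem.hyperfocalSubgroup, Subgroup.closure_le]
        rintro _ ⟨P, α, x, hP, hα, rfl⟩
        refine ⟨⟨x, hP x.2⟩⁻¹ * ⟨((α : MulAut P) x : P), hP ((α : MulAut P) x).2⟩, ?_, rfl⟩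
        show ρ _ ∈ O
        rw [map_mul, map_inv]
        exact hrel P hP α hα x
      intro s
      obtain ⟨t, ht, hts⟩ := hle (hhyp.symm ▸ s.2 : (s : Ω) ∈ F.hyperfocalSubgroup p)
      obtain rfl : t = s := Subtype.ext hts
      exact ht
    obtain ⟨R, hR⟩ := (IsSaturated.fullyAutomized hS hF (IsNormal.fullyNormalized hQn)).2
    refine eq_top_iff.2 ((Transfer.pResidual_sup_sylow R).ge.trans (sup_le le_rfl fun a ha => ?_))
    rw [hR] at ha
    obtain ⟨g, hg, hgv⟩ := mem_autInducedBy_iff.1 (Subgroup.mem_subgroupOf.1 ha)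
    have : a = ρ ⟨g, hg⟩ := Subtype.ext (MulEquiv.ext fun q => Subtype.ext (hgv q))
    rw [this]
    exact hall _
  -- so the automorphism group is trivial
  have hA : Subsingleton (F.autGroup Q) := by
    obtain ⟨n, H, h0, hn, hmono, hnorm, hfac⟩ := id hp
    by_contra hns
    rw [not_subsingleton_iff_nontrivial] at hns
    obtain ⟨i, hi, hi'⟩ : ∃ i : Fin n, H i.castSucc ≠ ⊤ ∧ H i.succ = ⊤ := by
      by_contra hcon
      push Not at hcon
      have : ∀ i : Fin (n + 1), H i ≠ ⊤ := fun i => by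
        induction i using Fin.induction with
        | zero => rw [h0]; exact bot_ne_top
        | succ i ih => exact hcon i ih
      exact this _ hn
    have := hnorm i.castSucc
    have h1 := hfac i
    rw [hi', Subgroup.relIndex_top_right, Subgroup.index_eq_card] at h1
    rcases h1 with ⟨m, hm⟩ | hco
    · exact hi (top_le_iff.1 (hO.ge.trans
        (Transfer.pResidual_le_of_isPGroup_quotient (IsPGroup.of_card hm))))
    · refine hi (top_le_iff.1 (hN.ge.trans ((Subgroup.closure_le _).2 ?_)))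
      rintro x ⟨k, hk⟩
      rw [SetLike.mem_coe, ← QuotientGroup.eq_one_iff, ← orderOf_eq_one_iff]
      refine Nat.eq_one_of_dvd_coprimes (hco.pow_right k) (orderOf_dvd_natCard _) ?_
      rw [← hk]
      exact orderOf_map_dvd (QuotientGroup.mk' (H i.castSucc)) x
  have hSQ : S ≤ Q := fun s hs => hQc.2 Q (isConj_refl hQS) (mem_centralizerIn.2 ⟨hs, fun q hq => by
    have h1 := hρ ⟨s, hs⟩ ⟨q, hq⟩
    rw [Subsingleton.elim (ρ ⟨s, hs⟩) 1] at h1
    exact (eq_mul_inv_iff_mul_eq.1 (show q = s * q * s⁻¹ from h1))⟩)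
  have hbot : F.hyperfocalSubgroup p ≤ ⊥ := by
    rw [FusionSystem.hyperfocalSubgroup, Subgroup.closure_le]
    rintro _ ⟨P, α, x, hP, -, rfl⟩
    obtain ⟨β, hβ, hv⟩ := IsNormal.exists_aut hQn (hP.trans hSQ) ((mem_autGroup_iff hP).1 α.2)
    have h1 := hv x
    rw [show β = 1 from congrArg Subtype.val (Subsingleton.elim (⟨β, hβ⟩ : F.autGroup Q) 1)] at h1
    show (x : Ω)⁻¹ * _ ∈ (⊥ : Subgroup Ω)
    rw [Subgroup.mem_bot, inv_mul_eq_one]
    exact h1
  exact le_bot_iff.1 (hhyp.symm.le.trans hbot)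

/-- The `p'`-residual is its own `p'`-residual. -/
theorem pPrimeResidual_self [Fact p.Prime] [Finite S] {E : FusionSystem S}
    (hE : F.IsPPrimeResidual p E) : E.IsPPrimeResidual p E := by
  refine ⟨hE.1, ⟨fun P => subset_rfl, fun P hP => Subgroup.map_subtype_le _⟩, fun D hD hDi =>
    hE.2.2 D hD ⟨fun P φ h => hE.2.1.1 P (hDi.1 P h), fun P hP => ?_⟩⟩
  rw [MonoidHom.map_closure, Subgroup.closure_le]
  rintro _ ⟨a, ha, rfl⟩
  have hm := hE.2.1.2 P hP ⟨a, Subgroup.subset_closure ha, rfl⟩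
  obtain ⟨k, hk⟩ := ha
  exact hDi.2 P hP ⟨⟨_, hm⟩, Subgroup.subset_closure
    ⟨k, by rw [← Subgroup.orderOf_coe]; exact (Subgroup.orderOf_coe a).trans hk⟩, rfl⟩

theorem good_of_terminating (h : F.HasTerminatingResidualSeries p) :
    p.Prime → Finite S → IsPGroup p S → F.IsSaturated p →
      F.IsConstrained p ∧ IsPSolvable p (F.autGroup F.core) := by
  induction h with
  | trivial F p hbot =>
      intro hp _ _ hF
      have := Fact.mk hp
      refine ⟨⟨hF, ⊥, isNormal_bot, bot_le, fun R _ => (centralizerIn_le R).trans (hbot.le.trans bot_le)⟩, ?_⟩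
      refine PLocal.isPSolvable_of_card (Or.inl ⟨0, ?_⟩)
      rw [pow_zero]
      have : Subsingleton F.core := ⟨fun a b => Subtype.ext (by
        rw [Subgroup.mem_bot.1 (hbot.le (core_le a.2)), Subgroup.mem_bot.1 (hbot.le (core_le b.2))])⟩
      have : Subsingleton (MulAut F.core) := ⟨fun a b => MulEquiv.ext fun x => Subsingleton.elim _ _⟩
      exact Nat.card_unique
  | step F E p D hE hD _ ih =>
      intro hp hfin hS hF
      have := Fact.mk hp
      have hle : E.hyperfocalSubgroup p ≤ _ := hyperfocal_le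
      obtain ⟨hDc, hDp⟩ := ih hp (finite_le hle) (hS.to_le hle) hD.1
      obtain ⟨hEc, hEp⟩ := good_of_pResidual hS hE.1 hD hDc hDp
      exact good_of_pPrimeResidual hS hF hE hEc hEp

theorem terminating_of_good_aux [Fact p.Prime] (n : ℕ) :
    ∀ (S : Subgroup Ω) [Finite S], Nat.card S = n → IsPGroup p S → ∀ F : FusionSystem S,
      F.IsConstrained p → IsPSolvable p (F.autGroup F.core) →
        F.HasTerminatingResidualSeries p := by
  induction n using Nat.strong_induction_on with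
  | _ n ih =>
  intro S _ hn hS F hc hp
  subst hn
  obtain ⟨E, hE⟩ := exists_pPrimeResidual hS hc.1
  have hEn := pPrimeResidual_normal hS hc.1 hc.1 (invariant_self F) hE
  obtain ⟨hEc, hEp⟩ := good_of_normalIn hS hc hp hEn
  by_cases hT : E.hyperfocalSubgroup p = S
  · exact HasTerminatingResidualSeries.trivial F p
      (eq_bot_of_stable hS hEc hEp (pPrimeResidual_self hE) hT)
  have hTS : E.hyperfocalSubgroup p ≤ S := hyperfocal_le
  obtain ⟨D, hDs, hDi, -⟩ := exists_pPowerSystem hS hE.1 hTS le_rfl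
  refine HasTerminatingResidualSeries.step F E p D hE ⟨hDs, hDi⟩ ?_
  have hDn := pPowerIndex_isNormalIn hS hE.1 hTS
    (fun s hs y hy => hyperfocal_conj_mem hs hy) le_rfl hDs hDi
  obtain ⟨hDc, hDp⟩ := good_of_normalIn hS hEc hEp hDn
  have := finite_le hTS
  refine ih _ ?_ _ rfl (hS.to_le hTS) D hDc hDp
  exact lt_of_not_ge fun h => hT (Subgroup.eq_of_le_of_card_ge hTS h)

/-- A saturated system has a terminating residual series iff it is constrained and its models
are `p`-solvable. -/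
theorem terminating_iff_models [Fact p.Prime] [Finite S] (hS : IsPGroup p S) (hF : F.IsSaturated p) :
    F.HasTerminatingResidualSeries p ↔ (F.IsConstrained p ∧
      ∀ (G : Type u) [Group G] (ι : S →* G), F.IsModel p G ι → IsPSolvable p G) := by
  constructor
  · intro h
    obtain ⟨hc, hp⟩ := good_of_terminating h Fact.out inferInstance hS hF
    refine ⟨hc, fun G _ ι hG => ?_⟩
    have := hG.1
    obtain ⟨π, hπ, hker, hQ⟩ := model_autCore hG
    rw [hQ] at hp
    exact isPSolvable_of_ker_pGroup π hπ hker hp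
  · rintro ⟨hc, hG⟩
    obtain ⟨Q, hQn, hQc⟩ := hc.2
    obtain ⟨M, _, ι, hM⟩ := exists_model_of_normal_centric hS hF hQn hQc
    obtain ⟨π, hπ, hker, hQ⟩ := model_autCore hM
    refine terminating_of_good_aux _ S rfl hS F hc ?_
    rw [hQ]
    exact PLocal.isPSolvable_of_surjective π hπ (hG M ι hM)

end CfsgLib.Fusion
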