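import Cfsg.Agent.Lib.Fusion.SubnormalConstrained
import Cfsg.Agent.Lib.Fusion.ConstrainedFactor
import Cfsg.Agent.Lib.Fusion.CentralizerNormal
import Cfsg.Agent.Lib.Fusion.ResidualSeries
import Cfsg.Agent.Lib.Fusion.PPowerExistence
import Cfsg.Agent.Lib.Fusion.PPowerNormal
import Cfsg.Agent.Lib.Fusion.InnerQuot
import Cfsg.Agent.Lib.Fusion.HyperfocalGen
import Cfsg.Agent.Lib.Fusion.PrimeIndexLeast
import Cfsg.Agent.Lib.Fusion.WeakNormalResidual
import Cfsg.Agent.Lib.Fusion.CentralLiftInvariant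
import Cfsg.Agent.Lib.Fusion.CoprimeCriterion

/-!
# A saturated system is constrained exactly when it has no component
-/

set_option autoImplicit false

namespace CfsgLib.Fusion

open Cfsg Cfsg.FusionSystem

variable {Ω : Type*} [Group Ω] {S T : Subgroup Ω} {F : FusionSystem S} {E : FusionSystem T}
  {p : ℕ}

/-- A quasisimple system is not constrained. -/
theorem not_isConstrained_of_quasisimple [Fact p.Prime] [Finite S] (hS : IsPGroup p S)
    (hq : F.Quasisimple p) : ¬ F.IsConstrained p := by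
  intro hc
  obtain ⟨hF, hyp, hfac⟩ := hq
  set q := QuotientGroup.mk' (F.center.subgroupOf S) with hqdef
  have hθ : ∀ s : S, q s = 1 ↔ (s : Ω) ∈ F.center := fun s => QuotientGroup.eq_one_iff s
  have hr : q.range = ⊤ := MonoidHom.range_eq_top.2 (QuotientGroup.mk'_surjective _)
  have hZ : F.IsCentral F.center := center_isCentral
  have hZn := isCentral_isNormal hZ
  have hsc := IsNormal.stronglyClosed hZn
  set E' := factorSystem F hsc q hθ hr
  have hE : F.IsFactorSystem F.center q E' := ⟨hsc.1, hθ, hr, fun _ _ => Iff.rfl⟩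
  obtain ⟨hE's, htop, hsimple⟩ := hfac E' hE
  obtain ⟨hCn, hCc⟩ := exists_normal_centric_core (isConstrained_factor_central hS hc hZ hE)
  have : Finite (⊤ : Subgroup (S ⧸ F.center.subgroupOf S)) := inferInstance
  have hT : IsPGroup p (⊤ : Subgroup (S ⧸ F.center.subgroupOf S)) :=
    (hS.to_quotient _).to_subgroup ⊤
  have hinn : E' = innerFusionSystem ⊤ := by
    rcases hsimple _ _ (inner_isNormalIn_of_normal hT hE's hCn) with h | ⟨h, heq⟩
    · refine absurd (le_bot_iff.1 fun x hx => h ▸ hCc.2 _ ?_ ?_) htop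
      · exact ⟨_, incl_mem hCn.1, Subgroup.range_subtype _⟩
      · refine mem_centralizerIn.2 ⟨hx, fun y hy => ?_⟩
        rw [h, Subgroup.mem_bot] at hy
        subst hy
        simp
    · refine fusionSystem_ext fun P => ?_
      rw [← heq P, h]
  have hFinn := inner_of_factor_inner hS hF hZn (fun R _ hR b hb => ⟨1, S.one_mem, fun x hx => by
    have h1 : ((b x : R) : Ω) = x := ((isCentral_iff hS hF).1 hZ).2 _ hx _
      (isConjElt_of_hom ((mem_autGroup_iff hR).1 hb) x)
    simp [h1]⟩) hE hinn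
  have hSbot : S ≤ ⊥ := by
    refine hyp.ge.trans ?_
    refine hyperfocal_le_of_coprime fun P α hP hα hcop x => ?_
    rw [coprime_aut_eq_one_of_inner hS hFinn hP hα hcop]
    simp
  refine htop (le_bot_iff.1 fun x _ => ?_)
  obtain ⟨s, rfl⟩ := QuotientGroup.mk'_surjective _ x
  rw [show s = 1 from Subtype.ext (Subgroup.mem_bot.1 (hSbot s.2)), map_one]
  exact one_mem _

/-- The graph of a homomorphism from a subgroup. -/
def homGraph {P : Subgroup Ω} (φ : P →* Ω) : Set (Ω × Ω) := Set.range fun x : P => ((x : Ω), φ x)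

/-- The graphs of the maps of a system. -/
def homGraphs (F : FusionSystem S) : Set (Set (Ω × Ω)) :=
  {g | ∃ (P : Subgroup Ω) (φ : P →* Ω), φ ∈ F.Hom P ∧ g = homGraph φ}

theorem homGraphs_finite [Finite S] : (homGraphs F).Finite := by
  have hfin : (S : Set Ω).Finite := Set.toFinite _
  refine (hfin.prod hfin).finite_subsets.subset ?_
  rintro _ ⟨P, φ, hφ, rfl⟩ _ ⟨x, rfl⟩
  exact ⟨hom_le hφ x.2, hom_apply_mem hφ x⟩

theorem mem_of_homGraph_eq {R : Subgroup Ω} {ψ : R →* Ω} (hψ : ψ ∈ E.Hom R) {P : Subgroup Ω}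
    {φ : P →* Ω} (h : homGraph φ = homGraph ψ) : φ ∈ E.Hom P := by
  have h1 : ∀ x : P, ∃ y : R, (y : Ω) = x ∧ ψ y = φ x := fun x => by
    obtain ⟨y, hy⟩ := (h.le ⟨x, rfl⟩ : ((x : Ω), φ x) ∈ homGraph ψ)
    exact ⟨y, congrArg Prod.fst hy, congrArg Prod.snd hy⟩
  have hPR : P ≤ R := fun x hx => by
    obtain ⟨y, hy, -⟩ := h1 ⟨x, hx⟩
    exact (show (y : Ω) = x from hy) ▸ y.2
  refine restrict_mem' hψ hPR fun x => ?_
  obtain ⟨y, hy, hyv⟩ := h1 x
  rw [← hyv]
  exact congrArg ψ (Subtype.ext hy)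

/-- A subsystem other than the whole has fewer maps. -/
theorem ncard_homGraphs_lt [Finite S] (hTS : T ≤ S) (hsub : E.IsSubsystemOf F)
    (hne : ¬ (T = S ∧ ∀ P : Subgroup Ω, E.Hom P = F.Hom P)) :
    (homGraphs E).ncard < (homGraphs F).ncard := by
  refine Set.ncard_lt_ncard ((Set.ssubset_iff_subset_ne).2 ⟨?_, fun heq => hne ?_⟩) homGraphs_finite
  · rintro _ ⟨P, φ, hφ, rfl⟩
    exact ⟨P, φ, hsub P hφ, rfl⟩
  · have hall : ∀ P : Subgroup Ω, F.Hom P ⊆ E.Hom P := fun P φ hφ => by
      obtain ⟨R, ψ, hψ, h⟩ := heq.ge ⟨P, φ, hφ, rfl⟩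
      exact mem_of_homGraph_eq hψ h
    exact ⟨le_antisymm hTS (hom_le (hall S (incl_mem le_rfl))),
      fun P => (hsub P).antisymm (hall P)⟩

/-- The centralizer of the inner system of a normal subgroup is its centralizer. -/
theorem centOf_inner [Fact p.Prime] [Finite S] (hS : IsPGroup p S) (hF : F.IsSaturated p)
    {Q : Subgroup Ω} (hQ : F.IsNormal Q) :
    centOf F (innerFusionSystem Q) = centralizerIn S Q := by
  have hE := inner_isNormalIn_of_normal hS hF hQ
  refine le_antisymm (centBy_centOf hS hE).1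
    (le_sSup (show CentBy F (innerFusionSystem Q) (centralizerIn S Q) from ⟨le_rfl, ?_⟩))
  intro P φ hφ
  refine mem_centralizerHom_of_fixExt hE.1.2.2.1 hQ.1 le_rfl hφ ?_
  obtain ⟨hP, g, hg, hv⟩ := hφ
  refine ⟨_, F.conj_mem (sup_le (hP.trans hQ.1) (centralizerIn_le Q)) (hQ.1 hg),
    fun x => (hv x).symm, fun y => ?_⟩
  show g * (y : Ω) * g⁻¹ = y
  rw [(mem_centralizerIn.1 y.2).2 g hg, mul_inv_cancel_right]

/-- The system on `S` of `S` itself has `S` as a normal subgroup. -/
theorem isNormal_self_of_eq_inner [Finite S] (h : F = innerFusionSystem S) : F.IsNormal S := by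
  subst h
  refine ⟨le_rfl, fun P φ hφ => ?_⟩
  obtain ⟨hP, g, hg, hv⟩ := hφ
  refine ⟨conjHom _ g, (innerFusionSystem S).conj_mem (sup_le hP le_rfl) hg,
    fun x => (hv x).symm, ?_⟩
  refine le_antisymm ?_ fun y hy => ?_
  · rintro _ ⟨t, ht, rfl⟩
    exact S.mul_mem (S.mul_mem hg ht) (S.inv_mem hg)
  · refine ⟨⟨g⁻¹ * y * g, Subgroup.mem_sup_right
      (S.mul_mem (S.mul_mem (S.inv_mem hg) hy) hg)⟩,
      S.mul_mem (S.mul_mem (S.inv_mem hg) hy) hg, ?_⟩
    show g * (g⁻¹ * y * g) * g⁻¹ = y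
    group

/-- Where every proper normal subsystem is constrained, a system that is not constrained is
quasisimple. -/
theorem quasisimple_of_normal_constrained [Fact p.Prime] [Finite S] (hS : IsPGroup p S)
    (hF : F.IsSaturated p) (hnc : ¬ F.IsConstrained p)
    (hmin : ∀ (T : Subgroup Ω) (E : FusionSystem T), E.IsNormalIn F p → ¬ E.IsConstrained p →
      T = S ∧ ∀ P : Subgroup Ω, E.Hom P = F.Hom P) : F.Quasisimple p := by
  set Q := F.core with hQdef
  have hQn : F.IsNormal Q := core_isNormal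
  -- the core is central
  have hQcent : F.IsCentral Q := by
    obtain ⟨D, hDn, hDc⟩ := exists_centralizer_normal hS (inner_isNormalIn_of_normal hS hF hQn)
    have hDT : ¬ D.IsConstrained p := by
      intro hc
      have hCS : centOf F (innerFusionSystem Q) ≤ S := hDn.1.2.2.2.1.1
      have := finite_le hCS
      obtain ⟨-, hcen⟩ := exists_normal_centric_core hc
      have hle : D.core ≤ Q := le_core (invariant_core_isNormal hS hF hDn.1.1 hDn.1.2.2)
      refine hnc ⟨hF, Q, hQn, hQn.1, fun R hR => ?_⟩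
      obtain ⟨φ, hφ, hr⟩ := hR
      obtain rfl : R = Q :=
        hr.symm.trans ((StronglyClosed.weaklyClosed (IsNormal.stronglyClosed hQn)).2 φ hφ)
      intro c hc'
      refine hle (hcen.2 _ (isConj_refl core_le)
        (mem_centralizerIn.2 ⟨?_, fun y hy => ?_⟩))
      · rwa [centOf_inner hS hF hQn]
      · exact (mem_centralizerIn.1 hc').2 y (hle hy)
    obtain ⟨hT, hEq⟩ := hmin _ D hDn hDT
    exact ⟨hQn.1, fun P φ hφ => (hDc P (show φ ∈ D.Hom P by rwa [hEq])).2.2.2⟩
  have hQZ : Q = F.center := le_antisymm (le_center hQcent) center_le_core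
  have hZ : F.IsCentral F.center := center_isCentral
  have hZn := isCentral_isNormal hZ
  have hsc := IsNormal.stronglyClosed hZn
  -- proper normal subsystems are over subgroups of the centre
  have hsmall : ∀ (T : Subgroup Ω) (E : FusionSystem T), E.IsNormalIn F p →
      ¬ (T = S ∧ ∀ P : Subgroup Ω, E.Hom P = F.Hom P) → T ≤ F.center := by
    intro T E hE hne
    have hc : E.IsConstrained p := by_contra fun h => hne (hmin T E hE h)
    have hTS : T ≤ S := hE.1.2.2.2.1.1
    have := finite_le hTS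
    obtain ⟨-, hcen⟩ := exists_normal_centric_core hc
    have hle : E.core ≤ F.center :=
      hQZ ▸ le_core (invariant_core_isNormal hS hF hE.1.1 hE.1.2.2)
    intro t ht
    refine hle (hcen.2 _ (isConj_refl core_le)
      (mem_centralizerIn.2 ⟨ht, fun y hy => ?_⟩))
    exact (F.center_le_centralizer (hle hy) t (hTS ht)).symm
  have hZS : F.center ≠ S := fun h => by
    have h1 := hZn
    rw [h] at h1
    exact hnc ⟨hF, S, h1, isCentric_self⟩
  have hyp : F.hyperfocalSubgroup p = S := by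
    by_contra hne
    have hH : F.hyperfocalSubgroup p ≤ S := hyperfocal_le
    obtain ⟨E₀, hE₀s, hE₀i, -⟩ := exists_pPowerSystem hS hF hH le_rfl
    have hHZ := hsmall _ E₀ (pPowerIndex_isNormalIn hS hF hH
      (fun s hs y hy => hyperfocal_conj_mem hs hy) le_rfl hE₀s hE₀i) fun h => hne h.1
    have hfix := ((isCentral_iff hS hF).1 hZ).2
    have hinn : F = innerFusionSystem S := by
      refine eq_inner_of_isPGroup_autGroup hS hF fun P hP => ?_
      have := finite_le hP
      have := finite_mulAut_of_le (S := S) hP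
      refine isPGroup_of_coprime_trivial fun a hc => ?_
      rw [← Subgroup.orderOf_coe] at hc
      refine Subtype.ext (MulEquiv.ext fun x => ?_)
      set α : MulAut P := (a : MulAut P) with hα
      set z : P := x⁻¹ * α x with hz
      have hzZ : (z : Ω) ∈ F.center := hHZ (mem_hyperfocal_of_coprime hP a.2 hc x)
      have hαz : α z = z := Subtype.ext
        (hfix _ hzZ _ (isConjElt_of_hom ((mem_autGroup_iff hP).1 a.2) z))
      have hit : ∀ n : ℕ, (α ^ n) x = x * z ^ n := by
        intro n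
        induction n with
        | zero => simp
        | succ n ih =>
          rw [pow_succ', MulAut.mul_apply, ih, map_mul, map_pow, hαz, pow_succ',
            show α x = x * z by rw [hz, mul_inv_cancel_left], mul_assoc]
      have hn := hit (orderOf α)
      rw [pow_orderOf_eq_one, MulAut.one_apply, left_eq_mul] at hn
      obtain ⟨k, hk⟩ := (hS.to_le hP) z
      have hz1 : z = 1 := eq_one_of_coprime_pow (p := p) (a := k)
        (hc.coprime_dvd_left (orderOf_dvd_of_pow_eq_one hn)) hk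
      show α x = x
      rw [show α x = x * z by rw [hz, mul_inv_cancel_left], hz1, mul_one]
    exact hnc ⟨hF, S, isNormal_self_of_eq_inner hinn, isCentric_self⟩
  refine ⟨hF, hyp, fun E' hE' => ?_⟩
  have hE'' := hE'
  obtain ⟨-, hθ, hr, hiff⟩ := hE''
  set θ := QuotientGroup.mk' (F.center.subgroupOf S) with hθdef
  refine ⟨factor_saturated hS hF hsc hE', fun h => hZS (le_antisymm center_le fun s hs => ?_),
    fun T' Eb hEb => ?_⟩
  · exact (hθ ⟨s, hs⟩).1 (Subgroup.mem_bot.1 (h.le (Subgroup.mem_top (θ ⟨s, hs⟩))))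
  obtain ⟨D, hDs, hDi, hdown, -⟩ := CentralLift.exists_lift hS hF hZ hE' hEb
  have hTS : preimageAlong θ T' ≤ S := hDi.2.1.1
  have := finite_le hTS
  obtain ⟨O, hO⟩ := exists_pPrimeResidual (hS.to_le hTS) hDs
  have hOn := pPrimeResidual_normal hS hF hDs hDi hO
  by_cases hwhole : preimageAlong θ T' = S ∧ ∀ P : Subgroup Ω, O.Hom P = F.Hom P
  · refine Or.inr ⟨eq_top_iff.2 fun y _ => ?_, fun P' => ?_⟩
    · obtain ⟨s, rfl⟩ := QuotientGroup.mk'_surjective _ y
      exact mem_preimageAlong.1 (hwhole.1.ge s.2)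
    refine (hEb.1.2.2.1 P').antisymm fun φ' hφ' => ?_
    obtain ⟨hP', φ, hφ, hind⟩ := (hiff P' φ').1 hφ'
    rw [← hwhole.2] at hφ
    obtain ⟨φ₁, hφ₁, hind₁⟩ := hdown _ φ (hO.2.1.1 _ hφ)
    have key : ∀ R, R = P' → ∀ φ₁ : R →* (S ⧸ F.center.subgroupOf S), φ₁ ∈ Eb.Hom R →
        InducedAlong θ φ φ₁ → φ' ∈ Eb.Hom P' := by
      rintro _ rfl φ₁ h1 h2
      rwa [inducedAlong_ext (hr ▸ hP') hind h2]
    exact key _ (imageAlong_preimageAlong (hr ▸ hP')) φ₁ hφ₁ hind₁
  · refine Or.inl (le_bot_iff.1 fun y hy => ?_)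
    obtain ⟨s, rfl⟩ := QuotientGroup.mk'_surjective _ y
    exact (hθ s).2 (hsmall _ O hOn hwhole (mem_preimageAlong.2 hy))

/-- A saturated system which is not constrained has a component. -/
theorem exists_component_of_not_constrained [Fact p.Prime] [Finite S] (hS : IsPGroup p S)
    (hF : F.IsSaturated p) (hnc : ¬ F.IsConstrained p) :
    ∃ (T : Subgroup Ω) (C : FusionSystem T), C.IsComponentIn F p := by
  suffices ∀ (n : ℕ) (S : Subgroup Ω) (F : FusionSystem S), (homGraphs F).ncard = n → Finite S →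
      IsPGroup p S → F.IsSaturated p → ¬ F.IsConstrained p →
      ∃ (T : Subgroup Ω) (C : FusionSystem T), C.IsComponentIn F p from
    this _ S F rfl inferInstance hS hF hnc
  clear hnc hF hS
  intro n
  induction n using Nat.strong_induction_on with
  | _ n ih =>
    intro S F hn hfin hS hF hnc
    by_cases h : ∃ (T : Subgroup Ω) (E : FusionSystem T), E.IsNormalIn F p ∧ ¬ E.IsConstrained p ∧
        ¬ (T = S ∧ ∀ P : Subgroup Ω, E.Hom P = F.Hom P)
    · obtain ⟨T, E, hE, hEc, hne⟩ := h
      have hTS : T ≤ S := hE.1.2.2.2.1.1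
      have := finite_le hTS
      have hlt := ncard_homGraphs_lt hTS hE.1.2.2.1 hne
      obtain ⟨U, C, hC⟩ := ih _ (hn ▸ hlt) T E rfl inferInstance (hS.to_le hTS) hE.1.1 hEc
      exact ⟨U, C, IsSubnormalIn.step hC.1 hE, hC.2⟩
    · push Not at h
      exact ⟨S, F, IsSubnormalIn.refl F p, quasisimple_of_normal_constrained hS hF hnc h⟩

/-- A saturated system is constrained exactly when it has no component. -/
theorem isConstrained_iff_no_component [Fact p.Prime] [Finite S] (hS : IsPGroup p S)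
    (hF : F.IsSaturated p) :
    F.IsConstrained p ↔ ¬ ∃ (T : Subgroup Ω) (C : FusionSystem T), C.IsComponentIn F p := by
  refine ⟨?_, fun h => by_contra fun hc => h (exists_component_of_not_constrained hS hF hc)⟩
  rintro hc ⟨T, C, hsub, hq⟩
  obtain ⟨hfin, hT⟩ : Finite T ∧ IsPGroup p T := by
    have hle : T ≤ S := by
      clear hq hc hF hS
      induction hsub with
      | refl F p => exact le_rfl
      | step h hn ih => exact ih.trans hn.1.2.2.2.1.1
    exact ⟨finite_le hle, hS.to_le hle⟩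
  exact not_isConstrained_of_quasisimple hT hq
    (isConstrained_of_isSubnormalIn hsub Fact.out inferInstance hS hc)

end CfsgLib.Fusion
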