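import Cfsg.Agent.Lib.Fusion.TransportSystem

/-!
Quasisimple systems under isomorphisms; images of components under maps of the system.
-/

set_option autoImplicit false

namespace CfsgLib.Fusion

open Cfsg Cfsg.FusionSystem

section

variable {Ω Ω' : Type*} [Group Ω] [Group Ω'] {S : Subgroup Ω} {S' : Subgroup Ω'}
  {F : FusionSystem S} {F' : FusionSystem S'} {f : S ≃* S'} {p : ℕ}

theorem SysEquiv.isCentral (h : SysEquiv F F' f) {Q : Subgroup Ω} (hQ : F.IsCentral Q) :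
    F'.IsCentral (mapS f Q) := by
  refine ⟨mapS_le Q, fun P' φ' hφ' => ?_⟩
  have hP' := hom_le hφ'
  obtain ⟨φ, hφ, hv⟩ := h.2 P' φ' hφ'
  obtain ⟨ψ, hψ, hψP, hψQ⟩ := hQ.2 _ φ hφ
  obtain ⟨ψ', hψ', hv'⟩ := h.1 _ ψ hψ
  have heq : mapS f (mapS f.symm P' ⊔ Q) = P' ⊔ mapS f Q := by
    rw [mapS_sup (mapS_le P') hQ.1, mapS_symm' hP']
  refine ⟨ψ'.comp (Subgroup.inclusion heq.ge), restrict_mem hψ' heq.ge, fun x => ?_, fun x => ?_⟩
  · have hxS := hP' x.2
    have hm : (f.symm ⟨x, hxS⟩ : Ω) ∈ mapS f.symm P' := apply_mem_mapS hP' x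
    have h1 := hv' (Subgroup.inclusion le_sup_left ⟨_, hm⟩) (f.symm ⟨x, hxS⟩).2 (hom_apply_mem hψ _)
      ⟨f.symm ⟨x, hxS⟩, Subgroup.mem_sup_left hm, rfl⟩
    have h2 := hv x hxS (hom_apply_mem hφ' x) hm
    have h3 : ψ (Subgroup.inclusion le_sup_left ⟨_, hm⟩) = φ ⟨_, hm⟩ := hψP _
    calc ψ' _ = ψ' ⟨f ⟨(f.symm ⟨x, hxS⟩ : Ω), (f.symm ⟨x, hxS⟩).2⟩,
            ⟨f.symm ⟨x, hxS⟩, Subgroup.mem_sup_left hm, rfl⟩⟩ :=
          congrArg ψ' (Subtype.ext (by simp))
      _ = _ := h1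
      _ = (f (f.symm ⟨φ' x, hom_apply_mem hφ' x⟩) : Ω') :=
          congrArg (fun s => (f s : Ω')) (Subtype.ext (h3.trans h2))
      _ = φ' x := by simp
  · obtain ⟨x, q, hq, rfl⟩ := x
    have h1 := hv' ⟨q, Subgroup.mem_sup_right hq⟩ q.2 (hom_apply_mem hψ _)
      ⟨q, Subgroup.mem_sup_right hq, rfl⟩
    refine Eq.trans ?_ (h1.trans ?_)
    · rfl
    · exact congrArg (fun s => (f s : Ω')) (Subtype.ext (hψQ ⟨q, hq⟩))

theorem SysEquiv.mapS_center [Finite S] (h : SysEquiv F F' f) :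
    mapS f F.center = F'.center := by
  have : Finite S' := SysEquiv.finite_right f
  refine le_antisymm (le_center (h.isCentral center_isCentral)) ?_
  rw [← mapS_symm' (f := f) (center_le (F := F'))]
  exact mapS_mono (le_center (h.symm.isCentral center_isCentral))

theorem SysEquiv.hyperfocal_eq [Finite S] (h : SysEquiv F F' f)
    (hS : F.hyperfocalSubgroup p = S) : F'.hyperfocalSubgroup p = S' := by
  refine le_antisymm hyperfocal_le fun y hy => ?_
  have hsub : F.hyperfocalSubgroup p ≤ mapS f.symm (F'.hyperfocalSubgroup p) := by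
    refine hyperfocal_le_of_coprime fun P α hP hα hc x => ?_
    have hα' := h.1.autGroup_mem (restricts_mapSEquiv f hP) hα
    have hc' : (orderOf (MulAut.congr (mapSEquiv f hP) α)).Coprime p := by
      rwa [(MulAut.congr (mapSEquiv f hP)).orderOf_eq α]
    have h1 := mem_hyperfocal_of_coprime (mapS_le P) hα' hc' (mapSEquiv f hP x)
    refine ⟨f (⟨x, hP x.2⟩⁻¹ * ⟨α x, hP (α x).2⟩), ?_, by simp⟩
    refine Subgroup.mem_subgroupOf.2 (Set.mem_of_eq_of_mem ?_ h1)
    show (f (⟨x, hP x.2⟩⁻¹ * ⟨α x, hP (α x).2⟩) : Ω') = (mapSEquiv f hP x : Ω')⁻¹ *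
      ((mapSEquiv f hP (α ((mapSEquiv f hP).symm (mapSEquiv f hP x)))) : Ω')
    rw [MulEquiv.symm_apply_apply]
    simp
  have h1 : (f.symm ⟨y, hy⟩ : Ω) ∈ F.hyperfocalSubgroup p := hS.ge (f.symm ⟨y, hy⟩).2
  have h2 := mapS_mono (f := f) hsub ⟨f.symm ⟨y, hy⟩, h1, rfl⟩
  rw [mapS_symm' hyperfocal_le] at h2
  simpa using h2

theorem SysEquiv.isSimple [Fact p.Prime] [Finite S] (h : SysEquiv F F' f) (hF : F.IsSimple p) :
    F'.IsSimple p := by
  obtain ⟨hs, hne, hn⟩ := hF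
  have : Finite S' := SysEquiv.finite_right f
  refine ⟨h.saturated hs, fun e => hne ?_, fun T' E' hE' => ?_⟩
  · refine eq_bot_of_mapS (f := f) le_rfl ?_
    rw [mapS_self, e]
  · have hT' : T' ≤ S' := hE'.1.2.2.2.1.1
    have hr := restricts_mapSEquiv f.symm hT'
    have hE := transportSys_sysEquiv E' (mapSEquiv f.symm hT')
    rcases hn _ _ (h.symm.isNormalIn hr hE hE') with hb | ⟨heq, hhom⟩
    · exact Or.inl (eq_bot_of_mapS (f := f.symm) hT' hb)
    · have hT : T' = S' := by rw [← mapS_symm' (f := f) hT', heq, mapS_self]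
      refine Or.inr ⟨hT, fun P' => Set.Subset.antisymm (fun φ' hφ' => ?_) (fun φ' hφ' => ?_)⟩
      · obtain ⟨φ, hφ, hv⟩ := hE.1 _ φ' hφ'
        rw [hhom] at hφ
        refine h.1.mem hφ ?_ φ' fun x hm => ?_
        · rw [hr.mapS_eq (hom_le hφ'), mapS_symm' ((hom_le hφ').trans hT')]
        · obtain ⟨x, s, hs, rfl⟩ := x
          have h1 := hv ⟨s, hs⟩ s.2 (hom_apply_mem hφ' _) ⟨s, hs, rfl⟩
          have e1 := hr.2 s (hT' s.2)
          refine Eq.trans (congrArg φ' (Subtype.ext ?_ : (⟨_, hm⟩ : P') = ⟨(s : Ω'), hs⟩))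
            ((congrArg (fun u => (f u : Ω')) (Subtype.ext (h1.trans (hr.2 _ (hT' (hom_apply_mem hφ' _)))) :
              (⟨φ ⟨_, ⟨s, hs, rfl⟩⟩, hom_apply_mem hφ _⟩ : S) = f.symm ⟨φ' ⟨s, hs⟩, _⟩)).trans ?_).symm
          · show (f ⟨(mapSEquiv f.symm hT' s : Ω), _⟩ : Ω') = s
            simp
          · simp
      · obtain ⟨φ, hφ, hv⟩ := h.2 P' φ' hφ'
        rw [← hhom] at hφ
        have hPT : P' ≤ T' := (hom_le hφ').trans hT.ge
        refine hE.2.mem hφ ?_ φ' fun x hm => ?_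
        · rw [hr.symm.mapS_eq ((mapS_mono hPT).trans le_rfl)]
          exact (mapS_symm' (f := f) (hom_le hφ')).ge
        · obtain ⟨x, s, hs, rfl⟩ := x
          have h1 := hv ⟨s, hs⟩ s.2 (hom_apply_mem hφ' _) ⟨s, hs, rfl⟩
          refine Eq.trans (congrArg φ' (Subtype.ext ?_ : (⟨_, hm⟩ : P') = ⟨(s : Ω'), hs⟩)) ?_
          · show (((mapSEquiv f.symm hT').symm
              (mapSEquiv f.symm hT' ⟨s, hPT hs⟩) : T') : Ω') = s
            simp
          · have hmem := hom_apply_mem hφ ⟨(f.symm s : Ω), ⟨s, hs, rfl⟩⟩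
            refine Eq.trans ?_ (hr.symm.apply hmem (hr.symm.1 hmem)).symm
            refine ((congrArg (fun u => (f u : Ω')) (Subtype.ext h1 :
              (⟨φ ⟨_, ⟨s, hs, rfl⟩⟩, hr.symm.1 (hom_apply_mem hφ _)⟩ : S) =
                f.symm ⟨φ' ⟨s, hs⟩, hom_apply_mem hφ' _⟩)).trans ?_).symm
            simp

/-- Maps induced on quotients, transported. -/
theorem induced_transport {Q Q' : Type*} [Group Q] [Group Q'] (h : SysHom F F' f) {θ : S →* Q}
    {θ' : S' →* Q'} (ψ : Q ≃* Q') (hψ : ∀ s, ψ (θ s) = θ' (f s)) {P : Subgroup Q}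
    {P' : Subgroup Q'} (hP : ∀ y, y ∈ P' ↔ ψ.symm y ∈ P) {φ : P →* Q} {φ' : P' →* Q'}
    (hv : ∀ (y : P) (hy : ψ y ∈ P'), φ' ⟨ψ y, hy⟩ = ψ (φ y))
    (hχ : ∃ χ ∈ F.Hom (preimageAlong θ P), InducedAlong θ χ φ) :
    ∃ χ' ∈ F'.Hom (preimageAlong θ' P'), InducedAlong θ' χ' φ' := by
  obtain ⟨χ, hχ, hPS, hχS, hmem, hi⟩ := hχ
  obtain ⟨χ', hχ', hv'⟩ := h _ χ hχ
  have hle : preimageAlong θ' P' ≤ mapS f (preimageAlong θ P) := by
    rintro _ ⟨s, hs, rfl⟩
    refine ⟨f.symm s, mem_preimageAlong.2 ?_, by simp⟩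
    have := (hP _).1 hs
    rwa [← f.apply_symm_apply s, ← hψ, MulEquiv.symm_apply_apply] at this
  refine ⟨χ'.comp (Subgroup.inclusion hle), restrict_mem hχ' hle, preimageAlong_le θ' P',
    fun x => hom_apply_mem hχ' _, fun x => mem_preimageAlong.1 x.2, ?_⟩
  rintro ⟨x, hx⟩
  obtain ⟨s, hs, rfl⟩ := hle hx
  have h1 := hv' ⟨s, hs⟩ s.2 (hom_apply_mem hχ _) ⟨s, hs, rfl⟩
  have h2 : ψ (θ s) ∈ P' := by
    rw [hψ]
    exact mem_preimageAlong.1 hx
  have h3 := hv ⟨θ s, hmem ⟨s, hs⟩⟩ h2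
  refine Eq.trans (congrArg φ' (?_ : _ = (⟨ψ (θ s), h2⟩ : P'))) (h3.trans ?_)
  · exact Subtype.ext (hψ s).symm
  refine (congrArg ψ (hi ⟨s, hs⟩)).trans ?_
  rw [hψ]
  exact congrArg θ' (Subtype.ext h1.symm)

theorem SysEquiv.quasisimple [Fact p.Prime] [Finite S] (h : SysEquiv F F' f)
    (hq : F.Quasisimple p) : F'.Quasisimple p := by
  obtain ⟨hs, hh, hfac⟩ := hq
  refine ⟨h.saturated hs, h.hyperfocal_eq hh, fun E' hE' => ?_⟩
  have he : (F.center.subgroupOf S).map f.toMonoidHom = F'.center.subgroupOf S' := by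
    rw [← h.mapS_center]
    ext y
    constructor
    · rintro ⟨s, hs, rfl⟩
      exact ⟨s, hs, rfl⟩
    · rintro ⟨s, hs, hsy⟩
      exact ⟨s, hs, Subtype.ext hsy⟩
  set θ := QuotientGroup.mk' (F.center.subgroupOf S)
  set θ' := QuotientGroup.mk' (F'.center.subgroupOf S')
  set ψ := QuotientGroup.congr (F.center.subgroupOf S) (F'.center.subgroupOf S') f he
  have hψ : ∀ s, ψ (θ s) = θ' (f s) := fun s => rfl
  have hψ' : ∀ s, ψ.symm (θ' s) = θ (f.symm s) := fun s => by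
    rw [MulEquiv.symm_apply_eq, hψ, MulEquiv.apply_symm_apply]
  set g : (⊤ : Subgroup (S' ⧸ F'.center.subgroupOf S')) ≃*
      (⊤ : Subgroup (S ⧸ F.center.subgroupOf S)) :=
    Subgroup.topEquiv.trans (ψ.symm.trans Subgroup.topEquiv.symm) with hg
  have hgv : ∀ y, (g y : S ⧸ F.center.subgroupOf S) = ψ.symm y := fun y => rfl
  have hgv' : ∀ y, (g.symm y : S' ⧸ F'.center.subgroupOf S') = ψ y := fun y => rfl
  have hE := transportSys_sysEquiv E' g
  set E := transportSys E' g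
  refine hE.symm.isSimple (hfac E ⟨center_le, fun s => QuotientGroup.eq_one_iff s,
    MonoidHom.range_eq_top.2 (QuotientGroup.mk'_surjective _), fun P φ => ⟨fun hφ => ?_, ?_⟩⟩)
  · obtain ⟨φ', hφ', hv⟩ := hE.2 P φ hφ
    refine ⟨le_top, induced_transport (f := f.symm) h.2 ψ.symm hψ' (fun y => ?_) (fun y hy => ?_)
      ((hE'.2.2.2 _ φ').1 hφ').2⟩
    · constructor
      · exact fun hy => ⟨⟨y, trivial⟩, hy, hgv' _⟩
      · rintro ⟨z, hz, e⟩
        have e' : ψ z = ψ y := e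
        exact ψ.injective e' ▸ hz
    · have hyS : (y : S' ⧸ F'.center.subgroupOf S') ∈ mapS g.symm P := y.2
      obtain ⟨z, hz, e⟩ := hyS
      have e' : ψ z = y := e
      have h1 : φ' y = ψ (φ ⟨(z : S ⧸ F.center.subgroupOf S), hz⟩) :=
        (congrArg φ' (Subtype.ext e'.symm : y = ⟨ψ z, ⟨z, hz, rfl⟩⟩)).trans
          ((hv ⟨z, hz⟩ trivial trivial ⟨z, hz, rfl⟩).trans (hgv' _))
      rw [h1, MulEquiv.symm_apply_apply]
      exact congrArg φ (Subtype.ext (by simp [← e']))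
  · rintro ⟨-, hχ⟩
    let e : mapS g.symm P ≃* P := (mapSEquiv g.symm le_top).symm
    let φ' : mapS g.symm P →* S' ⧸ F'.center.subgroupOf S' :=
      ψ.toMonoidHom.comp (φ.comp e.toMonoidHom)
    have hval : ∀ y : P, φ' (mapSEquiv g.symm le_top y) = ψ (φ y) := fun y => by simp [φ', e]
    have hφ' : φ' ∈ E'.Hom (mapS g.symm P) := by
      refine (hE'.2.2.2 _ φ').2 ⟨le_top, induced_transport (f := f) h.1 ψ hψ (fun y => ?_)
        (fun y hy => ?_) hχ⟩
      · constructor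
        · rintro ⟨z, hz, rfl⟩
          show ψ.symm (ψ z) ∈ P
          rw [MulEquiv.symm_apply_apply]
          exact hz
        · exact fun hy => ⟨⟨_, trivial⟩, hy, (hgv' _).trans (ψ.apply_symm_apply y)⟩
      · exact hval y
    refine hE.1.mem hφ' (mapS_symm' (f := g) le_top).ge φ fun x hm => ?_
    obtain ⟨y, rfl⟩ := (mapSEquiv g.symm (le_top : P ≤ ⊤)).surjective x
    have h1 := hval y
    rw [show (g ⟨φ' (mapSEquiv g.symm le_top y), hom_apply_mem hφ' _⟩ :
      S ⧸ F.center.subgroupOf S) = φ y by rw [hgv, h1, MulEquiv.symm_apply_apply]]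
    exact congrArg φ (Subtype.ext (by simp))

/-- A map of `F` between subgroups carries `F` to itself. -/
theorem sysHom_of_isoIn {S : Subgroup Ω} {F : FusionSystem S} {f : S ≃* S} (hf : IsoIn F f) :
    SysHom F F f := by
  intro P φ hφ
  have hP := hom_le hφ
  let φ' : mapS f P →* Ω := (S.subtype.comp f.toMonoidHom).comp
    ((φ.codRestrict S (hom_apply_mem hφ)).comp (mapSEquiv f hP).symm.toMonoidHom)
  have hval : ∀ x : P, φ' (mapSEquiv f hP x) = f ⟨φ x, hom_apply_mem hφ x⟩ := fun x => by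
    simp [φ']
  refine ⟨φ', ?_, fun x hx hφx hm => hval x⟩
  have h1 : IsoIn F (mapSEquiv f hP) := restrict_mem' hf.mem hP fun x => rfl
  have h2 : (φ.comp (mapSEquiv f hP).symm.toMonoidHom) ∈ F.Hom (mapS f P) :=
    comp_mem' h1.symm.mem hφ (fun y => ((mapSEquiv f hP).symm y).2) fun _ => rfl
  exact comp_mem' h2 hf.mem (fun y => hom_apply_mem h2 y) fun _ => rfl

theorem sysEquiv_of_isoIn {S : Subgroup Ω} {F : FusionSystem S} {f : S ≃* S} (hf : IsoIn F f) :
    SysEquiv F F f := ⟨sysHom_of_isoIn hf, sysHom_of_isoIn hf.symm⟩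

/-- An automorphism from a system carries an invariant subsystem to itself. -/
theorem sysEquiv_of_invariant {U : Subgroup Ω} {D : FusionSystem U} (hD : D.IsInvariantIn F)
    {α : MulAut U} (hα : α ∈ F.autGroup U) : SysEquiv D D α := by
  have key : ∀ β ∈ F.autGroup U, SysHom D D β := by
    intro β hβ P φ hφ
    obtain ⟨χ, hχ, hv⟩ := hD.2.2.1 P (hom_le hφ) φ hφ β hβ
    exact ⟨χ, hχ, fun x hx hφx hm => hv x hφx hm⟩
  exact ⟨key α hα, key _ (inv_mem hα)⟩

theorem IsSubnormalIn.image {p : ℕ} {S T : Subgroup Ω} {F : FusionSystem S} {E : FusionSystem T}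
    (hE : E.IsSubnormalIn F p) :
    ∀ [Fact p.Prime] [Finite S] {T' : Subgroup Ω} {E' : FusionSystem T'} {f : T ≃* T'},
      IsoIn F f → SysEquiv E E' f → E'.IsSubnormalIn F p := by
  induction hE with
  | refl F p =>
    intro _ _ T' E' f hf hE
    have hT := Subgroup.eq_of_le_of_card_ge hf.le_right (Nat.card_congr f.toEquiv).le
    subst hT
    rw [← (sysEquiv_of_isoIn hf).unique hE]
    exact .refl F p
  | step h hn ih =>
    rename_i C D F q
    intro _ _ T' E' f hf hE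
    have hU := hn.1.2.2.2.1.1
    have hTU := IsSubsystemOf.le (IsSubnormalIn.isSubsystemOf h)
    have := finite_le hU
    obtain ⟨α, hα, φ₀, hφ₀, hv⟩ := hn.1.2.2.2.2.2 _ hTU (isoHom f) hf.mem
    obtain ⟨f₀, hf₀, hf₀v⟩ := exists_iso hφ₀ (rfl : φ₀.range = φ₀.range)
    have hE₀ := transportSys_sysEquiv C f₀
    have hsub := ih hf₀ hE₀
    have hr : Restricts (α : _ ≃* _) (f₀.symm.trans f) := by
      refine ⟨hom_range_le hφ₀, fun t ht => ?_⟩
      obtain ⟨x, rfl⟩ := f₀.surjective t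
      have h1 := hv x (hom_apply_mem hφ₀ x)
      show (f (f₀.symm (f₀ x)) : Ω) = _
      rw [MulEquiv.symm_apply_apply]
      refine h1.trans ?_
      exact congrArg (fun u => ((α u : _) : Ω)) (Subtype.ext (hf₀v x).symm)
    exact .step (IsSubnormalIn.sysEquiv hsub (sysEquiv_of_invariant hn.1.2.2 hα) hr
      (hE₀.symm.trans hE)) hn

/-- The image of a component under a map of the system is a component. -/
theorem isComponentIn_image [Fact p.Prime] [Finite S] {T : Subgroup Ω} {C : FusionSystem T}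
    (hC : C.IsComponentIn F p) {γ : T →* Ω} (hγ : γ ∈ F.Hom T) {E : FusionSystem γ.range}
    (hE : C.IsFactorSystem ⊥ γ E) : E.IsComponentIn F p := by
  obtain ⟨f, hf, hfv⟩ := exists_iso hγ (rfl : γ.range = γ.range)
  have : Finite T := finite_le (hom_le hγ)
  have hCE : SysEquiv C E f := by
    have heq : transportSys C f = E := by
      refine system_ext fun P' => Set.ext fun φ' => ?_
      rw [hE.2.2.2 P' φ']
      have hpre : P' ≤ γ.range → preimageAlong γ P' = mapS f.symm P' := by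
        intro hP'
        ext z
        constructor
        · rintro ⟨t, ht, rfl⟩
          refine ⟨f t, ?_, by simp⟩
          show (f t : Ω) ∈ P'
          rw [hfv]
          exact ht
        · rintro ⟨s, hs, rfl⟩
          refine mem_preimageAlong.2 ?_
          rw [← hfv]
          show (f (f.symm s) : Ω) ∈ P'
          rw [MulEquiv.apply_symm_apply]
          exact hs
      constructor
      · rintro ⟨hP', φ, hφ, hvS, hv⟩
        refine ⟨hP', φ.comp (Subgroup.inclusion (hpre hP').le), restrict_mem hφ _,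
          preimageAlong_le γ P', fun x => hom_apply_mem hφ _,
          fun x => mem_preimageAlong.1 x.2, ?_⟩
        rintro ⟨x, t, ht, rfl⟩
        have h1 := hv ⟨γ t, ht⟩ (hP' ht) ⟨⟨γ t, hP' ht⟩, ht, rfl⟩
        have e : f.symm ⟨γ t, hP' ht⟩ = t := f.symm_apply_eq.2 (Subtype.ext (hfv t).symm)
        refine Eq.symm ?_
        show γ ⟨φ ⟨(t : Ω), _⟩, _⟩ = _
        have h2 : (⟨φ ⟨(t : Ω), (hpre hP').le ⟨t, ht, rfl⟩⟩, hom_apply_mem hφ _⟩ : T) =
            f.symm ⟨φ' ⟨γ t, ht⟩, hvS _⟩ := by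
          refine Subtype.ext (Eq.trans ?_ h1)
          exact congrArg φ (Subtype.ext (congrArg Subtype.val e).symm)
        rw [h2, ← hfv, MulEquiv.apply_symm_apply]
        rfl
      · rintro ⟨hP', φ, hφ, hPT, hφT, hmem, hi⟩
        refine ⟨hP', φ.comp (Subgroup.inclusion (hpre hP').ge), restrict_mem hφ _, fun y => ?_,
          fun y hy hm => ?_⟩
        · obtain ⟨x, hx⟩ := exists_preimage hP' y
          rw [show y = ⟨_, hmem x⟩ from Subtype.ext hx.symm, hi]
          exact ⟨_, rfl⟩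
        · have hx : γ (f.symm ⟨y, hy⟩) = y := by rw [← hfv, MulEquiv.apply_symm_apply]
          have h1 := hi ⟨_, (hpre hP').ge hm⟩
          have h2 : φ' y = γ ⟨φ ⟨_, (hpre hP').ge hm⟩, hφT _⟩ := by
            rw [← h1]
            exact congrArg φ' (Subtype.ext hx.symm)
          refine congrArg Subtype.val (f.eq_symm_apply.2 (Subtype.ext ?_) :
            (⟨φ ⟨_, (hpre hP').ge hm⟩, hφT _⟩ : T) = _)
          rw [hfv]
          exact h2.symm
    exact heq ▸ transportSys_sysEquiv C f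
  exact ⟨IsSubnormalIn.image hC.1 hf hCE, hCE.quasisimple hC.2⟩

end

end CfsgLib.Fusion
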