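import Cfsg.Agent.Lib.Fusion.ControlMoves

/-!
Owner: helper11. The automorphisms of a fully normalized subgroup outside the family all extend to the
preimage of `O_p` of its automorphism group.
-/

set_option autoImplicit false
set_option maxHeartbeats 400000
set_option linter.unusedSectionVars false

namespace CfsgLib.Fusion.Control

open Cfsg Cfsg.FusionSystem CfsgLib.Fusion
open scoped Pointwise

variable {Ω : Type*} [Group Ω] {S : Subgroup Ω} {F : FusionSystem S} {p : ℕ} {ℋ : Set (Subgroup Ω)}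
  [Finite S] [Fact p.Prime] {Q : Subgroup Ω}

variable (F p) in
/-- `O_p(Aut_F(Q))`. -/
def opAut (Q : Subgroup Ω) : Subgroup (MulAut Q) :=
  (pCore p (F.autGroup Q)).map (F.autGroup Q).subtype

theorem opAut_le : opAut F p Q ≤ F.autGroup Q := Subgroup.map_subtype_le _

theorem conj_mem_opAut {g κ : MulAut Q} (hg : g ∈ F.autGroup Q) (hκ : κ ∈ opAut F p Q) :
    g * κ * g⁻¹ ∈ opAut F p Q := by
  obtain ⟨k, hk, rfl⟩ := hκ
  exact ⟨⟨g, hg⟩ * k * ⟨g, hg⟩⁻¹, (Core.normal_pCore p (F.autGroup Q)).conj_mem k hk _, rfl⟩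

theorem inn_le_opAut (hS : IsPGroup p S) (hQ : Q ≤ S) : Inn Q ≤ opAut F p Q := fun κ hκ =>
  ⟨⟨κ, inn_le_autGroup hQ hκ⟩, innIn_le_pCore hS hQ hκ, rfl⟩

theorem isPGroup_opAut : IsPGroup p (opAut F p Q) := (Core.isPGroup_pCore p _).map _

/-- Transport of `O_p` along an isomorphism of the system. -/
theorem congr_mem_opAut {P : Subgroup Ω} {e : P ≃* Q} (he : IsoIn F e) {κ : MulAut P}
    (hκ : κ ∈ opAut F p P) : MulAut.congr e κ ∈ opAut F p Q := by
  let g : F.autGroup P ≃* F.autGroup Q :=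
    ((MulAut.congr e).subgroupMap (F.autGroup P)).trans (MulEquiv.subgroupCongr he.congr_autGroup)
  obtain ⟨k, hk, rfl⟩ := hκ
  exact ⟨g k, (Core.map_equiv_pCore g).le ⟨k, hk, rfl⟩, rfl⟩

variable (F p) in
/-- The induced automorphisms lying in `O_p`. -/
def opInd (Q : Subgroup Ω) : Subgroup (MulAut Q) := autInducedBy S Q ⊓ opAut F p Q

variable (F p) in
/-- The elements of `S` inducing members of `O_p`. -/
def opPre (Q : Subgroup Ω) : Subgroup Ω := autPre S Q (opInd F p Q)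

theorem opPre_le_normalizer : opPre F p Q ≤ normalizerIn S Q := autPre_le_normalizerIn

theorem opPre_le : opPre F p Q ≤ S := opPre_le_normalizer.trans (normalizerIn_le Q)

theorem mem_opPre_of_conjAut (g : normalizerIn S Q) (h : conjAut g ∈ opAut F p Q) :
    (g : Ω) ∈ opPre F p Q :=
  ⟨g.2.1, _, Subgroup.mem_inf.2 ⟨conjAut_mem g, h⟩, fun _ => rfl⟩

theorem conjAut_mem_opAut {g : normalizerIn S Q} (h : (g : Ω) ∈ opPre F p Q) :
    conjAut g ∈ opAut F p Q := by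
  obtain ⟨-, κ, hκ, hv⟩ := h
  rw [show conjAut g = κ from MulEquiv.ext fun x => Subtype.ext (hv x).symm]
  exact (Subgroup.mem_inf.1 hκ).2

theorem le_opPre (hS : IsPGroup p S) (hQ : Q ≤ S) : Q ≤ opPre F p Q := fun g hg =>
  mem_opPre_of_conjAut ⟨g, hQ hg, Subgroup.le_normalizer hg⟩
    (inn_le_opAut hS hQ ⟨⟨g, hg⟩, MulEquiv.ext fun _ => Subtype.ext rfl⟩)

theorem centralizerIn_le_opPre : centralizerIn S Q ≤ opPre F p Q := by
  intro g hg
  refine mem_opPre_of_conjAut ⟨g, centralizerIn_le_normalizerIn Q hg⟩ ?_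
  rw [show conjAut (⟨g, centralizerIn_le_normalizerIn Q hg⟩ : normalizerIn S Q) = 1 from
    MulEquiv.ext fun x => Subtype.ext (by
      show g * (x : Ω) * g⁻¹ = x
      rw [← (mem_centralizerIn.1 hg).2 x x.2, mul_inv_cancel_right])]
  exact one_mem _

theorem conj_mem_opPre (hQ : Q ≤ S) {s u : Ω} (hs : s ∈ normalizerIn S Q) (hu : u ∈ opPre F p Q) :
    s * u * s⁻¹ ∈ opPre F p Q := by
  set su : normalizerIn S Q := ⟨s, hs⟩ * ⟨u, opPre_le_normalizer hu⟩ * ⟨s, hs⟩⁻¹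
  refine mem_opPre_of_conjAut su ?_
  rw [show conjAut su = conjAut ⟨s, hs⟩ * conjAut ⟨u, opPre_le_normalizer hu⟩ * (conjAut ⟨s, hs⟩)⁻¹ by
    simp only [su, conjAut]
    rw [← map_inv, ← map_mul, ← map_mul]
    rfl]
  exact conj_mem_opAut (autInducedBy_le_autGroup hQ (conjAut_mem _)) (conjAut_mem_opAut hu)

theorem opPre_le_normalizerOf (hQ : Q ≤ S) :
    normalizerIn S Q ≤ Subgroup.normalizer (opPre F p Q : Set Ω) := by
  rw [Subgroup.le_normalizer_iff]
  exact fun s hs u hu => conj_mem_opPre hQ hs hu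

/-- A map agreeing with an automorphism carries the preimage into itself. -/
theorem map_opPre {A B : Subgroup Ω} (hQA : Q ≤ A) (hBN : B ≤ normalizerIn S Q) {f : A ≃* B}
    {α : MulAut Q} (hα : α ∈ F.autGroup Q) (hag : Agrees f (α : Q ≃* Q)) {u : A}
    (hu : (u : Ω) ∈ opPre F p Q) : ((f u : B) : Ω) ∈ opPre F p Q := by
  refine mem_opPre_of_conjAut ⟨((f u : B) : Ω), hBN (f u).2⟩ ?_
  have e : conjAut (⟨((f u : B) : Ω), hBN (f u).2⟩ : normalizerIn S Q) =
      α * conjAut ⟨(u : Ω), opPre_le_normalizer hu⟩ * α⁻¹ := by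
    refine MulEquiv.ext fun x => Subtype.ext ?_
    obtain ⟨y, rfl⟩ := α.surjective x
    rw [MulAut.mul_apply, MulAut.mul_apply, MulAut.inv_apply_self, conjAut_apply]
    have h1 := hag y (hQA y.2)
    have h2 := hag (conjAut ⟨(u : Ω), opPre_le_normalizer hu⟩ y) (hQA (Subtype.coe_prop _))
    have h3 : (⟨((conjAut ⟨(u : Ω), opPre_le_normalizer hu⟩ y : Q) : Ω), hQA (Subtype.coe_prop _)⟩ : A) =
        u * ⟨(y : Ω), hQA y.2⟩ * u⁻¹ := Subtype.ext rfl
    rw [h3, map_mul, map_mul, map_inv, Subgroup.coe_mul, Subgroup.coe_mul, Subgroup.coe_inv, h1] at h2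
    exact h2
  rw [e]
  exact conj_mem_opAut hα (conjAut_mem_opAut hu)

variable (F p) in
/-- The automorphisms extending to the preimage. -/
def extAut (Q : Subgroup Ω) : Subgroup (MulAut Q) :=
  Subgroup.closure {α : MulAut Q | α ∈ F.autGroup Q ∧
    ∃ f : opPre F p Q ≃* opPre F p Q, IsoIn F f ∧ Agrees f (α : Q ≃* Q)}

theorem mem_extAut (hS : IsPGroup p S) (hQ : Q ≤ S) {α : MulAut Q} (h : α ∈ extAut F p Q) :
    α ∈ F.autGroup Q ∧ ∃ f : opPre F p Q ≃* opPre F p Q, IsoIn F f ∧ Agrees f (α : Q ≃* Q) := by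
  induction h using Subgroup.closure_induction with
  | mem a ha => exact ha
  | one => exact ⟨one_mem _, MulEquiv.refl _, isoIn_refl opPre_le, fun x hx => rfl⟩
  | mul a b _ _ ha hb =>
    obtain ⟨ha, f, hf, hfa⟩ := ha
    obtain ⟨hb, g, hg, hgb⟩ := hb
    refine ⟨mul_mem ha hb, g.trans f, hg.trans hf, fun x hx => ?_⟩
    have e : g ⟨x, hx⟩ = ⟨((b x : Q) : Ω), le_opPre hS hQ (b x).2⟩ := Subtype.ext (hgb x hx)
    rw [MulEquiv.trans_apply, e]
    exact hfa (b x) _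
  | inv a _ ha =>
    obtain ⟨ha, f, hf, hfa⟩ := ha
    exact ⟨inv_mem ha, f.symm, hf.symm, agrees_symm (le_opPre hS hQ) hfa⟩

variable (hS : IsPGroup p S) (hQ : F.IsFullyNormalized Q) (hQℋ : Q ∉ ℋ)
  (hℋS : ∀ R ∈ ℋ, R ≤ S) (hconj : ∀ P ∈ ℋ, ∀ Q, F.IsConj P Q → Q ∈ ℋ) (hSℋ : S ∈ ℋ)
  (hgen : ∀ E : FusionSystem S, (∀ P ∈ ℋ, F.Hom P ⊆ E.Hom P) → F ≤ E)
  (hbig : ∀ A, A ≤ S → Nat.card Q < Nat.card A → Nice F p A)
  (hmv : ∀ P, F.IsConj P Q → Moves F P Q)

include hS hQ hbig hmv in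
/-- An automorphism extending to a larger subgroup lies in `O ⊔ Ext`. -/
theorem mem_of_larger {O : Subgroup (MulAut Q)} (hO : O ≤ F.autGroup Q)
    (hOn : ∀ g ∈ F.autGroup Q, ∀ κ ∈ O, g * κ * g⁻¹ ∈ O) (hKO : opInd F p Q ≤ O) :
    ∀ (n : ℕ) (A B : Subgroup Ω) (f : A ≃* B) (α : MulAut Q), Nat.card S - Nat.card A ≤ n →
      Q < A → A ≤ normalizerIn S Q → Q ≤ B → B ≤ normalizerIn S Q → IsoIn F f → α ∈ F.autGroup Q →
      Agrees f (α : Q ≃* Q) → α ∈ O ⊔ extAut F p Q := by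
  intro n
  induction n using Nat.strong_induction_on with
  | _ n ih =>
    intro A B f α hn hQA hAN hQB hBN hf hα hag
    set U := opPre F p Q with hU
    have hNS := normalizerIn_le (S := S) Q
    have hAS : A ≤ S := hAN.trans hNS
    have hBS : B ≤ S := hBN.trans hNS
    have := finite_le (opPre_le (F := F) (p := p) (Q := Q))
    have himg : U ≤ A → ∀ u : A, (u : Ω) ∈ U → ((f u : B) : Ω) ∈ U :=
      fun _ u hu => map_opPre hQA.le hBN hα hag hu
    by_cases hUA : U ≤ A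
    · refine Subgroup.mem_sup_right (Subgroup.subset_closure ⟨hα, ?_⟩)
      obtain ⟨g, hg, hgv⟩ := exists_restrict (P := U) hf.mem hUA
      have e : img (isoHom f) U = U := by
        refine Subgroup.eq_of_le_of_card_ge ?_ (card_img (F.injective_of_mem hf.mem) hUA).ge
        rintro _ ⟨x, hx, rfl⟩
        exact himg hUA x hx
      refine ⟨g.trans (MulEquiv.subgroupCongr e), hom_congr hg fun x => rfl, fun x hx => ?_⟩
      show ((g ⟨x, hx⟩ : img (isoHom f) U) : Ω) = _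
      rw [← hgv ⟨x, hx⟩ (hUA hx)]
      exact hag x _
    have hUB : ¬ U ≤ B := by
      intro h
      refine hUA fun u hu => ?_
      obtain ⟨g, hg, hgv⟩ := exists_restrict (P := U) hf.symm.mem h
      have e : img (isoHom f.symm) U = U := by
        refine Subgroup.eq_of_le_of_card_ge ?_ (card_img (F.injective_of_mem hf.symm.mem) h).ge
        rintro _ ⟨x, hx, rfl⟩
        exact map_opPre hQB hAN (inv_mem hα) (agrees_symm hQA.le hag) hx
      obtain ⟨x, -, hx⟩ := mem_img.1 (e.ge hu)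
      exact hx ▸ (f.symm x).2
    have grow : ∀ C : Subgroup Ω, C ≤ normalizerIn S Q → ¬ U ≤ C → C < C ⊔ normalizerIn U C := by
      intro C hC hn'
      refine lt_of_le_not_ge le_sup_left fun h => ?_
      have hCS : C ⊔ U ≤ S := sup_le (hC.trans hNS) opPre_le
      have := finite_le hCS
      obtain ⟨g, hg, hgC⟩ := exists_mem_normalizerIn_not_mem (hS.to_le hCS) (left_lt_sup.2 hn')
      have hgm : g ∈ (C : Set Ω) * (U : Set Ω) := by
        rw [← Subgroup.coe_mul_of_left_le_normalizer_right C U (hC.trans (opPre_le_normalizerOf hQ.1))]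
        exact hg.1
      obtain ⟨x, hx, u, hu, rfl⟩ := hgm
      have huN : u ∈ Subgroup.normalizer (C : Set Ω) := by
        have := mul_mem (inv_mem (Subgroup.le_normalizer (H := C) hx)) hg.2
        simpa using this
      exact hgC (mul_mem hx (h (le_sup_right (a := C) ⟨hu, huN⟩)))
    set WA := normalizerIn U A with hWA
    set WB := normalizerIn U B with hWB
    have hWAN : WA ≤ normalizerIn S Q := (inf_le_left : WA ≤ U).trans opPre_le_normalizer
    have hWBN : WB ≤ normalizerIn S Q := (inf_le_left : WB ≤ U).trans opPre_le_normalizer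
    have hA1 : A < A ⊔ WA := grow A hAN hUA
    have hB1 : B < B ⊔ WB := grow B hBN hUB
    have hA1N : A ⊔ WA ≤ normalizerIn S Q := sup_le hAN hWAN
    have hB1N : B ⊔ WB ≤ normalizerIn S Q := sup_le hBN hWBN
    have hQA' : Nat.card Q < Nat.card B :=
      (Nat.card_congr f.toEquiv) ▸ card_lt_of_lt hAS hQA
    have hfix : ∀ (γ : MulAut B) (κ : MulAut Q), γ ∈ F.autGroup B → κ ∈ O →
        (∀ (x : Q) (hx : (x : Ω) ∈ B), ((γ ⟨x, hx⟩ : B) : Ω) = ((κ x : Q) : Ω)) →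
        γ ∈ resAut F Q B hQB O := fun γ κ h1 h2 h3 => ⟨h1, κ, h2, h3⟩
    obtain ⟨B', e, he, s, hs, h1, h2⟩ := pair hS (hbig B hBS hQA') hf (WA := WA) (WB := WB)
      (inf_le_inf_right _ opPre_le) (inf_le_inf_right _ opPre_le) (L := resAut F Q B hQB O) resAut_le
      (fun g hg => by
        set gQ : normalizerIn S Q := ⟨(g : Ω), hWAN hg⟩ with hgQ
        refine hfix _ (α * conjAut gQ * α⁻¹) ?_ (hOn α hα _ (hKO ?_)) fun x hx => ?_
        · rw [← hf.congr_autGroup]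
          exact ⟨_, autInducedBy_le_autGroup hAS (conjAut_mem g), rfl⟩
        · exact Subgroup.mem_inf.2 ⟨conjAut_mem gQ, conjAut_mem_opAut hg.1⟩
        · show ((f (conjAut g (f.symm ⟨x, hx⟩)) : B) : Ω) = _
          have e1 : f.symm ⟨x, hx⟩ = ⟨((α⁻¹ x : Q) : Ω), hQA.le (α⁻¹ x).2⟩ :=
            Subtype.ext (agrees_symm hQA.le hag x hx)
          have e2 : conjAut g ⟨((α⁻¹ x : Q) : Ω), hQA.le (α⁻¹ x).2⟩ =
              ⟨((conjAut gQ (α⁻¹ x) : Q) : Ω), hQA.le (Subtype.coe_prop _)⟩ := Subtype.ext rfl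
          rw [e1, e2, hag]
          rfl)
      (fun g hg => hfix _ (conjAut ⟨(g : Ω), hWBN hg⟩) (autInducedBy_le_autGroup hBS (conjAut_mem g))
        (hKO (Subgroup.mem_inf.2 ⟨conjAut_mem _, conjAut_mem_opAut hg.1⟩)) fun x hx => rfl)
    obtain ⟨-, κ, hκ, hsκ⟩ := hs
    set Q' := img (isoHom e) Q with hQ'
    obtain ⟨b, hb, hbv⟩ := exists_restrict (P := Q) he.mem hQB
    obtain ⟨c, hc, hcext⟩ := hmv Q' (isConj_symm (isConj_img he.mem hQB))
    -- the automorphism on the side of `B`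
    set α2 : MulAut Q := b.trans c with hα2
    have hα2F : α2 ∈ F.autGroup Q := (mem_autGroup_iff_isoIn hQ.1).2 (hb.trans hc)
    obtain ⟨ψ2, hψ2, hψ2e⟩ := h2
    have hb2 : ∀ (x : Q) (hx : (x : Ω) ∈ B ⊔ WB), ψ2 ⟨x, hx⟩ = ((b x : Q') : Ω) := fun x hx =>
      (hψ2e ⟨x, hQB x.2⟩ hx).trans (hbv x _)
    have hext2 : ExtTo F (b.trans c) (B ⊔ WB) := ExtTo.comp hψ2 hb2
      (fun g => ExtTo.normalizes (hQB.trans le_sup_left) (hB1N.trans inf_le_right) hψ2 hb2 g) hcext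
    obtain ⟨B2, g2, hg2, hQB2, hB2N, hag2⟩ := hext2.exists_pair (hQB.trans le_sup_left) hB1N
    have hlt : Nat.card S - Nat.card ↥(B ⊔ WB) < n := by
      have h3 := card_lt_of_lt (hB1N.trans hNS) hB1
      have h4 : Nat.card ↥(B ⊔ WB) ≤ Nat.card S := Subgroup.card_le_of_le (hB1N.trans hNS)
      have h5 : Nat.card A = Nat.card B := Nat.card_congr f.toEquiv
      omega
    have hmem2 : α2 ∈ O ⊔ extAut F p Q := by
      refine ih _ hlt (B ⊔ WB) B2 g2 α2 le_rfl (lt_of_le_of_lt hQB hB1) hB1N hQB2 hB2N hg2 hα2F ?_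
      exact hag2
    -- the automorphism on the side of `A`
    set α1 : MulAut Q := α2 * κ * α with hα1
    have hκF : κ ∈ F.autGroup Q := hO hκ
    have hα1F : α1 ∈ F.autGroup Q := mul_mem (mul_mem hα2F hκF) hα
    obtain ⟨ψ1, hψ1, hψ1e⟩ := h1
    set a1 : Q ≃* Q' := (α : Q ≃* Q).trans ((κ : Q ≃* Q).trans b) with ha1
    have hb1 : ∀ (x : Q) (hx : (x : Ω) ∈ A ⊔ WA), ψ1 ⟨x, hx⟩ = ((a1 x : Q') : Ω) := by
      intro x hx
      rw [hψ1e ⟨x, hQA.le x.2⟩ hx]
      have e1 : f ⟨x, hQA.le x.2⟩ = ⟨((α x : Q) : Ω), hQB (α x).2⟩ := Subtype.ext (hag x _)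
      have e2 : s ⟨((α x : Q) : Ω), hQB (α x).2⟩ = ⟨((κ (α x) : Q) : Ω), hQB (κ (α x)).2⟩ :=
        Subtype.ext (hsκ (α x) _)
      simp only [MulEquiv.trans_apply, e1, e2]
      exact hbv _ _
    have hext1 : ExtTo F (a1.trans c) (A ⊔ WA) := ExtTo.comp hψ1 hb1
      (fun g => ExtTo.normalizes (hQA.le.trans le_sup_left) (hA1N.trans inf_le_right) hψ1 hb1 g) hcext
    obtain ⟨A2, g1, hg1, hQA2, hA2N, hag1⟩ := hext1.exists_pair (hQA.le.trans le_sup_left) hA1N
    have hlt1 : Nat.card S - Nat.card ↥(A ⊔ WA) < n := by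
      have h3 := card_lt_of_lt (hA1N.trans hNS) hA1
      have h4 : Nat.card ↥(A ⊔ WA) ≤ Nat.card S := Subgroup.card_le_of_le (hA1N.trans hNS)
      omega
    have hmem1 : α1 ∈ O ⊔ extAut F p Q := by
      refine ih _ hlt1 (A ⊔ WA) A2 g1 α1 le_rfl (lt_trans hQA hA1) hA1N hQA2 hA2N hg1 hα1F ?_
      intro x hx
      rw [hag1 x hx]
      rfl
    have e : α = κ⁻¹ * (α2⁻¹ * α1) := by rw [hα1]; group
    rw [e]
    exact mul_mem (Subgroup.mem_sup_left (inv_mem hκ)) (mul_mem (inv_mem hmem2) hmem1)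

include hS hQ hQℋ hℋS hconj hSℋ hgen hbig hmv in
/-- The automorphism group is `O ⊔ Ext`. -/
theorem autGroup_le_sup {O : Subgroup (MulAut Q)} (hO : O ≤ F.autGroup Q)
    (hOn : ∀ g ∈ F.autGroup Q, ∀ κ ∈ O, g * κ * g⁻¹ ∈ O) (hKO : opInd F p Q ≤ O) :
    F.autGroup Q ≤ O ⊔ extAut F p Q := by
  have key : ∀ {P R : Subgroup Ω} {a : P ≃* R}, Gen F ℋ a → F.IsConj P Q →
      ∀ (u : P ≃* Q) (v : R ≃* Q), IsoIn F u → ExtTo F u (normalizerIn S P) → IsoIn F v →
        ExtTo F v (normalizerIn S R) → (u.symm.trans (a.trans v) : MulAut Q) ∈ O ⊔ extAut F p Q := by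
    intro P R a h
    induction h with
    | @step P R R₀ a hR₀ hPR ψ hψ h =>
      intro hPQ u v hu hue hv hve
      have haI : IsoIn F a := Gen.isoIn (Gen.step hR₀ hPR hψ h)
      have hlt : P < R₀ := lt_of_le_of_ne hPR fun e => hQℋ (hconj P (e ▸ hR₀) Q hPQ)
      set A0 := normalizerIn R₀ P
      have hA : P < A0 := exists_gt_normalizerIn hS (hℋS _ hR₀) hlt
      have hAN : A0 ≤ normalizerIn S P := inf_le_inf_right _ (hℋS _ hR₀)
      have hle : A0 ≤ R₀ := inf_le_left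
      obtain ⟨B0, g0, hg0, hQB0, hB0N, hag0⟩ := (hue.mono hAN).exists_pair hA.le hAN
      have h' : ∀ (x : P) (hx : (x : Ω) ∈ A0),
          ψ.comp (Subgroup.inclusion hle) ⟨x, hx⟩ = ((a x : R) : Ω) := fun x hx => h x
      have hext : ExtTo F (a.trans v) A0 := ExtTo.comp (restrict_mem hψ hle) h'
        (fun g => ExtTo.normalizes hA.le inf_le_right (restrict_mem hψ hle) h' g) hve
      obtain ⟨ψ1, hψ1, hψ1e⟩ := hext
      obtain ⟨B1, g1, hg1, hQB1, hB1N, hag1⟩ :=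
        (show ExtTo F (a.trans v) A0 from ⟨ψ1, hψ1, hψ1e⟩).exists_pair hA.le hAN
      have hlt' : Q < B0 := by
        refine lt_of_le_of_ne hQB0 fun e => ?_
        have h1 := card_lt_of_lt (hle.trans (hℋS _ hR₀)) hA
        rw [Nat.card_congr u.toEquiv, Nat.card_congr g0.toEquiv, ← e] at h1
        exact lt_irrefl _ h1
      refine mem_of_larger hS hQ hbig hmv hO hOn hKO _ B0 B1 (g0.symm.trans g1) _ le_rfl hlt' hB0N
        hQB1 hB1N (hg0.symm.trans hg1) ((mem_autGroup_iff_isoIn hQ.1).2 (hu.symm.trans (haI.trans hv))) ?_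
      intro x hx
      have e1 : g0.symm ⟨x, hx⟩ = ⟨((u.symm x : P) : Ω), hA.le (u.symm x).2⟩ :=
        Subtype.ext (agrees_symm hA.le hag0 x hx)
      rw [MulEquiv.trans_apply, e1, hag1]
      rfl
    | @comp P R R' a b hga _ iha ihb =>
      intro hPQ u v hu hue hv hve
      have hRQ : F.IsConj R Q := isConj_trans (isConj_symm hga.isoIn.isConj) hPQ
      obtain ⟨w, hw, hwe⟩ := hmv R hRQ
      have e : (u.symm.trans ((a.trans b).trans v) : MulAut Q) =
          (w.symm.trans (b.trans v) : MulAut Q) * (u.symm.trans (a.trans w) : MulAut Q) := by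
        ext x
        simp [MulAut.mul_apply]
      rw [e]
      exact mul_mem (ihb hRQ w v hw hwe hv hve) (iha hPQ u w hu hue hw hwe)
  intro α hα
  have hid : ExtTo F (MulEquiv.refl Q) (normalizerIn S Q) :=
    ⟨(normalizerIn S Q).subtype, incl_mem (normalizerIn_le Q), fun x hx => rfl⟩
  have := key (gen_of_hom hconj hSℋ hgen ((mem_autGroup_iff_isoIn hQ.1).1 hα)) (isConj_refl hQ.1)
    (MulEquiv.refl Q) (MulEquiv.refl Q) (isoIn_refl hQ.1) hid (isoIn_refl hQ.1) hid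
  exact this

/-- In a finite nilpotent group only the whole group has normal closure the whole group. -/
theorem eq_top_of_normalClosure {G : Type*} [Group G] [Finite G] [Group.IsNilpotent G]
    {H : Subgroup G} (h : Subgroup.normalClosure (H : Set G) = ⊤) : H = ⊤ := by
  rcases eq_top_or_exists_le_coatom H with h' | ⟨M, hM, hHM⟩
  · exact h'
  exfalso
  haveI := Subgroup.NormalizerCondition.normal_of_coatom (H := M) Group.normalizerCondition_of_isNilpotent hM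
  exact hM.1 (top_le_iff.1 (h ▸ Subgroup.normalClosure_le_normal hHM))

/-- If `G ≤ O E` where `E` normalises `K`, and the nilpotent group `O` is the least subgroup over `K`
normalised by `G`, then `O = K`. -/
theorem le_of_minimal {M : Type*} [Group M] [Finite M] {G K O E : Subgroup M} [Group.IsNilpotent O]
    (hG : G ≤ O ⊔ E) (hKO : K ≤ O) (hEO : E ≤ Subgroup.normalizer (O : Set M))
    (hEK : ∀ φ ∈ E, ∀ κ ∈ K, φ * κ * φ⁻¹ ∈ K)
    (hmin : ∀ N : Subgroup M, K ≤ N → N ≤ O → G ≤ Subgroup.normalizer (N : Set M) → O ≤ N) :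
    O ≤ K := by
  set C := Subgroup.normalClosure ((K.subgroupOf O) : Set O) with hC
  set N := C.map O.subtype with hN
  have hKN : K ≤ N := fun κ hκ =>
    Subgroup.mem_map.2 ⟨⟨κ, hKO hκ⟩, Subgroup.subset_normalClosure hκ, rfl⟩
  have hNO : N ≤ O := Subgroup.map_subtype_le _
  have hCn : C.Normal := Subgroup.normalClosure_normal
  have hEn : ∀ φ ∈ E, ∀ x ∈ N, φ * x * φ⁻¹ ∈ N := by
    intro φ hφ x hx
    obtain ⟨y, hy, rfl⟩ := Subgroup.mem_map.1 hx
    have hle : C ≤ N.comap ((MulAut.conj φ).toMonoidHom.comp O.subtype) := by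
      rw [hC, Subgroup.normalClosure, Subgroup.closure_le]
      intro z hz
      obtain ⟨k, hk, hkz⟩ := Group.mem_conjugatesOfSet_iff.1 hz
      obtain ⟨o, rfl⟩ := _root_.isConj_iff.1 hkz
      show φ * ((o : M) * k * (o : M)⁻¹) * φ⁻¹ ∈ N
      have ho : φ * (o : M) * φ⁻¹ ∈ O := (Subgroup.mem_normalizer_iff.1 (hEO hφ) _).1 o.2
      have hk' : φ * (k : M) * φ⁻¹ ∈ K := hEK φ hφ k hk
      have e : φ * ((o : M) * k * (o : M)⁻¹) * φ⁻¹ =
          (φ * (o : M) * φ⁻¹) * (φ * k * φ⁻¹) * (φ * (o : M) * φ⁻¹)⁻¹ := by group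
      rw [e]
      have hm : (⟨_, ho⟩ : O) * ⟨_, hKO hk'⟩ * (⟨_, ho⟩ : O)⁻¹ ∈ C :=
        hCn.conj_mem _ (Subgroup.subset_normalClosure hk') _
      exact Subgroup.mem_map.2 ⟨_, hm, rfl⟩
    exact hle hy
  have hGn : G ≤ Subgroup.normalizer (N : Set M) := by
    refine hG.trans (sup_le ?_ ?_)
    · rw [Subgroup.le_normalizer_iff]
      intro o ho x hx
      obtain ⟨y, hy, rfl⟩ := Subgroup.mem_map.1 hx
      exact Subgroup.mem_map.2 ⟨⟨o, ho⟩ * y * ⟨o, ho⟩⁻¹, hCn.conj_mem y hy _, rfl⟩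
    · rw [Subgroup.le_normalizer_iff]
      exact fun φ hφ x hx => hEn φ hφ x hx
  have hON := hmin N hKN hNO hGn
  have htop : C = ⊤ := by
    rw [eq_top_iff]
    intro o _
    obtain ⟨y, hy, hyo⟩ := Subgroup.mem_map.1 (hON o.2)
    rwa [show y = o from Subtype.ext hyo] at hy
  exact Subgroup.subgroupOf_eq_top.1 (eq_top_of_normalClosure htop)

include hS hQ hQℋ hℋS hconj hSℋ hgen hbig hmv in
/-- Every automorphism extends to the preimage of `O_p`. -/
theorem autGroup_eq_extAut : F.autGroup Q ≤ extAut F p Q := by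
  have hQS := hQ.1
  have := finite_mulAut_of_le (S := S) hQS
  set G := F.autGroup Q with hG
  set K := opInd F p Q with hK
  have hKG : K ≤ G := inf_le_right.trans opAut_le
  set O := (Subgroup.normalClosure ((K.subgroupOf G) : Set G)).map G.subtype with hOd
  have hO : O ≤ G := Subgroup.map_subtype_le _
  have hOn : ∀ g ∈ G, ∀ κ ∈ O, g * κ * g⁻¹ ∈ O := by
    rintro g hg _ ⟨k, hk, rfl⟩
    exact ⟨⟨g, hg⟩ * k * ⟨g, hg⟩⁻¹, Subgroup.normalClosure_normal.conj_mem k hk _, rfl⟩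
  have hKO : K ≤ O := fun κ hκ => ⟨⟨κ, hKG hκ⟩, Subgroup.subset_normalClosure hκ, rfl⟩
  have hOp : O ≤ opAut F p Q := by
    refine Subgroup.map_mono ?_
    haveI := Core.normal_pCore p G
    refine Subgroup.normalClosure_le_normal fun κ hκ => ?_
    obtain ⟨k, hk, hkκ⟩ := (Subgroup.mem_inf.1 (show (κ : MulAut Q) ∈ K from hκ)).2
    rwa [show k = κ from Subtype.ext hkκ] at hk
  have hsup := autGroup_le_sup hS hQ hQℋ hℋS hconj hSℋ hgen hbig hmv hO hOn hKO
  -- the extendable automorphisms normalise `K`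
  have hEK : ∀ φ ∈ extAut F p Q, ∀ κ ∈ K, φ * κ * φ⁻¹ ∈ K := by
    intro φ hφ κ hκ
    obtain ⟨hφG, f, hf, hfφ⟩ := mem_extAut hS hQS hφ
    obtain ⟨u, hu, hv⟩ := mem_autInducedBy_iff.1 (Subgroup.mem_inf.1 hκ).1
    refine Subgroup.mem_inf.2 ⟨?_, conj_mem_opAut hφG (Subgroup.mem_inf.1 hκ).2⟩
    have huU : u ∈ opPre F p Q := ⟨hu, κ, hκ, hv⟩
    refine mem_autInducedBy_iff.2 ⟨((f ⟨u, huU⟩ : opPre F p Q) : Ω), opPre_le (f _).2, fun x => ?_⟩
    obtain ⟨y, rfl⟩ := φ.surjective x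
    rw [MulAut.mul_apply, MulAut.mul_apply, MulAut.inv_apply_self, ← hfφ y (le_opPre hS hQS y.2),
      ← hfφ (κ y) (le_opPre hS hQS (κ y).2), ← Subgroup.coe_inv, ← Subgroup.coe_mul,
      ← Subgroup.coe_mul, ← map_inv, ← map_mul, ← map_mul]
    exact congrArg (fun z => ((f z : opPre F p Q) : Ω)) (Subtype.ext (hv y))
  have := finite_le hQS
  haveI : Group.IsNilpotent O := ((isPGroup_opAut (F := F) (p := p) (Q := Q)).to_le hOp).isNilpotent
  have hOK : O ≤ K := by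
    refine le_of_minimal hsup hKO ?_ hEK fun N hKN hNO hGn => ?_
    · rw [Subgroup.le_normalizer_iff]
      exact fun φ hφ x hx => hOn φ (mem_extAut hS hQS hφ).1 x hx
    · have hn : (N.subgroupOf G).Normal := Subgroup.normal_subgroupOf_of_le_normalizer hGn
      refine Subgroup.map_le_iff_le_comap.2 ?_
      exact Subgroup.normalClosure_le_normal (N := N.subgroupOf G) fun κ hκ => hKN hκ
  refine hsup.trans (sup_le ?_ le_rfl)
  intro κ hκ
  have hκK := hOK hκ
  obtain ⟨u, hu, hv⟩ := mem_autInducedBy_iff.1 (Subgroup.mem_inf.1 hκK).1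
  have huU : u ∈ opPre F p Q := ⟨hu, κ, hκK, hv⟩
  have hN : u ∈ Subgroup.normalizer (opPre F p Q : Set Ω) := Subgroup.le_normalizer huU
  refine Subgroup.subset_closure ⟨hO hκ, conjAut (⟨u, hu, hN⟩ : normalizerIn S (opPre F p Q)),
    (mem_autGroup_iff_isoIn opPre_le).1 (autInducedBy_le_autGroup opPre_le (conjAut_mem _)),
    fun x hx => (hv x).symm⟩

end CfsgLib.Fusion.Control
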