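import Cfsg.Agent.Lib.Fusion.ControlPair

/-!
Owner: helper11. Systems generated by the maps on a family: chains, and maps between normalizers.
-/

set_option autoImplicit false
set_option maxHeartbeats 400000
set_option linter.unusedSectionVars false

namespace CfsgLib.Fusion.Control

open Cfsg Cfsg.FusionSystem CfsgLib.Fusion

variable {Ω : Type*} [Group Ω] {S : Subgroup Ω} {F : FusionSystem S} {p : ℕ} {ℋ : Set (Subgroup Ω)}

/-- Composites of restrictions of maps with source in the family. -/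
inductive Gen (F : FusionSystem S) (ℋ : Set (Subgroup Ω)) :
    ∀ {P Q : Subgroup Ω}, (P ≃* Q) → Prop
  | step {P Q R : Subgroup Ω} {a : P ≃* Q} (hR : R ∈ ℋ) (hPR : P ≤ R) {ψ : R →* Ω}
      (hψ : ψ ∈ F.Hom R) (h : ∀ x : P, ψ (Subgroup.inclusion hPR x) = ((a x : Q) : Ω)) : Gen F ℋ a
  | comp {P Q R : Subgroup Ω} (a : P ≃* Q) (b : Q ≃* R) : Gen F ℋ a → Gen F ℋ b →
      Gen F ℋ (a.trans b)

theorem Gen.isoIn {P Q : Subgroup Ω} {a : P ≃* Q} (h : Gen F ℋ a) : IsoIn F a := by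
  induction h with
  | step hR hPR hψ h => exact restrict_mem' hψ hPR fun x => (h x).symm
  | comp a b _ _ ha hb => exact ha.trans hb

theorem Gen.restrict {P Q : Subgroup Ω} {a : P ≃* Q} (h : Gen F ℋ a) :
    ∀ R, R ≤ P → ∃ (R' : Subgroup Ω) (b : R ≃* R'), R' ≤ Q ∧ Gen F ℋ b ∧ Agrees a b := by
  induction h with
  | @step P Q R₀ a hR hPR ψ hψ h =>
    intro R hRP
    obtain ⟨b, -, hb⟩ := exists_restrict hψ (hRP.trans hPR)
    refine ⟨_, b, ?_, Gen.step hR (hRP.trans hPR) hψ fun x => hb x _, fun x hx => ?_⟩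
    · rintro _ ⟨x, hx, rfl⟩
      have := h ⟨x, hRP hx⟩
      rw [show Subgroup.inclusion hPR ⟨(x : Ω), hRP hx⟩ = x from Subtype.ext rfl] at this
      rw [this]
      exact (a _).2
    · rw [← hb x ((hRP.trans hPR) x.2)]
      exact (h ⟨x, hx⟩).symm
  | @comp P Q Q' a b _ _ iha ihb =>
    intro R hRP
    obtain ⟨R', a', hR'Q, hga, haa⟩ := iha R hRP
    obtain ⟨R'', b', hR''Q, hgb, hbb⟩ := ihb R' hR'Q
    refine ⟨R'', a'.trans b', hR''Q, hga.comp _ _ hgb, fun x hx => ?_⟩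
    have e : a ⟨x, hx⟩ = ⟨((a' x : R') : Ω), hR'Q (a' x).2⟩ := Subtype.ext (haa x hx)
    show ((b (a ⟨x, hx⟩) : Q') : Ω) = _
    rw [e]
    exact hbb (a' x) _

theorem Gen.symm (hconj : ∀ P ∈ ℋ, ∀ Q, F.IsConj P Q → Q ∈ ℋ) {P Q : Subgroup Ω} {a : P ≃* Q}
    (h : Gen F ℋ a) : Gen F ℋ a.symm := by
  induction h with
  | @step P Q R a hR hPR ψ hψ h =>
    obtain ⟨χ, hχ, -, hl, -⟩ := exists_inv hψ rfl
    have hQ : Q ≤ ψ.range := fun y hy =>
      ⟨Subgroup.inclusion hPR (a.symm ⟨y, hy⟩), by rw [h]; simp⟩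
    refine Gen.step (hconj R hR _ ⟨ψ, hψ, rfl⟩) hQ hχ fun y => ?_
    have e : Subgroup.inclusion hQ y =
        ⟨ψ (Subgroup.inclusion hPR (a.symm y)), MonoidHom.mem_range.2 ⟨_, rfl⟩⟩ :=
      Subtype.ext (show (y : Ω) = ψ _ by rw [h]; simp)
    rw [e]
    exact hl _ _
  | comp a b _ _ ha hb => exact hb.comp _ _ ha

/-- The system of chains. -/
def genSystem (hconj : ∀ P ∈ ℋ, ∀ Q, F.IsConj P Q → Q ∈ ℋ) (hSℋ : S ∈ ℋ) : FusionSystem S where
  Hom P := {φ | φ ∈ F.Hom P ∧ ∃ (Q : Subgroup Ω) (a : P ≃* Q), Gen F ℋ a ∧ ∀ x, ((a x : Q) : Ω) = φ x}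
  le_of_mem h := F.le_of_mem h.1
  injective_of_mem h := F.injective_of_mem h.1
  conj_mem := by
    intro P g hP hg
    refine ⟨F.conj_mem hP hg, ?_⟩
    obtain ⟨a, -, ha⟩ := exists_iso (F.conj_mem hP hg) rfl
    exact ⟨_, a, Gen.step hSℋ hP (F.conj_mem le_rfl hg) (fun x => (ha x).symm), ha⟩
  comp_mem := by
    rintro P Q φ ψ ⟨hφ, Q₁, a, hga, ha⟩ ⟨hψ, Q₂, b, hgb, hb⟩ h
    refine ⟨F.comp_mem hφ hψ h, ?_⟩
    have hle : Q₁ ≤ Q := by
      intro y hy
      have := h (a.symm ⟨y, hy⟩)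
      rwa [← ha, MulEquiv.apply_symm_apply] at this
    obtain ⟨R, b', -, hgb', hbb⟩ := hgb.restrict Q₁ hle
    refine ⟨R, a.trans b', hga.comp _ _ hgb', fun x => ?_⟩
    show ((b' (a x) : R) : Ω) = ψ ⟨φ x, h x⟩
    rw [← hbb (a x) (hle (a x).2), hb]
    congr 1
    exact Subtype.ext (ha x)
  inv_mem := by
    rintro P φ ⟨hφ, Q, a, hga, ha⟩
    obtain rfl : Q = φ.range := by
      ext y
      exact ⟨fun hy => ⟨a.symm ⟨y, hy⟩, by rw [← ha]; simp⟩,
        fun ⟨x, hx⟩ => by rw [← hx, ← ha]; exact (a x).2⟩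
    obtain ⟨ψ, hψ, hl⟩ := F.inv_mem hφ
    refine ⟨ψ, ⟨hψ, P, a.symm, hga.symm hconj, fun y => ?_⟩, hl⟩
    obtain ⟨x, rfl⟩ := a.surjective y
    rw [MulEquiv.symm_apply_apply, show a x = ⟨φ x, x, rfl⟩ from Subtype.ext (ha x), hl]

theorem gen_of_hom (hconj : ∀ P ∈ ℋ, ∀ Q, F.IsConj P Q → Q ∈ ℋ) (hSℋ : S ∈ ℋ)
    (hgen : ∀ E : FusionSystem S, (∀ P ∈ ℋ, F.Hom P ⊆ E.Hom P) → F ≤ E)
    {P Q : Subgroup Ω} {a : P ≃* Q} (ha : IsoIn F a) : Gen F ℋ a := by
  have hle := hgen (genSystem hconj hSℋ) fun R hR φ hφ => by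
    obtain ⟨b, -, hb⟩ := exists_iso hφ rfl
    exact ⟨hφ, _, b, Gen.step hR le_rfl hφ (fun x => (hb x).symm), hb⟩
  obtain ⟨-, Q', b, hgb, hb⟩ := hle P ha.mem
  obtain rfl : Q' = Q := by
    ext y
    constructor
    · intro hy
      have := hb (b.symm ⟨y, hy⟩)
      rw [MulEquiv.apply_symm_apply, isoHom_apply] at this
      rw [show y = _ from this]
      exact (a _).2
    · intro hy
      have := hb (a.symm ⟨y, hy⟩)
      rw [isoHom_apply, MulEquiv.apply_symm_apply] at this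
      rw [show y = _ from this.symm]
      exact (b _).2
  rwa [show a = b from MulEquiv.ext fun x => Subtype.ext (hb x).symm]

/-- Some map of the normalizers carries `P` onto `Q`. -/
def Moves (F : FusionSystem S) (P Q : Subgroup Ω) : Prop :=
  ∃ a : P ≃* Q, IsoIn F a ∧ ExtTo F a (normalizerIn S P)

variable [Finite S] [Fact p.Prime] {Q : Subgroup Ω}

theorem exists_gt_normalizerIn (hS : IsPGroup p S) {P R : Subgroup Ω} (hRS : R ≤ S) (h : P < R) :
    P < normalizerIn R P := by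
  have := finite_le hRS
  obtain ⟨g, hg, hgP⟩ := exists_mem_normalizerIn_not_mem (hS.to_le hRS) h
  exact lt_of_le_not_ge (le_normalizerIn h.le) fun h' => hgP (h' hg)

theorem card_lt_of_lt {A B : Subgroup Ω} (hB : B ≤ S) (h : A < B) : Nat.card A < Nat.card B := by
  have := finite_le hB
  exact lt_of_le_of_ne (Subgroup.card_le_of_le h.le)
    fun e => h.ne (Subgroup.eq_of_le_of_card_ge h.le e.ge)

/-- A map on a subgroup properly containing `P` forces a map on the whole normalizer. -/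
theorem moves_of_larger (hS : IsPGroup p S) (hQ : F.IsFullyNormalized Q)
    (hbig : ∀ A, A ≤ S → Nat.card Q < Nat.card A → Nice F p A) :
    ∀ (n : ℕ) (P A B : Subgroup Ω) (f : A ≃* B) (a : P ≃* Q), Nat.card S - Nat.card A ≤ n →
      P < A → A ≤ normalizerIn S P → Q ≤ B → B ≤ normalizerIn S Q → IsoIn F f → IsoIn F a →
      Agrees f a → Moves F P Q := by
  intro n
  induction n using Nat.strong_induction_on with
  | _ n ih =>
    intro P A B f a hn hPA hAN hQB hBN hf ha hag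
    by_cases hA : A = normalizerIn S P
    · subst hA
      exact ⟨a, ha, IsoIn.extTo hf hag⟩
    have hNS := normalizerIn_le (S := S) P
    have hNQS := normalizerIn_le (S := S) Q
    have hAS : A ≤ S := hAN.trans hNS
    have hBS : B ≤ S := hBN.trans hNQS
    have hAB : Nat.card A = Nat.card B := Nat.card_congr f.toEquiv
    have hBlt : B < normalizerIn S Q := by
      refine lt_of_le_of_ne hBN fun h => hA ?_
      have := finite_le hNS
      refine Subgroup.eq_of_le_of_card_ge hAN ?_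
      rw [hAB, h]
      exact hQ.2 P (isConj_symm ha.isConj)
    set WA := normalizerIn (normalizerIn S P) A
    set WB := normalizerIn (normalizerIn S Q) B
    have hWAS : WA ≤ S := (inf_le_left : WA ≤ normalizerIn S P).trans hNS
    have hWBS : WB ≤ S := (inf_le_left : WB ≤ normalizerIn S Q).trans hNQS
    have hWA : A < WA := exists_gt_normalizerIn hS hNS (lt_of_le_of_ne hAN hA)
    have hWB : B < WB := exists_gt_normalizerIn hS hNQS hBlt
    have hQA : Nat.card Q < Nat.card A :=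
      (Nat.card_congr a.toEquiv).symm ▸ card_lt_of_lt hAS hPA
    have hPconj : ∀ x : B, (x : Ω) ∈ Q → ((f.symm x : A) : Ω) ∈ P := by
      intro x hx
      have h := agrees_symm hPA.le hag ⟨x, hx⟩ x.2
      rw [h]
      exact (a.symm _).2
    have hfix : ∀ (γ : MulAut B), γ ∈ F.autGroup B → (∀ x : B, (x : Ω) ∈ Q → ((γ x : B) : Ω) ∈ Q) →
        γ ∈ resAut F Q B hQB (F.autGroup Q) := by
      intro γ hγ hpres
      obtain ⟨κ, hκ, hκv⟩ := exists_restrict (P := Q) ((mem_autGroup_iff hBS).1 hγ) hQB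
      have himg : img (B.subtype.comp γ.toMonoidHom) Q = Q := by
        have := finite_le hQ.1
        refine Subgroup.eq_of_le_of_card_ge ?_
          (card_img (F.injective_of_mem ((mem_autGroup_iff hBS).1 hγ)) hQB).ge
        rintro _ ⟨x, hx, rfl⟩
        exact hpres x hx
      let κ' : MulAut Q := κ.trans (MulEquiv.subgroupCongr himg)
      exact ⟨hγ, κ', (mem_autGroup_iff hQ.1).2 (hom_congr hκ fun x => rfl), fun x hx => hκv x hx⟩
    obtain ⟨B', e, he, s, hs, h1, h2⟩ := pair hS (hbig B hBS (hAB ▸ hQA)) hf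
      (WA := WA) (WB := WB) (inf_le_inf_right _ hNS) (inf_le_inf_right _ hNQS)
      (L := resAut F Q B hQB (F.autGroup Q)) resAut_le
      (fun g hg => by
        refine hfix _ ?_ fun x hx => ?_
        · rw [← hf.congr_autGroup]
          exact ⟨_, autInducedBy_le_autGroup hAS (conjAut_mem g), rfl⟩
        · show ((f (conjAut g (f.symm x)) : B) : Ω) ∈ Q
          have hm : ((conjAut g (f.symm x) : A) : Ω) ∈ P :=
            conj_mem_of_mem_normalizer hg.1.2 (hPconj x hx)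
          have h := hag ⟨_, hm⟩ (conjAut g (f.symm x)).2
          rw [h]
          exact (a _).2)
      (fun g hg => hfix _ (autInducedBy_le_autGroup hBS (conjAut_mem g))
        fun x hx => conj_mem_of_mem_normalizer hg.1.2 hx)
    have hsI : IsoIn F (s : B ≃* B) := (mem_autGroup_iff_isoIn hBS).1 (resAut_le hs)
    obtain ⟨-, κ, hκ, hsκ⟩ := hs
    set Q' := img (isoHom e) Q with hQ'
    obtain ⟨b, hb, hbv⟩ := exists_restrict (P := Q) he.mem hQB
    have hPQ' : F.IsConj Q Q' := isConj_img he.mem hQB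
    -- from `Q'` back to `Q`
    have h2' : ExtTo F b WB := by
      obtain ⟨ψ, hψ, hψe⟩ := h2.mono (le_sup_right (a := B))
      exact ⟨ψ, hψ, fun x hx => (hψe ⟨x, hQB x.2⟩ hx).trans (hbv x _)⟩
    obtain ⟨B2, g2, hg2, hQB2, hB2N, hag2⟩ := h2'.exists_pair (hQB.trans hWB.le) inf_le_left
    have hB2 : Nat.card B2 = Nat.card WB := (Nat.card_congr g2.toEquiv).symm
    have hQ'lt : Q' < B2 := by
      refine lt_of_le_of_ne hQB2 fun h => ?_
      have h1 := isConj_card hPQ'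
      have h2 := card_lt_of_lt hWBS hWB
      rw [← hB2, ← h] at h2
      omega
    have hlt1 : Nat.card S - Nat.card B2 < n := by
      have h3 : Nat.card A < Nat.card B2 := by
        rw [hB2, hAB]; exact card_lt_of_lt hWBS hWB
      have h4 : Nat.card B2 ≤ Nat.card S := Subgroup.card_le_of_le (hB2N.trans (normalizerIn_le _))
      omega
    obtain ⟨c, hc, hcext⟩ := ih _ hlt1 Q' B2 WB g2.symm b.symm le_rfl hQ'lt hB2N
      (hQB.trans hWB.le) inf_le_left hg2.symm hb.symm (agrees_symm (hQB.trans hWB.le) hag2)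
    -- compose
    set a1 : P ≃* Q' := a.trans ((κ : Q ≃* Q).trans b)
    have ha1 : IsoIn F a1 := ha.trans (((mem_autGroup_iff_isoIn hQ.1).1 hκ).trans hb)
    obtain ⟨ψ, hψ, hψe⟩ := h1.mono (le_sup_right (a := A))
    have hψ1 : ∀ (x : P) (hx : (x : Ω) ∈ WA), ψ ⟨x, hx⟩ = ((a1 x : Q') : Ω) := by
      intro x hx
      rw [hψe ⟨x, hPA.le x.2⟩ hx]
      have e1 : f ⟨x, hPA.le x.2⟩ = ⟨((a x : Q) : Ω), hQB (a x).2⟩ := Subtype.ext (hag x _)
      have e2 : s ⟨((a x : Q) : Ω), hQB (a x).2⟩ = ⟨((κ (a x) : Q) : Ω), hQB (κ (a x)).2⟩ :=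
        Subtype.ext (hsκ (a x) _)
      simp only [MulEquiv.trans_apply, e1, e2]
      exact hbv _ _
    have hext : ExtTo F (a1.trans c) WA := ExtTo.comp hψ hψ1
      (fun g => ExtTo.normalizes (hPA.le.trans hWA.le) (inf_le_left.trans inf_le_right) hψ hψ1 g) hcext
    obtain ⟨B3, g3, hg3, hQB3, hB3N, hag3⟩ := hext.exists_pair (hPA.le.trans hWA.le) inf_le_left
    have hlt2 : Nat.card S - Nat.card WA < n := by
      have h3 := card_lt_of_lt hWAS hWA
      have h4 : Nat.card WA ≤ Nat.card S := Subgroup.card_le_of_le hWAS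
      omega
    exact ih _ hlt2 P WA B3 g3 (a1.trans c) le_rfl (hPA.trans hWA) inf_le_left hQB3 hB3N hg3
      (ha1.trans hc) hag3

/-- Every member of the class moves to a fully normalized one. -/
theorem moves_all (hS : IsPGroup p S) (hQ : F.IsFullyNormalized Q) (hQℋ : Q ∉ ℋ)
    (hℋS : ∀ R ∈ ℋ, R ≤ S) (hconj : ∀ P ∈ ℋ, ∀ Q, F.IsConj P Q → Q ∈ ℋ) (hSℋ : S ∈ ℋ)
    (hgen : ∀ E : FusionSystem S, (∀ P ∈ ℋ, F.Hom P ⊆ E.Hom P) → F ≤ E)
    (hbig : ∀ A, A ≤ S → Nat.card Q < Nat.card A → Nice F p A)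
    {P : Subgroup Ω} (hP : F.IsConj P Q) : Moves F P Q := by
  suffices key : ∀ {P R : Subgroup Ω} {a : P ≃* R}, Gen F ℋ a → F.IsConj P Q → Moves F R Q → Moves F P Q by
    obtain ⟨a, ha⟩ := isConj_iff.1 hP
    refine key (gen_of_hom hconj hSℋ hgen ha) hP ⟨MulEquiv.refl Q, isoIn_refl hQ.1, ?_⟩
    exact ⟨(normalizerIn S Q).subtype, incl_mem (normalizerIn_le Q), fun x hx => rfl⟩
  intro P R a h
  induction h with
  | @step P R R₀ a hR₀ hPR ψ hψ h =>
    intro hPQ hmv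
    obtain ⟨c, hc, hcext⟩ := hmv
    have hlt : P < R₀ := lt_of_le_of_ne hPR fun e => hQℋ (hconj P (e ▸ hR₀) Q hPQ)
    have hA : P < normalizerIn R₀ P := exists_gt_normalizerIn hS (hℋS _ hR₀) hlt
    have hAN : normalizerIn R₀ P ≤ normalizerIn S P := inf_le_inf_right _ (hℋS _ hR₀)
    have hle : normalizerIn R₀ P ≤ R₀ := inf_le_left
    have h' : ∀ (x : P) (hx : (x : Ω) ∈ normalizerIn R₀ P),
        ψ.comp (Subgroup.inclusion hle) ⟨x, hx⟩ = ((a x : R) : Ω) := fun x hx => h x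
    have hext : ExtTo F (a.trans c) (normalizerIn R₀ P) :=
      ExtTo.comp (restrict_mem hψ hle) h'
        (fun g => ExtTo.normalizes hA.le inf_le_right (restrict_mem hψ hle) h' g) hcext
    obtain ⟨B, f, hf, hQB, hBN, hag⟩ := hext.exists_pair hA.le hAN
    exact moves_of_larger hS hQ hbig _ P _ B f (a.trans c) le_rfl hA hAN hQB hBN hf
      ((Gen.isoIn (Gen.step hR₀ hPR hψ h)).trans hc) hag
  | @comp P R R' a b hga _ iha ihb =>
    intro hPQ hmv
    exact iha hPQ (ihb (isConj_trans (isConj_symm hga.isoIn.isConj) hPQ) hmv)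

end CfsgLib.Fusion.Control
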