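import Cfsg.Agent.Lib.Fusion.ComponentExists
import Cfsg.Agent.Lib.Fusion.ProductSaturated
import Cfsg.Prelude.Def_FusionFitting

/-!
# Constrained systems are those whose generalized Fitting subsystem is the core
-/

set_option autoImplicit false

namespace CfsgLib.Fusion

open Cfsg Cfsg.FusionSystem

variable {Ω : Type*} [Group Ω] {S T Q : Subgroup Ω} {F : FusionSystem S} {p : ℕ}

/-- The inner system of `Q` is the central product of itself and the trivial system. -/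
theorem inner_centralProduct_bot (Q : Subgroup Ω) :
    IsCentralProductOf (innerFusionSystem Q) (innerFusionSystem (⊥ : Subgroup Ω))
      (innerFusionSystem Q) := by
  refine ⟨prodSystem _ _, prodSystem_isProductSystem _ _, ⊥,
    (MonoidHom.fst Ω Ω).comp (Q.prod (⊥ : Subgroup Ω)).subtype, bot_le, bot_inf_eq _, bot_inf_eq _,
    fun x _ => rfl, fun y hy => ?_, bot_le, fun s => ?_, ?_, fun P' φ' => ?_⟩
  · exact (Subgroup.mem_bot.1 hy.2).symm
  · refine ⟨fun h => ?_, fun h => ?_⟩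
    · exact Subgroup.mem_bot.2 (Prod.ext h (Subgroup.mem_bot.1 s.2.2))
    · exact congrArg Prod.fst (Subgroup.mem_bot.1 h)
  · refine le_antisymm ?_ fun x hx => ⟨⟨(x, 1), hx, Subgroup.one_mem _⟩, rfl⟩
    rintro _ ⟨x, rfl⟩
    exact x.2.1
  set θ := (MonoidHom.fst Ω Ω).comp (Q.prod (⊥ : Subgroup Ω)).subtype
  constructor
  · rintro ⟨hP, g, hg, hv⟩
    refine ⟨hP, conjHom _ (g, 1), FusionSystem.conj_mem _ (preimageAlong_le _ _)
      ⟨hg, Subgroup.one_mem _⟩, preimageAlong_le _ _, fun x => ?_, fun x => ?_, fun x => ?_⟩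
    · exact (Q.prod ⊥).mul_mem ((Q.prod ⊥).mul_mem ⟨hg, Subgroup.one_mem _⟩
        (preimageAlong_le _ _ x.2)) ((Q.prod ⊥).inv_mem ⟨hg, Subgroup.one_mem _⟩)
    · exact (mem_preimageAlong (θ := θ) (x := ⟨x, preimageAlong_le _ _ x.2⟩)).1 x.2
    · exact hv _
  · rintro ⟨hP, φ, ⟨-, a, ⟨-, g, hg, ha⟩, b, -, rfl⟩, hS, hφ, hm, hv⟩
    refine ⟨hP, g, hg, fun y => ?_⟩
    have hy : ((y : Ω), (1 : Ω)) ∈ Q.prod (⊥ : Subgroup Ω) := ⟨hP y.2, Subgroup.one_mem _⟩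
    have hy' : ((y : Ω), (1 : Ω)) ∈ preimageAlong θ P' :=
      (mem_preimageAlong (θ := θ) (x := ⟨_, hy⟩)).2 y.2
    exact (hv ⟨_, hy'⟩).trans (ha _)

/-- If the inner system of `Q` is a central product with `E`, the maps of `E` are conjugations by
elements of `Q`. -/
theorem subsystem_inner_of_centralProduct [Finite Q] [Finite T] {E : FusionSystem T}
    (h : IsCentralProductOf (innerFusionSystem Q) E (innerFusionSystem Q)) :
    E.IsSubsystemOf (innerFusionSystem Q) := by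
  obtain ⟨D₀, hD₀, Z, θ, hZ, -, -, -, hθ₂, hZS, hθ, hr, hiff⟩ := h
  have hprod := eq_prodSystem hD₀
  intro P₂ φ₂ hφ₂
  have hP₂T := hom_le hφ₂
  have hP₂Q : P₂ ≤ Q := fun y hy => hr.le ⟨_, hθ₂ y ⟨Q.one_mem, hP₂T hy⟩⟩
  set P : Subgroup (Ω × Ω) := (⊥ : Subgroup Ω).prod P₂ with hPdef
  have hR : projR P ≤ P₂ := by rintro _ ⟨x, hx, rfl⟩; exact hx.2
  have hL : projL P ≤ Q := by
    rintro _ ⟨x, hx, rfl⟩
    show x.1 ∈ Q
    rw [Subgroup.mem_bot.1 hx.1]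
    exact Q.one_mem
  have hφ : pairHom (projL P).subtype (φ₂.comp (Subgroup.inclusion hR)) ∈ D₀.Hom P := by
    rw [hprod]
    exact ⟨fun x hx => ⟨(Subgroup.mem_bot.1 hx.1 : x.1 = 1) ▸ Q.one_mem, hP₂T hx.2⟩, _,
      incl_mem hL, _, restrict_mem hφ₂ hR, rfl⟩
  have : Finite ↥(Q.prod T) := Finite.of_equiv _ (Q.prodEquiv T).toEquiv.symm
  have hcen : D₀.IsCentral D₀.center := center_isCentral
  have hZsc : D₀.StronglyClosed Z := ⟨hZS, fun R hR χ hχ x => by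
    obtain ⟨ψ, -, hψP, hψZ⟩ := hcen.2 R χ hχ
    have e : χ x = (x : Ω × Ω) :=
      (hψP x).symm.trans ((congrArg ψ (Subtype.ext rfl)).trans (hψZ ⟨x, hZ (hR x.2)⟩))
    rw [e]
    exact hR x.2⟩
  obtain ⟨ψ, hψ, hψP, -⟩ := hcen.2 P _ hφ
  have hle : preimageAlong θ P₂ ≤ P ⊔ D₀.center := by
    intro x hx
    have hxS := preimageAlong_le θ P₂ hx
    have hy : θ ⟨x, hxS⟩ ∈ P₂ := (mem_preimageAlong (θ := θ) (x := ⟨x, hxS⟩)).1 hx
    have hy' : ((1 : Ω), θ ⟨x, hxS⟩) ∈ Q.prod T := ⟨Q.one_mem, hP₂T hy⟩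
    have hmem : (((⟨_, hy'⟩ : ↥(Q.prod T))⁻¹ * ⟨x, hxS⟩ : ↥(Q.prod T)) : Ω × Ω) ∈ Z := by
      rw [← hθ, map_mul, map_inv, hθ₂, inv_mul_cancel]
    have := Subgroup.mul_mem (P ⊔ D₀.center) (Subgroup.mem_sup_left
      (show ((1 : Ω), θ ⟨x, hxS⟩) ∈ P from ⟨Subgroup.one_mem _, hy⟩))
      (Subgroup.mem_sup_right (hZ hmem))
    rwa [Subgroup.coe_mul, InvMemClass.coe_inv, mul_inv_cancel_left] at this
  obtain ⟨φ', hφ'⟩ := exists_induced hZsc hθ (hr.symm ▸ hP₂Q) (restrict_mem hψ hle)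
  obtain ⟨-, g, hg, hv⟩ := (hiff P₂ φ').2 ⟨hP₂Q, _, restrict_mem hψ hle, hφ'⟩
  refine ⟨hP₂Q, g, hg, fun y => ?_⟩
  rw [← hv y]
  have hy : ((1 : Ω), (y : Ω)) ∈ Q.prod T := ⟨Q.one_mem, hP₂T y.2⟩
  have hy' : ((1 : Ω), (y : Ω)) ∈ preimageAlong θ P₂ :=
    (mem_preimageAlong (θ := θ) (x := ⟨_, hy⟩)).2 ((hθ₂ (y : Ω) hy).symm ▸ y.2)
  obtain ⟨hS, hψS, hm, hind⟩ := hφ'
  have hyP : ((1 : Ω), (y : Ω)) ∈ P := ⟨Subgroup.one_mem _, y.2⟩
  have h1 : ψ (Subgroup.inclusion hle ⟨_, hy'⟩) = ((1 : Ω), φ₂ y) := by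
    refine Eq.trans ?_ ((hψP ⟨_, hyP⟩).trans ?_)
    · exact congrArg ψ (Subtype.ext rfl)
    · rw [pairHom_apply]
      exact Prod.ext rfl rfl
  have hy2 : ((1 : Ω), φ₂ y) ∈ Q.prod T := ⟨Q.one_mem, hom_apply_mem hφ₂ y⟩
  have h2 := (hind ⟨_, hy'⟩).trans
    ((congrArg θ (Subtype.ext h1 : _ = (⟨_, hy2⟩ : ↥(Q.prod T)))).trans (hθ₂ _ hy2))
  refine h2.symm.trans (congrArg φ' (Subtype.ext ?_))
  exact hθ₂ (y : Ω) hy

/-- Constrained exactly when the core is the generalized Fitting subsystem. -/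
theorem isConstrained_iff_core_fitting [Fact p.Prime] [Finite S] (hS : IsPGroup p S)
    (hF : F.IsSaturated p) :
    F.IsConstrained p ↔ (innerFusionSystem F.core).IsGeneralizedFittingOf F p := by
  constructor
  · intro hc
    have hno := (isConstrained_iff_no_component hS hF).1 hc
    refine ⟨⊥, innerFusionSystem ⊥, ⟨inner_isNormalIn_of_normal hS hF isNormal_bot,
      fun U C hC => absurd ⟨U, C, hC⟩ hno, fun R D _ _ P φ hφ => ?_⟩,
      inner_centralProduct_bot _⟩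
    obtain ⟨hP, g, hg, hv⟩ := hφ
    exact conj_mem' (hP.trans bot_le) ((Subgroup.mem_bot.1 hg : g = 1) ▸ R.one_mem) hv
  · rintro ⟨T, E, ⟨hEn, hcomp, -⟩, hprod⟩
    refine (isConstrained_iff_no_component hS hF).2 ?_
    rintro ⟨U, C, hC⟩
    have hTS : T ≤ S := hEn.1.2.2.2.1.1
    have := finite_le hTS
    have hQS : F.core ≤ S := core_le
    have := finite_le hQS
    have hCQ : C.IsSubsystemOf (innerFusionSystem F.core) := fun P φ hφ =>
      subsystem_inner_of_centralProduct hprod P (hcomp U C hC P hφ)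
    have hUQ : U ≤ F.core := hom_le (hCQ U (incl_mem le_rfl))
    have := finite_le hUQ
    have hUp : IsPGroup p U := hS.to_le (hUQ.trans hQS)
    have hUbot : U ≤ ⊥ := by
      refine hC.2.2.1.ge.trans (hyperfocal_le_of_coprime fun P α hP hα hc x => ?_)
      rw [coprime_aut_eq_one_of_inner (hS.to_le hQS) rfl (hP.trans hUQ)
        ((mem_autGroup_iff (hP.trans hUQ)).2 (hCQ P ((mem_autGroup_iff hP).1 hα))) hc]
      simp
    refine not_isConstrained_of_quasisimple hUp hC.2 ⟨hC.2.1, ⊥, isNormal_bot, bot_le,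
      fun R _ y hy => ?_⟩
    rw [Subgroup.mem_bot.1 (hUbot (mem_centralizerIn.1 hy).1)]
    exact R.one_mem

end CfsgLib.Fusion
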