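import Cfsg.Agent.Lib.Fusion.Criterion
import Cfsg.Agent.Lib.LocalEvenB.StronglyClosedComplement
import Cfsg.Agent.Lib.Transfer.PResidual

/-!
The centre of the Thompson subgroup decides whether a system is inner, for odd primes.
-/

set_option autoImplicit false

namespace CfsgLib.Fusion

open Cfsg Cfsg.FusionSystem

universe u

variable {p : ℕ}

/-- `Z(J(·))` as a local criterion, for odd primes. -/
def zjCrit [Fact p.Prime] (hp : p ≠ 2) : LocalCrit.{u} p where
  W D := centerThompsonAOf D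
  W_le D := inf_le_left.trans (Subgroup.map_subtype_le _)
  W_ne hD h := CfsgLib.PLocal.centerThompsonA_ne_bot hD h
  W_map f D hf := CfsgLib.PLocal.centerThompsonA_map f D hf
  group_crit := by
    intro L _ _ T D hD hD1 hC hN
    exact sylow_top_of_npc T hC
      (CfsgLib.LocalEvenB.hasNormalPComplement_centerThompsonA_stronglyClosed hp T D hD
        (CfsgLib.Transfer.hasNormalPComplement_of_isPGroup (T.isPGroup'.to_le hN)))

variable {Ω : Type u} [Group Ω] {S : Subgroup Ω} {F : FusionSystem S}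

/-- Normalizer systems of an inner system are inner. -/
theorem normalizer_inner_of_inner (h : ∀ P : Subgroup Ω, F.Hom P = (innerFusionSystem S).Hom P)
    {X : Subgroup Ω} (hX : X ≤ S) {N : FusionSystem (normalizerIn S X)}
    (hN : F.IsNormalizerSystem X N) (P : Subgroup Ω) :
    N.Hom P = (innerFusionSystem (normalizerIn S X)).Hom P := by
  refine Set.Subset.antisymm (fun φ hφ => ?_) fun φ hφ =>
    innerFusionSystem_le N P hφ
  rw [hN P] at hφ
  obtain ⟨-, hP, -, ψ, hψ, hψP, hψX⟩ := hφ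
  rw [h] at hψ
  obtain ⟨-, g, hg, hgv⟩ := hψ
  refine ⟨hP, g, ⟨hg, ?_⟩, fun x => by rw [← hψP x, hgv]; rfl⟩
  refine Subgroup.mem_normalizer_iff.2 ?_
  intro y
  constructor
  · intro hy
    have := hψX.le ⟨⟨y, Subgroup.mem_sup_right hy⟩, hy, rfl⟩
    rwa [hgv] at this
  · intro hy
    obtain ⟨x, hx, hxy⟩ := hψX.ge hy
    rw [hgv, mul_left_inj, mul_right_inj] at hxy
    exact hxy ▸ hx

/-- The criterion with `Z(J(D))`. -/
theorem inner_iff_normalizer_zj [Finite S] [Fact p.Prime] (hS : IsPGroup p S) (hF : F.IsSaturated p)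
    (hp : p ≠ 2) {D : Subgroup Ω} (hD : F.StronglyClosed D) :
    (∀ P : Subgroup Ω, F.Hom P = (innerFusionSystem S).Hom P) ↔
      ∀ N : FusionSystem (normalizerIn S (centerThompsonAOf D)),
        F.IsNormalizerSystem (centerThompsonAOf D) N → ∀ P : Subgroup Ω,
          N.Hom P = (innerFusionSystem (normalizerIn S (centerThompsonAOf D))).Hom P := by
  have hW : centerThompsonAOf D ≤ S := ((zjCrit hp).W_le D).trans hD.1
  refine ⟨fun h N hN => normalizer_inner_of_inner h hW hN, fun h P => ?_⟩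
  have hloc := locTriv_of_inner_normalizer hS hW h
  suffices hF' : F = innerFusionSystem S by rw [hF']
  by_cases hD1 : D = ⊥
  · subst hD1
    refine eq_inner_of_coprime_trivial hS hF fun R hR b hb hc => ?_
    have hbot : centerThompsonAOf (⊥ : Subgroup Ω) = ⊥ :=
      le_bot_iff.1 ((zjCrit hp).W_le ⊥)
    refine hloc R (hbot.le.trans bot_le) (fun x hx => ⟨hR hx,
      (zjCrit hp).normalizer_le ⊥ (by rw [Subgroup.normalizer_eq_top]; trivial)⟩) b hb hc ?_
    intro x hx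
    obtain rfl : x = 1 := Subtype.ext (Subgroup.mem_bot.1 (hbot.le hx))
    rw [map_one]
    exact one_mem _
  · exact (zjCrit hp).criterion _ rfl hS hF hD hD1 hloc

/-- For odd `p` a system that is not inner has a bad normal subgroup. -/
theorem exists_bad_normal [Finite S] [Fact p.Prime] (hS : IsPGroup p S) (hF : F.IsSaturated p)
    (hp : p ≠ 2) (hne : F ≠ innerFusionSystem S) :
    ∃ Y : Subgroup Ω, Y ≠ ⊥ ∧ Y ≤ S ∧ S ≤ Subgroup.normalizer (Y : Set Ω) ∧ ¬ LocTriv F p Y := by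
  obtain ⟨X, hX1, hXS, -⟩ := exists_bad hS hF hne
  have hS1 : S ≠ ⊥ := fun h => hX1 (le_bot_iff.1 (h ▸ hXS))
  exact ⟨(zjCrit hp).W S, (zjCrit hp).W_ne' hS le_rfl hS1, (zjCrit hp).W_le S,
    Subgroup.le_normalizer.trans ((zjCrit hp).normalizer_le S),
    fun h => hne ((zjCrit hp).criterion _ rfl hS hF stronglyClosed_top hS1 h)⟩

/-- If systems that are not inner have bad normal subgroups, they contain constrained ones that are
not inner. -/
theorem exists_constrained [Finite S] [Fact p.Prime] (hS : IsPGroup p S) (hF : F.IsSaturated p)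
    (hbn : ∃ Y : Subgroup Ω, Y ≠ ⊥ ∧ Y ≤ S ∧ S ≤ Subgroup.normalizer (Y : Set Ω) ∧ ¬ LocTriv F p Y)
    (hbnE : ∀ (N : FusionSystem S) (Q : Subgroup Ω), N ≤ F → N.IsSaturated p → Q ≠ ⊥ →
      ∀ {Ω' : Type u} [Group Ω'] {θ : S →* Ω'} {S' : Subgroup Ω'} [Finite S'] (E : FusionSystem S'),
        IsPGroup p S' → E.IsSaturated p → N.IsFactorSystem Q θ E → E ≠ innerFusionSystem S' →
        ∃ Y : Subgroup Ω', Y ≠ ⊥ ∧ Y ≤ S' ∧ S' ≤ Subgroup.normalizer (Y : Set Ω') ∧
          ¬ LocTriv E p Y) :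
    ∃ E : FusionSystem S, E ≤ F ∧ E.IsConstrained p ∧
      ∃ P : Subgroup Ω, E.Hom P ≠ (innerFusionSystem S).Hom P := by
  obtain ⟨Q, ⟨hQ1, hQS, hQN, hQbad⟩, hQmax⟩ := Set.Finite.exists_maximal
    (s := {Q | Q ≠ ⊥ ∧ Q ≤ S ∧ S ≤ Subgroup.normalizer (Q : Set Ω) ∧ ¬ LocTriv F p Q})
    (Set.Finite.subset (finite_setOf_le (S := S)) fun Q hQ => hQ.2.1) hbn
  obtain ⟨N, hNF, hNsat, hNQ, hNne, hcase⟩ := bad_normal_dichotomy hS hF hQS hQN hQbad
  rcases hcase with hfix | hact
  · obtain ⟨R₀, hn, hc⟩ := normal_centric_of_fixless hS hNsat hNQ hfix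
    refine ⟨N, hNF, ⟨hNsat, R₀, hn, hc⟩, ?_⟩
    by_contra hall
    simp only [not_exists, ne_eq, not_not] at hall
    exact hNne (fusionSystem_ext hall)
  · obtain ⟨Ω', _, θ, S', E, _, hS', hE, hEsat, -⟩ :=
      exists_factor_quotient hS hNsat (IsNormal.stronglyClosed hNQ)
    obtain ⟨Y, hQY, hYS, hYN, hY⟩ := exists_bad_above hS hNsat hNQ hNne hact hE
      (hbnE N Q hNF hNsat hQ1 E hS' hEsat hE)
    exact absurd (hQmax ⟨fun h => not_lt_bot (h ▸ hQY), hYS, hYN,
      fun h => hY (h.mono hNF le_rfl)⟩ hQY.le) hQY.not_ge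

end CfsgLib.Fusion
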