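import Cfsg.Agent.Lib.Fusion.MetacyclicClosed
import Cfsg.Agent.Lib.Fusion.MetacyclicTwoClosed
import Cfsg.Agent.Lib.PGroups.Basic
import Cfsg.Agent.Lib.PGroups.ClassTwo
import Cfsg.Agent.Lib.PGroups.MaxAbelian

/-!
Metacyclic groups with a chain of strongly closed subgroups with cyclic steps in every system.
-/

set_option autoImplicit false

namespace CfsgLib.Fusion

open Cfsg Cfsg.FusionSystem
open scoped commutatorElement

universe u

/-- An abelian metacyclic `p`-group is cyclic, homocyclic of rank two or has a characteristic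
subgroup of index `p`. -/
theorem exists_char_index_p_abelian {X : Type*} [Group X] [Finite X] {p : ℕ} [Fact p.Prime]
    (hX : IsPGroup p X) (hm : Cfsg.IsMetacyclic X) (hc : ∀ a b : X, a * b = b * a)
    (hh : ¬ ∃ n : ℕ, 0 < n ∧
      Nonempty (X ≃* Multiplicative (ZMod (p ^ n)) × Multiplicative (ZMod (p ^ n))))
    [Nontrivial X] : ∃ M : Subgroup X, M.Characteristic ∧ M.index = p := by
  classical
  have hp : p.Prime := Fact.out
  obtain ⟨e, he, hemin⟩ : ∃ e : ℕ, (∀ x : X, x ^ p ^ e = 1) ∧ ∀ m < e, ∃ x : X, x ^ p ^ m ≠ 1 := by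
    have hex : ∃ e : ℕ, ∀ x : X, x ^ p ^ e = 1 := by
      obtain ⟨k, hk⟩ := IsPGroup.iff_card.1 hX
      exact ⟨k, fun x => by rw [← hk]; exact pow_card_eq_one'⟩
    exact ⟨Nat.find hex, Nat.find_spec hex, fun m hm' => by
      have := Nat.find_min hex hm'
      push Not at this
      exact this⟩
  obtain ⟨d, rfl⟩ : ∃ d, e = d + 1 := Nat.exists_eq_add_one_of_ne_zero fun h => by
    obtain ⟨x, hx⟩ := exists_ne (1 : X)
    exact hx (by simpa [h] using he x)
  let q : X →* X :=
    { toFun := fun x => x ^ p ^ d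
      map_one' := one_pow _
      map_mul' := fun x y => (show Commute x y from hc x y).mul_pow _ }
  have hq : ∀ x : X, q x = x ^ p ^ d := fun x => rfl
  obtain ⟨x₁, hx₁⟩ := hemin d (by omega)
  have hqp : ∀ v : q.range, v ^ p = 1 := by
    rintro ⟨_, x, rfl⟩
    refine Subtype.ext ?_
    show (x ^ p ^ d) ^ p = 1
    rw [← pow_mul, ← pow_succ]
    exact he x
  have hle : Nat.card q.range ≤ p * p :=
    CfsgLib.Techniques.metacyclic_card_le hm q.rangeRestrict q.rangeRestrict_surjective hp.ne_zero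
      hqp
  obtain ⟨k, hk⟩ := IsPGroup.iff_card.1 (hX.to_subgroup q.range)
  have hk1 : 1 ≤ k := Nat.one_le_iff_ne_zero.2 fun h => hx₁ (by
    rw [h, pow_zero] at hk
    have hbot := Subgroup.card_eq_one.1 hk
    exact (Subgroup.mem_bot.1 (hbot.le ⟨x₁, rfl⟩) : q x₁ = 1))
  have hk2 : k ≤ 2 := by
    rw [hk, ← pow_two] at hle
    exact (Nat.pow_le_pow_iff_right hp.one_lt).1 hle
  rcases (show k = 1 ∨ k = 2 by omega) with rfl | rfl
  · refine ⟨q.ker, ?_, by rw [Subgroup.index_ker, hk, pow_one]⟩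
    refine Subgroup.characteristic_iff_map_le.2 fun φ => ?_
    rintro _ ⟨x, hx, rfl⟩
    show φ x ^ p ^ d = 1
    rw [← map_pow, show x ^ p ^ d = 1 from hx, map_one]
  exfalso
  -- independent elements
  obtain ⟨b, hb⟩ : ∃ b : X, q b ∉ Subgroup.zpowers (q x₁) := by
    by_contra h
    push Not at h
    have hle' : q.range ≤ Subgroup.zpowers (q x₁) := by rintro _ ⟨x, rfl⟩; exact h x
    have := Nat.le_of_dvd Nat.card_pos (Subgroup.card_dvd_of_le hle')
    rw [hk, Nat.card_zpowers] at this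
    have ho : orderOf (q x₁) ≤ p := Nat.le_of_dvd hp.pos
      (orderOf_dvd_of_pow_eq_one (congrArg Subtype.val (hqp ⟨_, x₁, rfl⟩)))
    have : p ^ 2 ≤ p := this.trans ho
    nlinarith [hp.two_le]
  have hqa : q x₁ ^ p = 1 := congrArg Subtype.val (hqp ⟨_, x₁, rfl⟩)
  have hqb : q b ^ p = 1 := congrArg Subtype.val (hqp ⟨_, b, rfl⟩)
  have hoa : orderOf (q x₁) = p := orderOf_eq_prime hqa hx₁
  have hindep : ∀ i j : ℕ, q x₁ ^ i * q b ^ j = 1 → p ∣ i ∧ p ∣ j := by
    intro i j h
    have hj : p ∣ j := by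
      by_contra hj
      obtain ⟨m, hm'⟩ := exists_pow_eq_self_of_coprime (x := q b) (n := j) (by
        rw [orderOf_eq_prime hqb fun h' => hb (h' ▸ one_mem _)]
        exact (hp.coprime_iff_not_dvd.2 hj).symm)
      refine hb ?_
      rw [← hm', eq_inv_of_mul_eq_one_right h]
      exact Subgroup.pow_mem _ (Subgroup.inv_mem _
        (Subgroup.pow_mem _ (Subgroup.mem_zpowers _) i)) m
    refine ⟨?_, hj⟩
    obtain ⟨j', rfl⟩ := hj
    rw [pow_mul (q b), hqb, one_pow, mul_one] at h
    exact hoa ▸ orderOf_dvd_of_pow_eq_one h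
  have hdiv : ∀ t ≤ d + 1, ∀ i j : ℕ, (x₁ ^ i * b ^ j) ^ p ^ (d + 1 - t) = 1 →
      p ^ t ∣ i ∧ p ^ t ∣ j := by
    intro t
    induction t with
    | zero => intro _ i j _; exact ⟨one_dvd _, one_dvd _⟩
    | succ t ih =>
      intro ht i j h
      have h1 : q (x₁ ^ i * b ^ j) = 1 := by
        rw [hq]
        obtain ⟨c, hc'⟩ := pow_dvd_pow p (show d + 1 - (t + 1) ≤ d by omega)
        rw [hc', pow_mul, h, one_pow]
      rw [map_mul, map_pow, map_pow] at h1
      obtain ⟨⟨i', rfl⟩, ⟨j', rfl⟩⟩ := hindep i j h1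
      obtain ⟨hi, hj⟩ := ih (by omega) i' j' (by
        rw [show d + 1 - t = (d + 1 - (t + 1)) + 1 by omega, pow_succ', pow_mul,
          (show Commute (x₁ ^ i') (b ^ j') from hc _ _).mul_pow, ← pow_mul, ← pow_mul,
          mul_comm i', mul_comm j']
        exact h)
      exact ⟨by rw [pow_succ']; exact Nat.mul_dvd_mul_left p hi,
        by rw [pow_succ']; exact Nat.mul_dvd_mul_left p hj⟩
  set N := p ^ (d + 1) with hN
  have : NeZero N := ⟨pow_ne_zero _ hp.ne_zero⟩
  let f : Multiplicative (ZMod N) × Multiplicative (ZMod N) → X :=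
    fun ij => x₁ ^ (Multiplicative.toAdd ij.1).val * b ^ (Multiplicative.toAdd ij.2).val
  have hpow : ∀ (y : X) (u v : ZMod N), y ^ (u + v).val = y ^ u.val * y ^ v.val := fun y u v => by
    rw [← pow_add, ZMod.val_add]
    exact (pow_eq_pow_mod _ (he y)).symm
  let F : Multiplicative (ZMod N) × Multiplicative (ZMod N) →* X := MonoidHom.mk' f fun u v => by
    show x₁ ^ ((Multiplicative.toAdd u.1) + (Multiplicative.toAdd v.1)).val *
      b ^ ((Multiplicative.toAdd u.2) + (Multiplicative.toAdd v.2)).val = _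
    rw [hpow, hpow]
    exact (show Commute _ _ from hc _ _).mul_mul_mul_comm _ _
  have hFinj : Function.Injective F := (injective_iff_map_eq_one F).2 fun u hu => by
    obtain ⟨hi, hj⟩ := hdiv (d + 1) le_rfl (Multiplicative.toAdd u.1).val
      (Multiplicative.toAdd u.2).val (by rw [Nat.sub_self, pow_zero, pow_one]; exact hu)
    have h1 := Nat.eq_zero_of_dvd_of_lt hi (ZMod.val_lt _)
    have h2 := Nat.eq_zero_of_dvd_of_lt hj (ZMod.val_lt _)
    rw [ZMod.val_eq_zero] at h1 h2
    exact Prod.ext (Multiplicative.toAdd.injective h1) (Multiplicative.toAdd.injective h2)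
  have hcardD : Nat.card (Multiplicative (ZMod N) × Multiplicative (ZMod N)) = N * N := by
    rw [Nat.card_prod]; simp
  have hcard : Nat.card X = N * N := by
    refine le_antisymm (CfsgLib.Techniques.metacyclic_card_le hm (MonoidHom.id X)
      (fun x => ⟨x, rfl⟩) (NeZero.ne N) he) ?_
    rw [← hcardD]
    exact Nat.card_le_card_of_injective F hFinj
  exact hh ⟨d + 1, d.succ_pos, ⟨(MulEquiv.ofBijective F
    ((Nat.bijective_iff_injective_and_card F).2 ⟨hFinj, hcardD.trans hcard.symm⟩)).symm⟩⟩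

/-- `p` odd: a noncyclic metacyclic group which is not homocyclic has a characteristic subgroup of
index `p`. -/
theorem exists_char_index_p {X : Type*} [Group X] [Finite X] {p : ℕ} [Fact p.Prime] (hp2 : p ≠ 2)
    (hX : IsPGroup p X) (hm : Cfsg.IsMetacyclic X) (hnc : ¬ IsCyclic X)
    (hh : ¬ ∃ n : ℕ, 0 < n ∧
      Nonempty (X ≃* Multiplicative (ZMod (p ^ n)) × Multiplicative (ZMod (p ^ n)))) :
    ∃ M : Subgroup X, M.Characteristic ∧ M.index = p := by
  classical
  have hp : p.Prime := Fact.out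
  have : Nontrivial X := by
    by_contra h
    rw [not_nontrivial_iff_subsingleton] at h
    exact hnc inferInstance
  by_cases hab : ∀ a b : X, a * b = b * a
  · exact exists_char_index_p_abelian hX hm hab hh
  set D := commutator X with hD
  have hAm : Cfsg.IsMetacyclic (X ⧸ D) := by
    obtain ⟨N, hN, hNc, hQc⟩ := hm
    refine ⟨N.map (QuotientGroup.mk' D), hN.map _ (QuotientGroup.mk'_surjective D),
      isCyclic_of_surjective ((QuotientGroup.mk' D).subgroupMap N)
        ((QuotientGroup.mk' D).subgroupMap_surjective N), ?_⟩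
    have := hN
    refine isCyclic_of_surjective
      (QuotientGroup.map N (N.map (QuotientGroup.mk' D)) (QuotientGroup.mk' D)
        (Subgroup.le_comap_map _ N)) fun q => ?_
    obtain ⟨q, rfl⟩ := QuotientGroup.mk_surjective q
    obtain ⟨x, rfl⟩ := QuotientGroup.mk'_surjective D q
    exact ⟨QuotientGroup.mk x, rfl⟩
  have hAc : ∀ a b : X ⧸ D, a * b = b * a := fun a b =>
    (Subgroup.Normal.quotient_commutative_iff_commutator_le (N := D)).2 le_rfl |>.is_comm.comm a b
  have : Nontrivial (X ⧸ D) := by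
    by_contra h
    rw [not_nontrivial_iff_subsingleton] at h
    have htop : D = ⊤ := eq_top_iff.2 fun x _ =>
      (QuotientGroup.eq_one_iff x).1 (Subsingleton.elim _ _)
    have := CfsgLib.PGroups.commutator_le_frattini' hX
    rw [← hD, htop, top_le_iff] at this
    exact CfsgLib.PGroups.frattini_ne_top this
  by_cases hhA : ∃ n : ℕ, 0 < n ∧
      Nonempty (X ⧸ D ≃* Multiplicative (ZMod (p ^ n)) × Multiplicative (ZMod (p ^ n)))
  swap
  · obtain ⟨M, hMc, hMi⟩ := exists_char_index_p_abelian (hX.to_quotient D) hAm hAc hhA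
    refine ⟨M.comap (QuotientGroup.mk' D), ?_, ?_⟩
    · refine Subgroup.characteristic_iff_map_le.2 fun φ => ?_
      rintro _ ⟨x, hx, rfl⟩
      exact (Subgroup.characteristic_iff_map_eq.1 hMc (QuotientGroup.congr D D φ
        (Subgroup.characteristic_iff_map_eq.1 inferInstance φ))).le ⟨_, hx, rfl⟩
    · rw [Subgroup.index_comap_of_surjective _ (QuotientGroup.mk'_surjective D), hMi]
  obtain ⟨n, hn, ⟨e⟩⟩ := hhA
  set N := p ^ n with hN
  have hexpA : ∀ v : X ⧸ D, v ^ N = 1 := fun v => e.injective (by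
    rw [map_pow, map_one]
    have h : ∀ w : Multiplicative (ZMod N), w ^ N = 1 := fun w => Multiplicative.toAdd.injective
      (by rw [toAdd_pow, toAdd_one, nsmul_eq_mul, ZMod.natCast_self, zero_mul])
    exact Prod.ext (h _) (h _))
  have hcardA : Nat.card (X ⧸ D) = N * N := by
    rw [Nat.card_congr e.toEquiv, Nat.card_prod]
    have : NeZero N := ⟨pow_ne_zero _ hp.ne_zero⟩
    simp
  have hDc : IsCyclic D := by
    obtain ⟨N', hN', hNc, hQc⟩ := hm
    have hle : D ≤ N' := Subgroup.Normal.quotient_commutative_iff_commutator_le.mp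
      IsCyclic.commutative
    exact (Subgroup.subgroupOfEquivOfLe hle).isCyclic.1 inferInstance
  obtain ⟨⟨c, hc⟩, hcgen⟩ := hDc.exists_generator
  have hcmem : ∀ x ∈ D, x ∈ Subgroup.zpowers c := fun x hx => by
    obtain ⟨k, hk⟩ := Subgroup.mem_zpowers_iff.1 (hcgen ⟨x, hx⟩)
    exact Subgroup.mem_zpowers_iff.2 ⟨k, congrArg Subtype.val hk⟩
  set Z₀ := Subgroup.zpowers (c ^ p) with hZ₀
  have hZchar : Z₀.Characteristic := Subgroup.characteristic_iff_map_le.2 fun φ => by
    rintro _ ⟨x, hx, rfl⟩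
    obtain ⟨k, rfl⟩ := Subgroup.mem_zpowers_iff.1 hx
    obtain ⟨l, hl⟩ := Subgroup.mem_zpowers_iff.1 (hcmem _
      ((Subgroup.characteristic_iff_map_eq.1 (inferInstance : D.Characteristic) φ).le ⟨c, hc, rfl⟩))
    refine Subgroup.mem_zpowers_iff.2 ⟨l * k, ?_⟩
    show _ = φ ((c ^ p) ^ k)
    rw [map_zpow, map_pow, show φ c = c ^ l from hl.symm, zpow_mul]
    congr 1
    rw [← zpow_natCast c p, ← zpow_natCast (c ^ l) p, ← zpow_mul, ← zpow_mul, mul_comm]
  set π : X →* X ⧸ Z₀ := QuotientGroup.mk' Z₀ with hπ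
  have hπD : ∀ x ∈ D, π x ∈ Subgroup.zpowers (π c) ∧ π x ^ p = 1 := fun x hx => by
    obtain ⟨k, rfl⟩ := Subgroup.mem_zpowers_iff.1 (hcmem x hx)
    refine ⟨Subgroup.mem_zpowers_iff.2 ⟨k, (map_zpow π c k).symm⟩, ?_⟩
    rw [← map_pow, hπ, QuotientGroup.mk'_apply, QuotientGroup.eq_one_iff, ← zpow_natCast,
      ← zpow_mul, mul_comm, zpow_mul, zpow_natCast]
    exact Subgroup.zpow_mem_zpowers _ k
  have hcne : π c ≠ 1 := fun h => hab fun a b => by
    obtain ⟨k, hk⟩ := Subgroup.mem_zpowers_iff.1 ((QuotientGroup.eq_one_iff c).1 h)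
    have h1 : c ^ ((p : ℤ) * k - 1) = 1 := by
      rw [zpow_sub, zpow_mul, zpow_natCast, hk, zpow_one, mul_inv_cancel]
    obtain ⟨t, ht⟩ := IsPGroup.iff_orderOf.1 hX c
    have h2 := orderOf_dvd_iff_zpow_eq_one.2 h1
    rw [ht] at h2
    have hc1 : c = 1 := by
      rcases Nat.eq_zero_or_pos t with rfl | ht0
      · rwa [pow_zero, orderOf_eq_one_iff] at ht
      · exfalso
        have h3 : (p : ℤ) ∣ (p : ℤ) * k - 1 :=
          (Int.natCast_dvd_natCast.2 (dvd_pow_self p ht0.ne')).trans h2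
        have h4 := dvd_sub (dvd_mul_right (p : ℤ) k) h3
        rw [sub_sub_cancel] at h4
        have := Int.eq_one_of_dvd_one (by positivity) h4
        exact hp.ne_one (by exact_mod_cast this)
    have hm' := hcmem ⁅a, b⁆ (Subgroup.commutator_mem_commutator (Subgroup.mem_top _)
      (Subgroup.mem_top _))
    rw [hc1, Subgroup.zpowers_one_eq_bot, Subgroup.mem_bot,
      commutatorElement_eq_one_iff_mul_comm] at hm'
    exact hm'
  have hcpow : π c ^ p = 1 := (hπD c hc).2
  have hcen : ∀ a b : X ⧸ Z₀, ⁅a, b⁆ ∈ Subgroup.center (X ⧸ Z₀) ∧ ⁅a, b⁆ ^ N = 1 := by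
    intro a b
    obtain ⟨a, rfl⟩ := QuotientGroup.mk'_surjective Z₀ a
    obtain ⟨b, rfl⟩ := QuotientGroup.mk'_surjective Z₀ b
    have hab' : ⁅a, b⁆ ∈ D :=
      Subgroup.commutator_mem_commutator (Subgroup.mem_top _) (Subgroup.mem_top _)
    rw [← map_commutatorElement]
    constructor
    · have hn : (Subgroup.zpowers (π c)).Normal := by
        refine ⟨fun x hx g => ?_⟩
        obtain ⟨g, rfl⟩ := QuotientGroup.mk'_surjective Z₀ g
        obtain ⟨k, rfl⟩ := Subgroup.mem_zpowers_iff.1 hx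
        rw [← hπ, ← map_zpow, ← map_inv, ← map_mul, ← map_mul]
        exact (hπD _ ((inferInstance : D.Normal).conj_mem _ (D.zpow_mem hc k) g)).1
      exact CfsgLib.PGroups.le_center_of_card_prime (hX.to_quotient Z₀)
        (N := Subgroup.zpowers (π c))
        (by rw [Nat.card_zpowers, orderOf_eq_prime hcpow hcne]) (hπD _ hab').1
    · obtain ⟨r, hr⟩ := dvd_pow_self p hn.ne'
      rw [hN, hr, pow_mul, (hπD _ hab').2, one_pow]
  let f : X →* X ⧸ Z₀ :=
    { toFun := fun x => π x ^ N
      map_one' := by rw [map_one, one_pow]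
      map_mul' := fun x y => by
        rw [map_mul, CfsgLib.PGroups.mul_pow_of_central_odd (hcen _ _).1
          ((hp.odd_of_ne_two hp2).pow) (hcen _ _).2] }
  refine ⟨f.ker, ?_, ?_⟩
  · refine Subgroup.characteristic_iff_map_le.2 fun φ => ?_
    rintro _ ⟨x, hx, rfl⟩
    have hx' : π x ^ N = 1 := hx
    show π (φ x) ^ N = 1
    rw [← map_pow, ← map_pow]
    rw [← map_pow, hπ, QuotientGroup.mk'_apply, QuotientGroup.eq_one_iff] at hx'
    rw [hπ, QuotientGroup.mk'_apply, QuotientGroup.eq_one_iff]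
    exact (Subgroup.characteristic_iff_map_eq.1 hZchar φ).le ⟨_, hx', rfl⟩
  have hrle : f.range ≤ Subgroup.zpowers (π c) := by
    rintro _ ⟨x, rfl⟩
    show π x ^ N ∈ _
    rw [← map_pow]
    exact (hπD _ ((QuotientGroup.eq_one_iff _).1
      ((QuotientGroup.mk_pow D x N).trans (hexpA _)))).1
  have hne : f.range ≠ ⊥ := by
    intro hbot
    have hexpY : ∀ y : X ⧸ Z₀, y ^ N = 1 := fun y => by
      obtain ⟨x, rfl⟩ := QuotientGroup.mk'_surjective Z₀ y
      exact (Subgroup.mem_bot.1 (hbot.le ⟨x, rfl⟩) : π x ^ N = 1)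
    have hle := CfsgLib.Techniques.metacyclic_card_le hm π (QuotientGroup.mk'_surjective Z₀)
      (pow_ne_zero _ hp.ne_zero) hexpY
    have hZD : Z₀ ≤ D := Subgroup.zpowers_le.2 (D.pow_mem hc p)
    have h1 : Z₀.index = Z₀.relIndex D * D.index := (Subgroup.relIndex_mul_index hZD).symm
    rw [← Subgroup.index_eq_card] at hcardA
    rw [← Subgroup.index_eq_card, h1, hcardA] at hle
    have h2 : 2 ≤ Z₀.relIndex D := by
      by_contra h
      have h0 : Z₀.relIndex D ≠ 0 := fun h0 => by
        rw [h0, zero_mul] at h1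
        exact Subgroup.index_ne_zero_of_finite h1
      exact hcne ((QuotientGroup.eq_one_iff c).2
        (Subgroup.relIndex_eq_one.1 (by omega : Z₀.relIndex D = 1) hc))
    have h3 : 0 < N * N := Nat.mul_pos (pow_pos hp.pos _) (pow_pos hp.pos _)
    nlinarith
  rw [Subgroup.index_ker]
  have hdvd : Nat.card f.range ∣ p ^ 1 := by
    rw [pow_one, ← orderOf_eq_prime hcpow hcne, ← Nat.card_zpowers]
    exact Subgroup.card_dvd_of_le hrle
  obtain ⟨t, ht, htc⟩ := (Nat.dvd_prime_pow hp).1 hdvd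
  rcases (show t = 0 ∨ t = 1 by omega) with rfl | rfl
  · exact absurd (Subgroup.card_eq_one.1 (htc.trans (pow_zero p))) hne
  · rw [htc, pow_one]

variable {Ω : Type u} [Group Ω] {S : Subgroup Ω} {F : FusionSystem S} {p : ℕ}

/-- A chain of strongly closed subgroups with cyclic steps up to `U`. -/
def HasCyclicChain (F : FusionSystem S) (U : Subgroup Ω) : Prop :=
  ∃ (m : ℕ) (c : Fin (m + 1) → Subgroup Ω), c 0 = ⊥ ∧ c (Fin.last m) = U ∧
    (∀ i : Fin (m + 1), F.StronglyClosed (c i)) ∧
    ∀ i : Fin m, c i.castSucc ≤ c i.succ ∧ ∃ x ∈ S, c i.succ = c i.castSucc ⊔ Subgroup.zpowers x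

theorem hasCyclicChain_bot : HasCyclicChain F ⊥ :=
  ⟨0, fun _ => ⊥, rfl, rfl, fun _ => stronglyClosed_bot, fun i => i.elim0⟩

theorem HasCyclicChain.snoc {U V : Subgroup Ω} (hU : HasCyclicChain F U) (hV : F.StronglyClosed V)
    (hUV : U ≤ V) {x : Ω} (hx : x ∈ S) (he : V = U ⊔ Subgroup.zpowers x) :
    HasCyclicChain F V := by
  obtain ⟨m, c, h0, hl, hsc, hstep⟩ := hU
  refine ⟨m + 1, Fin.snoc c V, ?_, Fin.snoc_last _ _, fun i => ?_, fun i => ?_⟩
  · rw [show (0 : Fin (m + 1 + 1)) = (0 : Fin (m + 1)).castSucc from rfl, Fin.snoc_castSucc, h0]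
  · induction i using Fin.lastCases with
    | last => rw [Fin.snoc_last]; exact hV
    | cast i => rw [Fin.snoc_castSucc]; exact hsc i
  · induction i using Fin.lastCases with
    | last =>
      rw [Fin.succ_last, Fin.snoc_last, Fin.snoc_castSucc, hl]
      exact ⟨hUV, x, hx, he⟩
    | cast i =>
      rw [← Fin.castSucc_succ, Fin.snoc_castSucc, Fin.snoc_castSucc]
      exact hstep i

/-- Invariance under the automorphisms of `S` in the system. -/
def TopInvariant (F : FusionSystem S) (U : Subgroup Ω) : Prop :=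
  ∀ α ∈ F.autGroup S, ∀ x : S, (x : Ω) ∈ U → ((α x : S) : Ω) ∈ U

theorem stronglyClosed_of_topInvariant (hn : F.IsNormal S) {U : Subgroup Ω} (hU : U ≤ S)
    (h : TopInvariant F U) : F.StronglyClosed U :=
  ⟨hU, fun R hR φ hφ x => by
    obtain ⟨α, hα, hαv⟩ := IsNormal.exists_aut hn (hR.trans hU) hφ
    rw [← hαv x]
    exact h α hα _ (hR x.2)⟩

theorem topInvariant_of_char [Finite S] {U V : Subgroup Ω} (hU : U ≤ S) (hinv : TopInvariant F U)
    (M : Subgroup U) (hM : M.Characteristic) (hV : V = M.map U.subtype) : TopInvariant F V := by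
  subst hV
  have := finite_le hU
  rintro α hα x ⟨u, hu, hux⟩
  let f : U →* U :=
    { toFun := fun w => ⟨((α ⟨w, hU w.2⟩ : S) : Ω), hinv α hα _ w.2⟩
      map_one' := Subtype.ext (by show ((α 1 : S) : Ω) = 1; rw [map_one]; rfl)
      map_mul' := fun v w => Subtype.ext (congrArg (fun s : S => (s : Ω))
        (map_mul α (⟨v, hU v.2⟩ : S) ⟨w, hU w.2⟩) :) }
  have hf : Function.Bijective f := Finite.injective_iff_bijective.1 fun v w h =>
    Subtype.ext (congrArg (fun s : S => (s : Ω)) (α.injective (Subtype.ext (congrArg Subtype.val h :))) :)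
  refine ⟨f u, ?_, ?_⟩
  · exact (Subgroup.characteristic_iff_map_eq.1 hM (MulEquiv.ofBijective f hf)).le ⟨u, hu, rfl⟩
  · show ((α ⟨u, hU u.2⟩ : S) : Ω) = α x
    rw [show (⟨u, hU u.2⟩ : S) = x from Subtype.ext hux]

theorem hasCyclicChain_of_cyclic (hn : F.IsNormal S) {U : Subgroup Ω} (hU : U ≤ S)
    (hinv : TopInvariant F U) (hc : IsCyclic U) : HasCyclicChain F U := by
  obtain ⟨⟨x, hx⟩, hgen⟩ := hc.exists_generator
  refine hasCyclicChain_bot.snoc (stronglyClosed_of_topInvariant hn hU hinv) bot_le (hU hx) ?_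
  rw [bot_sup_eq]
  refine le_antisymm (fun u hu => ?_) (Subgroup.zpowers_le.2 hx)
  obtain ⟨k, hk⟩ := Subgroup.mem_zpowers_iff.1 (hgen ⟨u, hu⟩)
  exact Subgroup.mem_zpowers_iff.2 ⟨k, congrArg Subtype.val hk⟩

theorem hasCyclicChain_of_invariant_line [Fact p.Prime] [Finite S] (hS : IsPGroup p S)
    (hn : F.IsNormal S) : ∀ (k : ℕ) (U : Subgroup Ω), U ≤ S → Nat.card U ≤ k →
      TopInvariant F U → Cfsg.IsMetacyclic U →
      (IsCyclic U ∨ ∃ V ≤ U, TopInvariant F V ∧ V.relIndex U = p) → HasCyclicChain F U := by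
  intro k
  induction k with
  | zero =>
    intro U hU hk
    have := finite_le hU
    exact absurd hk Nat.card_pos.not_ge
  | succ k ih =>
    intro U hU hk hinv hm h
    rcases h with hc | ⟨V, hVU, hVinv, hVi⟩
    · exact hasCyclicChain_of_cyclic hn hU hinv hc
    by_cases hc : IsCyclic U
    · exact hasCyclicChain_of_cyclic hn hU hinv hc
    have hp : p.Prime := Fact.out
    have := finite_le hU
    have hVS := hVU.trans hU
    have := finite_le hVS
    have hVm : Cfsg.IsMetacyclic V :=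
      isMetacyclic_of_injective hm (Subgroup.inclusion hVU) (Subgroup.inclusion_injective hVU)
    have hcardV : Nat.card V * p = Nat.card U := by
      rw [← hVi, ← Nat.card_congr (Subgroup.subgroupOfEquivOfLe hVU).toEquiv]
      exact (V.subgroupOf U).card_mul_index
    -- the Frattini subgroup of `U` inside `V`
    set Φ := (frattini U).map U.subtype with hΦ
    have hV' : (V.subgroupOf U).index = p := hVi
    have hcoatom : IsCoatom (V.subgroupOf U) := by
      refine ⟨fun h => hp.ne_one (by rw [← hV', h, Subgroup.index_top]), fun W hW => ?_⟩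
      have hd := Subgroup.index_dvd_of_le hW.le
      rw [hV'] at hd
      rcases hp.eq_one_or_self_of_dvd _ hd with h1 | h1
      · exact Subgroup.index_eq_one.1 h1
      · exfalso
        refine hW.ne (Subgroup.eq_of_le_of_card_ge hW.le ?_)
        refine Nat.le_of_mul_le_mul_right (c := p) ?_ hp.pos
        rw [show Nat.card W * p = Nat.card U by rw [← h1, W.card_mul_index],
          show Nat.card (V.subgroupOf U) * p = Nat.card U by
            rw [← hV', (V.subgroupOf U).card_mul_index]]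
    have hΦV : Φ ≤ V := by
      rintro _ ⟨u, hu, rfl⟩
      exact (frattini_le_coatom hcoatom) hu
    have hUp : IsPGroup p U := hS.to_le hU
    have hidx : (frattini U).index = p * p := by
      obtain ⟨r, hr⟩ : ∃ r, Nat.card (U ⧸ frattini U) = p ^ r :=
        IsPGroup.iff_card.1 (hUp.to_quotient _)
      have hle : Nat.card (U ⧸ frattini U) ≤ p * p := CfsgLib.Techniques.metacyclic_card_le hm
        (QuotientGroup.mk' _) (QuotientGroup.mk'_surjective _) hp.ne_zero fun v => by
          induction v using QuotientGroup.induction_on with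
          | _ v =>
            rw [← QuotientGroup.mk_pow, QuotientGroup.eq_one_iff]
            exact CfsgLib.PGroups.pow_mem_frattini hUp v
      rw [hr, ← pow_two] at hle
      have hr2 : r ≤ 2 := (Nat.pow_le_pow_iff_right hp.one_lt).1 hle
      have hgt : ¬ (frattini U).index ≤ p := fun h =>
        hc (CfsgLib.PGroups.isCyclic_of_index_frattini_le hUp h)
      rw [Subgroup.index_eq_card, hr] at hgt ⊢
      rcases (show r = 0 ∨ r = 1 ∨ r = 2 by omega) with rfl | rfl | rfl
      · exact absurd (by simpa using hp.one_le) hgt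
      · exact absurd (by simp) hgt
      · rw [pow_two]
    have hΦi : Φ.relIndex V = p := by
      have h1 := Subgroup.relIndex_mul_relIndex Φ V U hΦV hVU
      have h2 : Φ.relIndex U = p * p := by
        rw [← hidx]
        show (Φ.subgroupOf U).index = _
        rw [hΦ, Subgroup.subgroupOf, Subgroup.comap_map_eq_self_of_injective U.subtype_injective]
      rw [h2, hVi] at h1
      exact Nat.eq_of_mul_eq_mul_right hp.pos h1
    have hVk : Nat.card V ≤ k := by
      have : Nat.card V * 2 ≤ Nat.card U := hcardV ▸ Nat.mul_le_mul_left _ hp.two_le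
      have := (Nat.card_pos : 0 < Nat.card V)
      omega
    have hchain := ih V hVS hVk hVinv hVm
      (Or.inr ⟨Φ, hΦV, topInvariant_of_char hU hinv _ inferInstance hΦ, hΦi⟩)
    obtain ⟨x, hx, hxV⟩ : ∃ x ∈ U, x ∉ V := by
      by_contra h
      push Not at h
      rw [Subgroup.relIndex_eq_one.2 h] at hVi
      exact hp.ne_one hVi.symm
    refine hchain.snoc (stronglyClosed_of_topInvariant hn hU hinv) hVU (hU hx) ?_
    refine le_antisymm (fun u hu => ?_) (sup_le hVU (Subgroup.zpowers_le.2 hx))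
    have htop : (V.subgroupOf U) ⊔ Subgroup.zpowers (⟨x, hx⟩ : U) = ⊤ :=
      hcoatom.2 _ (left_lt_sup.2 fun hle => hxV (hle (Subgroup.mem_zpowers _)))
    have hle : (⊤ : Subgroup U) ≤ (V ⊔ Subgroup.zpowers x).subgroupOf U := by
      rw [← htop]
      exact sup_le (fun w hw => Subgroup.mem_sup_left hw)
        (Subgroup.zpowers_le.2 (Subgroup.mem_sup_right (Subgroup.mem_zpowers x)))
    exact hle (Subgroup.mem_top (⟨u, hu⟩ : U))

/-- The systems over a metacyclic group outside the list have chains with cyclic steps. -/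
theorem hasCyclicChain_of_metacyclic [Fact p.Prime] [Finite S] (hS : IsPGroup p S)
    (hF : F.IsSaturated p) (hm : Cfsg.IsMetacyclic S)
    (hh : ¬ ∃ n : ℕ, 0 < n ∧
      Nonempty (S ≃* Multiplicative (ZMod (p ^ n)) × Multiplicative (ZMod (p ^ n))))
    (h2 : p = 2 → ¬ ((∃ n : ℕ, 2 ≤ n ∧ Nonempty (S ≃* DihedralGroup n)) ∨
      Cfsg.IsQuasiDihedral S ∨ (∃ n : ℕ, 2 ≤ n ∧ Nonempty (S ≃* QuaternionGroup n)))) :
    HasCyclicChain F S := by
  have hinv : TopInvariant F S := fun α _ x _ => (α x).2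
  by_cases hc : IsCyclic S
  · exact hasCyclicChain_of_cyclic (isNormal_of_stronglyClosed_abelian hS hF stronglyClosed_top
      (IsCyclic.commutative)) le_rfl hinv hc
  by_cases hp2 : p = 2
  · subst hp2
    have hlist : ¬ IsSmallList S := by
      rintro (⟨m, ⟨e⟩⟩ | ⟨m, ⟨e⟩⟩ | h)
      · refine h2 rfl (Or.inl ⟨m, ?_, ⟨e⟩⟩)
        by_contra hm2
        have hfin : Finite (DihedralGroup m) := Finite.of_equiv _ e.toEquiv
        rcases (show m = 0 ∨ m = 1 by omega) with rfl | rfl
        · exact not_finite (DihedralGroup 0)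
        · exact hc (e.isCyclic.2 (isCyclic_of_prime_card (p := 2) DihedralGroup.nat_card))
      · refine h2 rfl (Or.inr (Or.inr ⟨m, ?_, ⟨e⟩⟩))
        by_contra hm2
        have hfin : Finite (QuaternionGroup m) := Finite.of_equiv _ e.toEquiv
        rcases (show m = 0 ∨ m = 1 by omega) with rfl | rfl
        · have : Infinite (ZMod (2 * 0)) := inferInstanceAs (Infinite ℤ)
          have := Infinite.of_injective (QuaternionGroup.a : ZMod (2 * 0) → QuaternionGroup 0)
            fun a b h => QuaternionGroup.a.inj h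
          exact not_finite (QuaternionGroup 0)
        · exact hc (e.isCyclic.2 QuaternionGroup.quaternionGroup_one_isCyclic)
      · exact h2 rfl (Or.inr (Or.inl h))
    have hAut : IsPGroup 2 (MulAut S) := by
      by_contra hA
      rcases CfsgLib.Techniques.metacyclic_two_aut hS hm hA with h | ⟨n, h⟩
      · exact hlist (Or.inr (Or.inl ⟨2, h⟩))
      · rcases Nat.eq_zero_or_pos n with rfl | hn
        · obtain ⟨e⟩ := h
          have : Subsingleton (Multiplicative (ZMod (2 ^ 0))) :=
            inferInstanceAs (Subsingleton (ZMod 1))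
          have : Subsingleton S := e.toEquiv.subsingleton
          exact hc inferInstance
        · exact hh ⟨n, hn, h⟩
    have hinner := metacyclic_two_inner hS hF hm hlist hAut
    have hn := metacyclic_two_stronglyClosed_normal hS hF stronglyClosed_top hm hlist
    obtain ⟨N, hN, hNc, hQc⟩ := hm
    set V := N.map S.subtype with hV
    have hVS : V ≤ S := Subgroup.map_subtype_le N
    have hVinv : TopInvariant F V := by
      intro α hα x hx
      have hα' := (mem_autGroup_iff le_rfl).1 hα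
      rw [hinner] at hα'
      obtain ⟨-, g, hg, hgx⟩ := hα'
      obtain ⟨u, hu, hux⟩ := hx
      have hx' : x ∈ N := (Subtype.ext hux : u = x) ▸ hu
      refine ⟨_, hN.conj_mem x hx' ⟨g, hg⟩, ?_⟩
      exact (hgx x).symm
    have hVc : IsCyclic V :=
      (Subgroup.equivMapOfInjective N S.subtype S.subtype_injective).isCyclic.1 hNc
    obtain ⟨q, hq⟩ := hQc.exists_generator
    obtain ⟨b, rfl⟩ := QuotientGroup.mk_surjective q
    refine (hasCyclicChain_of_cyclic hn hVS hVinv hVc).snoc stronglyClosed_top hVS b.2 ?_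
    refine le_antisymm (fun s hs => ?_) (sup_le hVS (Subgroup.zpowers_le.2 b.2))
    obtain ⟨k, hk⟩ := Subgroup.mem_zpowers_iff.1 (hq (QuotientGroup.mk ⟨s, hs⟩))
    rw [← QuotientGroup.mk_zpow, QuotientGroup.eq] at hk
    have hsv : s = (b : Ω) ^ k * (((b ^ k)⁻¹ * ⟨s, hs⟩ : S) : Ω) := by simp
    rw [hsv]
    exact Subgroup.mul_mem _ (Subgroup.mem_sup_right (Subgroup.zpow_mem_zpowers _ k))
      (Subgroup.mem_sup_left ⟨_, hk, rfl⟩)
  have hn := metacyclic_stronglyClosed_normal hp2 _ rfl hS hF S stronglyClosed_top hm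
  obtain ⟨M, hMc, hMi⟩ := exists_char_index_p hp2 hS hm hc hh
  refine hasCyclicChain_of_invariant_line hS hn _ S le_rfl le_rfl hinv hm
    (Or.inr ⟨M.map S.subtype, Subgroup.map_subtype_le M,
      topInvariant_of_char le_rfl hinv M hMc rfl, ?_⟩)
  show ((M.map S.subtype).subgroupOf S).index = p
  rw [Subgroup.subgroupOf, Subgroup.comap_map_eq_self_of_injective S.subtype_injective]
  exact hMi

end CfsgLib.Fusion
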