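import Cfsg.Agent.Lib.Fusion.HomocyclicExample
import Cfsg.Agent.Lib.Fusion.SupersolubleChain
import Mathlib.GroupTheory.FiniteAbelian.Basic

/-!
Systems over abelian groups: chains with cyclic steps and repeated invariants.
-/

set_option autoImplicit false

namespace CfsgLib.Fusion

open Cfsg Cfsg.FusionSystem

universe u

section Cyclic

variable {C : Type*} [CommGroup C] [Finite C] {p : ℕ} [Fact p.Prime]

/-- In a cyclic `p`-group of order more than `p ^ j` the elements of order `p` are powers. -/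
theorem exists_pow_eq_of_pow_prime (hC : IsCyclic C) {a j : ℕ} (hcard : Nat.card C = p ^ a)
    (hj : j < a) {y : C} (hy : y ^ p = 1) : ∃ z : C, z ^ p ^ j = y := by
  obtain ⟨g, hg⟩ := hC.exists_generator
  obtain ⟨m, rfl⟩ := Subgroup.mem_zpowers_iff.1 (hg y)
  have hp : p.Prime := Fact.out
  have hord : orderOf g = p ^ a := by rw [orderOf_eq_card_of_forall_mem_zpowers hg, hcard]
  rw [← zpow_natCast, ← zpow_mul, ← orderOf_dvd_iff_zpow_eq_one, hord] at hy
  have h1 : ((p ^ j : ℕ) : ℤ) * p ∣ m * p := by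
    refine dvd_trans ?_ hy
    rw [← Nat.cast_mul, ← pow_succ]
    exact_mod_cast Nat.pow_dvd_pow p hj
  obtain ⟨t, rfl⟩ := (mul_dvd_mul_iff_right (by exact_mod_cast hp.ne_zero)).1 h1
  exact ⟨g ^ t, by rw [← zpow_natCast, ← zpow_mul, mul_comm]⟩

/-- In a cyclic group the elements of order `p` generate each other. -/
theorem mem_zpowers_of_pow_prime (hC : IsCyclic C) {x y : C} (hx : x ≠ 1) (hxp : x ^ p = 1)
    (hyp : y ^ p = 1) : y ∈ Subgroup.zpowers x := by
  by_contra hy
  exact not_isCyclic_of_pair (p := p) hyp hxp hx hy hC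

end Cyclic

section Layer

variable {G : Type*} [CommGroup G] [Finite G] {p : ℕ} [Fact p.Prime]

/-- The elements whose `p ^ k`-th power has order at most `p` and is a `p ^ j`-th power. -/
def powerLayer (G : Type*) [CommGroup G] (p k j : ℕ) : Subgroup G :=
  ((powMonoidHom p : G →* G).ker ⊓ (powMonoidHom (p ^ j) : G →* G).range).comap
    (powMonoidHom (p ^ k))

theorem mem_powerLayer {k j : ℕ} {x : G} :
    x ∈ powerLayer G p k j ↔ (x ^ p ^ k) ^ p = 1 ∧ ∃ w : G, w ^ p ^ j = x ^ p ^ k :=
  Iff.rfl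

instance powerLayer_characteristic {k j : ℕ} : (powerLayer G p k j).Characteristic := by
  refine Subgroup.characteristic_iff_le_comap.2 fun f x hx => ?_
  obtain ⟨h1, w, hw⟩ := mem_powerLayer.1 hx
  refine mem_powerLayer.2 ⟨?_, f w, ?_⟩
  · show (f x ^ p ^ k) ^ p = 1
    rw [← map_pow, ← map_pow, h1, map_one]
  · show f w ^ p ^ j = f x ^ p ^ k
    rw [← map_pow, hw, map_pow]

/-- Either a group has two equal invariants or its layers are cyclic. -/
theorem layer_or_repeated (hG : IsPGroup p G) :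
    (∃ (n : ℕ) (H : Type) (_ : CommGroup H), 0 < n ∧ Nonempty (G ≃*
      (Multiplicative (ZMod (p ^ n)) × Multiplicative (ZMod (p ^ n))) × H)) ∨
    ∀ (j : ℕ) (u v : G), u ^ p = 1 → (∃ w, w ^ p ^ j = u) → (¬ ∃ w, w ^ p ^ (j + 1) = u) →
      v ^ p = 1 → (∃ w, w ^ p ^ j = v) → ∃ (i : ℤ) (w : G), w ^ p ^ (j + 1) = v * u ^ i := by
  classical
  have hp : p.Prime := Fact.out
  obtain ⟨ι, hι, n, hn, ⟨e⟩⟩ := CommGroup.equiv_prod_multiplicative_zmod_of_finite G
  have hnp : ∀ k, ∃ a, 0 < a ∧ n k = p ^ a := by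
    intro k
    have : NeZero (n k) := ⟨(Nat.lt_trans Nat.one_pos (hn k)).ne'⟩
    have hk : IsPGroup p (Multiplicative (ZMod (n k))) :=
      hG.of_surjective ((Pi.evalMonoidHom _ k).comp e.toMonoidHom) fun y =>
        ⟨e.symm (Pi.mulSingle k y), by simp⟩
    obtain ⟨a, ha⟩ := IsPGroup.iff_card.1 hk
    rw [Nat.card_congr Multiplicative.toAdd, Nat.card_zmod] at ha
    exact ⟨a, Nat.pos_of_ne_zero fun h => by have := hn k; rw [ha, h, pow_zero] at this; omega, ha⟩
  choose a ha0 ha using hnp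
  by_cases hinj : Function.Injective a
  · right
    intro j u v hu ⟨wu, hwu⟩ hnot hv ⟨wv, hwv⟩
    have hfin : ∀ k, Finite (Multiplicative (ZMod (n k))) := fun k =>
      have : NeZero (n k) := ⟨(Nat.lt_trans Nat.one_pos (hn k)).ne'⟩
      inferInstance
    have hcard : ∀ k, Nat.card (Multiplicative (ZMod (n k))) = p ^ a k := fun k => by
      rw [Nat.card_congr Multiplicative.toAdd, Nat.card_zmod, ha]
    have hcoord : ∀ (x w : G), x ^ p = 1 → w ^ p ^ j = x → ∀ k, a k ≠ j + 1 →
        ∃ z, z ^ p ^ (j + 1) = e x k := by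
      intro x w hx hw k hk
      rcases Nat.lt_or_ge (j + 1) (a k) with h | h
      · have := hfin k
        exact exists_pow_eq_of_pow_prime inferInstance (hcard k) h
          (by rw [← Pi.pow_apply, ← map_pow, hx, map_one]; rfl)
      · refine ⟨1, ?_⟩
        have h1 : e w k ^ p ^ j = 1 := orderOf_dvd_iff_pow_eq_one.1
          ((orderOf_dvd_natCard _).trans (hcard k ▸ Nat.pow_dvd_pow p (by omega)))
        rw [one_pow, ← hw, map_pow, Pi.pow_apply, h1]
    have hglue : ∀ x w : G, x ^ p = 1 → w ^ p ^ j = x → (∀ k, a k = j + 1 → e x k = 1) →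
        ∃ w', w' ^ p ^ (j + 1) = x := by
      intro x w hx hw h1
      have : ∀ k, ∃ z, z ^ p ^ (j + 1) = e x k := fun k => by
        by_cases hk : a k = j + 1
        · exact ⟨1, by rw [one_pow, h1 k hk]⟩
        · exact hcoord x w hx hw k hk
      choose z hz using this
      exact ⟨e.symm z, e.injective (by rw [map_pow, e.apply_symm_apply]; exact funext hz)⟩
    obtain ⟨k, hk, huk⟩ : ∃ k, a k = j + 1 ∧ e u k ≠ 1 := by
      by_contra h
      push Not at h
      exact hnot (hglue u wu hu hwu h)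
    have := hfin k
    obtain ⟨i, hi⟩ := Subgroup.mem_zpowers_iff.1 (mem_zpowers_of_pow_prime (p := p) inferInstance
      huk (by rw [← Pi.pow_apply, ← map_pow, hu, map_one]; rfl)
      (by rw [← Pi.pow_apply, ← map_pow, hv, map_one]; rfl : (e v k) ^ p = 1))
    refine ⟨-i, hglue _ (wv * wu ^ (-i)) ?_ ?_ fun l hl => ?_⟩
    · rw [mul_pow, hv, one_mul, ← zpow_natCast, ← zpow_mul, mul_comm, zpow_mul, zpow_natCast, hu,
        one_zpow]
    · rw [mul_pow, hwv, ← zpow_natCast, ← zpow_mul, mul_comm (-i), zpow_mul, zpow_natCast, hwu]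
    · obtain rfl : l = k := hinj (hl.trans hk.symm)
      rw [map_mul, Pi.mul_apply, map_zpow, Pi.pow_apply, zpow_neg, hi, mul_inv_cancel]
  · left
    obtain ⟨i, i', hii, hne⟩ : ∃ i i', a i = a i' ∧ i ≠ i' := by
      simpa [Function.Injective] using hinj
    let e1 : ((k : ι) → Multiplicative (ZMod (n k))) ≃*
        Multiplicative (ZMod (n i)) × ((k : {k // k ≠ i}) → Multiplicative (ZMod (n k))) :=
      { Equiv.piSplitAt i _ with map_mul' := fun _ _ => rfl }
    let e2 : ((k : {k // k ≠ i}) → Multiplicative (ZMod (n k))) ≃*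
        Multiplicative (ZMod (n i')) ×
          ((k : {k : {k // k ≠ i} // k ≠ ⟨i', hne.symm⟩}) → Multiplicative (ZMod (n k.1))) :=
      { Equiv.piSplitAt (⟨i', hne.symm⟩ : {k // k ≠ i}) _ with map_mul' := fun _ _ => rfl }
    have hi : n i = p ^ a i := ha i
    have hi' : n i' = p ^ a i := by rw [ha i', hii]
    let c1 : Multiplicative (ZMod (n i)) ≃* Multiplicative (ZMod (p ^ a i)) := hi ▸ MulEquiv.refl _
    let c2 : Multiplicative (ZMod (n i')) ≃* Multiplicative (ZMod (p ^ a i)) := hi' ▸ MulEquiv.refl _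
    exact ⟨a i, _, inferInstance, ha0 i, ⟨((e.trans e1).trans
      (MulEquiv.prodCongr c1 (e2.trans (MulEquiv.prodCongr c2 (MulEquiv.refl _))))).trans
        MulEquiv.prodAssoc.symm⟩⟩

end Layer

/-- Without repeated invariants all systems have chains with cyclic steps. -/
theorem hasCyclicChain_of_distinct {Ω : Type u} [Group Ω] {S : Subgroup Ω} [Finite S] {p : ℕ}
    [Fact p.Prime] (hS : IsPGroup p S) [hab : IsMulCommutative S] {F : FusionSystem S}
    (hF : F.IsSaturated p)
    (h : ¬ ∃ (n : ℕ) (H : Type) (_ : CommGroup H), 0 < n ∧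
      Nonempty (S ≃* (Multiplicative (ZMod (p ^ n)) × Multiplicative (ZMod (p ^ n))) × H)) :
    HasCyclicChain F S := by
  have hn : F.IsNormal S :=
    isNormal_of_stronglyClosed_abelian hS hF stronglyClosed_top hab
  letI : CommGroup S := { (inferInstance : Group S) with mul_comm := hab.is_comm.comm }
  have hlayer := (layer_or_repeated hS).resolve_left h
  have hp : p.Prime := Fact.out
  obtain ⟨N, hN⟩ := IsPGroup.iff_card.1 hS
  have hkill : ∀ x : S, x ^ p ^ N = 1 := fun x => by rw [← hN]; exact pow_card_eq_one'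
  let f : Subgroup S → Subgroup Ω := fun V => V.map S.subtype
  have hclosed : ∀ V : Subgroup S, V.Characteristic → F.StronglyClosed (f V) := fun V hV =>
    stronglyClosed_of_topInvariant hn (Subgroup.map_subtype_le V)
      (topInvariant_of_char le_rfl (fun α _ x _ => (α x).2) V hV rfl)
  suffices hk : ∀ k, ∀ V : Subgroup S, (∀ x, x ∈ V ↔ x ^ p ^ k = 1) → HasCyclicChain F (f V) by
    have := hk N ⊤ fun x => ⟨fun _ => hkill x, fun _ => Subgroup.mem_top x⟩
    simpa [f, ← MonoidHom.range_eq_map] using this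
  intro k
  induction k with
  | zero =>
    intro V hV
    have : V = ⊥ := (Subgroup.eq_bot_iff_forall _).2 fun x hx => by simpa using (hV x).1 hx
    simpa [f, this] using hasCyclicChain_bot
  | succ k ih =>
    intro V hV
    suffices hd : ∀ d j, j + d = N → HasCyclicChain F (f (powerLayer S p k j)) by
      have hV0 : V = powerLayer S p k 0 := by
        ext x
        rw [hV, mem_powerLayer, ← pow_mul, ← pow_succ]
        exact ⟨fun hx => ⟨hx, x ^ p ^ k, by rw [pow_zero, pow_one]⟩, fun hx => hx.1⟩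
      exact hV0 ▸ hd N 0 (zero_add N)
    intro d
    induction d with
    | zero =>
      intro j hj
      refine ih _ fun x => ?_
      rw [add_zero] at hj
      rw [mem_powerLayer, hj]
      refine ⟨fun ⟨_, w, hw⟩ => by rw [← hw, hkill], fun hx => ⟨by rw [hx, one_pow], 1, ?_⟩⟩
      rw [one_pow, hx]
    | succ d ihd =>
      intro j hj
      have hprev := ihd (j + 1) (by omega)
      set U := powerLayer S p k (j + 1) with hU
      have hUV : U ≤ powerLayer S p k j := fun x hx => by
        obtain ⟨h1, w, hw⟩ := mem_powerLayer.1 hx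
        exact mem_powerLayer.2 ⟨h1, w ^ p, by rw [← pow_mul, ← pow_succ', hw]⟩
      by_cases heq : powerLayer S p k j ≤ U
      · rw [le_antisymm heq hUV]; exact hprev
      obtain ⟨x, hx, hxU⟩ := SetLike.not_le_iff_exists.1 heq
      obtain ⟨hx1, hx2⟩ := mem_powerLayer.1 hx
      refine hprev.snoc (hclosed _ inferInstance) (Subgroup.map_mono hUV) x.2 (le_antisymm ?_ ?_)
      · rintro _ ⟨y, hy, rfl⟩
        obtain ⟨hy1, hy2⟩ := mem_powerLayer.1 hy
        obtain ⟨i, hi⟩ := hlayer j _ _ hx1 hx2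
          (fun hw => hxU (mem_powerLayer.2 ⟨hx1, hw⟩)) hy1 hy2
        have hyx : y * x ^ i ∈ U := by
          refine mem_powerLayer.2 ⟨?_, ?_⟩
          · exact ((powerLayer S p k j).mul_mem hy ((powerLayer S p k j).zpow_mem hx i)).1
          · obtain ⟨w, hw⟩ := hi
            refine ⟨w, ?_⟩
            rw [hw, mul_pow, ← zpow_natCast (x ^ i), ← zpow_mul, mul_comm i, zpow_mul, zpow_natCast]
        have : (y : Ω) = ((y * x ^ i : S) : Ω) * ((x : Ω) ^ i)⁻¹ := by simp
        rw [Subgroup.coe_subtype, this]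
        exact Subgroup.mul_mem_sup ⟨_, hyx, rfl⟩
          ((Subgroup.zpowers (x : Ω)).inv_mem (Subgroup.zpow_mem_zpowers _ i))
      · exact sup_le (Subgroup.map_mono hUV) (Subgroup.zpowers_le.2 ⟨x, hx, rfl⟩)

/-- The automorphisms of the second factor fixed. -/
def extendAut (A B : Type*) [Group A] [Group B] : MulAut A →* MulAut (A × B) where
  toFun α := MulEquiv.prodCongr α (MulEquiv.refl B)
  map_one' := rfl
  map_mul' _ _ := rfl

/-- Two equal invariants give a system without a chain with cyclic steps. -/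
theorem exists_no_chain_repeated {Ω : Type*} [Group Ω] {S : Subgroup Ω} [Finite S] {p n : ℕ}
    [hp : Fact p.Prime] (hS : IsPGroup p S) (hn : 0 < n) {H : Type} [CommGroup H]
    (e : S ≃* RankTwoGroup (p ^ n) × H) :
    ∃ F : FusionSystem S, F.IsSaturated p ∧ ¬ HasCyclicChain F S := by
  set N := p ^ n with hN
  haveI : NeZero N := ⟨pow_ne_zero _ hp.out.ne_zero⟩
  obtain ⟨A, hA, hirr⟩ := exists_irreducible_auts (p := p) (n := n)
  haveI : Finite (RankTwoGroup N × H) := Finite.of_equiv _ e.toEquiv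
  obtain ⟨r, hr⟩ := IsPGroup.iff_card.1 hS
  have hcardV : Nat.card (RankTwoGroup N × H) = p ^ r := by rw [← hr, Nat.card_congr e.toEquiv]
  haveI : Finite (MulAut (RankTwoGroup N)) :=
    Finite.of_injective (fun f => (f : RankTwoGroup N → RankTwoGroup N)) DFunLike.coe_injective
  set Φ := (extendAut (RankTwoGroup N) H).comp A.subtype with hΦ
  haveI : Finite ((RankTwoGroup N × H) ⋊[Φ] A) :=
    Finite.of_equiv _ SemidirectProduct.equivProd.symm
  set inl : RankTwoGroup N × H →* (RankTwoGroup N × H) ⋊[Φ] A := SemidirectProduct.inl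
  have hcardR : Nat.card inl.range = p ^ r := by
    rw [← hcardV]
    exact Nat.card_congr (MonoidHom.ofInjective SemidirectProduct.inl_injective).toEquiv.symm
  set T : Sylow p ((RankTwoGroup N × H) ⋊[Φ] A) := Sylow.ofCard inl.range (by
    rw [hcardR, SemidirectProduct.card, hcardV, Nat.factorization_mul (pow_ne_zero _ hp.out.ne_zero)
      Nat.card_pos.ne', Finsupp.add_apply, Nat.factorization_pow_self hp.out,
      Nat.factorization_eq_zero_of_not_dvd hA, add_zero]) with hT
  have hTr : (T : Subgroup _) = inl.range := rfl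
  let eT : S ≃* (T : Subgroup ((RankTwoGroup N × H) ⋊[Φ] A)) :=
    e.trans ((MonoidHom.ofInjective SemidirectProduct.inl_injective).trans
      (MulEquiv.subgroupCongr hTr.symm))
  set z : Multiplicative (ZMod N) := Multiplicative.ofAdd ((p ^ (n - 1) : ℕ) : ZMod N) with hz
  have hzp : z ^ p = 1 := by
    rw [hz, ← ofAdd_nsmul, nsmul_eq_mul, ← Nat.cast_mul, ← pow_succ',
      Nat.sub_add_cancel hn, ← hN, ZMod.natCast_self]
    rfl
  have hz1 : z ≠ 1 := fun h => by
    have h' : ((p ^ (n - 1) : ℕ) : ZMod N) = 0 := congrArg Multiplicative.toAdd h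
    rw [ZMod.natCast_eq_zero_iff, hN, Nat.pow_dvd_pow_iff_le_right hp.out.one_lt] at h'
    omega
  let j : RankTwoGroup N →* (RankTwoGroup N × H) ⋊[Φ] A := inl.comp (MonoidHom.inl _ H)
  have hj : Function.Injective j :=
    SemidirectProduct.inl_injective.comp (fun a b h => congrArg Prod.fst h)
  let X : Set ((RankTwoGroup N × H) ⋊[Φ] A) := j '' {v | v ^ p = 1 ∧ v ≠ 1}
  refine exists_system_no_chain T eT X (Subgroup.closure X) ?_ ?_ ?_ le_rfl ?_ ?_
  · rintro _ ⟨v, -, rfl⟩
    exact hTr ▸ ⟨_, rfl⟩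
  · exact ⟨j (z, 1), (z, 1), ⟨by simp [hzp], fun h => hz1 (congrArg Prod.fst h)⟩, rfl⟩
  · rintro ⟨v, hv, hv1⟩
    exact hv.2 (hj (hv1.trans (map_one j).symm))
  · rintro U hU hclosed ⟨_, ⟨v, hv, rfl⟩, hvU⟩ _ ⟨w, hw, rfl⟩
    refine hirr (U.comap j) (fun α hα u hu => ?_) ⟨v, hvU, hv.2, hv.1⟩ w hw.1
    have := hclosed _ hu (SemidirectProduct.inr ⟨α, hα⟩) (by
      show _ * inl (u, 1) * _ ∈ _
      rw [← map_inv, ← SemidirectProduct.inl_aut]
      exact hTr ▸ ⟨_, rfl⟩)
    change _ * inl (u, 1) * _ ∈ _ at this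
    rw [← map_inv, ← SemidirectProduct.inl_aut] at this
    exact this
  · intro U hUT hn' hX y hy
    refine not_le_sup_zpowers_of_disjoint hUT hn' hy (fun q hq hqU => ?_) ?_
    · by_contra hq1
      have hle : Subgroup.closure X ≤
          ((MonoidHom.ker (powMonoidHom p : RankTwoGroup N →* RankTwoGroup N)).map j) := by
        rw [Subgroup.closure_le]
        rintro _ ⟨v, hv, rfl⟩
        exact ⟨v, hv.1, rfl⟩
      obtain ⟨v, hv, rfl⟩ := hle hq
      exact hX _ ⟨v, ⟨hv, fun h => hq1 (by rw [h, map_one])⟩, rfl⟩ hqU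
    · have hmem : ∀ v : RankTwoGroup N, v ^ p = 1 → j v ∈ Subgroup.closure X := fun v hv => by
        by_cases h1 : v = 1
        · rw [h1, map_one]; exact one_mem _
        · exact Subgroup.subset_closure ⟨v, ⟨hv, h1⟩, rfl⟩
      refine not_isCyclic_of_pair (p := p) (u := ⟨_, hmem (z, 1) (by simp [hzp])⟩)
        (v := ⟨_, hmem (1, z) (by simp [hzp])⟩) ?_ ?_ ?_ ?_
      · exact Subtype.ext (by
          show j (z, 1) ^ p = 1
          rw [← map_pow, show ((z, 1) : RankTwoGroup N) ^ p = 1 by simp [hzp], map_one])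
      · exact Subtype.ext (by
          show j (1, z) ^ p = 1
          rw [← map_pow, show ((1, z) : RankTwoGroup N) ^ p = 1 by simp [hzp], map_one])
      · intro h
        have h' : j ((1 : Multiplicative (ZMod N)), z) = j 1 :=
          (congrArg Subtype.val h).trans (map_one j).symm
        exact hz1 (congrArg Prod.snd (hj h'))
      · intro h
        obtain ⟨k, hk⟩ := Subgroup.mem_zpowers_iff.1 h
        have h' : j (((1 : Multiplicative (ZMod N)), z) ^ k) = j (z, 1) := by
          rw [map_zpow]; exact congrArg Subtype.val hk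
        have h'' := congrArg Prod.fst (hj h')
        simp at h''
        exact hz1 h''.symm

end CfsgLib.Fusion
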