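import Mathlib.GroupTheory.OrderOfElement
import Mathlib.Data.ZMod.Basic
import Mathlib.Tactic.Abel
import Mathlib.Tactic.Push
import Mathlib.Tactic.Positivity
import Mathlib.Algebra.Ring.Parity
import Mathlib.Algebra.Group.End

/-!
# Automorphisms of abelian `2`-groups with distinct invariants
-/

set_option autoImplicit false

namespace CfsgLib.Fusion

theorem fixed_of_shift_two_torsion {A : Type*} [AddCommGroup A] (β : A ≃+ A) {m : ℕ}
    (hm : Odd m) (hβ : ∀ x, β^[m] x = x) {x : A} (hd : β (β x - x) = β x - x)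
    (h2 : (β x - x) + (β x - x) = 0) : β x = x := by
  set d := β x - x
  have hit : ∀ j : ℕ, β^[j] x = x + j • d := by
    intro j
    induction j with
    | zero => simp
    | succ j ih =>
      rw [Function.iterate_succ_apply', ih, map_add, map_nsmul, hd,
        show β x = x + d from (add_sub_cancel x (β x)).symm, succ_nsmul']
      abel
  have h := hit m
  have hmd : m • d = 0 := by rw [hβ] at h; exact (add_eq_left.1 h.symm)
  obtain ⟨q, rfl⟩ := hm
  rw [add_nsmul, one_nsmul, mul_nsmul, two_nsmul, h2, nsmul_zero, zero_add] at hmd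
  exact sub_eq_zero.1 hmd

/-- The elements of order at most `2` in `∏ ZMod (2 ^ a i)` that are `2 ^ k`-th multiples. -/
theorem aut_pi_zmod_eq_id {n : ℕ} (a : Fin n → ℕ) (ha : Function.Injective a)
    (ha1 : ∀ i, 1 ≤ a i) (β : ((i : Fin n) → ZMod (2 ^ a i)) ≃+ ((i : Fin n) → ZMod (2 ^ a i)))
    {m : ℕ} (hm : Odd m) (hβ : ∀ x, β^[m] x = x) (x : (i : Fin n) → ZMod (2 ^ a i)) : β x = x := by
  let V : ℕ → Set ((i : Fin n) → ZMod (2 ^ a i)) := fun k =>
    {x | x + x = 0 ∧ ∀ i, a i ≤ k → x i = 0}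
  have hval : ∀ (i : Fin n) (y : ZMod (2 ^ a i)), y + y = 0 →
      y = 0 ∨ y = ((2 ^ (a i - 1) : ℕ) : ZMod (2 ^ a i)) := by
    intro i y hy
    have : NeZero (2 ^ a i) := ⟨by positivity⟩
    have h2 : 2 ^ a i = 2 ^ (a i - 1) * 2 := by
      rw [← pow_succ]; congr 1; have := ha1 i; omega
    have hd : 2 ^ a i ∣ y.val * 2 := by
      rw [← ZMod.natCast_eq_zero_iff, Nat.cast_mul, ZMod.natCast_val, ZMod.cast_id]
      rw [Nat.cast_ofNat, mul_two]
      exact hy
    obtain ⟨t, ht⟩ := (Nat.mul_dvd_mul_iff_right (by norm_num : 0 < 2)).1 (h2.symm.dvd.trans hd)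
    have hlt := y.val_lt.trans_eq h2
    rw [ht] at hlt
    have ht2 : t < 2 := Nat.lt_of_mul_lt_mul_left hlt
    rcases Nat.le_one_iff_eq_zero_or_eq_one.1 (Nat.le_of_lt_succ ht2) with rfl | rfl
    · left; exact (ZMod.val_eq_zero y).1 (by simpa using ht)
    · right; rw [mul_one] at ht; rw [← ht, ZMod.natCast_val, ZMod.cast_id]
  have hkill : ∀ k i, a i ≤ k → ∀ y : ZMod (2 ^ a i), 2 ^ k • y = 0 := by
    intro k i hi y
    rw [nsmul_eq_mul]
    have : ((2 ^ k : ℕ) : ZMod (2 ^ a i)) = 0 :=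
      (ZMod.natCast_eq_zero_iff _ _).2 (pow_dvd_pow 2 hi)
    rw [this, zero_mul]
  have hV : ∀ k x, x ∈ V k ↔ x + x = 0 ∧ ∃ z, x = 2 ^ k • z := by
    intro k x
    constructor
    · rintro ⟨h2, h0⟩
      refine ⟨h2, fun i => if x i = 0 then 0 else ((2 ^ (a i - 1 - k) : ℕ) : ZMod (2 ^ a i)), ?_⟩
      funext i
      rw [Pi.smul_apply]
      by_cases hx : x i = 0
      · simp [hx]
      · have hk : k < a i := lt_of_not_ge fun h => hx (h0 i h)
        have := (hval i (x i) (congrFun h2 i)).resolve_left hx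
        simp only [hx, if_false]
        rw [this, nsmul_eq_mul, ← Nat.cast_mul, ← pow_add]
        congr 2
        omega
    · rintro ⟨h2, z, rfl⟩
      exact ⟨h2, fun i hi => hkill k i hi (z i)⟩
  have hVβ : ∀ k x, x ∈ V k → β x ∈ V k := by
    intro k x hx
    obtain ⟨h2, z, rfl⟩ := (hV k x).1 hx
    exact (hV k _).2 ⟨by rw [← map_add, h2, map_zero], β z, map_nsmul β _ _⟩
  obtain ⟨K, hK⟩ : ∃ K, ∀ i, a i ≤ K := ⟨Finset.univ.sup a, fun i => Finset.le_sup (Finset.mem_univ i)⟩
  have hfix : ∀ j x, x ∈ V (K - j) → β x = x := by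
    intro j
    induction j with
    | zero =>
      intro x hx
      have : x = 0 := funext fun i => hx.2 i (hK i)
      rw [this, map_zero]
    | succ j ih =>
      intro x hx
      rcases Nat.eq_zero_or_pos (K - j) with h0 | h0
      · exact ih x (by rwa [show K - (j + 1) = K - j by omega] at hx)
      set k := K - (j + 1) with hk
      have hk1 : K - j = k + 1 := by omega
      rw [hk1] at ih
      have hup : ∀ y, y ∈ V k → (∀ i, a i = k + 1 → y i = 0) → y ∈ V (k + 1) := fun y hy h =>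
        ⟨hy.1, fun i hi => (Nat.lt_or_ge k (a i)).elim (fun h' => h i (le_antisymm hi h')) (hy.2 i)⟩
      by_cases h : ∀ i, a i = k + 1 → x i = 0
      · exact ih x (hup x hx h)
      obtain ⟨i, hi, hxi⟩ : ∃ i, a i = k + 1 ∧ x i ≠ 0 := by
        push Not at h; exact h
      have hone : ∀ l, a l = k + 1 → l = i := fun l hl => ha (hl.trans hi.symm)
      have hβx := hVβ k x hx
      by_cases hβi : β x i = 0
      · exact β.injective (ih (β x) (hup _ hβx fun l hl => by rw [hone l hl]; exact hβi))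
      have hd : β x - x ∈ V (k + 1) := by
        refine hup _ ⟨?_, fun l hl => ?_⟩ fun l hl => ?_
        · rw [sub_add_sub_comm, hβx.1, hx.1, sub_zero]
        · rw [Pi.sub_apply, hβx.2 l hl, hx.2 l hl, sub_zero]
        · rw [hone l hl, Pi.sub_apply, (hval i _ (congrFun hx.1 i)).resolve_left hxi,
            (hval i _ (congrFun hβx.1 i)).resolve_left hβi, sub_self]
      exact fixed_of_shift_two_torsion β hm hβ (ih _ hd) hd.1
  have htwo : ∀ x, x + x = 0 → β x = x := fun x hx =>
    hfix K x (by rw [Nat.sub_self]; exact ⟨hx, fun i hi => absurd (ha1 i) (by omega)⟩)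
  suffices H : ∀ j x, 2 ^ j • x = 0 → β x = x from
    H K x (funext fun i => hkill K i (hK i) (x i))
  intro j
  induction j with
  | zero => intro x hx; rw [pow_zero, one_nsmul] at hx; rw [hx, map_zero]
  | succ j ih =>
    intro x hx
    have h1 : β (x + x) = x + x := ih _ (by
      rw [← two_nsmul, ← mul_nsmul', ← pow_succ]; exact hx)
    have h2 : (β x - x) + (β x - x) = 0 := by
      rw [sub_add_sub_comm, ← map_add, h1, sub_self]
    exact fixed_of_shift_two_torsion β hm hβ (htwo _ h2) h2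

end CfsgLib.Fusion
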