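import Cfsg.Agent.Lib.Fusion.EnvelopeStep
import Cfsg.Agent.Lib.Fusion.PrimeIndexChar
import Cfsg.Agent.Lib.Fusion.WeakNormalResidual
import Cfsg.Agent.Lib.Fusion.SmallControl

/-!
# A normal subsystem of index prime to `p` cutting down the automizer of `T`
-/

set_option autoImplicit false

namespace CfsgLib.Fusion

open Cfsg Cfsg.FusionSystem

universe u

variable {Ω : Type u} [Group Ω] {S T R : Subgroup Ω} {F : FusionSystem S} {E : FusionSystem T}
  {p : ℕ} [Fact p.Prime] [Finite S]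

/-- A subgroup centric inside `T` in a system between `E` and `F` is centric inside `T` in `F`. -/
theorem tCentric_of_between (hE : E.IsInvariantIn F) {D : FusionSystem R}
    (hED : E.IsSubsystemOf D) {Q : Subgroup Ω} (hQ : TCentric D T Q) : TCentric F T Q := by
  refine ⟨hQ.1, ?_⟩
  rintro _ ⟨φ, hφ, rfl⟩ y hy
  obtain ⟨γ, hγ, e, he, hv⟩ := hE.2.2.2 Q hQ.1 φ hφ
  obtain ⟨hyT, hyc⟩ := mem_centralizerIn.1 hy
  set z : T := γ⁻¹ ⟨y, hyT⟩ with hz
  have hzc : (z : Ω) ∈ centralizerIn T e.range := by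
    refine mem_centralizerIn.2 ⟨z.2, ?_⟩
    rintro _ ⟨x, rfl⟩
    have h1 := hyc (φ x) ⟨x, rfl⟩
    rw [hv x (hom_apply_mem he x)] at h1
    have h2 : γ (⟨e x, hom_apply_mem he x⟩ * z) = γ (z * ⟨e x, hom_apply_mem he x⟩) := by
      rw [map_mul, map_mul, hz, MulAut.apply_inv_self]
      exact Subtype.ext h1
    exact congrArg Subtype.val (γ.injective h2)
  obtain ⟨x, hx⟩ := hQ.2 e.range ⟨e, hED _ he, rfl⟩ hzc
  refine ⟨x, ?_⟩
  rw [hv x (hom_apply_mem he x), show (⟨e x, hom_apply_mem he x⟩ : T) = z from Subtype.ext hx,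
    hz, MulAut.apply_inv_self]

set_option maxHeartbeats 800000 in
/-- The step for a normal subgroup of index prime to `p`. -/
theorem exists_primeIndex_step (hS : IsPGroup p S) (hE : E.IsNormalIn F p)
    {N : Subgroup (MulAut T)} (hKN : E.autGroup T ≤ N)
    (hNn : ∀ a ∈ F.autGroup T, ∀ x ∈ N, a * x * a⁻¹ ∈ N) (hne : ¬ F.autGroup T ≤ N)
    (hcop : (N.relIndex (F.autGroup T)).Coprime p) :
    ∃ G : FusionSystem S, G.IsSaturated p ∧ G.IsInvariantIn F ∧ E.IsNormalIn G p ∧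
      G.autGroup T ≤ N ∧
      (∀ Q : Subgroup Ω, Q ≤ S → ∀ a ∈ F.autGroup Q, (∃ k : ℕ, a ^ p ^ k = 1) →
        a ∈ G.autGroup Q) ∧
      ∀ {R : Subgroup Ω} (D : FusionSystem R), T ≤ R → EnvCand p F E D → D.IsSubsystemOf G := by
  have hE' := hE
  obtain ⟨⟨hEs, hF, hEi⟩, hEext⟩ := hE'
  have hT := hEi.2.1
  have hTS := hT.1
  have := finite_mulAut_of_le (S := S) hTS
  have := finite_le hTS
  have : (N.subgroupOf (F.autGroup T)).Normal := ⟨fun x hx b => hNn b b.2 x hx⟩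
  let χ : F.autGroup T →* F.autGroup T ⧸ N.subgroupOf (F.autGroup T) :=
    QuotientGroup.mk' (N.subgroupOf (F.autGroup T))
  have hχ1 : ∀ b : F.autGroup T, χ b = 1 ↔ (b : MulAut T) ∈ N := fun b =>
    (QuotientGroup.eq_one_iff b).trans Subgroup.mem_subgroupOf
  have hd : CharData F E p χ := ⟨hE, hcop, fun b hb => (hχ1 b).2 (hKN hb)⟩
  have : Nontrivial (F.autGroup T ⧸ N.subgroupOf (F.autGroup T)) := by
    rw [← Finite.one_lt_card_iff_nontrivial]
    refine lt_of_le_of_ne Nat.card_pos fun h => hne (Subgroup.relIndex_eq_one.1 ?_)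
    exact h.symm
  obtain ⟨G, hGn, -, hEG, hGaut, hres⟩ := exists_primeIndex_normal hS hF hTS hd
    (QuotientGroup.mk'_surjective _)
  have hGs := hGn.1.1
  have hGi := hGn.1.2.2
  have hp : ∀ Q : Subgroup Ω, Q ≤ S → ∀ a ∈ F.autGroup Q, (∃ k : ℕ, a ^ p ^ k = 1) →
      a ∈ G.autGroup Q := by
    intro Q hQ a ha hk
    obtain ⟨R₀, hR₀⟩ := exists_pPrimeResidual hS hF
    exact (mem_autGroup_iff hQ).2
      (hres R₀ hR₀ Q ((mem_autGroup_iff hQ).1 (hR₀.2.1.2 Q hQ (mem_closure_pow ha hk))))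
  have hgen : genSystem hS hF ≤ G := genSystem_le_of hS hF fun Q hQ a ha hk => hp Q hQ.1 a ha hk
  have hTc : TCentric F T T := ⟨le_rfl, fun Q hQ => by
    obtain ⟨ψ, hψ, rfl⟩ := hQ
    rw [(StronglyClosed.weaklyClosed hT).2 ψ hψ]
    exact centralizerIn_le T⟩
  -- the value of a map inside `T`
  have hval : ∀ {P : Subgroup Ω} {a : MulAut S}, a ∈ F.autGroup S → ∀ {φ₀ φ : P →* Ω},
      φ₀ ∈ (genSystem hS hF).Hom P → (∀ (x : P) (h : φ₀ x ∈ S), φ x = ((a ⟨φ₀ x, h⟩ : S) : Ω)) →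
      ∀ (Q : Subgroup Ω) (hQP : Q ≤ P), Q ≤ T → ∃ k : F.autGroup T,
        (∀ t : T, (((k : MulAut T) t : T) : Ω) = ((a ⟨(t : Ω), hTS t.2⟩ : S) : Ω)) ∧
          HasVal E χ (φ.comp (Subgroup.inclusion hQP)) (χ k) := by
    intro P a ha φ₀ φ hφ₀ hv Q hQP hQT
    obtain ⟨k, hk, hkv⟩ := exists_restrict_aut le_rfl hTS ha
      fun r hr => StronglyClosed.apply_mem hT ((mem_autGroup_iff le_rfl).1 ha) hr
    refine ⟨⟨k, hk⟩, fun t => (hkv t t.2).symm, ?_⟩
    have h1 := hd.genMap_val hS hφ₀ Q hQP hQT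
    have h2 : HasVal E χ (T.subtype.comp k.toMonoidHom) (χ ⟨k, hk⟩) :=
      hd.val_aut le_rfl ⟨k, hk⟩ fun t => rfl
    have h3 := hd.val_comp h1 h2 (fun x => hd.val_range h1 ⟨x, rfl⟩)
      (θ := φ.comp (Subgroup.inclusion hQP)) fun x => by
        show φ _ = _
        rw [hv _ (hom_apply_mem (GenMap.mem hφ₀) _)]
        exact hkv _ (hd.val_range h1 ⟨x, rfl⟩)
    rwa [mul_one] at h3
  have hkey : ∀ {P : Subgroup Ω} {φ : P →* Ω}, φ ∈ F.Hom P → ∀ (Q : Subgroup Ω) (hQP : Q ≤ P),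
      TCentric F T Q → φ.comp (Subgroup.inclusion hQP) ∈ E.Hom Q → φ ∈ G.Hom P := by
    intro P φ hφ Q hQP hQ hφE
    obtain ⟨a, ha, φ₀, hφ₀, hv⟩ := exists_gen_decomp hS hF hφ
    obtain ⟨k, hkv, h3⟩ := hval ha hφ₀ hv Q hQP hQ.1
    have hk1 : χ k = 1 := hd.val_unique hS hQ h3 (hd.val_of_mem hφE)
    have haG : a ∈ G.autGroup S := (hGaut a).2 ⟨ha, k, hk1, hkv⟩
    exact comp_mem' (hgen P hφ₀) ((mem_autGroup_iff le_rfl).1 haG)
      (hom_apply_mem (GenMap.mem hφ₀)) fun x => hv x _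
  have hMS : T ⊔ centralizerIn S T ≤ S := sup_le hTS (centralizerIn_le T)
  refine ⟨G, hGs, hGi, ⟨⟨hEs, hGs, invariant_inherit hS hGs hGi.1 hEi hEG⟩, fun α hα => ?_⟩,
    ?_, hp, ?_⟩
  · obtain ⟨β, hβ, hβT, hβC⟩ := hEext α hα
    refine ⟨β, (mem_autGroup_iff hMS).2 (hkey ((mem_autGroup_iff hMS).1 hβ) T le_sup_left hTc ?_),
      hβT, hβC⟩
    exact hom_congr ((mem_autGroup_iff le_rfl).1 hα) fun t => hβT t
  · intro γ hγ
    have hTG : G.StronglyClosed T :=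
      ⟨hTS, fun Q hQ φ hφ x => hT.2 Q hQ φ (hGi.1 Q hφ) x⟩
    have hTfc := IsSaturated.fullyCentralized hS hF (fullyNormalized_closed hT)
    have he : IsoIn G (γ : T ≃* T) := (mem_autGroup_iff_isoIn hTS).1 hγ
    have hγF : γ ∈ F.autGroup T :=
      (mem_autGroup_iff hTS).2 (hGi.1 T ((mem_autGroup_iff hTS).1 hγ))
    obtain ⟨ψ, hψ, hag⟩ := exists_extension (IsSaturated.receptive hS hGs
      (IsSaturated.fullyCentralized hS hGs (fullyNormalized_closed hTG))) he le_sup_left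
      (sup_le_extender he)
    have hψF := hGi.1 _ hψ
    obtain ⟨a, ha, φ₀, hφ₀, hv⟩ := exists_gen_decomp hS hF hψF
    obtain ⟨θ, hθ, hθv⟩ := G.inv_mem (hgen _ hφ₀)
    have hθr : ∀ y, θ y ∈ T ⊔ centralizerIn S T := by
      rintro ⟨_, x, rfl⟩
      rw [hθv]
      exact x.2
    have hcen : F.IsCentric φ₀.range := isCentric_of_isConj (isCentric_sup_centralizerIn hTfc)
      ⟨φ₀, GenMap.mem hφ₀, rfl⟩
    have haG : a ∈ G.autGroup S := by
      refine climb_map hGs hGi.1 ha hcen (G.comp_mem hθ hψ hθr) ?_ hS hF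
      rintro ⟨_, x, rfl⟩ h
      show ψ ⟨θ _, _⟩ = _
      exact (congrArg ψ (Subtype.ext (hθv x))).trans (hv x h)
    obtain ⟨-, β, hβ1, hβv⟩ := (hGaut a).1 haG
    obtain ⟨k, hkv, h3⟩ := hval ha hφ₀ hv T le_sup_left le_rfl
    obtain rfl : β = k :=
      Subtype.ext (MulEquiv.ext fun t => Subtype.ext ((hβv t).trans (hkv t).symm))
    have h4 : HasVal E χ (ψ.comp (Subgroup.inclusion (le_sup_left (b := centralizerIn S T))))
        (χ ⟨γ, hγF⟩) := hd.val_aut le_rfl ⟨γ, hγF⟩ fun t => hag t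
    exact (hχ1 ⟨γ, hγF⟩).1 ((hd.val_unique hS hTc h4 h3).trans hβ1)
  · intro R D hTR hD
    have hRS : R ≤ S := IsSubsystemOf.le hD.2.1
    have := finite_le hRS
    have hRp : IsPGroup p R := hS.to_le hRS
    have hEiD := invariant_inherit hS hD.1 hD.2.1 hEi hD.2.2.1
    have hle : D ≤ restrictSystem G hRS := by
      refine alperin hRp hD.1 _ fun P hP a ha => ?_
      have hcr : D.IsCentric P ∧ D.IsRadical p P := by
        rcases hP with rfl | h
        · exact ⟨isCentric_self, isRadical_self hRp hD.1⟩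
        · exact ⟨h.1, IsEssential.isRadical hRp h⟩
      obtain ⟨hc, hr⟩ := hcr
      have hPR := hc.1
      have hQD := tCentric_inf_of_radical hRp hD.1 hEiD.2.1 hc hr
        fun he h => isRadical_congr he h
      have haD := (mem_autGroup_iff hPR).1 ha
      have hQT : P ⊓ T ≤ T := inf_le_right
      obtain ⟨β, hβ, e, he, hv⟩ := hEiD.2.2.2 (P ⊓ T) hQT _
        (restrict_mem haD (inf_le_left : P ⊓ T ≤ P))
      refine (mem_autGroup_iff hPR).2 ⟨hkey (hD.2.1 P haD) (P ⊓ T) inf_le_left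
        (tCentric_of_between hEi hD.2.2.1 hQD) ?_, hPR, fun x => hPR (a x).2⟩
      exact comp_mem' he ((mem_autGroup_iff le_rfl).1 (hD.2.2.2 hβ)) (hom_apply_mem he)
        fun x => hv x (hom_apply_mem he x)
    exact fun P φ hφ => (hle P hφ).1

end CfsgLib.Fusion
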