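import Cfsg.Agent.Lib.Fusion.PPowerUnique
import Cfsg.Agent.Lib.Fusion.HyperfocalGen
import Cfsg.Prelude.Def_FusionReduction

/-!
# Residual limits

A subsystem of `p`-power index over a strongly closed subgroup has the same hyperfocal subgroup,
hence the same residual limit.
-/

set_option autoImplicit false

namespace CfsgLib.Fusion

open Cfsg Cfsg.FusionSystem

universe u

variable {Ω : Type u} [Group Ω] {S : Subgroup Ω} {p : ℕ}

theorem system_ext {E E' : FusionSystem S} (h : ∀ P : Subgroup Ω, E.Hom P = E'.Hom P) : E = E' := by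
  obtain ⟨H, _, _, _, _, _⟩ := E
  obtain ⟨H', _, _, _, _, _⟩ := E'
  obtain rfl : H = H' := funext h
  rfl

/-- Subsystems of `p`-power index over strongly closed subgroups keep the hyperfocal subgroup. -/
theorem hyperfocal_eq_of_pPowerIndex [Fact p.Prime] [Finite S] (hS : IsPGroup p S)
    {F : FusionSystem S} {T : Subgroup Ω} {E : FusionSystem T} (hT : F.StronglyClosed T)
    (hEi : E.HasPPowerIndexIn F p) : E.hyperfocalSubgroup p = F.hyperfocalSubgroup p := by
  have hTS : T ≤ S := hT.1
  refine le_antisymm (hyperfocal_mono hEi.1 hTS) (hyperfocal_le_of_coprime ?_)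
  intro P α hP hα hc x
  set U := E.hyperfocalSubgroup p
  -- the restriction to `P ⊓ T`
  set R := P ⊓ T
  have hφ := (mem_autGroup_iff hP).1 hα
  have hRmem : ∀ z : R, (α (Subgroup.inclusion inf_le_left z) : Ω) ∈ R := fun z =>
    ⟨(α _).2, hT.2 R inf_le_right _ (restrict_mem hφ inf_le_left) z⟩
  let r : R →* R := ((P.subtype.comp α.toMonoidHom).comp (Subgroup.inclusion inf_le_left)).codRestrict R hRmem
  have := finite_le (S := S) (inf_le_left.trans hP : R ≤ S)
  have hr : Function.Injective r := fun a b h =>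
    Subgroup.inclusion_injective _ (α.injective (Subtype.ext (congrArg Subtype.val h :)))
  let β : MulAut R := MulEquiv.ofBijective r ⟨hr, Finite.injective_iff_surjective.1 hr⟩
  have hβ : β ∈ F.autGroup R :=
    (mem_autGroup_iff (inf_le_left.trans hP)).2 (hom_congr (restrict_mem hφ inf_le_left) fun _ => rfl)
  have hpow : ∀ (i : ℕ) (z : R), ((β ^ i) z : Ω) = (α ^ i) (Subgroup.inclusion inf_le_left z) := by
    intro i
    induction i with
    | zero => intro z; rfl
    | succ i ih =>
        intro z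
        rw [pow_succ', pow_succ', MulAut.mul_apply, MulAut.mul_apply]
        exact congrArg (fun w : P => (α w : Ω)) (Subtype.ext (ih z))
  have hβc : (orderOf β).Coprime p := by
    refine hc.coprime_dvd_left (orderOf_dvd_of_pow_eq_one (MulEquiv.ext fun z => Subtype.ext ?_))
    rw [hpow, pow_orderOf_eq_one]; rfl
  have hmemE : β ∈ E.autGroup R :=
    hEi.2.2 R inf_le_right ⟨⟨β, hβ⟩, Subgroup.subset_closure (by
      show (orderOf (⟨β, hβ⟩ : F.autGroup R)).Coprime p
      rwa [Subgroup.orderOf_mk]), rfl⟩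
  have hU : ∀ z : R, (z : Ω)⁻¹ * (β z : Ω) ∈ U := fun z =>
    mem_hyperfocal_of_coprime inf_le_right hmemE hβc z
  -- `y = x⁻¹ α x`
  have hyT : (x : Ω)⁻¹ * α x ∈ T := hEi.2.1 (mem_hyperfocal_of_coprime hP hα hc x)
  set y : R := ⟨(x : Ω)⁻¹ * α x, P.mul_mem (P.inv_mem x.2) (α x).2, hyT⟩ with hy
  set N : Subgroup T := U.subgroupOf T
  have hN : N.Normal := ⟨fun a ha b => hyperfocal_conj_mem b.2 ha⟩
  let π : T →* T ⧸ N := QuotientGroup.mk' N
  let yT : T := ⟨y, hyT⟩
  have hfix : ∀ i : ℕ, π ⟨((β ^ i) y : R), ((β ^ i) y).2.2⟩ = π yT := by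
    intro i
    induction i with
    | zero => rfl
    | succ i ih =>
        rw [← ih]
        refine ((QuotientGroup.mk'_eq_mk' N).2 ⟨_, ?_, mul_inv_cancel_left _ _⟩).symm
        show (((β ^ i) y : R) : Ω)⁻¹ * ((β ^ (i + 1)) y : Ω) ∈ U
        rw [pow_succ', MulAut.mul_apply]
        exact hU _
  have hiter : ∀ i : ℕ, ∃ hi : (x : Ω)⁻¹ * (α ^ i) x ∈ T, π ⟨_, hi⟩ = π yT ^ i := by
    intro i
    induction i with
    | zero => exact ⟨by simp, (congrArg π (Subtype.ext (by simp) : _ = (1 : T))).trans (by simp)⟩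
    | succ i ih =>
        obtain ⟨hi, he⟩ := ih
        have h1 : ((α ^ (i + 1)) x : Ω) = ((α ^ i) x : Ω) * ((β ^ i) y : Ω) := by
          rw [pow_succ, MulAut.mul_apply, hpow, ← Subgroup.coe_mul, ← map_mul]
          exact congrArg (fun w : P => ((α ^ i) w : Ω)) (Subtype.ext (mul_inv_cancel_left _ _).symm)
        have h2 : (x : Ω)⁻¹ * (α ^ (i + 1)) x = (x : Ω)⁻¹ * (α ^ i) x * ((β ^ i) y : Ω) := by
          rw [h1, mul_assoc]
        have hm : (x : Ω)⁻¹ * (α ^ (i + 1)) x ∈ T := by
          rw [h2]; exact T.mul_mem hi ((β ^ i) y).2.2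
        refine ⟨hm, ?_⟩
        exact (congrArg π (Subtype.ext h2 :
          (⟨_, hm⟩ : T) = ⟨_, hi⟩ * ⟨((β ^ i) y : R), ((β ^ i) y).2.2⟩)).trans
          (by rw [map_mul, he, hfix i, ← pow_succ])
  obtain ⟨hn, he⟩ := hiter (orderOf α)
  have h1 : π yT ^ orderOf α = 1 := by
    rw [← he]
    exact (congrArg π (Subtype.ext (by simp [pow_orderOf_eq_one]) : _ = (1 : T))).trans (map_one π)
  obtain ⟨k, hk⟩ := (IsPGroup.iff_orderOf.1 (hS.to_le hTS)) yT
  have h2 : π yT ^ p ^ k = 1 := by rw [← map_pow, ← hk, pow_orderOf_eq_one, map_one]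
  have h3 : π yT = 1 := orderOf_eq_one_iff.1 (Nat.Coprime.eq_one_of_dvd
    ((hc.coprime_dvd_left (orderOf_dvd_of_pow_eq_one h1)).pow_right k)
    (orderOf_dvd_of_pow_eq_one h2))
  have h4 : yT ∈ N := (QuotientGroup.eq_one_iff yT).1 h3
  exact h4

theorem pPowerIndex_self (F : FusionSystem S) (hF : F.hyperfocalSubgroup p = S) :
    F.HasPPowerIndexIn F p := by
  refine ⟨fun _ => subset_rfl, hF.le, fun P _ => ?_⟩
  rintro _ ⟨a, -, rfl⟩
  exact a.2

/-- The `p`-residual subsystem is unique. -/
theorem pResidual_eq [Fact p.Prime] [Finite S] (hS : IsPGroup p S) {F : FusionSystem S}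
    {D D' : FusionSystem (F.hyperfocalSubgroup p)} (h : F.IsPResidual p D)
    (h' : F.IsPResidual p D') : D = D' :=
  system_ext fun P => hom_eq_of_pPowerIndex hS rfl hyperfocal_le h.1 h'.1 h.2 h'.2 P

theorem pPrimeResidual_eq {F D D' : FusionSystem S} (h : F.IsPPrimeResidual p D)
    (h' : F.IsPPrimeResidual p D') : D = D' :=
  system_ext fun P => Set.Subset.antisymm (h.2.2 D' h'.1 h'.2.1 P) (h'.2.2 D h.1 h.2.1 P)

/-- One step of a residual series, over any name of the hyperfocal subgroup. -/
theorem residualLimit_step {V H : Subgroup Ω} {L : FusionSystem V} {F : FusionSystem S}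
    (hH : F.hyperfocalSubgroup p = H) {D D' : FusionSystem H} (hsat : D.IsSaturated p)
    (hi : D.HasPPowerIndexIn F p) (hD' : D.IsPPrimeResidual p D')
    (hrest : L.IsResidualLimitOf D' p) : L.IsResidualLimitOf F p := by
  subst hH
  exact .step F p D D' ⟨hsat, hi⟩ hD' hrest

/-- A step from a stable system changes nothing. -/
theorem stable_step [Fact p.Prime] [Finite S] (hS : IsPGroup p S) {H : Subgroup Ω} (hH : H = S)
    {F : FusionSystem S} (hstab : F.hyperfocalSubgroup p = S) (hres : F.IsPPrimeResidual p F)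
    {D D' : FusionSystem H} (hsat : D.IsSaturated p) (hi : D.HasPPowerIndexIn F p)
    (hD' : D.IsPPrimeResidual p D') :
    D'.hyperfocalSubgroup p = H ∧ D'.IsPPrimeResidual p D' ∧ ∀ P, D'.Hom P = F.Hom P := by
  subst hH
  obtain rfl : D = F := system_ext fun P =>
    hom_eq_of_pPowerIndex hS rfl le_rfl hsat hres.1 hi (pPowerIndex_self F hstab) P
  obtain rfl : D' = D := pPrimeResidual_eq hD' hres
  exact ⟨hstab, hres, fun _ => rfl⟩

/-- A residual limit of a stable system is the system itself. -/
theorem residualLimit_stable {U : Subgroup Ω} {E : FusionSystem U}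
    {F : FusionSystem S} (hE : E.IsResidualLimitOf F p) :
    ∀ [Fact p.Prime] (_ : IsPGroup p S) [Finite S], F.hyperfocalSubgroup p = S →
      F.IsPPrimeResidual p F → ∀ P : Subgroup Ω, E.Hom P = F.Hom P := by
  induction hE with
  | stable F p _ _ => intros; rfl
  | step F p D D' hD hD' _ ih =>
      intro _ hS _ hstab hres P
      obtain ⟨h1, h2, h3⟩ := stable_step hS hstab hstab hres hD.1 hD.2 hD'
      have := finite_le (hyperfocal_le (F := F) (p := p))
      exact (ih (hS.to_le hyperfocal_le) h1 h2 P).trans (h3 P)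

/-- Residual limits are unique. -/
theorem residualLimit_unique {U : Subgroup Ω} {E : FusionSystem U}
    {F : FusionSystem S} (hE : E.IsResidualLimitOf F p) :
    ∀ [Fact p.Prime] (_ : IsPGroup p S) [Finite S] {V : Subgroup Ω} (E' : FusionSystem V),
      E'.IsResidualLimitOf F p → ∀ P : Subgroup Ω, E.Hom P = E'.Hom P := by
  induction hE with
  | stable F p hstab hres =>
      intro _ hS _ V E' hE' P
      exact (residualLimit_stable hE' hS hstab hres P).symm
  | step F p D D' hD hD' hrest ih =>
      intro _ hS _ V E' hE' P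
      cases hE' with
      | stable _ _ hstab hres =>
          exact residualLimit_stable (.step F p D D' hD hD' hrest) hS hstab hres P
      | step _ _ D₂ D₂' hD₂ hD₂' hrest₂ =>
          obtain rfl := pResidual_eq hS hD hD₂
          obtain rfl := pPrimeResidual_eq hD' hD₂'
          have := finite_le (hyperfocal_le (F := F) (p := p))
          exact ih (hS.to_le hyperfocal_le) E' hrest₂ P

/-- A residual limit of a subsystem of `p`-power index is a residual limit of the system. -/
theorem residualLimit_of_pPowerIndex [Fact p.Prime] [Finite S] (hS : IsPGroup p S)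
    {F : FusionSystem S} {T : Subgroup Ω} {E : FusionSystem T} (hT : F.StronglyClosed T)
    (hEi : E.HasPPowerIndexIn F p) {V : Subgroup Ω} {L : FusionSystem V}
    (hL : L.IsResidualLimitOf E p) : L.IsResidualLimitOf F p := by
  have hh := hyperfocal_eq_of_pPowerIndex hS hT hEi
  cases hL with
  | stable _ _ hstab hres =>
      obtain rfl : F.hyperfocalSubgroup p = T := hh.symm.trans hstab
      exact .step F p E E ⟨hres.1, hEi⟩ hres (.stable E p hstab hres)
  | step _ _ D D' hD hD' hrest =>
      have hi : D.HasPPowerIndexIn F p := by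
        refine ⟨fun P φ hφ => hEi.1 P (hD.2.1 P hφ), hh.ge, fun P hP => ?_⟩
        rintro _ ⟨a, ha, rfl⟩
        have hPT : P ≤ T := hP.trans hyperfocal_le
        refine (show (a : MulAut P) ∈ D.autGroup P from ?_)
        have hc : pResidual p (F.autGroup P) ≤ (D.autGroup P).comap (F.autGroup P).subtype := by
          rw [pResidual, Subgroup.closure_le]
          intro b hb
          have hbE : (b : MulAut P) ∈ E.autGroup P :=
            hEi.2.2 P hPT ⟨b, Subgroup.subset_closure hb, rfl⟩
          refine hD.2.2.2 P hP ⟨⟨b, hbE⟩, Subgroup.subset_closure ?_, rfl⟩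
          show (orderOf (⟨(b : MulAut P), hbE⟩ : E.autGroup P)).Coprime p
          rwa [Subgroup.orderOf_mk, Subgroup.orderOf_coe]
        exact hc ha
      exact residualLimit_step hh.symm hD.1 hi hD' hrest

end CfsgLib.Fusion
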