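import Cfsg.Agent.Lib.Fusion.InvariantInherit
import Cfsg.Agent.Lib.Fusion.ResidualLimit
import Cfsg.Agent.Lib.Fusion.WeakNormalResidual
import Cfsg.Agent.Lib.Fusion.PPowerNormal
import Cfsg.Agent.Lib.Fusion.SmallControl

/-!
# Residual limits are the largest invariant perfect subsystems
-/

set_option autoImplicit false

namespace CfsgLib.Fusion

open Cfsg Cfsg.FusionSystem

universe u

variable {Ω : Type u} [Group Ω] {p : ℕ}

/-- The `p`-residual of an invariant saturated subsystem is invariant. -/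
theorem pResidual_invariant [Fact p.Prime] {S T : Subgroup Ω} {F : FusionSystem S}
    {E : FusionSystem T} [Finite S] (hS : IsPGroup p S)
    (hEs : E.IsSaturated p) (hE : E.IsInvariantIn F) {D : FusionSystem (E.hyperfocalSubgroup p)}
    (hD : E.IsPResidual p D) : D.IsInvariantIn F := by
  have hTS := hE.2.1.1
  have := finite_le hTS
  have hT : IsPGroup p T := hS.to_le hTS
  have hHT : E.hyperfocalSubgroup p ≤ T := hyperfocal_le
  have hHn : ∀ s ∈ T, ∀ y ∈ E.hyperfocalSubgroup p, s * y * s⁻¹ ∈ E.hyperfocalSubgroup p :=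
    fun s hs y hy => hyperfocal_conj_mem hs hy
  have hHE := stronglyClosed_of_hyperfocal hT hEs hHT hHn le_rfl
  have hα : ∀ α ∈ F.autGroup T,
      autMap α (E.hyperfocalSubgroup p) ≤ E.hyperfocalSubgroup p := by
    intro α hα
    have hle : E.hyperfocalSubgroup p ≤ autMap α⁻¹ (E.hyperfocalSubgroup p) := by
      refine hyperfocal_le_of_coprime fun P β hP hβ hc x => ?_
      have hPS := hP.trans hTS
      obtain ⟨e, he, hev⟩ := exists_iso (restrict_mem ((mem_autGroup_iff hTS).1 hα) hP) rfl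
      have hβ' := invariant_congr hE hP he hβ
      have hc' : (orderOf (MulAut.congr e β)).Coprime p := by
        rw [show orderOf (MulAut.congr e β) = orderOf β from
          orderOf_injective (MulAut.congr e).toMonoidHom (MulAut.congr e).injective β]
        exact hc
      have hP' : ((T.subtype.comp α.toMonoidHom).comp (Subgroup.inclusion hP)).range ≤ T := by
        rintro _ ⟨y, rfl⟩
        exact SetLike.coe_mem _
      have h1 := mem_hyperfocal_of_coprime hP' hβ' hc' (e x)
      rw [show MulAut.congr e β (e x) = e (β x) by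
          show e (β (e.symm (e x))) = _
          rw [e.symm_apply_apply],
        ← Subgroup.coe_inv, ← Subgroup.coe_mul, ← map_inv, ← map_mul, hev] at h1
      have h2 := (mem_autMap (α := α⁻¹) (x := α (Subgroup.inclusion hP (x⁻¹ * β x)))).2 h1
      rw [MulAut.inv_apply_self] at h2
      exact h2
    rintro _ ⟨y, hy, rfl⟩
    obtain ⟨z, hz, hzy⟩ := hle hy
    have hzy' : α⁻¹ z = y := Subtype.ext hzy
    show ((α y : T) : Ω) ∈ _
    rw [← hzy', MulAut.apply_inv_self]
    exact hz
  have hHF : F.StronglyClosed (E.hyperfocalSubgroup p) := by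
    refine ⟨hHT.trans hTS, fun R hR φ hφ x => ?_⟩
    obtain ⟨α, hαF, e, he, hv⟩ := hE.2.2.2 R (hR.trans hHT) φ hφ
    rw [hv x (hom_apply_mem he x)]
    exact hα α hαF (mem_autMap.2 (hHE.2 R hR e he x))
  have := finite_le hHT
  have hsub : D.IsSubsystemOf F := fun P φ h => hE.1 P (hD.2.1 P h)
  refine ⟨hsub, hHF, fun P hPH φ hφ α hαF => ?_, fun P hPH φ hφ => ?_⟩
  · set f : MulAut (E.hyperfocalSubgroup p) := α⁻¹ with hf
    have htw : (twistSystem D f).IsSubsystemOf E := by
      rintro R χ ⟨hR, hχH, χ', hχ', hv⟩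
      have h1 : ∀ y : R, ((α⁻¹ (Subgroup.inclusion hR y) : _) : Ω) ∈ mapS f R :=
        fun y => apply_mem_mapS hR y
      refine hom_congr (topConj_mem_of_invariant hE hHF hHT hαF (hD.2.1 _ hχ') hR h1
        (hom_apply_mem hχ')) fun y => ?_
      rw [topConj_apply]
      have h2 := hv y (hR y.2) (hχH y) (apply_mem_mapS hR y)
      have h3 : α (f ⟨χ y, hχH y⟩) = ⟨χ y, hχH y⟩ := MulAut.apply_inv_self _ α _
      refine Eq.trans ?_ (congrArg (fun w => ((α w : _) : Ω)) (Subtype.ext h2.symm))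
      exact (congrArg Subtype.val h3).symm
    have hle : twistSystem D f ≤ D := subsystem_le_of_residual hT hHT
      ((twistSystem_sysEquiv D f).saturated hD.1) htw hD.2.2.2
    obtain ⟨χ, hχ, hv⟩ := (twistSystem_sysEquiv D f).1 P φ hφ
    exact ⟨χ, hle _ hχ, fun x hφx hαx => hv x (hPH x.2) hφx hαx⟩
  · obtain ⟨α, hαF, e, he, hv⟩ := hE.2.2.2 P (hPH.trans hHT) φ hφ
    obtain ⟨γ, hγ, d, hd, hdv⟩ :=
      (pPowerIndex_invariant hT hEs hHT hHn le_rfl hD.1 hD.2).2.2.2 P hPH e he
    obtain ⟨k, hk, hkv⟩ := exists_restrict_aut hTS hHT hαF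
      fun r hr => hα α hαF (mem_autMap.2 hr)
    have hγF : γ ∈ F.autGroup (E.hyperfocalSubgroup p) :=
      (mem_autGroup_iff (hHT.trans hTS)).2 (hE.1 _ ((mem_autGroup_iff hHT).1 hγ))
    refine ⟨k * γ, mul_mem hk hγF, d, hd, fun x hx => ?_⟩
    rw [hv x (hom_apply_mem he x), MulAut.mul_apply, ← hkv _ (γ ⟨d x, hx⟩).2]
    exact congrArg (fun w : T => ((α w : T) : Ω)) (Subtype.ext (hdv x hx))

/-- A residual limit is a saturated perfect subsystem, invariant wherever the system is. -/
theorem residualLimit_facts {S V : Subgroup Ω} {F : FusionSystem S} {L : FusionSystem V}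
    (hL : L.IsResidualLimitOf F p) :
    p.Prime → Finite S → IsPGroup p S → F.IsSaturated p →
      L.IsSaturated p ∧ L.hyperfocalSubgroup p = V ∧ L.IsPPrimeResidual p L ∧ L.IsSubsystemOf F ∧
        ∀ {S₀ : Subgroup Ω} (F₀ : FusionSystem S₀), Finite S₀ → IsPGroup p S₀ →
          F₀.IsSaturated p → F.IsInvariantIn F₀ → L.IsInvariantIn F₀ := by
  induction hL with
  | stable F p h1 h2 =>
      exact fun _ _ _ hF => ⟨hF, h1, h2, fun P => subset_rfl, fun _ _ _ _ h => h⟩
  | step F p D D' hD hD' _ ih =>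
      intro hq hfin hS hF
      have := Fact.mk hq
      obtain ⟨h1, h2, h3, h4, h5⟩ :=
        ih hq (finite_le hyperfocal_le) (hS.to_le hyperfocal_le) hD'.1
      refine ⟨h1, h2, h3, fun P φ h => hD.2.1 P (hD'.2.1.1 P (h4 P h)),
        fun F₀ hfin₀ hS₀ hF₀ hi => h5 F₀ hfin₀ hS₀ hF₀ ?_⟩
      exact (pPrimeResidual_normal hS₀ hF₀ hD.1 (pResidual_invariant hS₀ hF hi hD) hD').1.2.2

variable {S V : Subgroup Ω} {F : FusionSystem S} {G : FusionSystem S}

/-- The maps of a normal subsystem over `S` between subgroups of a strongly closed subgroup. -/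
def overFamily [Fact p.Prime] [Finite S] (hS : IsPGroup p S) (hF : F.IsSaturated p)
    (hGs : G.IsSaturated p) (hG : G.IsInvariantIn F) (hV : F.StronglyClosed V) : TFamily F V where
  Mem R φ := φ ∈ G.Hom R
  mem _ h := hG.1 _ h
  conj hR _ ht := G.conj_mem (hR.le.trans hV.1) (hV.1 ht)
  comp _ _ hφ hψ h _ hχ := comp_mem' hφ hψ h hχ
  inv _ hφ := G.inv_mem hφ
  transport _ _ hφ _ hα hR' h1 h2 := topConj_mem_of_invariant hG hV hV.1 hα hφ hR' h1 h2
  frattini := by
    intro R φ hR hφ
    have := finite_le hV.1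
    obtain ⟨a, ha, g, hg, hv⟩ := hG.2.2.2 R (hR.le.trans hV.1) φ hφ
    obtain ⟨k, hk, hkv⟩ := exists_restrict_aut le_rfl hV.1 ha
      fun r hr => StronglyClosed.apply_mem hV ((mem_autGroup_iff le_rfl).1 ha) hr
    exact ⟨k, hk, g, hg, fun x hx => (hv x (hV.1 hx)).trans (hkv _ hx)⟩
  extend := by
    intro R R' N φ hR hRn hR' hφ hr hle hN hext
    obtain ⟨e, he, hev⟩ := exists_iso hφ hr
    have hfc := IsSaturated.fullyCentralized hS hF hRn
    obtain ⟨ψ, hψ, hag⟩ := exists_extension (IsSaturated.receptive hS hGs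
      ⟨hfc.1, fun Q hQ => hfc.2 Q (isConj_of_subsystem hG.1 hQ)⟩) he hle (by
        intro g hg
        obtain ⟨t, ht, htv⟩ := hext g hg
        refine mem_extender_iff.2 ⟨hV.1 (hN hg).1, (hN hg).2, t, hV.1 ht, fun x hx => ?_⟩
        rw [isoHom_apply, isoHom_apply, hev, hev]
        exact htv x hx)
    exact ⟨ψ, hψ, fun x hx => (hag x).trans (hev x)⟩

variable {M : FusionSystem V}

/-- An invariant subsystem equal to its `p'`-residual lies in every normal subsystem over `S`
containing the elements of `p`-power order. -/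
theorem le_of_primeIndex [Fact p.Prime] [Finite S] (hS : IsPGroup p S) (hF : F.IsSaturated p)
    (hGs : G.IsSaturated p) (hG : G.IsInvariantIn F)
    (hp : ∀ R : Subgroup Ω, R ≤ S → ∀ a ∈ F.autGroup R, (∃ k : ℕ, a ^ p ^ k = 1) → a ∈ G.autGroup R)
    (hMs : M.IsSaturated p) (hMi : M.IsInvariantIn F) (hMr : M.IsPPrimeResidual p M) :
    M.IsSubsystemOf G := by
  have hV := hMi.2.1
  have := finite_le hV.1
  have hVp : IsPGroup p V := hS.to_le hV.1
  have hgen : genSystem hVp hMs ≤ restrictSystem G hV.1 := genSystem_le_of hVp hMs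
    fun R hR a ha hk => (mem_autGroup_iff hR.1).2 ⟨(mem_autGroup_iff (hR.1.trans hV.1)).1
      (hp R (hR.1.trans hV.1) a ((mem_autGroup_iff (hR.1.trans hV.1)).2
        (hMi.1 R ((mem_autGroup_iff hR.1).1 ha))) hk), hR.1, fun x => hR.1 (a x).2⟩
  have htop : leastTop hVp hMs ≤ (restrictSystem G hV.1).autGroup V := by
    refine (Subgroup.closure_le _).2 ?_
    rintro α ⟨hα, R, hR, φ, hφ, hv⟩
    have hRc := tCentric_of_centric hMi hR
    have hαF : α ∈ F.autGroup V :=
      (mem_autGroup_iff hV.1).2 (hMi.1 V ((mem_autGroup_iff le_rfl).1 hα))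
    have h := TFamily.mem_stab_top (H := overFamily hS hF hGs hG hV) hS hF hMs hMi hRc hα
      ⟨hαF, fun _ => hom_congr (hgen R hφ).1 fun x => (hv x (hR.1 x.2)).symm⟩
    have hVc : TCentric F V V := ⟨le_rfl, fun Q hQ => by
      obtain ⟨ψ, hψ, rfl⟩ := hQ
      rw [(StronglyClosed.weaklyClosed hV).2 ψ hψ]
      exact centralizerIn_le V⟩
    exact (mem_autGroup_iff le_rfl).2
      ⟨hom_congr (h.2 hVc) fun x => rfl, le_rfl, fun x => (α x).2⟩
  intro P φ hφ
  obtain ⟨α, hα, φ₀, hφ₀, hv⟩ := hMr.2.2 _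
    (indexSystem_saturated hVp hMs _ (leastTop_le hVp hMs) (leastTop_det hVp hMs))
    (hasPrimeToPIndex_of_gen_le hVp hMs (genSystem_le_indexSystem hVp hMs _ _)
      (indexSystem_le hVp hMs _ _)) P hφ
  exact (comp_mem' (hgen P hφ₀) ((mem_autGroup_iff le_rfl).1 (htop hα))
    (hom_apply_mem hφ₀) fun x => hv x _ : φ ∈ (restrictSystem G hV.1).Hom P).1

/-- A subsystem equal to its `p`-residual lies in every subsystem over a subgroup containing `V`
and the `p`-residuals of the automorphism groups. -/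
theorem le_of_pPowerIndex [Fact p.Prime] [Finite S] (hS : IsPGroup p S) {U : Subgroup Ω}
    {D : FusionSystem U} (hUS : U ≤ S) (hVU : V ≤ U) (hMs : M.IsSaturated p)
    (hsub : M.IsSubsystemOf F)
    (hres : ∀ P : Subgroup Ω, P ≤ U →
      (pResidual p (F.autGroup P)).map (F.autGroup P).subtype ≤ D.autGroup P) :
    M.IsSubsystemOf D := by
  let X : FusionSystem V :=
    { Hom := fun P => {φ | φ ∈ D.Hom P ∧ P ≤ V ∧ ∀ x : P, φ x ∈ V}
      le_of_mem := fun h => h.2
      injective_of_mem := fun h => D.injective_of_mem h.1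
      conj_mem := fun {P g} hP hg => ⟨D.conj_mem (hP.trans hVU) (hVU hg), hP,
        fun x => V.mul_mem (V.mul_mem hg (hP x.2)) (V.inv_mem hg)⟩
      comp_mem := fun hφ hψ h => ⟨D.comp_mem hφ.1 hψ.1 h, hφ.2.1, fun x => hψ.2.2 _⟩
      inv_mem := fun {P φ} hφ => by
        obtain ⟨ψ, hψ, -, hψv, hψr⟩ := exists_inv hφ.1 rfl
        refine ⟨ψ, ⟨hψ, ?_, fun y => hφ.2.1 (hψr y).1⟩, fun x => hψv x _⟩
        rintro _ ⟨x, rfl⟩
        exact hφ.2.2 x }
  have hle : M ≤ X := subsystem_le_of_residual hS (hVU.trans hUS) hMs hsub fun P hP α hα =>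
    (mem_autGroup_iff hP).2 ⟨(mem_autGroup_iff (hP.trans hVU)).1 (hres P (hP.trans hVU) hα), hP,
      fun x => hP (α x).2⟩
  exact fun P φ h => (hle P h).1

/-- Perfect invariant subsystems lie in the residual limit. -/
theorem perfect_le_limit {U : Subgroup Ω} {L : FusionSystem U} (hL : L.IsResidualLimitOf F p) :
    p.Prime → Finite S → IsPGroup p S → F.IsSaturated p →
      ∀ {V : Subgroup Ω} (M : FusionSystem V), M.IsSaturated p → M.IsInvariantIn F →
        M.hyperfocalSubgroup p = V → M.IsPPrimeResidual p M → M.IsSubsystemOf L := by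
  induction hL with
  | stable F p _ _ => exact fun _ _ _ _ _ M _ hMi _ _ => hMi.1
  | step F p D D' hD hD' _ ih =>
      intro hq hfin hS hF V M hMs hMi hMh hMr
      have := Fact.mk hq
      have hVH : V ≤ F.hyperfocalSubgroup p := hMh ▸ hyperfocal_mono hMi.1 hMi.2.1.1
      have hH : F.hyperfocalSubgroup p ≤ _ := hyperfocal_le
      have := finite_le hH
      have hHp : IsPGroup p (F.hyperfocalSubgroup p) := hS.to_le hH
      have hMD : M.IsSubsystemOf D := le_of_pPowerIndex hS hH hVH hMs hMi.1 hD.2.2.2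
      have hMiD := invariant_inherit hS hD.1 hD.2.1 hMi hMD
      have hD'n := pPrimeResidual_normal hHp hD.1 hD.1 isInvariantIn_refl hD'
      have hMD' : M.IsSubsystemOf D' := le_of_primeIndex hHp hD.1 hD'.1 hD'n.1.2.2
        (fun R hR a ha hk => hD'.2.1.2 R hR (mem_closure_pow ha hk)) hMs hMiD hMr
      exact ih hq inferInstance hHp hD'.1 M hMs (invariant_inherit hHp hD'.1 hD'.2.1.1 hMiD hMD')
        hMh hMr

end CfsgLib.Fusion
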