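import Cfsg.Agent.Lib.Fusion.EnvelopePPower
import Cfsg.Agent.Lib.Fusion.EnvelopePrime
import Cfsg.Agent.Lib.Fusion.ResidualPerfect
import Cfsg.Prelude.Def_Local

/-!
# The envelope of a normal subsystem with `p`-solvable automizer quotient
-/

set_option autoImplicit false

namespace CfsgLib.Fusion

open Cfsg Cfsg.FusionSystem

universe u

/-- Every subgroup between `K` and `A` not in `K` has a proper normal subgroup containing `K`
of index a power of `p` or prime to `p`. -/
def Splits {G : Type*} [Group G] (p : ℕ) (K A : Subgroup G) : Prop :=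
  ∀ A' : Subgroup G, K ≤ A' → A' ≤ A → ¬ A' ≤ K → ∃ N : Subgroup G, K ≤ N ∧ N ≤ A' ∧ ¬ A' ≤ N ∧
    (∀ a ∈ A', ∀ x ∈ N, a * x * a⁻¹ ∈ N) ∧
    ((∃ m : ℕ, N.relIndex A' = p ^ m) ∨ (N.relIndex A').Coprime p)

/-- A `p`-solvable quotient splits. -/
theorem splits_of_pSolvable {G : Type*} [Group G] {p : ℕ} [Fact p.Prime] {K A : Subgroup G}
    [Finite A] [hn : (K.subgroupOf A).Normal]
    (h : IsPSolvable p (A ⧸ K.subgroupOf A)) : Splits p K A := by
  intro A' hKA' hA'A hne
  obtain ⟨n, H, h0, hlast, hmono, hnorm, hfac⟩ := h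
  let π : A' →* A ⧸ K.subgroupOf A :=
    (QuotientGroup.mk' (K.subgroupOf A)).comp (Subgroup.inclusion hA'A)
  have hπ : ∀ a : A', π a = 1 ↔ (a : G) ∈ K := fun a =>
    (QuotientGroup.eq_one_iff _).trans Subgroup.mem_subgroupOf
  classical
  have hex : ∃ i, π.range ≤ H i := ⟨Fin.last n, hlast ▸ le_top⟩
  obtain ⟨i, hi, hmin⟩ : ∃ i, π.range ≤ H i ∧ ∀ j, j < i → ¬ π.range ≤ H j :=
    ⟨Fin.find _ hex, Fin.find_spec hex, fun j hj => Fin.find_min hex hj⟩
  have hi0 : i ≠ 0 := by
    rintro rfl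
    refine hne fun a ha => (hπ ⟨a, ha⟩).1 ?_
    have h1 := hi ⟨⟨a, ha⟩, rfl⟩
    rw [h0] at h1
    exact Subgroup.mem_bot.1 h1
  obtain ⟨j, rfl⟩ := Fin.exists_succ_eq.2 hi0
  have := hnorm j.castSucc
  refine ⟨((H j.castSucc).comap π).map A'.subtype, fun a ha => ⟨⟨a, hKA' ha⟩, ?_, rfl⟩,
    Subgroup.map_subtype_le _, fun hle => ?_, ?_, ?_⟩
  · show π ⟨a, hKA' ha⟩ ∈ H j.castSucc
    rw [(hπ _).2 ha]
    exact one_mem _
  · refine hmin j.castSucc Fin.castSucc_lt_succ ?_
    rintro _ ⟨a, rfl⟩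
    obtain ⟨b, hb, hba⟩ := hle a.2
    rwa [show a = b from Subtype.ext hba.symm]
  · rintro a ha _ ⟨x, hx, rfl⟩
    exact ⟨⟨a, ha⟩ * x * ⟨a, ha⟩⁻¹, Subgroup.Normal.conj_mem inferInstance x hx _, rfl⟩
  · have hidx : (((H j.castSucc).comap π).map A'.subtype).relIndex A' =
        (H j.castSucc).relIndex π.range := by
      rw [Subgroup.relIndex, Subgroup.subgroupOf, Subgroup.comap_map_eq_self_of_injective
        A'.subtype_injective, Subgroup.index_comap]
    have hdvd : (H j.castSucc).relIndex π.range ∣ (H j.castSucc).relIndex (H j.succ) := by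
      have : ((H j.castSucc).subgroupOf (H j.succ)).Normal := Subgroup.Normal.subgroupOf this _
      have h1 := Subgroup.relIndex_dvd_index_of_normal ((H j.castSucc).subgroupOf (H j.succ))
        (π.range.subgroupOf (H j.succ))
      rwa [Subgroup.relIndex_subgroupOf hi] at h1
    rw [hidx]
    rcases hfac j with ⟨m, hm⟩ | hc
    · obtain ⟨k, -, hk⟩ := (Nat.dvd_prime_pow Fact.out).1 (hm ▸ hdvd)
      exact Or.inl ⟨k, hk⟩
    · exact Or.inr (hc.coprime_dvd_left hdvd)

variable {Ω : Type u} [Group Ω] {T : Subgroup Ω} {E : FusionSystem T} {p : ℕ} [Fact p.Prime]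

/-- The envelope exists. -/
theorem exists_envelope : ∀ (n : ℕ) {S : Subgroup Ω} [Finite S] {F : FusionSystem S},
    IsPGroup p S → E.IsNormalIn F p → Splits p (E.autGroup T) (F.autGroup T) →
    Nat.card (F.autGroup T) ≤ n → ∀ R : Subgroup Ω, R = T ⊔ centralizerIn S T →
    ∃ D : FusionSystem R, Envelope p F E D := by
  intro n
  induction n with
  | zero =>
      intro S _ F hS hE _ hn
      have := finite_mulAut_of_le (S := S) hE.1.2.2.2.1.1
      exact absurd hn (Nat.card_pos (α := F.autGroup T)).not_ge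
  | succ n ih =>
      intro S _ F hS hE hsplit hn R hR
      have hE' := hE
      obtain ⟨⟨hEs, hF, hEi⟩, -⟩ := hE'
      have hT := hEi.2.1
      have hTS := hT.1
      have := finite_mulAut_of_le (S := S) hTS
      have := finite_le hTS
      have hKA : E.autGroup T ≤ F.autGroup T := fun a ha =>
        (mem_autGroup_iff hTS).2 (hEi.1 T ((mem_autGroup_iff le_rfl).1 ha))
      by_cases hAK : F.autGroup T ≤ E.autGroup T
      · have hsyl := (IsSaturated.fullyAutomized (hS.to_le hTS) hEs isFullyNormalized_self).2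
        have hXK : autInducedBy S T ≤ E.autGroup T :=
          (autInducedBy_le_autGroup hTS).trans hAK
        obtain ⟨k, hk, hkv⟩ := IsSylowIn.exists_conj_mem hsyl hXK (isPGroup_autInducedBy hS)
        have hPX : autInducedBy T T ≤ autInducedBy S T := fun a ha => by
          obtain ⟨t, ht, htv⟩ := mem_autInducedBy_iff.1 ha
          exact mem_autInducedBy_iff.2 ⟨t, hTS ht, htv⟩
        have hXP : autInducedBy T T = autInducedBy S T := by
          refine Subgroup.eq_of_le_of_card_ge hPX ?_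
          rw [← Subgroup.card_map_of_injective (K := autInducedBy S T) (MulAut.conj k).injective
            (f := (MulAut.conj k).toMonoidHom)]
          exact Subgroup.card_le_of_le (by rintro _ ⟨x, hx, rfl⟩; exact hkv x hx)
        have hRS : R = S := by
          rw [hR]
          refine le_antisymm (sup_le hTS (centralizerIn_le T)) fun s hs => ?_
          have hsT := StronglyClosed.normal_in hT hs
          have h1 : T.normalizerMonoidHom ⟨s, hsT⟩ ∈ autInducedBy T T :=
            hXP.ge (mem_autInducedBy_iff.2 ⟨s, hs, fun x => rfl⟩)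
          obtain ⟨t, ht, htv⟩ := mem_autInducedBy_iff.1 h1
          rw [show s = t * (t⁻¹ * s) by group]
          refine mul_mem (Subgroup.mem_sup_left ht) (Subgroup.mem_sup_right
            (mem_centralizerIn.2 ⟨S.mul_mem (S.inv_mem (hTS ht)) hs, fun y hy => ?_⟩))
          have h2 : s * y * s⁻¹ = t * y * t⁻¹ := htv ⟨y, hy⟩
          calc y * (t⁻¹ * s) = t⁻¹ * (t * y * t⁻¹) * s := by group
            _ = t⁻¹ * (s * y * s⁻¹) * s := by rw [h2]
            _ = t⁻¹ * s * y := by group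
        subst hRS
        exact ⟨F, stronglyClosed_top, ⟨hF, fun P => subset_rfl, hEi.1, hAK⟩,
          fun D' hD' => hD'.2.1, fun P _ φ hφ => ⟨1, one_mem _, φ, hφ, fun _ _ => rfl⟩,
          fun M _ h2 _ _ => h2.1⟩
      · obtain ⟨N, hKN, hNA, hne, hNn, hidx⟩ := hsplit _ hKA le_rfl hAK
        have := finite_mulAut_of_le (S := S) hTS
        have hlt : ∀ {X : Subgroup (MulAut T)}, X ≤ N → Nat.card X ≤ n := fun hX => by
          have h1 := Subgroup.card_le_of_le hX
          have h2 : Nat.card N < Nat.card (F.autGroup T) :=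
            lt_of_le_of_ne (Subgroup.card_le_of_le hNA) fun e =>
              hne (Subgroup.eq_of_le_of_card_ge hNA e.ge).ge
          omega
        rcases hidx with ⟨m, hm⟩ | hcop
        · obtain ⟨U, G, hRU, hUS, hhU, hGs, hGi, hEG, hGidx, hGN⟩ :=
            exists_pPower_step hS hE hKN hNn hm
          have := finite_le hUS
          have hCeq := centralizerIn_eq_of_le hUS (le_sup_right.trans hRU)
          obtain ⟨D, hD⟩ := ih (hS.to_le hUS) hEG
            (fun A' h1 h2 => hsplit A' h1 (h2.trans (hGN.trans hNA))) (hlt hGN) R (by rw [hCeq, hR])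
          have hRU' : R ≤ U := hR.le.trans hRU
          refine ⟨D, Envelope.up hS hT hGs hGi hR hRU' (fun D' hD' => ?_) (fun M h1 h2 h3 _ => ?_) hD⟩
          · exact le_of_pPowerIndex hS hUS hRU' hD'.1 hD'.2.1 hGidx.2.2
          · refine le_of_pPowerIndex hS hUS ?_ h1 h2.1 hGidx.2.2
            exact h3 ▸ (hyperfocal_mono h2.1 h2.2.1.1).trans hhU
        · obtain ⟨G, hGs, hGi, hEG, hGN, hGp, hGc⟩ :=
            exists_primeIndex_step hS hE hKN hNn hne hcop
          obtain ⟨D, hD⟩ := ih hS hEG (fun A' h1 h2 => hsplit A' h1 (h2.trans (hGN.trans hNA)))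
            (hlt hGN) R hR
          exact ⟨D, Envelope.up hS hT hGs hGi hR (hR.le.trans (sup_le hTS (centralizerIn_le T)))
            (fun D' hD' => hGc D' (le_sup_left.trans hR.ge) hD')
            (fun M h1 h2 _ h4 => le_of_primeIndex hS hF hGs hGi hGp h1 h2 h4) hD⟩

variable {S R : Subgroup Ω} {F : FusionSystem S} {D : FusionSystem R} [Finite S]

/-- The envelope is normal. -/
theorem Envelope.isNormalIn (hS : IsPGroup p S) (hE : E.IsNormalIn F p)
    (hR : R = T ⊔ centralizerIn S T) (hD : Envelope p F E D) : D.IsNormalIn F p := by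
  have hE' := hE
  obtain ⟨⟨hEs, hF, hEi⟩, -⟩ := hE'
  have hT := hEi.2.1
  have hRS := hD.closed.1
  have hTR : T ≤ R := le_sup_left.trans hR.ge
  have := finite_le hRS
  have := finite_le hT.1
  refine isNormalIn_of_centralizer_le hD.cand.1 hF ⟨hD.cand.2.1, hD.closed, ?_, hD.frattini⟩ ?_
  swap
  · exact fun x hx => (le_sup_right.trans hR.ge) (centralizerIn_antitone hTR hx)
  intro P hPR φ hφ α hα
  set f : MulAut R := α⁻¹ with hf
  have hαR := (mem_autGroup_iff hRS).1 hα
  obtain ⟨k, hk, hkv⟩ := exists_restrict_aut hRS hTR hα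
    fun r hr => StronglyClosed.apply_mem hT hαR hr
  have hki : ∀ (y : Ω) (hy : y ∈ T),
      ((f ⟨y, hTR hy⟩ : R) : Ω) = ((k⁻¹ ⟨y, hy⟩ : T) : Ω) := by
    intro y hy
    have h1 := hkv _ (k⁻¹ ⟨y, hy⟩).2
    rw [Subtype.coe_eta, MulAut.apply_inv_self] at h1
    have h2 : α ⟨((k⁻¹ ⟨y, hy⟩ : T) : Ω), hTR (k⁻¹ ⟨y, hy⟩).2⟩ = ⟨y, hTR hy⟩ := Subtype.ext h1
    rw [hf, ← h2, MulAut.inv_apply_self]
  have htw : EnvCand p F E (twistSystem D f) := by
    refine ⟨(twistSystem_sysEquiv D f).saturated hD.cand.1, ?_, ?_, ?_⟩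
    · rintro Q χ ⟨hQ, hχR, χ', hχ', hv⟩
      have h1 : ∀ y : Q, ((α⁻¹ (Subgroup.inclusion hQ y) : R) : Ω) ∈ mapS f Q :=
        fun y => apply_mem_mapS hQ y
      refine hom_congr (topConj_mem_of_aut hRS hα (hD.cand.2.1 _ hχ') hQ h1 (hom_apply_mem hχ'))
        fun y => ?_
      rw [topConj_apply]
      refine Eq.trans ?_ (congrArg (fun w => ((α w : R) : Ω))
        (Subtype.ext (hv y (hQ y.2) (hχR y) (apply_mem_mapS hQ y)).symm))
      exact (congrArg Subtype.val (MulAut.apply_inv_self _ α ⟨χ y, hχR y⟩)).symm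
    · intro Q e he
      have hQT := hom_le he
      have heT := hom_apply_mem he
      obtain ⟨χ, hχ, hv⟩ := hEi.2.2.1 Q hQT e he k⁻¹ (inv_mem hk)
      have hle : mapS f Q ≤ (Q.subgroupOf T).map (T.subtype.comp (k⁻¹).toMonoidHom) := by
        rintro _ ⟨r, hr, rfl⟩
        exact ⟨⟨r, hQT hr⟩, hr, (hki r (hQT hr)).symm⟩
      refine ⟨hQT.trans hTR, fun x => hTR (heT x), _, restrict_mem (hD.cand.2.2.1 _ hχ) hle,
        fun x hx hex hm => ?_⟩
      have h1 : ((k⁻¹ ⟨(x : Ω), hQT x.2⟩ : T) : Ω) ∈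
          (Q.subgroupOf T).map (T.subtype.comp (k⁻¹).toMonoidHom) :=
        ⟨⟨x, hQT x.2⟩, x.2, rfl⟩
      refine Eq.trans (congrArg χ (Subtype.ext ?_)) ((hv x (heT x) h1).trans (hki _ (heT x)).symm)
      exact hki x (hQT x.2)
    · intro a ha
      obtain ⟨-, haT, χ', hχ', hv⟩ := (mem_autGroup_iff hTR).1 ha
      have hmem : ∀ t : T, ((f ⟨(t : Ω), hTR t.2⟩ : R) : Ω) ∈ mapS f T := fun t =>
        apply_mem_mapS hTR t
      have hTm : mapS f T = T := by
        refine le_antisymm ?_ fun y hy => ?_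
        · rintro _ ⟨r, hr, rfl⟩
          show ((f ⟨(r : Ω), hTR hr⟩ : R) : Ω) ∈ T
          rw [hki (r : Ω) hr]
          exact SetLike.coe_mem _
        · have h1 := hmem (k ⟨y, hy⟩)
          rwa [hki _ (k ⟨y, hy⟩).2, Subtype.coe_eta, MulAut.inv_apply_self] at h1
      have hb : k⁻¹ * a * k ∈ D.autGroup T := by
        refine (mem_autGroup_iff hTR).2 (restrict_mem' hχ' hTm.ge fun x => ?_)
        have h1 := hv (k x) (hTR (k x).2) (hTR (a (k x)).2) (hmem (k x))
        show ((k⁻¹ (a (k x)) : T) : Ω) = χ' ⟨(x : Ω), _⟩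
        have e1 : ((f ⟨((k x : T) : Ω), hTR (k x).2⟩ : R) : Ω) = x := by
          rw [hki _ (k x).2, Subtype.coe_eta, MulAut.inv_apply_self]
        exact ((hki _ (a (k x)).2).symm.trans h1.symm).trans (congrArg χ' (Subtype.ext e1))
      have h2 := invariant_conj_mem hEi le_rfl (hD.cand.2.2.2 hb) hk
      rwa [show k * (k⁻¹ * a * k) * k⁻¹ = a by group] at h2
  obtain ⟨χ, hχ, hv⟩ := (twistSystem_sysEquiv D f).1 P φ hφ
  exact ⟨χ, hD.greatest _ htw _ hχ, fun x hφx hαx => hv x (hPR x.2) hφx hαx⟩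

end CfsgLib.Fusion
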