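import Cfsg.Agent.Lib.Fusion.Envelope
import Cfsg.Agent.Lib.Fusion.CentralizerSubsystem

/-!
# Residual limits and the envelope
-/

set_option autoImplicit false

namespace CfsgLib.Fusion

open Cfsg Cfsg.FusionSystem

universe u

variable {Ω : Type u} [Group Ω] {S T : Subgroup Ω} {F : FusionSystem S} {E : FusionSystem T}
  {p : ℕ} [Fact p.Prime] [Finite S]

/-- When `C_S(E) ≤ T` the focal subgroup of the envelope lies in `T`. -/
theorem envelope_focal_le (hS : IsPGroup p S) (hE : E.IsNormalIn F p) (hle : centOf F E ≤ T)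
    {D : FusionSystem (T ⊔ centralizerIn S T : Subgroup Ω)} (hD : Envelope p F E D) :
    D.focalSubgroup ≤ T := by
  have hE' := hE
  obtain ⟨⟨hEs, hF, hEi⟩, hEext⟩ := hE'
  have hT := hEi.2.1
  have hTS := hT.1
  have hRS := hD.closed.1
  have := finite_le hRS
  have := finite_le hTS
  have hfoc : centFocal F T ≤ T :=
    (le_sSup (show centFocal F T ∈ {Y | CentBy F E Y} from centBy_centFocal hS hE)).trans hle
  have hEiD := invariant_inherit hS hD.cand.1 hD.cand.2.1 hEi hD.cand.2.2.1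
  have hTD := hEiD.2.1
  refine (Subgroup.closure_le _).2 ?_
  rintro _ ⟨P, φ, x, hφ, rfl⟩
  obtain ⟨-, ψ, hψ, hψv⟩ := le_liftSystem (hS.to_le hRS) hD.cand.1 hTD P hφ
  obtain ⟨γ, hγ, hγv⟩ := exists_iso (restrict_mem hψ (le_sup_right : T ≤ P ⊔ T))
    ((StronglyClosed.weaklyClosed hTD).2 _ (restrict_mem hψ (le_sup_right : T ≤ P ⊔ T)))
  have hγE : (γ : MulAut T) ∈ E.autGroup T :=
    hD.cand.2.2.2 ((mem_autGroup_iff_isoIn hTD.1).2 hγ)
  obtain ⟨β, hβ, hβT, hβC⟩ := hEext _ hγE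
  have hβi := (mem_autGroup_iff hRS).1 (inv_mem hβ)
  have hψR : ∀ w, ψ w ∈ T ⊔ centralizerIn S T := hom_apply_mem hψ
  obtain ⟨χ, hχ, hχv⟩ : ∃ χ ∈ F.Hom (P ⊔ T), ∀ w,
      χ w = ((β⁻¹ ⟨ψ w, hψR w⟩ : ↥(T ⊔ centralizerIn S T)) : Ω) :=
    ⟨_, F.comp_mem (hD.cand.2.1 _ hψ) hβi hψR, fun w => rfl⟩
  have hfix : ∀ r : ↥(P ⊔ T), (r : Ω) ∈ T → χ r = r := by
    intro r hr
    rw [hχv, show (⟨ψ r, hψR r⟩ : ↥(T ⊔ centralizerIn S T)) =
      β (Subgroup.inclusion le_sup_left ⟨(r : Ω), hr⟩) from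
        Subtype.ext ((hγv ⟨(r : Ω), hr⟩).symm.trans (hβT ⟨(r : Ω), hr⟩).symm),
      MulAut.inv_apply_self]
    rfl
  have hxR : (x : Ω) ∈ T ⊔ centralizerIn S T := hom_le hφ x.2
  have hTC : T ≤ Subgroup.normalizer (centralizerIn S T : Set Ω) := by
    refine Subgroup.le_normalizer_iff.2 fun t ht c hc => ?_
    rw [(mem_centralizerIn.1 hc).2 t ht, mul_inv_cancel_right]
    exact hc
  rw [← SetLike.mem_coe, Subgroup.coe_mul_of_left_le_normalizer_right _ _ hTC] at hxR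
  obtain ⟨t, ht, c, hc, hxtc⟩ := hxR
  change t * c = (x : Ω) at hxtc
  have hcm : c ∈ P ⊔ T := by
    rw [show c = t⁻¹ * x by rw [← hxtc, inv_mul_cancel_left]]
    exact mul_mem (Subgroup.mem_sup_right (T.inv_mem ht)) (Subgroup.mem_sup_left x.2)
  have hf := hfoc (shift_mem_centFocal hχ le_sup_right hfix ⟨c, hcm⟩ hc)
  set c₁ : ↥(T ⊔ centralizerIn S T) := ⟨c, Subgroup.mem_sup_right hc⟩
  set f₁ : ↥(T ⊔ centralizerIn S T) :=
    Subgroup.inclusion le_sup_left (⟨(c : Ω)⁻¹ * χ ⟨c, hcm⟩, hf⟩ : T) with hf₁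
  have e1 : β⁻¹ ⟨ψ ⟨c, hcm⟩, hψR _⟩ = c₁ * f₁ := by
    refine Subtype.ext ?_
    rw [← hχv]
    exact (mul_inv_cancel_left c _).symm
  have e2 : (⟨ψ ⟨c, hcm⟩, hψR _⟩ : ↥(T ⊔ centralizerIn S T)) = β (c₁ * f₁) := by
    rw [← e1, MulAut.apply_inv_self]
  have hcψ : c⁻¹ * ψ ⟨c, hcm⟩ ∈ T := by
    have h1 : ψ ⟨c, hcm⟩ = ((β c₁ : _) : Ω) * ((β f₁ : _) : Ω) := by
      rw [← Subgroup.coe_mul, ← map_mul]
      exact congrArg Subtype.val e2
    rw [h1, ← mul_assoc]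
    refine T.mul_mem (hβC c₁ hc).1 ?_
    rw [hf₁, hβT]
    exact SetLike.coe_mem _
  have htψ : t⁻¹ * ψ ⟨t, Subgroup.mem_sup_right ht⟩ ∈ T :=
    T.mul_mem (T.inv_mem ht) (StronglyClosed.apply_mem hTD hψ ht)
  have hxψ : ψ (Subgroup.inclusion le_sup_left x) =
      ψ ⟨t, Subgroup.mem_sup_right ht⟩ * ψ ⟨c, hcm⟩ := by
    rw [← map_mul]
    exact congrArg ψ (Subtype.ext hxtc.symm)
  show (x : Ω)⁻¹ * φ x ∈ T
  have hcomm : t⁻¹ * ψ ⟨t, Subgroup.mem_sup_right ht⟩ * c⁻¹ =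
      c⁻¹ * (t⁻¹ * ψ ⟨t, Subgroup.mem_sup_right ht⟩) :=
    (mem_centralizerIn.1 (Subgroup.inv_mem _ hc)).2 _ htψ
  have key : (x : Ω)⁻¹ * φ x = t⁻¹ * ψ ⟨t, Subgroup.mem_sup_right ht⟩ * (c⁻¹ * ψ ⟨c, hcm⟩) *
      ((ψ (Subgroup.inclusion le_sup_left x))⁻¹ * φ x) := by
    rw [← mul_assoc (t⁻¹ * ψ ⟨t, Subgroup.mem_sup_right ht⟩) c⁻¹, hcomm, hxψ, ← hxtc]
    group
  rw [key]
  exact T.mul_mem (T.mul_mem htψ hcψ) (hψv x)

/-- Residual limits of the system and of the envelope. -/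
theorem envelope_limit (hS : IsPGroup p S) (hF : F.IsSaturated p) (hE : E.IsNormalIn F p)
    {R : Subgroup Ω} (hR : R = T ⊔ centralizerIn S T) {D : FusionSystem R}
    (hD : Envelope p F E D) {U : Subgroup Ω} {Finf : FusionSystem U}
    (hFinf : Finf.IsResidualLimitOf F p) :
    Finf.IsSubsystemOf D ∧ ∀ {V : Subgroup Ω} (L : FusionSystem V), L.IsResidualLimitOf D p →
      ∀ P : Subgroup Ω, L.Hom P = Finf.Hom P := by
  have hq : p.Prime := Fact.out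
  obtain ⟨h1, h2, h3, -, h5⟩ := residualLimit_facts hFinf hq inferInstance hS hF
  have hi := h5 F inferInstance hS hF isInvariantIn_refl
  have hsub := hD.perfect Finf h1 hi h2 h3
  refine ⟨hsub, fun L hL P => ?_⟩
  have hDn := hD.isNormalIn hS hE hR
  have hRS := hD.closed.1
  have hfin := finite_le hRS
  have hRp := hS.to_le hRS
  obtain ⟨k1, k2, k3, -, k5⟩ := residualLimit_facts hL hq hfin hRp hD.cand.1
  refine Set.Subset.antisymm
    (perfect_le_limit hFinf hq inferInstance hS hF L k1 (k5 F inferInstance hS hF hDn.1.2.2) k2 k3 P)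
    (perfect_le_limit hL hq hfin hRp hD.cand.1 Finf h1
      (invariant_inherit hS hD.cand.1 hD.cand.2.1 hi hsub) h2 h3 P)

end CfsgLib.Fusion
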