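import Cfsg.Agent.Lib.Fusion.NormalCentralizer
import Cfsg.Agent.Lib.Fusion.ConstrainedNormal

/-!
# The automorphisms with an extension as in the definition of normality
-/

set_option autoImplicit false

namespace CfsgLib.Fusion

open Cfsg Cfsg.FusionSystem

universe u

variable {Ω : Type u} [Group Ω] {S T : Subgroup Ω} {F : FusionSystem S} {E : FusionSystem T}
  {p : ℕ}

/-- `α` extends to `T C_S(T)` moving the elements of `C_S(T)` by elements of `Z(T)`. -/
def ExtAut (F : FusionSystem S) (T : Subgroup Ω) (α : MulAut T) : Prop :=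
  ∃ β ∈ F.autGroup (T ⊔ centralizerIn S T),
    (∀ x : T, ((β (Subgroup.inclusion le_sup_left x) : ↥(T ⊔ centralizerIn S T)) : Ω) =
        ((α x : T) : Ω)) ∧
      ∀ c : ↥(T ⊔ centralizerIn S T), (c : Ω) ∈ centralizerIn S T →
        (c : Ω)⁻¹ * ((β c : ↥(T ⊔ centralizerIn S T)) : Ω) ∈ T ⊓ Subgroup.centralizer (T : Set Ω)

/-- An extension keeps the centralizer. -/
theorem ext_mem_centralizer (hTS : T ≤ S) {α : MulAut T}
    {β : MulAut ↥(T ⊔ centralizerIn S T)}
    (hβ : ∀ x : T, ((β (Subgroup.inclusion le_sup_left x) : _) : Ω) = ((α x : T) : Ω))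
    (c : ↥(T ⊔ centralizerIn S T)) (hc : (c : Ω) ∈ centralizerIn S T) :
    ((β c : _) : Ω) ∈ centralizerIn S T := by
  refine mem_centralizerIn.2 ⟨sup_le hTS (centralizerIn_le T) (β c).2, fun y hy => ?_⟩
  obtain ⟨x, hx⟩ : ∃ x : T, α x = ⟨y, hy⟩ := ⟨α⁻¹ ⟨y, hy⟩, MulAut.apply_inv_self T α _⟩
  have e : ((β (Subgroup.inclusion le_sup_left x) : _) : Ω) = y := by rw [hβ, hx]
  rw [← e, ← Subgroup.coe_mul, ← Subgroup.coe_mul, ← map_mul, ← map_mul]
  congr 2
  exact Subtype.ext ((mem_centralizerIn.1 hc).2 x x.2)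

theorem ExtAut.one : ExtAut F T 1 :=
  ⟨1, one_mem _, fun x => rfl, fun c _ => by
    rw [MulAut.one_apply, inv_mul_cancel]; exact one_mem _⟩

theorem ExtAut.mul (hTS : T ≤ S) {a b : MulAut T} (ha : ExtAut F T a) (hb : ExtAut F T b) :
    ExtAut F T (a * b) := by
  obtain ⟨β, hβ, hβT, hβC⟩ := ha
  obtain ⟨γ, hγ, hγT, hγC⟩ := hb
  refine ⟨β * γ, mul_mem hβ hγ, fun x => ?_, fun c hc => ?_⟩
  · rw [MulAut.mul_apply, show γ (Subgroup.inclusion le_sup_left x) =
      Subgroup.inclusion le_sup_left (b x) from Subtype.ext (hγT x), hβT]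
    rfl
  · have h := mul_mem (hγC c hc) (hβC (γ c) (ext_mem_centralizer hTS hγT c hc))
    rw [mul_assoc, mul_inv_cancel_left] at h
    exact h

/-- Extensions of all elements from those of order prime to `p`. -/
theorem extAut_of_pPrime [Fact p.Prime] [Finite S] (hS : IsPGroup p S) (hTS : T ≤ S)
    (hEs : E.IsSaturated p)
    (h : ∀ α ∈ E.autGroup T, (∃ n : ℕ, α ^ n = 1 ∧ n.Coprime p) → ExtAut F T α) :
    ∀ α ∈ E.autGroup T, ExtAut F T α := by
  have := finite_le hTS
  have := finite_mulAut_of_le (S := S) hTS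
  have hMS : T ⊔ centralizerIn S T ≤ S := sup_le hTS (centralizerIn_le T)
  let H : Subgroup (MulAut T) :=
    { carrier := {α | ExtAut F T α}
      one_mem' := ExtAut.one
      mul_mem' := fun ha hb => ExtAut.mul hTS ha hb
      inv_mem' := fun {a} ha => by
        obtain ⟨n, hn⟩ := mem_powers_iff_mem_zpowers.2
          (Subgroup.inv_mem _ (Subgroup.mem_zpowers a))
        show ExtAut F T a⁻¹
        rw [← show a ^ n = a⁻¹ from hn]
        clear hn
        induction n with
        | zero => exact ExtAut.one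
        | succ n ih => rw [pow_succ]; exact ExtAut.mul hTS ih ha }
  have hinner : autInducedBy T T ≤ H := by
    intro α hα
    obtain ⟨t, ht, htv⟩ := mem_autInducedBy_iff.1 hα
    have htN : t ∈ Subgroup.normalizer ((T ⊔ centralizerIn S T : Subgroup Ω) : Set Ω) :=
      Subgroup.le_normalizer (le_sup_left (b := centralizerIn S T) ht)
    refine ⟨(T ⊔ centralizerIn S T).normalizerMonoidHom ⟨t, htN⟩,
      autInducedBy_le_autGroup hMS (mem_autInducedBy_iff.2 ⟨t, hTS ht, fun x => rfl⟩),
      fun x => (htv x).symm, fun c hc => ?_⟩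
    show (c : Ω)⁻¹ * (t * (c : Ω) * t⁻¹) ∈ _
    rw [(mem_centralizerIn.1 hc).2 t ht, mul_inv_cancel_right, inv_mul_cancel]
    exact one_mem _
  have hsyl := (IsSaturated.fullyAutomized (hS.to_le hTS) hEs isFullyNormalized_self).2
  exact fun α hα => le_of_sylow_of_coprime (p := p) (H := H) hsyl hinner h hα

/-- An automorphism of order prime to `p` with an extension has one of order prime to `p`. -/
theorem extAut_exists_pPrime [Fact p.Prime] [Finite S] (hTS : T ≤ S) {α : MulAut T}
    (hα : ExtAut F T α) {n : ℕ} (hn : α ^ n = 1) (hcop : n.Coprime p) :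
    ∃ β ∈ F.autGroup (T ⊔ centralizerIn S T), (orderOf β).Coprime p ∧
      (∀ x : T, ((β (Subgroup.inclusion le_sup_left x) : ↥(T ⊔ centralizerIn S T)) : Ω) =
        ((α x : T) : Ω)) ∧
      ∀ c : ↥(T ⊔ centralizerIn S T), (c : Ω) ∈ centralizerIn S T →
        (c : Ω)⁻¹ * ((β c : ↥(T ⊔ centralizerIn S T)) : Ω) ∈
          T ⊓ Subgroup.centralizer (T : Set Ω) := by
  obtain ⟨β, hβ, hβT, hβC⟩ := hα
  have hMS : T ⊔ centralizerIn S T ≤ S := sup_le hTS (centralizerIn_le T)
  have := finite_mulAut_of_le (S := S) hMS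
  obtain ⟨i, j, hij, ⟨e, he⟩, hj⟩ := exists_p_split (p := p) β
  have hpow : ∀ m : ℕ,
      (∀ x : T, (β ^ m) (Subgroup.inclusion le_sup_left x) =
          Subgroup.inclusion le_sup_left ((α ^ m) x)) ∧
        ∀ c : ↥(T ⊔ centralizerIn S T), (c : Ω) ∈ centralizerIn S T →
          (c : Ω)⁻¹ * (((β ^ m) c : _) : Ω) ∈ T ⊓ Subgroup.centralizer (T : Set Ω) := by
    intro m
    induction m with
    | zero =>
        exact ⟨fun x => rfl, fun c _ => by rw [pow_zero, MulAut.one_apply, inv_mul_cancel]; exact one_mem _⟩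
    | succ m ih =>
        refine ⟨fun x => ?_, fun c hc => ?_⟩
        · rw [pow_succ, pow_succ, MulAut.mul_apply, MulAut.mul_apply,
            show β (Subgroup.inclusion le_sup_left x) = Subgroup.inclusion le_sup_left (α x) from
              Subtype.ext (hβT x), ih.1]
        · rw [pow_succ, MulAut.mul_apply]
          have h := mul_mem (hβC c hc) (ih.2 (β c) (ext_mem_centralizer hTS hβT c hc))
          rwa [mul_assoc, mul_inv_cancel_left] at h
  have hai : α ^ i = 1 := by
    have h1 : (α ^ i) ^ p ^ e = 1 := by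
      refine MulEquiv.ext fun r => Subgroup.inclusion_injective
        (le_sup_left (b := centralizerIn S T)) ?_
      rw [← pow_mul, ← (hpow _).1, pow_mul, he]
      rfl
    refine orderOf_eq_one_iff.1 (Nat.eq_one_of_dvd_coprimes (hcop.symm.pow_left e)
      (orderOf_dvd_of_pow_eq_one h1) (orderOf_dvd_of_pow_eq_one ?_))
    rw [← pow_mul, mul_comm, pow_mul, hn, one_pow]
  have haj : α ^ j = α := by
    refine MulEquiv.ext fun r => Subgroup.inclusion_injective
      (le_sup_left (b := centralizerIn S T)) ?_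
    have h2 := (hpow (i + j)).1 r
    rw [pow_add β, hij, pow_add α, hai, one_mul] at h2
    exact h2.symm.trans (Subtype.ext (hβT r))
  refine ⟨β ^ j, pow_mem hβ j, hj, fun x => ?_, (hpow j).2⟩
  rw [(hpow j).1, haj]
  rfl

end CfsgLib.Fusion
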