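import Cfsg.Agent.Lib.Fusion.InvariantInherit
import Cfsg.Agent.Lib.Fusion.PPowerNormal
import Cfsg.Agent.Lib.Fusion.ExtSubgroup
import Cfsg.Agent.S5198
import Cfsg.Agent.S5199

/-!
# A subsystem of `p`-power index cutting down the automizer of `T`
-/

set_option autoImplicit false

namespace CfsgLib.Fusion

open Cfsg Cfsg.FusionSystem

universe u

variable {Ω : Type u} [Group Ω] {S T : Subgroup Ω} {F : FusionSystem S} {E : FusionSystem T}
  {p : ℕ} [Fact p.Prime] [Finite S]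

/-- An element of order prime to `p` lies in a normal subgroup of `p`-power index. -/
theorem mem_of_pPower_index {G : Type*} [Group G] {N A : Subgroup G} {m : ℕ}
    (hn : ∀ a ∈ A, ∀ x ∈ N, a * x * a⁻¹ ∈ N) (hm : N.relIndex A = p ^ m) {a : G} (ha : a ∈ A)
    (hc : (orderOf a).Coprime p) : a ∈ N := by
  have : (N.subgroupOf A).Normal := ⟨fun x hx b => hn b b.2 x hx⟩
  have h1 := Subgroup.pow_index_mem (N.subgroupOf A) (⟨a, ha⟩ : A)
  rw [show (N.subgroupOf A).index = p ^ m from hm, Subgroup.mem_subgroupOf,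
    SubgroupClass.coe_pow] at h1
  obtain ⟨l, hl⟩ := exists_pow_eq_self_of_coprime (n := p ^ m) (x := a)
    (Nat.Coprime.pow_left m hc.symm)
  rw [← hl]
  exact N.pow_mem h1 l

/-- The step for a normal subgroup of `p`-power index. -/
theorem exists_pPower_step (hS : IsPGroup p S) (hE : E.IsNormalIn F p)
    {N : Subgroup (MulAut T)} (hKN : E.autGroup T ≤ N)
    (hNn : ∀ a ∈ F.autGroup T, ∀ x ∈ N, a * x * a⁻¹ ∈ N) {m : ℕ}
    (hm : N.relIndex (F.autGroup T) = p ^ m) :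
    ∃ (U : Subgroup Ω) (G : FusionSystem U), T ⊔ centralizerIn S T ≤ U ∧ U ≤ S ∧
      F.hyperfocalSubgroup p ≤ U ∧ G.IsSaturated p ∧ G.IsInvariantIn F ∧ E.IsNormalIn G p ∧
      G.HasPPowerIndexIn F p ∧ G.autGroup T ≤ N := by
  have hE' := hE
  obtain ⟨⟨hEs, hF, hEi⟩, hEext⟩ := hE'
  have hT := hEi.2.1
  have hTS := hT.1
  have := finite_mulAut_of_le (S := S) hTS
  have hInn : ∀ t ∈ T, ∃ a ∈ N, ∀ x : T, ((a x : T) : Ω) = t * (x : Ω) * t⁻¹ := by
    intro t ht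
    refine ⟨MulAut.conj ⟨t, ht⟩, hKN (autInducedBy_le_autGroup le_rfl ?_), fun x => rfl⟩
    exact mem_autInducedBy_iff.2 ⟨t, ht, fun x => rfl⟩
  let U : Subgroup Ω :=
    { carrier := {s | s ∈ S ∧ ∃ a ∈ N, ∀ x : T, ((a x : T) : Ω) = s * (x : Ω) * s⁻¹}
      one_mem' := ⟨S.one_mem, 1, N.one_mem, fun x => by simp⟩
      mul_mem' := by
        rintro y z ⟨hy, a, ha, hav⟩ ⟨hz, b, hb, hbv⟩
        refine ⟨S.mul_mem hy hz, a * b, N.mul_mem ha hb, fun x => ?_⟩
        rw [MulAut.mul_apply, hav, hbv]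
        group
      inv_mem' := by
        rintro y ⟨hy, a, ha, hav⟩
        refine ⟨S.inv_mem hy, a⁻¹, N.inv_mem ha, fun x => ?_⟩
        have := hav (a⁻¹ x)
        rw [MulAut.apply_inv_self] at this
        rw [this]
        group }
  have hUS : U ≤ S := fun s hs => hs.1
  have hTU : T ≤ U := fun t ht => ⟨hTS ht, hInn t ht⟩
  have hCU : centralizerIn S T ≤ U := fun c hc => ⟨hc.1, 1, N.one_mem, fun x => by
    rw [MulAut.one_apply, ← (mem_centralizerIn.1 hc).2 x x.2, mul_inv_cancel_right]⟩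
  have hhU : F.hyperfocalSubgroup p ≤ U := by
    intro x hx
    obtain ⟨α, hα, hαv⟩ := Cfsg.Agent.S5198.result p hS F hF T hT x hx
    refine ⟨hyperfocal_le hx, α, ?_, hαv⟩
    refine (sup_le ?_ ?_ : (pResidual p (F.autGroup T)).map (F.autGroup T).subtype ⊔ Inn T ≤ N) hα
    · rw [Subgroup.map_le_iff_le_comap, pResidual, Subgroup.closure_le]
      intro a ha
      refine mem_of_pPower_index (A := F.autGroup T) hNn hm a.2 ?_
      show (orderOf (a : MulAut T)).Coprime p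
      rw [Subgroup.orderOf_coe]
      exact ha
    · rw [← autInducedBy_self]
      exact (autInducedBy_le_autGroup (F := E) le_rfl).trans hKN
  have hUn : ∀ s ∈ S, ∀ y ∈ U, s * y * s⁻¹ ∈ U := by
    rintro s hs y ⟨hy, a, ha, hav⟩
    have hsT := StronglyClosed.normal_in hT hs
    set c : MulAut T := T.normalizerMonoidHom ⟨s, hsT⟩ with hc
    have hcv : ∀ x : T, ((c x : T) : Ω) = s * (x : Ω) * s⁻¹ := fun x => rfl
    have hcF : c ∈ F.autGroup T :=
      autInducedBy_le_autGroup hTS (mem_autInducedBy_iff.2 ⟨s, hs, hcv⟩)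
    refine ⟨S.mul_mem (S.mul_mem hs hy) (S.inv_mem hs), c * a * c⁻¹, hNn c hcF a ha, fun x => ?_⟩
    have h1 := hcv (c⁻¹ x)
    rw [MulAut.apply_inv_self] at h1
    rw [MulAut.mul_apply, MulAut.mul_apply, hcv, hav, h1]
    group
  obtain ⟨G, hGs, hGi, -⟩ := exists_pPowerSystem hS hF hUS hhU
  have hGn := pPowerIndex_isNormalIn hS hF hUS hUn hhU hGs hGi
  have hEG : E.IsSubsystemOf G :=
    Cfsg.Agent.S5199.result p hS F hF E hE G hGn (sup_le hTU hhU) hGi
  have hEiG := invariant_inherit hS hGs hGi.1 hEi hEG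
  have := finite_le hUS
  have hUp : IsPGroup p U := hS.to_le hUS
  have hCeq : centralizerIn U T = centralizerIn S T :=
    le_antisymm (fun _ hx => ⟨hUS hx.1, hx.2⟩) fun _ hx => ⟨hCU hx, hx.2⟩
  refine ⟨U, G, sup_le hTU hCU, hUS, hhU, hGs, hGn.1.2.2, ⟨⟨hEs, hGs, hEiG⟩, ?_⟩, hGi, ?_⟩
  · refine extAut_of_pPrime hUp hTU hEs fun α hα ⟨n, hn, hcop⟩ => ?_
    obtain ⟨β, hβ, hβc, hβT, hβC⟩ :=
      extAut_exists_pPrime (p := p) hTS (hEext α hα) hn hcop
    have hMU : T ⊔ centralizerIn S T ≤ U := sup_le hTU hCU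
    have hβG : β ∈ G.autGroup (T ⊔ centralizerIn S T) :=
      hGi.2.2 _ hMU ⟨⟨β, hβ⟩, Subgroup.subset_closure (by
        show (orderOf (⟨β, hβ⟩ : F.autGroup _)).Coprime p
        rwa [Subgroup.orderOf_mk]), rfl⟩
    have h : ∀ W, W = centralizerIn S T → ∃ β ∈ G.autGroup (T ⊔ W),
        (∀ x : T, ((β (Subgroup.inclusion le_sup_left x) : ↥(T ⊔ W)) : Ω) = ((α x : T) : Ω)) ∧
          ∀ c : ↥(T ⊔ W), (c : Ω) ∈ W →
            (c : Ω)⁻¹ * ((β c : ↥(T ⊔ W)) : Ω) ∈ T ⊓ Subgroup.centralizer (T : Set Ω) := by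
      rintro _ rfl
      exact ⟨β, hβG, hβT, hβC⟩
    exact h _ hCeq
  · have hTfn := fullyNormalized_closed hEiG.2.1
    have hsyl := (IsSaturated.fullyAutomized hUp hGs hTfn).2
    refine le_of_sylow_of_coprime (p := p) (H := N) hsyl ?_ ?_
    · intro b hb
      obtain ⟨s, hs, hsv⟩ := mem_autInducedBy_iff.1 hb
      obtain ⟨-, a, ha, hav⟩ := hs
      rwa [show b = a from MulEquiv.ext fun x => Subtype.ext ((hsv x).trans (hav x).symm)]
    · rintro a ha ⟨n, hn, hcop⟩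
      exact mem_of_pPower_index hNn hm
        ((mem_autGroup_iff hTS).2 (hGi.1 T ((mem_autGroup_iff hTU).1 ha)))
        (hcop.coprime_dvd_left (orderOf_dvd_of_pow_eq_one hn))

end CfsgLib.Fusion
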