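import Cfsg.Agent.Lib.Fusion.InvariantInherit

/-!
# The envelope of a normal subsystem, passed up along a normal subsystem
-/

set_option autoImplicit false

namespace CfsgLib.Fusion

open Cfsg Cfsg.FusionSystem

universe u

variable {Ω : Type u} [Group Ω] {S T U R : Subgroup Ω} {F : FusionSystem S} {E : FusionSystem T}
  {p : ℕ}

/-- Saturated subsystems over `R` containing `E` and no further automorphisms of `T`. -/
def EnvCand (p : ℕ) (F : FusionSystem S) (E : FusionSystem T) (D : FusionSystem R) : Prop :=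
  D.IsSaturated p ∧ D.IsSubsystemOf F ∧ E.IsSubsystemOf D ∧ D.autGroup T ≤ E.autGroup T

/-- The envelope of `E` in `F` over `R`. -/
structure Envelope (p : ℕ) (F : FusionSystem S) (E : FusionSystem T) (D : FusionSystem R) :
    Prop where
  closed : F.StronglyClosed R
  cand : EnvCand p F E D
  greatest : ∀ D' : FusionSystem R, EnvCand p F E D' → D'.IsSubsystemOf D
  frattini : ∀ P : Subgroup Ω, P ≤ R → ∀ φ ∈ F.Hom P, ∃ α ∈ F.autGroup R, ∃ φ₀ ∈ D.Hom P,
    ∀ (x : P) (hx : φ₀ x ∈ R), φ x = ((α ⟨φ₀ x, hx⟩ : R) : Ω)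
  perfect : ∀ {V : Subgroup Ω} (M : FusionSystem V), M.IsSaturated p → M.IsInvariantIn F →
    M.hyperfocalSubgroup p = V → M.IsPPrimeResidual p M → M.IsSubsystemOf D

/-- The centralizer taken inside `U`. -/
theorem centralizerIn_eq_of_le (hUS : U ≤ S) (hC : centralizerIn S T ≤ U) :
    centralizerIn U T = centralizerIn S T :=
  le_antisymm (fun _ hx => ⟨hUS hx.1, hx.2⟩) fun _ hx => ⟨hC hx, hx.2⟩

/-- An automorphism in the system of `U` keeps `T C_S(T)`. -/
theorem apply_mem_sup_centralizer [Finite S] (hT : F.StronglyClosed T) (hRU : T ⊔ centralizerIn S T ≤ U)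
    (hUS : U ≤ S) {α : MulAut U} (hα : α ∈ F.autGroup U) {x : Ω}
    (hx : x ∈ T ⊔ centralizerIn S T) :
    ((α ⟨x, hRU hx⟩ : U) : Ω) ∈ T ⊔ centralizerIn S T := by
  have hαF := (mem_autGroup_iff hUS).1 hα
  refine range_le_of_gens (ψ := (U.subtype.comp α.toMonoidHom).comp (Subgroup.inclusion hRU))
    (fun t => Subgroup.mem_sup_left
      (StronglyClosed.apply_mem hT hαF (x := Subgroup.inclusion (le_sup_left.trans hRU) t) t.2))
    (fun c => Subgroup.mem_sup_right (mem_centralizerIn.2 ⟨hUS (α _).2, fun y hy => ?_⟩))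
    ⟨⟨x, hx⟩, rfl⟩
  set y' : U := α⁻¹ ⟨y, hRU (Subgroup.mem_sup_left hy)⟩ with hy'
  have hy'T : (y' : Ω) ∈ T :=
    StronglyClosed.apply_mem hT ((mem_autGroup_iff hUS).1 (inv_mem hα))
      (x := ⟨y, hRU (Subgroup.mem_sup_left hy)⟩) hy
  have e : y = ((α y' : U) : Ω) := by rw [hy', MulAut.apply_inv_self]
  let c' : U := Subgroup.inclusion hRU (Subgroup.inclusion le_sup_right c)
  show y * ((α c' : U) : Ω) = ((α c' : U) : Ω) * y
  rw [e, ← Subgroup.coe_mul, ← Subgroup.coe_mul, ← map_mul, ← map_mul]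
  refine congrArg (fun w : U => ((α w : U) : Ω)) (Subtype.ext ?_)
  exact (mem_centralizerIn.1 c.2).2 _ hy'T

/-- The envelope passed up from a normal subsystem containing all candidates and all invariant
perfect subsystems. -/
theorem Envelope.up [Fact p.Prime] [Finite S] (hS : IsPGroup p S) (hT : F.StronglyClosed T)
    {G : FusionSystem U} (hGs : G.IsSaturated p) (hG : G.IsInvariantIn F)
    (hR : R = T ⊔ centralizerIn S T) (hRU : R ≤ U)
    (hcand : ∀ D' : FusionSystem R, EnvCand p F E D' → D'.IsSubsystemOf G)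
    (hperf : ∀ {V : Subgroup Ω} (M : FusionSystem V), M.IsSaturated p → M.IsInvariantIn F →
      M.hyperfocalSubgroup p = V → M.IsPPrimeResidual p M → M.IsSubsystemOf G)
    {D : FusionSystem R} (hD : Envelope p G E D) : Envelope p F E D := by
  subst hR
  have hUS := hG.2.1.1
  have hRS : T ⊔ centralizerIn S T ≤ S := hRU.trans hUS
  refine ⟨⟨hRS, fun P hP φ hφ x => ?_⟩,
    ⟨hD.cand.1, fun P φ h => hG.1 P (hD.cand.2.1 P h), hD.cand.2.2⟩,
    fun D' hD' => hD.greatest D' ⟨hD'.1, hcand D' hD', hD'.2.2⟩, fun P hP φ hφ => ?_,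
    fun M h1 h2 h3 h4 => hD.perfect M h1
      (invariant_inherit hS hGs hG.1 h2 (hperf M h1 h2 h3 h4)) h3 h4⟩
  · obtain ⟨α, hα, g, hg, hv⟩ := hG.2.2.2 P (hP.trans hRU) φ hφ
    rw [hv x (hom_apply_mem hg x)]
    exact apply_mem_sup_centralizer hT hRU hUS hα (hD.closed.2 P hP g hg x)
  · obtain ⟨α, hα, g, hg, hv⟩ := hG.2.2.2 P (hP.trans hRU) φ hφ
    obtain ⟨β, hβ, d, hd, hdv⟩ := hD.frattini P hP g hg
    obtain ⟨k, hk, hkv⟩ := exists_restrict_aut hUS hRU hα
      fun r hr => apply_mem_sup_centralizer hT hRU hUS hα hr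
    have hβF : β ∈ F.autGroup (T ⊔ centralizerIn S T) :=
      (mem_autGroup_iff hRS).2 (hG.1 _ ((mem_autGroup_iff hRU).1 hβ))
    refine ⟨k * β, mul_mem hk hβF, d, hd, fun x hx => ?_⟩
    rw [hv x (hom_apply_mem hg x), MulAut.mul_apply, ← hkv _ (β ⟨d x, hx⟩).2]
    exact congrArg (fun w : U => ((α w : U) : Ω)) (Subtype.ext (hdv x hx))

end CfsgLib.Fusion
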