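import Cfsg.Agent.Lib.Fusion.CenterIndexSquare
import Mathlib.GroupTheory.SpecificGroups.Cyclic

/-!
# Small essential subgroups have no invariant flags
-/

set_option autoImplicit false

namespace CfsgLib.Fusion

open Cfsg Cfsg.FusionSystem
open scoped commutatorElement

variable {Ω : Type*} [Group Ω] {S : Subgroup Ω} {F : FusionSystem S} {p : ℕ}

/-- The automisers of an essential subgroup are not abelian modulo a `p`-group. -/
theorem essential_not_abelian_mod [Fact p.Prime] [Finite S] (hS : IsPGroup p S) (hF : F.IsSaturated p)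
    {H : Subgroup Ω} (hH : F.IsEssential p H) (K : Subgroup (F.autGroup H)) [K.Normal]
    (hKp : IsPGroup p K) : ¬ ∀ a b : F.autGroup H, ⁅a, b⁆ ∈ K := by
  intro hcomm
  have hHS := hH.1.1
  have := finite_mulAut_of_le (S := S) hHS
  obtain ⟨g, hg, hgH⟩ := exists_mem_normalizerIn_not_mem hS
    (lt_of_le_of_ne hHS (isEssential_ne_self hS hF hH))
  set Q := (autInducedBy S H).subgroupOf (F.autGroup H) with hQ
  have hQp : IsPGroup p Q := isPGroup_subgroupOf (autInducedBy_le_autGroup hHS) (isPGroup_autInducedBy hS)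
  have hM : (Q ⊔ K).Normal := ⟨fun m hm a => by
    have h := (Q ⊔ K).mul_mem (Subgroup.mem_sup_right (hcomm a m)) hm
    rwa [commutatorElement_def, inv_mul_cancel_right] at h⟩
  have hle : Q ≤ Subgroup.normalizer (K : Set (F.autGroup H)) := fun a _ => by
    rw [Subgroup.normalizer_eq_top]; trivial
  refine hgH (mem_of_conjAut_inn hH.1 (⟨g, hg⟩ : normalizerIn S H) ?_)
  exact (isRadical_iff_le hS hHS).1 (IsEssential.isRadical hS hH)
    (Core.le_pCore (IsPGroup.to_sup_of_normal_right' hQp hKp hle)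
      (show (⟨_, autInducedBy_le_autGroup hHS (conjAut_mem _)⟩ : F.autGroup H) ∈ Q ⊔ K from
        Subgroup.mem_sup_left (conjAut_mem (⟨g, hg⟩ : normalizerIn S H))))

/-- An essential subgroup is not cyclic. -/
theorem essential_not_cyclic [Fact p.Prime] [Finite S] (hS : IsPGroup p S) (hF : F.IsSaturated p)
    {H : Subgroup Ω} (hH : F.IsEssential p H) : ¬ IsCyclic H := by
  intro hc
  refine essential_not_abelian_mod hS hF hH ⊥ IsPGroup.of_bot fun a b => Subgroup.mem_bot.2 ?_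
  refine commutatorElement_eq_one_iff_mul_comm.2 (Subtype.ext ?_)
  exact (IsCyclic.mulAutMulEquiv H).injective (by rw [Subgroup.coe_mul, Subgroup.coe_mul, map_mul, map_mul]; exact mul_comm _ _)

/-- Automorphisms commute on a section of prime order. -/
theorem comm_on_section [hp : Fact p.Prime] {E : Type*} [Group E] [Finite E] {D T : Subgroup E}
    (hDT : D ≤ T) [D.Normal] (hidx : Nat.card T = p * Nat.card D) {σ τ : MulAut E}
    (hσT : ∀ e ∈ T, σ e ∈ T) (hτT : ∀ e ∈ T, τ e ∈ T) (hσD : ∀ e ∈ D, σ e ∈ D)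
    (hτD : ∀ e ∈ D, τ e ∈ D) {e : E} (he : e ∈ T) : ((τ * σ) e)⁻¹ * (σ * τ) e ∈ D := by
  have hcard : Nat.card (T ⧸ D.subgroupOf T) = p := by
    have h := (D.subgroupOf T).card_eq_card_quotient_mul_card_subgroup
    rw [Nat.card_congr (Subgroup.subgroupOfEquivOfLe hDT).toEquiv, hidx] at h
    exact (Nat.eq_of_mul_eq_mul_right Nat.card_pos h).symm
  have : IsCyclic (T ⧸ D.subgroupOf T) := isCyclic_of_prime_card hcard
  let mkEnd : (σ : MulAut E) → (∀ e ∈ T, σ e ∈ T) → (∀ e ∈ D, σ e ∈ D) →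
      (T ⧸ D.subgroupOf T →* T ⧸ D.subgroupOf T) := fun σ h h' =>
    QuotientGroup.map (D.subgroupOf T) (D.subgroupOf T)
      ((σ.toMonoidHom.comp T.subtype).codRestrict T fun t => h t t.2) fun d hd => h' d hd
  obtain ⟨a, ha⟩ := MonoidHom.map_cyclic (mkEnd σ hσT hσD)
  obtain ⟨b, hb⟩ := MonoidHom.map_cyclic (mkEnd τ hτT hτD)
  set q : T ⧸ D.subgroupOf T := QuotientGroup.mk ⟨e, he⟩ with hq
  have h1 : mkEnd σ hσT hσD (mkEnd τ hτT hτD q) = mkEnd τ hτT hτD (mkEnd σ hσT hσD q) := by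
    rw [hb q, map_zpow, ha q, map_zpow, hb q, ← zpow_mul, ← zpow_mul, mul_comm]
  have h2 : (QuotientGroup.mk ⟨(τ * σ) e, hτT _ (hσT e he)⟩ : T ⧸ D.subgroupOf T) =
      QuotientGroup.mk ⟨(σ * τ) e, hσT _ (hτT e he)⟩ := h1.symm
  have h3 := QuotientGroup.eq.1 h2
  exact h3

/-- An essential subgroup of order `p³` has no invariant flag. -/
theorem essential_no_flag [hp : Fact p.Prime] [Finite S] (hS : IsPGroup p S) (hF : F.IsSaturated p)
    {H : Subgroup Ω} (hH : F.IsEssential p H) (hcard : Nat.card H = p ^ 3) (D₁ D₂ : Subgroup H)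
    (h12 : D₁ ≤ D₂) (hc1 : Nat.card D₁ = p) (hc2 : Nat.card D₂ = p ^ 2)
    (hi1 : ∀ (σ : MulAut H), ∀ e ∈ D₁, σ e ∈ D₁) (hi2 : ∀ (σ : MulAut H), ∀ e ∈ D₂, σ e ∈ D₂) :
    False := by
  have hHS := hH.1.1
  have := finite_le hHS
  have := finite_mulAut_of_le (S := S) hHS
  have hn : ∀ D : Subgroup H, (∀ (σ : MulAut H), ∀ e ∈ D, σ e ∈ D) → D.Normal := fun D hD =>
    ⟨fun d hd g => hD (MulAut.conj g) d hd⟩
  have := hn D₁ hi1
  have := hn D₂ hi2
  set G := F.autGroup H
  let K : Subgroup G :=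
    { carrier := {σ | (∀ e ∈ D₁, (σ : MulAut H) e = e) ∧
        (∀ e ∈ D₂, e⁻¹ * (σ : MulAut H) e ∈ D₁) ∧ ∀ e, e⁻¹ * (σ : MulAut H) e ∈ D₂}
      one_mem' := ⟨fun e _ => rfl, fun e _ => by simp, fun e => by simp⟩
      mul_mem' := by
        rintro σ τ ⟨a1, a2, a3⟩ ⟨b1, b2, b3⟩
        refine ⟨fun e he => ?_, fun e he => ?_, fun e => ?_⟩
        · rw [Subgroup.coe_mul, MulAut.mul_apply, b1 e he, a1 e he]
        · have h := D₁.mul_mem (b2 e he) (a2 _ (hi2 (τ : MulAut H) e he))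
          rwa [mul_assoc, mul_inv_cancel_left] at h
        · have h := D₂.mul_mem (b3 e) (a3 ((τ : MulAut H) e))
          rwa [mul_assoc, mul_inv_cancel_left] at h
      inv_mem' := by
        rintro σ ⟨a1, a2, a3⟩
        refine ⟨fun e he => ?_, fun e he => ?_, fun e => ?_⟩
        · exact (σ : MulAut H).injective
            (by rw [Subgroup.coe_inv, MulAut.apply_inv_self, a1 e he])
        · have h := D₁.inv_mem (a2 _ (hi2 (σ : MulAut H)⁻¹ e he))
          rwa [MulAut.apply_inv_self, mul_inv_rev, inv_inv] at h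
        · have h := D₂.inv_mem (a3 ((σ : MulAut H)⁻¹ e))
          rwa [MulAut.apply_inv_self, mul_inv_rev, inv_inv] at h }
  have hKn : K.Normal := ⟨fun σ ⟨a1, a2, a3⟩ γ => by
    refine ⟨fun e he => ?_, fun e he => ?_, fun e => ?_⟩
    · show (γ : MulAut H) ((σ : MulAut H) ((γ : MulAut H)⁻¹ e)) = e
      rw [a1 _ (hi1 _ e he), MulAut.apply_inv_self]
    · have h := hi1 (γ : MulAut H) _ (a2 _ (hi2 (γ : MulAut H)⁻¹ e he))
      rwa [map_mul, map_inv, MulAut.apply_inv_self] at h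
    · have h := hi2 (γ : MulAut H) _ (a3 ((γ : MulAut H)⁻¹ e))
      rwa [map_mul, map_inv, MulAut.apply_inv_self] at h⟩
  have hKp : IsPGroup p K := by
    intro σ
    obtain ⟨a1, a2, a3⟩ := σ.2
    refine ⟨3 + 3, Subtype.ext (Subtype.ext (MulEquiv.ext fun e => ?_))⟩
    show (((σ : G) : MulAut H) ^ p ^ (3 + 3)) e = e
    set τ := ((σ : G) : MulAut H) ^ p ^ 3 with hτ
    have hN : ∀ v : H, v ^ p ^ 3 = 1 := fun v => by rw [← hcard]; exact pow_card_eq_one'
    have hfix : ∀ v ∈ D₂, τ v = v := fun v hv =>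
      PGroups.Transvections.pow_fix (v := v⁻¹ * ((σ : G) : MulAut H) v)
        (by rw [mul_inv_cancel_left]) (a1 _ (a2 v hv)) (hN _)
    have hτK := (K.pow_mem σ.2 (p ^ 3)).2.2 e
    rw [Subgroup.coe_pow] at hτK
    rw [pow_add, pow_mul, ← hτ]
    exact PGroups.Transvections.pow_fix (v := e⁻¹ * τ e) (by rw [mul_inv_cancel_left])
      (hfix _ hτK) (hN _)
  refine essential_not_abelian_mod hS hF hH K hKp fun a b => ?_
  -- `a b` and `b a` agree on all three sections
  have key : ∀ (D T : Subgroup H) [D.Normal], D ≤ T → Nat.card T = p * Nat.card D →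
      (∀ (σ : MulAut H), ∀ e ∈ T, σ e ∈ T) → (∀ (σ : MulAut H), ∀ e ∈ D, σ e ∈ D) →
      ∀ e ∈ T, e⁻¹ * ((⁅a, b⁆ : G) : MulAut H) e ∈ D := by
    intro D T _ hDT hidx hT hD e he
    set f := ((a : MulAut H)⁻¹ * (b : MulAut H)⁻¹) e with hf
    have h := comm_on_section (p := p) hDT hidx (hT (a : MulAut H)) (hT (b : MulAut H))
      (hD (a : MulAut H)) (hD (b : MulAut H)) (show f ∈ T from hT _ e he)
    rw [← MulAut.mul_apply, ← MulAut.mul_apply,
      show (b : MulAut H) * (a : MulAut H) * ((a : MulAut H)⁻¹ * (b : MulAut H)⁻¹) = 1 by group,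
      MulAut.one_apply] at h
    rw [commutatorElement_def]
    simpa [mul_assoc] using h
  refine ⟨fun e he => ?_, fun e he => key D₁ D₂ h12 ?_ hi2 hi1 e he, fun e => ?_⟩
  · have h := key ⊥ D₁ bot_le (by rw [Subgroup.card_bot, hc1, mul_one]) hi1
      (fun σ e he => by rw [Subgroup.mem_bot] at he ⊢; rw [he, map_one]) e he
    exact (inv_mul_eq_one.1 (Subgroup.mem_bot.1 h)).symm
  · rw [hc2, hc1, pow_two]
  · exact key D₂ ⊤ le_top (by rw [Subgroup.card_top, hc2, hcard, ← pow_succ'])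
      (fun σ e _ => Subgroup.mem_top _) hi2 e (Subgroup.mem_top e)

end CfsgLib.Fusion
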