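import Cfsg.Agent.Lib.Fusion.EssentialFlag
import Cfsg.Agent.Lib.PGroups.OrderFourthShapes

/-!
# Essential subgroups of order `p⁴`
-/

set_option autoImplicit false

namespace CfsgLib.Fusion

open Cfsg Cfsg.FusionSystem
open scoped commutatorElement

variable {Ω : Type*} [Group Ω] {S : Subgroup Ω} {F : FusionSystem S} {p : ℕ}

/-- An essential subgroup has no invariant series with factors of order `p`. -/
theorem essential_no_chain [hp : Fact p.Prime] [Finite S] (hS : IsPGroup p S)
    (hF : F.IsSaturated p) {H : Subgroup Ω} (hH : F.IsEssential p H) (n : ℕ) (D : ℕ → Subgroup H)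
    (h0 : D 0 = ⊥) (hn : D n = ⊤) (hmono : ∀ i < n, D i ≤ D (i + 1))
    (hcard : ∀ i < n, Nat.card (D (i + 1)) = p * Nat.card (D i))
    (hinv : ∀ i ≤ n, ∀ (σ : MulAut H), ∀ e ∈ D i, σ e ∈ D i) : False := by
  have hHS := hH.1.1
  have := finite_le hHS
  have := finite_mulAut_of_le (S := S) hHS
  set G := F.autGroup H
  let K : Subgroup G :=
    { carrier := {σ | ∀ i < n, ∀ e ∈ D (i + 1), e⁻¹ * (σ : MulAut H) e ∈ D i}
      one_mem' := fun i _ e _ => by simp
      mul_mem' := by
        intro σ τ hσ hτ i hi e he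
        have h := (D i).mul_mem (hτ i hi e he) (hσ i hi _ (hinv (i + 1) hi (τ : MulAut H) e he))
        rwa [mul_assoc, mul_inv_cancel_left] at h
      inv_mem' := by
        intro σ hσ i hi e he
        have h := (D i).inv_mem (hσ i hi _ (hinv (i + 1) hi (σ : MulAut H)⁻¹ e he))
        rwa [MulAut.apply_inv_self, mul_inv_rev, inv_inv] at h }
  have hKn : K.Normal := ⟨fun σ hσ γ i hi e he => by
    have h := hinv i hi.le (γ : MulAut H) _ (hσ i hi _ (hinv (i + 1) hi (γ : MulAut H)⁻¹ e he))
    rwa [map_mul, map_inv, MulAut.apply_inv_self] at h⟩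
  obtain ⟨d, hd⟩ := (hS.to_le hHS).exists_card_eq
  have hKp : IsPGroup p K := by
    intro σ
    refine ⟨n * d, ?_⟩
    have key : ∀ i ≤ n, ∀ e ∈ D i, (((σ : G) : MulAut H) ^ p ^ (i * d)) e = e := by
      intro i
      induction i with
      | zero =>
        intro _ e he
        rw [h0, Subgroup.mem_bot] at he
        rw [he, map_one]
      | succ i ih =>
        intro hi e he
        set τ := ((σ : G) : MulAut H) ^ p ^ (i * d) with hτ
        have hτK := (K.pow_mem σ.2 (p ^ (i * d))) i hi e he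
        rw [Subgroup.coe_pow] at hτK
        rw [show (i + 1) * d = i * d + d by ring, pow_add, pow_mul, ← hτ]
        exact PGroups.Transvections.pow_fix (v := e⁻¹ * τ e) (by rw [mul_inv_cancel_left])
          (ih (by omega) _ hτK) (by rw [← hd]; exact pow_card_eq_one')
    refine Subtype.ext (Subtype.ext (MulEquiv.ext fun e => ?_))
    exact key n le_rfl e (hn ▸ Subgroup.mem_top e)
  refine essential_not_abelian_mod hS hF hH K hKp fun a b i hi e he => ?_
  have hDn : (D i).Normal := ⟨fun d hd g => hinv i hi.le (MulAut.conj g) d hd⟩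
  set f := ((a : MulAut H)⁻¹ * (b : MulAut H)⁻¹) e with hf
  have h := comm_on_section (p := p) (hmono i hi) (hcard i hi) (hinv (i + 1) hi (a : MulAut H))
    (hinv (i + 1) hi (b : MulAut H)) (hinv i hi.le (a : MulAut H)) (hinv i hi.le (b : MulAut H))
    (show f ∈ D (i + 1) from hinv (i + 1) hi _ e he)
  rw [← MulAut.mul_apply, ← MulAut.mul_apply,
    show (b : MulAut H) * (a : MulAut H) * ((a : MulAut H)⁻¹ * (b : MulAut H)⁻¹) = 1 by group,
    MulAut.one_apply] at h
  rw [commutatorElement_def]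
  simpa [mul_assoc] using h

theorem essential_no_flag_four [hp : Fact p.Prime] [Finite S] (hS : IsPGroup p S)
    (hF : F.IsSaturated p) {H : Subgroup Ω} (hH : F.IsEssential p H) (hcard : Nat.card H = p ^ 4) :
    ¬ PGroups.OrderFourth.HasFlag p H := by
  rintro ⟨D₁, D₂, D₃, h12, h23, c1, c2, c3, i1, i2, i3⟩
  let D : ℕ → Subgroup H
    | 0 => ⊥
    | 1 => D₁
    | 2 => D₂
    | 3 => D₃
    | _ => ⊤
  refine essential_no_chain hS hF hH 4 D rfl rfl (fun i hi => ?_) (fun i hi => ?_) fun i hi => ?_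
  · interval_cases i <;> simp [D, h12, h23]
  · interval_cases i
    · simp [D, c1]
    · show Nat.card D₂ = p * Nat.card D₁
      rw [c2, c1, pow_two]
    · show Nat.card D₃ = p * Nat.card D₂
      rw [c3, c2]; ring
    · show Nat.card (⊤ : Subgroup H) = p * Nat.card D₃
      rw [Subgroup.card_top, hcard, c3]; ring
  · interval_cases i
    · intro σ e he
      rw [show D 0 = ⊥ from rfl, Subgroup.mem_bot] at he ⊢
      rw [he, map_one]
    · exact i1
    · exact i2
    · exact i3
    · exact fun σ e _ => Subgroup.mem_top _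

/-- No homocyclic `ℤ/p² × ℤ/p²` is essential for `p ≥ 5`. -/
theorem essential_homocyclic [hp : Fact p.Prime] [Finite S] (hS : IsPGroup p S)
    (hF : F.IsSaturated p) {H : Subgroup Ω} (hH : F.IsEssential p H) (hcard : Nat.card H = p ^ 4)
    (hab : ∀ x y : H, x * y = y * x) (hexp : ∀ x : H, x ^ p ^ 2 = 1)
    (hker : ∀ x : H, x ^ p = 1 ↔ ∃ y, y ^ p = x) : p = 2 ∨ p = 3 := by
  by_contra hne
  push Not at hne
  have h5 : 5 ≤ p := by
    have h2 := hp.out.two_le
    have h4 : p ≠ 4 := fun e => absurd (e ▸ hp.out) (by norm_num)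
    omega
  have hHS := hH.1.1
  have := finite_le hHS
  have := finite_mulAut_of_le (S := S) hHS
  obtain ⟨g, hg, hgH⟩ := exists_mem_normalizerIn_not_mem hS
    (lt_of_le_of_ne hHS (isEssential_ne_self hS hF hH))
  set G := F.autGroup H
  set α : G := ⟨conjAut ⟨g, hg⟩, autInducedBy_le_autGroup hHS (conjAut_mem _)⟩
  let K : Subgroup G :=
    { carrier := {σ | ∀ e : H, (e⁻¹ * (σ : MulAut H) e) ^ p = 1}
      one_mem' := fun e => by simp
      mul_mem' := by
        intro σ τ hσ hτ e
        have h : e⁻¹ * ((σ : MulAut H) * (τ : MulAut H)) e =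
            (e⁻¹ * (τ : MulAut H) e) * (((τ : MulAut H) e)⁻¹ * (σ : MulAut H) ((τ : MulAut H) e)) := by
          rw [MulAut.mul_apply, mul_assoc, mul_inv_cancel_left]
        show (e⁻¹ * ((σ : MulAut H) * (τ : MulAut H)) e) ^ p = 1
        rw [h, Commute.mul_pow (hab _ _), hτ e, hσ _, one_mul]
      inv_mem' := by
        intro σ hσ e
        have h : ((e⁻¹ * (σ : MulAut H)⁻¹ e)⁻¹) ^ p = 1 := by
          have h' := hσ ((σ : MulAut H)⁻¹ e)
          rw [MulAut.apply_inv_self] at h'
          rwa [mul_inv_rev, inv_inv]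
        rwa [inv_pow, inv_eq_one] at h }
  have hfixp : ∀ σ ∈ K, ∀ v : H, v ^ p = 1 → (σ : MulAut H) v = v := by
    intro σ hσ v hv
    obtain ⟨y, rfl⟩ := (hker v).1 hv
    have h := hσ y
    rw [Commute.mul_pow (hab _ _), inv_pow, inv_mul_eq_one, ← map_pow] at h
    exact h.symm
  have hKn : K.Normal := ⟨fun σ hσ γ e => by
    have h := congrArg (γ : MulAut H) (hσ ((γ : MulAut H)⁻¹ e))
    rwa [map_pow, map_mul, map_inv, MulAut.apply_inv_self, map_one] at h⟩
  have hKp : IsPGroup p K := by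
    intro σ
    refine ⟨1, Subtype.ext (Subtype.ext (MulEquiv.ext fun e => ?_))⟩
    show (((σ : G) : MulAut H) ^ p ^ 1) e = e
    rw [pow_one]
    exact PGroups.Transvections.pow_fix (v := e⁻¹ * ((σ : G) : MulAut H) e)
      (by rw [mul_inv_cancel_left]) (hfixp _ σ.2 _ (σ.2 e)) (σ.2 e)
  have hrad := (isRadical_iff_le hS hHS).1 (IsEssential.isRadical hS hH)
  have hKone : ∀ σ ∈ K, (σ : MulAut H) = 1 := by
    intro σ hσ
    obtain ⟨u, hu⟩ := hrad (Core.le_pCore hKp hσ)
    have hu' : MulAut.conj u = (σ : MulAut H) := hu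
    rw [← hu']
    exact MulEquiv.ext fun e => by
      rw [MulAut.conj_apply, hab u e, mul_inv_cancel_right]; rfl
  suffices hαK : α ∈ K by
    refine hgH (mem_of_conjAut_inn hH.1 (⟨g, hg⟩ : normalizerIn S H) ?_)
    rw [show conjAut (⟨g, hg⟩ : normalizerIn S H) = 1 from hKone α hαK]
    exact one_mem _
  -- the automorphism as an endomorphism
  let _ : CommGroup H := { (inferInstance : Group H) with mul_comm := hab }
  set A : AddMonoid.End (Additive H) := MonoidHom.toAdditive (α : MulAut H).toMonoidHom with hA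
  set N := A - 1 with hN
  have hNv : ∀ e : H, Additive.toMul (N (Additive.ofMul e)) = e⁻¹ * (α : MulAut H) e := fun e => by
    show ((α : MulAut H) e) / e = _
    rw [div_eq_mul_inv]; exact hab _ _
  have hAp : ∀ k : ℕ, ∀ e : H,
      Additive.toMul ((A ^ k) (Additive.ofMul e)) = ((α : MulAut H) ^ k) e := by
    intro k
    induction k with
    | zero => intro e; rfl
    | succ k ih =>
      intro e
      rw [pow_succ', pow_succ', MulAut.mul_apply, ← ih e]
      rfl
  have hpp : ∀ v : Additive H, p • (p • v) = 0 := fun v => by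
    rw [← mul_smul, ← pow_two]
    exact hexp (Additive.toMul v)
  -- the image of `N` is proper, the image of its square is killed by `p`
  let N' : H →* H := MonoidHom.mk' (fun e => e⁻¹ * (α : MulAut H) e) fun x y => by
    rw [map_mul, mul_inv_rev, hab y⁻¹ x⁻¹]
    exact mul_mul_mul_comm _ _ _ _
  let π : H →* H := powMonoidHom p
  let Ne : Monoid.End H := N'
  have hπr : π.range = π.ker := by
    ext v
    rw [MonoidHom.mem_range, MonoidHom.mem_ker]
    exact (hker v).symm
  have hπc : Nat.card π.ker = p ^ 2 := by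
    have h := π.ker.card_eq_card_quotient_mul_card_subgroup
    rw [Nat.card_congr (QuotientGroup.quotientKerEquivRange π).toEquiv, hπr, hcard,
      show p ^ 4 = (p ^ 2) ^ 2 by ring, ← pow_two] at h
    exact (Nat.pow_left_injective two_ne_zero h).symm
  have hNπ : π.ker.map N' ≤ π.ker := by
    rintro _ ⟨v, hv, rfl⟩
    rw [SetLike.mem_coe, MonoidHom.mem_ker] at hv
    rw [MonoidHom.mem_ker]
    show (v⁻¹ * (α : MulAut H) v) ^ p = 1
    have hv' : v ^ p = 1 := hv
    rw [Commute.mul_pow (hab _ _), inv_pow, ← map_pow, hv', inv_one, map_one, one_mul]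
  let W₁ : Subgroup H := π.ker ⊔ N'.range
  let W₂ : Subgroup H := π.ker ⊔ W₁.map N'
  have hfix : ∃ z : H, z ≠ 1 ∧ N' z = 1 := by
    have hp' : IsPGroup p (Subgroup.zpowers (α : MulAut H)) :=
      (isPGroup_autInducedBy hS).to_le (Subgroup.zpowers_le.2 (conjAut_mem _))
    have hdvd : p ∣ Nat.card H := hcard ▸ dvd_pow_self p (by omega)
    have h1 : (1 : H) ∈ MulAction.fixedPoints (Subgroup.zpowers (α : MulAut H)) H := fun σ =>
      map_one (σ : MulAut H)
    obtain ⟨z, hz, hz1⟩ := hp'.exists_fixed_point_of_prime_dvd_card_of_fixed_point H hdvd h1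
    refine ⟨z, hz1.symm, ?_⟩
    have h2 : (α : MulAut H) z = z := hz ⟨_, Subgroup.mem_zpowers _⟩
    show z⁻¹ * (α : MulAut H) z = 1
    rw [h2, inv_mul_cancel]
  have hW1 : W₁ ≠ ⊤ := by
    intro htop
    obtain ⟨z, hz1, hz⟩ := hfix
    have hinj : Function.Injective N' := by
      refine Finite.injective_iff_surjective.2 fun y => ?_
      have hy : y ∈ W₁ := by rw [htop]; trivial
      obtain ⟨u, hu, _, ⟨w, rfl⟩, rfl⟩ := Subgroup.mem_sup.1 hy
      obtain ⟨v, rfl⟩ : u ∈ π.range := hπr ▸ hu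
      have hv : v ∈ W₁ := by rw [htop]; trivial
      obtain ⟨u', hu', _, ⟨w', rfl⟩, rfl⟩ := Subgroup.mem_sup.1 hv
      refine ⟨π w' * w, ?_⟩
      rw [map_mul N', map_mul π, MonoidHom.mem_ker.1 hu', one_mul]
      show N' (w' ^ p) * _ = (N' w') ^ p * _
      rw [map_pow]
    exact hz1 (hinj (hz.trans (map_one N').symm))
  have hW21 : W₂ ≤ W₁ := sup_le_sup_left (Subgroup.map_le_range _ _) _
  have hW2 : W₂ = π.ker := by
    by_contra hne2
    have h2 : Nat.card π.ker < Nat.card W₂ := lt_of_le_of_ne (Subgroup.card_le_of_le le_sup_left)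
      fun e => hne2 (Subgroup.eq_of_le_of_card_ge le_sup_left e.ge).symm
    have heq : W₂ = W₁ := by
      refine Subgroup.eq_of_le_of_card_ge hW21 ?_
      obtain ⟨i, hi4, hi⟩ := PGroups.OrderFourth.card_pow hcard W₁
      obtain ⟨j, -, hj⟩ := PGroups.OrderFourth.card_pow hcard W₂
      rw [hi, hj]
      rw [hπc, hj, Nat.pow_lt_pow_iff_right hp.out.one_lt] at h2
      refine Nat.pow_le_pow_right hp.out.pos ?_
      rcases eq_or_lt_of_le hi4 with rfl | h
      · exact absurd (Subgroup.eq_top_of_card_eq W₁ (hi.trans hcard.symm)) hW1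
      · omega
    -- then `N` is bijective on `W₁` modulo `π.ker`, but a `p`-element fixes something
    have key : ∀ k : ℕ, W₁ ≤ π.ker ⊔ W₁.map (Ne ^ k) := by
      intro k
      induction k with
      | zero => exact fun w hw => Subgroup.mem_sup_right ⟨w, hw, by rw [pow_zero]; rfl⟩
      | succ k ih =>
        refine heq.ge.trans (sup_le le_sup_left ?_)
        refine (Subgroup.map_mono ih).trans ?_
        rw [Subgroup.map_sup]
        refine sup_le (hNπ.trans le_sup_left) ?_
        rintro _ ⟨_, ⟨w, hw, rfl⟩, rfl⟩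
        exact Subgroup.mem_sup_right ⟨w, hw, by rw [pow_succ']; rfl⟩
    obtain ⟨m, hm⟩ := (isPGroup_autInducedBy (P := H) hS)
      ⟨(α : MulAut H), conjAut_mem _⟩
    have hm' : (α : MulAut H) ^ p ^ m = 1 := congrArg Subtype.val hm
    have hAm : A ^ p ^ m = 1 := AddMonoidHom.ext fun v => by
      have := hAp (p ^ m) (Additive.toMul v)
      rw [hm'] at this
      exact this
    obtain ⟨r, hr⟩ := (Commute.one_right N).exists_add_pow_prime_pow_eq hp.out m
    rw [show N + 1 = A from sub_add_cancel A 1, hAm, one_pow] at hr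
    have hbad : ∀ v, p • ((N ^ p ^ m) v) = 0 := by
      intro v
      have h0 : N ^ p ^ m = -((p : AddMonoid.End (Additive H)) * (N * 1 * r)) := by
        rw [eq_neg_iff_add_eq_zero]
        have := sub_eq_zero.2 hr.symm
        rw [← this]
        simp only [mul_one, one_mul]
        noncomm_ring
      rw [h0]
      show p • -((p : AddMonoid.End (Additive H)) ((N * 1 * r) v)) = 0
      rw [AddMonoid.End.natCast_apply, smul_neg, hpp, neg_zero]
    have hpk : W₁.map (Ne ^ p ^ m) ≤ π.ker := by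
      rintro _ ⟨w, -, rfl⟩
      have h := hbad (Additive.ofMul w)
      have hN' : ∀ k : ℕ, Additive.toMul ((N ^ k) (Additive.ofMul w)) = (Ne ^ k) w := by
        intro k
        induction k with
        | zero => rfl
        | succ k ih =>
          rw [pow_succ', pow_succ']
          show Additive.toMul (N ((N ^ k) (Additive.ofMul w))) = N' ((Ne ^ k) w)
          rw [← ih]
          exact hNv _
      show ((Ne ^ p ^ m) w) ^ p = 1
      rw [← hN']
      exact h
    exact hne2 (le_antisymm (heq.le.trans ((key (p ^ m)).trans (sup_le le_rfl hpk))) le_sup_left)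
  have hN2 : ∀ v, p • ((N ^ 2) v) = 0 := by
    intro v
    have h : N' (N' (Additive.toMul v)) ∈ W₂ :=
      Subgroup.mem_sup_right (Subgroup.mem_map_of_mem _ (Subgroup.mem_sup_right ⟨_, rfl⟩))
    rw [hW2] at h
    have h' : (N' (N' (Additive.toMul v))) ^ p = 1 := h
    rw [pow_two]
    show ((Additive.toMul (N (N v))) ^ p : H) = 1
    rw [show Additive.toMul (N (N v)) = N' (N' (Additive.toMul v)) from
      (hNv (Additive.toMul (N v))).trans (congrArg N' (hNv (Additive.toMul v)))]
    exact h'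
  have hN4 : ∀ v, (N ^ 4) v = 0 := by
    intro v
    have h1 : (Additive.toMul ((N ^ 2) v)) ^ p = 1 := hN2 v
    obtain ⟨y, hy⟩ := (hker _).1 h1
    have e : (N ^ 2) v = p • Additive.ofMul y := by
      rw [← ofMul_pow, hy]
      rfl
    rw [show (4 : ℕ) = 2 + 2 from rfl, pow_add]
    show (N ^ 2) ((N ^ 2) v) = 0
    rw [e, map_nsmul]
    exact hN2 _
  -- so the `p`-th power is `1 + pN`
  have hAk : ∀ (k : ℕ) v, (A ^ k) v =
      v + k • N v + k.choose 2 • (N ^ 2) v + k.choose 3 • (N ^ 3) v := by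
    intro k v
    induction k with
    | zero =>
      rw [zero_smul, Nat.choose_zero_succ, Nat.choose_zero_succ, zero_smul, zero_smul]
      simp
    | succ k ih =>
      have hA1 : ∀ x, A x = x + N x := fun x => by
        show A x = x + (A x - x)
        rw [add_sub_cancel]
      have h21 : N (N v) = (N ^ 2) v := by rw [pow_two]; rfl
      have h32 : N ((N ^ 2) v) = (N ^ 3) v := by rw [pow_succ' N 2]; rfl
      have h43 : N ((N ^ 3) v) = 0 := by
        have : N ((N ^ 3) v) = (N ^ 4) v := by rw [pow_succ' N 3]; rfl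
        rw [this, hN4]
      rw [pow_succ' A]
      show A ((A ^ k) v) = _
      rw [hA1, ih, map_add, map_add, map_add, map_nsmul, map_nsmul, map_nsmul, h21, h32, h43,
        smul_zero, Nat.choose_succ_succ' k 1, Nat.choose_succ_succ' k 2, Nat.choose_one_right,
        add_smul, add_smul, add_smul, one_smul]
      abel
  have hpow : ∀ v, (A ^ p) v = v + p • N v := by
    intro v
    obtain ⟨c₂, hc₂⟩ := hp.out.dvd_choose_self (by omega : (2 : ℕ) ≠ 0) (by omega : 2 < p)
    obtain ⟨c₃, hc₃⟩ := hp.out.dvd_choose_self (by omega : (3 : ℕ) ≠ 0) (by omega : 3 < p)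
    have h3 : p • (N ^ 3) v = 0 := by
      rw [show (N ^ 3) v = (N ^ 2) (N v) by rw [pow_succ N 2]; rfl, hN2]
    rw [hAk, hc₂, hc₃, mul_comm p c₂, mul_comm p c₃, mul_smul, mul_smul, hN2, h3, smul_zero,
      smul_zero, add_zero, add_zero]
  have hαp : α ^ p ∈ K := by
    intro e
    have h := hAp p e
    rw [hpow] at h
    have h2 : ((α : MulAut H) ^ p) e = e * (e⁻¹ * (α : MulAut H) e) ^ p := by
      rw [← h, ← hNv]
      rfl
    show (e⁻¹ * (((α ^ p : G) : MulAut H)) e) ^ p = 1
    rw [Subgroup.coe_pow, h2, inv_mul_cancel_left, ← pow_mul, ← pow_two, hexp]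
  intro e
  have h := hAp p e
  rw [hpow] at h
  have h2 := hKone _ hαp
  rw [Subgroup.coe_pow] at h2
  rw [h2] at h
  have h3 : e * (e⁻¹ * (α : MulAut H) e) ^ p = e := by
    rw [← hNv]
    exact h
  exact mul_eq_left.1 h3

end CfsgLib.Fusion

namespace CfsgLib.Fusion

open Cfsg Cfsg.FusionSystem

/-- The essential subgroups of order `p⁴`. -/
theorem essential_fourth {Ω : Type*} [Group Ω] {S : Subgroup Ω} [Finite S] {p : ℕ}
    [hp : Fact p.Prime] (hS : IsPGroup p S) {F : FusionSystem S} (hF : F.IsSaturated p)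
    {H : Subgroup Ω} (hH : F.IsEssential p H) (hcard : Nat.card H = p ^ 4) :
    Cfsg.IsElementaryAbelian p H ∨
      Nonempty (↥H ≃* Multiplicative (ZMod (p ^ 2) × ZMod p × ZMod p)) ∨
      ((p = 2 ∨ p = 3) ∧ Nonempty (↥H ≃* Multiplicative (ZMod (p ^ 2) × ZMod (p ^ 2)))) ∨
      (Odd p ∧ ∃ (E : Type) (_ : Group E) (_ : Finite E), Cfsg.IsExtraspecial p E ∧ Nat.card E = p ^ 3 ∧
        (∀ x : E, x ^ p = 1) ∧ Nonempty (↥H ≃* E × Multiplicative (ZMod p))) ∨
      (p = 2 ∧ Nonempty (↥H ≃* QuaternionGroup 2 × Multiplicative (ZMod 2))) ∨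
      (¬ IsMulCommutative ↥H ∧ (∀ x ∈ H, x ^ (p ^ 2) = 1) ∧ IsCyclic ↥(Subgroup.center ↥H) ∧
        Nat.card (Subgroup.center ↥H) = p ^ 2) := by
  have := finite_le hH.1.1
  have hno := essential_no_flag_four hS hF hH hcard
  by_cases hab : IsMulCommutative H
  · rcases PGroups.OrderFourth.shape_abelian hcard hab.is_comm.comm with h | h | h | h
    · exact Or.inl ⟨hab, fun a ha => congrArg Subtype.val (h ⟨a, ha⟩)⟩
    · exact Or.inr (Or.inl h)
    · exact Or.inr (Or.inr (Or.inl
        ⟨essential_homocyclic hS hF hH hcard hab.is_comm.comm h.1 h.2.1, h.2.2⟩))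
    · exact absurd h hno
  obtain ⟨k, hk0, hk⟩ := IsPGroup.card_center_eq_prime_pow hcard (by norm_num)
  have hk2 : k ≤ 2 := by
    have h := Nat.mul_le_mul_left (Nat.card (Subgroup.center H))
      (PGroups.sq_le_index_center (IsPGroup.of_card hcard) hab)
    rw [(Subgroup.center H).card_mul_index, hk, hcard, ← pow_add] at h
    have := (Nat.pow_le_pow_iff_right hp.out.one_lt).1 h
    omega
  rcases eq_or_lt_of_le (show 1 ≤ k from hk0) with rfl | hk1
  · exact absurd (PGroups.OrderFourth.flag_of_center_prime hcard hab (by rw [hk, pow_one])) hno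
  obtain rfl : k = 2 := by omega
  rcases PGroups.OrderFourth.shape_of_center_sq hcard hab hk with h | ⟨hc, he⟩ | ⟨ho, E, hEna, hEc, hEp, ⟨e⟩⟩ | h
  · exact absurd h hno
  · exact Or.inr (Or.inr (Or.inr (Or.inr (Or.inr
      ⟨hab, fun x hx => congrArg Subtype.val (he ⟨x, hx⟩), hc, hk⟩))))
  · let φ : Shrink.{0} E ≃* E := Shrink.mulEquiv
    have : Finite (Shrink.{0} E) := Finite.of_equiv E φ.symm.toEquiv
    have hna : ¬ IsMulCommutative (Shrink.{0} E) := fun h => hEna ⟨⟨fun x y =>
      φ.symm.injective (by rw [map_mul, map_mul]; exact h.is_comm.comm _ _)⟩⟩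
    have hcE : Nat.card (Shrink.{0} E) = p ^ 3 := (Nat.card_congr φ.toEquiv).trans hEc
    refine Or.inr (Or.inr (Or.inr (Or.inl ⟨ho, Shrink.{0} E, inferInstance, inferInstance,
      PGroups.isExtraspecial_of_card_cube hna hcE, hcE, fun x => φ.injective ?_,
      ⟨e.trans (MulEquiv.prodCongr φ.symm (MulEquiv.refl _))⟩⟩)))
    rw [map_pow, map_one]
    exact Subtype.ext (hEp _ (φ x).2)
  · exact Or.inr (Or.inr (Or.inr (Or.inr (Or.inl h))))

end CfsgLib.Fusion
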