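import Mathlib
import Cfsg.Agent.Lib.Fusion.RadicalConj
import Cfsg.Agent.Lib.PGroups.Basic

/-!
# Simple 2-fusion systems from an involution centralizer `2^(1+4).A5`

Hypotheses: the centralizer of the involution maps onto `A5` with a kernel `Q` of order 32 and
centre of order 2, the group has no element of order 20, another conjugate of the involution
lies in `Q`, and some element of `Q` has a conjugate in the centralizer outside `Q`.
-/

set_option autoImplicit false

namespace CfsgLib.Fusion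

open Cfsg
open scoped _root_.Classical

theorem five_center : ∀ σ : Equiv.Perm (Fin 5), σ * finRotate 5 = finRotate 5 * σ →
    σ * (Equiv.swap 0 1 * Equiv.swap 1 2) = (Equiv.swap 0 1 * Equiv.swap 1 2) * σ → σ = 1 := by
  decide +kernel

theorem five_rot : Equiv.Perm.sign (finRotate 5) = 1 ∧
    Equiv.Perm.sign (Equiv.swap (0 : Fin 5) 1 * Equiv.swap 1 2) = 1 ∧
    finRotate 5 ≠ 1 ∧ (finRotate 5) ^ 5 = 1 := by
  decide +kernel

theorem five_four : ∀ σ : Equiv.Perm (Fin 5), Equiv.Perm.sign σ = 1 → σ ^ 4 = 1 → σ ^ 2 = 1 := by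
  decide +kernel

theorem five_inv_conj : ∀ σ : Equiv.Perm (Fin 5), Equiv.Perm.sign σ = 1 → σ ^ 2 = 1 → σ ≠ 1 →
    ∃ c : Equiv.Perm (Fin 5), Equiv.Perm.sign c = 1 ∧
      c * (Equiv.swap 0 1 * Equiv.swap 2 3) * c⁻¹ = σ := by
  decide +kernel

theorem dvd32 : ∀ n < 33, n ∣ 32 → n % 5 = 2 % 5 → n = 2 ∨ n = 32 := by decide

variable {G : Type*} [Group G] [Finite G]

/-- An element of order dividing five permutes a normalized subgroup modulo its fixed points. -/
theorem card_modEq_centralizer_five (y : G) (hy : y ^ 5 = 1) (M : Subgroup G)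
    (hM : ∀ m ∈ M, y * m * y⁻¹ ∈ M) :
    Nat.card M ≡ Nat.card ↥(M ⊓ Subgroup.centralizer ({y} : Set G)) [MOD 5] := by
  have : Fintype M := Fintype.ofFinite M
  have : Fact (Nat.Prime 5) := ⟨by norm_num⟩
  let f : Function.End M := fun m => ⟨y * m * y⁻¹, hM m m.2⟩
  have hpow : ∀ (k : ℕ) (m : M), ((f ^ k) m : G) = y ^ k * m * (y ^ k)⁻¹ := by
    intro k
    induction k with
    | zero => intro m; rw [pow_zero, pow_zero, one_mul, inv_one, mul_one]; rfl
    | succ k ih =>
      intro m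
      rw [pow_succ']
      show y * ((f ^ k) m : G) * y⁻¹ = _
      rw [ih m, pow_succ']
      simp [mul_assoc]
  have hf : f ^ 5 ^ 1 = 1 := funext fun m => Subtype.ext (by
    rw [hpow, pow_one, hy]
    simp [Function.End.one_def])
  have h := Equiv.Perm.card_fixedPoints_modEq hf
  rw [← Nat.card_eq_fintype_card, ← Nat.card_eq_fintype_card] at h
  refine (Eq.mp (congrArg (Nat.ModEq 5 (Nat.card M)) ?_) h)
  exact Nat.card_congr
    { toFun := fun m => ⟨m.1.1, m.1.2, Subgroup.mem_centralizer_singleton_iff.2 (by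
        have h1 : y * (m.1 : G) * y⁻¹ = m.1 := congrArg Subtype.val m.2
        exact (mul_inv_eq_iff_eq_mul.1 h1).symm)⟩
      invFun := fun x => ⟨⟨x.1, x.2.1⟩, Subtype.ext (by
        show y * x.1 * y⁻¹ = x.1
        exact mul_inv_eq_iff_eq_mul.2 (Subgroup.mem_centralizer_singleton_iff.1 x.2.2).symm)⟩
      left_inv := fun m => rfl
      right_inv := fun x => rfl }

set_option maxHeartbeats 2000000 in
theorem isSimple_of_extraspecialCentralizer {z : G} (hz : z ≠ 1) (C : Subgroup G)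
    (hC : ∀ x : G, x ∈ C ↔ x * z = z * x) (ψ : C →* Equiv.Perm (Fin 5))
    (hψ : ψ.range = alternatingGroup (Fin 5)) (hker : Nat.card ψ.ker = 32)
    (hcen : Nat.card (Subgroup.center ψ.ker) = 2) {m : ℕ} (hm : ¬ 2 ∣ m)
    (hG : Nat.card G = 2 ^ 7 * m) (h20 : ∀ g : G, orderOf g ≠ 20)
    (t : C) (ht : ψ t = 1) (htz : (t : G) ≠ z)
    (htc : ∃ g : G, g * z * g⁻¹ = t)
    (r : C) (hr : ψ r ≠ 1)
    (q : C) (hq : ψ q = 1) (g : G) (hrq : g * q * g⁻¹ = r)
    (S : Sylow 2 G) : (groupFusionSystem (S : Subgroup G)).IsSimple 2 := by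
  have : Fact (Nat.Prime 2) := ⟨Nat.prime_two⟩
  have hev : ∀ c : C, Equiv.Perm.sign (ψ c) = 1 := fun c =>
    Equiv.Perm.mem_alternatingGroup.1 (hψ ▸ ⟨c, rfl⟩)
  have hsur : ∀ σ : Equiv.Perm (Fin 5), Equiv.Perm.sign σ = 1 → ∃ c : C, ψ c = σ := fun σ hσ =>
    MonoidHom.mem_range.1 (hψ.symm ▸ Equiv.Perm.mem_alternatingGroup.2 hσ)
  have hzC : z ∈ C := (hC z).2 rfl
  let zC : C := ⟨z, hzC⟩
  have hzc : ∀ c : C, c * zC = zC * c := fun c =>
    Subtype.ext ((hC c).1 c.2)
  have hz0 : ψ zC = 1 := by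
    obtain ⟨a, ha⟩ := hsur _ five_rot.1
    obtain ⟨b, hb⟩ := hsur _ five_rot.2.1
    exact five_center _ (by rw [← ha, ← map_mul, ← map_mul, hzc])
      (by rw [← hb, ← map_mul, ← map_mul, hzc])
  -- the centre of the kernel
  have hZ : ∀ x : C, ψ x = 1 → (∀ w : C, ψ w = 1 → x * w = w * x) → x = 1 ∨ x = zC := by
    intro x hx hxc
    let zk : ψ.ker := ⟨zC, hz0⟩
    have hzk : zk ∈ Subgroup.center ψ.ker :=
      Subgroup.mem_center_iff.2 fun w => Subtype.ext (hzc w.1)
    have hxk : (⟨x, hx⟩ : ψ.ker) ∈ Subgroup.center ψ.ker :=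
      Subgroup.mem_center_iff.2 fun w => Subtype.ext (hxc w.1 w.2).symm
    obtain ⟨a, -, ha⟩ := (Nat.card_eq_two_iff' (1 : Subgroup.center ψ.ker)).1 hcen
    by_cases h1 : (⟨⟨x, hx⟩, hxk⟩ : Subgroup.center ψ.ker) = 1
    · exact Or.inl (congrArg (fun u : Subgroup.center ψ.ker => (u.1 : C)) h1)
    · have h2 : (⟨zk, hzk⟩ : Subgroup.center ψ.ker) ≠ 1 := fun h =>
        hz (congrArg (fun u : Subgroup.center ψ.ker => (((u.1 : C)) : G)) h)
      exact Or.inr (congrArg (fun u : Subgroup.center ψ.ker => (u.1 : C))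
        ((ha _ h1).trans (ha _ h2).symm))
  -- an element of order four in the kernel
  obtain ⟨q4, hq4, hq4o⟩ : ∃ w : C, ψ w = 1 ∧ orderOf (w : G) = 4 := by
    obtain ⟨x, hx⟩ : ∃ x : ψ.ker, x * x ≠ 1 := by
      by_contra hall
      push Not at hall
      have htop : Subgroup.center ψ.ker = ⊤ := (Subgroup.eq_top_iff' _).2 fun a =>
        Subgroup.mem_center_iff.2 fun b => by
          have ea := inv_eq_of_mul_eq_one_right (hall a)
          have eb := inv_eq_of_mul_eq_one_right (hall b)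
          have e : (b * a)⁻¹ = b * a := inv_eq_of_mul_eq_one_right (hall _)
          rw [mul_inv_rev, ea, eb] at e
          exact e.symm
      rw [htop, Subgroup.card_top, hker] at hcen
      norm_num at hcen
    have hd : orderOf x ∣ 2 ^ 5 := by
      have := orderOf_dvd_natCard x
      rwa [hker] at this
    obtain ⟨k, -, hk⟩ := (Nat.dvd_prime_pow Nat.prime_two).1 hd
    have h4 : 4 ∣ orderOf x := by
      rw [hk]
      rcases k with _ | _ | k
      · exact absurd (orderOf_eq_one_iff.1 (by rw [hk]; norm_num)) (fun h => hx (by rw [h, mul_one]))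
      · exact absurd (by rw [← sq]; exact orderOf_dvd_iff_pow_eq_one.1 (by rw [hk]; norm_num)) hx
      · exact Dvd.intro_left (2 ^ k) (by ring)
    refine ⟨(x ^ (orderOf x / 4) : ψ.ker), (x ^ (orderOf x / 4)).2, ?_⟩
    rw [Subgroup.orderOf_coe, Subgroup.orderOf_coe,
      orderOf_pow_orderOf_div (orderOf_pos x).ne' h4]
  have noCent : ∀ y : C, orderOf (y : G) = 5 → ¬ ∀ w : C, ψ w = 1 → y * w = w * y := by
    intro y hy hall
    have hc : Commute (y : G) (q4 : G) := congrArg Subtype.val (hall q4 hq4)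
    refine h20 ((y : G) * q4) ?_
    rw [hc.orderOf_mul_eq_mul_orderOf_of_coprime (by rw [hy, hq4o]; norm_num), hy, hq4o]
  have exFive : ∀ c : C, ψ c = finRotate 5 →
      ∃ k : ℕ, orderOf ((c ^ k : C) : G) = 5 := by
    intro c hc
    have h5 : orderOf (finRotate 5) = 5 :=
      orderOf_eq_prime (hp := ⟨by norm_num⟩) five_rot.2.2.2 five_rot.2.2.1
    have hd : 5 ∣ orderOf c := h5 ▸ hc ▸ orderOf_map_dvd ψ c
    refine ⟨orderOf c / 5, ?_⟩
    rw [Subgroup.orderOf_coe, orderOf_pow_orderOf_div (orderOf_pos c).ne' hd]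
  -- normal subgroups of the centralizer map to trivial or everything
  have hsimp : ∀ N : Subgroup C, N.Normal → (∀ n ∈ N, ψ n = 1) ∨
      ∀ σ : Equiv.Perm (Fin 5), Equiv.Perm.sign σ = 1 → ∃ n ∈ N, ψ n = σ := by
    intro N hN
    let e : C →* alternatingGroup (Fin 5) :=
      ψ.codRestrict _ fun c => Equiv.Perm.mem_alternatingGroup.2 (hev c)
    have hes : Function.Surjective e := fun σ => by
      obtain ⟨c, hc⟩ := hsur σ.1 (Equiv.Perm.mem_alternatingGroup.1 σ.2)
      exact ⟨c, Subtype.ext hc⟩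
    have hN' : (N.map e).Normal := hN.map e hes
    rcases alternatingGroup.isSimpleGroup_five.eq_bot_or_eq_top_of_normal _ hN' with h | h
    · refine Or.inl fun n hn => ?_
      have h1 : e n ∈ N.map e := ⟨n, hn, rfl⟩
      rw [h, Subgroup.mem_bot] at h1
      exact congrArg Subtype.val h1
    · refine Or.inr fun σ hσ => ?_
      obtain ⟨n, hn, he⟩ := (h.symm ▸ Subgroup.mem_top (⟨σ, Equiv.Perm.mem_alternatingGroup.2 hσ⟩ :
        alternatingGroup (Fin 5)) : _ ∈ N.map e)
      exact ⟨n, hn, congrArg Subtype.val he⟩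
  have hQn : ∀ c w : C, ψ w = 1 → ψ (c * w * c⁻¹) = 1 := fun c w hw => by simp [hw]
  have hcentQ : ∀ c : C, (∀ w : C, ψ w = 1 → c * w = w * c) → ψ c = 1 := by
    rcases hsimp (Subgroup.centralizer (ψ.ker : Set C)) inferInstance with h | h
    · exact fun c hc => h c (Subgroup.mem_centralizer_iff.2 fun w hw => (hc w hw).symm)
    · obtain ⟨c, hcm, hc⟩ := h _ five_rot.1
      obtain ⟨k, hk⟩ := exFive c hc
      exact absurd (fun w hw => (Subgroup.mem_centralizer_iff.1
        (pow_mem hcm k) w hw).symm) (noCent _ hk)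
  obtain ⟨y, hy⟩ : ∃ y : C, orderOf (y : G) = 5 := by
    obtain ⟨c, hc⟩ := hsur _ five_rot.1
    obtain ⟨k, hk⟩ := exFive c hc
    exact ⟨_, hk⟩
  -- the kernel inside the group
  set Q : Subgroup G := ψ.ker.map C.subtype with hQ
  have hQC : Q ≤ C := Subgroup.map_subtype_le _
  have hQmem : ∀ w : C, (w : G) ∈ Q ↔ ψ w = 1 := fun w =>
    Subgroup.mem_map_iff_mem C.subtype_injective
  have hzQ : z ∈ Q := (hQmem zC).2 hz0
  have hQcard : Nat.card Q = 32 := by
    rw [hQ, Subgroup.card_map_of_injective C.subtype_injective, hker]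
  have hconjQ : ∀ c ∈ C, ∀ w ∈ Q, c * w * c⁻¹ ∈ Q := by
    intro c hc w hw
    exact (hQmem (⟨c, hc⟩ * ⟨w, hQC hw⟩ * ⟨c, hc⟩⁻¹)).2
      (hQn ⟨c, hc⟩ _ ((hQmem ⟨w, hQC hw⟩).1 hw))
  have hy5 : (y : G) ^ 5 = 1 := hy ▸ pow_orderOf_eq_one _
  have hsmall : ∀ n : ℕ, n ∣ 32 → n ≡ 2 [MOD 5] → n = 2 ∨ n = 32 := by
    intro n hn h2
    exact dvd32 n (Nat.lt_succ_of_le (Nat.le_of_dvd (by norm_num) hn)) hn h2
  have hfix : ∀ w ∈ Q, w * (y : G) = y * w → w = 1 ∨ w = z := by
    have h1 := card_modEq_centralizer_five (y : G) hy5 Q fun w hw => hconjQ _ y.2 w hw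
    rw [hQcard] at h1
    rcases hsmall _ (hQcard ▸ Subgroup.card_dvd_of_le inf_le_left)
        (h1.symm.trans (by decide : 32 ≡ 2 [MOD 5])) with h | h
    · intro w hw hwy
      obtain ⟨a, -, ha⟩ := (Nat.card_eq_two_iff'
        (1 : ↥(Q ⊓ Subgroup.centralizer ({(y : G)} : Set G)))).1 h
      have hzm : z ∈ Q ⊓ Subgroup.centralizer ({(y : G)} : Set G) :=
        ⟨hzQ, Subgroup.mem_centralizer_singleton_iff.2 (congrArg Subtype.val (hzc y)).symm⟩
      have hwm : w ∈ Q ⊓ Subgroup.centralizer ({(y : G)} : Set G) :=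
        ⟨hw, Subgroup.mem_centralizer_singleton_iff.2 hwy⟩
      by_cases h0 : w = 1
      · exact Or.inl h0
      · exact Or.inr (congrArg Subtype.val ((ha ⟨w, hwm⟩ fun e => h0 (congrArg Subtype.val e)).trans
          (ha ⟨z, hzm⟩ fun e => hz (congrArg Subtype.val e)).symm))
    · have heq : Q ⊓ Subgroup.centralizer ({(y : G)} : Set G) = Q :=
        Subgroup.eq_of_le_of_card_ge inf_le_left (by rw [h, hQcard])
      exact absurd (fun w hw => Subtype.ext (Subgroup.mem_centralizer_singleton_iff.1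
        (heq.ge ((hQmem w).2 hw)).2).symm) (noCent y hy)
  -- every invariant subgroup strictly above the centre is the whole kernel
  have hinv : ∀ M : Subgroup G, M ≤ Q → z ∈ M → (∀ w ∈ M, (y : G) * w * (y : G)⁻¹ ∈ M) →
      (∃ w ∈ M, w ≠ 1 ∧ w ≠ z) → M = Q := by
    rintro M hMQ hzM hMy ⟨w, hw, hw1, hwz⟩
    have h1 := card_modEq_centralizer_five (y : G) hy5 M hMy
    have h2 : Nat.card ↥(M ⊓ Subgroup.centralizer ({(y : G)} : Set G)) = 2 := by
      rw [Nat.card_eq_two_iff' (1 : ↥(M ⊓ Subgroup.centralizer ({(y : G)} : Set G)))]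
      refine ⟨⟨z, hzM, Subgroup.mem_centralizer_singleton_iff.2
        (congrArg Subtype.val (hzc y)).symm⟩, fun e => hz (congrArg Subtype.val e), ?_⟩
      rintro ⟨x, hxM, hxy⟩ hx
      rcases hfix x (hMQ hxM) (Subgroup.mem_centralizer_singleton_iff.1 hxy) with h | h
      · exact absurd (Subtype.ext h) hx
      · exact Subtype.ext h
    rw [h2] at h1
    rcases hsmall _ (hQcard ▸ Subgroup.card_dvd_of_le hMQ) h1 with h | h
    · obtain ⟨a, -, ha⟩ := (Nat.card_eq_two_iff' (1 : M)).1 h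
      exact absurd (congrArg Subtype.val ((ha ⟨w, hw⟩ fun e => hw1 (congrArg Subtype.val e)).trans
        (ha ⟨z, hzM⟩ fun e => hz (congrArg Subtype.val e)).symm)) hwz
    · exact Subgroup.eq_of_le_of_card_ge hMQ (by rw [h, hQcard])
  -- the Sylow subgroup
  have hkerP : IsPGroup 2 ψ.ker := IsPGroup.of_card (n := 5) (by rw [hker]; norm_num)
  have hrP : IsPGroup 2 (Subgroup.zpowers r) := by
    obtain ⟨k, hk⟩ := hkerP ⟨q, hq⟩
    have hqk : (q : G) ^ 2 ^ k = 1 := congrArg (fun u : ψ.ker => ((u : C) : G)) hk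
    rintro ⟨_, i, rfl⟩
    refine ⟨k, Subtype.ext ?_⟩
    have h0 : r ^ 2 ^ k = 1 := Subtype.ext (by
      rw [SubgroupClass.coe_pow, ← hrq, conj_pow, hqk]; simp)
    show (r ^ i) ^ 2 ^ k = 1
    rw [← zpow_natCast, ← zpow_mul, mul_comm, zpow_mul, zpow_natCast, h0, one_zpow]
  obtain ⟨S₁, hS₁⟩ := (IsPGroup.to_sup_of_normal_left' hkerP hrP
    (fun c _ => by rw [Subgroup.normalizer_eq_top]; trivial)).exists_le_sylow
  have hcardC : Nat.card C = 2 ^ 7 * 15 := by
    rw [← ψ.ker.card_mul_index, Subgroup.index_ker, hψ, hker,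
      show Nat.card (alternatingGroup (Fin 5)) = 60 by
        rw [nat_card_alternatingGroup]; simp [Nat.factorial]]
    norm_num
  have hS₁card : Nat.card S₁ = 2 ^ 7 := by
    rw [Sylow.card_eq_multiplicity, hcardC]
    congr 1
    rw [Nat.factorization_mul (by norm_num) (by norm_num), Finsupp.add_apply,
      Nat.Prime.factorization_pow Nat.prime_two, Finsupp.single_eq_same,
      Nat.factorization_eq_zero_of_not_dvd (show ¬ 2 ∣ 15 by norm_num)]
  have hSmap : Nat.card ((S₁ : Subgroup C).map C.subtype) = 2 ^ (Nat.card G).factorization 2 := by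
    rw [Subgroup.card_map_of_injective C.subtype_injective, hS₁card, hG,
      Nat.factorization_mul (by norm_num) (by rintro rfl; simp at hm), Finsupp.add_apply,
      Nat.Prime.factorization_pow Nat.prime_two, Finsupp.single_eq_same,
      Nat.factorization_eq_zero_of_not_dvd hm]
  let S₀ : Sylow 2 G := Sylow.ofCard _ hSmap
  have hS₀ : (S₀ : Subgroup G) = (S₁ : Subgroup C).map C.subtype := rfl
  have hS₀C : (S₀ : Subgroup G) ≤ C := hS₀ ▸ Subgroup.map_subtype_le _
  have hS₀m : ∀ w : C, (w : G) ∈ (S₀ : Subgroup G) ↔ w ∈ (S₁ : Subgroup C) := fun w =>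
    Subgroup.mem_map_iff_mem C.subtype_injective
  have hQS : Q ≤ (S₀ : Subgroup G) := hS₀ ▸ Subgroup.map_mono (le_sup_left.trans hS₁)
  have hrS : (r : G) ∈ (S₀ : Subgroup G) :=
    (hS₀m r).2 (hS₁ (Subgroup.mem_sup_right (Subgroup.mem_zpowers r)))
  have hne : (S₀ : Subgroup G) ≠ ⊥ := fun h =>
    hz ((Subgroup.eq_bot_iff_forall _).1 h z (hQS hzQ))
  have hfour : ∀ w ∈ (S₁ : Subgroup C), ψ w ^ 4 = 1 := by
    intro w hw
    have h1 : (ψ.ker.subgroupOf (S₁ : Subgroup C)).index = 4 := by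
      have h := (ψ.ker.subgroupOf (S₁ : Subgroup C)).card_mul_index
      rw [Nat.card_congr (Subgroup.subgroupOfEquivOfLe (le_sup_left.trans hS₁)).toEquiv, hker,
        hS₁card] at h
      omega
    have h2 := Subgroup.pow_index_mem (ψ.ker.subgroupOf (S₁ : Subgroup C)) ⟨w, hw⟩
    rw [h1] at h2
    rw [← map_pow]
    exact h2
  -- the centre of the Sylow subgroup
  have hZS : ∀ x ∈ (S₀ : Subgroup G), (∀ s ∈ (S₀ : Subgroup G), s * x = x * s) →
      x = 1 ∨ x = z := by
    intro x hx hxc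
    have hcom : ∀ w : C, ψ w = 1 → (⟨x, hS₀C hx⟩ : C) * w = w * ⟨x, hS₀C hx⟩ := fun w hw =>
      Subtype.ext (hxc _ (hQS ((hQmem w).2 hw))).symm
    rcases hZ _ (hcentQ _ hcom) hcom with h | h
    · exact Or.inl (congrArg Subtype.val h)
    · exact Or.inr (congrArg Subtype.val h)
  refine groupFusion_isSimple_of_radicals_conj S₀ S hne (fun T hTS hTb hTc => ?_) {Q} ?_ ?_
  · -- strongly closed subgroups
    have hTn : ∀ s ∈ (S₀ : Subgroup G), ∀ x ∈ T, s * x * s⁻¹ ∈ T := fun s hs x hx =>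
      hTc x hx s (mul_mem (mul_mem hs (hTS hx)) (inv_mem hs))
    have hzT : z ∈ T := by
      have : (T.subgroupOf (S₀ : Subgroup G)).Normal :=
        ⟨fun x hx s => hTn s s.2 x hx⟩
      have hne' := PGroups.inf_center_ne_bot S₀.isPGroup'
        (N := T.subgroupOf (S₀ : Subgroup G)) (fun h => hTb (by
          have := Subgroup.subgroupOf_eq_bot.1 h
          rwa [disjoint_comm, disjoint_iff, inf_eq_right.2 hTS] at this))
      obtain ⟨⟨⟨x, hx⟩, hxT, hxc⟩, hx1⟩ := Subgroup.ne_bot_iff_exists_ne_one.1 hne'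
      rcases hZS x hx (fun s hs => congrArg Subtype.val
          (Subgroup.mem_center_iff.1 hxc ⟨s, hs⟩)) with h | h
      · exact absurd (Subtype.ext (Subtype.ext h)) hx1
      · exact h ▸ hxT
    have htT : (t : G) ∈ T := by
      obtain ⟨g', hg'⟩ := htc
      exact hg' ▸ hTc z hzT g' (hg'.symm ▸ hQS ((hQmem t).2 ht))
    have hQT : Q ≤ T := by
      have h := hinv (T ⊓ Q) inf_le_right ⟨hzT, hzQ⟩ (fun w hw =>
        ⟨hTc w hw.1 _ (hQS (hconjQ _ y.2 w hw.2)), hconjQ _ y.2 w hw.2⟩)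
        ⟨t, ⟨htT, (hQmem t).2 ht⟩, fun h => by
          obtain ⟨g', hg'⟩ := htc
          rw [h, conj_eq_one_iff] at hg'
          exact hz hg', htz⟩
      exact h ▸ inf_le_left
    have hrT : (r : G) ∈ T := hrq ▸ hTc q (hQT ((hQmem q).2 hq)) g (hrq.symm ▸ hrS)
    refine le_antisymm hTS fun s hs => ?_
    by_cases hs0 : ψ ⟨s, hS₀C hs⟩ = 1
    · exact hQT ((hQmem ⟨s, hS₀C hs⟩).2 hs0)
    · have h2 : ∀ w : C, (w : G) ∈ (S₀ : Subgroup G) → ψ w ^ 2 = 1 := fun w hw =>
        five_four _ (hev w) (hfour w ((hS₀m w).1 hw))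
      obtain ⟨a, ha, hae⟩ := five_inv_conj _ (hev r) (h2 r hrS) hr
      obtain ⟨b, hb, hbe⟩ := five_inv_conj _ (hev ⟨s, hS₀C hs⟩) (h2 ⟨s, hS₀C hs⟩ hs) hs0
      obtain ⟨c, hc⟩ := hsur (b * a⁻¹) (by rw [map_mul, map_inv, ha, hb]; simp)
      have hd : ψ ((⟨s, hS₀C hs⟩ : C)⁻¹ * (c * r * c⁻¹)) = 1 := by
        rw [map_mul, map_mul, map_mul, map_inv, map_inv, hc, ← hbe, ← hae]
        group
      have hdQ : s⁻¹ * ((c : G) * r * (c : G)⁻¹) ∈ Q := (hQmem _).2 hd
      have hxS : (c : G) * r * (c : G)⁻¹ ∈ (S₀ : Subgroup G) := by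
        have := mul_mem hs (hQS hdQ)
        rwa [mul_inv_cancel_left] at this
      have := mul_mem (hTc r hrT c hxS) (inv_mem (hQT hdQ))
      rwa [mul_inv_rev, inv_inv, ← mul_assoc, mul_inv_cancel, one_mul] at this
  · rintro R rfl
    refine ⟨hQS, fun s hs => ?_, fun c hc _ => ?_⟩
    · refine Subgroup.mem_normalizer_iff.2 fun w => ⟨hconjQ s (hS₀C hs) w, fun h => ?_⟩
      have := hconjQ s⁻¹ (inv_mem (hS₀C hs)) _ h
      simpa [mul_assoc] using this
    · have hcC : c ∈ C := (hC c).2 (Subgroup.mem_centralizer_iff.1 hc z hzQ).symm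
      exact (hQmem ⟨c, hcC⟩).2 (hcentQ _ fun w hw =>
        Subtype.ext (Subgroup.mem_centralizer_iff.1 hc _ ((hQmem w).2 hw)).symm)
  · intro n hn
    have hnC : n ∈ C := by
      refine (hC n).2 ?_
      have hzS : z ∈ (S₀ : Subgroup G) := hQS hzQ
      rcases hZS (n * z * n⁻¹) ((Subgroup.mem_normalizer_iff.1 hn z).1 hzS) (fun s hs => by
          have h1 : n⁻¹ * s * n ∈ (S₀ : Subgroup G) := by
            have := (Subgroup.mem_normalizer_iff.1 (inv_mem hn) s).1 hs
            rwa [inv_inv] at this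
          have h2 : n⁻¹ * s * n * z = z * (n⁻¹ * s * n) :=
            (hC _).1 (hS₀C h1)
          calc s * (n * z * n⁻¹) = n * (n⁻¹ * s * n * z) * n⁻¹ := by group
            _ = n * (z * (n⁻¹ * s * n)) * n⁻¹ := by rw [h2]
            _ = n * z * n⁻¹ * s := by group) with h | h
      · exact absurd (conj_eq_one_iff.1 h) hz
      · exact mul_inv_eq_iff_eq_mul.1 h
    have hle : C ≤ pGenNormalizer 2 Q := by
      set D : Subgroup C := (pGenNormalizer 2 Q).subgroupOf C with hD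
      have hgenmem : ∀ w : C, (∃ k : ℕ, orderOf (w : G) = 2 ^ k) → w ∈ D := fun w hw => by
        refine Subgroup.subset_closure ⟨Subgroup.mem_normalizer_iff.2 fun u =>
          ⟨hconjQ w w.2 u, fun h => ?_⟩, hw⟩
        have := hconjQ _ (inv_mem w.2) _ h
        simpa [mul_assoc] using this
      let K : Subgroup C := Subgroup.closure {w : C | ∃ k : ℕ, orderOf (w : G) = 2 ^ k}
      have hKD : K ≤ D := (Subgroup.closure_le _).2 fun w hw => hgenmem w hw
      have hKn : K.Normal := by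
        refine ⟨fun x hx c => ?_⟩
        induction hx using Subgroup.closure_induction with
        | mem x hx =>
          obtain ⟨k, hk⟩ := hx
          refine Subgroup.subset_closure ⟨k, ?_⟩
          rw [← hk]
          exact (MulAut.conj (c : G)).orderOf_eq x
        | one => simp
        | mul a b _ _ ha hb => rw [← conj_mul]; exact mul_mem ha hb
        | inv a _ ha => rw [← conj_inv]; exact inv_mem ha
      have h2el : ∀ w : C, w ∈ (S₁ : Subgroup C) → w ∈ K := fun w hw => by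
        obtain ⟨k, hk⟩ := IsPGroup.iff_orderOf.1 S₁.isPGroup' ⟨w, hw⟩
        exact Subgroup.subset_closure ⟨k, by
          rw [← hk]; simp⟩
      rcases hsimp K hKn with h | h
      · exact absurd (h r (h2el r ((hS₀m r).1 hrS))) hr
      · intro c hc
        obtain ⟨d, hd, hde⟩ := h _ (hev ⟨c, hc⟩)
        have hdk : d⁻¹ * ⟨c, hc⟩ ∈ K := h2el _ ((le_sup_left.trans hS₁)
          (show ψ (d⁻¹ * ⟨c, hc⟩) = 1 by rw [map_mul, map_inv, hde, inv_mul_cancel]))
        have := mul_mem hd hdk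
        rw [mul_inv_cancel_left] at this
        exact hKD this
    exact Subgroup.subset_closure ⟨hn, Q, rfl, hle hnC⟩

end CfsgLib.Fusion
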