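import Cfsg.Agent.Lib.Fusion.MeetLift
import Cfsg.Agent.Lib.Core.SchurZassenhaus

/-!
# Restriction and extension of trivially lifting automorphisms along a normal inclusion
-/

set_option autoImplicit false
set_option maxHeartbeats 1000000

namespace CfsgLib.Fusion.Meet

open Cfsg Cfsg.FusionSystem CfsgLib.Fusion
open scoped Pointwise

universe u

variable {Ω : Type u} [Group Ω] {S T V : Subgroup Ω} {F : FusionSystem S} {G : FusionSystem V}
  {p : ℕ}

/-- An exponent killing nothing of order prime to `p` and everything else. -/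
theorem exists_pPrime_exponent [hp : Fact p.Prime] {N : ℕ} (hN : N ≠ 0) :
    ∃ j : ℕ, (∀ {A : Type u} [Group A] (a : A), a ^ N = 1 → (orderOf (a ^ j)).Coprime p) ∧
      ∀ {A : Type u} [Group A] (a : A), a ^ N = 1 → (orderOf a).Coprime p → a ^ j = a := by
  obtain ⟨e, m, hm, hn⟩ := Nat.exists_eq_pow_mul_and_not_dvd hN p hp.out.ne_one
  have hcop : (p ^ e).Coprime m := ((hp.out.coprime_iff_not_dvd.2 hm).pow_left e)
  obtain ⟨j, hj1, hj2⟩ := Nat.chineseRemainder hcop 0 1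
  refine ⟨j, fun {A} _ a ha => ?_, fun {A} _ a ha hca => ?_⟩
  · refine Nat.Coprime.coprime_dvd_left ?_ (hp.out.coprime_iff_not_dvd.2 hm).symm
    refine orderOf_dvd_of_pow_eq_one ?_
    rw [← pow_mul]
    obtain ⟨k, hk⟩ := Nat.modEq_zero_iff_dvd.1 hj1
    rw [hk, show p ^ e * k * m = (p ^ e * m) * k by ring, ← hn, pow_mul, ha, one_pow]
  · conv_rhs => rw [← pow_one a]
    rw [pow_eq_pow_iff_modEq]
    have hd : orderOf a ∣ m := (Nat.Coprime.pow_right e hca).dvd_of_dvd_mul_left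
      (hn ▸ orderOf_dvd_of_pow_eq_one ha)
    exact Nat.ModEq.of_dvd hd hj2

/-- Displacements of an automorphism fixing a subgroup centric in `T`. -/
theorem shift_of_fix {P M : Subgroup Ω} (hMT : M ≤ T)
    (hN : M ≤ Subgroup.normalizer (P : Set Ω)) (hPM : P ≤ M) (hc : centralizerIn T P ≤ P)
    {ε : MulAut M} (hfix : ∀ x : M, (x : Ω) ∈ P → ε x = x) (x : M) :
    ((x⁻¹ * ε x : M) : Ω) ∈ P := by
  refine hc (mem_centralizerIn.2 ⟨hMT (x⁻¹ * ε x).2, fun r hr => ?_⟩)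
  have hy : ((x * ⟨r, hPM hr⟩ * x⁻¹ : M) : Ω) ∈ P := conj_mem_of_mem_normalizer (hN x.2) hr
  have h1 := hfix _ hy
  rw [map_mul, map_mul, map_inv, hfix ⟨r, hPM hr⟩ hr] at h1
  have h2 : (⟨r, hPM hr⟩ : M) * (x⁻¹ * ε x) = x⁻¹ * ε x * ⟨r, hPM hr⟩ :=
    calc (⟨r, hPM hr⟩ : M) * (x⁻¹ * ε x) = x⁻¹ * (x * ⟨r, hPM hr⟩ * x⁻¹) * ε x := by group
      _ = x⁻¹ * (ε x * ⟨r, hPM hr⟩ * (ε x)⁻¹) * ε x := by rw [h1]
      _ = x⁻¹ * ε x * ⟨r, hPM hr⟩ := by group
  exact congrArg Subtype.val h2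

/-- The centralizer of `P` normalizes the subgroups of `T` between `P` and its normalizer. -/
theorem centralizer_normalizes (hT : G.StronglyClosed T) {P M : Subgroup Ω} (hPM : P ≤ M)
    (hMT : M ≤ T) (hN : M ≤ Subgroup.normalizer (P : Set Ω)) (hc : centralizerIn T P ≤ P) :
    centralizerIn V P ≤ Subgroup.normalizer (M : Set Ω) := by
  rw [Subgroup.le_normalizer_iff]
  intro c hc' m hm
  obtain ⟨hcV, hcc⟩ := mem_centralizerIn.1 hc'
  have h1 : c * m * c⁻¹ * m⁻¹ ∈ P := by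
    refine hc (mem_centralizerIn.2 ⟨T.mul_mem (conj_mem_of_mem_normalizer
      (StronglyClosed.normal_in hT hcV) (hMT hm)) (T.inv_mem (hMT hm)), fun r hr => ?_⟩)
    have hr' := conj_mem_of_mem_normalizer (hN (inv_mem hm)) hr
    have h2 := hcc _ hr'
    have h3 := hcc r hr
    have h4 : r * c⁻¹ = c⁻¹ * r := (Commute.inv_right (h3 : Commute r c)).eq
    calc r * (c * m * c⁻¹ * m⁻¹) = c * m * (m⁻¹ * r * m⁻¹⁻¹) * c⁻¹ * m⁻¹ := by
          rw [← mul_assoc, ← mul_assoc, ← mul_assoc, h3]; group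
      _ = c * m * (c⁻¹ * (m⁻¹ * r * m⁻¹⁻¹)) * m⁻¹ := by
          rw [mul_assoc (c * m), (Commute.inv_right (h2 : Commute _ c)).eq]
      _ = c * m * c⁻¹ * m⁻¹ * r := by group
  have := M.mul_mem (hPM h1) hm
  rwa [inv_mul_cancel_right] at this

/-- An automorphism fixing a fully normalized `P` and trivial modulo it is conjugation by an
element of `C(P)`. -/
theorem exists_conj_of_fix [Fact p.Prime] [Finite V] (hV : IsPGroup p V) (hG : G.IsSaturated p)
    {P M : Subgroup Ω} (hP : G.IsFullyNormalized P) (hPM : P ≤ M) (hMN : M ≤ normalizerIn V P)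
    (hC : centralizerIn V P ≤ Subgroup.normalizer (M : Set Ω)) {ε : MulAut M}
    (hε : ε ∈ G.autGroup M) (hfix : ∀ x : M, (x : Ω) ∈ P → ε x = x)
    (hshift : ∀ x : M, ((x⁻¹ * ε x : M) : Ω) ∈ P) :
    ∃ s ∈ centralizerIn V P, ∀ x : M, ((ε x : M) : Ω) = s * (x : Ω) * s⁻¹ := by
  classical
  have hPV := hP.1
  have hMV : M ≤ V := hMN.trans (normalizerIn_le P)
  have hNsys := normSystem_isNormalizerSystem G P hPV
  set NS := normSystem G P hPV
  have hNSs : NS.IsSaturated p := normalizerSystem_saturated hV hG hP hNsys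
  have := finite_le (normalizerIn_le (S := V) P)
  have hNp : IsPGroup p (normalizerIn V P) := hV.to_le (normalizerIn_le P)
  obtain ⟨Q, hMQ, hQn⟩ := exists_fullyNormalized (F := NS) hMN
  obtain ⟨φ, hφ, -, himg⟩ := exists_normalizer_map hNp (IsSaturated.fullyAutomized hNp hNSs hQn)
    (IsSaturated.receptive hNp hNSs (IsSaturated.fullyCentralized hNp hNSs hQn)) hMQ
  have hMN' : M ≤ normalizerIn (normalizerIn V P) M := le_normalizerIn hMN
  have hPN' : P ≤ normalizerIn (normalizerIn V P) M := hPM.trans hMN'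
  have hφP : ∀ x : normalizerIn (normalizerIn V P) M, (x : Ω) ∈ P → φ x ∈ P := by
    intro x hx
    have h1 := hφ
    rw [hNsys] at h1
    obtain ⟨-, -, -, ψ, -, hag, hψP⟩ := h1
    rw [← hag]
    exact hψP.le ⟨_, hx, rfl⟩
  have hφV : φ ∈ G.Hom (normalizerIn (normalizerIn V P) M) := by
    have h1 := hφ
    rw [hNsys] at h1
    exact h1.1
  obtain ⟨e, he, hev⟩ := exists_iso (Q := Q) (restrict_mem hφ hMN')
    (by rw [range_restrict, himg])
  have heG : IsoIn G e := by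
    refine hom_congr (restrict_mem hφV hMN') fun x => ?_
    exact hev x
  have hQN : Q ≤ normalizerIn V P := hQn.1
  have hPQ : ∀ (x : M), (x : Ω) ∈ P → ((e x : Q) : Ω) ∈ P := fun x hx => by
    rw [hev]
    exact hφP _ hx
  have := finite_le hPV
  have hPsurj : ∀ y ∈ P, ∃ x : M, (x : Ω) ∈ P ∧ ((e x : Q) : Ω) = y := by
    intro y hy
    let f : P → P := fun x => ⟨(e ⟨x, hPM x.2⟩ : Ω), hPQ _ x.2⟩
    have hf : Function.Injective f := fun a b h => by
      have h1 : e ⟨(a : Ω), hPM a.2⟩ = e ⟨(b : Ω), hPM b.2⟩ :=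
        Subtype.ext (congrArg Subtype.val h :)
      exact Subtype.ext (congrArg Subtype.val (e.injective h1) :)
    obtain ⟨x, hx⟩ := Finite.surjective_of_injective hf ⟨y, hy⟩
    exact ⟨⟨x, hPM x.2⟩, x.2, congrArg Subtype.val hx⟩
  have hQV : Q ≤ V := hQN.trans (normalizerIn_le P)
  have := finite_mulAut_of_le (S := V) hQV
  have := finite_le hQV
  -- the stabilizer
  let K : Subgroup (MulAut Q) :=
    { carrier := {β | β ∈ NS.autGroup Q ∧ (∀ x : Q, (x : Ω) ∈ P → β x = x) ∧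
        ∀ x : Q, ((x⁻¹ * β x : Q) : Ω) ∈ P}
      one_mem' := ⟨one_mem _, fun _ _ => rfl, fun x => by simp⟩
      mul_mem' := fun {a b} ha hb => ⟨mul_mem ha.1 hb.1, fun x hx => by
        rw [MulAut.mul_apply, hb.2.1 x hx, ha.2.1 x hx], fun x => by
        have h1 : a (b x) = a x * a (x⁻¹ * b x) := by rw [← map_mul, mul_inv_cancel_left]
        rw [MulAut.mul_apply, h1, ha.2.1 _ (hb.2.2 x), ← mul_assoc, Subgroup.coe_mul]
        exact P.mul_mem (ha.2.2 x) (hb.2.2 x)⟩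
      inv_mem' := fun {a} ha => ⟨inv_mem ha.1, fun x hx => by
        conv_lhs => rw [← ha.2.1 x hx]
        exact MulAut.inv_apply_self Q a x, fun x => by
        have h2 := ha.2.2 (a⁻¹ x)
        rw [MulAut.apply_inv_self] at h2
        have h3 := P.inv_mem h2
        simpa using h3⟩ }
  have hKp : IsPGroup p K := by
    intro β
    obtain ⟨n, hn⟩ := IsPGroup.iff_card.1 ((hV.to_le hQV) :)
    refine ⟨n, Subtype.ext (MulEquiv.ext fun x => ?_)⟩
    have h1 := pow_shift (β : MulAut Q) (mul_inv_cancel_left x _).symm (β.2.2.1 _ (β.2.2.2 x))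
      (p ^ n)
    rw [← hn, pow_card_eq_one', mul_one, hn] at h1
    rw [SubgroupClass.coe_pow, h1]
    rfl
  have hPmem : ∀ β ∈ NS.autGroup Q, ∀ x : Q, (x : Ω) ∈ P → ((β x : Q) : Ω) ∈ P := by
    intro β hβ x hx
    have h1 := (mem_autGroup_iff hQN).1 hβ
    rw [hNsys Q] at h1
    obtain ⟨-, -, -, ψ, -, hag, hψP⟩ := h1
    show (Q.subtype.comp β.toMonoidHom) x ∈ P
    rw [← hag]
    exact hψP.le ⟨_, hx, rfl⟩
  -- the transported automorphism
  set ε' := MulAut.congr e ε with hε'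
  have hε'v : ∀ x : M, ε' (e x) = e (ε x) := fun x => by simp [hε', MulAut.congr]
  have hε'fix : ∀ x : Q, (x : Ω) ∈ P → ε' x = x := by
    intro x hx
    obtain ⟨m, hm, hmx⟩ := hPsurj _ hx
    obtain rfl : e m = x := Subtype.ext hmx
    rw [hε'v, hfix m hm]
  have hε'K : ε' ∈ K := by
    refine ⟨?_, hε'fix, fun x => ?_⟩
    · have hle : Q ⊔ P ≤ Q := sup_le le_rfl fun y hy => by
        obtain ⟨m, -, hmy⟩ := hPsurj y hy
        exact hmy ▸ (e m).2
      have hF : ε' ∈ G.autGroup Q := heG.congr_autGroup.le ⟨ε, hε, rfl⟩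
      refine (mem_autGroup_iff hQN).2 ?_
      rw [hNsys Q]
      refine ⟨(mem_autGroup_iff hQV).1 hF, hQN, fun x => hQN (ε' x).2,
        (Q.subtype.comp ε'.toMonoidHom).comp (Subgroup.inclusion hle),
        restrict_mem ((mem_autGroup_iff hQV).1 hF) hle, fun x => rfl, ?_⟩
      ext y
      constructor
      · rintro ⟨z, hz, rfl⟩
        show ((ε' (Subgroup.inclusion hle z) : Q) : Ω) ∈ P
        rw [hε'fix (Subgroup.inclusion hle z) (show (z : Ω) ∈ P from hz)]
        exact hz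
      · intro hy
        refine ⟨⟨y, Subgroup.mem_sup_right hy⟩, hy, ?_⟩
        show ((ε' ⟨y, hle (Subgroup.mem_sup_right hy)⟩ : Q) : Ω) = y
        rw [hε'fix _ hy]
    · obtain ⟨m, rfl⟩ := e.surjective x
      rw [hε'v, ← map_inv, ← map_mul]
      exact hPQ _ (hshift m)
  obtain ⟨k, hk, hkc⟩ := IsSylowIn.exists_conj_mem
    (IsSaturated.fullyAutomized hNp hNSs hQn).2 (fun a (ha : a ∈ K) => ha.1) hKp
  have h1 : k⁻¹ * ε' * k ∈ K := by
    refine ⟨mul_mem (mul_mem (inv_mem hk) hε'K.1) hk, fun x hx => ?_, fun x => ?_⟩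
    · rw [MulAut.mul_apply, MulAut.mul_apply, hε'fix _ (hPmem k hk x hx), MulAut.inv_apply_self]
    · have h2 := hPmem k⁻¹ (inv_mem hk) _ (hε'K.2.2 (k x))
      rw [map_mul, map_inv, MulAut.inv_apply_self] at h2
      exact h2
  have hin := hkc _ h1
  rw [show k * (k⁻¹ * ε' * k) * k⁻¹ = ε' by group] at hin
  obtain ⟨v, hv, hvv⟩ := mem_autInducedBy_iff.1 hin
  -- `v` centralizes `P` and comes from `C(P)`
  have hvC : v ∈ centralizerIn V P := by
    refine mem_centralizerIn.2 ⟨hv.1, fun r hr => ?_⟩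
    obtain ⟨m, hm, hmr⟩ := hPsurj r hr
    have h2 := hvv (e m)
    rw [hε'v, hfix m hm, hmr] at h2
    exact eq_mul_inv_iff_mul_eq.1 h2
  have hCN : centralizerIn V P ≤ normalizerIn (normalizerIn V P) M := fun c hc =>
    ⟨centralizerIn_le_normalizerIn P hc, hC hc⟩
  have hmapC : ∀ c : centralizerIn V P, φ ⟨c, hCN c.2⟩ ∈ centralizerIn V P := fun c => by
    refine mem_centralizerIn.2 ⟨normalizerIn_le P (hom_apply_mem hφ _), fun r hr => ?_⟩
    obtain ⟨m, hm, hmr⟩ := hPsurj r hr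
    rw [← hmr, hev]
    show φ _ * φ _ = φ _ * φ _
    rw [← map_mul, ← map_mul]
    exact congrArg φ (Subtype.ext ((mem_centralizerIn.1 c.2).2 _ hm))
  have := finite_le (centralizerIn_le (S := V) P)
  obtain ⟨s, hs⟩ := Finite.surjective_of_injective
    (f := fun c : centralizerIn V P => (⟨_, hmapC c⟩ : centralizerIn V P)) (fun a b h =>
      Subtype.ext (congrArg Subtype.val
        (G.injective_of_mem hφV (congrArg Subtype.val h)) :)) ⟨v, hvC⟩
  refine ⟨s, s.2, fun x => ?_⟩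
  have h2 := hvv (e x)
  rw [hε'v, hev, hev, ← show φ ⟨s, hCN s.2⟩ = v from congrArg Subtype.val hs] at h2
  have h3 : φ (Subgroup.inclusion hMN' (ε x)) =
      φ (⟨s, hCN s.2⟩ * Subgroup.inclusion hMN' x * ⟨s, hCN s.2⟩⁻¹) := by
    rw [map_mul, map_mul, map_inv]
    exact h2
  exact congrArg Subtype.val (G.injective_of_mem hφV h3)

theorem conj_centralizerIn {Q : Subgroup Ω} {g c : Ω} (hg : g ∈ normalizerIn V Q)
    (hc : c ∈ centralizerIn V Q) : g * c * g⁻¹ ∈ centralizerIn V Q := by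
  refine mem_centralizerIn.2 ⟨V.mul_mem (V.mul_mem hg.1 (centralizerIn_le Q hc))
    (V.inv_mem hg.1), fun r hr => ?_⟩
  have h1 := (mem_centralizerIn.1 hc).2 _
    (conj_mem_of_mem_normalizer (Subgroup.inv_mem _ hg.2) hr)
  calc r * (g * c * g⁻¹) = g * (g⁻¹ * r * g⁻¹⁻¹ * c) * g⁻¹ := by group
    _ = g * (c * (g⁻¹ * r * g⁻¹⁻¹)) * g⁻¹ := by rw [h1]
    _ = g * c * g⁻¹ * r := by group

/-- A lift extends over elements whose action it transports to the same action modulo `Q`. -/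
theorem extend_lift [Fact p.Prime] [Finite V] (hV : IsPGroup p V) (hG : G.IsSaturated p)
    {Q : Subgroup Ω} (hQ : G.IsFullyCentralized Q) {x : MulAut ↥(Q ⊔ centralizerIn V Q)}
    (hx : TrivAut G Q x) {M : Subgroup Ω} (hM : M ≤ normalizerIn V Q)
    (h : ∀ g ∈ M, ∃ h ∈ normalizerIn V Q,
      (∀ (r : ↥(Q ⊔ centralizerIn V Q)) (hr : g * (r : Ω) * g⁻¹ ∈ Q ⊔ centralizerIn V Q),
        (r : Ω) ∈ Q → ((x ⟨_, hr⟩ : _) : Ω) = h * ((x r : _) : Ω) * h⁻¹) ∧
      ∀ c ∈ centralizerIn V Q, (g * c * g⁻¹)⁻¹ * (h * c * h⁻¹) ∈ Q) :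
    ∃ ψ ∈ G.Hom (M ⊔ (Q ⊔ centralizerIn V Q)),
      ∀ w : ↥(Q ⊔ centralizerIn V Q), ψ (Subgroup.inclusion le_sup_right w) = ((x w : _) : Ω) := by
  have hWV := sup_centralizerIn_le_S (S := V) hQ.1
  let W : Subgroup Ω := Q ⊔ centralizerIn V Q
  have hWc : G.IsCentric W := isCentric_sup_centralizerIn hQ
  have hWf := isCentric_fullyCentralized hWc
  have hrec := IsSaturated.receptive hV hG hWf
  have hxI : IsoIn G (x : W ≃* W) := (mem_autGroup_iff_isoIn hWV).1 hx.1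
  have hnorm : normalizerIn V Q ≤ Subgroup.normalizer (W : Set Ω) := by
    rw [Subgroup.le_normalizer_iff]
    intro g hg y hy
    have : W ≤ W.comap (MulAut.conj g).toMonoidHom := by
      refine sup_le (fun z hz => Subgroup.mem_sup_left (conj_mem_of_mem_normalizer hg.2 hz))
        fun z hz => Subgroup.mem_sup_right (conj_centralizerIn hg hz)
    exact this hy
  have hcut : ∀ z : W, (z : Ω) ∈ centralizerIn V Q → (((x⁻¹ : MulAut W) z : W) : Ω) ∈ centralizerIn V Q :=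
    (hx.inv hQ.1).apply_centralizer hQ.1
  have hext : M ⊔ W ≤ extender V W (isoHom (x : W ≃* W)) := by
    refine sup_le (fun g hg => ?_) (le_extender hWV fun w => hWV (x w).2)
    obtain ⟨k, hk, hkx, hkc⟩ := h g hg
    let cg : MulAut W := conjAut (S := V) ⟨g, (hM hg).1, hnorm (hM hg)⟩
    let ch : MulAut W := conjAut (S := V) ⟨k, hk.1, hnorm hk⟩
    have hcg : cg ∈ G.autGroup W := autInducedBy_le_autGroup hWV (conjAut_mem _)
    have hch : ch ∈ G.autGroup W := autInducedBy_le_autGroup hWV (conjAut_mem _)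
    have hcgQ : ∀ r : W, (r : Ω) ∈ Q → ((cg r : W) : Ω) ∈ Q := fun r hr =>
      conj_mem_of_mem_normalizer (hM hg).2 hr
    have hchQ : ∀ r : W, (r : Ω) ∈ Q → ((ch⁻¹ r : W) : Ω) ∈ Q := fun r hr => by
      have h1 := conj_mem_of_mem_normalizer (Subgroup.inv_mem _ hk.2) hr
      have h2 : ch ⟨_, le_sup_left (b := centralizerIn V Q) h1⟩ = r := Subtype.ext (by
        show k * (k⁻¹ * (r : Ω) * k⁻¹⁻¹) * k⁻¹ = r
        group)
      rw [← h2, MulAut.inv_apply_self]
      exact h1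
    set z := ch⁻¹ * (x * cg * x⁻¹) with hz
    have hzK : TrivAut G Q z := by
      refine ⟨mul_mem (inv_mem hch) (mul_mem (mul_mem hx.1 hcg) (inv_mem hx.1)),
        fun r hr => ?_, fun c hc => ?_⟩
      · exact hchQ _ (hx.2.1 _ (hcgQ _ ((hx.inv hQ.1).2.1 r hr)))
      · -- modulo `Q`
        set y := (x⁻¹ : MulAut W) c
        have hyC := hcut c hc
        have h1 : ((cg y : W) : Ω) ∈ centralizerIn V Q := conj_centralizerIn (hM hg) hyC
        have h3 : (((c⁻¹ * y : W) : W) : Ω) ∈ Q := (hx.inv hQ.1).2.2 c hc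
        have h4 := hx.2.2 _ h1
        have h5 := hkc _ hyC
        have h6 : ((((cg y)⁻¹ * ch y : W)) : Ω) ∈ Q := h5
        have e1 : c⁻¹ * z c =
            (c⁻¹ * y) * (ch⁻¹ (((cg y)⁻¹ * ch y)⁻¹ * ((cg y)⁻¹ * x (cg y)))) := by
          have h7 : ((cg y)⁻¹ * ch y)⁻¹ * ((cg y)⁻¹ * x (cg y)) = (ch y)⁻¹ * x (cg y) := by group
          rw [show z c = ch⁻¹ (x (cg y)) from rfl, h7, map_mul, map_inv, MulAut.inv_apply_self]
          group
        rw [e1, Subgroup.coe_mul]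
        refine Q.mul_mem h3 (hchQ _ ?_)
        rw [Subgroup.coe_mul, Subgroup.coe_inv]
        exact Q.mul_mem (Q.inv_mem h6) h4
    obtain ⟨d, hd, hdv⟩ := exists_conj_of_kernel hV hG hQ hzK fun r hr => by
      have hr' := (hx.inv hQ.1).2.1 r hr
      have h1 := hkx (x⁻¹ r) (hcgQ _ hr' |> le_sup_left (b := centralizerIn V Q)) hr'
      show ch⁻¹ (x (cg (x⁻¹ r))) = r
      rw [show x (cg (x⁻¹ r)) = ch (x (x⁻¹ r)) from Subtype.ext h1, MulAut.inv_apply_self,
        MulAut.apply_inv_self]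
    refine mem_extender_iff.2 ⟨(hM hg).1, hnorm (hM hg), k * d,
      V.mul_mem hk.1 (centralizerIn_le Q hd), fun y hy => ?_⟩
    rw [isoHom_apply, isoHom_apply]
    have h1 : x ⟨g * (y : Ω) * g⁻¹, hy⟩ = ch (z (x y)) := by
      rw [hz]
      simp only [MulAut.mul_apply, MulAut.apply_inv_self, MulAut.inv_apply_self]
      rfl
    rw [h1, conjAut_apply, hdv]
    group
  obtain ⟨ψ, hψ, hag⟩ := exists_extension hrec hxI le_sup_right hext
  exact ⟨ψ, hψ, hag⟩

/-- Restricting a trivially lifting automorphism of order prime to `p` to a normal subgroup. -/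
theorem down_fn [Fact p.Prime] [Finite V] (hV : IsPGroup p V) (hG : G.IsSaturated p)
    (hT : G.StronglyClosed T) {P U : Subgroup Ω} (hP : G.IsFullyNormalized P)
    (hU : G.IsFullyCentralized U) (hPU : P ≤ U) (hUT : U ≤ T)
    (hUN : U ≤ Subgroup.normalizer (P : Set Ω)) (hPc : centralizerIn T P ≤ P)
    (A : Subgroup (MulAut U)) (hn : ∀ b ∈ G.autGroup U, ∀ a ∈ A, b * a * b⁻¹ ∈ A)
    (hkey : ∀ v ∈ centralizerIn V P, ∀ a ∈ A,
      (∀ x : U, ((a x : U) : Ω) = v * (x : Ω) * v⁻¹) → ∃ z ∈ P, z ∈ Subgroup.centralizer (P : Set Ω) ∧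
        ∀ x : U, v * (x : Ω) * v⁻¹ = z * (x : Ω) * z⁻¹)
    {α : MulAut U} (hαA : α ∈ A) (hord : (orderOf α).Coprime p) (hl : α ∈ lGroup G U)
    (hαP : ∀ x : U, (x : Ω) ∈ P → ((α x : U) : Ω) ∈ P) {a : MulAut P}
    (hav : ∀ x : P, ((a x : P) : Ω) = ((α (Subgroup.inclusion hPU x) : U) : Ω)) :
    a ∈ lGroup G P := by
  classical
  have hUV := hU.1
  have hPV := hP.1
  have hPfc := IsSaturated.fullyCentralized hV hG hP
  obtain ⟨x, hx, hxα⟩ := liftable_of_mem_lGroup hU hl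
  set C := centralizerIn V P with hCdef
  have hC0 : centralizerIn V U ≤ C := centralizerIn_antitone hPU
  have hCV : C ≤ V := centralizerIn_le P
  have hCnU : C ≤ Subgroup.normalizer (U : Set Ω) := centralizer_normalizes hT hPU hUT hUN hPc
  have hUNP : U ≤ normalizerIn V P := fun u hu => ⟨hUV hu, hUN hu⟩
  have hαaut := lGroup_le U hl
  have hfinU := finite_le hUV
  have hfinP := finite_le hPV
  have hαPs : ∀ r ∈ P, ∃ w : U, (w : Ω) ∈ P ∧ ((α w : U) : Ω) = r := by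
    intro r hr
    let f : P → P := fun w => ⟨((α ⟨w, hPU w.2⟩ : U) : Ω), hαP _ w.2⟩
    have hf : Function.Injective f := fun a b h => by
      have h1 : α ⟨(a : Ω), hPU a.2⟩ = α ⟨(b : Ω), hPU b.2⟩ :=
        Subtype.ext (congrArg Subtype.val h :)
      exact Subtype.ext (congrArg Subtype.val (α.injective h1) :)
    obtain ⟨w, hw⟩ := Finite.surjective_of_injective hf ⟨r, hr⟩
    exact ⟨⟨w, hPU w.2⟩, w.2, congrArg Subtype.val hw⟩
  -- commutators with `C` act as elements of `Z(P)`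
  have hcomm : ∀ c ∈ C, ∃ z ∈ P, z ∈ Subgroup.centralizer (P : Set Ω) ∧
      ∀ (u : U) (hu : c * (u : Ω) * c⁻¹ ∈ U),
        ((α ⟨_, hu⟩ : U) : Ω) = z * c * ((α u : U) : Ω) * (z * c)⁻¹ := by
    intro c hc
    let cc : MulAut U := conjAut (S := V) ⟨c, hCV hc, hCnU hc⟩
    have hccF : cc ∈ G.autGroup U := autInducedBy_le_autGroup hUV (conjAut_mem _)
    have hccfix : ∀ w : U, (w : Ω) ∈ P → cc w = w := fun w hw => Subtype.ext (by
      show c * (w : Ω) * c⁻¹ = w
      rw [← (mem_centralizerIn.1 hc).2 _ hw, mul_inv_cancel_right])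
    set ε := α * cc * α⁻¹ * cc⁻¹ with hεdef
    have hεA : ε ∈ A := by
      have h1 := hn cc hccF _ (A.inv_mem hαA)
      have h2 := A.mul_mem hαA h1
      rwa [show α * (cc * α⁻¹ * cc⁻¹) = ε by rw [hεdef]; group] at h2
    have hεfix : ∀ w : U, (w : Ω) ∈ P → ε w = w := fun w hw => by
      have h1 : cc⁻¹ w = w := by
        conv_lhs => rw [← hccfix w hw]
        exact MulAut.inv_apply_self U cc w
      obtain ⟨w', hw', hww'⟩ := hαPs _ hw
      obtain rfl : α w' = w := Subtype.ext hww'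
      rw [hεdef, MulAut.mul_apply, h1, MulAut.mul_apply, MulAut.mul_apply, MulAut.inv_apply_self,
        hccfix w' hw']
    have hεG : ε ∈ G.autGroup U :=
      mul_mem (mul_mem (mul_mem hαaut hccF) (inv_mem hαaut)) (inv_mem hccF)
    obtain ⟨v, hv, hvv⟩ := exists_conj_of_fix hV hG hP hPU hUNP hCnU hεG hεfix
      (shift_of_fix hUT hUN hPU hPc hεfix)
    obtain ⟨z, hzP, hzc, hzv⟩ := hkey v hv ε hεA hvv
    refine ⟨z, hzP, hzc, fun u hu => ?_⟩
    have h1 : α ⟨_, hu⟩ = ε (cc (α u)) := by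
      rw [hεdef]
      simp only [MulAut.mul_apply, MulAut.inv_apply_self]
      rfl
    rw [h1, hvv, hzv]
    show z * (c * ((α u : U) : Ω) * c⁻¹) * z⁻¹ = _
    group
  set W' := C ⊔ (U ⊔ centralizerIn V U) with hW'
  -- extend the lift over `C`
  obtain ⟨ψ, hψ, hψv⟩ := extend_lift hV hG hU hx (M := C)
    (fun c hc => ⟨hCV hc, hCnU hc⟩) fun c hc => by
      obtain ⟨z, hzP, hzc, hz⟩ := hcomm c hc
      refine ⟨z * c, ⟨V.mul_mem (hPV hzP) (hCV hc),
        mul_mem (Subgroup.le_normalizer (hPU hzP)) (hCnU hc)⟩, fun r hr hrU => ?_, fun d hd => ?_⟩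
      · have hcU := conj_mem_of_mem_normalizer (hCnU hc) hrU
        have h1 := hz ⟨r, hrU⟩ hcU
        rw [hxα _ hcU, hxα _ hrU]
        exact h1
      · have hd' := conj_centralizerIn (V := V) (Q := U) ⟨hCV hc, hCnU hc⟩ hd
        have h1 := (mem_centralizerIn.1 hd').2 z (hPU hzP)
        rw [show z * c * d * (z * c)⁻¹ = z * (c * d * c⁻¹) * z⁻¹ by group, h1,
          mul_inv_cancel_right, inv_mul_cancel]
        exact U.one_mem
  -- as an automorphism of `W'`
  have hW'V : W' ≤ V := sup_le hCV (sup_centralizerIn_le_S hUV)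
  have hUW : U ≤ W' := le_sup_left.trans le_sup_right
  have hψU : ∀ (r : Ω) (hr : r ∈ U), ψ ⟨r, hUW hr⟩ = ((α ⟨r, hr⟩ : U) : Ω) := fun r hr =>
    (hψv ⟨r, le_sup_left (b := centralizerIn V U) hr⟩).trans (hxα r hr)
  have hψC : ∀ y : W', (y : Ω) ∈ C → ψ y ∈ C := by
    intro y hy
    refine mem_centralizerIn.2 ⟨hom_apply_mem hψ y, fun r hr => ?_⟩
    obtain ⟨w, hw, hwr⟩ := hαPs r hr
    rw [← hwr, ← hψU _ w.2, ← map_mul, ← map_mul]
    exact congrArg ψ (Subtype.ext ((mem_centralizerIn.1 hy).2 _ hw))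
  have hψW : ∀ y, ψ y ∈ W' := by
    intro y
    refine range_le_of_gens (ψ := ψ) (U := W') (fun c => ?_) (fun w => ?_) ⟨y, rfl⟩
    · exact Subgroup.mem_sup_left (hψC _ c.2)
    · rw [hψv]
      exact Subgroup.mem_sup_right (x w).2
  have := finite_le hW'V
  obtain ⟨y₀, hy₀, hy₀v⟩ := exists_iso hψ (Q := W') (Subgroup.eq_of_le_of_card_ge
    (by rintro _ ⟨w, rfl⟩; exact hψW w)
    (Nat.card_congr (MonoidHom.ofInjective (G.injective_of_mem hψ)).toEquiv).le)
  set y : MulAut W' := y₀ with hy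
  have hyaut : y ∈ G.autGroup W' := (mem_autGroup_iff_isoIn hW'V).2 hy₀
  have := finite_mulAut_of_le (S := V) hW'V
  have hWV0 := sup_centralizerIn_le_S (S := V) hUV
  have := finite_mulAut_of_le (S := V) hWV0
  have := finite_mulAut_of_le (S := V) hUV
  have hpow : ∀ (k : ℕ) (w : ↥(U ⊔ centralizerIn V U)),
      (((y ^ k) (Subgroup.inclusion le_sup_right w) : W') : Ω) = (((x ^ k) w : _) : Ω) := by
    intro k
    induction k with
    | zero => exact fun w => rfl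
    | succ k ih =>
      intro w
      rw [pow_succ, pow_succ, MulAut.mul_apply, MulAut.mul_apply,
        show y (Subgroup.inclusion le_sup_right w) = Subgroup.inclusion le_sup_right (x w) from
          Subtype.ext ((hy₀v _).trans (hψv w)), ih]
  have hpowU : ∀ (k : ℕ) (r : Ω) (hr : r ∈ U),
      (((x ^ k) ⟨r, le_sup_left (b := centralizerIn V U) hr⟩ : _) : Ω) =
        (((α ^ k) ⟨r, hr⟩ : U) : Ω) := by
    intro k
    induction k with
    | zero => exact fun r hr => rfl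
    | succ k ih =>
      intro r hr
      rw [pow_succ, pow_succ, MulAut.mul_apply, MulAut.mul_apply,
        show x ⟨r, le_sup_left (b := centralizerIn V U) hr⟩ =
          ⟨((α ⟨r, hr⟩ : U) : Ω), le_sup_left (b := centralizerIn V U) (α ⟨r, hr⟩).2⟩ from
          Subtype.ext (hxα r hr), ih _ (α ⟨r, hr⟩).2]
  -- an exponent making the order prime to `p`
  obtain ⟨j, hj, hjid⟩ := exists_pPrime_exponent.{u} (p := p) (N := orderOf y) (orderOf_pos y).ne'
  have hαN : α ^ orderOf y = 1 := by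
    refine MulEquiv.ext fun r => Subtype.ext ?_
    rw [← hpowU _ r r.2, ← hpow, pow_orderOf_eq_one]
    rfl
  have hαj : α ^ j = α := hjid α hαN hord
  set η := y ^ j with hη
  have hηord : (orderOf η).Coprime p := hj y (pow_orderOf_eq_one y)
  have hηaut : η ∈ G.autGroup W' := pow_mem hyaut j
  have hηU : ∀ (r : Ω) (hr : r ∈ U), ((η ⟨r, hUW hr⟩ : W') : Ω) = ((α ⟨r, hr⟩ : U) : Ω) := by
    intro r hr
    refine (hpow j ⟨r, le_sup_left (b := centralizerIn V U) hr⟩).trans ?_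
    rw [hpowU, hαj]
  have hyC : ∀ (k : ℕ) (w : W'), (w : Ω) ∈ C → (((y ^ k) w : W') : Ω) ∈ C := by
    intro k
    induction k with
    | zero => exact fun w hw => hw
    | succ k ih =>
      intro w hw
      rw [pow_succ', MulAut.mul_apply, show ((y ((y ^ k) w) : W') : Ω) = ψ ((y ^ k) w) from hy₀v _]
      exact hψC _ (ih w hw)
  have hηC : ∀ w : W', (w : Ω) ∈ C → ((η w : W') : Ω) ∈ C := hyC j
  have hη0 : ∀ w : W', (w : Ω) ∈ centralizerIn V U → ((w⁻¹ * η w : W') : Ω) ∈ U := by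
    intro w hw
    have h1 := hpow j ⟨(w : Ω), Subgroup.mem_sup_right hw⟩
    have h2 := (hx.pow j).2.2 ⟨(w : Ω), Subgroup.mem_sup_right hw⟩ hw
    rw [Subgroup.coe_mul, Subgroup.coe_inv] at h2 ⊢
    rw [← h1] at h2
    exact h2
  -- trivial modulo `P` on `C`
  set Z := P ⊓ Subgroup.centralizer (P : Set Ω) with hZ
  have hCZ : ∀ {c q : Ω}, c ∈ C → q ∈ Z → q * c = c * q := fun {c q} hc hq =>
    (mem_centralizerIn.1 hc).2 q hq.1
  have hηZ : ∀ w : W', (w : Ω) ∈ Z → ((η w : W') : Ω) ∈ Z := fun w hw => by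
    have h1 : ((η w : W') : Ω) ∈ P := by
      rw [show w = ⟨(w : Ω), hUW (hPU hw.1)⟩ from rfl, hηU _ (hPU hw.1)]
      exact hαP _ hw.1
    exact ⟨h1, (hηC w (mem_centralizerIn.2 ⟨hPV hw.1,
      fun r hr => Subgroup.mem_centralizer_iff.1 hw.2 r hr⟩)).2⟩
  have hmain : ∀ w : W', (w : Ω) ∈ C → ((w⁻¹ * η w : W') : Ω) ∈ Z := by
    intro w hw
    obtain ⟨z, hzP, hzc, hz⟩ := hcomm _ hw
    have hzC : z ∈ C := mem_centralizerIn.2 ⟨hPV hzP,
      fun r hr => Subgroup.mem_centralizer_iff.1 hzc r hr⟩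
    have hzZ : z ∈ Z := ⟨hzP, hzc⟩
    set z' : W' := ⟨z, hUW (hPU hzP)⟩
    set e₀ := (z' * w)⁻¹ * η w with he₀
    have he₀U : (e₀ : Ω) ∈ centralizerIn V U := by
      refine mem_centralizerIn.2 ⟨hW'V e₀.2, fun r hr => ?_⟩
      obtain ⟨u, hu⟩ : ∃ u : U, ((α u : U) : Ω) = r :=
        ⟨α⁻¹ ⟨r, hr⟩, by rw [MulAut.apply_inv_self]⟩
      have hcu := conj_mem_of_mem_normalizer (hCnU hw) u.2
      have h1 := hz u hcu
      have h2 : η (⟨(w : Ω) * u * (w : Ω)⁻¹, hUW hcu⟩) = η w * η ⟨u, hUW u.2⟩ * (η w)⁻¹ := by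
        rw [← map_inv, ← map_mul, ← map_mul]
        rfl
      have h3 := congrArg (fun k : W' => (k : Ω)) h2
      simp only [Subgroup.coe_mul, Subgroup.coe_inv] at h3
      rw [hηU _ hcu, hηU _ u.2, h1, hu] at h3
      show r * (((z' * w)⁻¹ * η w : W') : Ω) = (((z' * w)⁻¹ * η w : W') : Ω) * r
      rw [Subgroup.coe_mul, Subgroup.coe_inv, Subgroup.coe_mul]
      calc r * ((z * (w : Ω))⁻¹ * (η w : Ω))
          = (z * (w : Ω))⁻¹ * (z * (w : Ω) * r * (z * (w : Ω))⁻¹) * (η w : Ω) := by group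
        _ = (z * (w : Ω))⁻¹ * ((η w : Ω) * r * (η w : Ω)⁻¹) * (η w : Ω) := by rw [h3]
        _ = (z * (w : Ω))⁻¹ * (η w : Ω) * r := by group
    set d := w⁻¹ * η w with hd
    have hzw : z' * w = w * z' := Subtype.ext (hCZ hw hzZ)
    have hdz : d = z' * e₀ := by
      rw [he₀, hd, hzw]
      group
    have hq : ((e₀⁻¹ * η e₀ : W') : Ω) ∈ Z := by
      have he₀C : (e₀ : Ω) ∈ C := hC0 he₀U
      have h2 := hη0 _ he₀U
      have h3 : ((e₀⁻¹ * η e₀ : W') : Ω) ∈ C := by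
        rw [Subgroup.coe_mul, Subgroup.coe_inv]
        exact C.mul_mem (C.inv_mem he₀C) (hηC _ he₀C)
      exact ⟨hPc (mem_centralizerIn.2 ⟨hUT h2, (mem_centralizerIn.1 h3).2⟩), h3.2⟩
    have hd' : ((d⁻¹ * η d : W') : Ω) ∈ Z := by
      have hm : ((z'⁻¹ * η z' : W') : Ω) ∈ Z := by
        rw [Subgroup.coe_mul, Subgroup.coe_inv]
        exact Z.mul_mem (Z.inv_mem hzZ) (hηZ z' hzZ)
      have e : d⁻¹ * η d = z'⁻¹ * η z' * (e₀⁻¹ * η e₀) := by
        rw [hdz, map_mul, mul_inv_rev]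
        have hc' : e₀⁻¹ * (z'⁻¹ * η z') = z'⁻¹ * η z' * e₀⁻¹ :=
          Subtype.ext (hCZ (C.inv_mem (hC0 he₀U)) hm).symm
        rw [show e₀⁻¹ * z'⁻¹ * (η z' * η e₀) = e₀⁻¹ * (z'⁻¹ * η z') * η e₀ by group, hc']
        group
      rw [e, Subgroup.coe_mul]
      exact Z.mul_mem hm hq
    -- iterate
    have hdC : (d : Ω) ∈ C := by
      rw [hd, Subgroup.coe_mul, Subgroup.coe_inv]
      exact C.mul_mem (C.inv_mem hw) (hηC w hw)
    have hiter : ∀ k : ℕ, ∃ q : W', (q : Ω) ∈ Z ∧ (η ^ k) w = w * d ^ k * q := by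
      intro k
      induction k with
      | zero => exact ⟨1, Z.one_mem, by simp⟩
      | succ k ih =>
        obtain ⟨q, hq, hk⟩ := ih
        obtain ⟨f, hf⟩ : ∃ f, f = d⁻¹ * η d := ⟨_, rfl⟩
        have hfd : Commute d f := Subtype.ext (hCZ hdC (hf ▸ hd')).symm
        refine ⟨f ^ k * η q, ?_, ?_⟩
        · rw [Subgroup.coe_mul, SubgroupClass.coe_pow]
          exact Z.mul_mem (Z.pow_mem (hf ▸ hd') k) (hηZ q hq)
        · rw [pow_succ', MulAut.mul_apply, hk, map_mul, map_mul, map_pow,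
            show η d = d * f by rw [hf]; group, hfd.mul_pow,
            show η w = w * d by rw [hd]; group, pow_succ']
          group
    obtain ⟨q, hq, hk⟩ := hiter (orderOf η)
    rw [pow_orderOf_eq_one, MulAut.one_apply] at hk
    have hdn : ((d : Ω)) ^ orderOf η ∈ Z := by
      have h1 : d ^ orderOf η = q⁻¹ := by
        have h2 : w * 1 = w * (d ^ orderOf η * q) := by
          rw [mul_one, ← mul_assoc]
          exact hk
        exact eq_inv_of_mul_eq_one_left (mul_left_cancel h2).symm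
      rw [← SubgroupClass.coe_pow, h1, Subgroup.coe_inv]
      exact Z.inv_mem hq
    obtain ⟨e, he⟩ := (hV.to_le hW'V) d
    have he' : (d : Ω) ^ p ^ e = 1 := by rw [← SubgroupClass.coe_pow, he]; rfl
    obtain ⟨b, hb⟩ := exists_pow_eq_self_of_coprime (n := orderOf η) (x := (d : Ω))
      (Nat.Coprime.coprime_dvd_right (orderOf_dvd_of_pow_eq_one he') (hηord.pow_right e))
    rw [← hb]
    exact Z.pow_mem hdn b
  -- the lift at `P`
  have hle : P ⊔ C ≤ W' := sup_le (hPU.trans hUW) le_sup_left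
  have hWP := sup_centralizerIn_le_S (S := V) hPV
  have := finite_le hWP
  have hmem : ∀ w : ↥(P ⊔ C),
      ((W'.subtype.comp η.toMonoidHom).comp (Subgroup.inclusion hle)) w ∈ P ⊔ C := by
    intro w
    refine range_le_of_gens (ψ := (W'.subtype.comp η.toMonoidHom).comp (Subgroup.inclusion hle))
      (U := P ⊔ C) (fun r => ?_) (fun c => ?_) ⟨w, rfl⟩
    · refine Subgroup.mem_sup_left ?_
      show ((η ⟨(r : Ω), _⟩ : W') : Ω) ∈ P
      rw [hηU _ (hPU r.2)]
      exact hαP _ r.2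
    · exact Subgroup.mem_sup_right (hηC _ c.2)
  have hres := restrict_mem ((mem_autGroup_iff hW'V).1 hηaut) hle
  obtain ⟨κ, hκ, hκv⟩ := exists_iso hres (Q := P ⊔ C) (Subgroup.eq_of_le_of_card_ge
    (by rintro _ ⟨w, rfl⟩; exact hmem w)
    (Nat.card_congr (MonoidHom.ofInjective (G.injective_of_mem hres)).toEquiv).le)
  refine mem_lGroup_of_liftable hV hG hPfc ⟨κ, ⟨(mem_autGroup_iff_isoIn hWP).2 hκ,
    fun r hr => ?_, fun c hc => ?_⟩, fun r hr => ?_⟩
  · rw [show ((κ r : _) : Ω) = ((η ⟨r, _⟩ : W') : Ω) from hκv r, hηU _ (hPU hr)]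
    exact hαP _ hr
  · have h1 := hmain (Subgroup.inclusion hle c) hc
    rw [Subgroup.coe_mul, Subgroup.coe_inv] at h1 ⊢
    rw [show ((κ c : _) : Ω) = ((η (Subgroup.inclusion hle c) : W') : Ω) from hκv c]
    exact h1.1
  · rw [hav]
    exact (hκv _).trans (hηU r (hPU hr))

end CfsgLib.Fusion.Meet
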