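import Cfsg.Agent.Lib.Fusion.TFamily
import Cfsg.Agent.Lib.Fusion.InvariantInherit
import Cfsg.Agent.Lib.Fusion.PrimeIndexGen
import Cfsg.Agent.Lib.Fusion.MeetDown

/-!
# The system generated by a family of automorphism groups

`A` assigns to each subgroup centric in the strongly closed `T` a group of automorphisms.
-/

set_option autoImplicit false
set_option maxHeartbeats 800000
set_option linter.unusedSectionVars false

namespace CfsgLib.Fusion.Family

open Cfsg Cfsg.FusionSystem CfsgLib.Fusion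

variable {Ω : Type*} [Group Ω] {S : Subgroup Ω}

/-- The conditions on a family. -/
structure AutFamily (p : ℕ) (F : FusionSystem S) (T : Subgroup Ω)
    (A : ∀ R : Subgroup Ω, Subgroup (MulAut R)) : Prop where
  pgroup : IsPGroup p S
  sat : F.IsSaturated p
  tclosed : F.StronglyClosed T
  le : ∀ {R : Subgroup Ω}, TCentric F T R → A R ≤ F.autGroup R
  induced : ∀ {R : Subgroup Ω}, TCentric F T R → autInducedBy T R ≤ A R
  congr : ∀ {R R' : Subgroup Ω} {e : R ≃* R'}, TCentric F T R → IsoIn F e →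
    ∀ a ∈ A R, MulAut.congr e a ∈ A R'
  sylow : ∀ {Q : Subgroup Ω}, TCentric F T Q → F.IsFullyNormalized Q →
    IsSylowIn p (autInducedBy T Q) (A Q)
  down : ∀ {P : Subgroup Ω}, TCentric F T P → F.IsFullyNormalized P →
    ∀ η ∈ A (normalizerIn T P), ∀ (a : MulAut P) (hP : P ≤ normalizerIn T P),
      (∀ x : P, ((a x : P) : Ω) = ((η (Subgroup.inclusion hP x) : normalizerIn T P) : Ω)) → a ∈ A P
  up : ∀ {P M : Subgroup Ω}, TCentric F T P → F.IsFullyNormalized P → ∀ (hPM : P ≤ M),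
    M ≤ normalizerIn T P → ∀ b ∈ A P, (orderOf b).Coprime p →
      (∀ c ∈ autInducedBy M P, b * c * b⁻¹ ∈ autInducedBy M P) →
      ∃ α ∈ A M, ∀ x : P, ((α (Subgroup.inclusion hPM x) : M) : Ω) = ((b x : P) : Ω)

variable {T : Subgroup Ω}

/-- Maps composed of restrictions of the automorphisms of the family. -/
inductive GenFam (F : FusionSystem S) (T : Subgroup Ω) (A : ∀ R : Subgroup Ω, Subgroup (MulAut R)) :
    ∀ {P : Subgroup Ω}, (P →* Ω) → Prop
  | incl {P : Subgroup Ω} (φ : P →* Ω) (hP : P ≤ T) (hφ : ∀ x, φ x = x) : GenFam F T A φ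
  | step {P R : Subgroup Ω} {φ : P →* Ω} (hR : TCentric F T R) (a : MulAut R) (ha : a ∈ A R)
      (h : GenFam F T A φ) (hle : ∀ x, φ x ∈ R) (χ : P →* Ω)
      (hχ : ∀ x, χ x = ((a ⟨φ x, hle x⟩ : R) : Ω)) : GenFam F T A χ

variable {F : FusionSystem S} {A : ∀ R : Subgroup Ω, Subgroup (MulAut R)} {p : ℕ}

theorem GenFam.le_T {P : Subgroup Ω} {φ : P →* Ω} (h : GenFam F T A φ) :
    P ≤ T ∧ ∀ x, φ x ∈ T := by
  induction h with
  | incl φ hP hφ => exact ⟨hP, fun x => by rw [hφ]; exact hP x.2⟩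
  | @step R φ hR a ha h hle χ hχ ih =>
      exact ⟨ih.1, fun x => by rw [hχ]; exact hR.le (a _).2⟩

theorem GenFam.congr {P : Subgroup Ω} {φ ψ : P →* Ω} (h : GenFam F T A φ)
    (he : ∀ x, ψ x = φ x) : GenFam F T A ψ := by
  obtain rfl : ψ = φ := MonoidHom.ext he
  exact h

theorem GenFam.comp {Q : Subgroup Ω} {ψ : Q →* Ω} (hψ : GenFam F T A ψ) :
    ∀ {P : Subgroup Ω} {φ : P →* Ω}, GenFam F T A φ → ∀ h : ∀ x, φ x ∈ Q,
      ∀ {χ : P →* Ω}, (∀ x, χ x = ψ ⟨φ x, h x⟩) → GenFam F T A χ := by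
  induction hψ with
  | incl ψ hP hψ => exact fun hφ h χ hχ => hφ.congr fun x => (hχ x).trans (hψ _)
  | @step R ψ hR a ha hψ hle ψ' hψ' ih =>
      intro P φ hφ h χ hχ
      exact GenFam.step hR a ha (ih hφ h (χ := ψ.comp (φ.codRestrict _ h)) fun _ => rfl)
        (fun x => hle _) χ fun x => (hχ x).trans (hψ' _)

theorem GenFam.inv {P : Subgroup Ω} {φ : P →* Ω} (h : GenFam F T A φ) :
    ∃ ψ : φ.range →* Ω, GenFam F T A ψ ∧ ∀ x : P, ψ ⟨φ x, ⟨x, rfl⟩⟩ = x := by
  induction h with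
  | incl φ hP hφ =>
      refine ⟨φ.range.subtype, GenFam.incl _ ?_ fun _ => rfl, fun x => hφ x⟩
      rintro _ ⟨x, rfl⟩
      rw [hφ]
      exact hP x.2
  | @step R φ hR a ha h hle χ hχ ih =>
      obtain ⟨ψ, hψ, hψv⟩ := ih
      have hle' : χ.range ≤ R := by
        rintro _ ⟨x, rfl⟩
        rw [hχ]
        exact (a _).2
      set b : χ.range →* Ω := (R.subtype.comp (a⁻¹).toMonoidHom).comp (Subgroup.inclusion hle')
        with hb
      have hbv : ∀ x : P, b ⟨χ x, ⟨x, rfl⟩⟩ = φ x := fun x => by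
        have h1 : (⟨χ x, hle' ⟨x, rfl⟩⟩ : R) = a ⟨φ x, hle x⟩ := Subtype.ext (hχ x)
        show ((a⁻¹ ⟨χ x, hle' ⟨x, rfl⟩⟩ : R) : Ω) = φ x
        rw [h1, MulAut.inv_apply_self]
      have hbG : GenFam F T A b :=
        GenFam.step hR a⁻¹ (Subgroup.inv_mem _ ha)
          (GenFam.incl χ.range.subtype (hle'.trans hR.le) fun _ => rfl) (fun y => hle' y.2) b
          fun _ => rfl
      have hmem : ∀ y, b y ∈ φ.range := by
        rintro ⟨_, x, rfl⟩
        exact ⟨x, (hbv x).symm⟩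
      refine ⟨ψ.comp (b.codRestrict _ hmem), GenFam.comp hψ hbG hmem fun _ => rfl, fun x => ?_⟩
      show ψ ⟨b ⟨χ x, _⟩, _⟩ = x
      simp only [hbv]
      exact hψv x

/-- Restriction. -/
theorem GenFam.restrict {P R : Subgroup Ω} {φ : P →* Ω} (h : GenFam F T A φ) (hR : R ≤ P)
    {χ : R →* Ω} (hχ : ∀ x : R, χ x = φ ⟨x, hR x.2⟩) : GenFam F T A χ :=
  GenFam.comp h (GenFam.incl R.subtype (hR.trans h.le_T.1) fun _ => rfl) (fun x => hR x.2) hχ

/-- An automorphism of the family as a generated map. -/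
theorem GenFam.ofAut {R : Subgroup Ω} (hR : TCentric F T R) {a : MulAut R} (ha : a ∈ A R) :
    GenFam F T A (isoHom (a : R ≃* R)) :=
  GenFam.step hR a ha (GenFam.incl R.subtype hR.le fun _ => rfl) (fun x => x.2) _ fun _ => rfl

namespace AutFamily

variable [Fact p.Prime] [Finite S] (h : AutFamily p F T A)
include h

theorem mem {P : Subgroup Ω} {φ : P →* Ω} (hg : GenFam F T A φ) : φ ∈ F.Hom P := by
  induction hg with
  | incl φ hP hφ => exact hom_congr (incl_mem (hP.trans h.tclosed.1)) hφ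
  | @step R φ hR a ha hg hle χ hχ ih =>
      exact comp_mem' ih ((mem_autGroup_iff (hR.le.trans h.tclosed.1)).1 (h.le hR ha)) hle hχ

theorem tcentric_top : TCentric F T T := ⟨le_rfl, fun Q hQ => by
  obtain ⟨φ, hφ, rfl⟩ := hQ
  rw [(StronglyClosed.weaklyClosed h.tclosed).2 φ hφ]
  exact centralizerIn_le T⟩

theorem conjT {P : Subgroup Ω} (hP : P ≤ T) {t : Ω} (ht : t ∈ T) :
    GenFam F T A (conjHom P t) :=
  GenFam.step h.tcentric_top (T.normalizerMonoidHom ⟨t, Subgroup.le_normalizer ht⟩)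
    (h.induced h.tcentric_top (mem_autInducedBy_iff.2 ⟨t, ht, fun _ => rfl⟩))
    (GenFam.incl P.subtype hP fun _ => rfl) (fun x => hP x.2) _ fun _ => rfl

/-- The generated system. -/
def genSys : FusionSystem T where
  Hom P := {φ | GenFam F T A φ}
  le_of_mem hφ := GenFam.le_T hφ
  injective_of_mem hφ := F.injective_of_mem (h.mem hφ)
  conj_mem hP hg := h.conjT hP hg
  comp_mem hφ hψ hh := GenFam.comp hψ hφ hh fun _ => rfl
  inv_mem hφ := GenFam.inv hφ

theorem genSys_sub : h.genSys.IsSubsystemOf F := fun _ _ hφ => h.mem hφ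

theorem fam_le_genSys {R : Subgroup Ω} (hR : TCentric F T R) :
    A R ≤ h.genSys.autGroup R := fun _ ha =>
  (mem_autGroup_iff hR.le).2 (GenFam.ofAut hR ha)

theorem genSys_le {V : Subgroup Ω} {G : FusionSystem V} (hTV : T ≤ V)
    (hA : ∀ R : Subgroup Ω, TCentric F T R → A R ≤ G.autGroup R) : h.genSys.IsSubsystemOf G := by
  intro P φ hφ
  induction hφ with
  | incl φ hP hφ => exact hom_congr (incl_mem (hP.trans hTV)) hφ
  | @step R φ hR a ha hg hle χ hχ ih =>
      exact comp_mem' ih ((mem_autGroup_iff (hR.le.trans hTV)).1 (hA R hR ha)) hle hχ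

/-- Invariance under the automorphisms of `T`. -/
theorem topConj_mem {P : Subgroup Ω} {φ : P →* Ω} (hφ : GenFam F T A φ)
    {α : MulAut T} (hα : α ∈ F.autGroup T) :
    ∀ {P' : Subgroup Ω} (hP' : P' ≤ T)
      (h1 : ∀ y : P', ((α⁻¹ (Subgroup.inclusion hP' y) : T) : Ω) ∈ P)
      (h2 : ∀ x, φ x ∈ T), GenFam F T A (topConj α φ hP' h1 h2) := by
  induction hφ with
  | incl φ hP hφ =>
      intro P' hP' h1 h2
      refine GenFam.incl _ hP' fun y => ?_
      rw [topConj_apply]
      have h3 : (⟨φ ⟨_, h1 y⟩, h2 _⟩ : T) = α⁻¹ (Subgroup.inclusion hP' y) := Subtype.ext (hφ _)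
      rw [h3, MulAut.apply_inv_self]
      rfl
  | @step R φ hR a ha hφ hle χ hχ ih =>
      intro P' hP' h1 h2
      have hαF := (mem_autGroup_iff h.tclosed.1).1 hα
      obtain ⟨e, he, hev⟩ := exists_iso (restrict_mem hαF hR.le) rfl
      have h2' : ∀ x, φ x ∈ T := fun x => hR.le (hle x)
      refine GenFam.step (hR.conj h.tclosed he.isConj) (MulAut.congr e a) (h.congr hR he a ha)
        (ih hP' h1 h2') (fun y => ⟨⟨_, hle ⟨_, h1 y⟩⟩, rfl⟩) _ fun y => ?_
      rw [topConj_apply]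
      have h3 : (⟨topConj α φ hP' h1 h2' y, ⟨⟨_, hle ⟨_, h1 y⟩⟩, rfl⟩⟩ : _) =
          e ⟨φ ⟨_, h1 y⟩, hle _⟩ := Subtype.ext (hev ⟨φ ⟨_, h1 y⟩, hle _⟩).symm
      rw [h3]
      simp only [MulAut.congr, MulEquiv.coe_mk, Equiv.coe_fn_mk, MulEquiv.trans_apply,
        MulEquiv.symm_apply_apply]
      rw [hev]
      show ((α ⟨χ ⟨_, h1 y⟩, h2 _⟩ : T) : Ω) = ((α ⟨a ⟨φ ⟨_, h1 y⟩, hle _⟩, _⟩ : T) : Ω)
      congr 2
      exact Subtype.ext (hχ _)

/-- The generated system is invariant under `Aut_F(T)`. -/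
theorem genSys_autInvariant : AutInvariant h.genSys F := by
  intro Q f hf α hα
  set P' := (Q.subgroupOf T).map (T.subtype.comp α.toMonoidHom) with hP'def
  have hP'T : P' ≤ T := by rintro _ ⟨z, -, rfl⟩; exact SetLike.coe_mem _
  have h1 : ∀ y : P', ((α⁻¹ (Subgroup.inclusion hP'T y) : T) : Ω) ∈ Q := by
    rintro ⟨_, z, hz, rfl⟩
    show ((α⁻¹ (α z) : T) : Ω) ∈ Q
    rw [MulAut.inv_apply_self]
    exact hz
  have hfT := fun x => (GenFam.le_T hf).2 x
  refine ⟨_, h.topConj_mem hf hα hP'T h1 hfT, fun x hxQ hfx h' => ?_⟩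
  rw [topConj_apply]
  congr 2
  refine Subtype.ext (congrArg f (Subtype.ext ?_))
  show ((α⁻¹ (α x) : T) : Ω) = x
  rw [MulAut.inv_apply_self]

/-- Every map of `F` between subgroups of `T` decomposes. -/
theorem frattini : ∀ (n : ℕ) {P : Subgroup Ω}, P ≤ T → Nat.card T - Nat.card P ≤ n →
    ∀ φ ∈ F.Hom P, FrattiniMap h.genSys F φ := by
  classical
  intro n
  induction n using Nat.strong_induction_on with
  | _ n ih =>
    intro P hPT hn φ hφ
    have hTS := h.tclosed.1
    have := finite_le hTS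
    have hTp : IsPGroup p T := h.pgroup.to_le hTS
    have hinv := h.genSys_autInvariant
    obtain ⟨d, hd, hdv⟩ := exists_iso hφ rfl
    rcases eq_or_lt_of_le hPT with hPe | hPlt
    · subst hPe
      obtain ⟨e, he, hev⟩ := exists_iso hφ ((StronglyClosed.weaklyClosed h.tclosed).2 φ hφ)
      exact frattiniMap_of_aut le_rfl ((mem_autGroup_iff_isoIn hTS).2 he) fun x => (hev x).symm
    have hup : ∀ {U : Subgroup Ω}, U ≤ T → Nat.card P < Nat.card U →
        ∀ ψ ∈ F.Hom U, FrattiniMap h.genSys F ψ := fun {U} hU hlt => by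
      have := Subgroup.card_le_of_le hU
      exact ih (Nat.card T - Nat.card U) (by omega) hU le_rfl
    obtain ⟨Q, hPQ, hQ⟩ := exists_fullyNormalized (F := F) (hPT.trans hTS)
    have hQS := hQ.1
    have hrec := IsSaturated.receptive h.pgroup h.sat (IsSaturated.fullyCentralized h.pgroup h.sat hQ)
    have hmove : ∀ {B : Subgroup Ω}, F.IsConj B Q → B ≤ T →
        ∃ f : B ≃* Q, IsoIn F f ∧ FrattiniMap h.genSys F (isoHom f) := by
      intro B hB hBT
      obtain ⟨f, hf, -, himg⟩ := exists_normalizer_map h.pgroup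
        (IsSaturated.fullyAutomized h.pgroup h.sat hQ) hrec hB
      have hcard : Nat.card B = Nat.card P := (isConj_card hB).trans (isConj_card hPQ).symm
      have hBlt : B < normalizerIn T B := lt_normalizerIn hTp (lt_of_le_of_ne hBT fun e =>
        hPlt.ne (Subgroup.eq_of_le_of_card_ge hPT (by rw [← hcard, e])))
      have hle : normalizerIn T B ≤ normalizerIn S B := fun x hx => ⟨hTS hx.1, hx.2⟩
      have := finite_le ((normalizerIn_le (S := T) B).trans hTS)
      have h1 := hup (normalizerIn_le B) (by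
        rw [← hcard]
        exact lt_of_le_of_ne (Subgroup.card_le_of_le hBlt.le) fun e =>
          hBlt.ne (Subgroup.eq_of_le_of_card_ge hBlt.le e.ge)) _ (restrict_mem hf hle)
      obtain ⟨a, ha, hav⟩ := exists_iso (P := B) (Q := Q)
        (restrict_mem hf (le_normalizerIn (hBT.trans hTS))) (by rw [range_restrict, himg])
      exact ⟨a, ha, h1.restrict hBlt.le fun x => hav x⟩
    have hrT : φ.range ≤ T := by
      rintro _ ⟨x, rfl⟩
      exact h.tclosed.2 P hPT φ hφ x
    obtain ⟨f, hf, hfD⟩ := hmove hPQ hPT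
    obtain ⟨f', hf', hf'D⟩ := hmove (isConj_trans (isConj_symm hd.isConj) hPQ) hrT
    have hQT : Q ≤ T := fun y hy => by
      have h1 := h.tclosed.2 P hPT _ hf.mem (f.symm ⟨y, hy⟩)
      rwa [isoHom_apply, MulEquiv.apply_symm_apply] at h1
    set β : MulAut Q := f.symm.trans (d.trans f') with hβ
    have hβF : β ∈ F.autGroup Q := (mem_autGroup_iff_isoIn hQS).2 (hf.symm.trans (hd.trans hf'))
    suffices hβD : FrattiniMap h.genSys F (isoHom (β : Q ≃* Q)) by
      have h1 : FrattiniMap h.genSys F (isoHom (f.trans (β : Q ≃* Q))) :=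
        FrattiniMap.comp hinv hfD hβD (fun x => (f x).2) fun x => rfl
      refine FrattiniMap.comp hinv h1 (hf'D.inv hinv hQT) (fun x => (β (f x)).2) fun x => ?_
      rw [isoHom_apply, ← hdv]
      congr 1
      apply f'.injective
      simp [hβ]
    have hcardQ : Nat.card P = Nat.card Q := isConj_card hPQ
    have hQlt : Q < T := lt_of_le_of_ne hQT fun e => hPlt.ne
      (Subgroup.eq_of_le_of_card_ge hPT (by rw [hcardQ, e]))
    have hext : ∀ {γ : MulAut Q}, γ ∈ F.autGroup Q → ∀ {U : Subgroup Ω}, Q < U →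
        U ≤ T → U ≤ extender S Q (isoHom γ) → FrattiniMap h.genSys F (isoHom (γ : Q ≃* Q)) := by
      intro γ hγ U hQU hUT hU
      obtain ⟨ψ, hψ, hag⟩ := exists_extension hrec ((mem_autGroup_iff_isoIn hQS).1 hγ) hQU.le hU
      have := finite_le (hUT.trans hTS)
      have h1 := hup hUT (by
        rw [hcardQ]
        exact lt_of_le_of_ne (Subgroup.card_le_of_le hQU.le) fun e =>
          hQU.ne (Subgroup.eq_of_le_of_card_ge hQU.le e.ge)) ψ hψ
      exact h1.restrict hQU.le fun x => (hag x).symm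
    by_cases hcen : centralizerIn T Q ≤ Q
    swap
    · have hCS : centralizerIn T Q ≤ centralizerIn S Q := inf_le_inf_right _ hTS
      have hCE : centralizerIn T Q ≤ extender S Q (isoHom (β : Q ≃* Q)) :=
        hCS.trans centralizerIn_le_extender
      exact hext hβF (U := Q ⊔ centralizerIn T Q)
        (lt_of_le_of_ne le_sup_left fun e => hcen (le_sup_right.trans e.ge))
        (sup_le hQT (centralizerIn_le Q))
        (sup_le (le_extender hQS fun x => hQS (β x).2) hCE)
    have hQc : TCentric F T Q := by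
      refine ⟨hQT, fun Q'' hQ'' c hc => ?_⟩
      obtain ⟨f'', hf'', -, himg⟩ := exists_normalizer_map h.pgroup
        (IsSaturated.fullyAutomized h.pgroup h.sat hQ) hrec (isConj_symm hQ'')
      have hcN : c ∈ normalizerIn S Q'' :=
        centralizerIn_le_normalizerIn Q'' ⟨hTS hc.1, hc.2⟩
      have h1 : f'' ⟨c, hcN⟩ ∈ centralizerIn T Q := by
        refine mem_centralizerIn.2 ⟨StronglyClosed.apply_mem h.tclosed hf'' hc.1, fun y hy => ?_⟩
        obtain ⟨w, hw, rfl⟩ := himg.ge hy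
        rw [← map_mul, ← map_mul]
        exact congrArg f'' (Subtype.ext ((mem_centralizerIn.1 hc).2 _ hw))
      obtain ⟨w, hw, hwe⟩ := himg.ge (hcen h1)
      have h2 : (w : Ω) = c := congrArg Subtype.val (F.injective_of_mem hf'' hwe)
      exact h2 ▸ hw
    have := finite_mulAut_of_le (S := S) hQS
    set L₀ := autInducedBy T Q
    have hmap : L₀.map (MulAut.conj β).toMonoidHom ≤ A Q := by
      rintro _ ⟨l, hl, rfl⟩
      have h1 := h.congr hQc ((mem_autGroup_iff_isoIn hQS).1 hβF) l (h.induced hQc hl)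
      rwa [show (MulAut.conj β).toMonoidHom l = MulAut.congr (β : Q ≃* Q) l from
        MulEquiv.ext fun x => by simp [MulAut.congr, MulAut.mul_apply, MulAut.inv_def]]
    obtain ⟨c, hc, hcv⟩ := IsSylowIn.exists_conj_mem (h.sylow hQc hQ) hmap
      ((isPGroup_autInducedBy hTp).map _)
    have hcF : c ∈ F.autGroup Q := h.le hQc hc
    have hx : FrattiniMap h.genSys F (isoHom ((c * β : MulAut Q) : Q ≃* Q)) := by
      refine hext (mul_mem hcF hβF) (U := normalizerIn T Q) (lt_normalizerIn hTp hQlt)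
        (normalizerIn_le Q) fun g hg' => ?_
      set τ : MulAut Q := Q.normalizerMonoidHom ⟨g, hg'.2⟩
      have hτ : τ ∈ L₀ := mem_autInducedBy_iff.2 ⟨g, hg'.1, fun x => rfl⟩
      have h1 : c * β * τ * (c * β)⁻¹ ∈ L₀ := by
        have := hcv _ ⟨τ, hτ, rfl⟩
        simpa [mul_assoc] using this
      obtain ⟨t, ht, htv⟩ := mem_autInducedBy_iff.1 h1
      refine mem_extender_iff.2 ⟨hTS hg'.1, hg'.2, t, hTS ht, fun x hx => ?_⟩
      have h2 := htv ((c * β) x)
      rw [MulAut.mul_apply, MulAut.mul_apply, MulAut.inv_apply_self] at h2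
      exact h2
    have hci : GenFam F T A (isoHom ((c⁻¹ : MulAut Q) : Q ≃* Q)) :=
      GenFam.ofAut hQc (inv_mem hc)
    refine FrattiniMap.comp hinv hx (frattiniMap_of_mem hci) (fun x => ((c * β : MulAut Q) x).2)
      fun x => ?_
    show ((β x : Q) : Ω) = ((c⁻¹ ((c * β) x) : Q) : Ω)
    rw [MulAut.mul_apply, MulAut.inv_apply_self]

end AutFamily

end CfsgLib.Fusion.Family
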