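import Cfsg.Agent.Lib.Fusion.FamilyRealize

/-!
# The automorphism groups of the generated system are the members of the family
-/

set_option autoImplicit false
set_option maxHeartbeats 800000
set_option linter.unusedSectionVars false

namespace CfsgLib.Fusion.Family

open Cfsg Cfsg.FusionSystem CfsgLib.Fusion

variable {Ω : Type*} [Group Ω] {S T : Subgroup Ω} {F : FusionSystem S}
  {A : ∀ R : Subgroup Ω, Subgroup (MulAut R)} {p : ℕ}

/-- Generated automorphisms lie in the family. -/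
def Star (F : FusionSystem S) (T : Subgroup Ω) (A : ∀ R : Subgroup Ω, Subgroup (MulAut R))
    (M : Subgroup Ω) : Prop :=
  ∀ a : MulAut M, GenFam F T A (isoHom (a : M ≃* M)) → a ∈ A M

/-- Generated maps on `M` extend to the elements whose action they carry into `T`. -/
def Ext (F : FusionSystem S) (T : Subgroup Ω) (A : ∀ R : Subgroup Ω, Subgroup (MulAut R))
    (M : Subgroup Ω) : Prop :=
  ∀ (φ : M →* Ω), GenFam F T A φ → ∀ K : Subgroup Ω, ∀ hMK : M ≤ K, K ≤ normalizerIn T M →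
    (∀ k ∈ K, ∃ t ∈ T, ∀ (x : M) (hx : k * (x : Ω) * k⁻¹ ∈ M),
      φ ⟨k * x * k⁻¹, hx⟩ = t * φ x * t⁻¹) →
    ∃ ψ : K →* Ω, GenFam F T A ψ ∧ ∀ x : M, ψ (Subgroup.inclusion hMK x) = φ x

/-- Everything is known above the order `n`. -/
def Settled (F : FusionSystem S) (T : Subgroup Ω) (A : ∀ R : Subgroup Ω, Subgroup (MulAut R))
    (n : ℕ) : Prop :=
  ∀ M : Subgroup Ω, TCentric F T M → n < Nat.card M → Star F T A M ∧ Ext F T A M

theorem lt_card {P M : Subgroup Ω} [Finite M] (h : P < M) : Nat.card P < Nat.card M :=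
  lt_of_le_of_ne (Subgroup.card_le_of_le h.le) fun e =>
    h.ne (Subgroup.eq_of_le_of_card_ge h.le e.ge)

/-- A map carrying `W` onto `P` carries normalizing elements into the normalizer. -/
theorem apply_mem_normalizer {M W P : Subgroup Ω} [Finite P] {φ : M →* Ω}
    (hinj : Function.Injective φ) (hW : W ≤ M) (hv : ∀ x : M, (x : Ω) ∈ W → φ x ∈ P)
    (hcard : Nat.card W = Nat.card P) (x : M) (hx : (x : Ω) ∈ Subgroup.normalizer (W : Set Ω)) :
    φ x ∈ Subgroup.normalizer (P : Set Ω) := by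
  have h1 : img φ W = P := Subgroup.eq_of_le_of_card_ge
    (by rintro _ ⟨z, hz, rfl⟩; exact hv z hz) (by rw [card_img hinj hW, hcard])
  exact h1 ▸ img_mem_normalizer hW x hx

namespace AutFamily

variable [Fact p.Prime] [Finite S] (h : AutFamily p F T A)
include h

/-- A map of `F` agreeing on `W` with a generated map defined above `W` can be replaced by a
generated map. -/
theorem adjust {P : Subgroup Ω} (hP : TCentric F T P) (hn : F.IsFullyNormalized P)
    (hset : Settled F T A (Nat.card P)) {W : Subgroup Ω} (hW : TCentric F T W)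
    (hcard : Nat.card W = Nat.card P) : ∀ (k : ℕ) {M : Subgroup Ω}
    (f : normalizerIn T W →* Ω), f ∈ F.Hom (normalizerIn T W) →
    (∀ x : normalizerIn T W, (x : Ω) ∈ W → f x ∈ P) →
    Nat.card (normalizerIn T W) - Nat.card M ≤ k → W < M → ∀ hM : M ≤ normalizerIn T W,
    ∀ δ : M →* Ω, GenFam F T A δ →
    (∀ x : M, (x : Ω) ∈ W → δ x = f (Subgroup.inclusion hM x)) →
    ∃ χ : normalizerIn T W →* Ω, GenFam F T A χ ∧
      ∀ x : normalizerIn T W, (x : Ω) ∈ W → χ x = f x := by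
  intro k
  induction k using Nat.strong_induction_on with
  | _ k ih =>
    intro M f hf hfW hk hWM hM δ hδ hag
    have hTS := h.tclosed.1
    have hPS := hn.1
    have := finite_le hPS
    have hNT : normalizerIn T W ≤ T := normalizerIn_le W
    have := finite_le (hNT.trans hTS)
    have hMT : M ≤ T := hM.trans hNT
    have := finite_le (hMT.trans hTS)
    have hfT : ∀ x, f x ∈ T := fun x => h.tclosed.2 _ hNT f hf x
    have hfN : ∀ x, f x ∈ normalizerIn T P := fun x => ⟨hfT x,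
      apply_mem_normalizer (F.injective_of_mem hf) (le_normalizerIn hW.le) hfW hcard x x.2.2⟩
    set f₀ : M →* Ω := f.comp (Subgroup.inclusion hM) with hf₀
    have hf₀F : f₀ ∈ F.Hom M := restrict_mem hf hM
    have hf₀inj := F.injective_of_mem hf₀F
    have hδN : ∀ x, δ x ∈ normalizerIn T P := fun x => ⟨hδ.le_T.2 x,
      apply_mem_normalizer (F.injective_of_mem (h.mem hδ)) hWM.le
        (fun z hz => by rw [hag z hz]; exact hfW _ hz) hcard x (hM x.2).2⟩
    have hWP : img f₀ W = P := Subgroup.eq_of_le_of_card_ge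
      (by rintro _ ⟨z, hz, rfl⟩; exact hfW _ hz) (by rw [card_img hf₀inj hWM.le, hcard])
    set M' := f₀.range with hM'
    have hPM' : P ≤ M' := hWP.ge.trans (img_le_range f₀ W)
    have hM'N : M' ≤ normalizerIn T P := by rintro _ ⟨x, rfl⟩; exact hfN _
    have hM'S : M' ≤ S := hM'N.trans ((normalizerIn_le P).trans hTS)
    have := finite_le hM'S
    have hδr : δ.range = M' := by
      refine Subgroup.eq_of_le_of_card_ge ?_ ?_
      · rintro _ ⟨x, rfl⟩
        have h1 : conjMon T P ⟨f₀ x, hfN _⟩ = conjMon T P ⟨δ x, hδN x⟩ := by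
          refine MulEquiv.ext fun y => Subtype.ext ?_
          obtain ⟨w, hw, hwy⟩ := hWP.ge y.2
          show f₀ x * (y : Ω) * (f₀ x)⁻¹ = δ x * (y : Ω) * (δ x)⁻¹
          rw [← hwy, ← map_inv, ← map_inv, ← map_mul, ← map_mul]
          conv_rhs => rw [show f₀ w = δ w from (hag w hw).symm, ← map_mul, ← map_mul]
          exact (hag _ (conj_mem_of_mem_normalizer (hM x.2).2 hw)).symm
        have h2 := inv_mul_mem_of_conjMon (hP.2 P (isConj_refl hPS)) _ _ h1
        have := M'.mul_mem ⟨x, rfl⟩ (hPM' h2)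
        rwa [mul_inv_cancel_left] at this
      · exact le_of_eq ((Nat.card_congr (MonoidHom.ofInjective hf₀inj).toEquiv).symm.trans
          (Nat.card_congr (MonoidHom.ofInjective (F.injective_of_mem (h.mem hδ))).toEquiv))
    obtain ⟨ef, hef, hefv⟩ := exists_iso hf₀F (Q := M') rfl
    obtain ⟨ed, hed, hedv⟩ := exists_iso (h.mem hδ) hδr
    set ε : MulAut M' := ef.symm.trans ed with hεdef
    have hε : ε ∈ F.autGroup M' := (mem_autGroup_iff_isoIn hM'S).2 (hef.symm.trans hed)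
    have hεv : ∀ x : M, ((ε (ef x) : M') : Ω) = δ x := fun x => by simp [hεdef, hedv]
    have hfix : ∀ y : M', (y : Ω) ∈ P → ε y = y := by
      intro y hy
      obtain ⟨w, hw, hwy⟩ := hWP.ge hy
      obtain rfl : y = ef w := Subtype.ext (hwy.symm.trans (hefv w).symm)
      exact Subtype.ext (((hεv w).trans (hag w hw)).trans (hefv w).symm)
    have hc := hP.2 P (isConj_refl hPS)
    obtain ⟨s, hs, hsv⟩ := Meet.exists_conj_of_fix h.pgroup h.sat hn hPM'
      (fun x hx => ⟨hTS (hM'N hx).1, (hM'N hx).2⟩)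
      (Meet.centralizer_normalizes h.tclosed hPM' (hM'N.trans (normalizerIn_le P))
        (hM'N.trans inf_le_right) hc) hε hfix
      (Meet.shift_of_fix (hM'N.trans (normalizerIn_le P)) (hM'N.trans inf_le_right) hPM' hc hfix)
    set f₁ : normalizerIn T W →* Ω := (MulAut.conj s).toMonoidHom.comp f with hf₁
    have hf₁F : f₁ ∈ F.Hom (normalizerIn T W) :=
      comp_mem' hf (F.conj_mem le_rfl (centralizerIn_le P hs)) (hom_apply_mem hf) fun _ => rfl
    have hf₁W : ∀ x : normalizerIn T W, (x : Ω) ∈ W → f₁ x = f x := fun x hx => by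
      show s * f x * s⁻¹ = f x
      rw [← (mem_centralizerIn.1 hs).2 _ (hfW x hx), mul_inv_cancel_right]
    have hf₁δ : ∀ x : M, δ x = f₁ (Subgroup.inclusion hM x) := fun x => by
      rw [← hεv, hsv, hefv]
      rfl
    rcases eq_or_lt_of_le hM with hMe | hMlt
    · refine ⟨δ.comp (Subgroup.inclusion hMe.ge), hδ.restrict hMe.ge fun _ => rfl, fun x hx => ?_⟩
      exact (hag ⟨x, hMe.ge x.2⟩ hx).trans (congrArg f (Subtype.ext rfl))
    set M₁ := normalizerIn (normalizerIn T W) M with hM₁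
    have hlt₁ : M < M₁ := lt_normalizerIn (h.pgroup.to_le (hNT.trans hTS)) hMlt
    have hM₁N : M₁ ≤ normalizerIn T W := normalizerIn_le M
    have := finite_le ((hM₁N.trans hNT).trans hTS)
    obtain ⟨ψ, hψ, hψv⟩ := (hset M (hW.mono hWM.le hMT) (hcard ▸ lt_card hWM)).2 δ hδ M₁ hlt₁.le
      (fun x hx => ⟨hNT hx.1, hx.2⟩) fun g hg => ⟨f₁ ⟨g, hM₁N hg⟩,
        h.tclosed.2 _ hNT f₁ hf₁F _, fun x hx => by
          rw [hf₁δ, hf₁δ, ← map_inv, ← map_mul, ← map_mul]
          exact congrArg f₁ (Subtype.ext rfl)⟩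
    obtain ⟨χ, hχ, hχv⟩ := ih (Nat.card (normalizerIn T W) - Nat.card M₁) (by
        have := lt_card hlt₁
        have := Subgroup.card_le_of_le hM₁N
        omega) f₁ hf₁F (fun x hx => by rw [hf₁W x hx]; exact hfW x hx) le_rfl
      (hWM.trans hlt₁) hM₁N ψ hψ fun x hx => by
        refine Eq.trans ?_ (hf₁δ ⟨x, hWM.le hx⟩)
        exact hψv ⟨x, hWM.le hx⟩
    exact ⟨χ, hχ, fun x hx => (hχv x hx).trans (hf₁W x hx)⟩

/-- A generated map sending `W` onto `P`, corrected by the family, extends to `N_T(W)`. -/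
theorem climb {P : Subgroup Ω} (hP : TCentric F T P) (hn : F.IsFullyNormalized P)
    (hset : Settled F T A (Nat.card P)) {W : Subgroup Ω} (hW : TCentric F T W)
    (hcard : Nat.card W = Nat.card P) {M : Subgroup Ω} (hWM : W < M)
    (hM : M ≤ normalizerIn T W) {δ : M →* Ω} (hδ : GenFam F T A δ)
    (hδW : ∀ x : M, (x : Ω) ∈ W → δ x ∈ P) :
    ∃ χ : normalizerIn T W →* Ω, GenFam F T A χ ∧ ∃ a ∈ A P,
      ∀ (x : M) (hx : (x : Ω) ∈ W),
        χ (Subgroup.inclusion hM x) = ((a ⟨δ x, hδW x hx⟩ : P) : Ω) := by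
  have hTS := h.tclosed.1
  have hTp := h.pgroup.to_le hTS
  have hPS := hn.1
  have hWS := hW.le.trans hTS
  have := finite_le hPS
  have := finite_mulAut_of_le (S := S) hPS
  have := finite_le ((hM.trans (normalizerIn_le W)).trans hTS)
  obtain ⟨ed, hed, hedv⟩ := exists_iso (restrict_mem (h.mem hδ) hWM.le) (Q := P) (by
    rw [range_restrict]
    exact Subgroup.eq_of_le_of_card_ge (by rintro _ ⟨z, hz, rfl⟩; exact hδW z hz)
      (by rw [card_img (F.injective_of_mem (h.mem hδ)) hWM.le, hcard]))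
  have hPfc := IsSaturated.fullyCentralized h.pgroup h.sat hn
  have hrec := IsSaturated.receptive h.pgroup h.sat hPfc
  obtain ⟨g, hg, -, himg⟩ := exists_normalizer_map h.pgroup
    (IsSaturated.fullyAutomized h.pgroup h.sat hn) hrec hed.isConj
  have hgN : normalizerIn T W ≤ normalizerIn S W := fun x hx => ⟨hTS hx.1, hx.2⟩
  obtain ⟨eg, heg, hegv⟩ := exists_iso (P := W) (Q := P)
    (restrict_mem hg (le_normalizerIn hWS)) (by rw [range_restrict, himg])
  set d : MulAut P := ed.symm.trans eg with hd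
  have hdF : d ∈ F.autGroup P := (mem_autGroup_iff_isoIn hPS).2 (hed.symm.trans heg)
  obtain ⟨a, ha, hav⟩ := IsSylowIn.exists_conj_mem (h.sylow hP hn)
    (X := (autInducedBy T P).map (MulAut.conj d⁻¹).toMonoidHom) (by
      rintro _ ⟨c, hc, rfl⟩
      have h1 := h.congr hP ((mem_autGroup_iff_isoIn hPS).1 (Subgroup.inv_mem _ hdF)) c
        (h.induced hP hc)
      rwa [show (MulAut.conj d⁻¹).toMonoidHom c = MulAut.congr ((d⁻¹ : MulAut P) : P ≃* P) c from
        MulEquiv.ext fun x => by simp [MulAut.congr, MulAut.mul_apply, MulAut.inv_def]])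
    ((isPGroup_autInducedBy hTp).map _)
  set m : MulAut P := a * d⁻¹ with hm
  have hmF : m ∈ F.autGroup P := Subgroup.mul_mem _ (h.le hP ha) (Subgroup.inv_mem _ hdF)
  have hPN : P ≤ normalizerIn T P := le_normalizerIn hP.le
  obtain ⟨μ, hμ, hμv⟩ := exists_extension hrec ((mem_autGroup_iff_isoIn hPS).1 hmF) hPN
    (fun y hy => by
      set τ : MulAut P := P.normalizerMonoidHom ⟨y, hy.2⟩
      have h1 : m * τ * m⁻¹ ∈ autInducedBy T P := by
        have := hav _ ⟨τ, mem_autInducedBy_iff.2 ⟨y, hy.1, fun x => rfl⟩, rfl⟩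
        simpa [hm, mul_assoc] using this
      obtain ⟨t, ht, htv⟩ := mem_autInducedBy_iff.1 h1
      refine mem_extender_iff.2 ⟨hTS hy.1, hy.2, t, hTS ht, fun x hx => ?_⟩
      have h2 := htv (m x)
      rw [MulAut.mul_apply, MulAut.mul_apply, MulAut.inv_apply_self] at h2
      exact h2)
  have hgT : ∀ x : normalizerIn T W, g (Subgroup.inclusion hgN x) ∈ normalizerIn T P := fun x =>
    ⟨StronglyClosed.apply_mem h.tclosed hg x.2.1,
      apply_mem_normalizer (F.injective_of_mem hg) (le_normalizerIn hWS)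
        (fun z hz => himg.le ⟨z, hz, rfl⟩) hcard _ x.2.2⟩
  set f : normalizerIn T W →* Ω :=
    μ.comp ((g.comp (Subgroup.inclusion hgN)).codRestrict _ hgT) with hf
  have hfF : f ∈ F.Hom (normalizerIn T W) := F.comp_mem (restrict_mem hg hgN) hμ hgT
  -- `f` is `a δ` on `W`
  have hfval : ∀ (x : M) (hx : (x : Ω) ∈ W),
      f (Subgroup.inclusion hM x) = ((a ⟨δ x, hδW x hx⟩ : P) : Ω) := by
    intro x hx
    have e1 : (⟨δ x, hδW x hx⟩ : P) = ed ⟨x, hx⟩ := Subtype.ext (hedv ⟨x, hx⟩).symm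
    have e2 : a (ed ⟨x, hx⟩) = m (eg ⟨x, hx⟩) := by
      rw [hm, MulAut.mul_apply, hd, MulAut.inv_def]
      simp
    rw [e1, e2]
    refine Eq.trans ?_ (hμv (eg ⟨x, hx⟩))
    exact congrArg μ (Subtype.ext (hegv ⟨x, hx⟩).symm)
  -- the corrected map on `M`
  have hδN : ∀ x, δ x ∈ normalizerIn T P := fun x => ⟨hδ.le_T.2 x,
    apply_mem_normalizer (F.injective_of_mem (h.mem hδ)) hWM.le hδW hcard x (hM x.2).2⟩
  have hPr : P ≤ δ.range := fun y hy => ⟨⟨_, hWM.le (ed.symm ⟨y, hy⟩).2⟩,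
    (hedv (ed.symm ⟨y, hy⟩)).symm.trans (by rw [MulEquiv.apply_symm_apply])⟩
  obtain ⟨ρ, hρ, hρv⟩ := h.realize_on hP hn hPr (by rintro _ ⟨x, rfl⟩; exact hδN x) ha
    (fun c hc => by
      obtain ⟨t, ⟨x, rfl⟩, htv⟩ := mem_autInducedBy_iff.1 hc
      refine mem_autInducedBy_iff.2
        ⟨f (Subgroup.inclusion hM x), h.tclosed.2 _ (normalizerIn_le W) f hfF _, fun y => ?_⟩
      obtain ⟨z, rfl⟩ := a.surjective y
      obtain ⟨w, rfl⟩ := ed.surjective z
      rw [MulAut.mul_apply, MulAut.mul_apply, MulAut.inv_apply_self]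
      have hw' : ((x * ⟨w, hWM.le w.2⟩ * x⁻¹ : M) : Ω) ∈ W :=
        conj_mem_of_mem_normalizer (hM x.2).2 w.2
      have e1 := hfval _ hw'
      have e2 : c (ed w) = ⟨δ (x * ⟨w, hWM.le w.2⟩ * x⁻¹), hδW _ hw'⟩ := Subtype.ext (by
        refine (htv (ed w)).trans (Eq.trans ?_ (Eq.symm (show ((⟨δ (x * ⟨w, hWM.le w.2⟩ * x⁻¹),
          hδW _ hw'⟩ : P) : Ω) = δ x * δ ⟨w, hWM.le w.2⟩ * (δ x)⁻¹ by
            rw [← map_inv, ← map_mul, ← map_mul])))
        rw [hedv]
        rfl)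
      have e3 := hfval ⟨w, hWM.le w.2⟩ w.2
      rw [show (⟨δ ⟨w, hWM.le w.2⟩, _⟩ : P) = ed w from Subtype.ext (hedv w).symm] at e3
      rw [e2, ← e1, ← e3, ← map_inv, ← map_mul, ← map_mul]
      exact congrArg f (Subtype.ext rfl))
  have hmem : ∀ x, δ x ∈ δ.range := fun x => ⟨x, rfl⟩
  have hfP : ∀ x : normalizerIn T W, (x : Ω) ∈ W → f x ∈ P := fun x hx => by
    refine (hfval ⟨x, hWM.le hx⟩ hx).symm ▸ ?_
    exact (a _).2
  obtain ⟨χ, hχ, hχv⟩ := h.adjust hP hn hset hW hcard _ f hfF hfP le_rfl hWM hM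
    (ρ.comp (δ.codRestrict _ hmem)) (GenFam.comp hρ hδ hmem fun _ => rfl)
    fun x hx => by
      rw [hfval x hx]
      exact hρv ⟨δ x, hδW x hx⟩
  exact ⟨χ, hχ, a, ha, fun x hx => (hχv _ hx).trans (hfval x hx)⟩

/-- Every generated map from `P` is referred back to `P` by a map of the normalizer of its image. -/
theorem key {P : Subgroup Ω} (hP : TCentric F T P) (hn : F.IsFullyNormalized P)
    (hset : Settled F T A (Nat.card P)) {P₀ : Subgroup Ω} {φ : P₀ →* Ω} (hφ : GenFam F T A φ) :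
    P₀ = P → ∀ W, φ.range = W → ∃ η : normalizerIn T W →* Ω, GenFam F T A η ∧ ∃ a ∈ A P,
      ∀ (x : P₀) (hx : φ x ∈ normalizerIn T W) (hxP : (x : Ω) ∈ P),
        η ⟨φ x, hx⟩ = ((a ⟨x, hxP⟩ : P) : Ω) := by
  induction hφ with
  | incl φ hP₀ hφ =>
      intro hP₀P W hW
      obtain rfl : W = P := by
        rw [← hW, show φ = Subgroup.subtype _ from MonoidHom.ext hφ, Subgroup.range_subtype, hP₀P]
      exact ⟨Subgroup.subtype _, GenFam.incl _ (normalizerIn_le _) fun _ => rfl, 1, one_mem _,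
        fun x hx hxP => hφ x⟩
  | @step R φ hR a ha hφ hle χ hχ ih =>
      intro hP₀P W' hW'
      set W := φ.range with hWdef
      obtain ⟨η, hη, c, hc, hηv⟩ := ih hP₀P W hWdef.symm
      have hTS := h.tclosed.1
      have hWR : W ≤ R := by rintro _ ⟨x, rfl⟩; exact hle x
      have hW'R : W' ≤ R := by rw [← hW']; rintro _ ⟨x, rfl⟩; rw [hχ]; exact (a _).2
      have hφF := h.mem hφ
      have hχF : χ ∈ F.Hom _ := h.mem (GenFam.step hR a ha hφ hle χ hχ)
      have hWc : TCentric F T W := hP.conj h.tclosed (hP₀P ▸ ⟨φ, hφF, rfl⟩)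
      have hW'c : TCentric F T W' := hP.conj h.tclosed (hP₀P ▸ ⟨χ, hχF, hW'⟩)
      have hWcard : Nat.card W = Nat.card P := by
        rw [← hP₀P]
        exact (Nat.card_congr (MonoidHom.ofInjective (F.injective_of_mem hφF)).toEquiv).symm
      have hW'card : Nat.card W' = Nat.card P := by
        rw [← hW', ← hP₀P]
        exact (Nat.card_congr (MonoidHom.ofInjective (F.injective_of_mem hχF)).toEquiv).symm
      have hRS := hR.le.trans hTS
      have := finite_le hRS
      have hWN : W ≤ normalizerIn T W := le_normalizerIn hWc.le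
      have hηP : ∀ x : normalizerIn T W, (x : Ω) ∈ W → η x ∈ P := by
        rintro ⟨_, hx⟩ ⟨z, rfl⟩
        rw [hηv z hx (hP₀P ▸ z.2)]
        exact (c _).2
      rcases eq_or_lt_of_le hW'R with hW'e | hW'lt
      · -- an automorphism of the image
        have hWe : W = R := Subgroup.eq_of_le_of_card_ge hWR (by rw [hWcard, ← hW'card, hW'e])
        subst hW'e
        obtain ⟨e, he, hev⟩ := exists_iso (restrict_mem (h.mem hη) hWN) (Q := P) (by
          rw [range_restrict]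
          have := finite_le hn.1
          exact Subgroup.eq_of_le_of_card_ge (by rintro _ ⟨z, hz, rfl⟩; exact hηP z hz)
            (by rw [card_img (F.injective_of_mem (h.mem hη)) hWN, hWcard]))
        set u : W' ≃* W := MulEquiv.subgroupCongr hWe.symm with hu
        refine ⟨η.comp (Subgroup.inclusion (le_of_eq (by rw [hWe]))),
          hη.restrict (le_of_eq (by rw [hWe])) fun _ => rfl,
          MulAut.congr (u.trans e) a * c,
          mul_mem (h.congr hR (IsoIn.trans (hom_congr (incl_mem hRS) fun _ => rfl :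
            IsoIn F u) he) a ha) hc, fun x hx hxP => ?_⟩
        have e1 : c ⟨x, hxP⟩ = e ⟨φ x, ⟨x, rfl⟩⟩ :=
          Subtype.ext ((hηv x (hWN ⟨x, rfl⟩) hxP).symm.trans (hev ⟨φ x, ⟨x, rfl⟩⟩).symm)
        rw [MulAut.mul_apply, e1]
        have e2 : (u.trans e).symm (e ⟨φ x, ⟨x, rfl⟩⟩) = ⟨φ x, hle x⟩ := by
          rw [MulEquiv.symm_apply_eq, MulEquiv.trans_apply]
          exact congrArg e (Subtype.ext rfl)
        show _ = (((u.trans e) (a ((u.trans e).symm (e ⟨φ x, ⟨x, rfl⟩⟩))) : P) : Ω)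
        rw [e2, MulEquiv.trans_apply, hev]
        exact congrArg η (Subtype.ext (hχ x))
      · -- through a larger subgroup
        set M := normalizerIn R W' with hMdef
        have hlt : W' < M := lt_normalizerIn (h.pgroup.to_le hRS) hW'lt
        have hM : M ≤ normalizerIn T W' := fun x hx => ⟨hR.le hx.1, hx.2⟩
        set g : M →* Ω := (R.subtype.comp (a⁻¹).toMonoidHom).comp
          (Subgroup.inclusion (normalizerIn_le W')) with hg
        have hgG : GenFam F T A g := GenFam.step hR a⁻¹ (Subgroup.inv_mem _ ha)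
          (GenFam.incl M.subtype ((normalizerIn_le W').trans hR.le) fun _ => rfl)
          (fun y => normalizerIn_le W' y.2) _ fun _ => rfl
        have hgW : ∀ y : M, (y : Ω) ∈ W' → g y ∈ W := by
          rintro ⟨_, hy⟩ hy'
          obtain ⟨z, rfl⟩ := hW'.ge hy'
          refine ⟨z, ?_⟩
          show φ z = ((a⁻¹ ⟨χ z, _⟩ : R) : Ω)
          rw [show (⟨χ z, _⟩ : R) = a ⟨φ z, hle z⟩ from Subtype.ext (hχ z), MulAut.inv_apply_self]
        have := finite_le (hWR.trans hRS)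
        have hgN : ∀ y : M, g y ∈ normalizerIn T W := fun y => ⟨hgG.le_T.2 y,
          apply_mem_normalizer (F.injective_of_mem (h.mem hgG)) hlt.le hgW
            (hW'card.trans hWcard.symm) y (hM y.2).2⟩
        obtain ⟨θ, hθ, b, hb, hθv⟩ := h.climb hP hn hset hW'c hW'card hlt hM
          (δ := η.comp (g.codRestrict _ hgN)) (GenFam.comp hη hgG hgN fun _ => rfl)
          fun y hy => hηP _ (hgW y hy)
        refine ⟨θ, hθ, b * c, mul_mem hb hc, fun x hx hxP => ?_⟩
        have hχW' : χ x ∈ W' := hW'.le ⟨x, rfl⟩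
        refine Eq.trans (congrArg θ (Subtype.ext rfl)) ((hθv ⟨χ x, hlt.le hχW'⟩ hχW').trans ?_)
        rw [MulAut.mul_apply]
        congr 2
        refine Subtype.ext ?_
        refine Eq.trans ?_ (hηv x (hWN ⟨x, rfl⟩) hxP)
        refine congrArg η (Subtype.ext ?_)
        show ((a⁻¹ ⟨χ x, _⟩ : R) : Ω) = φ x
        rw [show (⟨χ x, _⟩ : R) = a ⟨φ x, hle x⟩ from Subtype.ext (hχ x), MulAut.inv_apply_self]

/-- At `T` every generated map is an automorphism of the family. -/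
theorem gen_top {P : Subgroup Ω} {φ : P →* Ω} (hφ : GenFam F T A φ) :
    P = T → ∃ a ∈ A T, ∀ (x : P) (hx : (x : Ω) ∈ T), φ x = ((a ⟨x, hx⟩ : T) : Ω) := by
  induction hφ with
  | incl φ hP hφ => exact fun _ => ⟨1, one_mem _, fun x _ => hφ x⟩
  | @step R φ hR a ha hφ hle χ hχ ih =>
      intro hPT
      obtain ⟨c, hc, hcv⟩ := ih hPT
      have := finite_le h.tclosed.1
      obtain rfl : R = T := le_antisymm hR.le fun y hy => by
        obtain ⟨z, hz⟩ := c.surjective ⟨y, hy⟩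
        have h1 := hcv ⟨z, hPT ▸ z.2⟩ z.2
        rw [Subtype.coe_eta, hz] at h1
        have h2 := hle ⟨z, hPT ▸ z.2⟩
        rwa [h1] at h2
      refine ⟨a * c, mul_mem ha hc, fun x hx => ?_⟩
      rw [MulAut.mul_apply, hχ]
      congr 2
      exact Subtype.ext (hcv x hx)

theorem star_fn {P : Subgroup Ω} (hP : TCentric F T P) (hn : F.IsFullyNormalized P)
    (hset : Settled F T A (Nat.card P)) : Star F T A P := by
  intro a ha
  have hTS := h.tclosed.1
  rcases eq_or_lt_of_le hP.le with rfl | hlt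
  · obtain ⟨c, hc, hcv⟩ := h.gen_top ha rfl
    rwa [show a = c from MulEquiv.ext fun x => Subtype.ext (hcv x x.2)]
  · have := finite_le hTS
    have hPN : P < normalizerIn T P := lt_normalizerIn (h.pgroup.to_le hTS) hlt
    obtain ⟨η, hη, c, hc, hηv⟩ := h.key hP hn hset ha rfl P (isoHom_range _)
    have := finite_le ((normalizerIn_le (S := T) P).trans hTS)
    have hηP : ∀ x : normalizerIn T P, (x : Ω) ∈ P → η x ∈ P := by
      intro x hx
      obtain ⟨z, hz⟩ := a.surjective ⟨x, hx⟩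
      have h1 : isoHom (a : P ≃* P) z = (x : Ω) := congrArg Subtype.val hz
      rw [show x = ⟨isoHom (a : P ≃* P) z, by rw [h1]; exact x.2⟩ from Subtype.ext h1.symm,
        hηv z _ z.2]
      exact (c _).2
    have := finite_le hn.1
    obtain ⟨e, he, hev⟩ := exists_iso (F := h.genSys) (Q := normalizerIn T P) hη
      (Subgroup.eq_of_le_of_card_ge (by
        rintro _ ⟨x, rfl⟩
        exact ⟨hη.le_T.2 x, apply_mem_normalizer (F.injective_of_mem (h.mem hη)) hPN.le hηP rfl x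
          x.2.2⟩)
        (Nat.card_congr (MonoidHom.ofInjective (F.injective_of_mem (h.mem hη))).toEquiv).le)
    have heA : (e : MulAut (normalizerIn T P)) ∈ A (normalizerIn T P) :=
      (hset _ (hP.mono hPN.le (normalizerIn_le P)) (lt_card hPN)).1 _ he.mem
    have hca : c * a⁻¹ ∈ A P := h.down hP hn _ heA _ hPN.le fun x => by
      rw [hev]
      obtain ⟨z, rfl⟩ := a.surjective x
      rw [MulAut.mul_apply, MulAut.inv_apply_self]
      exact (hηv z _ z.2).symm.trans (congrArg η (Subtype.ext rfl))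
    have := mul_mem (inv_mem hca) hc
    simpa [mul_assoc] using this

theorem ext_fn {P : Subgroup Ω} (hP : TCentric F T P) (hn : F.IsFullyNormalized P)
    (hset : Settled F T A (Nat.card P)) {M : Subgroup Ω} {φ : M →* Ω} (hφ : GenFam F T A φ)
    (hr : φ.range = P) {K : Subgroup Ω} (hMK : M ≤ K) (hK : K ≤ normalizerIn T M)
    (hcond : ∀ k ∈ K, ∃ t ∈ T, ∀ (x : M) (hx : k * (x : Ω) * k⁻¹ ∈ M),
      φ ⟨k * x * k⁻¹, hx⟩ = t * φ x * t⁻¹) :
    ∃ ψ : K →* Ω, GenFam F T A ψ ∧ ∀ x : M, ψ (Subgroup.inclusion hMK x) = φ x := by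
  subst hr
  obtain ⟨θ, hθ, hθv⟩ := hφ.inv
  have hθr : θ.range = M := le_antisymm
    (by rintro _ ⟨⟨_, x, rfl⟩, rfl⟩; rw [hθv]; exact x.2) fun x hx => ⟨_, hθv ⟨x, hx⟩⟩
  obtain ⟨η, hη, a, ha, hηv⟩ := h.key hP hn hset hθ rfl M hθr
  have hMN : M ≤ normalizerIn T M := hMK.trans hK
  have hηφ : ∀ x : M, η (Subgroup.inclusion hMN x) =
      ((a ⟨φ x, ⟨x, rfl⟩⟩ : φ.range) : Ω) := fun x => by
    rw [← hηv ⟨φ x, ⟨x, rfl⟩⟩ (by rw [hθv]; exact hMN x.2) ⟨x, rfl⟩]
    exact congrArg η (Subtype.ext (hθv x).symm)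
  have := finite_le hn.1
  have hcard : Nat.card M = Nat.card φ.range :=
    Nat.card_congr (MonoidHom.ofInjective (F.injective_of_mem (h.mem hφ))).toEquiv
  set K' := (η.comp (Subgroup.inclusion hK)).range with hK'
  have hPK' : φ.range ≤ K' := fun y hy => by
    obtain ⟨x, hx⟩ := a⁻¹ ⟨y, hy⟩ |>.2
    refine ⟨Subgroup.inclusion hMK x, (hηφ x).trans ?_⟩
    rw [show (⟨φ x, ⟨x, rfl⟩⟩ : φ.range) = a⁻¹ ⟨y, hy⟩ from Subtype.ext hx, MulAut.apply_inv_self]
  have hηM : ∀ x : normalizerIn T M, (x : Ω) ∈ M → η x ∈ φ.range := fun x hx => by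
    rw [show x = Subgroup.inclusion hMN ⟨x, hx⟩ from rfl, hηφ]
    exact (a _).2
  have hK'N : K' ≤ normalizerIn T φ.range := by
    rintro _ ⟨k, rfl⟩
    exact ⟨hη.le_T.2 _, apply_mem_normalizer (F.injective_of_mem (h.mem hη)) hMN hηM hcard _
      (hK k.2).2⟩
  obtain ⟨ρ, hρ, hρv⟩ := h.realize_on hP hn hPK' hK'N (Subgroup.inv_mem _ ha) fun c hc => by
    obtain ⟨_, ⟨k, rfl⟩, htv⟩ := mem_autInducedBy_iff.1 hc
    obtain ⟨t, ht, hv⟩ := hcond k k.2
    refine mem_autInducedBy_iff.2 ⟨t, ht, fun y => ?_⟩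
    obtain ⟨_, x, rfl⟩ := y
    have hx : (k : Ω) * (x : Ω) * (k : Ω)⁻¹ ∈ M := conj_mem_of_mem_normalizer (hK k.2).2 x.2
    have e1 : c (a ⟨φ x, ⟨x, rfl⟩⟩) = a ⟨φ ⟨_, hx⟩, ⟨_, rfl⟩⟩ := Subtype.ext (by
      rw [htv, ← hηφ, ← hηφ, MonoidHom.comp_apply, ← map_inv, ← map_mul, ← map_mul]
      exact congrArg η (Subtype.ext rfl))
    rw [inv_inv, MulAut.mul_apply, MulAut.mul_apply, e1, MulAut.inv_apply_self]
    exact hv x hx
  have hmem : ∀ k, (η.comp (Subgroup.inclusion hK)) k ∈ K' := fun k => ⟨k, rfl⟩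
  refine ⟨ρ.comp ((η.comp (Subgroup.inclusion hK)).codRestrict _ hmem),
    GenFam.comp hρ (hη.restrict hK fun _ => rfl) hmem fun _ => rfl, fun x => ?_⟩
  refine Eq.trans ?_ ((hρv (a ⟨φ x, ⟨x, rfl⟩⟩)).trans (by rw [MulAut.inv_apply_self]))
  exact congrArg ρ (Subtype.ext (hηφ x))

end AutFamily

end CfsgLib.Fusion.Family
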