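import Cfsg.Agent.Lib.Fusion.FamilyGen

/-!
# Realizing the automorphisms of the family on larger subgroups
-/

set_option autoImplicit false
set_option maxHeartbeats 800000
set_option linter.unusedSectionVars false

namespace CfsgLib.Fusion.Family

open Cfsg Cfsg.FusionSystem CfsgLib.Fusion

variable {Ω : Type*} [Group Ω] {S T : Subgroup Ω} {F : FusionSystem S}
  {A : ∀ R : Subgroup Ω, Subgroup (MulAut R)} {p : ℕ}

/-- The action of `N_T(P)` on `P`. -/
def conjMon (T P : Subgroup Ω) : normalizerIn T P →* MulAut P :=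
  P.normalizerMonoidHom.comp (Subgroup.inclusion inf_le_right)

theorem conjMon_apply {P : Subgroup Ω} (g : normalizerIn T P) (x : P) :
    ((conjMon T P g x : P) : Ω) = g * (x : Ω) * (g : Ω)⁻¹ := rfl

/-- The elements of `N_T(P)` inducing an element of `X`. -/
def preAutIn (T P : Subgroup Ω) (X : Subgroup (MulAut P)) : Subgroup Ω :=
  (X.comap (conjMon T P)).map (normalizerIn T P).subtype

variable {P : Subgroup Ω} {X : Subgroup (MulAut P)}

theorem preAutIn_le : preAutIn T P X ≤ normalizerIn T P := Subgroup.map_subtype_le _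

theorem mem_preAutIn {g : normalizerIn T P} :
    (g : Ω) ∈ preAutIn T P X ↔ conjMon T P g ∈ X :=
  ⟨fun ⟨_, hy, he⟩ => Subtype.ext he ▸ hy, fun h => ⟨g, h, rfl⟩⟩

theorem conjMon_mem {M : Subgroup Ω} (g : normalizerIn T P) (hg : (g : Ω) ∈ M) :
    conjMon T P g ∈ autInducedBy M P :=
  mem_autInducedBy_iff.2 ⟨g, hg, fun _ => rfl⟩

theorem exists_conjMon {M : Subgroup Ω} (hM : M ≤ T) {a : MulAut P} (ha : a ∈ autInducedBy M P) :
    ∃ g : normalizerIn T P, (g : Ω) ∈ M ∧ conjMon T P g = a := by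
  obtain ⟨g, hg, hv⟩ := mem_autInducedBy_iff.1 ha
  exact ⟨⟨g, hM hg, mem_normalizer_of_conj_eq a hv⟩, hg,
    MulEquiv.ext fun x => Subtype.ext (hv x).symm⟩

theorem le_preAutIn (hP : P ≤ T) (hX : Inn P ≤ X) : P ≤ preAutIn T P X := fun x hx =>
  (mem_preAutIn (g := ⟨x, le_normalizerIn hP hx⟩)).2
    (hX ⟨⟨x, hx⟩, MulEquiv.ext fun _ => Subtype.ext rfl⟩)

theorem autInducedBy_preAutIn (hX : X ≤ autInducedBy T P) :
    autInducedBy (preAutIn T P X) P = X := by
  refine le_antisymm (fun a ha => ?_) fun a ha => ?_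
  · obtain ⟨g, hg, rfl⟩ := exists_conjMon (preAutIn_le.trans (normalizerIn_le P)) ha
    exact mem_preAutIn.1 hg
  · obtain ⟨g, -, rfl⟩ := exists_conjMon le_rfl (hX ha)
    exact conjMon_mem g (mem_preAutIn.2 ha)

theorem le_preAutIn_induced {M : Subgroup Ω} (hM : M ≤ normalizerIn T P) :
    M ≤ preAutIn T P (autInducedBy M P) := fun x hx =>
  (mem_preAutIn (g := ⟨x, hM hx⟩)).2 (conjMon_mem _ hx)

theorem inn_conj_le (g : MulAut P) {X : Subgroup (MulAut P)} (hX : Inn P ≤ X) :
    Inn P ≤ X.map (MulAut.conj g).toMonoidHom := fun a ha => by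
  obtain ⟨x, rfl⟩ := ha
  refine ⟨MulAut.conj (g⁻¹ x), hX ⟨_, rfl⟩, ?_⟩
  refine MulEquiv.ext fun y => ?_
  show g (g⁻¹ x * g⁻¹ y * (g⁻¹ x)⁻¹) = x * y * x⁻¹
  rw [map_mul, map_mul, map_inv, MulAut.apply_inv_self, MulAut.apply_inv_self]

theorem mem_normalizer_of_map_eq {G : Type*} [Group G] {X : Subgroup G} {g : G}
    (h : X.map (MulAut.conj g).toMonoidHom = X) : g ∈ Subgroup.normalizer (X : Set G) :=
  Subgroup.mem_normalizer_iff_map_conj_eq.2 h

/-- Elements of `N_T(P)` inducing the same automorphism differ by elements of `P`. -/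
theorem inv_mul_mem_of_conjMon (hc : centralizerIn T P ≤ P) {x y : Ω}
    (hx : x ∈ normalizerIn T P) (hy : y ∈ normalizerIn T P)
    (h : conjMon T P ⟨x, hx⟩ = conjMon T P ⟨y, hy⟩) : x⁻¹ * y ∈ P := by
  refine hc (mem_centralizerIn.2 ⟨T.mul_mem (T.inv_mem hx.1) hy.1, fun r hr => ?_⟩)
  have h1 : x * r * x⁻¹ = y * r * y⁻¹ :=
    congrArg (fun e : MulAut P => ((e ⟨r, hr⟩ : P) : Ω)) h
  calc r * (x⁻¹ * y) = x⁻¹ * (x * r * x⁻¹) * y := by group
    _ = x⁻¹ * (y * r * y⁻¹) * y := by rw [h1]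
    _ = x⁻¹ * y * r := by group

/-- The action of the image of a normalizing element under an extension of `a`. -/
theorem conjMon_map {M : Subgroup Ω} {δ : M →* Ω} (hδT : ∀ x, δ x ∈ T) (hPM : P ≤ M)
    {a : MulAut P} (hδ : ∀ x : P, δ (Subgroup.inclusion hPM x) = ((a x : P) : Ω))
    (g : normalizerIn T P) (hg : (g : Ω) ∈ M) :
    ∃ hm : δ ⟨g, hg⟩ ∈ normalizerIn T P,
      conjMon T P ⟨_, hm⟩ = a * conjMon T P g * a⁻¹ := by
  have key : ∀ y : P, ((((a * conjMon T P g * a⁻¹ : MulAut P) y) : P) : Ω) =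
      δ ⟨g, hg⟩ * (y : Ω) * (δ ⟨g, hg⟩)⁻¹ := by
    intro y
    obtain ⟨x, rfl⟩ := a.surjective y
    rw [MulAut.mul_apply, MulAut.mul_apply, MulAut.inv_apply_self, ← hδ, ← hδ, ← map_inv,
      ← map_mul, ← map_mul]
    exact congrArg δ (Subtype.ext (conjMon_apply g x))
  refine ⟨⟨hδT _, mem_normalizer_of_conj_eq _ key⟩, MulEquiv.ext fun y => Subtype.ext ?_⟩
  rw [key, conjMon_apply]

/-- `a` is the restriction of a generated map defined on the elements inducing `X`. -/
def Real (F : FusionSystem S) (T : Subgroup Ω) (A : ∀ R : Subgroup Ω, Subgroup (MulAut R))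
    {P : Subgroup Ω} (a : MulAut P) (X : Subgroup (MulAut P)) : Prop :=
  ∃ δ : preAutIn T P X →* Ω, GenFam F T A δ ∧
    ∀ (x : P) (hx : (x : Ω) ∈ preAutIn T P X), δ ⟨x, hx⟩ = ((a x : P) : Ω)

namespace AutFamily

variable [Fact p.Prime] [Finite S] (h : AutFamily p F T A)
include h

/-- The image of the elements inducing `X` under a map realizing `a`. -/
theorem real_image (hP : TCentric F T P) {Y : Subgroup (MulAut P)} (hX : X ≤ autInducedBy T P)
    (hPX : Inn P ≤ X) {a : MulAut P} {M : Subgroup Ω} {δ : M →* Ω} (hδ : GenFam F T A δ)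
    (hM : preAutIn T P X ≤ M) (hPM : P ≤ M)
    (hag : ∀ x : P, δ (Subgroup.inclusion hPM x) = ((a x : P) : Ω))
    (hY : X.map (MulAut.conj a).toMonoidHom = Y) :
    (δ.comp (Subgroup.inclusion hM)).range = preAutIn T P Y := by
  refine le_antisymm ?_ fun v hv => ?_
  · rintro _ ⟨g, rfl⟩
    obtain ⟨hm, he⟩ := conjMon_map hδ.le_T.2 hPM hag ⟨g, preAutIn_le g.2⟩ (hM g.2)
    refine (mem_preAutIn (g := ⟨_, hm⟩)).2 ?_
    rw [he, ← hY]
    exact ⟨_, mem_preAutIn.1 g.2, rfl⟩
  · have h1 := (mem_preAutIn (g := ⟨v, preAutIn_le hv⟩)).1 hv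
    obtain ⟨x, hx, hxv⟩ := hY.ge h1
    obtain ⟨g, hg, rfl⟩ := exists_conjMon (M := preAutIn T P X)
      (preAutIn_le.trans (normalizerIn_le P)) ((autInducedBy_preAutIn hX).ge hx)
    obtain ⟨hm, he⟩ := conjMon_map hδ.le_T.2 hPM hag g (hM hg)
    have h2 := inv_mul_mem_of_conjMon (hP.2 P (isConj_refl (hP.le.trans h.tclosed.1))) hm
      (preAutIn_le hv) (he.trans hxv)
    have hrP : P ≤ (δ.comp (Subgroup.inclusion hM)).range := fun y hy =>
      ⟨Subgroup.inclusion (le_preAutIn hP.le hPX) (a⁻¹ ⟨y, hy⟩), by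
        refine (hag (a⁻¹ ⟨y, hy⟩)).trans ?_
        rw [MulAut.apply_inv_self]⟩
    have := Subgroup.mul_mem _ (show δ ⟨g, hM hg⟩ ∈ (δ.comp (Subgroup.inclusion hM)).range from
      ⟨⟨g, hg⟩, rfl⟩) (hrP h2)
    rwa [mul_inv_cancel_left] at this

/-- Automorphisms normalizing a fully normalized `V` are realized on its preimage. -/
theorem real_normalizing (hP : TCentric F T P) (hn : F.IsFullyNormalized P)
    {V : Subgroup (MulAut P)} (hV : V ≤ autInducedBy T P) (hPV : Inn P ≤ V)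
    (hs : IsSylowIn p (autInducedBy T P ⊓ Subgroup.normalizer (V : Set (MulAut P)))
      (A P ⊓ Subgroup.normalizer (V : Set (MulAut P)))) {m : MulAut P}
    (hm : m ∈ A P ⊓ Subgroup.normalizer (V : Set (MulAut P))) : Real F T A m V := by
  have hPT := hP.le
  have := finite_mulAut_of_le (S := S) hn.1
  have hW := preAutIn_le (T := T) (X := V)
  have hPW : P ≤ preAutIn T P V := le_preAutIn hPT hPV
  have hWT : preAutIn T P V ≤ T := hW.trans (normalizerIn_le P)
  have := finite_le (hWT.trans h.tclosed.1)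
  let G : Subgroup (MulAut P) :=
    { carrier := {m | m ∈ A P ⊓ Subgroup.normalizer (V : Set (MulAut P)) ∧ Real F T A m V}
      one_mem' := ⟨one_mem _, _, GenFam.incl (Subgroup.subtype _) hWT fun _ => rfl,
        fun x hx => rfl⟩
      mul_mem' := by
        rintro a b ⟨ha, δ, hδ, hδv⟩ ⟨hb, η, hη, hηv⟩
        have hr := h.real_image hP hV hPV hη le_rfl hPW (fun x => hηv x _)
          (Subgroup.mem_normalizer_iff_map_conj_eq.1 hb.2)
        have hmem : ∀ x, η x ∈ preAutIn T P V := fun x => hr.le ⟨x, rfl⟩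
        refine ⟨mul_mem ha hb, δ.comp (η.codRestrict _ hmem),
          GenFam.comp hδ hη hmem fun _ => rfl, fun x hx => ?_⟩
        rw [MulAut.mul_apply, ← hδv (b x) (hPW (b x).2)]
        exact congrArg δ (Subtype.ext (hηv x hx))
      inv_mem' := by
        rintro a ⟨ha, δ, hδ, hδv⟩
        obtain ⟨θ, hθ, hθv⟩ := hδ.inv
        have hr := h.real_image hP hV hPV hδ le_rfl hPW (fun x => hδv x _)
          (Subgroup.mem_normalizer_iff_map_conj_eq.1 ha.2)
        have hle : preAutIn T P V ≤ δ.range := fun v hv => by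
          obtain ⟨w, hw⟩ := hr.ge hv
          exact ⟨_, hw⟩
        refine ⟨Subgroup.inv_mem _ ha, θ.comp (Subgroup.inclusion hle),
          hθ.restrict hle fun _ => rfl, fun x hx => ?_⟩
        refine Eq.trans ?_ (hθv ⟨_, hPW (a⁻¹ x).2⟩)
        refine congrArg θ (Subtype.ext ?_)
        show (x : Ω) = δ _
        rw [hδv, MulAut.apply_inv_self] }
  refine (le_of_sylow_of_coprime (H := G) hs (fun c hc => ?_) (fun b hb hord => ?_) hm).2
  · obtain ⟨g, -, rfl⟩ := exists_conjMon le_rfl hc.1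
    refine ⟨⟨h.induced hP hc.1, hc.2⟩, conjHom _ (g : Ω), h.conjT hWT g.2.1, fun x hx => ?_⟩
    exact (conjMon_apply g x).symm
  · obtain ⟨n, hn1, hnp⟩ := hord
    obtain ⟨α, hα, hαv⟩ := h.up hP hn hPW hW b hb.1
      (Nat.Coprime.coprime_dvd_left (orderOf_dvd_of_pow_eq_one hn1) hnp) fun c hc => by
        rw [autInducedBy_preAutIn hV] at hc ⊢
        exact (Subgroup.mem_normalizer_iff.1 hb.2 c).1 hc
    exact ⟨hb, _, GenFam.ofAut (hP.mono hPW hWT) hα, fun x hx => hαv x⟩

/-- An element of `A(P)` carrying `X` into `Aut_T(P)` is realized on the preimage of `X`. -/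
theorem realize (hP : TCentric F T P) (hn : F.IsFullyNormalized P) : ∀ (k : ℕ)
    (X : Subgroup (MulAut P)), Nat.card (autInducedBy T P) - Nat.card X ≤ k → Inn P ≤ X →
    X ≤ autInducedBy T P → ∀ a ∈ A P, (∀ x ∈ X, a * x * a⁻¹ ∈ autInducedBy T P) →
      Real F T A a X := by
  classical
  intro k
  induction k using Nat.strong_induction_on with
  | _ k ih =>
    intro X hk hPX hX a ha haX
    have hPT := hP.le
    have := finite_mulAut_of_le (S := S) hn.1
    have hTp : IsPGroup p (autInducedBy T P) :=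
      isPGroup_autInducedBy (h.pgroup.to_le h.tclosed.1)
    have hTA := h.induced hP
    have hs := h.sylow hP hn
    rcases eq_or_lt_of_le hX with rfl | hlt
    · refine h.real_normalizing hP hn le_rfl hPX ?_ ⟨ha, ?_⟩
      · rw [inf_eq_left.2 Subgroup.le_normalizer]
        exact IsSylowIn.of_le hs hTA inf_le_left (le_inf hTA Subgroup.le_normalizer)
      · refine mem_normalizer_of_map_eq (Subgroup.eq_of_le_of_card_ge ?_ ?_)
        · rintro _ ⟨x, hx, rfl⟩
          exact haX x hx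
        · exact (Subgroup.card_map_of_injective (MulAut.conj a).injective).ge
    have hYX : ∀ g : MulAut P, Nat.card (X.map (MulAut.conj g).toMonoidHom) = Nat.card X := fun g =>
      Subgroup.card_map_of_injective (MulAut.conj g).injective
    have hup : ∀ Y : Subgroup (MulAut P), Nat.card Y = Nat.card X → Inn P ≤ Y →
        Y ≤ autInducedBy T P → ∀ b ∈ A P,
        (∀ x ∈ autInducedBy T P ⊓ Subgroup.normalizer (Y : Set (MulAut P)),
          b * x * b⁻¹ ∈ autInducedBy T P) →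
        Real F T A b (autInducedBy T P ⊓ Subgroup.normalizer (Y : Set (MulAut P))) := by
      intro Y hY hPY hYT b hb hbY
      have hlt' : Y < autInducedBy T P := lt_of_le_of_ne hYT fun e => hlt.ne
        (Subgroup.eq_of_le_of_card_ge hX (by rw [← hY, e]))
      have h1 : Y < autInducedBy T P ⊓ Subgroup.normalizer (Y : Set (MulAut P)) :=
        lt_normalizerIn hTp hlt'
      have h2 : Nat.card X < Nat.card
          ↥(autInducedBy T P ⊓ Subgroup.normalizer (Y : Set (MulAut P))) := by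
        rw [← hY]
        exact lt_of_le_of_ne (Subgroup.card_le_of_le h1.le) fun e =>
          h1.ne (Subgroup.eq_of_le_of_card_ge h1.le e.ge)
      have h3 := Subgroup.card_le_of_le (inf_le_left :
        autInducedBy T P ⊓ Subgroup.normalizer (Y : Set (MulAut P)) ≤ autInducedBy T P)
      exact ih _ (by omega) _ le_rfl (hPY.trans h1.le) inf_le_left b hb hbY
    -- move a Sylow subgroup of the normalizer into `Aut_T(P)`
    set KX := A P ⊓ Subgroup.normalizer (X : Set (MulAut P)) with hKX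
    obtain ⟨Q, hQge, hQle, hQp, hQs⟩ := exists_isSylowIn_ge (p := p) (K := KX)
      (X := autInducedBy T P ⊓ Subgroup.normalizer (X : Set (MulAut P)))
      (inf_le_inf_right _ hTA) (hTp.to_le inf_le_left)
    obtain ⟨c, hc, hcQ⟩ := IsSylowIn.exists_conj_mem hs (hQle.trans inf_le_left) hQp
    have hXQ : X ≤ Q := (le_inf hX Subgroup.le_normalizer).trans hQge
    set V := X.map (MulAut.conj c).toMonoidHom with hVdef
    have hVT : V ≤ autInducedBy T P := by
      rintro _ ⟨x, hx, rfl⟩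
      exact hcQ x (hXQ hx)
    have hPV : Inn P ≤ V := inn_conj_le c hPX
    set KV := A P ⊓ Subgroup.normalizer (V : Set (MulAut P)) with hKV
    have hmap : ∀ {g : MulAut P} {Y Z : Subgroup (MulAut P)}, g ∈ A P →
        Y.map (MulAut.conj g).toMonoidHom = Z →
        ∀ y ∈ A P ⊓ Subgroup.normalizer (Y : Set (MulAut P)),
          g * y * g⁻¹ ∈ A P ⊓ Subgroup.normalizer (Z : Set (MulAut P)) := by
      intro g Y Z hg hYZ y hy
      refine ⟨mul_mem (mul_mem hg hy.1) ((A P).inv_mem hg), Subgroup.mem_normalizer_iff_map_conj_eq.2 ?_⟩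
      rw [← hYZ]
      conv_rhs => rw [← Subgroup.mem_normalizer_iff_map_conj_eq.1 hy.2]
      rw [Subgroup.map_map, Subgroup.map_map]
      congr 1
      ext1 z
      simp [mul_assoc]
    have hcV : ∀ x ∈ Q, c * x * c⁻¹ ∈ autInducedBy T P ⊓ Subgroup.normalizer (V : Set (MulAut P)) :=
      fun x hx => ⟨hcQ x hx, (hmap hc rfl x (hQle hx)).2⟩
    have hVs : IsSylowIn p (autInducedBy T P ⊓ Subgroup.normalizer (V : Set (MulAut P))) KV := by
      obtain ⟨Q', hQ'ge, hQ'le, hQ'p, hQ's⟩ := exists_isSylowIn_ge (p := p) (K := KV)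
        (X := autInducedBy T P ⊓ Subgroup.normalizer (V : Set (MulAut P)))
        (inf_le_inf_right _ hTA) (hTp.to_le inf_le_left)
      have hback : Q'.map (MulAut.conj c⁻¹).toMonoidHom ≤ KX := by
        rintro _ ⟨y, hy, rfl⟩
        refine hmap ((A P).inv_mem hc) ?_ y (hQ'le hy)
        rw [hVdef, Subgroup.map_map]
        convert Subgroup.map_id X
        ext1 z
        simp [mul_assoc]
      obtain ⟨k', -, hk'⟩ := IsSylowIn.exists_conj_mem hQs hback (hQ'p.map _)
      have e : Q' = autInducedBy T P ⊓ Subgroup.normalizer (V : Set (MulAut P)) := by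
        refine (Subgroup.eq_of_le_of_card_ge hQ'ge ?_).symm
        refine Nat.card_le_card_of_injective (fun y : Q' =>
          (⟨c * (k' * (c⁻¹ * (y : MulAut P) * c) * k'⁻¹) * c⁻¹, hcV _ (by
            have h1 := hk' _ ⟨y, y.2, rfl⟩
            simpa [mul_assoc] using h1)⟩ :
          ↥(autInducedBy T P ⊓ Subgroup.normalizer (V : Set (MulAut P))))) fun y z hyz => ?_
        refine Subtype.ext ?_
        simpa [mul_assoc] using congrArg Subtype.val hyz
      exact e ▸ hQ's
    -- the same for the image of `X`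
    set Y := X.map (MulAut.conj a).toMonoidHom with hYdef
    have hYT : Y ≤ autInducedBy T P := by
      rintro _ ⟨x, hx, rfl⟩
      exact haX x hx
    have hPY : Inn P ≤ Y := inn_conj_le a hPX
    set g := c * a⁻¹ with hgdef
    have hgA : g ∈ A P := mul_mem hc ((A P).inv_mem ha)
    have hgY : Y.map (MulAut.conj g).toMonoidHom = V := by
      rw [hYdef, hVdef, Subgroup.map_map]
      congr 1
      ext1 z
      simp [hgdef, mul_assoc]
    obtain ⟨Q₂, hQ₂ge, hQ₂le, hQ₂p, -⟩ := exists_isSylowIn_ge (p := p)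
      (K := A P ⊓ Subgroup.normalizer (Y : Set (MulAut P)))
      (X := autInducedBy T P ⊓ Subgroup.normalizer (Y : Set (MulAut P)))
      (inf_le_inf_right _ hTA) (hTp.to_le inf_le_left)
    obtain ⟨m, hm, hmv⟩ := IsSylowIn.exists_conj_mem hVs
      (X := Q₂.map (MulAut.conj g).toMonoidHom) (by
        rintro _ ⟨y, hy, rfl⟩
        exact hmap hgA hgY y (hQ₂le hy)) (hQ₂p.map _)
    set c' := m * g with hc'def
    have hc'A : c' ∈ A P := mul_mem hm.1 hgA
    have hc'Y : Y.map (MulAut.conj c').toMonoidHom = V := by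
      rw [hc'def, map_mul]
      conv_rhs => rw [← Subgroup.mem_normalizer_iff_map_conj_eq.1 hm.2, ← hgY, Subgroup.map_map]
      congr 1
    -- the three maps
    obtain ⟨δ, hδ, hδv⟩ := hup X rfl hPX hX c hc fun x hx => hcQ x (hQge hx)
    obtain ⟨δ', hδ', hδ'v⟩ := hup Y (hYX a) hPY hYT c' hc'A fun y hy => by
      have := (hmv _ ⟨y, hQ₂ge hy, rfl⟩).1
      simpa [hc'def, mul_assoc] using this
    obtain ⟨μ, hμ, hμv⟩ := h.real_normalizing hP hn hVT hPV hVs hm
    have hmono : ∀ {X₁ X₂ : Subgroup (MulAut P)}, X₁ ≤ X₂ → preAutIn T P X₁ ≤ preAutIn T P X₂ :=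
      fun h => Subgroup.map_mono (Subgroup.comap_mono h)
    have hPW : P ≤ preAutIn T P X := le_preAutIn hPT hPX
    have hW₁ := hmono (le_inf hX Subgroup.le_normalizer :
      X ≤ autInducedBy T P ⊓ Subgroup.normalizer (X : Set (MulAut P)))
    have hW₂ := hmono (le_inf hYT Subgroup.le_normalizer :
      Y ≤ autInducedBy T P ⊓ Subgroup.normalizer (Y : Set (MulAut P)))
    have hPW₂ : P ≤ preAutIn T P Y := le_preAutIn hPT hPY
    have hr₁ := h.real_image hP hX hPX hδ hW₁ (hPW.trans hW₁) (fun x => hδv x _) hVdef.symm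
    have hr₂ := h.real_image hP hYT hPY hδ' hW₂ (hPW₂.trans hW₂) (fun x => hδ'v x _) hc'Y
    have hPV' : P ≤ preAutIn T P V := le_preAutIn hPT hPV
    have hr₃ := h.real_image hP hVT hPV hμ le_rfl hPV' (fun x => hμv x _)
      (Subgroup.mem_normalizer_iff_map_conj_eq.1 hm.2)
    obtain ⟨θ, hθ, hθv⟩ := (hδ'.restrict hW₂ (χ := δ'.comp (Subgroup.inclusion hW₂))
      fun _ => rfl).inv
    have hmem₁ : ∀ x, (δ.comp (Subgroup.inclusion hW₁)) x ∈ preAutIn T P V := fun x =>
      hr₁.le ⟨x, rfl⟩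
    have hmem₂ : ∀ x, μ x ∈ (δ'.comp (Subgroup.inclusion hW₂)).range := fun x =>
      hr₂.ge (hr₃.le ⟨x, rfl⟩)
    have hμθ := GenFam.comp hθ hμ hmem₂ (χ := θ.comp (μ.codRestrict _ hmem₂)) fun _ => rfl
    refine ⟨(θ.comp (μ.codRestrict _ hmem₂)).comp
        ((δ.comp (Subgroup.inclusion hW₁)).codRestrict _ hmem₁),
      GenFam.comp hμθ (hδ.restrict hW₁ fun _ => rfl) hmem₁ fun _ => rfl, fun x hx => ?_⟩
    have e : a = c'⁻¹ * m * c := by rw [hc'def, hgdef]; group
    refine Eq.trans ?_ (hθv ⟨_, hPW₂ (a x).2⟩)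
    refine congrArg θ (Subtype.ext ?_)
    show μ ⟨δ ⟨x, _⟩, _⟩ = δ' ⟨(a x : P), _⟩
    rw [hδ'v, show c' (a x) = m (c x) by
      rw [e, ← MulAut.mul_apply, ← MulAut.mul_apply]; congr 1; group, ← hμv (c x) (hPV' (c x).2)]
    exact congrArg μ (Subtype.ext (hδv x _))

/-- An element of `A(P)` carrying `Aut_M(P)` into `Aut_T(P)` extends to `M`. -/
theorem realize_on (hP : TCentric F T P) (hn : F.IsFullyNormalized P) {M : Subgroup Ω}
    (hPM : P ≤ M) (hM : M ≤ normalizerIn T P) {a : MulAut P} (ha : a ∈ A P)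
    (h' : ∀ c ∈ autInducedBy M P, a * c * a⁻¹ ∈ autInducedBy T P) :
    ∃ δ : M →* Ω, GenFam F T A δ ∧
      ∀ x : P, δ (Subgroup.inclusion hPM x) = ((a x : P) : Ω) := by
  obtain ⟨δ, hδ, hδv⟩ := h.realize hP hn _ (autInducedBy M P) le_rfl (inn_le_autInducedBy hPM)
    (autInducedBy_mono (hM.trans (normalizerIn_le P))) a ha h'
  exact ⟨δ.comp (Subgroup.inclusion (le_preAutIn_induced hM)),
    hδ.restrict (le_preAutIn_induced hM) fun _ => rfl, fun x => hδv x _⟩

end AutFamily

end CfsgLib.Fusion.Family
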