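import Cfsg.Agent.Lib.Fusion.Series
import Cfsg.Prelude.Def_FusionComponents

/-!
# Product systems and factor systems
-/

set_option autoImplicit false

namespace CfsgLib.Fusion

open Cfsg Cfsg.FusionSystem

variable {Ω₁ Ω₂ : Type*} [Group Ω₁] [Group Ω₂] {S₁ : Subgroup Ω₁} {S₂ : Subgroup Ω₂}

abbrev projL (P : Subgroup (Ω₁ × Ω₂)) : Subgroup Ω₁ := P.map (MonoidHom.fst Ω₁ Ω₂)

abbrev projR (P : Subgroup (Ω₁ × Ω₂)) : Subgroup Ω₂ := P.map (MonoidHom.snd Ω₁ Ω₂)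

def toProjL (P : Subgroup (Ω₁ × Ω₂)) : P →* projL P :=
  ((MonoidHom.fst Ω₁ Ω₂).comp P.subtype).codRestrict _ fun x => ⟨x, x.2, rfl⟩

def toProjR (P : Subgroup (Ω₁ × Ω₂)) : P →* projR P :=
  ((MonoidHom.snd Ω₁ Ω₂).comp P.subtype).codRestrict _ fun x => ⟨x, x.2, rfl⟩

/-- The homomorphism on `P` with the given components. -/
def pairHom {P : Subgroup (Ω₁ × Ω₂)} (a : projL P →* Ω₁) (b : projR P →* Ω₂) : P →* Ω₁ × Ω₂ :=
  (a.comp (toProjL P)).prod (b.comp (toProjR P))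

theorem pairHom_apply {P : Subgroup (Ω₁ × Ω₂)} (a : projL P →* Ω₁) (b : projR P →* Ω₂) (x : P) :
    pairHom a b x = (a (toProjL P x), b (toProjR P x)) := rfl

theorem projL_range {P : Subgroup (Ω₁ × Ω₂)} (a : projL P →* Ω₁) (b : projR P →* Ω₂) :
    projL (pairHom a b).range = a.range := by
  ext y
  constructor
  · rintro ⟨_, ⟨x, rfl⟩, rfl⟩
    exact ⟨toProjL P x, rfl⟩
  · rintro ⟨⟨_, x, hx, rfl⟩, rfl⟩
    exact ⟨_, ⟨⟨x, hx⟩, rfl⟩, rfl⟩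

theorem projR_range {P : Subgroup (Ω₁ × Ω₂)} (a : projL P →* Ω₁) (b : projR P →* Ω₂) :
    projR (pairHom a b).range = b.range := by
  ext y
  constructor
  · rintro ⟨_, ⟨x, rfl⟩, rfl⟩
    exact ⟨toProjR P x, rfl⟩
  · rintro ⟨⟨_, x, hx, rfl⟩, rfl⟩
    exact ⟨_, ⟨⟨x, hx⟩, rfl⟩, rfl⟩

/-- The direct product of two fusion systems. -/
def prodSystem (F₁ : FusionSystem S₁) (F₂ : FusionSystem S₂) : FusionSystem (S₁.prod S₂) where
  Hom P := {φ | P ≤ S₁.prod S₂ ∧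
    ∃ a ∈ F₁.Hom (projL P), ∃ b ∈ F₂.Hom (projR P), φ = pairHom a b}
  le_of_mem := by
    rintro P _ ⟨hP, a, ha, b, hb, rfl⟩
    exact ⟨hP, fun x => ⟨hom_apply_mem ha _, hom_apply_mem hb _⟩⟩
  injective_of_mem := by
    rintro P _ ⟨hP, a, ha, b, hb, rfl⟩ x y h
    exact Subtype.ext (Prod.ext
      (congrArg Subtype.val (F₁.injective_of_mem ha (congrArg Prod.fst h) : toProjL P x = toProjL P y))
      (congrArg Subtype.val (F₂.injective_of_mem hb (congrArg Prod.snd h) : toProjR P x = toProjR P y)))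
  conj_mem := by
    intro P g hP hg
    refine ⟨hP, conjHom _ g.1, F₁.conj_mem ?_ hg.1, conjHom _ g.2, F₂.conj_mem ?_ hg.2, rfl⟩
    · rintro _ ⟨x, hx, rfl⟩; exact (hP hx).1
    · rintro _ ⟨x, hx, rfl⟩; exact (hP hx).2
  comp_mem := by
    rintro P Q _ _ ⟨hP, a, ha, b, hb, rfl⟩ ⟨hQ, c, hc, d, hd, rfl⟩ h
    have h₁ : ∀ y, a y ∈ projL Q := by
      rintro ⟨_, x, hx, rfl⟩
      exact ⟨_, h ⟨x, hx⟩, rfl⟩
    have h₂ : ∀ y, b y ∈ projR Q := by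
      rintro ⟨_, x, hx, rfl⟩
      exact ⟨_, h ⟨x, hx⟩, rfl⟩
    exact ⟨hP, _, F₁.comp_mem ha hc h₁, _, F₂.comp_mem hb hd h₂, rfl⟩
  inv_mem := by
    rintro P _ ⟨hP, a, ha, b, hb, rfl⟩
    obtain ⟨c, hc, -, hcv, -⟩ := exists_inv ha (projL_range a b).symm
    obtain ⟨d, hd, -, hdv, -⟩ := exists_inv hb (projR_range a b).symm
    refine ⟨pairHom c d, ⟨?_, c, hc, d, hd, rfl⟩, fun x => ?_⟩
    · rintro _ ⟨x, rfl⟩
      exact ⟨hom_apply_mem ha _, hom_apply_mem hb _⟩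
    · exact Prod.ext (hcv (toProjL P x) _) (hdv (toProjR P x) _)

theorem prodSystem_isProductSystem (F₁ : FusionSystem S₁) (F₂ : FusionSystem S₂) :
    FusionSystem.IsProductSystem F₁ F₂ (prodSystem F₁ F₂) := by
  intro P φ
  refine and_congr_right fun _ => ?_
  constructor
  · rintro ⟨a, ha, b, hb, rfl⟩
    exact ⟨a, ha, b, hb, fun x _ _ => rfl⟩
  · rintro ⟨a, ha, b, hb, h⟩
    exact ⟨a, ha, b, hb, MonoidHom.ext fun x => h x ⟨x, x.2, rfl⟩ ⟨x, x.2, rfl⟩⟩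

/-! ### Factor systems -/

variable {Ω Ω' : Type*} [Group Ω] [Group Ω'] {S : Subgroup Ω} {F : FusionSystem S}

theorem preimageAlong_le (θ : S →* Ω') (P' : Subgroup Ω') : preimageAlong θ P' ≤ S :=
  Subgroup.map_subtype_le _

theorem mem_preimageAlong {θ : S →* Ω'} {P' : Subgroup Ω'} {x : S} :
    (x : Ω) ∈ preimageAlong θ P' ↔ θ x ∈ P' :=
  ⟨fun ⟨_, hy, h⟩ => Subtype.ext h ▸ hy, fun h => ⟨x, h, rfl⟩⟩

theorem ker_le_preimageAlong {θ : S →* Ω'} {S₀ : Subgroup Ω} (hS₀ : S₀ ≤ S)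
    (hθ : ∀ s : S, θ s = 1 ↔ (s : Ω) ∈ S₀) (P' : Subgroup Ω') : S₀ ≤ preimageAlong θ P' :=
  fun x hx => ⟨⟨x, hS₀ hx⟩, show θ _ ∈ P' by rw [(hθ ⟨x, hS₀ hx⟩).2 hx]; exact P'.one_mem, rfl⟩

/-- The preimage of a point of `P' ≤ θ(S)`. -/
theorem exists_preimage {θ : S →* Ω'} {P' : Subgroup Ω'} (hP' : P' ≤ θ.range) (y : P') :
    ∃ x : preimageAlong θ P', θ ⟨x, preimageAlong_le θ P' x.2⟩ = y := by
  obtain ⟨s, hs⟩ := hP' y.2
  exact ⟨⟨s, mem_preimageAlong.2 (hs.symm ▸ y.2)⟩, hs⟩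

/-- The factor system modulo a strongly closed subgroup, read through `θ`. -/
def factorSystem (F : FusionSystem S) {S₀ : Subgroup Ω} [Finite S] (hS₀ : F.StronglyClosed S₀)
    (θ : S →* Ω') (hθ : ∀ s : S, θ s = 1 ↔ (s : Ω) ∈ S₀) {S' : Subgroup Ω'} (hS' : θ.range = S') :
    FusionSystem S' where
  Hom P' := {φ' | P' ≤ S' ∧ ∃ φ ∈ F.Hom (preimageAlong θ P'), InducedAlong θ φ φ'}
  le_of_mem := by
    rintro P' φ' ⟨hP', φ, hφ, hP, hφS, hmem, h⟩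
    refine ⟨hP', fun y => ?_⟩
    obtain ⟨x, hx⟩ := exists_preimage (hS'.symm ▸ hP') y
    rw [show y = ⟨_, hmem x⟩ from Subtype.ext hx.symm, h x, ← hS']
    exact ⟨_, rfl⟩
  injective_of_mem := by
    rintro P' φ' ⟨hP', φ, hφ, hP, hφS, hmem, h⟩
    refine (injective_iff_map_eq_one φ').2 fun y hy => ?_
    obtain ⟨x, hx⟩ := exists_preimage (hS'.symm ▸ hP') y
    rw [show y = ⟨_, hmem x⟩ from Subtype.ext hx.symm, h x, hθ] at hy
    have hle := ker_le_preimageAlong hS₀.1 hθ P'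
    have hr := (StronglyClosed.weaklyClosed hS₀).2 _ (restrict_mem hφ hle)
    obtain ⟨z, hz⟩ := hr.ge hy
    have : (x : Ω) ∈ S₀ := by
      rw [← F.injective_of_mem hφ (hz : φ (Subgroup.inclusion hle z) = φ x)]
      exact z.2
    exact Subtype.ext (hx.symm.trans ((hθ _).2 this))
  conj_mem := by
    intro P' g hP' hg
    obtain ⟨s, rfl⟩ := hS'.symm.le hg
    refine ⟨hP', conjHom _ (s : Ω), F.conj_mem (preimageAlong_le θ P') s.2, preimageAlong_le θ P',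
      fun x => hom_apply_mem (F.conj_mem (preimageAlong_le θ P') s.2) x,
      fun x => mem_preimageAlong.1 x.2, fun x => ?_⟩
    exact (by simp [map_mul, map_inv] :
      θ s * θ ⟨x, preimageAlong_le θ P' x.2⟩ * (θ s)⁻¹ =
        θ (s * ⟨x, preimageAlong_le θ P' x.2⟩ * s⁻¹))
  comp_mem := by
    rintro P' Q' φ' ψ' ⟨hP', φ, hφ, hP, hφS, hmem, h⟩ ⟨-, ψ, hψ, hQ, hψS, hmemQ, k⟩ hPQ
    have hm : ∀ x, φ x ∈ preimageAlong θ Q' := fun x =>
      (mem_preimageAlong (x := ⟨φ x, hφS x⟩)).2 (h x ▸ hPQ _)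
    refine ⟨hP', _, F.comp_mem hφ hψ hm, hP, fun x => hψS _, hmem, fun x => ?_⟩
    exact (congrArg ψ' (Subtype.ext (h x) : (⟨φ' ⟨_, hmem x⟩, hPQ _⟩ : Q') = ⟨_, hmemQ ⟨φ x, hm x⟩⟩)).trans
      (k ⟨φ x, hm x⟩)
  inv_mem := by
    rintro P' φ' ⟨hP', φ, hφ, hP, hφS, hmem, h⟩
    have hinj : Function.Injective φ' := by
      refine (injective_iff_map_eq_one φ').2 fun y hy => ?_
      obtain ⟨x, hx⟩ := exists_preimage (hS'.symm ▸ hP') y
      rw [show y = ⟨_, hmem x⟩ from Subtype.ext hx.symm, h x, hθ] at hy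
      have hle := ker_le_preimageAlong hS₀.1 hθ P'
      have hr := (StronglyClosed.weaklyClosed hS₀).2 _ (restrict_mem hφ hle)
      obtain ⟨z, hz⟩ := hr.ge hy
      have : (x : Ω) ∈ S₀ := by
        rw [← F.injective_of_mem hφ (hz : φ (Subgroup.inclusion hle z) = φ x)]
        exact z.2
      exact Subtype.ext (hx.symm.trans ((hθ _).2 this))
    have hrange : φ.range = preimageAlong θ φ'.range := by
      apply le_antisymm
      · rintro _ ⟨x, rfl⟩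
        exact (mem_preimageAlong (x := ⟨φ x, hφS x⟩)).2 ⟨_, h x⟩
      · rintro _ ⟨s, ⟨y, hy⟩, rfl⟩
        obtain ⟨x, hx⟩ := exists_preimage (hS'.symm ▸ hP') y
        rw [show y = ⟨_, hmem x⟩ from Subtype.ext hx.symm, h x] at hy
        have hz : ((⟨φ x, hφS x⟩ : S)⁻¹ * s : S).1 ∈ S₀ := by
          rw [← hθ, map_mul, map_inv, hy, inv_mul_cancel]
        obtain ⟨z, hz'⟩ := ((StronglyClosed.weaklyClosed hS₀).2 _
          (restrict_mem hφ (ker_le_preimageAlong hS₀.1 hθ P'))).ge hz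
        refine ⟨x * Subgroup.inclusion (ker_le_preimageAlong hS₀.1 hθ P') z, ?_⟩
        rw [map_mul]
        exact (congrArg (φ x * ·) hz').trans (mul_inv_cancel_left (φ x) (s : Ω))
    obtain ⟨ψ, hψ, hψr, hψl, hψv⟩ := exists_inv hφ hrange
    let e := MonoidHom.ofInjective hinj
    refine ⟨P'.subtype.comp e.symm.toMonoidHom, ⟨?_, ψ, hψ, preimageAlong_le θ _, hom_apply_mem hψ,
      fun y => mem_preimageAlong.1 y.2, fun y => ?_⟩, fun x => ?_⟩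
    · rintro _ ⟨y, rfl⟩
      obtain ⟨x, hx⟩ := exists_preimage (hS'.symm ▸ hP') y
      rw [show y = ⟨_, hmem x⟩ from Subtype.ext hx.symm, h x, ← hS']
      exact ⟨_, rfl⟩
    · obtain ⟨hy, hy'⟩ := hψv y
      have hgoal : e ⟨_, hmem ⟨ψ y, hy⟩⟩ = ⟨_, mem_preimageAlong.1 y.2⟩ :=
        Subtype.ext ((h ⟨ψ y, hy⟩).trans (congrArg θ (Subtype.ext hy' : (⟨φ ⟨ψ y, hy⟩, hφS _⟩ : S) = ⟨(y : Ω), preimageAlong_le θ _ y.2⟩)))
      show ((e.symm ⟨_, mem_preimageAlong.1 y.2⟩ : P') : Ω') = _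
      rw [← hgoal, MulEquiv.symm_apply_apply]
    · exact congrArg Subtype.val (e.symm_apply_apply x)

end CfsgLib.Fusion
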