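import Cfsg.Agent.Lib.Fusion.ComponentCentralizes
import Cfsg.Agent.Lib.Fusion.Product
import Cfsg.Agent.Lib.Fusion.Subnormal
import Cfsg.Prelude.Def_FusionFitting

/-!
# The generalized Fitting subsystem is self-centralizing
-/

set_option autoImplicit false

namespace CfsgLib.Fusion

open Cfsg Cfsg.FusionSystem

variable {Ω : Type*} [Group Ω] {S T U Q : Subgroup Ω} {F : FusionSystem S} {E : FusionSystem T}
  {D : FusionSystem U} {p : ℕ}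

/-- The data of a central product with an inner system as first factor. -/
theorem centralProduct_inner_data [Finite Q] [Finite T]
    (hc : IsCentralProductOf (innerFusionSystem Q) E D) :
    (Q ≤ U ∧ T ≤ U ∧ ∀ P : Subgroup Ω, E.Hom P ⊆ D.Hom P) ∧
    (∀ (P : Subgroup Ω) (φ : P →* Ω), φ ∈ D.Hom P → ∃ (R : Subgroup Ω) (g : Ω) (φ₂ : R →* Ω),
      g ∈ Q ∧ φ₂ ∈ E.Hom R ∧
      (∀ u : P, ∃ x ∈ Q, ∃ y : R, (u : Ω) = x * y) ∧
      (∀ x ∈ Q, ∀ y ∈ T, x * y ∈ P → y ∈ R) ∧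
      ∀ (u : P) (x : Ω), x ∈ Q → ∀ y : R, (u : Ω) = x * y → φ u = g * x * g⁻¹ * φ₂ y) ∧
    (∀ (P R : Subgroup Ω) (φ : P →* Ω) (g : Ω) (φ₂ : R →* Ω), P ≤ U → g ∈ Q → φ₂ ∈ E.Hom R →
      (∀ x ∈ Q, ∀ y ∈ T, x * y ∈ P → y ∈ R) →
      (∀ (u : P) (x : Ω), x ∈ Q → ∀ y : R, (u : Ω) = x * y → φ u = g * x * g⁻¹ * φ₂ y) →
      φ ∈ D.Hom P) := by
  obtain ⟨D₀, hD₀, Z, θ, hZc, -, -, hθ1, hθ2, -, hker, hrange, hiff⟩ := hc
  have hθ : ∀ w : Q.prod T, θ w = (w : Ω × Ω).1 * (w : Ω × Ω).2 := by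
    rintro ⟨⟨x, y⟩, hx, hy⟩
    have h1 : ((x, 1) : Ω × Ω) ∈ Q.prod T := ⟨hx, T.one_mem⟩
    have h2 : ((1, y) : Ω × Ω) ∈ Q.prod T := ⟨Q.one_mem, hy⟩
    rw [show (⟨(x, y), hx, hy⟩ : Q.prod T) = ⟨(x, 1), h1⟩ * ⟨(1, y), h2⟩ from
      Subtype.ext (Prod.ext (mul_one x).symm (one_mul y).symm), map_mul, hθ1, hθ2]
    exact congrArg₂ (· * ·) (mul_one x).symm (one_mul y).symm
  have hQU : Q ≤ U := fun x hx => hrange.le ⟨⟨(x, 1), hx, T.one_mem⟩, hθ1 _ _⟩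
  have hTU : T ≤ U := fun y hy => hrange.le ⟨⟨(1, y), Q.one_mem, hy⟩, hθ2 _ _⟩
  have hdec : ∀ u ∈ U, ∃ x ∈ Q, ∃ y ∈ T, u = x * y := by
    intro u hu
    obtain ⟨⟨⟨x, y⟩, hx, hy⟩, h⟩ := hrange.ge hu
    exact ⟨x, hx, y, hy, h.symm.trans (hθ _)⟩
  have hpre : ∀ {P : Subgroup Ω} {x y : Ω} (hx : x ∈ Q) (hy : y ∈ T),
      x * y ∈ P → (x, y) ∈ preimageAlong θ P := fun {P x y} hx hy h =>
    (mem_preimageAlong (x := (⟨(x, y), hx, hy⟩ : Q.prod T))).2 ((hθ _).symm ▸ h)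
  have hpre' : ∀ {P : Subgroup Ω} {w : Ω × Ω}, w ∈ preimageAlong θ P →
      w.1 * w.2 ∈ P := fun {P w} hw => by
    obtain ⟨v, hv, rfl⟩ := hw
    exact hθ v ▸ hv
  refine ⟨⟨hQU, hTU, fun P φ₂ hφ₂ => ?_⟩, fun P φ hφ => ?_, fun P R φ g φ₂ hP hg hφ₂ hR hv => ?_⟩
  · -- the maps of the second factor
    have hPT := hom_le hφ₂
    set P₀ : Subgroup (Ω × Ω) := (⊥ : Subgroup Ω).prod P with hP₀
    set φ₀ : P₀ →* Ω × Ω := (1 : P₀ →* Ω).prod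
      (φ₂.comp (((MonoidHom.snd Ω Ω).comp P₀.subtype).codRestrict P fun w => w.2.2)) with hφ₀
    have hPR : projR P₀ ≤ P := by rintro _ ⟨w, hw, rfl⟩; exact hw.2
    have hPL : projL P₀ ≤ Q := by
      rintro _ ⟨w, hw, rfl⟩
      rw [show (MonoidHom.fst Ω Ω) w = 1 from Subgroup.mem_bot.1 hw.1]
      exact Q.one_mem
    have hφ₀D : φ₀ ∈ D₀.Hom P₀ := (hD₀ P₀ φ₀).2 ⟨fun w hw => ⟨hPL ⟨w, hw, rfl⟩, hPT hw.2⟩,
      (projL P₀).subtype, incl_mem hPL, _, restrict_mem hφ₂ hPR, fun w h₁ h₂ =>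
        Prod.ext (Subgroup.mem_bot.1 w.2.1).symm rfl⟩
    have hfin : Finite ↥(Q.prod T) := Finite.of_equiv _ (Subgroup.prodEquiv Q T).symm.toEquiv
    obtain ⟨ψ, hψ, hψP, hψZ⟩ := (center_isCentral (F := D₀)).2 P₀ φ₀ hφ₀D
    have hdec₀ : ∀ w : Ω × Ω, w ∈ preimageAlong θ P →
        ((1, w.1 * w.2) : Ω × Ω)⁻¹ * w ∈ Z ∧ ((1, w.1 * w.2) : Ω × Ω) ∈ P₀ := by
      intro w hw
      have h1 : ((1, w.1 * w.2) : Ω × Ω) ∈ P₀ := ⟨Subgroup.one_mem _, hpre' hw⟩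
      have hwm : w ∈ Q.prod T := preimageAlong_le θ P hw
      have h2 : ((1, w.1 * w.2) : Ω × Ω) ∈ Q.prod T := ⟨Q.one_mem, hPT (hpre' hw)⟩
      refine ⟨(hker (⟨_, h2⟩⁻¹ * ⟨w, hwm⟩)).1 ?_, h1⟩
      rw [map_mul, map_inv, hθ, hθ, one_mul, inv_mul_cancel]
    have hle : preimageAlong θ P ≤ P₀ ⊔ D₀.center := fun w hw => by
      rw [← mul_inv_cancel_left ((1, w.1 * w.2) : Ω × Ω) w]
      exact mul_mem (Subgroup.mem_sup_left (hdec₀ w hw).2)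
        (Subgroup.mem_sup_right (hZc (hdec₀ w hw).1))
    have hφ' := restrict_mem hψ hle
    refine (hiff P φ₂).2 ⟨hPT.trans hTU, _, hφ', preimageAlong_le θ P, hom_apply_mem hφ',
      fun w => hθ ⟨_, _⟩ ▸ hpre' w.2, fun w => ?_⟩
    obtain ⟨hz, hp⟩ := hdec₀ w w.2
    set z : D₀.center := ⟨_, hZc hz⟩
    have hψw : (ψ.comp (Subgroup.inclusion hle)) w =
        φ₀ ⟨_, hp⟩ * (z : Ω × Ω) := by
      rw [← hψP, ← hψZ, ← map_mul]
      exact congrArg ψ (Subtype.ext (mul_inv_cancel_left _ _).symm)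
    refine Eq.trans ?_ (hθ _).symm
    show _ = ((ψ.comp (Subgroup.inclusion hle)) w).1 * ((ψ.comp (Subgroup.inclusion hle)) w).2
    rw [hψw]
    have hzz : (z : Ω × Ω).1 * (z : Ω × Ω).2 = 1 := by
      have hzm : (z : Ω × Ω) ∈ Q.prod T := center_le z.2
      exact (hθ ⟨_, hzm⟩).symm.trans ((hker ⟨_, hzm⟩).2 hz)
    have hcomm : ∀ v : T, (z : Ω × Ω).1 * (v : Ω) = v * (z : Ω × Ω).1 := by
      intro v
      have hzm : (z : Ω × Ω) ∈ Q.prod T := center_le z.2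
      have ha : (((z : Ω × Ω).1, 1) : Ω × Ω) ∈ Q.prod T := ⟨hzm.1, T.one_mem⟩
      have hb : ((1, (v : Ω)) : Ω × Ω) ∈ Q.prod T := ⟨Q.one_mem, v.2⟩
      have h1 : θ (⟨_, ha⟩ * ⟨_, hb⟩) = θ (⟨_, hb⟩ * ⟨_, ha⟩) :=
        congrArg θ (Subtype.ext (Prod.ext (by simp) (by simp)))
      rwa [map_mul, map_mul, hθ1, hθ2] at h1
    have h2 := hcomm ⟨φ₂ ⟨_, hp.2⟩, hom_apply_mem hφ₂ _⟩
    show φ₂ ⟨_, _⟩ = 1 * (z : Ω × Ω).1 * (φ₂ ⟨_, hp.2⟩ * (z : Ω × Ω).2)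
    rw [one_mul, ← mul_assoc, h2, mul_assoc, hzz, mul_one]
    exact congrArg φ₂ (Subtype.ext (hθ ⟨_, _⟩))
  · -- the components of a map
    obtain ⟨hP, φ₀, hφ₀, hle, hval, hP', hv⟩ := (hiff P φ).1 hφ
    obtain ⟨-, a, ⟨-, g, hg, hga⟩, b, hb, hab⟩ := (hD₀ _ φ₀).1 hφ₀
    have hR : ∀ x ∈ Q, ∀ y ∈ T, x * y ∈ P → y ∈ projR (preimageAlong θ P) :=
      fun x hx y hy h => ⟨(x, y), hpre hx hy h, rfl⟩
    have hval' : ∀ (u : P) (x : Ω), x ∈ Q → ∀ y : projR (preimageAlong θ P),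
        (u : Ω) = x * y → φ u = g * x * g⁻¹ * b y := by
      intro u x hx y huy
      have hy : (y : Ω) ∈ T := hom_le hb y.2
      have hw : (x, (y : Ω)) ∈ preimageAlong θ P := hpre hx hy (huy ▸ u.2)
      have h1 : φ ⟨_, hP' ⟨_, hw⟩⟩ = (φ₀ ⟨_, hw⟩).1 * (φ₀ ⟨_, hw⟩).2 := (hv _).trans (hθ _)
      rw [hab ⟨_, hw⟩ ⟨_, hw, rfl⟩ ⟨_, hw, rfl⟩, hga] at h1
      refine Eq.trans ?_ h1
      exact congrArg φ (Subtype.ext (huy.trans (hθ ⟨_, preimageAlong_le θ P hw⟩).symm :))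
    refine ⟨projR (preimageAlong θ P), g, b, hg, hb, fun u => ?_, hR, hval'⟩
    obtain ⟨x, hx, y, hy, h⟩ := hdec u (hP u.2)
    exact ⟨x, hx, ⟨y, hR x hx y hy (h ▸ u.2)⟩, h⟩
  · -- a map given by its components
    set P₀ := preimageAlong θ P with hP₀
    have hm : P₀ ≤ Q.prod T := preimageAlong_le θ P
    have hPR : projR P₀ ≤ R := by
      rintro _ ⟨w, hw, rfl⟩
      exact hR w.1 (hm hw).1 w.2 (hm hw).2 (hpre' hw)
    have hPL : projL P₀ ≤ Q := by rintro _ ⟨w, hw, rfl⟩; exact (hm hw).1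
    have hφ₀ : pairHom (conjHom (projL P₀) g) (φ₂.comp (Subgroup.inclusion hPR)) ∈ D₀.Hom P₀ :=
      (hD₀ _ _).2 ⟨hm, _, (innerFusionSystem Q).conj_mem hPL hg, _, restrict_mem hφ₂ hPR,
        fun w h₁ h₂ => rfl⟩
    refine (hiff P φ).2 ⟨hP, _, hφ₀, hm, hom_apply_mem hφ₀,
      fun w => hθ ⟨_, _⟩ ▸ hpre' w.2, fun w => ?_⟩
    refine Eq.trans ?_ (hθ _).symm
    exact hv _ _ (hm w.2).1 ⟨_, hPR ⟨_, w.2, rfl⟩⟩ (hθ _)

/-- The centre of the generalized Fitting subsystem is centralized by it, and is the largest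
such subgroup of `C_S(U)`. -/
theorem fitting_self_centralizing [Fact p.Prime] [Finite S] (hS : IsPGroup p S)
    (hF : F.IsSaturated p) (hD : D.IsGeneralizedFittingOf F p) :
    (D.center ≤ centralizerIn S U ∧ ∀ P : Subgroup Ω, D.Hom P ⊆ F.centralizerHom D.center P) ∧
      ∀ Y : Subgroup Ω, Y ≤ centralizerIn S U →
        (∀ P : Subgroup Ω, D.Hom P ⊆ F.centralizerHom Y P) → Y ≤ D.center := by
  obtain ⟨T, E, hE, hc⟩ := hD
  have hQn : F.IsNormal F.core := core_isNormal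
  have hsub : E.IsSubsystemOf F := hE.1.1.2.2.1
  have hTS : T ≤ S := IsSubsystemOf.le hsub
  have := finite_le hTS
  have := finite_le (core_le (F := F))
  obtain ⟨⟨hQU, hTU, hED⟩, hdata, hmk⟩ := centralProduct_inner_data hc
  have hEQ := layer_centralizes_core hS hF hE
  have hTQ : ∀ t ∈ T, ∀ q ∈ F.core, q * t = t * q := fun t ht q hq =>
    (mem_centralizerIn.1 ((hEQ T (incl_mem le_rfl)).2.1 ht)).2 q hq
  have hUS : U ≤ S := fun u hu => by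
    obtain ⟨R, g, φ₂, hg, hφ₂, hdec, -, -⟩ := hdata U _ (incl_mem le_rfl)
    obtain ⟨x, hx, y, hy⟩ := hdec ⟨u, hu⟩
    rw [show u = x * y from hy]
    exact S.mul_mem (hQn.1 hx) (hTS (hom_le hφ₂ y.2))
  have hDF : D.IsSubsystemOf F := by
    intro P φ hφ
    obtain ⟨R, g, φ₂, hg, hφ₂, hdec, -, hv⟩ := hdata P φ hφ
    obtain ⟨-, -, -, ψ, hψ, hψR, hψQ⟩ := hEQ R hφ₂
    have hPle : P ≤ R ⊔ F.core := fun u hu => by
      obtain ⟨x, hx, y, hy⟩ := hdec ⟨u, hu⟩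
      rw [show u = x * y from hy]
      exact mul_mem (Subgroup.mem_sup_right hx) (Subgroup.mem_sup_left y.2)
    refine comp_mem' (restrict_mem hψ hPle) (F.conj_mem le_rfl (hQn.1 hg))
      (fun u => hom_apply_mem (restrict_mem hψ hPle) u) fun u => ?_
    obtain ⟨x, hx, y, hy⟩ := hdec u
    rw [hv u x hx y hy, show (g * x * g⁻¹) * φ₂ y = g * (x * φ₂ y) * g⁻¹ from ?_]
    · rw [← hψR, ← show ψ (Subgroup.inclusion le_sup_right ⟨x, hx⟩) = x from hψQ ⟨x, hx⟩,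
        ← map_mul]
      show g * ψ _ * g⁻¹ = g * ψ _ * g⁻¹
      congr 3
      exact Subtype.ext hy.symm
    · have h1 : g⁻¹ * φ₂ y = φ₂ y * g⁻¹ :=
        hTQ _ (hom_apply_mem hφ₂ y) _ (inv_mem hg)
      rw [mul_assoc (g * x), h1, ← mul_assoc, ← mul_assoc g x]
  refine ⟨?_, fun Y hY hYD => ?_⟩
  · have := finite_le hUS
    obtain ⟨-, hcen⟩ := center_isCentral (F := D)
    refine ⟨fun z hz => mem_centralizerIn.2 ⟨hUS (center_le hz), fun u hu =>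
      D.center_le_centralizer hz u hu⟩, fun P φ hφ => ?_⟩
    obtain ⟨ψ, hψ, hψP, hψZ⟩ := hcen P φ hφ
    have hUC : U ≤ centralizerIn S D.center := fun u hu => mem_centralizerIn.2 ⟨hUS hu,
      fun z hz => (D.center_le_centralizer hz u hu).symm⟩
    exact ⟨hDF P hφ, (hom_le hφ).trans hUC, fun x => hUC (hom_apply_mem hφ x), ψ, hDF _ hψ, hψP,
      hψZ⟩
  -- `Y` is in the centralizer of the layer
  have hEn := hE.1
  set C₀ := centOf F E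
  have hYC₀ : Y ≤ C₀ := le_sSup (show CentBy F E Y from
    ⟨fun y hy => mem_centralizerIn.2 ⟨(mem_centralizerIn.1 (hY hy)).1,
      fun t ht => (mem_centralizerIn.1 (hY hy)).2 t (hTU ht)⟩, fun P φ hφ => hYD P (hED P hφ)⟩)
  obtain ⟨W, hW, hWT⟩ := exists_centralizer_normal hS hEn
  have hC₀ := hW.1.2.2.2.1
  have := finite_le hC₀.1
  have hWp : IsPGroup p C₀ := hS.to_le hC₀.1
  have hQ'n := isNormal_inf_of_subsystem hS hC₀ hW.1.1 hW.1.2.2.1 hQn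
  have hW₁ := centSystem_isNormalIn hWp hW.1.1 hQ'n
  set Q' := F.core ⊓ C₀
  set W₁ := centSystem W Q' hQ'n.1
  have hT₁ : centralizerIn C₀ Q' ≤ C₀ := centralizerIn_le Q'
  have := finite_le hT₁
  have hno : ¬ ∃ (T' : Subgroup Ω) (C : FusionSystem T'), C.IsComponentIn W₁ p := by
    rintro ⟨T', C, hCs, hCq⟩
    have hCF : C.IsComponentIn F p := ⟨(hCs.step hW₁ |> fun h => h.step hW), hCq⟩
    have hCE := hE.2.1 T' C hCF
    have hT'T : T' ≤ T := IsSubsystemOf.le hCE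
    have := finite_le hT'T
    have hCW : C.IsSubsystemOf W₁ := IsSubnormalIn.isSubsystemOf hCs
    have hid : ∀ (P : Subgroup Ω) (φ : P →* Ω), φ ∈ C.Hom P → ∀ x : P, φ x = x := by
      intro P φ hφ x
      obtain ⟨-, -, -, ψ, -, hψP, hψT⟩ := hWT P (hW₁.1.2.2.1 P (hCW P hφ))
      rw [← hψP]
      exact hψT ⟨x, hT'T (hom_le hφ x.2)⟩
    refine not_isConstrained_of_quasisimple (hS.to_le (hT'T.trans hTS)) hCq
      ⟨hCq.1, T', ⟨le_rfl, fun P φ hφ => ?_⟩, isCentric_self⟩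
    refine ⟨(P ⊔ T').subtype, incl_mem (sup_le (hom_le hφ) le_rfl), fun x => (hid P φ hφ x).symm,
      ?_⟩
    refine le_antisymm ?_ fun t ht => ⟨⟨t, Subgroup.mem_sup_right ht⟩, ht, rfl⟩
    rintro _ ⟨t, ht, rfl⟩
    exact ht
  have hW₁c : W₁.IsConstrained p :=
    (isConstrained_iff_no_component (hWp.to_le hT₁) hW₁.1.1).2 hno
  obtain ⟨-, hcen⟩ := exists_normal_centric_core hW₁c
  have hcore : W₁.core ≤ Q' := le_inf
    ((le_core (invariant_core_isNormal hWp hW.1.1 hW₁.1.1 hW₁.1.2.2)).trans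
      (le_core (invariant_core_isNormal hS hF hW.1.1 hW.1.2.2)))
    ((core_le (F := W₁)).trans hT₁)
  have hT₁Q : centralizerIn C₀ Q' ≤ Q' := fun t ht =>
    hcore (hcen.2 _ (isConj_refl core_le)
      (mem_centralizerIn.2 ⟨ht, fun c hc' => (mem_centralizerIn.1 ht).2 c (hcore hc')⟩))
  have hYQ : Y ≤ F.core := fun y hy => (hT₁Q (mem_centralizerIn.2 ⟨hYC₀ hy,
    fun q hq => (mem_centralizerIn.1 (hY hy)).2 q (hQU hq.1)⟩)).1
  have hYU : Y ≤ U := hYQ.trans hQU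
  refine le_center ⟨hYU, fun P φ hφ => ?_⟩
  obtain ⟨-, hPC, -, ψ, hψ, hψP, hψY⟩ := hYD P hφ
  obtain ⟨R, g, φ₂, hg, hφ₂, hdec, hR, hv⟩ := hdata P φ hφ
  have hPU := hom_le hφ
  have hnorm : P ≤ Subgroup.normalizer (Y : Set Ω) := fun u hu => by
    refine Subgroup.mem_normalizer_iff.2 fun y => ?_
    have hcm : ∀ z ∈ Y, u * z = z * u := fun z hz => ((mem_centralizerIn.1 (hPC hu)).2 z hz).symm
    constructor
    · intro h
      rwa [hcm y h, mul_inv_cancel_right]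
    · intro h
      have h1 := hcm _ h
      rw [show y = u⁻¹ * (u * y * u⁻¹) * u by group, show u⁻¹ * (u * y * u⁻¹) = (u * y * u⁻¹) * u⁻¹
        from ((Commute.inv_left (h1 : Commute u (u * y * u⁻¹))).eq), inv_mul_cancel_right]
      exact h
  have hmem : ∀ w : ↥(P ⊔ Y), ∃ (u : P) (v : Y), (w : Ω) = u * v := by
    intro w
    have := (Subgroup.coe_mul_of_left_le_normalizer_right P Y hnorm).le w.2
    obtain ⟨u, hu, v, hv', h⟩ := Set.mem_mul.1 this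
    exact ⟨⟨u, hu⟩, ⟨v, hv'⟩, h.symm⟩
  have hsplit : ∀ (w : ↥(P ⊔ Y)) (x : Ω), x ∈ F.core → ∀ y ∈ T, (w : Ω) = x * y →
      ∃ (u : P) (v : Y), (w : Ω) = u * v ∧ x * (v : Ω)⁻¹ ∈ F.core ∧
        (u : Ω) = x * (v : Ω)⁻¹ * y := by
    intro w x hx y hy hw
    obtain ⟨u, v, huv⟩ := hmem w
    refine ⟨u, v, huv, mul_mem hx (inv_mem (hYQ v.2)), ?_⟩
    have h1 : (v : Ω)⁻¹ * y = y * (v : Ω)⁻¹ :=
      ((mem_centralizerIn.1 (hY (inv_mem v.2))).2 y (hTU hy)).symm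
    rw [mul_assoc, h1, ← mul_assoc, ← hw, huv, mul_inv_cancel_right]
  refine ⟨ψ, hmk _ R ψ g φ₂ (sup_le hPU hYU) hg hφ₂ (fun x hx y hy h => ?_)
    (fun w x hx y hw => ?_), hψP, hψY⟩
  · obtain ⟨u, v, -, hxv, hu⟩ := hsplit ⟨_, h⟩ x hx y hy rfl
    exact hR _ hxv y hy (hu ▸ u.2)
  · obtain ⟨u, v, huv, hxv, hu⟩ := hsplit w x hx y (hom_le hφ₂ y.2) hw
    have h1 : w = Subgroup.inclusion le_sup_left u * Subgroup.inclusion le_sup_right v :=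
      Subtype.ext huv
    rw [h1, map_mul, hψP, hψY, hv u _ hxv y hu]
    have hc1 : g * (v : Ω) = v * g := (mem_centralizerIn.1 (hY v.2)).2 g (hQU hg)
    have hc2 : φ₂ y * (v : Ω) = v * φ₂ y :=
      (mem_centralizerIn.1 (hY v.2)).2 _ (hTU (hom_apply_mem hφ₂ y))
    have hc3 : g⁻¹ * (v : Ω) = v * g⁻¹ := (Commute.inv_left (hc1 : Commute g (v : Ω))).eq
    calc g * (x * (v : Ω)⁻¹) * g⁻¹ * φ₂ y * v
        = g * (x * (v : Ω)⁻¹) * g⁻¹ * (φ₂ y * v) := by group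
      _ = g * (x * (v : Ω)⁻¹) * (g⁻¹ * v) * φ₂ y := by rw [hc2]; group
      _ = g * x * g⁻¹ * φ₂ y := by rw [hc3]; group

end CfsgLib.Fusion
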