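import Cfsg.Agent.Lib.Fusion.Biset.Park
import Cfsg.Agent.Lib.Fusion.Biset.CentralTransfer

/-!
The transfer detects the focal subgroup on elements with stable values.
-/

set_option autoImplicit false

namespace CfsgLib.Fusion

open Cfsg Cfsg.FusionSystem MulAction Marks
open scoped commutatorElement

universe u

variable {Ω : Type u} [Group Ω] {S : Subgroup Ω} {F : FusionSystem S} {p : ℕ}

/-- A homomorphism to an abelian group kills a focal element on whose powers it is invariant. -/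
theorem map_eq_one_of_focal [Fact p.Prime] [Finite S] (hS : IsPGroup p S) (hF : F.IsSaturated p)
    {A : Type u} [CommGroup A] (θ : S →* A) {z : Ω} (hzS : z ∈ S) (hzf : z ∈ F.focalSubgroup)
    (hst : ∀ (P : Subgroup Ω) (φ : P →* Ω) (hφ : φ ∈ F.Hom P) (x : P),
      (x : Ω) ∈ Subgroup.zpowers z →
      θ ⟨φ x, hom_apply_mem hφ x⟩ = θ ⟨x, hom_le hφ x.2⟩) :
    θ ⟨z, hzS⟩ = 1 := by
  classical
  obtain ⟨X, i, j, hX, n, hn, hpn⟩ := exists_charBiset (F := F) hS hF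
  let _ : MulAction S X := rightAct S X
  have hc : ∀ (g : parkGroup S X) (b : S) (x : X), g • b • x = b • g • x := fun g b x => g.2 b x
  have hfree : ∀ (b : S) (x : X), b • x = x → b = 1 := fun b x h => hX.right_free b x h
  have : Fintype (orbitRel.Quotient S X) := Fintype.ofFinite _
  let τ := FreeTransfer.transferHom (G := parkGroup S X) hfree Quotient.out
    (fun o => o.out_eq') θ hc
  have hfoc : ∀ y ∈ F.focalSubgroup, ∃ hy : y ∈ S, τ (parkEmb S X ⟨y, hy⟩) = 1 := by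
    intro y hy
    induction hy using Subgroup.closure_induction with
    | mem y hy =>
        obtain ⟨P, φ, x, hφ, rfl⟩ := hy
        refine ⟨S.mul_mem (S.inv_mem (hom_le hφ x.2)) (hom_apply_mem hφ x), ?_⟩
        obtain ⟨g, hg⟩ := hX.exists_conj hφ
        have h2 := congrArg τ (hg x)
        rw [map_mul, map_mul, mul_comm] at h2
        have h3 := mul_left_cancel h2
        rw [show (⟨(x : Ω)⁻¹ * φ x, _⟩ : S) = (⟨x, hom_le hφ x.2⟩ : S)⁻¹ * ⟨φ x, hom_apply_mem hφ x⟩ from rfl,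
          map_mul, map_mul, h3, ← map_mul, ← map_mul, inv_mul_cancel, map_one, map_one]
    | one => exact ⟨S.one_mem, by rw [show (⟨1, S.one_mem⟩ : S) = 1 from rfl, map_one, map_one]⟩
    | mul a b _ _ ha hb =>
        obtain ⟨ha, ha'⟩ := ha
        obtain ⟨hb, hb'⟩ := hb
        refine ⟨S.mul_mem ha hb, ?_⟩
        rw [show (⟨a * b, S.mul_mem ha hb⟩ : S) = ⟨a, ha⟩ * ⟨b, hb⟩ from rfl, map_mul, map_mul,
          ha', hb', one_mul]
    | inv a _ ha =>
        obtain ⟨ha, ha'⟩ := ha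
        refine ⟨S.inv_mem ha, ?_⟩
        rw [show (⟨a⁻¹, S.inv_mem ha⟩ : S) = ⟨a, ha⟩⁻¹ from rfl, map_inv, map_inv, ha', inv_one]
  obtain ⟨hzS', hz1⟩ := hfoc z hzf
  set zS : S := ⟨z, hzS⟩ with hzSdef
  have hpow : τ (parkEmb S X zS) = θ zS⁻¹ ^ Fintype.card (orbitRel.Quotient S X) := by
    refine FreeTransfer.transferHom_eq_pow' hfree _ _ _ hc fun d x c hcx => ?_
    rw [← map_pow] at hcx
    have hb' : ((1, c) : ↥S × ↥S) • x = ((zS ^ d, 1) : ↥S × ↥S) • x := hcx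
    have hfix : ((zS ^ d, c⁻¹) : ↥S × ↥S) • x = x := by
      rw [show ((zS ^ d, c⁻¹) : ↥S × ↥S) = ((1, c⁻¹) : ↥S × ↥S) * (zS ^ d, 1) by
        rw [Prod.mk_mul_mk, one_mul, mul_one], mul_smul, ← hb', smul_smul, Prod.mk_mul_mk,
        one_mul, inv_mul_cancel]
      exact one_smul _ x
    obtain ⟨P, φ, hφ, hT⟩ := hX.twisted x
    obtain ⟨hbP, e⟩ := (hT _).1 (mem_stabilizer_iff.2 hfix)
    obtain ⟨ψ, hψ, -, hψl, -⟩ := exists_inv hφ rfl
    have h2 : ψ ⟨((zS ^ d : S) : Ω), ⟨_, e⟩⟩ = ((c⁻¹ : S) : Ω) := by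
      rw [show (⟨((zS ^ d : S) : Ω), ⟨_, e⟩⟩ : φ.range) = ⟨φ ⟨_, hbP⟩, ⟨_, rfl⟩⟩ from Subtype.ext e.symm]
      exact hψl _ _
    have h3 := hst _ ψ hψ ⟨((zS ^ d : S) : Ω), ⟨_, e⟩⟩ ⟨d, (zpow_natCast z d).trans (by simp [zS])⟩
    rw [show (⟨ψ ⟨((zS ^ d : S) : Ω), ⟨_, e⟩⟩, hom_apply_mem hψ _⟩ : S) = c⁻¹ from
      Subtype.ext h2, show (⟨((zS ^ d : S) : Ω), _⟩ : S) = zS ^ d from Subtype.ext rfl,
      map_inv, map_pow] at h3
    rw [← inv_inj, h3, map_inv, inv_pow, inv_inv]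
  have hz1' : τ (parkEmb S X zS) = 1 := hz1
  rw [hz1', map_inv, inv_pow, eq_comm, inv_eq_one] at hpow
  have hcard : Fintype.card (orbitRel.Quotient S X) = n := by
    rw [← Nat.card_eq_fintype_card]
    exact Nat.eq_of_mul_eq_mul_left Nat.card_pos ((card_eq_card_mul_orbits hfree).symm.trans hn)
  rw [hcard] at hpow
  obtain ⟨k, hk⟩ := hS zS
  have hcop : Nat.Coprime (p ^ k) n :=
    Nat.Coprime.pow_left _ ((Fact.out : p.Prime).coprime_iff_not_dvd.2 hpn)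
  exact orderOf_eq_one_iff.1 (Nat.eq_one_of_dvd_coprimes hcop
    (orderOf_dvd_of_pow_eq_one (by rw [← map_pow, hk, map_one])) (orderOf_dvd_of_pow_eq_one hpow))

/-- A focal element whose powers keep their class modulo `K` lies in `K`. -/
theorem mem_of_focal_of_stable [Fact p.Prime] [Finite S] (hS : IsPGroup p S) (hF : F.IsSaturated p)
    {K : Subgroup Ω} (hd : ⁅S, S⁆ ≤ K) {z : Ω} (hzS : z ∈ S) (hzf : z ∈ F.focalSubgroup)
    (hst : ∀ (P : Subgroup Ω) (φ : P →* Ω), φ ∈ F.Hom P → ∀ x : P,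
      (x : Ω) ∈ Subgroup.zpowers z → (x : Ω)⁻¹ * φ x ∈ K) : z ∈ K := by
  let θ : S →* Abelianization S ⧸ (K.subgroupOf S).map Abelianization.of :=
    (QuotientGroup.mk' _).comp Abelianization.of
  have hker : ∀ y : S, θ y = 1 ↔ (y : Ω) ∈ K := by
    intro y
    refine Iff.trans (QuotientGroup.eq_one_iff _) ⟨?_, fun h => ⟨y, h, rfl⟩⟩
    rintro ⟨k, hk, hky⟩
    have h1 : k⁻¹ * y ∈ commutator S := (QuotientGroup.eq_one_iff _).1 (by
      show Abelianization.of (k⁻¹ * y) = 1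
      rw [map_mul, map_inv, hky, inv_mul_cancel])
    have h2 : ((k⁻¹ * y : S) : Ω) ∈ K :=
      hd (Subgroup.map_subtype_commutator S ▸ ⟨_, h1, rfl⟩)
    simpa using K.mul_mem hk h2
  refine (hker ⟨z, hzS⟩).1 (map_eq_one_of_focal hS hF θ hzS hzf fun P φ hφ x hx => ?_)
  exact (inv_mul_eq_one.1 (by
    rw [← map_inv, ← map_mul]
    exact (hker _).2 (hst P φ hφ x hx))).symm

end CfsgLib.Fusion
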