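import Cfsg.Agent.Lib.Fusion.ModelTools
import Cfsg.Agent.Lib.Fusion.InnerQuot
import Cfsg.Agent.Lib.Fusion.RadicalNormalizer
import Cfsg.Agent.Lib.Fusion.Sections
import Cfsg.Agent.Lib.Fusion.Biset.ModelExists
import Cfsg.Agent.Lib.Techniques2.SFourFree
import Cfsg.Prelude.Def_FusionReduction

/-!
Systems without sections `S₄`, seen in the automorphism groups of the subgroups.
-/

set_option autoImplicit false

namespace CfsgLib.Fusion

open Cfsg Cfsg.FusionSystem

universe u

variable {Ω : Type u} [Group Ω] {S : Subgroup Ω} {F : FusionSystem S} {p : ℕ}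

/-- Neither `S₄` is involved in the automorphisms of `P`, nor do they act as `S₃` on an elementary
abelian section of `P`. -/
def NoSymFourOn (F : FusionSystem S) (P : Subgroup Ω) : Prop :=
  ¬ Involves (Equiv.Perm (Fin 4)) (F.autGroup P) ∧
    ∀ A B : Subgroup P, B ≤ A → (∀ a ∈ A, a * a ∈ B) →
      (∀ a ∈ A, ∀ b ∈ A, a * b * a⁻¹ * b⁻¹ ∈ B) →
      ∀ x ∈ F.autGroup P, ∀ y ∈ F.autGroup P,
        A.map x.toMonoidHom = A → A.map y.toMonoidHom = A →
        B.map x.toMonoidHom = B → B.map y.toMonoidHom = B →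
        (∀ a ∈ A, (x * y * x⁻¹ * y) a * a⁻¹ ∈ B) → (∀ a ∈ A, (y ^ 3) a * a⁻¹ ∈ B) →
        ∀ a ∈ A, y a * a⁻¹ ∈ B

/-- Every subgroup satisfies `NoSymFourOn`. -/
def FourFree (F : FusionSystem S) : Prop := ∀ P : Subgroup Ω, P ≤ S → NoSymFourOn F P

theorem map_aut_eq_of_mem {G : Type*} [Group G] [Finite G] {A : Subgroup G} (a : MulAut G)
    (h : ∀ z ∈ A, a z ∈ A) : A.map a.toMonoidHom = A :=
  Subgroup.eq_of_le_of_card_ge (by rintro _ ⟨z, hz, rfl⟩; exact h z hz)
    (le_of_eq (Subgroup.card_map_of_injective a.injective).symm)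

theorem FourFree.mono {T : Subgroup Ω} {N : FusionSystem T} (h : FourFree F)
    (hN : N.IsSubsystemOf F) (hTS : T ≤ S) : FourFree N := by
  intro P hP
  have hle : N.autGroup P ≤ F.autGroup P := fun a ha =>
    (mem_autGroup_iff (hP.trans hTS)).2 (hN P ((mem_autGroup_iff hP).1 ha))
  refine ⟨fun hi => (h P (hP.trans hTS)).1
    (LocalEven.involves_of_section (Subgroup.inclusion hle) (Subgroup.inclusion_injective hle)
      (MonoidHom.id _) Function.surjective_id hi), ?_⟩
  intro A B hBA h1 h2 x hx y hy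
  exact (h P (hP.trans hTS)).2 A B hBA h1 h2 x (hle hx) y (hle hy)

theorem NoSymFourOn.of_iso {P Q : Subgroup Ω} {e : P ≃* Q} (he : IsoIn F e)
    (h : NoSymFourOn F Q) : NoSymFourOn F P := by
  have hmap := he.congr_autGroup
  constructor
  · intro hi
    refine h.1 ?_
    let e' : F.autGroup P ≃* F.autGroup Q :=
      ((MulAut.congr e).subgroupMap (F.autGroup P)).trans (MulEquiv.subgroupCongr hmap)
    exact LocalEven.involves_of_section e'.symm.symm.toMonoidHom e'.injective (MonoidHom.id _)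
      Function.surjective_id hi
  · intro A B hBA h1 h2 x hx y hy hxA hyA hxB hyB hinv hcube a ha
    have hm : ∀ (w : MulAut P) (C : Subgroup P), C.map w.toMonoidHom = C →
        (C.map e.toMonoidHom).map (MulAut.congr e w).toMonoidHom = C.map e.toMonoidHom := by
      intro w C hC
      conv_rhs => rw [← hC]
      rw [Subgroup.map_map, Subgroup.map_map]
      congr 1
      ext z
      simp [MulAut.congr]
    have hin : ∀ (C : Subgroup P) (z : P), e z ∈ C.map e.toMonoidHom ↔ z ∈ C := fun C z =>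
      ⟨fun ⟨w, hw, hwz⟩ => e.injective hwz ▸ hw, fun hz => ⟨z, hz, rfl⟩⟩
    have key := h.2 (A.map e.toMonoidHom) (B.map e.toMonoidHom) (Subgroup.map_mono hBA) ?_ ?_
      (MulAut.congr e x) (hmap ▸ Subgroup.mem_map_of_mem _ hx)
      (MulAut.congr e y) (hmap ▸ Subgroup.mem_map_of_mem _ hy)
      (hm x A hxA) (hm y A hyA) (hm x B hxB) (hm y B hyB) ?_ ?_ (e a) ⟨a, ha, rfl⟩
    · rw [show MulAut.congr e y (e a) = e (y a) by simp [MulAut.congr], ← map_inv e, ← map_mul,
        hin] at key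
      exact key
    · rintro _ ⟨z, hz, rfl⟩
      exact ⟨z * z, h1 z hz, map_mul e z z⟩
    · rintro _ ⟨z, hz, rfl⟩ _ ⟨w, hw, rfl⟩
      exact ⟨_, h2 z hz w hw, by simp⟩
    · rintro _ ⟨z, hz, rfl⟩
      exact ⟨_, hinv z hz, by simp [MulAut.congr]⟩
    · rintro _ ⟨z, hz, rfl⟩
      exact ⟨_, hcube z hz, by rw [← map_pow]; simp [MulAut.congr]⟩

/-- Pairs of an element of `L` and an automorphism of `P` with the same action. -/
def conjPairs {L P : Type*} [Group L] [Group P] (j : P →* L) : Subgroup (L × MulAut P) where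
  carrier := {t | ∀ z, t.1 * j z = j (t.2 z) * t.1}
  one_mem' z := by simp
  mul_mem' := by
    intro a b ha hb z
    show a.1 * b.1 * j z = j (a.2 (b.2 z)) * (a.1 * b.1)
    rw [mul_assoc, hb z, ← mul_assoc, ha (b.2 z), mul_assoc]
  inv_mem' := by
    intro a ha z
    show a.1⁻¹ * j z = j (a.2⁻¹ z) * a.1⁻¹
    have h := ha (a.2⁻¹ z)
    rw [MulAut.apply_inv_self] at h
    rw [eq_mul_inv_iff_mul_eq, mul_assoc, inv_mul_eq_iff_eq_mul]
    exact h.symm

/-- The case of a subgroup whose automorphisms extend to a fully normalized centric one. -/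
theorem noSymFourOn_of_extends [Fact p.Prime] [Finite S] (hS : IsPGroup p S) (hF : F.IsSaturated p)
    (hfree : F.IsSectionFree p (Equiv.Perm (Fin 4))) {Q P : Subgroup Ω}
    (hQn : F.IsFullyNormalized Q) (hQc : F.IsCentric Q) (hPQ : P ≤ Q)
    (hext : ∀ a ∈ F.autGroup P, ∃ b ∈ F.autGroup Q,
      ∀ z : P, ((b (Subgroup.inclusion hPQ z) : Q) : Ω) = ((a z : P) : Ω)) : NoSymFourOn F P := by
  have hQS := hQc.1
  set T := normalizerIn S Q with hT
  have hTS : T ≤ S := normalizerIn_le Q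
  have := finite_le hTS
  have hQT : Q ≤ T := le_normalizerIn hQS
  have hNsys := normSystem_isNormalizerSystem F Q hQS
  set N := normSystem F Q hQS with hN
  have hNc : N.IsCentric Q := ⟨hQT, fun R ⟨φ, hφ, hR⟩ => fun z hz =>
    hQc.2 R ⟨φ, normalizerSystem_le hNsys hφ, hR⟩ ⟨hTS hz.1, hz.2⟩⟩
  obtain ⟨L, _, ι, hG⟩ := exists_model_of_normal_centric (hS.to_le hTS)
    (normalizerSystem_saturated hS hF hQn hNsys) (normalizerSystem_isNormal hQS hNsys) hNc
  have hL : ¬ Involves (Equiv.Perm (Fin 4)) L := hfree Q hQn hQc N hNsys L ι hG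
  obtain ⟨hfin, ⟨hinj, hiff⟩, -, -⟩ := hG
  have hPT : P ≤ T := hPQ.trans hQT
  set j : P →* L := ι.comp (Subgroup.inclusion hPT) with hj
  have hjinj : Function.Injective j := hinj.comp (Subgroup.inclusion_injective hPT)
  have hlift : ∀ a ∈ F.autGroup P, ∃ g : L, (g, a) ∈ conjPairs j := by
    intro a ha
    obtain ⟨b, hb, hbv⟩ := hext a ha
    rw [← normalizerSystem_autGroup hQS hNsys] at hb
    obtain ⟨g, hg⟩ := (hiff Q hQT _ fun x => hQT (b x).2).1 ((mem_autGroup_iff hQT).1 hb)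
    refine ⟨g, fun z => ?_⟩
    have h := hg (Subgroup.inclusion hPQ z)
    rw [eq_mul_inv_iff_mul_eq] at h
    have h2 : (⟨((b (Subgroup.inclusion hPQ z) : Q) : Ω), hQT (b _).2⟩ : T) =
        Subgroup.inclusion hPT (a z) := Subtype.ext (hbv z)
    exact h2.subst (motive := fun w => g * j z = ι w * g) h.symm
  constructor
  · intro hi
    let G₁ : Subgroup (L × MulAut P) :=
      conjPairs j ⊓ (⊤ : Subgroup L).prod (F.autGroup P)
    let f : G₁ →* F.autGroup P :=
      ((MonoidHom.snd L (MulAut P)).comp G₁.subtype).codRestrict _ fun t => t.2.2.2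
    refine hL (LocalEven.involves_of_section ((MonoidHom.fst L (MulAut P)).comp G₁.subtype) ?_ f
      ?_ hi)
    · intro s t hst
      refine Subtype.ext (Prod.ext hst (MulEquiv.ext fun z => hjinj ?_))
      have h1 := s.2.1 z
      have h2 := t.2.1 z
      have hst' : (s : L × MulAut P).1 = (t : L × MulAut P).1 := hst
      rw [hst', h2] at h1
      exact (mul_right_cancel h1).symm
    · intro a
      obtain ⟨g, hg⟩ := hlift a a.2
      exact ⟨⟨(g, a), hg, trivial, a.2⟩, rfl⟩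
  · intro A B hBA h1 h2 x hx y hy hxA hyA hxB hyB hinv hcube a ha
    obtain ⟨gx, hgx⟩ := hlift x hx
    obtain ⟨gy, hgy⟩ := hlift y hy
    have hnorm : ∀ (C : Subgroup P) (w : MulAut P) (g : L), (g, w) ∈ conjPairs j →
        C.map w.toMonoidHom = C → g ∈ Subgroup.normalizer ((C.map j : Subgroup L) : Set L) := by
      intro C w g hg hC
      refine Subgroup.mem_normalizer_iff.2 fun v => ⟨?_, fun hv => ?_⟩
      · rintro ⟨z, hz, rfl⟩
        exact ⟨w z, hC.le ⟨z, hz, rfl⟩, (eq_mul_inv_iff_mul_eq.2 (hg z).symm)⟩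
      · obtain ⟨z, hz, hzv⟩ := hv
        obtain ⟨u, hu, rfl⟩ := hC.ge hz
        refine ⟨u, hu, ?_⟩
        have h := hg u
        rw [show j (w u) = g * v * g⁻¹ from hzv, inv_mul_cancel_right] at h
        exact mul_left_cancel h
    set A' := A.map j with hA'
    set B' := B.map j with hB'
    set N₀ := Subgroup.normalizer (A' : Set L) ⊓ Subgroup.normalizer (B' : Set L) with hN₀
    have hA'N : A' ≤ N₀ := by
      refine le_inf Subgroup.le_normalizer ?_
      rintro _ ⟨z, hz, rfl⟩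
      have hzB : ∀ z ∈ A, ∀ w ∈ B, z * w * z⁻¹ ∈ B := fun z hz w hw => by
        have := B.mul_mem (h2 z hz w (hBA hw)) hw
        rwa [inv_mul_cancel_right] at this
      refine Subgroup.mem_normalizer_iff.2 fun v => ⟨?_, fun hv => ?_⟩
      · rintro ⟨w, hw, rfl⟩
        exact ⟨_, hzB z hz w hw, by simp⟩
      · obtain ⟨w, hw, hwv⟩ := hv
        exact ⟨_, hzB z⁻¹ (A.inv_mem hz) w hw, by simp [hwv, mul_assoc]⟩
    have : (B'.subgroupOf N₀).Normal :=
      (Subgroup.normal_subgroupOf_iff_le_normalizer ((Subgroup.map_mono hBA).trans hA'N)).2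
        inf_le_right
    set q := QuotientGroup.mk' (B'.subgroupOf N₀) with hq
    set E := (A'.subgroupOf N₀).map q with hE
    have hXfree : ¬ Involves (Equiv.Perm (Fin 4)) (N₀ ⧸ B'.subgroupOf N₀) := fun hi =>
      hL (LocalEven.involves_of_section N₀.subtype N₀.subtype_injective q
        (QuotientGroup.mk'_surjective _) hi)
    have hjA : ∀ z ∈ A, j z ∈ N₀ := fun z hz => hA'N ⟨z, hz, rfl⟩
    have hmemE : ∀ v ∈ E, ∃ z, ∃ hz : z ∈ A, q ⟨j z, hjA z hz⟩ = v := by
      rintro _ ⟨⟨_, hv⟩, ⟨z, hz, rfl⟩, rfl⟩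
      exact ⟨z, hz, rfl⟩
    have hqone : ∀ v : N₀, q v = 1 ↔ (v : L) ∈ B' := fun v => QuotientGroup.eq_one_iff v
    have hEab : IsElementaryAbelian 2 E := by
      refine ⟨Subgroup.le_centralizer_iff_isMulCommutative.1 fun v hv =>
        Subgroup.mem_centralizer_iff.2 fun w hw => ?_, fun v hv => ?_⟩
      · obtain ⟨z, hz, rfl⟩ := hmemE v hv
        obtain ⟨z', hz', rfl⟩ := hmemE w hw
        rw [← commutatorElement_eq_one_iff_mul_comm, ← map_commutatorElement, hqone]
        exact ⟨_, h2 z' hz' z hz, by simp [commutatorElement_def]⟩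
      · obtain ⟨z, hz, rfl⟩ := hmemE v hv
        rw [pow_two, ← map_mul, hqone]
        exact ⟨_, h1 z hz, by simp⟩
    have hgxN : gx ∈ N₀ := ⟨hnorm A x gx hgx hxA, hnorm B x gx hgx hxB⟩
    have hgyN : gy ∈ N₀ := ⟨hnorm A y gy hgy hyA, hnorm B y gy hgy hyB⟩
    have hqn : ∀ g : N₀, (g : L) ∈ Subgroup.normalizer (A' : Set L) →
        q g ∈ Subgroup.normalizer (E : Set _) := fun g hg => by
      refine Subgroup.le_normalizer_map q ⟨g, ?_, rfl⟩
      exact Subgroup.mem_normalizer_iff.2 fun w => Subgroup.mem_normalizer_iff.1 hg (w : L)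
    have hcent : ∀ (g : N₀) (w : MulAut P), ((g : L), w) ∈ conjPairs j →
        (∀ z ∈ A, w z * z⁻¹ ∈ B) → q g ∈ Subgroup.centralizer (E : Set _) := by
      intro g w hg hw
      refine Subgroup.mem_centralizer_iff.2 fun v hv => ?_
      obtain ⟨z, hz, rfl⟩ := hmemE v hv
      refine (commutatorElement_eq_one_iff_mul_comm.1 ?_).symm
      rw [← map_commutatorElement, hqone]
      refine ⟨w z * z⁻¹, hw z hz, ?_⟩
      show j (w z * z⁻¹) = (g : L) * j z * (g : L)⁻¹ * (j z)⁻¹
      rw [map_mul, map_inv, eq_mul_inv_iff_mul_eq.2 (hg z).symm]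
    have key := Techniques.mem_centralizer_of_inverted_cube hXfree hEab
      (x := q ⟨gx, hgxN⟩) (y := q ⟨gy, hgyN⟩) (hqn _ hgxN.1) (hqn _ hgyN.1)
      (by
        rw [← map_inv, ← map_mul, ← map_mul, ← map_mul]
        exact hcent _ (x * y * x⁻¹ * y)
          (mul_mem (mul_mem (mul_mem hgx hgy) (inv_mem hgx)) hgy) hinv)
      (by
        rw [← map_pow]
        exact hcent _ (y ^ 3) (by
          have := pow_mem hgy 3
          simpa [Prod.pow_mk] using this) hcube)
    have hc := (Subgroup.mem_centralizer_iff.1 key (q ⟨j a, hjA a ha⟩)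
      ⟨⟨j a, hjA a ha⟩, ⟨a, ha, rfl⟩, rfl⟩).symm
    rw [← commutatorElement_eq_one_iff_mul_comm, ← map_commutatorElement, hqone] at hc
    obtain ⟨c, hcB, hcv⟩ := hc
    have h4 : j c = j (y a * a⁻¹) := by
      rw [hcv, map_mul, map_inv, eq_mul_inv_iff_mul_eq.2 (hgy a).symm]
      rfl
    exact hjinj h4 ▸ hcB

/-- Systems without sections `S₄` are free. -/
theorem FourFree.of_sectionFree [Fact p.Prime] [Finite S] (hS : IsPGroup p S) (hF : F.IsSaturated p)
    (hfree : F.IsSectionFree p (Equiv.Perm (Fin 4))) : FourFree F := by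
  intro P hP
  obtain ⟨P', hPP', -, hR', hn'⟩ := IsSaturated.exists_rep hS hF hP
  obtain ⟨e₁, he₁⟩ := isConj_iff.1 hPP'
  refine NoSymFourOn.of_iso he₁ ?_
  set P'' := P' ⊔ centralizerIn S P' with hP''
  have hP''S : P'' ≤ S := sup_le hn'.1 (centralizerIn_le P')
  have hfc := IsSaturated.fullyCentralized hS hF hn'
  have hc'' : F.IsCentric P'' := by
    refine ⟨hP''S, ?_⟩
    rintro R ⟨φ, hφ, rfl⟩
    set R' := img φ P' with hR'def
    have hC : img φ (centralizerIn S P') = centralizerIn S R' := by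
      have := finite_le (centralizerIn_le (S := S) R')
      refine Subgroup.eq_of_le_of_card_ge ?_ ?_
      · rintro _ ⟨c, hc, rfl⟩
        refine mem_centralizerIn.2 ⟨hom_apply_mem hφ c, ?_⟩
        rintro _ ⟨w, hw, rfl⟩
        rw [← map_mul, ← map_mul]
        exact congrArg φ (Subtype.ext ((mem_centralizerIn.1 hc).2 _ hw))
      · rw [card_img (F.injective_of_mem hφ) le_sup_right]
        exact hfc.2 R' (isConj_img hφ le_sup_left)
    exact ((centralizerIn_antitone (img_le_range φ P')).trans hC.ge).trans (img_le_range φ _)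
  obtain ⟨Q, hQ, hQn⟩ := exists_fullyNormalized (F := F) hP''S
  obtain ⟨e₃, he₃⟩ := isConj_iff.1 hQ
  have hP'P'' : P' ≤ P'' := le_sup_left
  set g := (isoHom e₃).comp (Subgroup.inclusion hP'P'') with hg
  have hgF : g ∈ F.Hom P' := restrict_mem he₃.mem hP'P''
  obtain ⟨e₂, he₂, he₂v⟩ := exists_iso hgF (rfl : g.range = g.range)
  refine NoSymFourOn.of_iso he₂ ?_
  have hPQ : g.range ≤ Q := by rintro _ ⟨z, rfl⟩; exact (e₃ _).2
  refine noSymFourOn_of_extends hS hF hfree hQn (isCentric_of_isConj hc'' hQ) hPQ fun a ha => ?_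
  -- pull back to `P'`, extend, push forward
  set a₀ : P' ≃* P' := (e₂.trans a).trans e₂.symm with ha₀
  have ha₀F : IsoIn F a₀ :=
    (he₂.trans ((mem_autGroup_iff_isoIn (hom_range_le hgF)).1 ha)).trans he₂.symm
  obtain ⟨ψ, hψ, hψv⟩ := exists_extension hR' ha₀F hP'P'' (sup_le_extender ha₀F)
  have hψP : ∀ z, ψ z ∈ P'' := apply_mem_of_sup
    (fun z => by rw [hψv z]; exact Subgroup.mem_sup_left (a₀ z).2)
    fun c => Subgroup.mem_sup_right (extension_mem_centralizerIn hψ hP'P'' hψv _ c.2)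
  have := finite_le hP''S
  have hψr : ψ.range = P'' := Subgroup.eq_of_le_of_card_ge
    (by rintro _ ⟨z, rfl⟩; exact hψP z)
    (le_of_eq (Nat.card_congr (MonoidHom.ofInjective (F.injective_of_mem hψ)).toEquiv))
  obtain ⟨b₀, hb₀, hb₀v⟩ := exists_iso hψ hψr
  refine ⟨MulAut.congr e₃ b₀, he₃.congr_autGroup ▸ Subgroup.mem_map_of_mem _
    ((mem_autGroup_iff_isoIn hP''S).2 hb₀), fun z => ?_⟩
  obtain ⟨w, rfl⟩ := e₂.surjective z
  have h1 : Subgroup.inclusion hPQ (e₂ w) = e₃ (Subgroup.inclusion hP'P'' w) :=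
    Subtype.ext (he₂v w)
  have h2 : b₀ (Subgroup.inclusion hP'P'' w) = Subgroup.inclusion hP'P'' (a₀ w) :=
    Subtype.ext ((hb₀v _).trans (hψv w))
  have h3 : a (e₂ w) = e₂ (a₀ w) := (e₂.apply_symm_apply _).symm
  rw [h1, h3, show MulAut.congr e₃ b₀ (e₃ (Subgroup.inclusion hP'P'' w)) =
    e₃ (b₀ (Subgroup.inclusion hP'P'' w)) by simp [MulAut.congr], h2]
  exact (he₂v _).symm

end CfsgLib.Fusion
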