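import Cfsg.Agent.Lib.Fusion.Tate
import Cfsg.Agent.Lib.Fusion.CriterionZJ
import Cfsg.Agent.Lib.Fusion.Abelian

/-!
A system with inner normalizer of `S` in which `Φ(S)` is strongly closed is inner.
-/

set_option autoImplicit false

namespace CfsgLib.Fusion

open Cfsg Cfsg.FusionSystem
open scoped commutatorElement

universe u

variable {Ω : Type u} [Group Ω] {S : Subgroup Ω} {F : FusionSystem S} {p : ℕ}

theorem stronglyClosed_of_inner {Q : Subgroup Ω} (hQS : Q ≤ S)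
    (hQN : S ≤ Subgroup.normalizer (Q : Set Ω))
    (h : ∀ P : Subgroup Ω, F.Hom P = (innerFusionSystem S).Hom P) : F.StronglyClosed Q := by
  refine ⟨hQS, fun R hR φ hφ x => ?_⟩
  rw [h] at hφ
  obtain ⟨-, g, hg, hv⟩ := hφ
  rw [hv]
  exact (Subgroup.mem_normalizer_iff.1 (hQN hg) _).1 (hR x.2)

theorem inner_of_frattini_stronglyClosed [Fact p.Prime] [Finite S] (hS : IsPGroup p S)
    (hF : F.IsSaturated p)
    (hN : ∀ (φ : S →* Ω), φ ∈ F.Hom S → φ ∈ (innerFusionSystem S).Hom S)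
    (hΦ : F.StronglyClosed ((frattini S).map S.subtype)) : F = innerFusionSystem S := by
  set Φ := (frattini S).map S.subtype with hΦdef
  obtain ⟨Ω', _, θ, S', E, _, hS', hE, hEsat, -⟩ := exists_factor_quotient hS hF hΦ
  obtain ⟨-, hθ, hrange, hiff⟩ := id hE
  have hcomm : ⁅S, S⁆ ≤ Φ := by
    rw [← Subgroup.map_subtype_commutator]
    exact Subgroup.map_mono (CfsgLib.PGroups.commutator_le_frattini' hS)
  have hab : ∀ x ∈ S', ∀ y ∈ S', x * y = y * x := by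
    intro x hx y hy
    obtain ⟨a, rfl⟩ := hrange.ge hx
    obtain ⟨b, rfl⟩ := hrange.ge hy
    rw [← commutatorElement_eq_one_iff_mul_comm, ← map_commutatorElement]
    exact (hθ _).2 (hcomm (Subgroup.commutator_mem_commutator a.2 b.2))
  have hmod : ∀ (P : Subgroup Ω) (φ : P →* Ω), φ ∈ F.Hom P → ∀ x : P, (x : Ω)⁻¹ * φ x ∈ Φ := by
    intro P φ hφ x
    obtain ⟨⟨-, hmor⟩, -, -⟩ := factor_isSurjectiveMorphism hS hF hΦ hE
    obtain ⟨φ', hφ', hP, hφS, hP', hv⟩ := hmor P φ hφ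
    obtain ⟨a, ha, hav⟩ := exists_autS hS' hEsat hab hφ'
    obtain ⟨-, φ₀, hφ₀, hD, hφ₀S, hDm, hφ₀v⟩ := (hiff _ _).1 ((mem_autGroup_iff le_rfl).1 ha)
    have hSD : S ≤ preimageAlong θ S' := fun s hs =>
      (mem_preimageAlong (x := ⟨s, hs⟩)).2 (hrange ▸ ⟨_, rfl⟩)
    obtain ⟨-, g, hg, hgv⟩ := hN _ (restrict_mem hφ₀ hSD)
    set xS : S := ⟨x, hP x.2⟩
    have h1 : θ ⟨φ x, hφS x⟩ = θ xS := by
      rw [← hv x, hav]
      have h2 := hφ₀v ⟨xS, hSD xS.2⟩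
      refine Eq.trans h2 ?_
      have h3 : (⟨φ₀ ⟨xS, hSD xS.2⟩, hφ₀S _⟩ : S) = ⟨g, hg⟩ * xS * (⟨g, hg⟩ : S)⁻¹ :=
        Subtype.ext (hgv xS)
      rw [h3, map_mul, map_mul, map_inv, hab (θ ⟨g, hg⟩) (hrange.le ⟨_, rfl⟩) (θ xS) (hrange.le ⟨_, rfl⟩),
        mul_inv_cancel_right]
    have h4 : θ (xS⁻¹ * ⟨φ x, hφS x⟩) = 1 := by rw [map_mul, map_inv, h1, inv_mul_cancel]
    exact (hθ _).1 h4
  have hT : F.hyperfocalSubgroup p ≤ ⊥ := by
    refine hyperfocal_le_of_sup_frattini hS hF bot_le (fun s _ y hy => by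
      rw [Subgroup.mem_bot] at hy ⊢
      simp [hy]) ?_
    rw [bot_sup_eq]
    refine le_trans ?_ le_sup_right
    rw [FusionSystem.hyperfocalSubgroup, Subgroup.closure_le]
    rintro _ ⟨P, α, x, hP, -, rfl⟩
    exact hmod P _ ((mem_autGroup_iff hP).1 α.2) x
  refine fusionSystem_antisymm (fun P φ hφ => ?_) (innerFusionSystem_le F)
  obtain ⟨s, hs, hsv⟩ := exists_conj_mod_hyperfocal hS hF hφ
  exact ⟨hom_le hφ, s, hs, fun x => (inv_mul_eq_one.1 (Subgroup.mem_bot.1 (hT (hsv x)))).symm⟩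

end CfsgLib.Fusion
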