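import Cfsg.Agent.Lib.Fusion.GlaubermanFunctor
import Cfsg.Agent.Lib.Fusion.CriterionZJ
import Cfsg.Agent.S0664

/-!
`Z(J(S))` is normal in `Qd(p)`-free systems, which are therefore solvable.
-/

set_option autoImplicit false

namespace CfsgLib.Fusion

open Cfsg Cfsg.FusionSystem

universe u

variable {Ω : Type u} [Group Ω] {S : Subgroup Ω} {F : FusionSystem S} {p : ℕ}

theorem disjoint_ker_of_injective {G H : Type*} [Group G] [Group H] {f : G →* H}
    (hf : Function.Injective f) {A : Subgroup G} : Disjoint A f.ker := by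
  rw [(MonoidHom.ker_eq_bot_iff f).2 hf]
  exact disjoint_bot_right

/-- `Z(J(·))` as a functor. -/
noncomputable def zjFunctor (Q : Type u) [Group Q] : Subgroup Q :=
  centerThompsonAOf (⊤ : Subgroup Q)

theorem zjFunctor_map [Fact p.Prime] (Q R : Type u) [Group Q] [Group R] [Finite Q]
    (_ : IsPGroup p Q) (φ : Q ≃* R) :
    (zjFunctor Q).map φ.toMonoidHom = zjFunctor R := by
  rw [zjFunctor, CfsgLib.PLocal.centerThompsonA_map φ.toMonoidHom ⊤ (disjoint_ker_of_injective φ.injective),
    Subgroup.map_top_of_surjective φ.toMonoidHom φ.surjective]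
  rfl

theorem zjFunctor_ne_bot [Fact p.Prime] (Q : Type u) [Group Q] [Finite Q] (hQ : IsPGroup p Q)
    (h : Nontrivial Q) : zjFunctor Q ≠ ⊥ :=
  CfsgLib.PLocal.centerThompsonA_ne_bot (p := p) (hQ.to_subgroup ⊤)
    ((Subgroup.nontrivial_iff_ne_bot _).1 (Subgroup.topEquiv.toEquiv.nontrivial))

/-- `Z(J(S))` is normal in a free system, for odd primes. -/
theorem isNormal_zj_of_free [Fact p.Prime] [Finite S] (hp : p ≠ 2) (hS : IsPGroup p S)
    (hF : F.IsSaturated p) (hfree : FreeOf ↥(Cfsg.qd p) F) :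
    F.IsNormal (centerThompsonAOf S) := by
  have h := isNormal_functor_of_free (H := ↥(Cfsg.qd p)) zjFunctor zjFunctor_ne_bot
    zjFunctor_map (fun L _ _ P hc hL => ?_) _ _ rfl rfl hS hF hfree
  · rwa [functorOf_eq hS, zjFunctor, CfsgLib.PLocal.centerThompsonA_map S.subtype ⊤
      (disjoint_ker_of_injective S.subtype_injective), ← MonoidHom.range_eq_map,
      Subgroup.range_subtype] at h
  · rw [zjFunctor, CfsgLib.PLocal.centerThompsonA_map (P : Subgroup L).subtype ⊤
      (disjoint_ker_of_injective (P : Subgroup L).subtype_injective), ← MonoidHom.range_eq_map, Subgroup.range_subtype]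
    exact Cfsg.Agent.S0664.result hp hL (hc.le.trans inf_le_left) P

/-- Free systems are solvable, for odd primes. -/
theorem isSolvable_of_free [Fact p.Prime] [Finite S] (hp : p ≠ 2) (hS : IsPGroup p S)
    (hF : F.IsSaturated p) (hfree : FreeOf ↥(Cfsg.qd p) F) : F.IsSolvableSystem := by
  intro R hR hne hn E hE
  have hT : IsPGroup p (⊤ : Subgroup (S ⧸ R.subgroupOf S)) := (hS.to_quotient _).to_subgroup ⊤
  have h1 := isNormal_zj_of_free hp hT (factor_saturated hS hF hR hE) (hfree.factor (p := p) hE)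
  refine fun h0 => ?_
  have h2 := le_core h1
  rw [h0, le_bot_iff] at h2
  refine CfsgLib.PLocal.centerThompsonA_ne_bot hT ?_ h2
  intro htop
  refine hne (le_antisymm hR.1 fun s hs => ?_)
  have : (QuotientGroup.mk' (R.subgroupOf S) ⟨s, hs⟩) = 1 :=
    Subgroup.mem_bot.1 (htop ▸ Subgroup.mem_top _)
  exact (hE.2.1 ⟨s, hs⟩).1 this

end CfsgLib.Fusion
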