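import Cfsg.Agent.Lib.Fusion.NormalExtend
import Cfsg.Agent.Lib.PGroups.ExtraspecialTimesElementary
import Cfsg.Agent.Lib.PGroups.MaxAbelian

/-!
# Strongly closed generalized extraspecial subgroups

A strongly closed subgroup `P` of a saturated system with `Φ(P) = P'` of order `p` is normal in the
system, unless `P` is dihedral of order `8` times elementary abelian, respectively extraspecial of
order `p³` and exponent `p` times elementary abelian.
-/

set_option autoImplicit false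

namespace CfsgLib.PGroups

open scoped commutatorElement

variable {p : ℕ} [hp : Fact p.Prime] {P : Type*} [Group P]

/-- Basic relations for an element whose commutators lie in a central subgroup of order `p`. -/
theorem conj_relation {z w : P} (hz : orderOf z = p)
    (hcm : ∀ a b : P, ⁅a, b⁆ ∈ Subgroup.zpowers z) [Finite P] :
    ∀ x : P, ∃ i : ℕ, x * w * x⁻¹ = w * z ^ i := by
  intro x
  obtain ⟨i, hi⟩ := mem_powers_iff_mem_zpowers.2 (hcm w⁻¹ x)
  refine ⟨i, ?_⟩
  show _ = w * (fun n : ℕ => z ^ n) i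
  rw [hi, commutatorElement_def]; group

/-- Iterated conjugation. -/
theorem conj_relation_pow {z w y : P} (hzc : z ∈ Subgroup.center P) {i : ℕ}
    (h : y * w * y⁻¹ = w * z ^ i) : ∀ k : ℕ, y ^ k * w * (y ^ k)⁻¹ = w * z ^ (i * k) := by
  intro k
  induction k with
  | zero => simp
  | succ k ih =>
    calc y ^ (k + 1) * w * (y ^ (k + 1))⁻¹ = y * (y ^ k * w * (y ^ k)⁻¹) * y⁻¹ := by
          rw [pow_succ']; group
      _ = (y * w * y⁻¹) * (y * z ^ (i * k) * y⁻¹) := by rw [ih]; group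
      _ = w * z ^ (i * (k + 1)) := by
          rw [h, Subgroup.mem_center_iff.1 (Subgroup.pow_mem _ hzc _) y, mul_inv_cancel_right,
            mul_assoc, ← pow_add, mul_add, mul_one, add_comm]

/-- A power of an element outside the centraliser moves `w` to `w * z`. -/
theorem exists_pow_relation {z w y : P} (hz : orderOf z = p) (hzc : z ∈ Subgroup.center P)
    (hcm : ∀ a b : P, ⁅a, b⁆ ∈ Subgroup.zpowers z) [Finite P] (hne : ¬ Commute y w) :
    ∃ m : ℕ, y ^ m * w * (y ^ m)⁻¹ = w * z := by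
  obtain ⟨i, hi⟩ := conj_relation (w := w) hz hcm y
  have hpi : ¬ p ∣ i := fun h => hne (by
    have h0 : z ^ i = 1 := orderOf_dvd_iff_pow_eq_one.1 (by rw [hz]; exact h)
    rw [h0, mul_one] at hi
    exact mul_inv_eq_iff_eq_mul.1 hi)
  obtain ⟨m, -, hm⟩ := Nat.exists_mul_mod_eq_one_of_coprime
    (hp.out.coprime_iff_not_dvd.2 hpi).symm hp.out.one_lt
  exact ⟨m, by rw [conj_relation_pow hzc hi, ← pow_mod_orderOf, hz, hm, pow_one]⟩

/-- Decomposition `P = Z(P)⟨w⟩⟨y⟩`. -/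
theorem center_decomposition [Finite P] {z w y : P} (hz : orderOf z = p)
    (hzc : z ∈ Subgroup.center P) (hcm : ∀ a b : P, ⁅a, b⁆ ∈ Subgroup.zpowers z)
    (hab : ∀ a b : P, Commute a w → Commute b w → Commute a b)
    (hexp : ∀ a : P, Commute a w → a ^ p = 1) (hyw : y * w * y⁻¹ = w * z) :
    ∀ x : P, ∃ a ∈ Subgroup.center P, ∃ j k : ℕ, x = a * w ^ j * y ^ k := by
  intro x
  have hzcom : ∀ g : P, Commute g z := fun g => Subgroup.mem_center_iff.1 hzc g
  have hwp : w ^ p = 1 := hexp w (Commute.refl w)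
  have hyk : ∀ k : ℕ, y ^ k * w * (y ^ k)⁻¹ = w * z ^ k := fun k => by
    rw [conj_relation_pow hzc (i := 1) (by rw [pow_one]; exact hyw), one_mul]
  have hmem : ∀ g : P, ∃ k : ℕ, Commute (g * (y ^ k)⁻¹) w := by
    intro g
    obtain ⟨k, hk⟩ := conj_relation (w := w) hz hcm g
    refine ⟨k, mul_inv_eq_iff_eq_mul.1 ?_⟩
    have hzk : ∀ g : P, Commute g (z ^ k) := fun g => (hzcom g).pow_right k
    have h1 : (y ^ k)⁻¹ * w * y ^ k = w * (z ^ k)⁻¹ := by
      rw [eq_mul_inv_iff_mul_eq, mul_assoc, (hzk (y ^ k)).eq, ← mul_assoc,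
        mul_assoc _ w, ← hyk]
      group
    calc g * (y ^ k)⁻¹ * w * (g * (y ^ k)⁻¹)⁻¹ = g * ((y ^ k)⁻¹ * w * y ^ k) * g⁻¹ := by group
      _ = g * (w * (z ^ k)⁻¹) * g⁻¹ := by rw [h1]
      _ = (g * w * g⁻¹) * (g * (z ^ k)⁻¹ * g⁻¹) := by group
      _ = w := by rw [hk, (hzk g).inv_right.eq, mul_inv_cancel_right, mul_inv_cancel_right]
  obtain ⟨k, hk⟩ := hmem x
  obtain ⟨i, hi⟩ := conj_relation (w := x * (y ^ k)⁻¹) hz hcm y
  obtain ⟨j, hj⟩ : ∃ j : ℕ, (w ^ i)⁻¹ = w ^ j :=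
    ⟨(p - 1) * i, inv_eq_of_mul_eq_one_right (by
      rw [← pow_add, show i + (p - 1) * i = p * i by
        obtain ⟨q, hq⟩ := Nat.exists_eq_add_of_le hp.out.one_le
        rw [hq, Nat.add_sub_cancel_left]; ring, pow_mul, hwp, one_pow])⟩
  refine ⟨x * (y ^ k)⁻¹ * w ^ j, Subgroup.mem_center_iff.2 fun g => ?_, i, k, ?_⟩
  · have hcw : Commute (x * (y ^ k)⁻¹ * w ^ j) w := hk.mul_left (Commute.pow_self w j)
    have hcy : Commute y (x * (y ^ k)⁻¹ * w ^ j) := by
      refine mul_inv_eq_iff_eq_mul.1 ?_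
      rw [← hj, show y * (x * (y ^ k)⁻¹ * (w ^ i)⁻¹) * y⁻¹ =
        (y * (x * (y ^ k)⁻¹) * y⁻¹) * ((y * w * y⁻¹) ^ i)⁻¹ by rw [conj_pow]; group,
        hi, hyw, (hzcom w).mul_pow,
        mul_inv_rev, mul_assoc, mul_inv_cancel_left]
    obtain ⟨l, hl⟩ := hmem g
    have h1 : Commute (g * (y ^ l)⁻¹) (x * (y ^ k)⁻¹ * w ^ j) := hab _ _ hl hcw
    have h2 := h1.mul_left (hcy.pow_left l)
    rw [inv_mul_cancel_right] at h2
    exact h2
  · rw [← hj, inv_mul_cancel_right, inv_mul_cancel_right]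

end CfsgLib.PGroups

namespace CfsgLib.Fusion

open Cfsg Cfsg.FusionSystem
open scoped commutatorElement

variable {Ω : Type*} [Group Ω] {S : Subgroup Ω} {F : FusionSystem S} {p : ℕ}

/-- Facts about a conjugate of the generator of `P'` lying outside `P'`. -/
theorem genExtraspecial_conjugate [Fact p.Prime] [Finite S] (hS : IsPGroup p S)
    (hF : F.IsSaturated p) {P : Subgroup Ω} (hP : F.StronglyClosed P) {z : P}
    (hz : orderOf z = p) (hzS : ∀ s ∈ S, s * (z : Ω) = (z : Ω) * s)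
    (hcm : ∀ a b : P, ⁅a, b⁆ ∈ Subgroup.zpowers z) (hpow : ∀ a : P, a ^ p ∈ Subgroup.zpowers z)
    {R : Subgroup Ω} {φ : R →* Ω} (hφ : φ ∈ F.Hom R) (hzR : (z : Ω) ∈ R) {w : P}
    (hw : φ ⟨z, hzR⟩ = (w : Ω)) (hwne : w ∉ Subgroup.zpowers z) :
    (∀ a : P, Commute a w → a ^ p = 1) ∧ (∀ a b : P, Commute a w → Commute b w → Commute a b) := by
  have hPS := hP.1
  have hp' : p.Prime := Fact.out
  set A : Subgroup Ω := Subgroup.zpowers (z : Ω) with hA
  have hAR : A ≤ R := Subgroup.zpowers_le.2 hzR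
  have hAS : A ≤ S := Subgroup.zpowers_le.2 (hPS z.2)
  have hφ0 : φ.comp (Subgroup.inclusion hAR) ∈ F.Hom A := restrict_mem hφ hAR
  set φ0 := φ.comp (Subgroup.inclusion hAR) with hφ0d
  have hfc : F.IsFullyCentralized A := by
    refine ⟨hAS, fun Q _ => ?_⟩
    have : centralizerIn S A = S := inf_eq_left.2 fun s hs => Subgroup.mem_centralizer_iff.2 (by
      rintro _ ⟨k, rfl⟩
      exact (Commute.zpow_right (hzS s hs) k).eq.symm)
    rw [this]
    exact Subgroup.card_le_of_le inf_le_left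
  obtain ⟨ψ0, hψ0, hrange, hinv, -⟩ := exists_inv hφ0 rfl
  obtain ⟨ψ, hψ, hψv⟩ := (IsSaturated.receptive hS hF hfc).2 _ ψ0 hψ0 hrange
  have hwA : (w : Ω) ∈ φ0.range := ⟨⟨z, Subgroup.mem_zpowers _⟩, hw⟩
  have hext : ∀ a : P, Commute a w → (a : Ω) ∈ extender S φ0.range ψ0 := by
    intro a ha
    refine centralizerIn_le_extender (mem_centralizerIn.2 ⟨hPS a.2, ?_⟩)
    intro q hq
    obtain ⟨⟨_, k, rfl⟩, rfl⟩ := hq
    have h1 : φ0 ⟨(z : Ω) ^ k, Subgroup.zpow_mem _ (Subgroup.mem_zpowers _) k⟩ = (w : Ω) ^ k := by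
      rw [show (⟨(z : Ω) ^ k, _⟩ : A) = (⟨z, Subgroup.mem_zpowers _⟩ : A) ^ k from rfl, map_zpow]
      exact congrArg (fun v : Ω => v ^ k) hw
    rw [h1]
    exact ((congrArg Subtype.val ha.eq : (a : Ω) * w = w * a).symm |> fun h => (Commute.zpow_left h k))
  let C : Subgroup P :=
    { carrier := {a | Commute a w}
      one_mem' := Commute.one_left w
      mul_mem' := fun ha hb => ha.mul_left hb
      inv_mem' := fun ha => ha.inv_left }
  let ψP : C →* P :=
    { toFun := fun a => ⟨ψ ⟨(a : P), hext a a.2⟩, StronglyClosed.apply_mem hP hψ (a : P).2⟩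
      map_one' := Subtype.ext (by
        show ψ ⟨((1 : P) : Ω), _⟩ = 1
        rw [show (⟨((1 : P) : Ω), _⟩ : extender S φ0.range ψ0) = 1 from rfl, map_one])
      map_mul' := fun a b => Subtype.ext (by
        show ψ ⟨((a : P) : Ω) * (b : P), _⟩ = ψ ⟨((a : P) : Ω), _⟩ * ψ ⟨((b : P) : Ω), _⟩
        rw [← map_mul]; rfl) }
  have hψPinj : Function.Injective ψP := fun a b h =>
    Subtype.ext (Subtype.ext (congrArg (fun v : extender S φ0.range ψ0 => (v : Ω))
      (F.injective_of_mem hψ (congrArg (fun v : P => (v : Ω)) h))))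
  have : Finite P := finite_le hPS
  have hψw : ψP ⟨w, Commute.refl w⟩ = z := Subtype.ext (by
    refine (hψv (w : Ω) hwA _).trans ?_
    have := hinv ⟨z, Subgroup.mem_zpowers _⟩ ⟨_, rfl⟩
    simp only [show φ0 ⟨(z : Ω), Subgroup.mem_zpowers _⟩ = (w : Ω) from hw] at this
    exact this)
  have key : ∀ t : C, (t : P) ∈ Subgroup.zpowers z → ψP t ∈ Subgroup.zpowers z → t = 1 := by
    intro t ht htψ
    by_contra h1
    obtain ⟨i, hi⟩ := mem_powers_iff_mem_zpowers.2 htψ
    have hi' : z ^ i = ψP t := hi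
    have ht' : t = (⟨w, Commute.refl w⟩ : C) ^ i := hψPinj (by rw [map_pow, hψw, hi'])
    have hpi : ¬ p ∣ i := fun ⟨c, hc⟩ => h1 (hψPinj (by
      rw [← hi', hc, pow_mul, ← hz, pow_orderOf_eq_one, one_pow, map_one]))
    obtain ⟨m, -, hm⟩ := Nat.exists_mul_mod_eq_one_of_coprime
      (hp'.coprime_iff_not_dvd.2 hpi).symm hp'.one_lt
    refine hwne ?_
    have hwp : (⟨w, Commute.refl w⟩ : C) ^ p = 1 := hψPinj (by
      rw [map_pow, hψw, ← hz, pow_orderOf_eq_one, map_one])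
    have h2 : w = (t : P) ^ m := by
      rw [← Subgroup.coe_pow, ht', ← pow_mul, pow_eq_pow_mod _ hwp, hm, pow_one]
    rw [h2]
    exact Subgroup.pow_mem _ ht m
  refine ⟨fun a ha => ?_, fun a b ha hb => ?_⟩
  · exact congrArg Subtype.val (key (⟨a, ha⟩ ^ p) (hpow a) (by rw [map_pow]; exact hpow _))
  · have h := key ⁅(⟨a, ha⟩ : C), ⟨b, hb⟩⁆ (hcm a b) (by rw [map_commutatorElement]; exact hcm _ _)
    exact congrArg Subtype.val (commutatorElement_eq_one_iff_mul_comm.1 h)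

/-- The generator of `P'` is conjugate only to elements of `P'`, unless `P` is exceptional. -/
theorem genExtraspecial_fixed [Fact p.Prime] [Finite S] (hS : IsPGroup p S) (hF : F.IsSaturated p)
    {P : Subgroup Ω} (hP : F.StronglyClosed P) {z : P} (hz : orderOf z = p)
    (hzS : ∀ s ∈ S, s * (z : Ω) = (z : Ω) * s) (hcm : ∀ a b : P, ⁅a, b⁆ ∈ Subgroup.zpowers z)
    (hpow : ∀ a : P, a ^ p ∈ Subgroup.zpowers z) (hnab : ∃ a b : P, ¬ Commute a b)
    (h2 : p = 2 → ¬ ∃ (A : Type) (_ : CommGroup A), (∀ a : A, a ^ 2 = 1) ∧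
      Nonempty (P ≃* DihedralGroup 4 × A))
    (hodd : p ≠ 2 → ¬ ∃ (E : Type) (_ : Group E) (A : Type) (_ : CommGroup A),
      Cfsg.IsExtraspecial p E ∧ Nat.card E = p ^ 3 ∧ Monoid.exponent E = p ∧
        (∀ a : A, a ^ p = 1) ∧ Nonempty (P ≃* E × A))
    {R : Subgroup Ω} {φ : R →* Ω} (hφ : φ ∈ F.Hom R) (hzR : (z : Ω) ∈ R) {w : P}
    (hw : φ ⟨z, hzR⟩ = (w : Ω)) : w ∈ Subgroup.zpowers z := by
  by_contra hwne
  have hp' : p.Prime := Fact.out
  have hPS := hP.1
  have : Finite P := finite_le hPS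
  have hzc : z ∈ Subgroup.center P :=
    Subgroup.mem_center_iff.2 fun g => Subtype.ext (hzS g (hPS g.2))
  have hzcom : ∀ g : P, Commute g z := fun g => Subgroup.mem_center_iff.1 hzc g
  have hzp : z ^ p = 1 := by rw [← hz, pow_orderOf_eq_one]
  have hz1 : z ≠ 1 := fun h => by rw [h, orderOf_one] at hz; exact hp'.one_lt.ne hz
  -- conjugates of `z` outside `P'` are not central
  have hnc : ∀ {R : Subgroup Ω} {φ : R →* Ω}, φ ∈ F.Hom R → ∀ (hzR : (z : Ω) ∈ R) {v : P},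
      φ ⟨z, hzR⟩ = (v : Ω) → v ∉ Subgroup.zpowers z → ∃ g : P, ¬ Commute g v := by
    intro R φ hφ hzR v hv hvne
    by_contra hall
    push Not at hall
    obtain ⟨a, b, hab⟩ := hnab
    exact hab ((genExtraspecial_conjugate hS hF hP hz hzS hcm hpow hφ hzR hv hvne).2 a b
      (hall a) (hall b))
  obtain ⟨hexp, hcab⟩ := genExtraspecial_conjugate hS hF hP hz hzS hcm hpow hφ hzR hw hwne
  have hwp : w ^ p = 1 := hexp w (Commute.refl w)
  have hcexp : ∀ a ∈ Subgroup.center P, a ^ p = 1 := fun a ha =>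
    hexp a (Subgroup.mem_center_iff.1 ha w).symm
  obtain ⟨y₀, hy₀⟩ := hnc hφ hzR hw hwne
  -- all elements of order dividing `p` centralise `w`
  have hsmall : ∀ a : P, a ^ p = 1 → Commute a w := by
    intro a ha
    by_contra hne
    obtain ⟨m, hm⟩ := PGroups.exists_pow_relation hz hzc hcm hne
    have hd := PGroups.center_decomposition hz hzc hcm hcab hexp hm
    have hsh := PGroups.extraspecial_times_elementary_shapes hz hzc hwp
      (by rw [← pow_mul, mul_comm, pow_mul, ha, one_pow]) hm hcexp hd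
    by_cases hp2 : p = 2
    · exact h2 hp2 (hsh.1 hp2)
    · exact hodd hp2 (hsh.2 hp2)
  obtain ⟨m₀, hm₀⟩ := PGroups.exists_pow_relation hz hzc hcm hy₀
  set y : P := y₀ ^ m₀ with hyd
  have hyw : y * w * y⁻¹ = w * z := hm₀
  have hync : ¬ Commute y w := fun h => hz1 (by
    rw [h.eq, mul_inv_cancel_right] at hyw
    exact left_eq_mul.1 hyw)
  obtain ⟨r, hr⟩ := mem_powers_iff_mem_zpowers.2 (hpow y)
  have hr' : z ^ r = y ^ p := hr
  have hrp : ¬ p ∣ r := fun h => hync (hsmall y (by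
    rw [← hr', orderOf_dvd_iff_pow_eq_one.1 (hz.symm ▸ h : orderOf z ∣ r)]))
  have hodd' : p ≠ 2 := by
    intro hp2
    subst hp2
    have hy2 : y ^ 2 = z := by
      obtain ⟨c, hc⟩ : ∃ c, r = 2 * c + 1 := Nat.odd_iff.2 (Nat.two_dvd_ne_zero.1 hrp)
      rw [← hr', hc, pow_succ, pow_mul, hzp, one_pow, one_mul]
    have h4 : (y * w) ^ 2 = 1 := by
      calc (y * w) ^ 2 = (y * w * y⁻¹) * (y ^ 2 * w) := by rw [pow_two, pow_two]; group
        _ = w * z * (z * w) := by rw [hyw, hy2]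
        _ = w * z ^ 2 * w := by rw [pow_two]; group
        _ = 1 := by rw [hzp, mul_one, ← pow_two, hwp]
    have := (hsmall _ h4).mul_left (Commute.refl w).inv_left
    rw [mul_inv_cancel_right] at this
    exact hync this
  -- the subgroup of elements of order dividing `p`
  have hiff : ∀ a : P, a ^ p = 1 ↔ Commute a w := fun a => ⟨hsmall a, hexp a⟩
  let C : Subgroup Ω :=
    { carrier := {v | ∃ hv : v ∈ P, Commute (⟨v, hv⟩ : P) w}
      one_mem' := ⟨P.one_mem, Commute.one_left w⟩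
      mul_mem' := fun ⟨ha, ha'⟩ ⟨hb, hb'⟩ => ⟨P.mul_mem ha hb, ha'.mul_left hb'⟩
      inv_mem' := fun ⟨ha, ha'⟩ => ⟨P.inv_mem ha, ha'.inv_left⟩ }
  have hCP : C ≤ P := fun v ⟨hv, _⟩ => hv
  have hCS : C ≤ S := hCP.trans hPS
  have hCsc : F.StronglyClosed C := ⟨hCS, fun R hR φ hφ x => by
    obtain ⟨hxP, hx⟩ := hR x.2
    have hφx : φ x ∈ P := StronglyClosed.apply_mem hP hφ hxP
    refine ⟨hφx, hsmall _ (Subtype.ext ?_)⟩
    show φ x ^ p = 1
    rw [← map_pow, show x ^ p = 1 from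
      Subtype.ext (congrArg Subtype.val (hexp _ hx) : (x : Ω) ^ p = 1), map_one]⟩
  have hCab : ∀ a b : C, a * b = b * a := fun ⟨a, ha, ha'⟩ ⟨b, hb, hb'⟩ =>
    Subtype.ext (congrArg (fun v : P => (v : Ω)) (hcab _ _ ha' hb').eq)
  have hCn : F.IsNormal C := isNormal_of_stronglyClosed_abelian hS hF hCsc ⟨⟨hCab⟩⟩
  have : Finite C := finite_le hCS
  let zc : C := ⟨z, z.2, (hzcom w).symm⟩
  let wc : C := ⟨w, w.2, Commute.refl w⟩
  have hzcp : zc ^ p = 1 := Subtype.ext (by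
    show (z : Ω) ^ p = 1
    rw [← Subgroup.coe_pow, hzp, Subgroup.coe_one])
  have hwcp : wc ^ p = 1 := Subtype.ext (by
    show (w : Ω) ^ p = 1
    rw [← Subgroup.coe_pow, hwp, Subgroup.coe_one])
  have hzco : orderOf zc = p := orderOf_eq_prime hzcp fun h =>
    hz1 (Subtype.ext (congrArg (fun v : C => (v : Ω)) h))
  have hZC : Subgroup.zpowers (z : Ω) ≤ C := Subgroup.zpowers_le.2 zc.2
  obtain ⟨α, hα, hαv⟩ := IsNormal.exists_aut hCn hZC
    (restrict_mem hφ (Subgroup.zpowers_le.2 hzR))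
  have hαz : α zc = wc := Subtype.ext ((hαv ⟨z, Subgroup.mem_zpowers _⟩).trans hw)
  -- conjugation by `y`
  have hyC : (y : Ω) ∈ Subgroup.normalizer (C : Set Ω) := StronglyClosed.normal_in hCsc (hPS y.2)
  set u : MulAut C := conjAut (⟨(y : Ω), hPS y.2, hyC⟩ : normalizerIn S C) with hu
  have hu0 : u ∈ F.autGroup C := autInducedBy_le_autGroup hCS (conjAut_mem _)
  have huval : ∀ c : C, ((u c : C) : Ω) = (y : Ω) * (c : Ω) * (y : Ω)⁻¹ := fun c => rfl
  have huw : u wc = wc * zc := Subtype.ext (by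
    rw [huval]
    exact congrArg Subtype.val hyw)
  have huz : u zc = zc := Subtype.ext (by
    rw [huval]
    exact congrArg Subtype.val (show y * z * y⁻¹ = z by rw [(hzcom y).eq, mul_inv_cancel_right]))
  -- `C = fix(u)⟨w⟩`
  have hdec : ∀ c : C, ∃ (i : ℕ) (a : C), c = a * wc ^ i ∧ u a = a := by
    intro c
    obtain ⟨hcP, hc⟩ := c.2
    obtain ⟨i, hi⟩ := PGroups.conj_relation (w := (⟨c, hcP⟩ : P)) hz hcm y
    have huc : u c = c * zc ^ i := Subtype.ext (by
      rw [huval, Subgroup.coe_mul, Subgroup.coe_pow]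
      exact congrArg Subtype.val hi)
    refine ⟨i, c * (wc ^ i)⁻¹, by rw [inv_mul_cancel_right], ?_⟩
    rw [map_mul, map_inv, map_pow, huw, huc, (show Commute wc zc from hCab _ _).mul_pow,
      mul_inv_rev, mul_assoc, mul_inv_cancel_left]
  have hfix_central : ∀ a : C, u a = a → ∀ g : P, Commute g ⟨a, hCP a.2⟩ := by
    intro a ha g
    obtain ⟨b, hb, j, k, rfl⟩ := PGroups.center_decomposition hz hzc hcm hcab hexp hyw g
    obtain ⟨haP, haw⟩ := a.2
    have hya : Commute y (⟨a, haP⟩ : P) :=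
      mul_inv_eq_iff_eq_mul.1 (Subtype.ext (congrArg (fun v : C => (v : Ω)) ha))
    exact ((Commute.mul_left ((Subgroup.mem_center_iff.1 hb _).symm) (haw.symm.pow_left j)).mul_left
      (hya.pow_left k))
  set u' : MulAut C := α * u * α⁻¹ with hu'
  have hu'0 : u' ∈ F.autGroup C := mul_mem (mul_mem hα hu0) (inv_mem hα)
  have hu'w : u' wc = wc := by
    show α (u (α⁻¹ wc)) = wc
    rw [← hαz, MulAut.inv_apply_self, huz, hαz]
  have hu'gen : ∀ c : C, ∃ i : ℕ, u' c = c * wc ^ i := by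
    intro c
    obtain ⟨i, a, hca, ha⟩ := hdec (α⁻¹ c)
    refine ⟨i, ?_⟩
    show α (u (α⁻¹ c)) = c * wc ^ i
    have h1 : u (α⁻¹ c) = α⁻¹ c * zc ^ i := by
      rw [hca, map_mul, map_pow, ha, huw, (show Commute wc zc from hCab _ _).mul_pow, mul_assoc]
    rw [h1, map_mul, map_pow, MulAut.apply_inv_self, hαz]
  obtain ⟨i₀, hi₀⟩ := hu'gen zc
  have hi₀p : ¬ p ∣ i₀ := by
    rintro ⟨d, hd⟩
    rw [hd, pow_mul, hwcp, one_pow, mul_one] at hi₀
    set a := α⁻¹ zc with had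
    have ha : u a = a := α.injective (by
      show u' zc = α (α⁻¹ zc)
      rw [hi₀, MulAut.apply_inv_self])
    obtain ⟨haP, haw⟩ := a.2
    have hane : (⟨a, haP⟩ : P) ∉ Subgroup.zpowers z := fun h => by
      obtain ⟨k, hk⟩ := mem_powers_iff_mem_zpowers.2 h
      have hk' : zc ^ k = a := Subtype.ext (by
        rw [Subgroup.coe_pow]
        exact congrArg Subtype.val hk)
      have h2 : zc = wc ^ k := by
        rw [← hαz, ← map_pow, hk', had, MulAut.apply_inv_self]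
      by_cases hkp : p ∣ k
      · obtain ⟨c, rfl⟩ := hkp
        rw [pow_mul, hwcp, one_pow] at h2
        exact hz1 (Subtype.ext (congrArg (fun v : C => (v : Ω)) h2))
      · obtain ⟨m, -, hm⟩ := Nat.exists_mul_mod_eq_one_of_coprime
          (hp'.coprime_iff_not_dvd.2 hkp).symm hp'.one_lt
        have h3 : wc = zc ^ m := by rw [h2, ← pow_mul, pow_eq_pow_mod _ hwcp, hm, pow_one]
        refine hwne ?_
        rw [show w = z ^ m from Subtype.ext ((congrArg Subtype.val h3).trans (by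
          rw [Subgroup.coe_pow, Subgroup.coe_pow]))]
        exact Subgroup.pow_mem _ (Subgroup.mem_zpowers z) m
    obtain ⟨θ, hθ⟩ : ∃ θ : C →* Ω, θ ∈ F.Hom C ∧ θ zc = (a : Ω) :=
      ⟨isoHom (α⁻¹ : MulAut C), (mem_autGroup_iff_isoIn hCS).1 (inv_mem hα), rfl⟩
    obtain ⟨g, hg⟩ := hnc hθ.1 zc.2 (v := ⟨a, haP⟩) hθ.2 hane
    exact hg (hfix_central a ha g)
  -- `C = ⟨z, w⟩K`, `K` fixed by both
  have hdec2 : ∀ c : C, ∃ (l i : ℕ) (k : C), c = zc ^ l * wc ^ i * k ∧ u k = k ∧ u' k = k := by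
    intro c
    obtain ⟨i, a, rfl, ha⟩ := hdec c
    obtain ⟨j, hj⟩ := hu'gen a
    obtain ⟨m, -, hm⟩ := Nat.exists_mul_mod_eq_one_of_coprime
      (hp'.coprime_iff_not_dvd.2 hi₀p).symm hp'.one_lt
    refine ⟨m * j, i, (zc ^ (m * j))⁻¹ * a, ?_, ?_, ?_⟩
    · rw [mul_assoc, hCab (wc ^ i), mul_assoc, mul_inv_cancel_left]
    · rw [map_mul, map_inv, map_pow, huz, ha]
    · have h5 : (wc ^ i₀) ^ (m * j) = wc ^ j := by
        rw [← pow_mul, ← mul_assoc, pow_mul, pow_eq_pow_mod _ hwcp, hm, pow_one]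
      rw [map_mul, map_inv, map_pow, hi₀, hj, (show Commute zc (wc ^ i₀) from hCab _ _).mul_pow, h5,
        mul_inv_rev, hCab a (wc ^ j), hCab (wc ^ j)⁻¹, mul_assoc, inv_mul_cancel_left]
  obtain ⟨m₁, -, hm₁⟩ := Nat.exists_mul_mod_eq_one_of_coprime
    (hp'.coprime_iff_not_dvd.2 hi₀p).symm hp'.one_lt
  set V : MulAut C := u' ^ (m₁ * (p - 1)) with hV
  have hV0 : V ∈ F.autGroup C := pow_mem hu'0 _
  have hu'iter : ∀ n : ℕ, (u' ^ n) wc = wc ∧ (u' ^ n) zc = zc * wc ^ (i₀ * n) ∧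
      ∀ k : C, u' k = k → (u' ^ n) k = k := by
    intro n
    induction n with
    | zero => simp
    | succ n ih =>
      refine ⟨?_, ?_, fun k hk => ?_⟩
      · rw [pow_succ', MulAut.mul_apply, ih.1, hu'w]
      · rw [pow_succ', MulAut.mul_apply, ih.2.1, map_mul, map_pow, hu'w, hi₀, mul_assoc, ← pow_add,
          mul_add, mul_one, add_comm]
      · rw [pow_succ', MulAut.mul_apply, ih.2.2 k hk, hk]
  have hVw : V wc = wc := (hu'iter _).1
  have hVz : V zc = zc * wc⁻¹ := by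
    rw [(hu'iter _).2.1]
    congr 1
    refine eq_inv_of_mul_eq_one_left ?_
    rw [← mul_assoc, pow_mul, pow_eq_pow_mod _ hwcp, hm₁, pow_one, ← pow_succ,
      Nat.sub_add_cancel hp'.one_le, hwcp]
  set T := u * V * u with hT
  have hTz : T zc = wc⁻¹ := by
    show u (V (u zc)) = _
    rw [huz, hVz, map_mul, map_inv, huz, huw, mul_inv_rev, mul_inv_cancel_left]
  have hTw : T wc = zc := by
    show u (V (u wc)) = _
    rw [huw, map_mul, hVw, hVz, hCab zc, mul_inv_cancel_left, huz]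
  set τ := T * T with hτ
  have hτ0 : τ ∈ F.autGroup C :=
    mul_mem (mul_mem (mul_mem hu0 hV0) hu0) (mul_mem (mul_mem hu0 hV0) hu0)
  have hτz : τ zc = zc⁻¹ := by
    show T (T zc) = _
    rw [hTz, map_inv, hTw]
  have hτw : τ wc = wc⁻¹ := by
    show T (T wc) = _
    rw [hTw, hTz]
  have hτk : ∀ k : C, u k = k → u' k = k → τ k = k := fun k hk hk' => by
    show u (V (u (u (V (u k))))) = k
    simp only [hk, (hu'iter _).2.2 k hk', hV]
  have hcomm : ∀ c : C, τ (u c) = u (τ c) := by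
    intro c
    obtain ⟨l, i, k, rfl, hk, hk'⟩ := hdec2 c
    simp only [map_mul, map_pow, map_inv, huz, huw, hk, hτz, hτw, hτk k hk hk', mul_inv_rev,
      hCab wc⁻¹ zc⁻¹]
  -- extend `τ`
  have hCnS : S ≤ Subgroup.normalizer (C : Set Ω) := StronglyClosed.normal_in hCsc
  have hfn : F.IsFullyNormalized C := ⟨hCS, fun R _ => by
    rw [show normalizerIn S C = S from inf_eq_left.2 hCnS]
    exact Subgroup.card_le_of_le inf_le_left⟩
  have hrec := IsSaturated.receptive hS hF (IsSaturated.fullyCentralized hS hF hfn)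
  have hiso := (mem_autGroup_iff_isoIn (F := F) hCS).1 hτ0
  have hext : C ⊔ Subgroup.zpowers (y : Ω) ≤ extender S C (isoHom (τ : C ≃* C)) := by
    refine sup_le (le_extender hCS fun x => hom_apply_mem hiso.mem x) (Subgroup.zpowers_le.2
      (mem_extender_iff.2 ⟨hPS y.2, hyC, y, hPS y.2, fun c hc => ?_⟩))
    rw [isoHom_apply, isoHom_apply,
      show (τ : C ≃* C) ⟨(y : Ω) * c * (y : Ω)⁻¹, hc⟩ = _ from hcomm c, huval]
  obtain ⟨ψ, hψ, hψv⟩ := exists_extension hrec hiso le_sup_left hext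
  let R' : Subgroup Ω := C ⊔ Subgroup.zpowers (y : Ω)
  let yR : R' := ⟨y, le_sup_right (a := C) (Subgroup.mem_zpowers _)⟩
  let y' : P := ⟨ψ yR, StronglyClosed.apply_mem hP hψ y.2⟩
  have hconj : ∀ c : C, (y' : Ω) * (τ c : Ω) * (y' : Ω)⁻¹ = (y : Ω) * (τ c : Ω) * (y : Ω)⁻¹ := by
    intro c
    have h1 : ψ (yR * Subgroup.inclusion le_sup_left c * yR⁻¹) = (τ (u c) : Ω) := by
      rw [show yR * Subgroup.inclusion le_sup_left c * yR⁻¹ =
        Subgroup.inclusion le_sup_left (u c) from Subtype.ext rfl]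
      exact hψv (u c)
    rw [map_mul, map_mul, map_inv, hcomm, huval,
      show ψ (Subgroup.inclusion le_sup_left c) = (τ c : Ω) from hψv c] at h1
    exact h1
  have hcw : Commute (y⁻¹ * y') w := by
    have h1 := hconj (τ⁻¹ wc)
    rw [MulAut.apply_inv_self] at h1
    have h2 : y' * w * y'⁻¹ = y * w * y⁻¹ := Subtype.ext h1
    refine mul_inv_eq_iff_eq_mul.1 ?_
    calc y⁻¹ * y' * w * (y⁻¹ * y')⁻¹ = y⁻¹ * (y' * w * y'⁻¹) * y := by group
      _ = w := by rw [h2]; group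
  set c := y⁻¹ * y' with hcd
  have hyc : y' = y * c := by rw [hcd, mul_inv_cancel_left]
  have hyp : y' ^ p = y ^ p := by
    have hcc : ⁅c, y⁆ ∈ Subgroup.center P := (Subgroup.zpowers_le.2 hzc) (hcm c y)
    rw [hyc, PGroups.mul_pow_of_central_odd hcc (hp'.odd_of_ne_two hodd') (hcexp _ hcc),
      hexp c hcw, mul_one]
  have hfin : y' ^ p = (z ^ r)⁻¹ := by
    refine Subtype.ext ?_
    have h1 : yR ^ p = Subgroup.inclusion le_sup_left (zc ^ r) := Subtype.ext (by
      show (y : Ω) ^ p = ((zc ^ r : C) : Ω)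
      calc (y : Ω) ^ p = ((y ^ p : P) : Ω) := (Subgroup.coe_pow _ _ _).symm
        _ = ((z ^ r : P) : Ω) := congrArg (fun v : P => (v : Ω)) hr'.symm
        _ = _ := (Subgroup.coe_pow _ _ _).trans (Subgroup.coe_pow _ _ _).symm)
    rw [Subgroup.coe_pow, show ((y' : P) : Ω) = ψ yR from rfl, ← map_pow, h1,
      show ψ (Subgroup.inclusion le_sup_left (zc ^ r)) = (τ (zc ^ r) : Ω) from hψv _, map_pow,
      hτz, inv_pow, Subgroup.coe_inv, Subgroup.coe_pow, Subgroup.coe_inv, Subgroup.coe_pow]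
  rw [hyp, ← hr'] at hfin
  have h22 : z ^ (r * 2) = 1 := by
    rw [pow_mul, pow_two]
    nth_rw 1 [hfin]
    rw [inv_mul_cancel]
  rcases hp'.dvd_mul.1 (hz ▸ orderOf_dvd_of_pow_eq_one h22) with h | h
  · exact hrp h
  · exact hodd' ((Nat.prime_dvd_prime_iff_eq hp' Nat.prime_two).1 h)

/-- A strongly closed generalized extraspecial subgroup which is not exceptional is normal. -/
theorem genExtraspecial_stronglyClosed_normal [Fact p.Prime] [Finite S] (hS : IsPGroup p S)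
    (hF : F.IsSaturated p) {P : Subgroup Ω} (hP : F.StronglyClosed P)
    (hge : frattini ↥P = commutator ↥P ∧ Nat.card ↥(commutator ↥P) = p)
    (h2 : p = 2 → ¬ ∃ (A : Type) (_ : CommGroup A), (∀ a : A, a ^ 2 = 1) ∧
      Nonempty (P ≃* DihedralGroup 4 × A))
    (hodd : p ≠ 2 → ¬ ∃ (E : Type) (_ : Group E) (A : Type) (_ : CommGroup A),
      Cfsg.IsExtraspecial p E ∧ Nat.card E = p ^ 3 ∧ Monoid.exponent E = p ∧
        (∀ a : A, a ^ p = 1) ∧ Nonempty (P ≃* E × A)) : F.IsNormal P := by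
  have hp' : p.Prime := Fact.out
  have hPS := hP.1
  have : Finite P := finite_le hPS
  have : IsCyclic (commutator P) := isCyclic_of_prime_card hge.2
  obtain ⟨⟨z, hzm⟩, hgen⟩ := IsCyclic.exists_generator (α := commutator P)
  have hmem : ∀ t : P, t ∈ commutator P → t ∈ Subgroup.zpowers z := fun t ht => by
    obtain ⟨k, hk⟩ := hgen ⟨t, ht⟩
    exact ⟨k, congrArg Subtype.val hk⟩
  have hz : orderOf z = p := by
    rw [show orderOf z = orderOf (⟨z, hzm⟩ : commutator P) from Subgroup.orderOf_mk _ _ |>.symm,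
      orderOf_eq_card_of_forall_mem_zpowers hgen, hge.2]
  have hcm : ∀ a b : P, ⁅a, b⁆ ∈ Subgroup.zpowers z := fun a b =>
    hmem _ (Subgroup.commutator_mem_commutator (Subgroup.mem_top a) (Subgroup.mem_top b))
  have hpow : ∀ a : P, a ^ p ∈ Subgroup.zpowers z := fun a =>
    hmem _ (hge.1 ▸ PGroups.pow_mem_frattini (hS.to_le hPS) a)
  have hnab : ∃ a b : P, ¬ Commute a b := by
    by_contra hall
    push Not at hall
    have hbot : commutator P = ⊥ := le_bot_iff.1 (by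
      rw [commutator_def]
      exact Subgroup.commutator_le.2 fun a _ b _ =>
        Subgroup.mem_bot.2 (commutatorElement_eq_one_iff_mul_comm.2 (hall a b)))
    have := hge.2
    rw [hbot, Subgroup.card_bot] at this
    exact hp'.one_lt.ne this
  set A : Subgroup Ω := Subgroup.zpowers (z : Ω) with hA
  have hAP : A ≤ P := Subgroup.zpowers_le.2 z.2
  have hSn : S ≤ Subgroup.normalizer (P : Set Ω) := StronglyClosed.normal_in hP
  -- `P'` is central in `S`
  have hzS : ∀ s ∈ S, s * (z : Ω) = (z : Ω) * s := by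
    have hAmem : ∀ s ∈ S, ∀ x ∈ A, s * x * s⁻¹ ∈ A := by
      intro s hs x hx
      have hhom : conjHom P s ∈ F.Hom P := F.conj_mem hPS hs
      let f : P →* P := (conjHom P s).codRestrict P fun x => StronglyClosed.apply_mem hP hhom x.2
      have hfc : (commutator P).map f ≤ commutator P := by
        rw [commutator_def, Subgroup.map_commutator]
        exact Subgroup.commutator_mono le_top le_top
      obtain ⟨k, rfl⟩ := hx
      obtain ⟨l, hl⟩ := hmem _ (hfc ⟨z, hzm, rfl⟩)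
      refine ⟨l * k, ?_⟩
      show (z : Ω) ^ (l * k) = s * (z : Ω) ^ k * s⁻¹
      rw [← conj_zpow, zpow_mul]
      exact congrArg (fun v : Ω => v ^ k) ((Subgroup.coe_zpow P z l).symm.trans
        (congrArg (fun v : P => (v : Ω)) hl))
    have : (A.subgroupOf S).Normal := ⟨fun a ha s => hAmem s s.2 a ha⟩
    have hle := PGroups.le_center_of_card_prime (G := S) hS (N := A.subgroupOf S) (by
      rw [Nat.card_congr (Subgroup.subgroupOfEquivOfLe (hAP.trans hPS)).toEquiv, hA,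
        Nat.card_zpowers, Subgroup.orderOf_coe, hz])
    intro s hs
    exact congrArg Subtype.val (Subgroup.mem_center_iff.1
      (hle (show (⟨z, hPS z.2⟩ : S) ∈ A.subgroupOf S from Subgroup.mem_zpowers (z : Ω))) ⟨s, hs⟩)
  -- `P'` is strongly closed
  have hAsc : F.StronglyClosed A := by
    refine ⟨hAP.trans hPS, fun R hR φ hφ x => ?_⟩
    obtain ⟨k, hk⟩ := hR x.2
    by_cases hk0 : (z : Ω) ^ k = 1
    · rw [show x = 1 from Subtype.ext (hk.symm.trans hk0), map_one]; exact A.one_mem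
    have hzR : (z : Ω) ∈ R := by
      have : Finite A := finite_le (hAP.trans hPS)
      have h1 : Subgroup.zpowers (x : Ω) = A := by
        refine Subgroup.eq_of_le_of_card_ge (Subgroup.zpowers_le.2 (hR x.2)) ?_
        rw [hA, Nat.card_zpowers, Subgroup.orderOf_coe, hz, Nat.card_zpowers]
        have h2 : orderOf (x : Ω) ∣ p := by
          rw [← hk, ← hz, ← Subgroup.orderOf_coe z]
          exact orderOf_dvd_of_mem_zpowers ⟨k, rfl⟩
        rcases (Nat.dvd_prime hp').1 h2 with h | h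
        · exact absurd (hk.trans (orderOf_eq_one_iff.1 h)) hk0
        · exact h.ge
      have h3 : (z : Ω) ∈ Subgroup.zpowers (x : Ω) := h1 ▸ Subgroup.mem_zpowers _
      exact (Subgroup.zpowers_le.2 x.2) h3
    have hw := genExtraspecial_fixed hS hF hP hz hzS hcm hpow hnab h2 hodd hφ hzR
      (w := ⟨φ ⟨z, hzR⟩, StronglyClosed.apply_mem hP hφ z.2⟩) rfl
    obtain ⟨l, hl⟩ := hw
    rw [show x = (⟨z, hzR⟩ : R) ^ k from Subtype.ext hk.symm, map_zpow]
    exact A.zpow_mem ⟨l, congrArg Subtype.val hl⟩ k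
  refine isNormal_of_series hS hF hP (n := 2) ![⊥, A, P] rfl rfl ?_ ?_ ?_
  · refine Fin.monotone_iff_le_succ.2 fun i => ?_
    fin_cases i
    · exact bot_le
    · exact hAP
  · intro i
    fin_cases i
    · refine Subgroup.commutator_le.2 fun a ha b hb => Subgroup.mem_bot.2 ?_
      obtain ⟨k, rfl⟩ := (ha : a ∈ A)
      exact commutatorElement_eq_one_iff_mul_comm.2
        (Commute.zpow_left (hzS b (hPS hb)).symm k).eq
    · refine Subgroup.commutator_le.2 fun a ha b hb => ?_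
      obtain ⟨l, hl⟩ := hcm ⟨a, ha⟩ ⟨b, hb⟩
      exact ⟨l, congrArg Subtype.val hl⟩
  · intro i
    fin_cases i
    · exact StronglyClosed.weaklyClosed stronglyClosed_bot
    · exact StronglyClosed.weaklyClosed hAsc

end CfsgLib.Fusion
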