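import Cfsg.Agent.Lib.Fusion.ComponentExists
import Cfsg.Agent.Lib.Fusion.InvariantInherit

/-!
# A quasisimple system has no proper normal subsystem over the whole subgroup
-/

set_option autoImplicit false
set_option maxHeartbeats 800000
set_option linter.unusedSectionVars false

namespace CfsgLib.Fusion

open Cfsg Cfsg.FusionSystem

universe u

variable {Ω : Type u} [Group Ω] {S : Subgroup Ω} {F D : FusionSystem S} {p : ℕ}

/-- A weakly normal subsystem over `S` maps onto the simple factor of a quasisimple system. -/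
theorem hom_mod_center [Fact p.Prime] [Finite S] (hS : IsPGroup p S) (hq : F.Quasisimple p)
    (hDs : D.IsSaturated p) (hD : D.IsInvariantIn F) {R : Subgroup Ω} (hZR : F.center ≤ R)
    {φ : R →* Ω} (hφ : φ ∈ F.Hom R) :
    ∃ ψ ∈ D.Hom R, ∀ x : R, (φ x)⁻¹ * ψ x ∈ F.center := by
  obtain ⟨hF, -, hfac⟩ := hq
  set q := QuotientGroup.mk' (F.center.subgroupOf S) with hqdef
  have hθ : ∀ s : S, q s = 1 ↔ (s : Ω) ∈ F.center := fun s => QuotientGroup.eq_one_iff s
  have hr : q.range = ⊤ := MonoidHom.range_eq_top.2 (QuotientGroup.mk'_surjective _)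
  have hscF : F.StronglyClosed F.center := IsNormal.stronglyClosed (isCentral_isNormal center_isCentral)
  have hscD : D.StronglyClosed F.center :=
    ⟨hscF.1, fun R hR φ hφ x => hscF.2 R hR φ (hD.1 R hφ) x⟩
  set E := factorSystem F hscF q hθ hr
  set Db := factorSystem D hscD q hθ hr
  obtain ⟨hEs, htop, hsimple⟩ := hfac E ⟨hscF.1, hθ, hr, fun _ _ => Iff.rfl⟩
  have hDbs : Db.IsSaturated p :=
    factor_saturated hS hDs hscD (E := Db) ⟨hscD.1, hθ, hr, fun _ _ => Iff.rfl⟩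
  have hpre : S ≤ preimageAlong q ⊤ := fun s hs =>
    mem_preimageAlong.2 (Subgroup.mem_top (q ⟨s, hs⟩))
  have hrg : ∀ {P' : Subgroup (S ⧸ F.center.subgroupOf S)}, P' ≤ q.range := fun {P'} =>
    hr ▸ le_top
  have hsub : Db.IsSubsystemOf E := by
    rintro P' φ' ⟨hP', ψ, hψ, hind⟩
    exact ⟨hP', ψ, hD.1 _ hψ, hind⟩
  have hEv : ∀ {P' : Subgroup (S ⧸ F.center.subgroupOf S)} {ψ : preimageAlong q P' →* Ω}
      {φ' : P' →* S ⧸ F.center.subgroupOf S}, InducedAlong q ψ φ' →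
      ∀ (x : preimageAlong q P') (hm : q ⟨x, preimageAlong_le q P' x.2⟩ ∈ P') (hv : ψ x ∈ S),
        φ' ⟨q ⟨x, preimageAlong_le q P' x.2⟩, hm⟩ = q ⟨ψ x, hv⟩ :=
    fun h x hm hv => inducedAlong_apply h x _ _ _
  have hinv : Db.IsInvariantIn E := by
    refine ⟨hsub, ⟨le_rfl, fun _ _ _ _ _ => Subgroup.mem_top _⟩, fun P' hP' φ' hφ' α' hα' => ?_,
      fun P' hP' φ' hφ' => ?_⟩
    · obtain ⟨-, φa, hφa, hinda⟩ := (mem_autGroup_iff le_rfl).1 hα'
      have := finite_le (le_refl S)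
      have hres := restrict_mem hφa hpre
      obtain ⟨α, hα, hαv⟩ := exists_iso hres (Q := S) (Subgroup.eq_of_le_of_card_ge
        (hom_range_le hres)
        (Nat.card_congr (MonoidHom.ofInjective (F.injective_of_mem hres)).toEquiv).le)
      have hcomm : ∀ s : S, ((α' ⟨q s, Subgroup.mem_top _⟩ : (⊤ : Subgroup _)) : _) = q (α s) := by
        intro s
        refine (hEv hinda (Subgroup.inclusion hpre s) (Subgroup.mem_top _)
          (hom_apply_mem hφa _)).trans ?_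
        exact congrArg q (Subtype.ext (hαv s).symm)
      obtain ⟨-, ψ, hψ, hind⟩ := hφ'
      obtain ⟨χ, hχ, hχv⟩ := hD.2.2.1 _ (preimageAlong_le q P') ψ hψ (α : MulAut S)
        ((mem_autGroup_iff_isoIn le_rfl).2 hα)
      set P'' := (P'.subgroupOf ⊤).map ((⊤ : Subgroup _).subtype.comp α'.toMonoidHom) with hP''
      have hle : preimageAlong q P'' ≤ ((preimageAlong q P').subgroupOf S).map
          (S.subtype.comp (α : MulAut S).toMonoidHom) := by
        intro s hs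
        have hsS := preimageAlong_le q P'' hs
        obtain ⟨y, hy, hyv⟩ : q ⟨s, hsS⟩ ∈ P'' :=
          (mem_preimageAlong (θ := q) (x := ⟨s, hsS⟩)).1 hs
        refine ⟨α.symm ⟨s, hsS⟩, ?_, congrArg Subtype.val (α.apply_symm_apply _)⟩
        refine mem_preimageAlong.2 ?_
        have h1 : α' y = α' ⟨q (α.symm ⟨s, hsS⟩), Subgroup.mem_top _⟩ := Subtype.ext (by
          rw [hcomm, MulEquiv.apply_symm_apply]
          exact hyv)
        have h2 : (y : S ⧸ F.center.subgroupOf S) = q (α.symm ⟨s, hsS⟩) :=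
          congrArg Subtype.val (α'.injective h1)
        exact h2 ▸ (hy : (y : S ⧸ F.center.subgroupOf S) ∈ P')
      have hχ₀ := restrict_mem hχ hle
      obtain ⟨χ', hχ'⟩ := exists_induced hscD hθ hrg hχ₀
      refine ⟨χ', ⟨le_top, _, hχ₀, hχ'⟩, fun y hy1 hy2 => ?_⟩
      obtain ⟨x, hx⟩ := exists_preimage hrg y
      have hm : q ⟨x, preimageAlong_le q P' x.2⟩ ∈ P' := hx ▸ y.2
      obtain rfl : y = ⟨_, hm⟩ := Subtype.ext hx.symm
      set s : S := α ⟨x, preimageAlong_le q P' x.2⟩ with hs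
      have h1 : ((α' ⟨q ⟨x, preimageAlong_le q P' x.2⟩, hP' hm⟩ : (⊤ : Subgroup _)) : _) = q s :=
        hcomm ⟨x, preimageAlong_le q P' x.2⟩
      have hsP : (s : Ω) ∈ preimageAlong q P'' := mem_preimageAlong.2 (h1 ▸ hy2)
      have hψS : ψ x ∈ S := hom_apply_mem hψ x
      have h3 := hEv hχ' ⟨s, hsP⟩ (mem_preimageAlong.1 hsP) (hom_apply_mem hχ₀ _)
      refine Eq.trans (congrArg χ' (Subtype.ext h1)) (Eq.trans h3 ?_)
      rw [show (⟨φ' ⟨q ⟨x, preimageAlong_le q P' x.2⟩, hm⟩, hy1⟩ : (⊤ : Subgroup _)) =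
        ⟨q ⟨ψ x, hψS⟩, Subgroup.mem_top _⟩ from Subtype.ext (hEv hind x hm hψS), hcomm]
      exact congrArg q (Subtype.ext (hχv x hψS (hle hsP)))
    · obtain ⟨-, φ₁, hφ₁, hind⟩ := hφ'
      obtain ⟨α, hα, φ₀, hφ₀, hv⟩ := hD.2.2.2 _ (preimageAlong_le q P') φ₁ hφ₁
      obtain ⟨φ₀', hφ₀'⟩ := exists_induced hscD hθ hrg hφ₀
      have hαF := (mem_autGroup_iff le_rfl).1 hα
      have hres := restrict_mem hαF (preimageAlong_le q ⊤)
      obtain ⟨a', ha'⟩ := exists_induced hscF hθ hrg hres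
      have haE : a' ∈ E.Hom ⊤ := ⟨le_rfl, _, hres, ha'⟩
      have : Finite (⊤ : Subgroup (S ⧸ F.center.subgroupOf S)) := inferInstance
      obtain ⟨α', hα', hα'v⟩ := exists_iso haE (Q := ⊤) (Subgroup.eq_of_le_of_card_ge le_top
        (Nat.card_congr (MonoidHom.ofInjective (E.injective_of_mem haE)).toEquiv).le)
      refine ⟨α', (mem_autGroup_iff_isoIn le_rfl).2 hα', φ₀', ⟨le_top, _, hφ₀, hφ₀'⟩,
        fun y hy => ?_⟩
      obtain ⟨x, hx⟩ := exists_preimage hrg y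
      have hm : q ⟨x, preimageAlong_le q P' x.2⟩ ∈ P' := hx ▸ y.2
      obtain rfl : y = ⟨_, hm⟩ := Subtype.ext hx.symm
      have h0 : φ₀ x ∈ S := hom_apply_mem hφ₀ x
      rw [hEv hind x hm (hom_apply_mem hφ₁ x)]
      rw [show (⟨φ₀' ⟨q ⟨x, preimageAlong_le q P' x.2⟩, hm⟩, hy⟩ : (⊤ : Subgroup _)) =
        ⟨q ⟨φ₀ x, h0⟩, Subgroup.mem_top _⟩ from Subtype.ext (hEv hφ₀' x hm h0)]
      refine Eq.trans ?_ (hα'v _).symm
      refine Eq.trans ?_ (hEv ha' ⟨φ₀ x, hpre h0⟩ (Subgroup.mem_top _) (hom_apply_mem hres _)).symm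
      exact congrArg q (Subtype.ext (hv x h0))
  have : Finite (⊤ : Subgroup (S ⧸ F.center.subgroupOf S)) := inferInstance
  rcases hsimple _ Db (isNormalIn_of_centralizer_le hDbs hEs hinv fun _ _ => Subgroup.mem_top _) with
    hbot | ⟨-, heq⟩
  · exact absurd hbot htop
  -- lift back
  have hRS := hom_le hφ
  have hpR : preimageAlong q (imageAlong q R) = R ⊔ F.center := preimageAlong_imageAlong hscF.1 hθ hRS
  have hle : preimageAlong q (imageAlong q R) ≤ R := hpR.le.trans (sup_le le_rfl hZR)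
  have hge : R ≤ preimageAlong q (imageAlong q R) := le_sup_left.trans hpR.ge
  have hφ₀ := restrict_mem hφ hle
  obtain ⟨φ', hind⟩ := exists_induced hscF hθ hrg hφ₀
  have hφ' : φ' ∈ E.Hom (imageAlong q R) := ⟨le_top, _, hφ₀, hind⟩
  rw [← heq] at hφ'
  obtain ⟨-, ψ₀, hψ₀, hindψ⟩ := hφ'
  refine ⟨_, restrict_mem hψ₀ hge, fun x => ?_⟩
  set w : preimageAlong q (imageAlong q R) := ⟨x, hge x.2⟩ with hw
  have hm : q ⟨w, preimageAlong_le q _ w.2⟩ ∈ imageAlong q R := mem_preimageAlong.1 w.2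
  have h1 := (hEv hind w hm (hom_apply_mem hφ₀ w)).symm.trans
    (hEv hindψ w hm (hom_apply_mem hψ₀ w))
  exact (hθ (⟨φ x, hom_apply_mem hφ x⟩⁻¹ * ⟨ψ₀ w, hom_apply_mem hψ₀ w⟩)).1 (by
    rw [map_mul, map_inv, inv_mul_eq_one]
    exact h1)

/-- A weakly normal subsystem over the whole subgroup of a quasisimple system is the whole. -/
theorem eq_of_quasisimple [Fact p.Prime] [Finite S] (hS : IsPGroup p S) (hq : F.Quasisimple p)
    (hDs : D.IsSaturated p) (hD : D.IsInvariantIn F) : ∀ P : Subgroup Ω, F.Hom P ⊆ D.Hom P := by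
  have hF := hq.1
  have hZ : F.IsCentral F.center := center_isCentral
  have hfix := ((isCentral_iff hS hF).1 hZ).2
  refine alperin hS hF D fun P hP a ha => ?_
  have hPS : P ≤ S := by
    rcases hP with rfl | hP
    · exact le_rfl
    · exact hP.1.1
  have hc : centralizerIn S P ≤ P := by
    rcases hP with rfl | hP
    · exact inf_le_left
    · exact hP.1.2 P (isConj_refl hPS)
  have hZP : F.center ≤ P := fun z hz => hc (mem_centralizerIn.2
    ⟨center_le hz, fun y hy => ((IsCentral.le_centralizer hZ hz).2 y (hPS hy))⟩)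
  have := finite_le hPS
  obtain ⟨ψ, hψ, hψv⟩ := hom_mod_center hS hq hDs hD hZP ((mem_autGroup_iff hPS).1 ha)
  obtain ⟨b, hb, hbv⟩ := exists_iso hψ (Q := P) (Subgroup.eq_of_le_of_card_ge (by
      rintro _ ⟨x, rfl⟩
      have := P.mul_mem (a x).2 (hZP (hψv x))
      simpa using this)
    (Nat.card_congr (MonoidHom.ofInjective (D.injective_of_mem hψ)).toEquiv).le)
  have hbD : (b : MulAut P) ∈ D.autGroup P := (mem_autGroup_iff_isoIn hPS).2 hb
  obtain ⟨c, hc'⟩ : ∃ c : MulAut P, c = a⁻¹ * (b : MulAut P) := ⟨_, rfl⟩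
  have hcF : c ∈ F.autGroup P := hc' ▸ mul_mem (Subgroup.inv_mem _ ha)
    ((mem_autGroup_iff hPS).2 (hD.1 P ((mem_autGroup_iff hPS).1 hbD)))
  -- `c` moves by central elements
  have hshift : ∀ x : P, ((x⁻¹ * c x : P) : Ω) ∈ F.center := fun x => by
    set z : P := ⟨(a x : Ω)⁻¹ * ψ x, hZP (hψv x)⟩ with hz
    have hzfix : a⁻¹ z = z := Subtype.ext
      (hfix _ (hψv x) _ (isConjElt_of_hom ((mem_autGroup_iff hPS).1 (Subgroup.inv_mem _ ha)) z))
    have hb' : (b : MulAut P) x = a x * z := Subtype.ext (by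
      rw [Subgroup.coe_mul, hz, mul_inv_cancel_left]
      exact hbv x)
    rw [hc', MulAut.mul_apply, hb', map_mul, MulAut.inv_apply_self, hzfix, inv_mul_cancel_left]
    exact hψv x
  have hcp : ∃ k : ℕ, c ^ p ^ k = 1 := by
    obtain ⟨k, hk⟩ := IsPGroup.iff_card.1 (hS.to_le hPS)
    refine ⟨k, MulEquiv.ext fun x => ?_⟩
    rw [pow_shift c (mul_inv_cancel_left x _).symm
      (Subtype.ext (hfix _ (hshift x) _ (isConjElt_of_hom ((mem_autGroup_iff hPS).1 hcF) _)))
      (p ^ k), ← hk, pow_card_eq_one', mul_one]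
    rfl
  have hcD := pElement_mem hS hF hF isInvariantIn_refl hD hPS hcF hcp
  rw [show a = (b : MulAut P) * c⁻¹ by rw [hc']; group]
  exact mul_mem hbD (Subgroup.inv_mem _ hcD)

end CfsgLib.Fusion
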