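import Cfsg.Agent.Lib.Fusion.Meet
import Cfsg.Agent.Lib.Fusion.QuasisimpleTop

/-!
# The layer

A component lies in every normal subsystem over a subgroup containing its own; the least normal
subsystem containing the components is the layer.
-/

set_option autoImplicit false

namespace CfsgLib.Fusion

open Cfsg Cfsg.FusionSystem

universe u

variable {Ω : Type u} [Group Ω] {S : Subgroup Ω} {F : FusionSystem S} {p : ℕ}

/-- A system is normal in itself. -/
theorem isNormalIn_refl [Fact p.Prime] [Finite S] (hF : F.IsSaturated p) : F.IsNormalIn F p :=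
  isNormalIn_of_centralizer_le hF hF isInvariantIn_refl inf_le_left

theorem subnormal_le {T : Subgroup Ω} {C : FusionSystem T} (hC : C.IsSubnormalIn F p) : T ≤ S :=
  IsSubsystemOf.le (IsSubnormalIn.isSubsystemOf hC)

theorem component_subnormal_aux {T : Subgroup Ω} {C : FusionSystem T}
    (hC : C.IsSubnormalIn F p) : p.Prime → Finite S → IsPGroup p S → F.IsSaturated p →
      C.Quasisimple p → ∀ (W : Subgroup Ω) (E : FusionSystem W), E.IsNormalIn F p → T ≤ W →
        C.IsSubnormalIn E p := by
  induction hC with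
  | refl F p =>
    intro hp hfin hS hF hq W E hE hle
    have := Fact.mk hp
    obtain rfl := le_antisymm hE.1.2.2.2.1.1 hle
    obtain rfl : E = F := fusionSystem_ext fun P =>
      (hE.1.2.2.1 P).antisymm (eq_of_quasisimple hS hq hE.1.1 hE.1.2.2 P)
    exact IsSubnormalIn.refl _ p
  | step h hn ih =>
    intro hp hfin hS hF hq W E hE hle
    have := Fact.mk hp
    have hU := hn.1.2.2.2.1
    have := finite_le hU.1
    have := finite_le hE.1.2.2.2.1.1
    obtain ⟨M, ⟨-, hMD, hME⟩, -⟩ := Meet.Data.exists_meet ⟨hS, hF, hn, hE⟩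
    exact IsSubnormalIn.step
      (ih hp inferInstance (hS.to_le hU.1) hn.1.1 hq _ M hMD (le_inf (subnormal_le h) hle)) hME

/-- A component of `F` is a component of every normal subsystem over a subgroup containing it. -/
theorem component_of_le [Fact p.Prime] [Finite S] (hS : IsPGroup p S) (hF : F.IsSaturated p)
    {T W : Subgroup Ω} {C : FusionSystem T} {E : FusionSystem W} (hC : C.IsComponentIn F p)
    (hE : E.IsNormalIn F p) (hle : T ≤ W) : C.IsComponentIn E p :=
  ⟨component_subnormal_aux hC.1 Fact.out inferInstance hS hF hC.2 W E hE hle, hC.2⟩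

/-- Every saturated system has a layer. -/
theorem exists_layer [Fact p.Prime] [Finite S] (hS : IsPGroup p S) (hF : F.IsSaturated p) :
    ∃ (T : Subgroup Ω) (E : FusionSystem T), E.IsLayerOf F p := by
  classical
  have hex : ∃ (n : ℕ) (T : Subgroup Ω) (E : FusionSystem T), E.IsNormalIn F p ∧
      (∀ (U : Subgroup Ω) (C : FusionSystem U), C.IsComponentIn F p → C.IsSubsystemOf E) ∧
      (homGraphs E).ncard = n :=
    ⟨_, S, F, isNormalIn_refl hF, fun _ _ hC => IsSubnormalIn.isSubsystemOf hC.1, rfl⟩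
  obtain ⟨T, E, hE, hcomp, hcard⟩ := Nat.find_spec hex
  refine ⟨T, E, hE, hcomp, fun R D hD hDcomp => ?_⟩
  have := finite_le hE.1.2.2.2.1.1
  have := finite_le hD.1.2.2.2.1.1
  obtain ⟨M, ⟨hMF, hME, hMD⟩, -⟩ := Meet.Data.exists_meet ⟨hS, hF, hE, hD⟩
  have hM : ∀ (U : Subgroup Ω) (C : FusionSystem U), C.IsComponentIn F p → C.IsSubsystemOf M :=
    fun U C hC => IsSubnormalIn.isSubsystemOf (component_of_le hS hF hC hMF
      (le_inf (IsSubsystemOf.le (hcomp U C hC)) (IsSubsystemOf.le (hDcomp U C hC)))).1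
  have hall : T ⊓ R = T ∧ ∀ P : Subgroup Ω, M.Hom P = E.Hom P := by
    by_contra hne
    exact absurd (Nat.find_le ⟨_, M, hMF, hM, rfl⟩)
      (not_le.2 (hcard ▸ ncard_homGraphs_lt inf_le_left hME.1.2.2.1 hne))
  intro P φ hφ
  rw [← hall.2] at hφ
  exact hMD.1.2.2.1 P hφ

end CfsgLib.Fusion
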