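import Cfsg.Agent.Lib.Fusion.CentralProduct
import Cfsg.Agent.Lib.Fusion.Layer
import Cfsg.Agent.Lib.Fusion.ResidualSeries
import Cfsg.Agent.Lib.Fusion.ComponentCentralizes
import Cfsg.Prelude.Def_FusionFitting

/-!
# The generalized Fitting subsystem exists and is normal
-/

set_option autoImplicit false

namespace CfsgLib.Fusion.Central

open Cfsg Cfsg.FusionSystem CfsgLib.Fusion

universe u

variable {Ω : Type u} [Group Ω] {S T U : Subgroup Ω} {F : FusionSystem S} {E : FusionSystem T}
  {D : FusionSystem U} {p : ℕ} [Fact p.Prime] [Finite S]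

/-- The inner system of the core and a layer. -/
theorem core_layer_data (hS : IsPGroup p S) (hF : F.IsSaturated p) (hE : E.IsLayerOf F p) :
    CData p F (innerFusionSystem F.core) E := by
  have hN := inner_isNormalIn_of_normal hS hF (core_isNormal (F := F))
  have hQS : F.core ≤ S := (core_isNormal (F := F)).1
  have hTS : T ≤ S := hE.1.1.2.2.2.1.1
  have := finite_le hQS
  have := finite_le hTS
  have hcomm : ∀ x ∈ F.core, ∀ y ∈ T, x * y = y * x := fun x hx y hy =>
    (mem_centralizerIn.1 ((layer_centralizes_core hS hF hE T (incl_mem le_rfl)).2.1 hy)).2 x hx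
  refine ⟨hS, hF, hN, hE.1, hcomm, ?_, ?_⟩
  · refine le_center ((isCentral_iff (hS.to_le hQS) hN.1.1).2
      ⟨inf_le_left, fun x hx y hy => ?_⟩)
    obtain ⟨φ, ⟨-, g, hg, hv⟩, rfl⟩ := hy
    rw [hv]
    show g * x * g⁻¹ = x
    rw [hcomm g hg x hx.2, mul_inv_cancel_right]
  · refine le_center ((isCentral_iff (hS.to_le hTS) hE.1.1.1).2
      ⟨inf_le_right, fun x hx y hy => ?_⟩)
    obtain ⟨φ, hφ, rfl⟩ := hy
    obtain ⟨-, -, -, ψ, -, hψP, hψQ⟩ := layer_centralizes_core hS hF hE _ hφ
    rw [← hψP]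
    exact (congrArg ψ (Subtype.ext rfl)).trans (hψQ ⟨x, hx.1⟩)

/-- A generalized Fitting subsystem is the central product of the core and a layer. -/
theorem fitting_eq (hS : IsPGroup p S) (hF : F.IsSaturated p) (hD : D.IsGeneralizedFittingOf F p) :
    ∃ (T : Subgroup Ω) (E : FusionSystem T) (h : CData p F (innerFusionSystem F.core) E),
      E.IsLayerOf F p ∧ U = F.core ⊔ T ∧ ∀ P : Subgroup Ω, D.Hom P = h.prodC.Hom P := by
  obtain ⟨T, E, hE, hc⟩ := hD
  exact ⟨T, E, core_layer_data hS hF hE, hE,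
    centralProduct_unique hc (core_layer_data hS hF hE).prodC_centralProduct⟩

/-- Every generalized Fitting subsystem is normal. -/
theorem fitting_normal (hS : IsPGroup p S) (hF : F.IsSaturated p)
    (hD : D.IsGeneralizedFittingOf F p) : D.IsNormalIn F p := by
  obtain ⟨T, E, h, -, rfl, hhom⟩ := fitting_eq hS hF hD
  rw [fusionSystem_ext hhom]
  exact h.prodC_normal

/-- Generalized Fitting subsystems exist. -/
theorem fitting_exists (hS : IsPGroup p S) (hF : F.IsSaturated p) :
    ∃ (U : Subgroup Ω) (D : FusionSystem U), D.IsGeneralizedFittingOf F p := by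
  obtain ⟨T, E, hE⟩ := exists_layer hS hF
  exact ⟨_, _, T, E, hE, (core_layer_data hS hF hE).prodC_centralProduct⟩

end CfsgLib.Fusion.Central
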