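import Cfsg.Agent.Lib.Fusion.Criterion

/-!
Preimages of normal subgroups of the system modulo an almost central normal subgroup.
-/

set_option autoImplicit false

namespace CfsgLib.Fusion

open Cfsg Cfsg.FusionSystem

universe u

variable {Ω : Type u} [Group Ω] {S : Subgroup Ω} {F : FusionSystem S} {p : ℕ}

/-- If the system acts on the normal subgroup `Q` as the elements of `S` do, then the preimage of a
normal subgroup of the factor system is normal. -/
theorem isNormal_preimageAlong [Fact p.Prime] [Finite S] (hS : IsPGroup p S)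
    (hF : F.IsSaturated p) {Q : Subgroup Ω} (hQn : F.IsNormal Q)
    (hact : ∀ R : Subgroup Ω, Q ≤ R → R ≤ S → ∀ b ∈ F.autGroup R, ∃ g ∈ S,
      ∀ x : R, (x : Ω) ∈ Q → ((b x : R) : Ω) = g * (x : Ω) * g⁻¹)
    {Ω' : Type u} [Group Ω'] {θ : S →* Ω'} {S' : Subgroup Ω'} {E : FusionSystem S'}
    (hE : F.IsFactorSystem Q θ E) {Z' : Subgroup Ω'} (hZ' : E.IsNormal Z') :
    F.IsNormal (preimageAlong θ Z') := by
  obtain ⟨hQS, hθ, hrange, -⟩ := id hE
  have hQsc := IsNormal.stronglyClosed hQn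
  obtain ⟨⟨-, hmor⟩, -, -⟩ := factor_isSurjectiveMorphism hS hF hQsc hE
  set Z := preimageAlong θ Z' with hZ
  have hZS : Z ≤ S := preimageAlong_le θ Z'
  refine (isNormal_iff_stronglyClosed_le hS hF).2 ⟨⟨hZS, fun R hR φ hφ x => ?_⟩, fun R hc hr => ?_⟩
  · obtain ⟨φ', hφ', hP, hφS, hP', hv⟩ := hmor R φ hφ
    refine (mem_preimageAlong (x := ⟨φ x, hφS x⟩)).2 ?_
    rw [← hv x]
    refine StronglyClosed.apply_mem (IsNormal.stronglyClosed hZ') hφ' ?_
    exact (mem_preimageAlong (θ := θ) (P' := Z') (x := ⟨x, hP x.2⟩)).1 (hR x.2)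
  have hRS := hc.1
  have := finite_le hRS
  have := finite_mulAut_of_le (S := S) hRS
  have hQR : Q ≤ R := IsNormal.le_centric_radical hS hQn hc hr
  have hker : ∀ x y : S, θ x = θ y → (x : Ω)⁻¹ * y ∈ Q := fun x y h => by
    have : θ (x⁻¹ * y) = 1 := by rw [map_mul, map_inv, h, inv_mul_cancel]
    exact (hθ _).1 this
  -- conjugations by `Z` modulo `Q`
  have hNZ : ∀ g : normalizerIn Z R, ∀ x : R, (g : Ω) * x * (g : Ω)⁻¹ ∈ R := fun g x =>
    (Subgroup.mem_normalizer_iff.1 g.2.2 x).1 x.2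
  let ι : R →* S := Subgroup.inclusion hRS
  let f : normalizerIn Z R →* S := Subgroup.inclusion (inf_le_left.trans hZS)
  let J : Subgroup (F.autGroup R) :=
    { carrier := {a | ∃ g : normalizerIn Z R, ∀ x : R,
        θ (ι ((a : MulAut R) x)) = θ (f g) * θ (ι x) * (θ (f g))⁻¹}
      one_mem' := ⟨1, fun x => by simp⟩
      mul_mem' := fun {a b} ⟨g, hg⟩ ⟨h, hh⟩ => ⟨g * h, fun x => by
        show θ (ι ((a : MulAut R) ((b : MulAut R) x))) = _
        rw [hg, hh, map_mul, map_mul]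
        group⟩
      inv_mem' := fun {a} ⟨g, hg⟩ => ⟨g⁻¹, fun x => by
        have h := hg ((a : MulAut R)⁻¹ x)
        rw [MulAut.apply_inv_self] at h
        show θ (ι ((a : MulAut R)⁻¹ x)) = _
        rw [map_inv, map_inv, h]
        group⟩ }
  have hJn : J.Normal := by
    refine ⟨fun a ⟨g, hg⟩ b => ?_⟩
    obtain ⟨φ', hφ', hP, hφS, hP', hv⟩ := hmor R _ ((mem_autGroup_iff hRS).1 b.2)
    obtain ⟨ψ, hψ, hψP, hψZ⟩ := hZ'.2 _ φ' hφ'
    have hgZ : θ (f g) ∈ Z' :=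
      (mem_preimageAlong (θ := θ) (P' := Z') (x := f g)).1 g.2.1
    obtain ⟨s, hs⟩ := hrange.ge (hZ'.1 (hψZ.le ⟨⟨_, Subgroup.mem_sup_right hgZ⟩, hgZ, rfl⟩))
    have hb : ∀ x : R, θ (ι ((b : MulAut R) x)) =
        ψ (Subgroup.inclusion le_sup_left ⟨θ (ι x), hP' x⟩) := fun x =>
      ((hψP _).trans (hv x)).symm
    -- conjugation by `s` agrees with the conjugate modulo `Q`
    have hconj : ∀ x : R, θ (ι (((b * a * b⁻¹ : F.autGroup R) : MulAut R) x)) =
        θ s * θ (ι x) * (θ s)⁻¹ := by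
      intro x
      set y := (b : MulAut R)⁻¹ x with hy
      have hxy : (b : MulAut R) y = x := MulAut.apply_inv_self R _ x
      show θ (ι ((b : MulAut R) ((a : MulAut R) y))) = _
      have h2 : (Subgroup.inclusion le_sup_left ⟨θ (ι ((a : MulAut R) y)), hP' _⟩ :
          ↥(imageAlong θ R ⊔ Z')) = ⟨θ (f g), Subgroup.mem_sup_right hgZ⟩ *
          Subgroup.inclusion le_sup_left ⟨θ (ι y), hP' y⟩ *
          ⟨θ (f g), Subgroup.mem_sup_right hgZ⟩⁻¹ := Subtype.ext (hg y)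
      rw [hb, h2, map_mul, map_mul, map_inv, ← hb, hxy, ← hs]
    have hsZ : (s : Ω) ∈ Z := mem_preimageAlong.2 (by
      rw [hs]
      exact hψZ.le ⟨⟨_, Subgroup.mem_sup_right hgZ⟩, hgZ, rfl⟩)
    refine ⟨⟨s, hsZ, Subgroup.mem_normalizer_iff_map_conj_eq.2 ?_⟩, hconj⟩
    have := finite_le hRS
    refine Subgroup.eq_of_le_of_card_ge ?_
      (le_of_eq (Subgroup.card_map_of_injective (MulEquiv.injective _)).symm)
    rintro _ ⟨y, hy, rfl⟩
    show (s : Ω) * y * (s : Ω)⁻¹ ∈ R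
    have h1 := hker (ι (((b * a * b⁻¹ : F.autGroup R) : MulAut R) ⟨y, hy⟩))
      (s * ι ⟨y, hy⟩ * s⁻¹) (by rw [hconj, map_mul, map_mul, map_inv])
    have h2 := R.mul_mem ((((b * a * b⁻¹ : F.autGroup R) : MulAut R) ⟨y, hy⟩).2) (hQR h1)
    simpa [ι] using h2
  have hJp : IsPGroup p J := by
    refine isPGroup_of_coprime_trivial fun a hc' => ?_
    obtain ⟨g, hg⟩ := a.2
    have hco : (orderOf ((a : F.autGroup R) : MulAut R)).Coprime p := by
      rwa [Subgroup.orderOf_coe, Subgroup.orderOf_coe]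
    obtain ⟨k, hk⟩ := hS (f g)
    have hθg : θ (f g) ^ p ^ k = 1 := by rw [← map_pow, hk, map_one]
    have hfix := eq_of_conj_on (fun x : R => θ (ι x)) (s := Set.univ) (fun _ _ => trivial) hco hθg
      (fun x _ => hg x)
    obtain ⟨h, hh, hhQ⟩ := hact R hQR hRS _ (a : F.autGroup R).2
    obtain ⟨l, hl⟩ := hS ⟨h, hh⟩
    have hfixQ := eq_of_conj_on (fun x : R => (x : Ω)) (s := {x : R | (x : Ω) ∈ Q})
      (fun y hy => StronglyClosed.apply_mem hQsc
        ((mem_autGroup_iff hRS).1 (a : F.autGroup R).2) hy) hco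
      (show h ^ p ^ l = 1 by simpa using congrArg Subtype.val hl) hhQ
    refine Subtype.ext (Subtype.ext ?_)
    refine eq_one_of_fix_mod hS hRS (Q := Q) hco (fun x hx => Subtype.ext (hfixQ x hx))
      fun x => ?_
    exact hker (ι x) (ι (((a : F.autGroup R) : MulAut R) x)) (hfix x trivial).symm
  have hNR : normalizerIn Z R ≤ R := by
    intro z hz
    set c : F.autGroup R := ⟨conjAut ⟨z, hZS hz.1, hz.2⟩,
      autInducedBy_le_autGroup hRS (conjAut_mem _)⟩
    have hcJ : c ∈ J := ⟨⟨z, hz⟩, fun x => by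
      rw [show ι ((c : MulAut R) x) = f ⟨z, hz⟩ * ι x * (f ⟨z, hz⟩)⁻¹ from Subtype.ext rfl,
        map_mul, map_mul, map_inv]⟩
    obtain ⟨r, hrv⟩ := hr.2.le ⟨c, Core.le_pCore hJp hcJ, rfl⟩
    have hrz : (r : Ω)⁻¹ * z ∈ centralizerIn S R := by
      refine mem_centralizerIn.2 ⟨S.mul_mem (S.inv_mem (hRS r.2)) (hZS hz.1), fun y hy => ?_⟩
      have h1 : (r : Ω) * y * (r : Ω)⁻¹ = z * y * z⁻¹ :=
        congrArg (fun e : MulAut R => ((e ⟨y, hy⟩ : R) : Ω)) hrv
      calc y * ((r : Ω)⁻¹ * z) = (r : Ω)⁻¹ * ((r : Ω) * y * (r : Ω)⁻¹) * z := by group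
        _ = (r : Ω)⁻¹ * (z * y * z⁻¹) * z := by rw [h1]
        _ = (r : Ω)⁻¹ * z * y := by group
    have := R.mul_mem r.2 (hc.2 R (isConj_refl hRS) hrz)
    rwa [mul_inv_cancel_left] at this
  -- `Z` normalized by `R` lies in `R`
  by_contra hne
  have hRT : R ⊔ Z ≤ S := sup_le hRS hZS
  have := finite_le hRT
  have hlt : R < R ⊔ Z := lt_of_le_of_ne le_sup_left fun e => hne (le_sup_right.trans e.ge)
  obtain ⟨g, hg, hgR⟩ := exists_mem_normalizerIn_not_mem (hS.to_le hRT) hlt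
  have hprod : (g : Ω) ∈ (↑(R ⊔ Z) : Set Ω) := hg.1
  have hRN : R ≤ Subgroup.normalizer (Z : Set Ω) := hRS.trans
    (le_normalizer_preimageAlong hrange (IsNormal.normal_in hZ'))
  rw [Subgroup.coe_mul_of_left_le_normalizer_right R Z hRN] at hprod
  obtain ⟨r, hr', t, ht, rfl⟩ := hprod
  have htn : t ∈ Subgroup.normalizer (R : Set Ω) := by
    have := mul_mem (inv_mem (Subgroup.le_normalizer (H := R) hr')) hg.2
    simpa using this
  exact hgR (R.mul_mem hr' (hNR ⟨ht, htn⟩))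

end CfsgLib.Fusion
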