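import Cfsg.Agent.Lib.Fusion.QdSplit
import Cfsg.Agent.Lib.Fusion.GroupFusion

/-!
`Qd(p)`-free systems.
-/

set_option autoImplicit false

namespace CfsgLib.Fusion

open Cfsg Cfsg.FusionSystem

universe u

theorem freeOf_qd_of_sectionFree {Ω : Type u} [Group Ω] {S : Subgroup Ω} {F : FusionSystem S}
    {p : ℕ} [Fact p.Prime] [Finite S] (hS : IsPGroup p S) (hF : F.IsSaturated p)
    (h : F.IsSectionFree p ↥(Cfsg.qd p)) : FreeOf ↥(Cfsg.qd p) F :=
  FreeOf.of_radical hS hF splitTop_qd fun Q hn hc _ => h Q hn hc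

/-- A group has a section `H` if its fusion systems have. -/
theorem freeOf_groupFusion {G : Type u} [Group G] [Finite G] {p : ℕ} [Fact p.Prime]
    (P : Sylow p G) {H : Type*} [Group H] [Finite H] (hH : SplitTop p H)
    (h : ¬ Involves H G) : FreeOf H (groupFusionSystem (P : Subgroup G)) := by
  intro X hX hs
  refine h (involves_of_hasSection hH (P.isPGroup'.to_le hX) X.subtype X.subtype_injective
    (fun a ha => ?_) hs)
  obtain ⟨-, -, g, hg⟩ := (mem_autGroup_iff hX).1 ha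
  exact ⟨g, fun z => (eq_mul_inv_iff_mul_eq.1 (hg z)).symm⟩

/-- A group with a section `Qd(p)` has one in its fusion system. -/
theorem not_freeOf_groupFusion {G : Type u} [Group G] [Finite G] {p : ℕ} [Fact p.Prime]
    (P : Sylow p G) (h : Involves ↥(Cfsg.qd p) G) :
    ¬ FreeOf ↥(Cfsg.qd p) (groupFusionSystem (P : Subgroup G)) := by
  obtain ⟨K, R, hn, ⟨e⟩⟩ := h
  set π : K →* ↥(Cfsg.qd p) := e.toMonoidHom.comp (QuotientGroup.mk' (R.subgroupOf K)) with hπdef
  have hπ : Function.Surjective π := e.surjective.comp (QuotientGroup.mk'_surjective _)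
  set V := PLocal.SLTwo.translations p
  set M := V.comap π with hM
  have hMn : M.Normal := (PLocal.SLTwo.translations_normal (p := p)).comap π
  let T : Sylow p M := default
  let φ : M →* V := π.subgroupComap V
  have hφ : Function.Surjective φ := fun v => by
    obtain ⟨k, hk⟩ := hπ v
    exact ⟨⟨k, show π k ∈ V from hk ▸ v.2⟩, Subtype.ext hk⟩
  have hTtop : ((T.mapSurjective hφ : Sylow p V) : Subgroup V) = ⊤ :=
    ((T.mapSurjective hφ).is_maximal' (PLocal.SLTwo.translations_isPGroup.to_subgroup _) le_top).symm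
  set X₀ : Subgroup K := (T : Subgroup M).map M.subtype with hX₀
  obtain ⟨Q, hQ⟩ := ((T.2.map M.subtype).map K.subtype).exists_le_sylow
  obtain ⟨g, hg⟩ := MulAction.exists_smul_eq G Q P
  -- the subgroup of `P`
  let c : K →* G := (MulAut.conj g).toMonoidHom.comp K.subtype
  have hcinj : Function.Injective c := (MulAut.conj g).injective.comp K.subtype_injective
  set X : Subgroup G := X₀.map c with hX
  have hXP : X ≤ (P : Subgroup G) := by
    rw [← hg]
    rintro _ ⟨x, hx, rfl⟩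
    exact ⟨(x : G), hQ ⟨x, hx, rfl⟩, rfl⟩
  let e₀ : X₀ ≃* X := X₀.equivMapOfInjective c hcinj
  set N := Subgroup.normalizer (X₀ : Set K) with hN
  have hcN : ∀ n : N, c (n : K) ∈ Subgroup.normalizer (X : Set G) := fun n =>
    Subgroup.le_normalizer_map c ⟨n, n.2, rfl⟩
  let ψ : N →* MulAut X × ↥(Cfsg.qd p) :=
    (X.normalizerMonoidHom.comp ((c.comp N.subtype).codRestrict _ hcN)).prod (π.comp N.subtype)
  have hsur : ∀ s : ↥(Cfsg.qd p), ∃ n : N, π (n : K) = s := by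
    intro s
    obtain ⟨k, rfl⟩ := hπ s
    have hk : k ∈ N ⊔ M := by
      rw [hN, hX₀, Sylow.normalizer_sup_eq_top T]
      trivial
    rw [← SetLike.mem_coe, Subgroup.mul_normal] at hk
    obtain ⟨n, hnN, m, hm, rfl⟩ := hk
    obtain ⟨t, ht, htm⟩ : φ ⟨m, hm⟩ ∈ ((T.mapSurjective hφ : Sylow p V) : Subgroup V) :=
      hTtop ▸ Subgroup.mem_top _
    refine ⟨⟨n * (t : K), N.mul_mem hnN (Subgroup.le_normalizer ⟨t, ht, rfl⟩)⟩, ?_⟩
    show π (n * (t : K)) = π (n * m)
    rw [map_mul, map_mul]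
    exact congrArg (π n * ·) (congrArg Subtype.val htm)
  let f : (⊤ : Subgroup X) →* ↥(Cfsg.qd p) :=
    π.comp (X₀.subtype.comp (e₀.symm.toMonoidHom.comp (⊤ : Subgroup X).subtype))
  have he₀ : ∀ x : X, c ((e₀.symm x : X₀) : K) = (x : G) := fun x => by
    conv_rhs => rw [← e₀.apply_symm_apply x]
    rfl
  have hrange : ∀ v ∈ V, v ∈ f.range := by
    intro v hv
    obtain ⟨t, ht, htv⟩ : (⟨v, hv⟩ : V) ∈ ((T.mapSurjective hφ : Sylow p V) : Subgroup V) :=
      hTtop ▸ Subgroup.mem_top _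
    refine ⟨⟨e₀ ⟨t, t, ht, rfl⟩, trivial⟩, ?_⟩
    show π ((e₀.symm (e₀ _) : X₀) : K) = v
    rw [e₀.symm_apply_apply]
    exact congrArg Subtype.val htv
  have hfV : ∀ x, f x ∈ V := fun x => by
    obtain ⟨t, -, hte⟩ := (e₀.symm (x : X)).2
    show π ((e₀.symm (x : X) : X₀) : K) ∈ V
    rw [← hte]
    exact t.2
  intro hfree
  refine hfree X hXP ⟨ψ.range, ⊤, f, ?_, fun s => ?_, ?_, fun x y => ?_, ?_⟩
  · rintro _ ⟨n, rfl⟩
    refine (mem_autGroup_iff hXP).2 ⟨hXP, fun x => hXP ((ψ n).1 x).2, c (n : K), fun x => rfl⟩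
  · obtain ⟨n, hn⟩ := hsur s
    exact ⟨(ψ n).1, n, Prod.ext rfl hn⟩
  · rintro s ⟨n, hns⟩
    obtain ⟨ha, hs⟩ := Prod.ext_iff.1 hns
    refine hrange s (centralizer_translations (Subgroup.mem_centralizer_iff.2 fun v hv => ?_))
    obtain ⟨⟨x, -⟩, rfl⟩ := hrange v hv
    have h1 : c (n : K) * (x : G) * (c (n : K))⁻¹ = x :=
      congrArg (fun a : MulAut X => ((a x : X) : G)) ha
    rw [← he₀ x, ← map_inv, ← map_mul, ← map_mul] at h1
    have h2 : π (n : K) = s := hs
    show π _ * s = s * π _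
    have h3 := congrArg π (hcinj h1)
    rw [map_mul, map_mul, map_inv, h2, mul_inv_eq_iff_eq_mul] at h3
    exact h3.symm
  · obtain ⟨v, hv⟩ : f x ∈ V := hfV x
    obtain ⟨w, hw⟩ : f y ∈ V := hfV y
    rw [← hv, ← hw, PLocal.SLTwo.aff_mul, PLocal.SLTwo.aff_mul]
    simp [add_comm]
  · rintro _ ⟨n, rfl⟩ x
    refine ⟨trivial, ?_⟩
    have h1 : ((e₀.symm ((ψ n).1 (x : X)) : X₀) : K) =
        (n : K) * ((e₀.symm (x : X) : X₀) : K) * (n : K)⁻¹ := hcinj (by
      rw [he₀, map_mul, map_mul, map_inv, he₀]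
      rfl)
    show π _ = π (n : K) * π _ * (π (n : K))⁻¹
    rw [← map_inv, ← map_mul, ← map_mul]
    exact congrArg π h1

end CfsgLib.Fusion
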