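import Cfsg.Agent.Lib.Fusion.TransferTools
import Cfsg.Agent.Lib.Fusion.PreimageNormal
import Cfsg.Agent.Lib.Fusion.QdFreeSystem

/-!
A Glauberman functor is normal in free systems.
-/

set_option autoImplicit false

namespace CfsgLib.Fusion

open Cfsg Cfsg.FusionSystem

universe u

variable {p : ℕ} [Fact p.Prime]

/-- A subgroup that is normal in a model is normal in the system. -/
theorem isNormal_of_model_normal {Ω : Type u} [Group Ω] {S : Subgroup Ω} {F : FusionSystem S}
    {G : Type u} [Group G] {ι : S →* G} (hG : F.IsModel p G ι) {X : Subgroup Ω} (hXS : X ≤ S)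
    (hn : ((X.subgroupOf S).map ι).Normal) : F.IsNormal X := by
  obtain ⟨hfin, ⟨hinj, hiff⟩, -, -⟩ := hG
  refine ⟨hXS, fun P φ hφ => ?_⟩
  have hPS := hom_le hφ
  obtain ⟨g, hg⟩ := (hiff P hPS φ (hom_apply_mem hφ)).1 hφ
  have hPX : P ⊔ X ≤ S := sup_le hPS hXS
  have hmem : ∀ z : ↥(P ⊔ X), g * ι ⟨z, hPX z.2⟩ * g⁻¹ ∈ ι.range := by
    intro z
    have hle : P ⊔ X ≤ ((ι.range.comap (MulAut.conj g).toMonoidHom).comap ι).map S.subtype := by
      refine sup_le (fun x hx => ⟨⟨x, hPS hx⟩, ?_, rfl⟩) fun x hx => ⟨⟨x, hXS hx⟩, ?_, rfl⟩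
      · show g * ι ⟨x, hPS hx⟩ * g⁻¹ ∈ ι.range
        rw [← hg ⟨x, hx⟩]
        exact ⟨_, rfl⟩
      · obtain ⟨t, -, ht⟩ := hn.conj_mem _ ⟨⟨x, hXS hx⟩, hx, rfl⟩ g
        exact ⟨t, ht⟩
    obtain ⟨s, hs, hsz⟩ := hle z.2
    obtain rfl : s = ⟨z, hPX z.2⟩ := Subtype.ext hsz
    exact hs
  let e := MonoidHom.ofInjective hinj
  let ψ : ↥(P ⊔ X) →* Ω := S.subtype.comp (e.symm.toMonoidHom.comp
    (((MulAut.conj g).toMonoidHom.comp (ι.comp (Subgroup.inclusion hPX))).codRestrict ι.range hmem))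
  have hψS : ∀ z, ψ z ∈ S := fun z => (e.symm _).2
  have hψv : ∀ z, ι ⟨ψ z, hψS z⟩ = g * ι ⟨z, hPX z.2⟩ * g⁻¹ := fun z =>
    MonoidHom.apply_ofInjective_symm hinj ⟨_, hmem z⟩
  refine ⟨ψ, (hiff _ hPX ψ hψS).2 ⟨g, hψv⟩, fun x => ?_, ?_⟩
  · exact congrArg Subtype.val (hinj ((hψv _).trans (hg x).symm) :
      (⟨ψ (Subgroup.inclusion le_sup_left x), hψS _⟩ : S) = ⟨φ x, hom_apply_mem hφ x⟩)
  · ext y
    constructor
    · rintro ⟨z, hz, rfl⟩
      obtain ⟨t, ht, htv⟩ := hn.conj_mem _ ⟨⟨(z : Ω), hPX z.2⟩, hz, rfl⟩ g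
      have h1 : (⟨ψ z, hψS z⟩ : S) = t := hinj ((hψv z).trans htv.symm)
      rw [show ψ z = (t : Ω) from congrArg Subtype.val h1]
      exact ht
    · intro hy
      obtain ⟨t, ht, htv⟩ := hn.conj_mem _ ⟨⟨y, hXS hy⟩, hy, rfl⟩ g⁻¹
      refine ⟨⟨t, Subgroup.mem_sup_right (ht : (t : Ω) ∈ X)⟩, ht, ?_⟩
      refine congrArg Subtype.val (hinj ((hψv _).trans ?_) : (⟨ψ _, hψS _⟩ : S) = ⟨y, hXS hy⟩)
      show g * ι t * g⁻¹ = ι ⟨y, hXS hy⟩
      rw [htv]
      group

set_option maxHeartbeats 1600000 in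
/-- A Glauberman functor is normal in every free system. -/
theorem isNormal_functor_of_free {H : Type} [Group H] (W : ∀ (Q : Type u) [Group Q], Subgroup Q)
    (hW1 : ∀ (Q : Type u) [Group Q] [Finite Q], IsPGroup p Q → Nontrivial Q → W Q ≠ ⊥)
    (hW2 : ∀ (Q R : Type u) [Group Q] [Group R] [Finite Q], IsPGroup p Q → ∀ φ : Q ≃* R,
      (W Q).map φ.toMonoidHom = W R)
    (hW3 : ∀ (L : Type u) [Group L] [Finite L] (P : Sylow p L),
      Subgroup.centralizer ((pCore p L : Subgroup L) : Set L) =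
        pCore p L ⊓ Subgroup.centralizer ((pCore p L : Subgroup L) : Set L) →
      ¬ Involves H L →
      (((W ↥(P : Subgroup L)).map (P : Subgroup L).subtype : Subgroup L)).Normal) :
    ∀ (n m : ℕ) {Ω : Type u} [Group Ω] {S : Subgroup Ω} [Finite S] {F : FusionSystem S},
      Nat.card S = n → (mapGraphs F).ncard = m → IsPGroup p S → F.IsSaturated p → FreeOf H F →
      F.IsNormal (functorOf p W S) := by
  intro n
  induction n using Nat.strong_induction_on with
  | _ n ih =>
  intro m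
  induction m using Nat.strong_induction_on with
  | _ m ihm =>
  intro Ω _ S _ F hn hm hS hF hfree
  set X := functorOf p W S with hX
  have hXS : X ≤ S := functorOf_le S
  have hSN : S ≤ Subgroup.normalizer (X : Set Ω) :=
    Subgroup.le_normalizer.trans (normalizer_le_normalizer_functorOf hW2 S)
  have hNX : normalizerIn S X = S := inf_eq_left.2 hSN
  have hXsys := normSystem_isNormalizerSystem F X hXS
  set E := copySystem hNX (normSystem F X hXS)
  suffices hFE : F ≤ E by
    refine ⟨hXS, fun P φ hφ => ?_⟩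
    obtain ⟨-, -, -, ψ, hψ, h1, h2⟩ := (hXsys P).le (hFE P hφ)
    exact ⟨ψ, hψ, h1, h2⟩
  have hEof : ∀ (P : Subgroup Ω) (φ : P →* Ω), φ ∈ F.normalizerHom X P → φ ∈ E.Hom P :=
    fun P φ h => (hXsys P).ge h
  -- smaller systems on `S`
  have hsmall : ∀ M : FusionSystem S, M ≤ F → M ≠ F → M.IsSaturated p → M ≤ E := by
    intro M hle hne hsat
    have hMn := ihm _ (hm ▸ Set.ncard_lt_ncard (mapGraphs_ssubset hle hne) mapGraphs_finite) hn rfl
      hS hsat (hfree.mono (fun P φ h => hle P h) le_rfl)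
    intro P φ hφ
    obtain ⟨ψ, hψ, hψP, hψX⟩ := hMn.2 P φ hφ
    exact hEof P φ ⟨hle P hφ, fun x hx => hNX.ge (hom_le hφ hx),
      fun x => hNX.ge (hom_apply_mem hφ x), ψ, hle _ hψ, hψP, hψX⟩
  have hnormal_sub : ∀ Y : Subgroup Ω, Y ≤ S → S ≤ Subgroup.normalizer (Y : Set Ω) →
      ¬ F.IsNormal Y →
      ∀ (P : Subgroup Ω) (φ : P →* Ω), φ ∈ F.normalizerHom Y P → φ ∈ E.Hom P := by
    intro Y hYS hYN hnn P φ hφ
    have hNS : normalizerIn S Y = S := inf_eq_left.2 hYN
    have hfinN := finite_le (normalizerIn_le (S := S) Y)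
    have hfn : F.IsFullyNormalized Y := ⟨hYS, fun R _ => Subgroup.card_le_of_le
      ((normalizerIn_le R).trans hNS.ge)⟩
    have hNsys := normSystem_isNormalizerSystem F Y hYS
    set M := copySystem hNS (normSystem F Y hYS)
    have hMn : M.IsNormal Y := copySystem_isNormal hNS (normalizerSystem_isNormal hYS hNsys)
    exact hsmall M (fun P φ hφ => normalizerSystem_le hNsys hφ) (fun h => hnn (h ▸ hMn))
      (copySystem_saturated hNS (normalizerSystem_saturated hS hF hfn hNsys)) P ((hNsys P).ge hφ)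
  have haut : F.autGroup S ≤ E.autGroup S := fun a ha => by
    have haF := (mem_autGroup_iff le_rfl).1 ha
    exact (mem_autGroup_iff le_rfl).2
      (hEof S _ (mem_normalizerHom_functor_of_top hW2 hS haF haF fun y => rfl))
  set Q := F.core with hQ
  have hQn : F.IsNormal Q := core_isNormal
  have hQS : Q ≤ S := hQn.1
  have hQsc := IsNormal.stronglyClosed hQn
  rcases eq_or_lt_of_le hQS with hQtop | hQlt
  · -- `S` is normal
    intro P φ hφ
    obtain ⟨ψ, hψ, hψP, -⟩ := hQn.2 P φ hφ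
    have hle : S ≤ P ⊔ Q := hQtop.ge.trans le_sup_right
    exact hEof P φ (mem_normalizerHom_functor_of_top hW2 hS hφ (restrict_mem hψ hle)
      fun y => hψP y)
  by_cases hQ1 : Q = ⊥
  · -- no normal subgroup
    have hne : ∀ Y : Subgroup Ω, Y ≠ ⊥ → ¬ F.IsNormal Y := fun Y hY h =>
      hY (le_bot_iff.1 (hQ1 ▸ le_core h))
    refine alperin_gen hS hF E haut fun R hRS hess hup => ?_
    have hR1 : R ≠ ⊥ := by
      intro h
      refine hRS.ne (le_antisymm hRS.le fun s hs => ?_)
      exact hess.1.2 R (isConj_refl hRS.le) (mem_centralizerIn.2 ⟨hs, fun y hy => by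
        rw [h, Subgroup.mem_bot] at hy
        simp [hy]⟩)
    suffices main : ∀ (k : ℕ) (Y : Subgroup Ω), Nat.card S - Nat.card (normalizerIn S Y) < k →
        Y ≠ ⊥ → F.IsFullyNormalized Y → Nat.card R < Nat.card (normalizerIn S Y) →
        ∀ (P : Subgroup Ω) (φ : P →* Ω), φ ∈ F.normalizerHom Y P → φ ∈ E.Hom P by
      intro a ha
      refine Subgroup.mem_sup_left ((mem_autGroup_iff hRS.le).2
        (main _ R (Nat.lt_succ_self _) hR1 hess.2.1 ?_ R _ ?_))
      · have := finite_le (normalizerIn_le (S := S) R)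
        exact lt_of_le_of_ne (Subgroup.card_le_of_le (le_normalizerIn hRS.le)) fun h =>
          (lt_normalizerIn hS hRS).ne (Subgroup.eq_of_le_of_card_ge (le_normalizerIn hRS.le) h.ge)
      · have haF := (mem_autGroup_iff hRS.le).1 ha
        refine ⟨haF, le_normalizerIn hRS.le, fun z => le_normalizerIn hRS.le (a z).2,
          (R.subtype.comp a.toMonoidHom).comp (Subgroup.inclusion (sup_le le_rfl le_rfl)),
          restrict_mem haF _, fun z => rfl, ?_⟩
        have := finite_le hRS.le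
        refine Subgroup.eq_of_le_of_card_ge ?_ ?_
        · rintro _ ⟨z, -, rfl⟩
          exact (a _).2
        · exact (card_img (F.injective_of_mem (restrict_mem haF _)) le_sup_right).ge
    intro k
    induction k with
    | zero => intro Y h; omega
    | succ k ihk =>
    intro Y hk hY1 hYn hRT P φ hφ
    have hYS := hYn.1
    set T := normalizerIn S Y with hTdef
    have hTS : T ≤ S := normalizerIn_le Y
    have := finite_le hTS
    rcases eq_or_lt_of_le hTS with hTeq | hTlt
    · exact hnormal_sub Y hYS (hTeq.symm.le.trans inf_le_right) (hne Y hY1) P φ hφ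
    have hNsys := normSystem_isNormalizerSystem F Y hYS
    set M := normSystem F Y hYS
    have hsub : M.IsSubsystemOf F := fun A χ hχ => normalizerSystem_le hNsys hχ
    have hT1 : T ≠ ⊥ := fun h => hY1 (le_bot_iff.1 (h ▸ le_normalizerIn hYS))
    set X₂ := functorOf p W T with hX₂
    have hX₂S : X₂ ≤ S := (functorOf_le T).trans hTS
    have hX₂1 : X₂ ≠ ⊥ := by
      rw [hX₂, functorOf_eq (hS.to_le hTS), Ne, Subgroup.map_eq_bot_iff_of_injective _ T.subtype_injective]
      exact hW1 T (hS.to_le hTS) ((Subgroup.nontrivial_iff_ne_bot T).2 hT1)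
    have hTN : T < normalizerIn S X₂ := lt_of_lt_of_le (lt_normalizerIn hS hTlt)
      fun g hg => ⟨hg.1, normalizer_le_normalizer_functorOf hW2 T hg.2⟩
    have hlt : Nat.card T < Nat.card (normalizerIn S X₂) := by
      have := finite_le (normalizerIn_le (S := S) X₂)
      exact lt_of_le_of_ne (Subgroup.card_le_of_le hTN.le) fun e =>
        hTN.ne (Subgroup.eq_of_le_of_card_ge hTN.le e.ge)
    -- the normalizer of `X₂` is settled
    have hbig : ∀ (A : Subgroup Ω) (χ : A →* Ω), χ ∈ F.normalizerHom X₂ A → χ ∈ E.Hom A := by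
      intro A χ hχ
      obtain ⟨Y', hconj, h1, h2, hY'n⟩ := IsSaturated.exists_rep hS hF hX₂S
      obtain ⟨f, hf, hfm, hfY⟩ := exists_normalizer_map hS h1 h2 hconj
      have hcard := card_normalizerIn_le_of_map hf hfm
      have hfE := hup _ (hRT.trans hlt) hf
      refine mem_of_transport hf hfE hfm hfY hX₂S (ihk Y' ?_ (fun h => hX₂1 ?_) hY'n
        (hRT.trans (hlt.trans_le hcard))) hχ
      · have hb1 := Subgroup.card_le_of_le (normalizerIn_le (S := S) Y')
        omega
      · have := finite_le hX₂S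
        exact Subgroup.eq_bot_of_card_eq X₂
          ((isConj_card hconj).trans (by rw [h]; exact Subgroup.card_bot))
    have hMn := ih (Nat.card T) (hn ▸ lt_of_le_of_ne (Subgroup.card_le_of_le hTS) fun e =>
      hTlt.ne (Subgroup.eq_of_le_of_card_ge hTS e.ge)) _ rfl rfl (hS.to_le hTS)
      (normalizerSystem_saturated hS hF hYn hNsys) (hfree.mono hsub hTS)
    obtain ⟨ψ, hψ, hψP, hψX⟩ := hMn.2 P φ ((hNsys P).ge hφ)
    exact hbig P φ ⟨hφ.1, fun z hz => hTN.le (hφ.2.1 hz), fun z => hTN.le (hφ.2.2.1 z), ψ,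
      hsub _ hψ, hψP, hψX⟩
  · have hQN := StronglyClosed.normal_in hQsc
    have hfinN := finite_le (normalizerIn_le (S := S) Q)
    have hfnQ : F.IsFullyNormalized Q := ⟨hQS, fun R _ => Subgroup.card_le_of_le
      ((normalizerIn_le R).trans (le_inf le_rfl hQN))⟩
    by_cases hC : centralizerIn S Q ≤ Q
    · -- constrained
      have hQc := isCentric_of_centralizerIn_le hS hF
        (IsSaturated.fullyCentralized hS hF hfnQ) hC
      obtain ⟨L, _, ι, hG⟩ := exists_model_of_normal_centric hS hF hQn hQc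
      have hinj : Function.Injective ι := hG.2.1.1
      have := hG.1
      obtain ⟨TL, hTL⟩ := hG.2.2.1
      have hWn := hW3 L TL (le_antisymm (le_inf hG.2.2.2 le_rfl) inf_le_right)
        (hfree.not_involves_model hG)
      rw [model_functorOf hW2 hS hinj TL hTL] at hWn
      have hn' := isNormal_of_model_normal hG hXS hWn
      intro P φ hφ
      obtain ⟨ψ, hψ, hψP, hψX⟩ := hn'.2 P φ hφ
      exact hEof P φ ⟨hφ, fun x hx => hNX.ge (hom_le hφ hx),
        fun x => hNX.ge (hom_apply_mem hφ x), ψ, hψ, hψP, hψX⟩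
    -- the subsystem acting on `Q` as `S`
    set K := autInducedBy S Q with hK
    have hT : autPre S Q K = S := le_antisymm (fun g hg => hg.1) fun g hg =>
      ⟨hg, conjAut ⟨g, hg, hQN hg⟩, conjAut_mem _, fun x => rfl⟩
    have := finite_mulAut_of_le (S := S) hQS
    have hKF : K ≤ F.autGroup Q := autInducedBy_le_autGroup hQS
    have hsat : (kSystem F hQS K).IsSaturated p := by
      refine kNormalizer_saturated hS hF hQS K
        (IsSaturated.receptive hS hF (IsSaturated.fullyCentralized hS hF hfnQ)) ?_ (fun g => Iff.rfl)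
        (kSystem F hQS K) fun P φ => Iff.rfl
      rw [inf_of_le_right hKF, inf_idem]
      exact isSylowIn_self (isPGroup_autInducedBy hS)
    set M₂ := copySystem hT (kSystem F hQS K) with hM₂def
    have hM₂le : M₂ ≤ F := by
      rintro P φ ⟨-, -, ψ, hψ, hv, -⟩
      exact restrict_mem' hψ le_sup_left fun x => (hv x).symm
    by_cases hM₂ : M₂ = F
    · -- the preimage of the functor of the quotient is normal
      have hact : ∀ R : Subgroup Ω, Q ≤ R → R ≤ S → ∀ b ∈ F.autGroup R, ∃ g ∈ S,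
          ∀ x : R, (x : Ω) ∈ Q → ((b x : R) : Ω) = g * (x : Ω) * g⁻¹ := by
        intro R hQR hR b hb
        rw [← hM₂] at hb
        obtain ⟨-, -, ψ, hψ, hψP, κ, hκ, hψQ⟩ := (mem_autGroup_iff hR).1 hb
        obtain ⟨g, hg, hgv⟩ := mem_autInducedBy_iff.1 hκ
        refine ⟨g, hg, fun x hx => ?_⟩
        have h1 := hψQ ⟨x, hx⟩
        rw [show Subgroup.inclusion le_sup_right (⟨x, hx⟩ : Q) = Subgroup.inclusion le_sup_left x from
          Subtype.ext rfl, hψP, hgv] at h1
        exact h1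
      obtain ⟨Ω', _, θ, S', F', _, hS', hE, hEsat, hlt⟩ := exists_factor_quotient hS hF hQsc
      obtain ⟨-, hθ, hrange, -⟩ := id hE
      have hn' := ih (Nat.card S') (hn ▸ hlt hQ1) _ rfl rfl hS' hEsat (hfree.factor (p := p) hE)
      have hS'1 : S' ≠ ⊥ := by
        intro h
        refine hQlt.ne (le_antisymm hQS fun s hs => ?_)
        refine (hθ ⟨s, hs⟩).1 ?_
        have : θ ⟨s, hs⟩ ∈ θ.range := ⟨_, rfl⟩
        rwa [hrange, h, Subgroup.mem_bot] at this
      have hZ'1 : functorOf p W S' ≠ ⊥ := by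
        rw [functorOf_eq hS', Ne, Subgroup.map_eq_bot_iff_of_injective _ S'.subtype_injective]
        exact hW1 S' hS' ((Subgroup.nontrivial_iff_ne_bot S').2 hS'1)
      exact absurd (le_core (isNormal_preimageAlong hS hF hQn hact hE hn'))
        (lt_preimageAlong hQS hθ (hrange.symm ▸ functorOf_le S') hZ'1).not_ge
    have hM₂E := hsmall M₂ hM₂le hM₂ (copySystem_saturated hT hsat)
    set R₀ := Q ⊔ centralizerIn S Q with hR₀
    have hR₀S : R₀ ≤ S := sup_le hQS (centralizerIn_le Q)
    have hnn : ¬ F.IsNormal R₀ := fun h => hC (le_sup_right.trans (le_core h))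
    have hCN : S ≤ Subgroup.normalizer (centralizerIn S Q : Set Ω) := fun g hg => by
      refine Subgroup.inf_normalizer_le_normalizer_inf ⟨Subgroup.le_normalizer hg, ?_⟩
      refine Subgroup.mem_normalizer_iff.2 fun z => ?_
      simp only [Subgroup.mem_centralizer_iff]
      constructor
      · intro hz y hy
        have h := congrArg (fun w => g * w * g⁻¹)
          (hz (g⁻¹ * y * g) ((Subgroup.mem_normalizer_iff''.1 (hQN hg) y).1 hy))
        simpa [mul_assoc] using h
      · intro hz y hy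
        have h := congrArg (fun w => g⁻¹ * w * g)
          (hz (g * y * g⁻¹) ((Subgroup.mem_normalizer_iff.1 (hQN hg) y).1 hy))
        simpa [mul_assoc] using h
    have hR₀N : S ≤ Subgroup.normalizer (R₀ : Set Ω) := fun g hg => by
      refine Subgroup.mem_normalizer_iff_map_conj_eq.2 ?_
      rw [hR₀, Subgroup.map_sup]
      exact congrArg₂ (· ⊔ ·) (Subgroup.mem_normalizer_iff_map_conj_eq.1 (hQN hg))
        (Subgroup.mem_normalizer_iff_map_conj_eq.1 (hCN hg))
    refine alperin_gen hS hF E haut fun R hRS hess _ => ?_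
    have hQR : Q ≤ R :=
      IsNormal.le_centric_radical hS hQn hess.1 (IsEssential.isRadical hS hess)
    by_cases hR₀R : R₀ ≤ R
    · intro a ha
      refine Subgroup.mem_sup_left ((mem_autGroup_iff hRS.le).2 ?_)
      have haF := (mem_autGroup_iff hRS.le).1 ha
      have hsup : R ⊔ R₀ ≤ R := sup_le le_rfl hR₀R
      refine hnormal_sub R₀ hR₀S hR₀N hnn R _ ⟨haF,
        fun z hz => ⟨hRS.le hz, hR₀N (hRS.le hz)⟩,
        fun z => ⟨hRS.le (a z).2, hR₀N (hRS.le (a z).2)⟩,
        (R.subtype.comp a.toMonoidHom).comp (Subgroup.inclusion hsup), restrict_mem haF hsup,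
        fun z => rfl, ?_⟩
      have := finite_le hR₀S
      refine Subgroup.eq_of_le_of_card_ge ?_
        (card_img (F.injective_of_mem (restrict_mem haF hsup)) le_sup_right).ge
      have hsur : ∀ y : R, (y : Ω) ∈ Q → ((a⁻¹ y : R) : Ω) ∈ Q := fun y hy =>
        StronglyClosed.apply_mem hQsc ((mem_autGroup_iff hRS.le).1 (inv_mem ha)) hy
      have hle : R₀ ≤ (((R₀.subgroupOf R).comap a.toMonoidHom).map R.subtype) := by
        refine sup_le (fun y hy => ⟨⟨y, hQR hy⟩, ?_, rfl⟩) fun y hy =>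
          ⟨⟨y, hR₀R (Subgroup.mem_sup_right hy)⟩, ?_, rfl⟩
        · exact Subgroup.mem_sup_left
            (StronglyClosed.apply_mem hQsc haF (x := ⟨y, hQR hy⟩) hy)
        · refine Subgroup.mem_sup_right (mem_centralizerIn.2 ⟨hRS.le (a _).2, fun q hq => ?_⟩)
          have h1 : a⁻¹ ⟨q, hQR hq⟩ * ⟨y, hR₀R (Subgroup.mem_sup_right hy)⟩ =
              ⟨y, hR₀R (Subgroup.mem_sup_right hy)⟩ * a⁻¹ ⟨q, hQR hq⟩ :=
            Subtype.ext ((mem_centralizerIn.1 hy).2 _ (hsur _ hq))
          have h2 := congrArg (fun z => ((a z : R) : Ω)) h1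
          simp only [map_mul, MulAut.apply_inv_self, Subgroup.coe_mul] at h2
          exact h2
      rintro _ ⟨z, hz, rfl⟩
      obtain ⟨w, hw, hwz⟩ := hle hz
      rw [show (R.subtype.comp a.toMonoidHom).comp (Subgroup.inclusion hsup) z = ((a w : R) : Ω) from
        congrArg (fun v : R => ((a v : R) : Ω)) (Subtype.ext hwz.symm)]
      exact hw
    · -- an element centralising `Q` normalises `R` from outside
      have hRC : R ⊔ centralizerIn S Q ≤ S := sup_le hRS.le (centralizerIn_le Q)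
      have := finite_le hRC
      have hlt : R < R ⊔ centralizerIn S Q := lt_of_le_of_ne le_sup_left fun e =>
        hR₀R (sup_le hQR (le_sup_right.trans e.ge))
      obtain ⟨g, hg, hgR⟩ := exists_mem_normalizerIn_not_mem (hS.to_le hRC) hlt
      have hprod : (g : Ω) ∈ (↑(R ⊔ centralizerIn S Q) : Set Ω) := hg.1
      rw [Subgroup.coe_mul_of_left_le_normalizer_right R _ (hRS.le.trans hCN)] at hprod
      obtain ⟨r, hr, c, hc, rfl⟩ := hprod
      have hcn : c ∈ Subgroup.normalizer (R : Set Ω) := by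
        have := mul_mem (inv_mem (Subgroup.le_normalizer (H := R) hr)) hg.2
        simpa using this
      have hcR : c ∉ R := fun h => hgR (R.mul_mem hr h)
      refine autGroup_le_fix_sup_ext hS hF hess.2.1 (Q.subgroupOf R)
        (fun a ha x hx => StronglyClosed.apply_mem hQsc ((mem_autGroup_iff hRS.le).1 ha) hx)
        ⟨c, (mem_centralizerIn.1 hc).1, hcn⟩ hcR (fun x hx => Subtype.ext ?_) (E.autGroup R)
        fun a ha hfix => ?_
      · show c * (x : Ω) * c⁻¹ = x
        rw [← (mem_centralizerIn.1 hc).2 (x : Ω) hx, mul_inv_cancel_right]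
      · refine (mem_autGroup_iff hRS.le).2 (hM₂E R ?_)
        have haF := (mem_autGroup_iff hRS.le).1 ha
        have hsup : R ⊔ Q ≤ R := sup_le le_rfl hQR
        exact ⟨hRS.le.trans hT.ge, fun z => hT.ge (hRS.le (a z).2),
          (R.subtype.comp a.toMonoidHom).comp (Subgroup.inclusion hsup), restrict_mem haF hsup,
          fun z => rfl, 1, one_mem _, fun q => congrArg Subtype.val (hfix ⟨q, hQR q.2⟩ q.2)⟩

end CfsgLib.Fusion
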