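import Cfsg.Agent.Lib.Fusion.ChainObstruction
import Cfsg.Agent.Lib.Core.Basic
import Mathlib.GroupTheory.SemidirectProduct

/-!
A homocyclic group of rank two carries a system without a chain with cyclic steps.
-/

set_option autoImplicit false

namespace CfsgLib.Fusion

open Cfsg Cfsg.FusionSystem

section

variable (N : ℕ)

/-- The homocyclic group of rank two. -/
abbrev RankTwoGroup := Multiplicative (ZMod N) × Multiplicative (ZMod N)

/-- `(x, y) ↦ (y, x⁻¹y⁻¹)`. -/
def tripleAut : MulAut (RankTwoGroup N) where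
  toFun v := (v.2, v.1⁻¹ * v.2⁻¹)
  invFun v := (v.1⁻¹ * v.2⁻¹, v.1)
  left_inv v := Prod.ext (by simp) rfl
  right_inv v := Prod.ext rfl (by simp)
  map_mul' v w := Prod.ext rfl (by
    show (v.1 * w.1)⁻¹ * (v.2 * w.2)⁻¹ = v.1⁻¹ * v.2⁻¹ * (w.1⁻¹ * w.2⁻¹)
    rw [mul_inv, mul_inv, mul_mul_mul_comm])

/-- `(x, y) ↦ (x, y⁻¹)`. -/
def flipAut : MulAut (RankTwoGroup N) where
  toFun v := (v.1, v.2⁻¹)
  invFun v := (v.1, v.2⁻¹)
  left_inv v := by simp
  right_inv v := by simp
  map_mul' v w := Prod.ext rfl (by simp [mul_comm])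

/-- `(x, y) ↦ (y, x⁻¹)`. -/
def quarterAut : MulAut (RankTwoGroup N) where
  toFun v := (v.2, v.1⁻¹)
  invFun v := (v.2⁻¹, v.1)
  left_inv v := by simp
  right_inv v := by simp
  map_mul' v w := Prod.ext rfl (by simp [mul_comm])

theorem tripleAut_pow_three : tripleAut N ^ 3 = 1 := MulEquiv.ext fun v =>
  Prod.ext (by simp [pow_succ, tripleAut, mul_comm]) (by simp [pow_succ, tripleAut, mul_comm])

theorem quarterAut_pow_four : quarterAut N ^ 4 = 1 := MulEquiv.ext fun v =>
  Prod.ext (by simp [pow_succ, quarterAut]) (by simp [pow_succ, quarterAut])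

theorem flipAut_sq : flipAut N ^ 2 = 1 := MulEquiv.ext fun v =>
  Prod.ext (by simp [pow_succ, flipAut]) (by simp [pow_succ, flipAut])

theorem flip_conj_quarter : flipAut N * quarterAut N * flipAut N = (quarterAut N)⁻¹ := by
  refine eq_inv_of_mul_eq_one_left (MulEquiv.ext fun v => ?_)
  exact Prod.ext (by simp [flipAut, quarterAut]) (by simp [flipAut, quarterAut])

end

/-- A coprime group of automorphisms irreducible on the elements of order `p`. -/
theorem exists_irreducible_auts {p n : ℕ} [hp : Fact p.Prime] :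
    ∃ A : Subgroup (MulAut (RankTwoGroup (p ^ n))), ¬ p ∣ Nat.card A ∧
      ∀ U : Subgroup (RankTwoGroup (p ^ n)), (∀ α ∈ A, ∀ u ∈ U, α u ∈ U) →
        (∃ u ∈ U, u ≠ 1 ∧ u ^ p = 1) → ∀ v, v ^ p = 1 → v ∈ U := by
  set N := p ^ n with hN
  haveI : NeZero N := ⟨pow_ne_zero _ hp.out.ne_zero⟩
  -- the elements of order `p` in each coordinate
  have hgen : ∀ x y : Multiplicative (ZMod N), x ≠ 1 → x ^ p = 1 → y ^ p = 1 →
      y ∈ Subgroup.zpowers x := by
    intro x y hx hxp hyp
    classical
    haveI : IsCyclic (Multiplicative (ZMod N)) := inferInstance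
    have hle := IsCyclic.card_pow_eq_one_le (α := Multiplicative (ZMod N)) (n := p) hp.out.pos
    by_contra hy
    refine not_isCyclic_of_pair (p := p) hyp hxp hx hy inferInstance
  have hbuild : ∀ U : Subgroup (RankTwoGroup N), (∃ x : Multiplicative (ZMod N), x ≠ 1 ∧
      x ^ p = 1 ∧ (x, 1) ∈ U ∧ (1, x) ∈ U) → ∀ v, v ^ p = 1 → v ∈ U := by
    rintro U ⟨x, hx, hxp, h1, h2⟩ ⟨a, b⟩ hv
    obtain ⟨i, rfl⟩ := Subgroup.mem_zpowers_iff.1 (hgen x a hx hxp (congrArg Prod.fst hv))
    obtain ⟨j, rfl⟩ := Subgroup.mem_zpowers_iff.1 (hgen x b hx hxp (congrArg Prod.snd hv))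
    have := U.mul_mem (U.zpow_mem h1 i) (U.zpow_mem h2 j)
    simpa using this
  by_cases hp2 : p = 2
  · refine ⟨Subgroup.zpowers (tripleAut N), fun hd => ?_, fun U hU ⟨⟨x, y⟩, hu, hu1, hup⟩ => ?_⟩
    · rw [Nat.card_zpowers] at hd
      have := hd.trans (orderOf_dvd_of_pow_eq_one (tripleAut_pow_three N))
      rw [hp2] at this
      omega
    · refine hbuild U ?_
      have hxp : x ^ 2 = 1 := hp2 ▸ congrArg Prod.fst hup
      have hyp : y ^ 2 = 1 := hp2 ▸ congrArg Prod.snd hup
      have hxi : x⁻¹ = x := inv_eq_of_mul_eq_one_right (by rw [← pow_two]; exact hxp)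
      have hyi : y⁻¹ = y := inv_eq_of_mul_eq_one_right (by rw [← pow_two]; exact hyp)
      have h2 : (y, x * y) ∈ U := by
        have := hU _ (Subgroup.mem_zpowers _) _ hu
        simpa [tripleAut, hxi, hyi] using this
      have h3 : (x * y, x) ∈ U := by
        have h : (x * y, y⁻¹ * (x * y)⁻¹) ∈ U := hU _ (Subgroup.mem_zpowers _) _ h2
        rwa [mul_inv, hxi, hyi, mul_comm x y, ← mul_assoc, ← pow_two, hyp, one_mul, mul_comm y x]
          at h
      by_cases hx : x = 1
      · subst hx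
        have hy : y ≠ 1 := fun h => hu1 (by rw [h]; rfl)
        refine ⟨y, hy, hp2 ▸ hyp, ?_, hu⟩
        simpa using h3
      by_cases hy : y = 1
      · subst hy
        refine ⟨x, hx, hp2 ▸ hxp, hu, ?_⟩
        simpa using h2
      have hxy : x = y := by
        obtain ⟨k, hk⟩ := Subgroup.mem_zpowers_iff.1
          (hgen x y hx (hp2 ▸ hxp) (hp2 ▸ hyp))
        rcases Int.even_or_odd k with ⟨l, rfl⟩ | ⟨l, rfl⟩
        · rw [← two_mul, zpow_mul, zpow_two, ← pow_two, hxp, one_zpow] at hk
          exact absurd hk.symm hy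
        · rw [zpow_add, zpow_mul, zpow_two, ← pow_two, hxp, one_zpow, one_mul, zpow_one] at hk
          exact hk
      subst hxy
      rw [← pow_two, hxp] at h2 h3
      exact ⟨x, hx, hp2 ▸ hxp, h2, h3⟩
  · refine ⟨Subgroup.zpowers (flipAut N) ⊔ Subgroup.zpowers (quarterAut N), fun hd => ?_,
      fun U hU ⟨⟨x, y⟩, hu, hu1, hup⟩ => ?_⟩
    · have hn : Subgroup.zpowers (flipAut N) ≤
          Subgroup.normalizer (Subgroup.zpowers (quarterAut N) : Set (MulAut (RankTwoGroup N))) := by
        refine Subgroup.zpowers_le.2 (Subgroup.mem_normalizer_iff_map_conj_eq.2 ?_)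
        have hinv : (flipAut N)⁻¹ = flipAut N :=
          inv_eq_of_mul_eq_one_right (by rw [← pow_two, flipAut_sq])
        rw [MonoidHom.map_zpowers]
        show Subgroup.zpowers (flipAut N * quarterAut N * (flipAut N)⁻¹) = _
        rw [hinv, flip_conj_quarter, Subgroup.zpowers_inv]
      have hfin : Finite (MulAut (RankTwoGroup N)) :=
        Finite.of_injective (fun f => (f : RankTwoGroup N → RankTwoGroup N)) DFunLike.coe_injective
      have h1 := hd.trans (CfsgLib.Core.card_sup_dvd _ _ hn)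
      rw [Nat.card_zpowers, Nat.card_zpowers] at h1
      have h2 : orderOf (flipAut N) * orderOf (quarterAut N) ∣ 2 ^ 3 := by
        rw [show (2 : ℕ) ^ 3 = 2 * 4 by norm_num]
        exact Nat.mul_dvd_mul (orderOf_dvd_of_pow_eq_one (flipAut_sq N))
          (orderOf_dvd_of_pow_eq_one (quarterAut_pow_four N))
      have h3 := hp.out.dvd_of_dvd_pow (h1.trans h2)
      exact hp2 ((Nat.prime_dvd_prime_iff_eq hp.out Nat.prime_two).1 h3)
    · refine hbuild U ?_
      have hf : (x, y⁻¹) ∈ U := hU _ (Subgroup.mem_sup_left (Subgroup.mem_zpowers _)) _ hu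
      have hq : (y, x⁻¹) ∈ U := hU _ (Subgroup.mem_sup_right (Subgroup.mem_zpowers _)) _ hu
      have hxx : (x * x, (1 : Multiplicative (ZMod N))) ∈ U := by simpa using U.mul_mem hu hf
      have hyy : ((1 : Multiplicative (ZMod N)), y * y) ∈ U := by
        simpa using U.mul_mem hu (U.inv_mem hf)
      have hsq : ∀ z : Multiplicative (ZMod N), z ^ p = 1 → z ≠ 1 → z * z ≠ 1 := fun z hz hz1 h => by
        have h' : z ^ 2 = 1 := by rw [pow_two]; exact h
        have := Nat.dvd_gcd (orderOf_dvd_of_pow_eq_one hz) (orderOf_dvd_of_pow_eq_one h')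
        rw [((Nat.coprime_primes hp.out Nat.prime_two).2 hp2).gcd_eq_one, Nat.dvd_one,
          orderOf_eq_one_iff] at this
        exact hz1 this
      have hxp : x ^ p = 1 := congrArg Prod.fst hup
      have hyp : y ^ p = 1 := congrArg Prod.snd hup
      by_cases hx : x = 1
      · have hy : y ≠ 1 := fun h => hu1 (by rw [hx, h]; rfl)
        refine ⟨y * y, hsq y hyp hy, by rw [← pow_two, ← pow_mul, mul_comm, pow_mul, hyp, one_pow],
          ?_, hyy⟩
        have := hU _ (Subgroup.mem_sup_right (Subgroup.mem_zpowers _)) _ hyy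
        simpa [quarterAut] using this
      · refine ⟨x * x, hsq x hxp hx, by rw [← pow_two, ← pow_mul, mul_comm, pow_mul, hxp, one_pow],
          hxx, ?_⟩
        have := U.inv_mem (hU _ (Subgroup.mem_sup_right (Subgroup.mem_zpowers _)) _ hxx)
        simpa [quarterAut] using this

/-- The system of a semidirect product. -/
theorem exists_no_chain_homocyclic {Ω : Type*} [Group Ω] {S : Subgroup Ω} [Finite S] {p n : ℕ}
    [hp : Fact p.Prime] (hn : 0 < n) (e : S ≃* RankTwoGroup (p ^ n)) :
    ∃ F : FusionSystem S, F.IsSaturated p ∧ ¬ HasCyclicChain F S := by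
  set N := p ^ n with hN
  haveI : NeZero N := ⟨pow_ne_zero _ hp.out.ne_zero⟩
  obtain ⟨A, hA, hirr⟩ := exists_irreducible_auts (p := p) (n := n)
  have hfin : Finite (MulAut (RankTwoGroup N)) :=
    Finite.of_injective (fun f => (f : RankTwoGroup N → RankTwoGroup N)) DFunLike.coe_injective
  haveI : Finite (RankTwoGroup N ⋊[A.subtype] A) :=
    Finite.of_equiv _ SemidirectProduct.equivProd.symm
  set inl : RankTwoGroup N →* RankTwoGroup N ⋊[A.subtype] A := SemidirectProduct.inl
  have hcardV : Nat.card (RankTwoGroup N) = p ^ (2 * n) := by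
    rw [show RankTwoGroup N = (Multiplicative (ZMod N) × Multiplicative (ZMod N)) from rfl,
      Nat.card_prod, two_mul, pow_add]
    simp [hN]
  have hcardR : Nat.card inl.range = p ^ (2 * n) := by
    rw [← hcardV]
    exact Nat.card_congr (MonoidHom.ofInjective SemidirectProduct.inl_injective).toEquiv.symm
  set T : Sylow p (RankTwoGroup N ⋊[A.subtype] A) := Sylow.ofCard inl.range (by
    rw [hcardR, SemidirectProduct.card, hcardV, Nat.factorization_mul (pow_ne_zero _ hp.out.ne_zero)
      Nat.card_pos.ne', Finsupp.add_apply, Nat.factorization_pow_self hp.out,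
      Nat.factorization_eq_zero_of_not_dvd hA, add_zero]) with hT
  have hTr : (T : Subgroup _) = inl.range := rfl
  let eT : S ≃* (T : Subgroup (RankTwoGroup N ⋊[A.subtype] A)) :=
    e.trans ((MonoidHom.ofInjective SemidirectProduct.inl_injective).trans
      (MulEquiv.subgroupCongr hTr.symm))
  set z : Multiplicative (ZMod N) := Multiplicative.ofAdd ((p ^ (n - 1) : ℕ) : ZMod N) with hz
  have hzp : z ^ p = 1 := by
    rw [hz, ← ofAdd_nsmul, nsmul_eq_mul, ← Nat.cast_mul, ← pow_succ',
      Nat.sub_add_cancel hn, ← hN, ZMod.natCast_self]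
    rfl
  have hz1 : z ≠ 1 := fun h => by
    have h' : ((p ^ (n - 1) : ℕ) : ZMod N) = 0 := congrArg Multiplicative.toAdd h
    rw [ZMod.natCast_eq_zero_iff, hN, Nat.pow_dvd_pow_iff_le_right hp.out.one_lt] at h'
    omega
  let X : Set (RankTwoGroup N ⋊[A.subtype] A) := inl '' {v | v ^ p = 1 ∧ v ≠ 1}
  refine exists_system_no_chain T eT X (Subgroup.closure X) ?_ ?_ ?_ le_rfl ?_ ?_
  · rintro _ ⟨v, -, rfl⟩
    exact hTr ▸ ⟨v, rfl⟩
  · exact ⟨inl (z, 1), (z, 1), ⟨by simp [hzp], fun h => hz1 (congrArg Prod.fst h)⟩, rfl⟩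
  · rintro ⟨v, hv, hv1⟩
    exact hv.2 (SemidirectProduct.inl_injective (hv1.trans (map_one inl).symm))
  · rintro U hU hclosed ⟨_, ⟨v, hv, rfl⟩, hvU⟩ _ ⟨w, hw, rfl⟩
    refine hirr (U.comap inl) (fun α hα u hu => ?_) ⟨v, hvU, hv.2, hv.1⟩ w hw.1
    have := hclosed _ hu (SemidirectProduct.inr ⟨α, hα⟩) (by
      rw [← map_inv, ← SemidirectProduct.inl_aut]
      exact hTr ▸ ⟨_, rfl⟩)
    rw [← map_inv, ← SemidirectProduct.inl_aut] at this
    exact this
  · intro U hUT hn' hX y hy
    refine not_le_sup_zpowers_of_disjoint hUT hn' hy (fun q hq hqU => ?_) ?_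
    · by_contra hq1
      have hle : Subgroup.closure X ≤
          ((MonoidHom.ker (powMonoidHom p : RankTwoGroup N →* RankTwoGroup N)).map inl) := by
        rw [Subgroup.closure_le]
        rintro _ ⟨v, hv, rfl⟩
        exact ⟨v, hv.1, rfl⟩
      obtain ⟨v, hv, rfl⟩ := hle hq
      exact hX _ ⟨v, ⟨hv, fun h => hq1 (by rw [h, map_one])⟩, rfl⟩ hqU
    · have hmem : ∀ v : RankTwoGroup N, v ^ p = 1 → inl v ∈ Subgroup.closure X := fun v hv => by
        by_cases h1 : v = 1
        · rw [h1, map_one]; exact one_mem _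
        · exact Subgroup.subset_closure ⟨v, ⟨hv, h1⟩, rfl⟩
      refine not_isCyclic_of_pair (p := p) (u := ⟨_, hmem (z, 1) (by simp [hzp])⟩)
        (v := ⟨_, hmem (1, z) (by simp [hzp])⟩) ?_ ?_ ?_ ?_
      · exact Subtype.ext (by
          show inl (z, 1) ^ p = 1
          rw [← map_pow, show ((z, 1) : RankTwoGroup N) ^ p = 1 by simp [hzp], map_one])
      · exact Subtype.ext (by
          show inl (1, z) ^ p = 1
          rw [← map_pow, show ((1, z) : RankTwoGroup N) ^ p = 1 by simp [hzp], map_one])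
      · intro h
        have h' : inl ((1 : Multiplicative (ZMod N)), z) = inl 1 :=
          (congrArg Subtype.val h).trans (map_one inl).symm
        exact hz1 (congrArg Prod.snd (SemidirectProduct.inl_injective h'))
      · intro h
        obtain ⟨k, hk⟩ := Subgroup.mem_zpowers_iff.1 h
        have h' : inl (((1 : Multiplicative (ZMod N)), z) ^ k) = inl (z, 1) := by
          rw [map_zpow]; exact congrArg Subtype.val hk
        have h'' := congrArg Prod.fst (SemidirectProduct.inl_injective h')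
        simp at h''
        exact hz1 h''.symm

end CfsgLib.Fusion
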