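import Cfsg.Agent.Lib.Fusion.CentricNormal
import Cfsg.Agent.Lib.Fusion.CoprimeCriterion
import Cfsg.Agent.Lib.Fusion.NormalExtend
import Cfsg.Agent.Lib.Fusion.AlperinGen
import Cfsg.Agent.Lib.Fusion.KNormalizer
import Cfsg.Agent.Lib.Fusion.SmallControl
import Cfsg.Agent.Lib.Fusion.Product
import Cfsg.Agent.Lib.Fusion.Biset.ModelExists
import Cfsg.Agent.Lib.Fusion.Biset.ModelUnique
import Cfsg.Agent.Lib.Transfer.PResidual

/-!
Automorphisms of order prime to `p` that normalize a given subgroup.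
-/

set_option autoImplicit false

namespace CfsgLib.Fusion

open Cfsg Cfsg.FusionSystem
open scoped Pointwise

variable {Ω : Type*} [Group Ω] {S : Subgroup Ω} {F : FusionSystem S} {p : ℕ}

/-- Every `p'`-automorphism of a subgroup containing `X` that normalizes `X` is trivial. -/
def LocTriv (F : FusionSystem S) (p : ℕ) (X : Subgroup Ω) : Prop :=
  ∀ (R : Subgroup Ω), X ≤ R → R ≤ normalizerIn S X → ∀ b ∈ F.autGroup R, (orderOf b).Coprime p →
    (∀ x : R, (x : Ω) ∈ X → ((b x : R) : Ω) ∈ X) → b = 1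

theorem eq_one_of_conj [Fact p.Prime] (hS : IsPGroup p S) {R : Subgroup Ω} {b : MulAut R}
    (hb : (orderOf b).Coprime p) {g : Ω} (hg : g ∈ S)
    (h : ∀ x : R, ((b x : R) : Ω) = g * (x : Ω) * g⁻¹) : b = 1 := by
  obtain ⟨k, hk⟩ := hS ⟨g, hg⟩
  have hgk : g ^ p ^ k = 1 := by simpa using congrArg Subtype.val hk
  have hpow : ∀ (i : ℕ) (x : R), (((b ^ i) x : R) : Ω) = g ^ i * (x : Ω) * (g ^ i)⁻¹ := by
    intro i
    induction i with
    | zero => intro x; simp
    | succ i ih =>
        intro x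
        rw [pow_succ', MulAut.mul_apply, h, ih, pow_succ']
        group
  have h1 : b ^ p ^ k = 1 := MulEquiv.ext fun x => Subtype.ext (by rw [hpow, hgk]; simp)
  exact orderOf_eq_one_iff.1
    (Nat.eq_one_of_dvd_coprimes (hb.pow_right k) dvd_rfl (orderOf_dvd_of_pow_eq_one h1))

theorem coprime_aut_eq_one_of_inner [Fact p.Prime] (hS : IsPGroup p S)
    (h : F = innerFusionSystem S) {R : Subgroup Ω} (hR : R ≤ S) {b : MulAut R}
    (hb : b ∈ F.autGroup R) (hc : (orderOf b).Coprime p) : b = 1 := by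
  subst h
  obtain ⟨g, hg, hv⟩ := mem_autInducedBy_iff.1 ((inner_autGroup hR).le hb)
  exact eq_one_of_conj hS hc hg hv

/-- It is enough to look at subgroups containing a normal subgroup. -/
theorem eq_inner_over [Fact p.Prime] [Finite S] (hS : IsPGroup p S) (hF : F.IsSaturated p)
    {Q : Subgroup Ω} (hQ : F.IsNormal Q)
    (h : ∀ R : Subgroup Ω, Q ≤ R → R ≤ S → ∀ b ∈ F.autGroup R, (orderOf b).Coprime p → b = 1) :
    F = innerFusionSystem S := by
  have hpg : ∀ R : Subgroup Ω, Q ≤ R → R ≤ S → IsPGroup p (F.autGroup R) := by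
    intro R hQR hR
    have := finite_mulAut_of_le (S := S) hR
    exact isPGroup_of_coprime_trivial fun g hg =>
      Subtype.ext (h R hQR hR g g.2 (by rwa [Subgroup.orderOf_coe]))
  refine fusionSystem_antisymm (alperin hS hF _ fun P hP => ?_) (innerFusionSystem_le F)
  rcases hP with rfl | hP
  · have := finite_mulAut_of_le (S := P) le_rfl
    obtain ⟨R, hR⟩ := IsSaturated.top_autGroup_sylow hS hF
    have htop := R.is_maximal' ((hpg P hQ.1 le_rfl).to_subgroup ⊤) le_top
    rw [inner_autGroup le_rfl, autInducedBy_self_eq]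
    intro α hα
    exact (hR.le (htop.le (Subgroup.mem_top (⟨α, hα⟩ : F.autGroup P))) : _)
  · exact absurd hP (not_isEssential_of_isPGroup
      (hpg P (IsNormal.le_centric_radical hS hQ hP.1 (IsEssential.isRadical hS hP)) hP.1.1))

/-- A normalizer system is inner only if the `p'`-automorphisms are trivial. -/
theorem locTriv_of_inner_normalizer [Fact p.Prime] [Finite S] (hS : IsPGroup p S) {X : Subgroup Ω} (hX : X ≤ S)
    (h : ∀ N : FusionSystem (normalizerIn S X), F.IsNormalizerSystem X N →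
      ∀ P : Subgroup Ω, N.Hom P = (innerFusionSystem (normalizerIn S X)).Hom P) :
    LocTriv F p X := by
  intro R hXR hR b hb hc hbX
  have hRS : R ≤ S := hR.trans (normalizerIn_le X)
  have hbF := (mem_autGroup_iff hRS).1 hb
  have hsup : R ⊔ X ≤ R := sup_le le_rfl hXR
  have := finite_le (S := S) hX
  have hmem : R.subtype.comp b.toMonoidHom ∈ (normSystem F X hX).Hom R := by
    refine ⟨hbF, hR, fun x => hR (b x).2, (R.subtype.comp b.toMonoidHom).comp
      (Subgroup.inclusion hsup), restrict_mem hbF _, fun x => rfl, ?_⟩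
    refine Subgroup.eq_of_le_of_card_ge ?_ ?_
    · rintro _ ⟨x, hx, rfl⟩
      exact hbX (Subgroup.inclusion hsup x) hx
    · exact (card_img (F.injective_of_mem (restrict_mem hbF _)) le_sup_right).ge
  rw [h _ (normSystem_isNormalizerSystem F X hX)] at hmem
  obtain ⟨-, g, hg, hv⟩ := hmem
  exact eq_one_of_conj hS hc hg.1 hv

/-- Bad automorphisms move with a map on the normalizer. -/
theorem exists_bad_of_transport [Finite S] {X X' : Subgroup Ω} {f : normalizerIn S X →* Ω}
    (hf : f ∈ F.Hom (normalizerIn S X)) (hfm : ∀ x, f x ∈ normalizerIn S X')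
    (hfX : img f X = X') {R : Subgroup Ω} (hXR : X ≤ R) (hR : R ≤ normalizerIn S X)
    {b : MulAut R} (hb : b ∈ F.autGroup R) (hc : (orderOf b).Coprime p) (hne : b ≠ 1)
    (hbX : ∀ x : R, (x : Ω) ∈ X → ((b x : R) : Ω) ∈ X) : ¬ LocTriv F p X' := by
  obtain ⟨e, he, hev⟩ := exists_iso (restrict_mem hf hR) rfl
  intro hLT
  refine hne ((MulAut.congr e).injective ?_)
  rw [map_one]
  refine hLT _ ?_ ?_ _ (he.congr_autGroup ▸ Subgroup.mem_map_of_mem _ hb) ?_ ?_
  · rw [← hfX]
    rintro _ ⟨x, hx, rfl⟩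
    exact ⟨⟨x, hXR hx⟩, rfl⟩
  · rintro _ ⟨x, rfl⟩
    exact hfm _
  · rwa [show orderOf ((MulAut.congr e) b) = orderOf b from (MulAut.congr e).orderOf_eq b]
  · intro y hy
    obtain ⟨x, rfl⟩ := e.surjective y
    rw [hev x] at hy
    obtain ⟨z, hz, hzx⟩ := mem_img.1 (hfX.ge hy)
    have hxX : (x : Ω) ∈ X := by
      have := F.injective_of_mem hf (hzx : f z = f (Subgroup.inclusion hR x))
      rw [this] at hz
      exact hz
    show ((e (b (e.symm (e x))) : _) : Ω) ∈ X'
    rw [MulEquiv.symm_apply_apply, hev]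
    exact hfX.le (mem_img.2 ⟨Subgroup.inclusion hR (b x), hbX x hxX, rfl⟩)

/-- A subgroup over a Sylow subgroup without nontrivial `p'`-elements is the Sylow subgroup. -/
theorem le_sylow_of_coprime_trivial {G : Type*} [Group G] [Finite G] [Fact p.Prime] (T : Sylow p G)
    {H : Subgroup G} (hTH : (T : Subgroup G) ≤ H)
    (h : ∀ g ∈ H, (orderOf g).Coprime p → g = 1) : H ≤ (T : Subgroup G) :=
  (T.is_maximal' (isPGroup_of_coprime_trivial (G := H) fun g hg =>
    Subtype.ext (h g g.2 (by rwa [Subgroup.orderOf_coe]))) hTH).le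

/-- A group with self-centralising core and a normal `p`-complement is a `p`-group. -/
theorem sylow_top_of_npc {G : Type*} [Group G] [Finite G] [Fact p.Prime] (T : Sylow p G)
    (hC : Subgroup.centralizer ((pCore p G : Subgroup G) : Set G) ≤ pCore p G)
    (h : HasNormalPComplement p G) : (T : Subgroup G) = ⊤ := by
  obtain ⟨K, hKn, hKc, hKp⟩ := Transfer.hasNormalPComplement_iff_exists.1 h
  have hdisj : Disjoint (pCore p G) K := by
    obtain ⟨k, hk⟩ := IsPGroup.iff_card.1 (Core.isPGroup_pCore p G)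
    exact Subgroup.disjoint_of_coprime_natCard (hk ▸ (hKc.pow_right k).symm)
  have hKC : K ≤ Subgroup.centralizer ((pCore p G : Subgroup G) : Set G) := fun x hx =>
    Subgroup.mem_centralizer_iff.2 fun y hy =>
      (Subgroup.commute_of_normal_of_disjoint _ _ inferInstance hKn hdisj y x hy hx)
  have hKbot : K = ⊥ := by
    rw [← hdisj.eq_bot]
    exact (inf_eq_right.2 (hKC.trans hC)).symm
  subst hKbot
  refine (T.is_maximal' (IsPGroup.of_equiv ?_ Subgroup.topEquiv.symm) le_top).symm
  exact hKp.of_equiv QuotientGroup.quotientBot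

end CfsgLib.Fusion
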