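import Cfsg.Agent.Lib.Fusion.Model
import Cfsg.Agent.Lib.Fusion.InnerBasic
import Cfsg.Agent.Lib.Fusion.NormalCriterion

/-!
Elements of models as automorphisms.
-/

set_option autoImplicit false

namespace CfsgLib.Fusion

open Cfsg Cfsg.FusionSystem

variable {Ω : Type*} [Group Ω] {S : Subgroup Ω} {F : FusionSystem S} {p : ℕ}
  {L : Type*} [Group L] {ι : S →* L}

/-- An element of a model normalizing the image of `R` gives an automorphism of `R`. -/
theorem model_exists_aut [Finite S] (hG : F.IsModel p L ι) {R : Subgroup Ω} (hRS : R ≤ S) {h : L}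
    (hmem : ∀ z : R, ∃ r : R, ι ⟨r, hRS r.2⟩ = h * ι ⟨z, hRS z.2⟩ * h⁻¹) :
    ∃ b ∈ F.autGroup R, orderOf b ∣ orderOf h ∧
      ∀ z : R, ι ⟨((b z : R) : Ω), hRS (b z).2⟩ = h * ι ⟨z, hRS z.2⟩ * h⁻¹ := by
  obtain ⟨-, ⟨hinj, hiff⟩, -, -⟩ := hG
  choose r hr using hmem
  let f : R →* R :=
    { toFun := r
      map_one' := Subtype.ext ((congrArg Subtype.val (hinj
        (a₁ := (⟨r 1, hRS (r 1).2⟩ : S)) (a₂ := 1) (by
          rw [hr, map_one, show (⟨((1 : R) : Ω), hRS (1 : R).2⟩ : S) = 1 from rfl, map_one]; simp)) :))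
      map_mul' := fun a b => Subtype.ext ((congrArg Subtype.val (hinj
        (a₁ := (⟨r (a * b), hRS (r (a * b)).2⟩ : S)) (a₂ := ⟨r a, hRS (r a).2⟩ * ⟨r b, hRS (r b).2⟩) (by
          rw [hr, map_mul, hr, hr,
            show (⟨((a * b : R) : Ω), hRS (a * b).2⟩ : S) = ⟨a, hRS a.2⟩ * ⟨b, hRS b.2⟩ from rfl,
            map_mul]
          group)) :)) }
  have hφF : R.subtype.comp f ∈ F.Hom R :=
    (hiff R hRS _ fun z => hRS (f z).2).2 ⟨h, fun z => hr z⟩
  have := finite_le hRS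
  have hrange : (R.subtype.comp f).range = R := Subgroup.eq_of_le_of_card_ge
    (by rintro _ ⟨z, rfl⟩; exact (f z).2)
    (le_of_eq (Nat.card_congr (MonoidHom.ofInjective (F.injective_of_mem hφF)).toEquiv))
  obtain ⟨e, he, hev⟩ := exists_iso hφF hrange
  have hv : ∀ z : R, ι ⟨((e z : R) : Ω), hRS (e z).2⟩ = h * ι ⟨z, hRS z.2⟩ * h⁻¹ := fun z => by
    rw [show (⟨((e z : R) : Ω), hRS (e z).2⟩ : S) = ⟨f z, hRS (f z).2⟩ from Subtype.ext (hev z)]
    exact hr z
  refine ⟨e, (mem_autGroup_iff_isoIn hRS).2 he, ?_, hv⟩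
  have hpow : ∀ (k : ℕ) (z : R), ι ⟨(((e : MulAut R) ^ k) z : R), hRS (((e : MulAut R) ^ k) z).2⟩ =
      h ^ k * ι ⟨z, hRS z.2⟩ * (h ^ k)⁻¹ := by
    intro k
    induction k with
    | zero => intro z; simp
    | succ k ih =>
        intro z
        rw [show (⟨((((e : MulAut R) ^ (k + 1)) z : R) : Ω), hRS (((e : MulAut R) ^ (k + 1)) z).2⟩ : S)
            = ⟨e (((e : MulAut R) ^ k) z), hRS (e _).2⟩ from Subtype.ext (by
              rw [pow_succ', MulAut.mul_apply]), hv, ih, pow_succ']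
        group
  refine orderOf_dvd_of_pow_eq_one (MulEquiv.ext fun z => Subtype.ext ?_)
  have h1 := hpow (orderOf h) z
  rw [pow_orderOf_eq_one h, one_mul, inv_one, mul_one] at h1
  exact (congrArg Subtype.val (hinj h1) :)

/-- Conjugation in a model preserves the core. -/
theorem model_coreBack_conj [Fact p.Prime] (hG : F.IsModel p L ι) (h : L)
    (z : coreBack p ι) : ∃ r : coreBack p ι,
      ι ⟨r, (model_isNormal_coreBack hG).1 r.2⟩ =
        h * ι ⟨z, (model_isNormal_coreBack hG).1 z.2⟩ * h⁻¹ := by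
  have hz : ι ⟨z, (model_isNormal_coreBack hG).1 z.2⟩ ∈ pCore p L := mem_coreBack.1 z.2
  have h1 := (inferInstance : (pCore p L).Normal).conj_mem _ hz h
  obtain ⟨s, hs⟩ := model_pCore_le hG h1
  exact ⟨⟨s, mem_coreBack.2 (hs.symm ▸ h1)⟩, hs⟩

/-- A `p'`-element of a model fixing the core is trivial. -/
theorem model_eq_one_of_fix [Fact p.Prime] (hG : F.IsModel p L ι) {h : L}
    (hc : (orderOf h).Coprime p)
    (hfix : ∀ s : S, (s : Ω) ∈ coreBack p ι → h * ι s * h⁻¹ = ι s) : h = 1 := by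
  have hcore := model_pCore_le hG
  obtain ⟨-, -, -, hcent⟩ := hG
  have hhc : h ∈ pCore p L := by
    refine hcent (Subgroup.mem_centralizer_iff.2 fun y hy => ?_)
    obtain ⟨s, hs⟩ := hcore hy
    have h1 := hfix s (mem_coreBack.2 (hs.symm ▸ hy))
    rw [hs] at h1
    exact (mul_inv_eq_iff_eq_mul.1 h1).symm
  obtain ⟨k, hk⟩ := Core.isPGroup_pCore p L ⟨h, hhc⟩
  exact orderOf_eq_one_iff.1 (Nat.eq_one_of_dvd_coprimes (hc.pow_right k) dvd_rfl
    (orderOf_dvd_of_pow_eq_one (congrArg Subtype.val hk)))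

/-- A model that is a `p`-group gives the inner system. -/
theorem inner_of_model_range_top (hG : F.IsModel p L ι) (h : ι.range = ⊤) :
    F = innerFusionSystem S := by
  obtain ⟨-, ⟨hinj, hiff⟩, -, -⟩ := hG
  refine fusionSystem_antisymm (fun P φ hφ => ?_) (innerFusionSystem_le F)
  have hPS := hom_le hφ
  obtain ⟨g, hg⟩ := (hiff P hPS φ (hom_apply_mem hφ)).1 hφ
  obtain ⟨s, rfl⟩ : g ∈ ι.range := by rw [h]; trivial
  refine ⟨hPS, s, s.2, fun x => ?_⟩
  have h := hg x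
  rw [← map_inv, ← map_mul, ← map_mul] at h
  exact congrArg Subtype.val (hinj h)

end CfsgLib.Fusion
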