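import Cfsg.Agent.Lib.Fusion.CharCriterion
import Cfsg.Agent.Lib.Fusion.CriterionZJ
import Cfsg.Agent.Lib.Fusion.ModelTools
import Cfsg.Agent.Lib.Fusion.AxiomaticThompson

/-!
The axiomatic Glauberman–Thompson criterion for fusion systems.
-/

set_option autoImplicit false

namespace CfsgLib.Fusion

open Cfsg Cfsg.FusionSystem
open scoped commutatorElement

universe u

variable {Ω : Type u} [Group Ω] {S : Subgroup Ω} {F : FusionSystem S} {p : ℕ}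

set_option maxHeartbeats 800000 in
/-- A system is inner if the intersection of an axiomatic family has no bad automorphism. -/
theorem inner_of_axiomatic [Fact p.Prime] [Finite S] (hS : IsPGroup p S) (hF : F.IsSaturated p)
    (hp : p ≠ 2) (𝒜 : Set (Subgroup Ω)) (h𝒜 : ∀ A ∈ 𝒜, A ≤ S ∧ IsMulCommutative A)
    (hne : 𝒜.Nonempty)
    (hinv : ∀ Q : Subgroup Ω, Q ≤ S → (∃ A ∈ 𝒜, A ≤ Q) → ∀ α ∈ F.autGroup Q, ∀ x : Q,
      (x : Ω) ∈ sInf {A : Subgroup Ω | A ∈ 𝒜 ∧ A ≤ Q} →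
      (((α : MulAut Q) x : Q) : Ω) ∈ sInf {A : Subgroup Ω | A ∈ 𝒜 ∧ A ≤ Q})
    (hrep : ∀ B : Subgroup Ω, B ≤ S → ⁅⁅B, B⁆, B⁆ = ⊥ → (∃ A ∈ 𝒜, ⁅B, B⁆ ≤ A ∧ ¬ B ≤ A) →
      ∃ A ∈ 𝒜, ⁅B, B⁆ ≤ A ∧ ¬ B ≤ A ∧ B ≤ Subgroup.normalizer (A : Set Ω))
    (hloc : LocTriv F p (sInf 𝒜)) : F = innerFusionSystem S := by
  by_contra hFne
  obtain ⟨A₀, hA₀⟩ := hne
  set X := sInf 𝒜 with hX
  have hXS : X ≤ S := (sInf_le hA₀).trans (h𝒜 A₀ hA₀).1
  -- `X` is normal in `S`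
  have hXN : S ≤ Subgroup.normalizer (X : Set Ω) := by
    rw [Subgroup.le_normalizer_iff]
    intro g hg x hx
    have hgN : g ∈ Subgroup.normalizer (S : Set Ω) := Subgroup.le_normalizer hg
    have hXeq : sInf {A : Subgroup Ω | A ∈ 𝒜 ∧ A ≤ S} = X :=
      congrArg sInf (Set.ext fun A => ⟨fun h => h.1, fun h => ⟨h, (h𝒜 A h).1⟩⟩)
    have h := hinv S le_rfl ⟨A₀, hA₀, (h𝒜 A₀ hA₀).1⟩ (conjAut ⟨g, hg, hgN⟩)
      (autInducedBy_le_autGroup le_rfl (conjAut_mem _)) ⟨x, hXS hx⟩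
      (hXeq.ge hx)
    exact hXeq.le h
  obtain ⟨E, hEF, ⟨hEsat, R, hRn, hRc⟩, P, hP⟩ := exists_constrained hS hF
    (exists_bad_normal hS hF hp hFne)
    fun N Q _ _ _ _ _ _ _ _ E hS' hEs _ hEne => exists_bad_normal hS' hEs hp hEne
  obtain ⟨L, _, ι, hG⟩ := exists_model_of_normal_centric hS hEsat hRn hRc
  have hfinL := hG.1
  have hinj : Function.Injective ι := hG.2.1.1
  have htop : ι.range ≠ ⊤ := fun h => hP (by rw [inner_of_model_range_top hG h])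
  -- a minimal subgroup above the Sylow subgroup
  obtain ⟨H, hTH', hmin⟩ := Set.Finite.exists_minimal (s := {H : Subgroup L | ι.range < H})
    (Set.toFinite _) ⟨⊤, lt_top_iff_ne_top.2 htop⟩
  have hTH : ι.range < H := hTH'
  obtain ⟨TL, hTL⟩ := hG.2.2.1
  have hTLH : (TL : Subgroup L) ≤ H := hTL.le.trans hTH.le
  set TH : Sylow p H := TL.subtype hTLH
  set j : S →* H := ι.codRestrict H fun s => hTH.le ⟨s, rfl⟩ with hj
  have hjinj : Function.Injective j := fun a b h => hinj (congrArg Subtype.val h)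
  have hjT : (TH : Subgroup H) = j.range := by
    ext x
    constructor
    · intro hx
      obtain ⟨s, hs⟩ := hTL.le (hx : (x : L) ∈ (TL : Subgroup L))
      exact ⟨s, Subtype.ext hs⟩
    · rintro ⟨s, rfl⟩
      exact (hTL.ge ⟨s, rfl⟩ : (ι s : L) ∈ (TL : Subgroup L))
  have hcoatom : IsCoatom (TH : Subgroup H) := by
    constructor
    · intro h
      exact hTH.not_ge fun x hx => hTL.le (h.ge (Subgroup.mem_top (⟨x, hx⟩ : H)))
    · intro M hM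
      have hlt : ι.range < M.map H.subtype := by
        refine lt_of_le_of_ne (fun x hx => ⟨⟨x, hTH.le hx⟩, hM.le (hTL.ge hx), rfl⟩) fun h => ?_
        refine hM.not_ge fun y hy => ?_
        exact (hTL.ge (h.ge ⟨y, hy, rfl⟩) : (y : L) ∈ (TL : Subgroup L))
      have := hmin hlt (Subgroup.map_subtype_le M)
      refine eq_top_iff.2 fun y _ => ?_
      obtain ⟨z, hz, hzy⟩ := this y.2
      exact (Subtype.ext hzy : z = y) ▸ hz
  have hcH : Subgroup.centralizer (pCore p H : Set H) ≤ pCore p H := by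
    have hQH : (pCore p L).subgroupOf H ≤ pCore p H :=
      Core.le_pCore ((Core.isPGroup_pCore p L).comap_subtype)
    intro c hc
    refine hQH (hG.2.2.2 (Subgroup.mem_centralizer_iff.2 fun q hq => ?_) : (c : L) ∈ _)
    exact congrArg Subtype.val (Subgroup.mem_centralizer_iff.1 hc
      ⟨q, hTLH (Core.pCore_le_sylow TL hq)⟩ (hQH hq))
  -- the family in `H`
  set 𝒜H := (fun A : Subgroup Ω => (A.subgroupOf S).map j) '' 𝒜 with h𝒜H
  have hlift : ∀ {Q : Subgroup H}, Q ≤ (TH : Subgroup H) →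
      ((((Q.comap j).map S.subtype).subgroupOf S).map j = Q) := by
    intro Q hQ
    rw [Subgroup.subgroupOf, Subgroup.comap_map_eq_self_of_injective S.subtype_injective,
      Subgroup.map_comap_eq_self (hQ.trans hjT.le)]
  have hmono : ∀ {A Q : Subgroup Ω}, A ≤ S → (A.subgroupOf S).map j ≤ (Q.subgroupOf S).map j →
      A ≤ Q := fun {A Q} hA h a ha => by
    obtain ⟨b, hb, hba⟩ := h ⟨⟨a, hA ha⟩, ha, rfl⟩
    have := hjinj hba
    subst this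
    exact hb
  have hnorm : (sInf 𝒜H).Normal := by
    refine Axiomatic.sInf_normal TH hcH (fun B _ hB a ha hq => ?_) 𝒜H ?_ ?_ ⟨_, A₀, hA₀, rfl⟩ ?_ ?_
    · by_cases hn : (TH : Subgroup H).Normal
      · have := hn.map (QuotientGroup.mk' (Subgroup.centralizer (B : Set H)))
          (QuotientGroup.mk'_surjective _)
        exact Core.le_pCore (TH.isPGroup'.map (QuotientGroup.mk' _)) ⟨a, ha, rfl⟩
      · exact CfsgLib.PLocal.SLTwo.mem_pCore_of_noSL hp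
          (Axiomatic.noSL_of_coatom hp TH hcH hcoatom hn) B hB hq
    · rintro _ ⟨A, -, rfl⟩
      exact (Subgroup.map_le_range _ _).trans hjT.ge
    · rintro _ ⟨A, hA, rfl⟩
      have := (h𝒜 A hA).2
      refine Subgroup.le_centralizer_iff_isMulCommutative.1 ?_
      rintro _ ⟨a, ha, rfl⟩
      refine Subgroup.mem_centralizer_iff.2 ?_
      rintro _ ⟨b, hb, rfl⟩
      rw [← map_mul, ← map_mul]
      exact congrArg j (Subtype.ext (congrArg Subtype.val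
        (mul_comm' (⟨(b : Ω), hb⟩ : A) ⟨(a : Ω), ha⟩) :))
    · intro Q hQT ⟨_, ⟨A, hA, rfl⟩, hAQ⟩ g hg x hx
      replace hx : x ∈ sInf {A | A ∈ 𝒜H ∧ A ≤ Q} := hx
      set Qb := (Q.comap j).map S.subtype with hQb
      have hQbS : Qb ≤ S := Subgroup.map_subtype_le _
      have hQeq := hlift hQT
      have hAQb : A ≤ Qb := hmono (h𝒜 A hA).1 (hAQ.trans hQeq.ge)
      have hmem : ∀ z : Qb, ∃ r : Qb, ι ⟨r, hQbS r.2⟩ = (g : L) * ι ⟨z, hQbS z.2⟩ * (g : L)⁻¹ := by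
        intro z
        have hz : j ⟨z, hQbS z.2⟩ ∈ Q := hQeq.le ⟨_, z.2, rfl⟩
        obtain ⟨s, hs, hsv⟩ := hQeq.ge ((Subgroup.mem_normalizer_iff.1 hg _).1 hz)
        exact ⟨⟨s, hs⟩, congrArg Subtype.val hsv⟩
      obtain ⟨b, hb, -, hbv⟩ := model_exists_aut hG hQbS hmem
      have hbF : b ∈ F.autGroup Qb :=
        (mem_autGroup_iff hQbS).2 (hEF Qb ((mem_autGroup_iff hQbS).1 hb))
      obtain ⟨s, hs⟩ := hjT.le (hQT (hAQ (Subgroup.mem_sInf.1 hx ((A.subgroupOf S).map j) ⟨⟨A, hA, rfl⟩, hAQ⟩)))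
      have hsI : (s : Ω) ∈ sInf {A : Subgroup Ω | A ∈ 𝒜 ∧ A ≤ Qb} := by
        refine Subgroup.mem_sInf.2 fun A' hA' => ?_
        obtain ⟨t, ht, htx⟩ := Subgroup.mem_sInf.1 hx ((A'.subgroupOf S).map j) ⟨⟨A', hA'.1, rfl⟩,
          (Subgroup.map_mono (Subgroup.comap_mono hA'.2)).trans hQeq.le⟩
        rw [← hs] at htx
        exact hjinj htx ▸ ht
      have hsQ : (s : Ω) ∈ Qb := hAQb (Subgroup.mem_sInf.1 hsI A ⟨hA, hAQb⟩)
      have h2 := hinv Qb hQbS ⟨A, hA, hAQb⟩ b hbF ⟨s, hsQ⟩ hsI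
      refine Subgroup.mem_sInf.2 ?_
      rintro _ ⟨⟨A', hA', rfl⟩, hA'Q⟩
      refine ⟨⟨_, hQbS (b ⟨s, hsQ⟩).2⟩, Subgroup.mem_sInf.1 h2 A'
        ⟨hA', hmono (h𝒜 A' hA').1 (hA'Q.trans hQeq.ge)⟩, Subtype.ext ?_⟩
      rw [← hs]
      exact hbv ⟨s, hsQ⟩
    · intro B hBT hcl ⟨_, ⟨A, hA, rfl⟩, hA1, hA2⟩
      set B₀ := B.comap j with hB₀
      have hBeq : B₀.map j = B := Subgroup.map_comap_eq_self (hBT.trans hjT.le)
      set Bb := B₀.map S.subtype with hBb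
      have hcom : ⁅Bb, Bb⁆ = (⁅B₀, B₀⁆).map S.subtype := (Subgroup.map_commutator _ _ _).symm
      have hcl' : ⁅⁅Bb, Bb⁆, Bb⁆ = ⊥ := by
        have : ⁅⁅B₀, B₀⁆, B₀⁆.map j = ⊥ := by
          rw [Subgroup.map_commutator, Subgroup.map_commutator, hBeq, hcl]
        rw [hcom, ← Subgroup.map_commutator,
          (Subgroup.map_eq_bot_iff_of_injective _ hjinj).1 this, Subgroup.map_bot]
      have hback : ∀ C : Subgroup Ω, C ≤ S →
          ((⁅Bb, Bb⁆ ≤ C ↔ ⁅B, B⁆ ≤ (C.subgroupOf S).map j) ∧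
            (Bb ≤ C ↔ B ≤ (C.subgroupOf S).map j)) := by
        intro C _
        constructor
        · rw [hcom, ← hBeq, ← Subgroup.map_commutator,
            Subgroup.map_le_map_iff_of_injective hjinj]
          exact Subgroup.map_le_iff_le_comap
        · rw [← hBeq, Subgroup.map_le_map_iff_of_injective hjinj]
          exact Subgroup.map_le_iff_le_comap
      obtain ⟨A', hA', h1, h2, h3⟩ := hrep Bb (Subgroup.map_subtype_le _) hcl'
        ⟨A, hA, (hback A (h𝒜 A hA).1).1.2 hA1, fun h => hA2 ((hback A (h𝒜 A hA).1).2.1 h)⟩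
      refine ⟨_, ⟨A', hA', rfl⟩, (hback A' (h𝒜 A' hA').1).1.1 h1,
        fun h => h2 ((hback A' (h𝒜 A' hA').1).2.2 h), ?_⟩
      rw [← hBeq, Subgroup.le_normalizer_iff]
      rintro _ ⟨b, hb, rfl⟩ _ ⟨a, ha, rfl⟩
      refine ⟨b * a * b⁻¹, ?_, by simp⟩
      exact (Subgroup.mem_normalizer_iff.1 (h3 ⟨b, hb, rfl⟩) (a : Ω)).1 ha
  -- the normalizer of `X` in `H` is the Sylow subgroup
  refine hTH.not_ge ?_
  refine (le_sylow_of_coprime_trivial TL hTLH fun h hh hco => ?_).trans hTL.le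
  set U := coreBack p ι
  have hUS : U ≤ S := (model_isNormal_coreBack hG).1
  set M := U ⊔ X with hM
  have hMS : M ≤ S := sup_le hUS hXS
  have hxim : ∀ x (hx : x ∈ X), ∃ r : S, (r : Ω) ∈ X ∧ ι r = h * ι ⟨x, hXS hx⟩ * h⁻¹ := by
    intro x hx
    have hxH : j ⟨x, hXS hx⟩ ∈ sInf 𝒜H := by
      refine Subgroup.mem_sInf.2 ?_
      rintro _ ⟨A, hA, rfl⟩
      exact ⟨⟨x, hXS hx⟩, Subgroup.mem_sInf.1 hx A hA, rfl⟩
    have h1 := hnorm.conj_mem _ hxH ⟨h, hh⟩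
    obtain ⟨r, -, hrv⟩ := Subgroup.mem_sInf.1 h1 _ ⟨A₀, hA₀, rfl⟩
    refine ⟨r, Subgroup.mem_sInf.2 fun A hA => ?_, congrArg Subtype.val hrv⟩
    obtain ⟨r', hr', hr'v⟩ := Subgroup.mem_sInf.1 h1 _ ⟨A, hA, rfl⟩
    exact hjinj (hr'v.trans hrv.symm) ▸ hr'
  have hmem : ∀ z : M, ∃ r : M, ι ⟨r, hMS r.2⟩ = h * ι ⟨z, hMS z.2⟩ * h⁻¹ := by
    have hle : M ≤ ((((M.subgroupOf S).map ι).comap (MulAut.conj h).toMonoidHom).comap ι).map
        S.subtype := by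
      refine sup_le (fun y hy => ⟨⟨y, hUS hy⟩, ?_, rfl⟩) fun y hy => ⟨⟨y, hXS hy⟩, ?_, rfl⟩
      · obtain ⟨r, hr⟩ := model_coreBack_conj hG h ⟨y, hy⟩
        exact ⟨⟨r, hUS r.2⟩, Subgroup.mem_sup_left r.2, hr⟩
      · obtain ⟨r, hr, hrv⟩ := hxim y hy
        exact ⟨r, Subgroup.mem_sup_right hr, hrv⟩
    intro z
    obtain ⟨s, hs, hsz⟩ := hle z.2
    obtain rfl : s = ⟨z, hMS z.2⟩ := Subtype.ext hsz
    obtain ⟨r, hr, hrv⟩ := hs
    exact ⟨⟨r, hr⟩, hrv⟩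
  obtain ⟨b, hb, hbo, hbv⟩ := model_exists_aut hG hMS hmem
  have hbF : b ∈ F.autGroup M := (mem_autGroup_iff hMS).2 (hEF M ((mem_autGroup_iff hMS).1 hb))
  have hb1 := hloc M le_sup_right (le_inf hMS (hMS.trans hXN)) b hbF
    (hco.coprime_dvd_left hbo) fun x hx => by
      obtain ⟨r, hr, hrv⟩ := hxim x hx
      have h1 : (⟨((b x : M) : Ω), hMS (b x).2⟩ : S) = r := hinj ((hbv x).trans hrv.symm)
      rw [show ((b x : M) : Ω) = (r : Ω) from congrArg Subtype.val h1]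
      exact hr
  have hcent : h ∈ pCore p L := hG.2.2.2 (Subgroup.mem_centralizer_iff.2 fun c hc => by
    obtain ⟨c₀, rfl⟩ := model_pCore_le hG hc
    have h1 := hbv ⟨c₀, Subgroup.mem_sup_left (mem_coreBack.2 hc)⟩
    rw [hb1] at h1
    exact eq_mul_inv_iff_mul_eq.1 h1)
  obtain ⟨k, hk⟩ := Core.isPGroup_pCore p L ⟨h, hcent⟩
  exact orderOf_eq_one_iff.1 (Nat.eq_one_of_dvd_coprimes (hco.pow_right k) dvd_rfl
    (orderOf_dvd_of_pow_eq_one (show h ^ p ^ k = 1 from congrArg Subtype.val hk)))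

end CfsgLib.Fusion
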