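import Cfsg.Agent.Lib.Fusion.CoprimeCriterion
import Cfsg.Agent.Lib.Fusion.CentricNormal
import Cfsg.Agent.Lib.Fusion.NormalCriterion
import Cfsg.Agent.Lib.Fusion.Biset.ModelExists
import Cfsg.Agent.Lib.Fusion.Biset.ModelUnique
import Cfsg.Agent.Lib.Core.Cores
import Mathlib.GroupTheory.Transfer
import Mathlib.GroupTheory.Frattini

/-!
A system with a normal subgroup between the derived and the Frattini subgroup is inner as soon as
its automorphisms of `S` are.
-/

set_option autoImplicit false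
set_option linter.style.haveILetI false

namespace CfsgLib.Fusion

open Cfsg Cfsg.FusionSystem
open scoped commutatorElement

/-- A group with self-normalising Sylow subgroup, self-centralising core and a suitable normal
subgroup inside the Frattini subgroup of the Sylow subgroup is a `p`-group. -/
theorem sylow_eq_top_of_frattini {M : Type*} [Group M] [Finite M] {p : ℕ} [Fact p.Prime]
    (T : Sylow p M) (Q : Subgroup M) [Q.Normal] (hQT : Q ≤ (T : Subgroup M))
    (hQΦ : Q.subgroupOf (T : Subgroup M) ≤ frattini ↥(T : Subgroup M))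
    (hcomm : ∀ a ∈ (T : Subgroup M), ∀ b ∈ (T : Subgroup M), ⁅a, b⁆ ∈ Q)
    (hN : Subgroup.normalizer ((T : Subgroup M) : Set M) ≤ (T : Subgroup M))
    (hC : Subgroup.centralizer ((pCore p M : Subgroup M) : Set M) ≤ pCore p M) :
    (T : Subgroup M) = ⊤ := by
  have hp : p.Prime := Fact.out
  set π := QuotientGroup.mk' Q with hπdef
  have hπ : Function.Surjective π := QuotientGroup.mk'_surjective Q
  set T' : Sylow p (M ⧸ Q) := T.mapSurjective hπ with hT'def
  have hT' : (T' : Subgroup (M ⧸ Q)) = (T : Subgroup M).map π := rfl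
  have hcm : ((T' : Subgroup (M ⧸ Q))).comap π = (T : Subgroup M) := by
    rw [hT', Subgroup.comap_map_eq, QuotientGroup.ker_mk', sup_eq_left.2 hQT]
  have hP : Subgroup.normalizer ((T' : Subgroup (M ⧸ Q)) : Set (M ⧸ Q)) ≤
      Subgroup.centralizer ((T' : Subgroup (M ⧸ Q)) : Set (M ⧸ Q)) := by
    intro x hx
    obtain ⟨m, rfl⟩ := hπ x
    have hm : m ∈ (T : Subgroup M) := hN (Subgroup.mem_normalizer_iff.2 fun t => by
      rw [← hcm, Subgroup.mem_comap, Subgroup.mem_comap, map_mul, map_mul, map_inv]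
      exact Subgroup.mem_normalizer_iff.1 hx _)
    refine Subgroup.mem_centralizer_iff.2 ?_
    rintro _ ⟨t, ht, rfl⟩
    rw [← commutatorElement_eq_one_iff_mul_comm, ← map_commutatorElement,
      hπdef, QuotientGroup.mk'_apply, QuotientGroup.eq_one_iff]
    exact hcomm t ht m hm
  set K₀ := (MonoidHom.transferSylow T' hP).ker
  have hcompl := MonoidHom.ker_transferSylow_isComplement' T' hP
  set K := K₀.comap π with hKdef
  haveI : K.Normal := (inferInstance : K₀.Normal).comap π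
  have hKT : K ⊓ (T : Subgroup M) = Q := by
    rw [← hcm, hKdef, ← Subgroup.comap_inf, disjoint_iff.1 hcompl.disjoint,
      MonoidHom.comap_bot, hπdef, QuotientGroup.ker_mk']
  have hKsup : K ⊔ (T : Subgroup M) = ⊤ := by
    rw [← hcm, hKdef, Subgroup.comap_sup_eq π K₀ (T' : Subgroup (M ⧸ Q)) hπ]
    exact (congrArg (Subgroup.comap π) hcompl.sup_eq_top).trans (Subgroup.comap_top π)
  have hKp : IsPGroup p (M ⧸ K) := by
    refine IsPGroup.of_surjective T.2 ((QuotientGroup.mk' K).comp (T : Subgroup M).subtype) ?_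
    rw [← MonoidHom.range_eq_top, MonoidHom.range_comp, Subgroup.range_subtype]
    have h := congrArg (Subgroup.map (QuotientGroup.mk' K)) hKsup
    rwa [Subgroup.map_sup, QuotientGroup.map_mk'_self, bot_sup_eq,
      Subgroup.map_top_of_surjective _ (QuotientGroup.mk'_surjective K)] at h
  have hr : ∀ r : ℕ, r.Prime → r ≠ p → ¬ r ∣ Nat.card K := by
    intro r hr hrp hdvd
    haveI : Fact r.Prime := ⟨hr⟩
    obtain ⟨R⟩ : Nonempty (Sylow r K) := inferInstance
    set R₁ := (R : Subgroup K).map K.subtype with hR₁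
    set N := Subgroup.normalizer (R₁ : Set M) with hNdef
    have hfr : N ⊔ K = ⊤ := Sylow.normalizer_sup_eq_top R
    set f : N →* M ⧸ K := (QuotientGroup.mk' K).comp N.subtype with hfdef
    have hf : Function.Surjective f := by
      rw [← MonoidHom.range_eq_top, hfdef, MonoidHom.range_comp, Subgroup.range_subtype]
      have h := congrArg (Subgroup.map (QuotientGroup.mk' K)) hfr
      rwa [Subgroup.map_sup, QuotientGroup.map_mk'_self, sup_bot_eq,
        Subgroup.map_top_of_surjective _ (QuotientGroup.mk'_surjective K)] at h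
    obtain ⟨P₁⟩ : Nonempty (Sylow p N) := inferInstance
    have hP₁top : (P₁ : Subgroup N).map f = ⊤ :=
      ((P₁.mapSurjective hf).is_maximal' (hKp.to_subgroup ⊤) le_top).symm
    set P₁' := (P₁ : Subgroup N).map N.subtype with hP₁'
    obtain ⟨T₁, hT₁⟩ := (P₁.2.map N.subtype).exists_le_sylow
    obtain ⟨g, hg⟩ := MulAction.exists_smul_eq M T₁ T
    -- move everything into `T`
    set P₂ := P₁'.map (MulAut.conj g).toMonoidHom with hP₂
    set R₂ := R₁.map (MulAut.conj g).toMonoidHom with hR₂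
    have hP₂T : P₂ ≤ (T : Subgroup M) := by
      rintro _ ⟨x, hx, rfl⟩
      rw [← hg]
      exact ⟨x, hT₁ hx, rfl⟩
    have hP₂K : ∀ t ∈ (T : Subgroup M), ∃ q ∈ P₂, t * q⁻¹ ∈ K := by
      intro t _
      have h := hP₁top.ge (Subgroup.mem_top (QuotientGroup.mk' K (g⁻¹ * t * g)))
      obtain ⟨q, hq, hqt⟩ := h
      refine ⟨g * (q : M) * g⁻¹, ⟨q, ⟨q, hq, rfl⟩, rfl⟩, ?_⟩
      have h1 : g⁻¹ * t * g * (q : M)⁻¹ ∈ K := by
        rw [← QuotientGroup.eq_one_iff (N := K), QuotientGroup.mk_mul, QuotientGroup.mk_inv,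
          mul_inv_eq_one]
        exact hqt.symm
      have h2 := (inferInstance : K.Normal).conj_mem _ h1 g
      convert h2 using 1
      group
    have hTeq : P₂ = (T : Subgroup M) := by
      have htop : P₂.subgroupOf (T : Subgroup M) ⊔ frattini ↥(T : Subgroup M) = ⊤ := by
        refine top_le_iff.1 fun t _ => ?_
        obtain ⟨q, hq, hk⟩ := hP₂K t t.2
        have hkQ : (t : M) * q⁻¹ ∈ Q := hKT.le ⟨hk, mul_mem t.2 (Subgroup.inv_mem _ (hP₂T hq))⟩
        have h : t = (⟨(t : M) * q⁻¹, hQT hkQ⟩ : ↥(T : Subgroup M)) * ⟨q, hP₂T hq⟩ := by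
          ext
          simp
        rw [h]
        exact mul_mem (Subgroup.mem_sup_right (hQΦ hkQ))
          (Subgroup.mem_sup_left (show (⟨q, hP₂T hq⟩ : ↥(T : Subgroup M)) ∈ P₂.subgroupOf (T : Subgroup M) from hq))
      exact le_antisymm hP₂T (Subgroup.subgroupOf_eq_top.1 (frattini_nongenerating htop))
    have hTR : ∀ t ∈ (T : Subgroup M), ∀ x ∈ R₂, t * x * t⁻¹ ∈ R₂ := by
      intro t ht x hx
      rw [← hTeq] at ht
      obtain ⟨_, ⟨a, ha, rfl⟩, rfl⟩ := ht
      obtain ⟨b, hb, rfl⟩ := hx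
      refine ⟨(a : M) * b * (a : M)⁻¹, (Subgroup.mem_normalizer_iff.1 a.2 b).1 hb, ?_⟩
      simp only [MulEquiv.coe_toMonoidHom, MulAut.conj_apply, Subgroup.coe_subtype]
      group
    have hR₂r : IsPGroup r R₂ := (R.2.map _).map _
    have hUT : pCore p M ≤ (T : Subgroup M) := Core.pCore_le_sylow T
    have hdisj : Disjoint (pCore p M) R₂ :=
      IsPGroup.disjoint_of_ne p r (fun h => hrp h.symm) _ _ (T.2.to_le hUT) hR₂r
    have hR₂bot : R₂ = ⊥ := by
      refine (Subgroup.eq_bot_iff_forall _).2 fun x hx => ?_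
      refine hdisj.eq_bot.le ⟨hC (Subgroup.mem_centralizer_iff.2 fun u hu => ?_), hx⟩
      rw [← commutatorElement_eq_one_iff_mul_comm]
      refine hdisj.eq_bot.le ⟨?_, ?_⟩
      · rw [commutatorElement_def, mul_assoc u x, mul_assoc u]
        exact mul_mem hu ((inferInstance : (pCore p M).Normal).conj_mem _ (inv_mem hu) x)
      · rw [commutatorElement_def]
        exact mul_mem (hTR u (hUT hu) x hx) (Subgroup.inv_mem _ hx)
    have h1 : Nat.card R₂ = Nat.card (R : Subgroup K) := by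
      rw [hR₂, hR₁, Subgroup.card_map_of_injective (MulEquiv.injective _),
        Subgroup.card_map_of_injective K.subtype_injective]
    rw [hR₂bot, Subgroup.card_bot] at h1
    have h2 := R.dvd_card_of_dvd_card hdvd
    rw [← h1] at h2
    exact hr.one_lt.ne' (Nat.eq_one_of_dvd_one h2)
  have hKpg : IsPGroup p K := by
    refine IsPGroup.iff_card.2 ⟨(Nat.card K).primeFactorsList.length, ?_⟩
    exact Nat.eq_prime_pow_of_unique_prime_dvd Nat.card_pos.ne' fun {d} hd hdvd =>
      by_contra fun hne => hr d hd hne hdvd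
  rw [← hKsup]
  refine (sup_eq_right.2 ?_).symm
  exact (Core.le_pCore hKpg).trans (Core.pCore_le_sylow T)

variable {Ω : Type*} [Group Ω] {S : Subgroup Ω} {F : FusionSystem S} {p : ℕ}

/-- With inner automorphisms of `S`, every automorphism of a subgroup containing `Q` is trivial
modulo `Q` when `S/Q` is abelian. -/
theorem diff_mem_of_top_inner [Fact p.Prime] [Finite S] (hS : IsPGroup p S) (hF : F.IsSaturated p)
    (hinn : ∀ φ ∈ F.Hom S, ∃ g ∈ S, ∀ x : S, φ x = g * (x : Ω) * g⁻¹)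
    {Q : Subgroup Ω} (hQn : F.IsNormal Q) (hab : ∀ a ∈ S, ∀ b ∈ S, ⁅a, b⁆ ∈ Q)
    {R : Subgroup Ω} (hQR : Q ≤ R) (hR : R ≤ S) {α : MulAut R} (hα : α ∈ F.autGroup R) (x : R) :
    (x : Ω)⁻¹ * α x ∈ Q := by
  have hQsc := IsNormal.stronglyClosed hQn
  have hRN : ∀ g ∈ S, g ∈ Subgroup.normalizer (R : Set Ω) := by
    intro g hg
    have h : ∀ y ∈ R, ∀ h ∈ S, h * y * h⁻¹ ∈ R := fun y hy h hh => by
      have h1 := R.mul_mem (hQR (hab h hh y (hR hy))) hy
      rwa [commutatorElement_def, inv_mul_cancel_right] at h1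
    refine Subgroup.mem_normalizer_iff.2 fun y => ⟨fun hy => h y hy g hg, fun hy => ?_⟩
    have := h _ hy g⁻¹ (inv_mem hg)
    simpa [mul_assoc] using this
  have hfn : F.IsFullyNormalized R := ⟨hR, fun R' _ => by
    rw [show normalizerIn S R = S from le_antisymm (normalizerIn_le R) fun g hg => ⟨hg, hRN g hg⟩]
    exact Subgroup.card_le_of_le (normalizerIn_le R')⟩
  have hfa := IsSaturated.fullyAutomized hS hF hfn
  have hrec := IsSaturated.receptive hS hF (IsSaturated.fullyCentralized hS hF hfn)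
  have hpres : ∀ a ∈ F.autGroup R, ∀ y : R, (y : Ω) ∈ Q → ((a y : R) : Ω) ∈ Q := fun a ha y hy =>
    StronglyClosed.apply_mem hQsc ((mem_autGroup_iff hR).1 ha) hy
  let K : Subgroup (F.autGroup R) :=
    { carrier := {a | ∀ y : R, (y : Ω)⁻¹ * ((a : MulAut R) y : R) ∈ Q}
      one_mem' := fun y => by simp
      mul_mem' := fun {a b} ha hb y => by
        have := Q.mul_mem (hb y) (ha ((b : MulAut R) y))
        simpa [mul_assoc] using this
      inv_mem' := fun {a} ha y => by
        have := Q.inv_mem (ha ((a : MulAut R)⁻¹ y))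
        simpa using this }
  have hKn : K.Normal := ⟨fun b hb a y => by
    have h := hpres a a.2 (((a : MulAut R)⁻¹ y)⁻¹ * (b : MulAut R) ((a : MulAut R)⁻¹ y))
      (hb ((a : MulAut R)⁻¹ y))
    simpa using h⟩
  obtain ⟨T, hT⟩ := hfa.2
  have := finite_mulAut_of_le (S := S) hR
  have hTK : (T : Subgroup (F.autGroup R)) ≤ K := by
    rw [hT]
    intro a ha y
    obtain ⟨g, hg, hv⟩ := mem_autInducedBy_iff.1 ha
    rw [show (((a : MulAut R) y : R) : Ω) = g * (y : Ω) * g⁻¹ from hv y, ← mul_assoc, ← mul_assoc]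
    have := hab (y : Ω)⁻¹ (inv_mem (hR y.2)) g hg
    rw [commutatorElement_def, inv_inv] at this
    exact this
  suffices h : (⊤ : Subgroup (F.autGroup R)) ≤ K from h (Subgroup.mem_top (⟨α, hα⟩ : F.autGroup R)) x
  rw [← Sylow.normalizer_sup_eq_top' T hTK]
  refine sup_le (fun a ha => ?_) le_rfl
  intro y
  have he : IsoIn F ((a : MulAut R) : R ≃* R) := (mem_autGroup_iff_isoIn hR).1 a.2
  have hext : S ≤ extender S R (isoHom ((a : MulAut R) : R ≃* R)) := by
    intro g hg
    set c : F.autGroup R :=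
      ⟨conjAut ⟨g, hg, hRN g hg⟩, autInducedBy_le_autGroup hR (conjAut_mem _)⟩ with hc
    have hcT : c ∈ (T : Subgroup (F.autGroup R)) := hT.ge (conjAut_mem _)
    have h1 := (Subgroup.mem_normalizer_iff.1 ha c).1 hcT
    rw [hT] at h1
    obtain ⟨k, hk, hk'⟩ := mem_autInducedBy_iff.1 h1
    refine mem_extender_iff.2 ⟨hg, hRN g hg, k, hk, fun z hz => ?_⟩
    have h2 := hk' ((a : MulAut R) z)
    rw [show (((F.autGroup R).subtype (a * c * a⁻¹)) ((a : MulAut R) z) : R) =
      (a : MulAut R) ((c : MulAut R) ((a : MulAut R)⁻¹ ((a : MulAut R) z))) from rfl,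
      MulAut.inv_apply_self] at h2
    exact h2
  obtain ⟨ψ, hψ, hag⟩ := exists_extension hrec he hR hext
  obtain ⟨s, hs, hsv⟩ := hinn ψ hψ
  have h1 := (hag y).symm.trans (hsv _)
  rw [h1, Subgroup.coe_inclusion, ← mul_assoc, ← mul_assoc]
  have := hab (y : Ω)⁻¹ (inv_mem (hR y.2)) s hs
  rwa [commutatorElement_def, inv_inv] at this

/-- The key case of a normal subgroup between the derived and the Frattini subgroup. -/
theorem eq_inner_of_normal_mod [Fact p.Prime] [Finite S] (hS : IsPGroup p S)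
    (hF : F.IsSaturated p)
    (hinn : ∀ φ ∈ F.Hom S, ∃ g ∈ S, ∀ x : S, φ x = g * (x : Ω) * g⁻¹)
    {Q : Subgroup Ω} (hQn : F.IsNormal Q) (hab : ∀ a ∈ S, ∀ b ∈ S, ⁅a, b⁆ ∈ Q)
    (hΦ : Q.subgroupOf S ≤ frattini ↥S) : F = innerFusionSystem S := by
  have hQS := hQn.1
  have hQsc := IsNormal.stronglyClosed hQn
  have hp : p.Prime := Fact.out
  set R₀ := Q ⊔ centralizerIn S Q with hR₀
  have hR₀S : R₀ ≤ S := sup_le hQS (centralizerIn_le Q)
  -- the centralizer of `Q` lies in every centric radical subgroup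
  have hcr : ∀ R : Subgroup Ω, F.IsCentric R → F.IsRadical p R → R₀ ≤ R := by
    intro R hc hr
    have hQR := IsNormal.le_centric_radical hS hQn hc hr
    refine sup_le hQR fun q hq => ?_
    obtain ⟨hqS, hqQ⟩ := mem_centralizerIn.1 hq
    let K : Subgroup (F.autGroup R) :=
      { carrier := {a | ∀ y : R, (y : Ω) ∈ Q → (a : MulAut R) y = y}
        one_mem' := fun y _ => rfl
        mul_mem' := fun {a b} ha hb y hy => by
          show (a : MulAut R) ((b : MulAut R) y) = y
          rw [hb y hy, ha y hy]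
        inv_mem' := fun {a} ha y hy => by
          show (a : MulAut R)⁻¹ y = y
          conv_lhs => rw [← ha y hy]
          exact MulAut.inv_apply_self R _ y }
    haveI : K.Normal := ⟨fun b hb a y hy => by
      have h := StronglyClosed.apply_mem hQsc ((mem_autGroup_iff hc.1).1 (inv_mem a.2)) hy
      show (a : MulAut R) ((b : MulAut R) ((a : MulAut R)⁻¹ y)) = y
      rw [hb ((a : MulAut R)⁻¹ y) h, MulAut.apply_inv_self]⟩
    have hqN : q ∈ normalizerIn S R := by
      refine ⟨hqS, ?_⟩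
      have h : ∀ y ∈ R, ∀ h ∈ S, h * y * h⁻¹ ∈ R := fun y hy h hh => by
        have h1 := R.mul_mem (hQR (hab h hh y (hc.1 hy))) hy
        rwa [commutatorElement_def, inv_mul_cancel_right] at h1
      refine Subgroup.mem_normalizer_iff.2 fun y => ⟨fun hy => h y hy q hqS, fun hy => ?_⟩
      have := h _ hy q⁻¹ (inv_mem hqS)
      simpa [mul_assoc] using this
    refine mem_of_kernel hS hc hr K (fun b hb hbc => ?_) ⟨q, hqN⟩ fun y hy => Subtype.ext ?_
    · refine Subtype.ext (MulEquiv.ext fun y => ?_)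
      show (b : MulAut R) y = y
      set d : R := y⁻¹ * (b : MulAut R) y with hd
      have hdQ : (d : Ω) ∈ Q := diff_mem_of_top_inner hS hF hinn hQn hab hQR hc.1 b.2 y
      have hpow : ∀ k : ℕ, ((b : MulAut R) ^ k) y = y * d ^ k := by
        intro k
        induction k with
        | zero => simp
        | succ k ih =>
            rw [pow_succ', MulAut.mul_apply, ih, map_mul, map_pow, hb d hdQ,
              show (b : MulAut R) y = y * d by rw [hd, mul_inv_cancel_left], mul_assoc, ← pow_succ']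
      have h1 := hpow (orderOf b)
      rw [← Subgroup.orderOf_coe, pow_orderOf_eq_one, MulAut.one_apply, left_eq_mul,
        Subgroup.orderOf_coe] at h1
      obtain ⟨k, hk⟩ := (hS.to_le hc.1) d
      have h2 : orderOf d ∣ Nat.gcd (p ^ k) (orderOf b) :=
        Nat.dvd_gcd (orderOf_dvd_of_pow_eq_one hk) (orderOf_dvd_of_pow_eq_one h1)
      rw [Nat.Coprime.gcd_eq_one ((hbc.pow_right k).symm), Nat.dvd_one, orderOf_eq_one_iff] at h2
      rw [← mul_inv_cancel_left y ((b : MulAut R) y), ← hd, h2, mul_one]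
    · show q * (y : Ω) * q⁻¹ = y
      rw [← hqQ y hy, mul_inv_cancel_right]
  have hR₀n : F.IsNormal R₀ := by
    refine isNormal_of_invariant hS hF fun P hP => ?_
    have hR₀P : R₀ ≤ P := by
      rcases hP with rfl | hP
      · exact hR₀S
      · exact hcr P hP.1 (IsEssential.isRadical hS hP)
    have hPS : P ≤ S := by
      rcases hP with rfl | hP
      · exact le_rfl
      · exact hP.1.1
    refine ⟨hR₀P, fun α hα => map_subgroupOf_eq hPS ?_⟩
    rintro _ ⟨y, hy, rfl⟩
    show ((α y : P) : Ω) ∈ R₀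
    rw [← mul_inv_cancel_left (y : Ω) (α y : Ω)]
    exact mul_mem hy (Subgroup.mem_sup_left
      (diff_mem_of_top_inner hS hF hinn hQn hab (le_sup_left.trans hR₀P) hPS hα y))
  have hR₀c : F.IsCentric R₀ := by
    refine ⟨hR₀S, fun P ⟨φ, hφ, hP⟩ => ?_⟩
    rw [← hP, (StronglyClosed.weaklyClosed (IsNormal.stronglyClosed hR₀n)).2 φ hφ]
    exact (centralizerIn_antitone le_sup_left).trans le_sup_right
  obtain ⟨M, _, ι, hG⟩ := exists_model_of_normal_centric hS hF hR₀n hR₀c
  have hcore := model_pCore_le hG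
  have hact := fun g => model_action hG hQn g
  obtain ⟨hfin, ⟨hinj, hiff⟩, ⟨T, hT⟩, hcent⟩ := hG
  set QM := (Q.subgroupOf S).map ι with hQM
  haveI : QM.Normal := ⟨by
    rintro _ ⟨s, hs, rfl⟩ g
    obtain ⟨α, -, hv⟩ := hact g
    refine ⟨Subgroup.inclusion hQS (α ⟨s, hs⟩), (α ⟨s, hs⟩).2, ?_⟩
    rw [eq_mul_inv_iff_mul_eq]
    exact (hv ⟨s, hs⟩).symm⟩
  let e : S ≃* ↥(T : Subgroup M) :=
    (MonoidHom.ofInjective hinj).trans (MulEquiv.subgroupCongr hT.symm)
  have hTtop : (T : Subgroup M) = ⊤ := by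
    refine sylow_eq_top_of_frattini T QM (fun x ⟨s, _, hsx⟩ => hT.ge ⟨s, hsx⟩) ?_ ?_ ?_ hcent
    · intro x hx
      obtain ⟨s, hs, hsx⟩ := hx
      rw [show x = e s from Subtype.ext hsx.symm]
      exact frattini_le_comap_frattini_of_surjective (φ := e.toMonoidHom) e.surjective (hΦ hs)
    · intro a ha b hb
      rw [hT] at ha hb
      obtain ⟨a, rfl⟩ := ha
      obtain ⟨b, rfl⟩ := hb
      exact ⟨⁅a, b⁆, by simpa [Subgroup.mem_subgroupOf, commutatorElement_def] using hab a a.2 b b.2,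
        map_commutatorElement ι a b⟩
    · intro g hg
      rw [hT] at hg ⊢
      have hmem : ∀ s : S, g * ι s * g⁻¹ ∈ ι.range := fun s =>
        (Subgroup.mem_normalizer_iff.1 hg _).1 ⟨s, rfl⟩
      let φ : S →* Ω := S.subtype.comp ((MonoidHom.ofInjective hinj).symm.toMonoidHom.comp
        (((MulAut.conj g).toMonoidHom.comp ι).codRestrict ι.range hmem))
      have hφS : ∀ z, φ z ∈ S := fun z => ((MonoidHom.ofInjective hinj).symm _).2
      have hφv : ∀ z : S, ι ⟨φ z, hφS z⟩ = g * ι z * g⁻¹ := fun z =>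
        MonoidHom.apply_ofInjective_symm hinj ⟨_, hmem z⟩
      obtain ⟨s, hs, hsv⟩ := hinn φ ((hiff S le_rfl φ hφS).2 ⟨g, hφv⟩)
      have hd : (ι ⟨s, hs⟩)⁻¹ * g ∈ pCore p M := by
        refine hcent (Subgroup.mem_centralizer_iff.2 fun y hy => ?_)
        obtain ⟨t, ht⟩ := hcore hy
        rw [← ht]
        have h1 : ι (⟨s, hs⟩ * t * ⟨s, hs⟩⁻¹) = g * ι t * g⁻¹ := by
          rw [← hφv t]
          exact congrArg ι (Subtype.ext (hsv t).symm)
        rw [map_mul, map_mul, map_inv] at h1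
        calc ι t * ((ι ⟨s, hs⟩)⁻¹ * g)
            = (ι ⟨s, hs⟩)⁻¹ * (ι ⟨s, hs⟩ * ι t * (ι ⟨s, hs⟩)⁻¹) * g := by group
          _ = (ι ⟨s, hs⟩)⁻¹ * (g * ι t * g⁻¹) * g := by rw [h1]
          _ = (ι ⟨s, hs⟩)⁻¹ * g * ι t := by group
      have := mul_mem (⟨⟨s, hs⟩, rfl⟩ : ι ⟨s, hs⟩ ∈ ι.range) (hcore hd)
      rwa [mul_inv_cancel_left] at this
  refine fusionSystem_antisymm (fun P φ hφ => ?_) (innerFusionSystem_le F)
  have hPS := hom_le hφ
  obtain ⟨g, hg⟩ := (hiff P hPS φ (hom_apply_mem hφ)).1 hφ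
  obtain ⟨s, rfl⟩ : g ∈ ι.range := by rw [← hT, hTtop]; trivial
  refine ⟨hPS, s, s.2, fun x => ?_⟩
  have h := hg x
  rw [← map_inv, ← map_mul, ← map_mul] at h
  exact congrArg Subtype.val (hinj h)

end CfsgLib.Fusion
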