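import Cfsg.Agent.Lib.Fusion.JClimb
import Cfsg.Agent.Lib.Fusion.FourFreeModel
import Cfsg.Agent.Lib.Techniques2.ThompsonComplementA
import Cfsg.Agent.Lib.Transfer.PResidual

/-!
A system with inner `C(Z(S))` and `N(J(S))` is inner, for `p` odd or without sections `S₄`.
-/

set_option autoImplicit false

namespace CfsgLib.Fusion

open Cfsg Cfsg.FusionSystem

universe u

variable {Ω : Type u} [Group Ω] {S : Subgroup Ω} {F : FusionSystem S} {p : ℕ}

set_option maxHeartbeats 800000 in
/-- Thompson's complement theorem for fusion systems. -/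
theorem inner_of_center_thompson [Fact p.Prime] [Finite S] (hS : IsPGroup p S)
    (hF : F.IsSaturated p) (hfree : p ≠ 2 ∨ FourFree F)
    (hC : ∀ (P : Subgroup Ω) (φ : P →* Ω), φ ∈ F.centralizerHom (centerOf S) P →
      φ ∈ (innerFusionSystem S).Hom P)
    (hN : ∀ (P : Subgroup Ω) (φ : P →* Ω),
      φ ∈ F.normalizerHom (thompsonSubgroupAOf S) P → φ ∈ (innerFusionSystem S).Hom P) :
    F = innerFusionSystem S := by
  refine fusionSystem_antisymm (le_of_thompsonA_climb hS hF _ hN ?_) (innerFusionSystem_le F)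
  intro _ Y hYc hYn _ _ hJY hbig P φ hφ
  have hYS := hYc.1
  set T := normalizerIn S Y with hT
  have hTS : T ≤ S := normalizerIn_le Y
  have := finite_le hTS
  have hTp : IsPGroup p T := hS.to_le hTS
  have hYT : Y ≤ T := le_normalizerIn hYS
  have hNsys := normSystem_isNormalizerSystem F Y hYS
  set N := normSystem F Y hYS with hNdef
  have hNn : N.IsNormal Y := normalizerSystem_isNormal hYS hNsys
  have hsub : N.IsSubsystemOf F := fun A χ hχ => normalizerSystem_le hNsys hχ
  have hNc : N.IsCentric Y := ⟨hYT, fun R ⟨χ, hχ, hR⟩ => fun z hz =>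
    hYc.2 R ⟨χ, normalizerSystem_le hNsys hχ, hR⟩ ⟨hTS hz.1, hz.2⟩⟩
  obtain ⟨L, _, ι, hG⟩ := exists_model_of_normal_centric hTp
    (normalizerSystem_saturated hS hF hYn hNsys) hNn hNc
  have := hG.1
  have hUn := model_isNormal_coreBack hG
  set U := coreBack p ι with hU
  have hinj : Function.Injective ι := hG.2.1.1
  -- `Y` lies in the core
  have hYU : Y ≤ U := by
    intro y hy
    refine (mem_coreBack (s := ⟨y, hYT hy⟩)).2 ?_
    have : ((Y.subgroupOf T).map ι).Normal := ⟨by
      rintro _ ⟨s, hs, rfl⟩ g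
      obtain ⟨α, -, hv⟩ := model_action hG hNn g
      refine ⟨Subgroup.inclusion hYT (α ⟨s, hs⟩), (α ⟨s, hs⟩).2, ?_⟩
      rw [eq_mul_inv_iff_mul_eq]
      exact (hv ⟨s, hs⟩).symm⟩
    have h2 : (Y.subgroupOf T).map ι ≤ pCore p L := Core.le_pCore ((hTp.to_subgroup _).map ι)
    exact h2 ⟨⟨y, hYT hy⟩, hy, rfl⟩
  have hUT : U ≤ T := hUn.1
  obtain ⟨TL, hTL⟩ := hG.2.2.1
  -- the Thompson subgroup in the model
  have hJT : thompsonSubgroupAOf T ≤ T := thompsonAOf_le T
  have hJL : thompsonSubgroupAOf (TL : Subgroup L) =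
      ((thompsonSubgroupAOf T).subgroupOf T).map ι := by
    rw [← thompsonA_subgroupOf (le_refl T), Subgroup.subgroupOf_self, Subgroup.subgroupOf,
      Subgroup.comap_map_eq_self_of_injective T.subtype_injective, hTL, MonoidHom.range_eq_map,
      Techniques.thompsonAOf_map ι _ (by
        rw [(MonoidHom.ker_eq_bot_iff ι).2 hinj]; exact disjoint_bot_right)]
  have hTJ : (TL : Subgroup L) ≤
      Subgroup.normalizer (thompsonSubgroupAOf (TL : Subgroup L) : Set L) :=
    Subgroup.le_normalizer.trans (normalizer_le_normalizer_thompsonA _)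
  have hNL : Subgroup.normalizer (thompsonSubgroupAOf (TL : Subgroup L) : Set L) ≤
      (TL : Subgroup L) := by
    refine le_sylow_of_coprime_trivial TL hTJ fun h hh hco => ?_
    set R := U ⊔ thompsonSubgroupAOf T with hR
    have hRT : R ≤ T := sup_le hUT hJT
    have hmem : ∀ z : R, ∃ r : R, ι ⟨r, hRT r.2⟩ = h * ι ⟨z, hRT z.2⟩ * h⁻¹ := by
      have hle : R ≤ ((((R.subgroupOf T).map ι).comap (MulAut.conj h).toMonoidHom).comap ι).map
          T.subtype := by
        refine sup_le (fun x hx => ⟨⟨x, hUT hx⟩, ?_, rfl⟩) fun x hx => ⟨⟨x, hJT hx⟩, ?_, rfl⟩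
        · obtain ⟨r, hr⟩ := model_coreBack_conj hG h ⟨x, hx⟩
          exact ⟨⟨r, hUT r.2⟩, Subgroup.mem_sup_left r.2, hr⟩
        · have h1 : h * ι ⟨x, hJT hx⟩ * h⁻¹ ∈ thompsonSubgroupAOf (TL : Subgroup L) :=
            (Subgroup.mem_normalizer_iff.1 hh _).1 (hJL.ge ⟨⟨x, hJT hx⟩, hx, rfl⟩)
          obtain ⟨s, hs, hsx⟩ := hJL.le h1
          exact ⟨s, Subgroup.mem_sup_right (hs : (s : Ω) ∈ thompsonSubgroupAOf T), hsx⟩
      intro z
      obtain ⟨s, hs, hsz⟩ := hle z.2
      obtain rfl : s = ⟨z, hRT z.2⟩ := Subtype.ext hsz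
      obtain ⟨r, hr, hrv⟩ := hs
      exact ⟨⟨r, hr⟩, hrv⟩
    obtain ⟨b, hb, hbo, hbv⟩ := model_exists_aut hG hRT hmem
    have hRS : R ≤ S := hRT.trans hTS
    have hYR : Y ≤ R := hYU.trans le_sup_left
    have hcard : Nat.card Y < Nat.card R := by
      have := finite_le hRS
      refine lt_of_le_of_ne (Subgroup.card_le_of_le hYR) fun e => hJY ?_
      exact le_sup_right.trans (Subgroup.eq_of_le_of_card_ge hYR e.ge).ge
    have hTR : T ≤ normalizerIn S R := fun t ht => ⟨hTS ht, by
      have h1 := Subgroup.mem_normalizer_iff_map_conj_eq.1 (IsNormal.normal_in hUn ht)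
      have h2 := Subgroup.mem_normalizer_iff_map_conj_eq.1
        (normalizer_le_normalizer_thompsonA T (Subgroup.le_normalizer ht))
      refine Subgroup.mem_normalizer_iff_map_conj_eq.2 ?_
      rw [hR, Subgroup.map_sup]
      exact congrArg₂ (· ⊔ ·) h1 h2⟩
    have hbF : R.subtype.comp b.toMonoidHom ∈ F.Hom R :=
      hsub R ((mem_autGroup_iff hRT).1 hb)
    have hb1 : b = 1 := by
      have hmemn : R.subtype.comp b.toMonoidHom ∈ F.normalizerHom R R := by
        refine ⟨hbF, le_normalizerIn hRS, fun x => le_normalizerIn hRS (b x).2,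
          (R.subtype.comp b.toMonoidHom).comp (Subgroup.inclusion (sup_le le_rfl le_rfl)),
          restrict_mem hbF _, fun x => rfl, ?_⟩
        have := finite_le hRS
        refine Subgroup.eq_of_le_of_card_ge ?_ ?_
        · rintro _ ⟨x, -, rfl⟩
          exact (b _).2
        · exact (card_img (F.injective_of_mem (restrict_mem hbF _)) le_sup_right).ge
      obtain ⟨-, g, hg, hgv⟩ :=
        hbig R (isCentric_mono hYc hYR hRS) hTR hcard R _ hmemn
      exact eq_one_of_conj hS (hco.coprime_dvd_left hbo) hg hgv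
    refine model_eq_one_of_fix hG hco fun s hs => ?_
    have h1 := hbv ⟨s, Subgroup.mem_sup_left hs⟩
    rw [hb1] at h1
    exact h1.symm
  -- the centralizer of the centre
  set ZT : Subgroup L :=
    (TL : Subgroup L) ⊓ Subgroup.centralizer ((TL : Subgroup L) : Set L) with hZT
  have hCL : Subgroup.centralizer (ZT : Set L) ≤ (TL : Subgroup L) := by
    refine le_sylow_of_coprime_trivial TL (fun t ht => Subgroup.mem_centralizer_iff.2
      fun z hz => (Subgroup.mem_centralizer_iff.1 hz.2 t ht).symm) fun h hh hco => ?_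
    obtain ⟨b, hb, hbo, hbv⟩ := model_exists_aut hG hUT (model_coreBack_conj hG h)
    have hUS : U ≤ S := hUT.trans hTS
    have hZU : centerOf S ≤ U :=
      ((centerOf_le_of_isCentric hYc).trans inf_le_left).trans hYU
    have hbF : U.subtype.comp b.toMonoidHom ∈ F.Hom U := hsub U ((mem_autGroup_iff hUT).1 hb)
    have hZfix : ∀ z : U, (z : Ω) ∈ centerOf S → b z = z := by
      intro z hz
      have hzT : ι ⟨z, hUT z.2⟩ ∈ ZT := by
        refine ⟨hTL.ge ⟨_, rfl⟩, Subgroup.mem_centralizer_iff.2 fun t ht => ?_⟩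
        obtain ⟨s, rfl⟩ := hTL.le ht
        rw [← map_mul, ← map_mul]
        exact congrArg ι (Subtype.ext (centerOf_comm hz (hTS s.2)))
      have h1 := hbv z
      rw [← Subgroup.mem_centralizer_iff.1 hh _ hzT, mul_inv_cancel_right] at h1
      exact Subtype.ext (congrArg Subtype.val (hinj h1) :)
    have hUC : U ≤ centralizerIn S (centerOf S) := fun x hx => mem_centralizerIn.2
      ⟨hUS hx, fun z hz => (centerOf_comm hz (hUS hx)).symm⟩
    obtain ⟨-, g, hg, hgv⟩ := hC U _ ⟨hbF, hUC, fun x => hUC (b x).2,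
      (U.subtype.comp b.toMonoidHom).comp (Subgroup.inclusion (sup_le le_rfl hZU)),
      restrict_mem hbF _, fun x => rfl,
      fun x => congrArg Subtype.val (hZfix (Subgroup.inclusion hZU x) x.2)⟩
    have hb1 := eq_one_of_conj hS (hco.coprime_dvd_left hbo) hg hgv
    refine model_eq_one_of_fix hG hco fun s hs => ?_
    have h1 := hbv ⟨s, hs⟩
    rw [hb1] at h1
    exact h1.symm
  have htop : (TL : Subgroup L) = ⊤ := by
    refine sylow_top_of_npc TL hG.2.2.2 (Techniques.hasNormalPComplement_thompsonA ?_ TL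
      (Transfer.hasNormalPComplement_of_isPGroup (TL.isPGroup'.to_le hCL))
      (Transfer.hasNormalPComplement_of_isPGroup (TL.isPGroup'.to_le hNL)))
    exact hfree.imp id fun hf => (hf.mono hsub hTS).not_involves_model hG
  have hNinner : N = innerFusionSystem T := inner_of_model_range_top hG (hTL.symm.trans htop)
  have hφN : φ ∈ N.Hom P := hφ
  rw [hNinner] at hφN
  obtain ⟨hPT, g, hg, hv⟩ := hφN
  exact ⟨hPT.trans hTS, g, hTS hg, hv⟩

end CfsgLib.Fusion
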