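import Cfsg.Agent.Lib.Fusion.FocalTransfer
import Cfsg.Agent.Lib.Fusion.Saturated
import Mathlib.Algebra.Field.ZMod
import Mathlib.GroupTheory.SpecificGroups.Cyclic

/-!
Thompson's transfer lemma in a saturated system, counted in a characteristic biset.
-/

set_option autoImplicit false

namespace CfsgLib.Fusion

open Cfsg Cfsg.FusionSystem MulAction Marks

universe u

/-- The sum of a function constant on a union of orbits with `2`-divisible contributions. -/
theorem dvd_card_mul_of_orbits {K C : Type*} [Group K] [Finite K] [Finite C] [MulAction K C]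
    {m d : ℕ} (h : ∀ c : C, d * Nat.card (stabilizer K c) ∣ m) :
    d * Nat.card K ∣ Nat.card C * m := by
  classical
  have := Fintype.ofFinite (orbitRel.Quotient K C)
  rw [Nat.card_congr (selfEquivSigmaOrbits K C), Nat.card_sigma, Finset.sum_mul]
  refine Finset.dvd_sum fun q _ => ?_
  rw [← Nat.card_congr (orbitProdStabilizerEquivGroup K q.out), Nat.card_prod, mul_left_comm]
  exact Nat.mul_dvd_mul_left _ (h _)

variable {Ω : Type u} [Group Ω] {S : Subgroup Ω} {F : FusionSystem S}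

/-- In a group of order two normalizing is centralizing. -/
theorem normalizerIn_zpowers_involution {x : Ω} (hx : orderOf x = 2) :
    normalizerIn S (Subgroup.zpowers x) = centralizerIn S (Subgroup.zpowers x) := by
  refine le_antisymm (fun g hg => mem_centralizerIn.2 ⟨hg.1, fun y hy => ?_⟩)
    (centralizerIn_le_normalizerIn _)
  have h1 := conj_mem_of_mem_normalizer hg.2 (Subgroup.mem_zpowers x)
  obtain ⟨k, hk⟩ := Subgroup.mem_zpowers_iff.1 h1
  have hgx : g * x * g⁻¹ = x := by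
    rw [← zpow_mod_orderOf, hx] at hk
    rcases Int.emod_two_eq k with h0 | h0 <;> rw [Nat.cast_ofNat, h0] at hk
    · rw [zpow_zero, eq_mul_inv_iff_mul_eq, one_mul, left_eq_mul] at hk
      rw [hk]; simp
    · rw [zpow_one] at hk
      exact hk.symm
  obtain ⟨n, rfl⟩ := Subgroup.mem_zpowers_iff.1 hy
  exact ((Commute.zpow_right (mul_inv_eq_iff_eq_mul.1 hgx : Commute g x) n).symm).eq

/-- An involution whose fully normalized conjugates avoid a subgroup of index two is not focal. -/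
theorem not_mem_focal_of_involution [Finite S] (hS : IsPGroup 2 S) (hF : F.IsSaturated 2)
    {T : Subgroup Ω} (hT : T.relIndex S = 2) {i : Ω} (hi : i ∈ S) (hi2 : orderOf i = 2)
    (h : ∀ j : Ω, F.IsConjElt i j → F.IsFullyNormalized (Subgroup.zpowers j) → j ∉ T) :
    i ∉ F.focalSubgroup := by
  classical
  intro hif
  obtain ⟨X, iA, iF, hX, n, hn, hn2⟩ := exists_charBiset (F := F) hS hF
  let _ : MulAction S X := rightAct S X
  have hsm : ∀ (b : S) (x : X), b • x = ((1, b) : ↥S × ↥S) • x := fun b x => rfl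
  have hc : ∀ (g : parkGroup S X) (b : S) (x : X), g • b • x = b • g • x := fun g b x => g.2 b x
  have hfree : ∀ (b : S) (x : X), b • x = x → b = 1 := fun b x h => hX.right_free b x h
  have : Fintype (orbitRel.Quotient S X) := Fintype.ofFinite _
  set T₂ := T.subgroupOf S with hT₂
  have hT₂i : T₂.index = 2 := hT
  have : T₂.Normal := Subgroup.normal_of_index_eq_two hT₂i
  have hcard2 : Nat.card (S ⧸ T₂) = 2 := by rw [← Subgroup.index_eq_card]; exact hT₂i
  have : IsCyclic (S ⧸ T₂) := isCyclic_of_prime_card hcard2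
  letI : CommGroup (S ⧸ T₂) := IsCyclic.commGroup
  let θ : S →* S ⧸ T₂ := QuotientGroup.mk' T₂
  have hθ : ∀ c : S, θ c = 1 ↔ (c : Ω) ∈ T := fun c => QuotientGroup.eq_one_iff c
  set τ := FreeTransfer.transferHom (G := parkGroup S X) hfree Quotient.out
    (fun o => o.out_eq') θ hc with hτ
  have hfoc : ∀ y ∈ F.focalSubgroup, ∃ hy : y ∈ S, τ (parkEmb S X ⟨y, hy⟩) = 1 := by
    intro y hy
    induction hy using Subgroup.closure_induction with
    | mem y hy =>
        obtain ⟨P, φ, x, hφ, rfl⟩ := hy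
        refine ⟨S.mul_mem (S.inv_mem (hom_le hφ x.2)) (hom_apply_mem hφ x), ?_⟩
        obtain ⟨g, hg⟩ := hX.exists_conj hφ
        have h2 := congrArg τ (hg x)
        rw [map_mul, map_mul, mul_comm] at h2
        have h3 := mul_left_cancel h2
        rw [show (⟨(x : Ω)⁻¹ * φ x, _⟩ : S) = (⟨x, hom_le hφ x.2⟩ : S)⁻¹ * ⟨φ x, hom_apply_mem hφ x⟩
          from rfl, map_mul, map_mul, h3, ← map_mul, ← map_mul, inv_mul_cancel, map_one, map_one]
    | one => exact ⟨S.one_mem, by rw [show (⟨1, S.one_mem⟩ : S) = 1 from rfl, map_one, map_one]⟩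
    | mul a b _ _ ha hb =>
        obtain ⟨ha, ha'⟩ := ha
        obtain ⟨hb, hb'⟩ := hb
        refine ⟨S.mul_mem ha hb, ?_⟩
        rw [show (⟨a * b, S.mul_mem ha hb⟩ : S) = ⟨a, ha⟩ * ⟨b, hb⟩ from rfl, map_mul, map_mul,
          ha', hb', one_mul]
    | inv a _ ha =>
        obtain ⟨ha, ha'⟩ := ha
        refine ⟨S.inv_mem ha, ?_⟩
        rw [show (⟨a⁻¹, S.inv_mem ha⟩ : S) = ⟨a, ha⟩⁻¹ from rfl, map_inv, map_inv, ha', inv_one]
  set iS : S := ⟨i, hi⟩ with hiS
  set g := parkEmb S X iS with hg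
  have hτg : τ g = 1 := by
    obtain ⟨_, h1⟩ := hfoc i hif
    exact h1
  have hgx : ∀ x : X, g • x = ((iS, 1) : ↥S × ↥S) • x := fun x => rfl
  have hiS2 : iS * iS = 1 := by
    have h1 := pow_orderOf_eq_one i
    rw [hi2, pow_two] at h1
    exact Subtype.ext h1
  have hg2 : g * g = 1 := by rw [hg, ← map_mul, hiS2, map_one]
  -- the action on the orbits
  set hθ' : ∀ (g : parkGroup S X) (b : S) (w : X),
      g • b • w = (1 : parkGroup S X →* MulAut S) g b • g • w := fun g b w => hc g b w with hhθ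
  set σ : orbitRel.Quotient S X → orbitRel.Quotient S X := FreeTransfer.orbMap hθ' g with hσ
  have hσσ : ∀ o, σ (σ o) = o := fun o => by
    rw [hσ, ← FreeTransfer.orbMap_mul, hg2, FreeTransfer.orbMap_one]
  set δ : orbitRel.Quotient S X → S :=
    fun o => FreeTransfer.delta hθ' Quotient.out (fun o => o.out_eq') g o with hδ
  have hδ2 : ∀ o, θ (δ o) * θ (δ (σ o)) = 1 := fun o => by
    rw [← map_mul]
    have h1 := FreeTransfer.delta_mul hθ' hfree Quotient.out (fun o => o.out_eq') g g o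
    rw [FreeTransfer.delta_eq hθ' hfree Quotient.out (fun o => o.out_eq') (b := 1)
      (by rw [one_smul, hg2, one_smul, FreeTransfer.orbMap_one])] at h1
    exact (congrArg θ h1).symm.trans (map_one θ)
  -- the fixed orbits
  have hfix : ∀ o, σ o = o → g • o.out = δ o • o.out := fun o ho => by
    have h1 := FreeTransfer.delta_spec hθ' Quotient.out (fun o => o.out_eq') g o
    rw [show FreeTransfer.orbMap hθ' g o = o from ho] at h1
    exact h1.symm
  obtain ⟨a, ha⟩ : ∃ a : S ⧸ T₂, a ≠ 1 := by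
    have : Nontrivial (S ⧸ T₂) := Finite.one_lt_card_iff_nontrivial.1 (by omega)
    exact exists_ne 1
  have htwo : ∀ c : S ⧸ T₂, c ≠ 1 → c = a := by
    intro c hc1
    obtain ⟨u, v, huv, huniv⟩ := Nat.card_eq_two_iff.1 hcard2
    have hu : ∀ w : S ⧸ T₂, w = u ∨ w = v := fun w => by
      have : w ∈ ({u, v} : Set (S ⧸ T₂)) := huniv ▸ Set.mem_univ w
      simpa using this
    rcases hu 1 with h1 | h1 <;> rcases hu c with h2 | h2 <;> rcases hu a with h3 | h3 <;>
      first | exact h2.trans h3.symm | exact absurd (h2.trans h1.symm) hc1 |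
        exact absurd (h3.trans h1.symm) ha
  let A₀ := Finset.univ.filter fun o => σ o = o ∧ (δ o : Ω) ∈ T
  let A₁ := Finset.univ.filter fun o => σ o = o ∧ (δ o : Ω) ∉ T
  let A₂ := Finset.univ.filter fun o => σ o ≠ o
  have hτA : τ g = a ^ A₁.card := by
    rw [hτ, FreeTransfer.transferHom_apply, FreeTransfer.transfer]
    show ∏ o, θ (δ o) = _
    rw [← Finset.prod_filter_mul_prod_filter_not Finset.univ (fun o => σ o = o)]
    have hnf : ∏ o ∈ Finset.univ.filter (fun o => ¬ σ o = o), θ (δ o) = 1 :=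
      Finset.prod_involution (fun o _ => σ o) (fun o _ => hδ2 o)
        (fun o ho _ => (Finset.mem_filter.1 ho).2)
        (fun o ho => Finset.mem_filter.2 ⟨Finset.mem_univ _, fun hh => (Finset.mem_filter.1 ho).2
          (by rw [hσσ] at hh; exact hh.symm)⟩)
        (fun o _ => hσσ o)
    rw [hnf, mul_one, ← Finset.prod_filter_mul_prod_filter_not _ (fun o => (δ o : Ω) ∈ T),
      Finset.filter_filter, Finset.filter_filter,
      Finset.prod_eq_one (fun o ho => (hθ _).2 (Finset.mem_filter.1 ho).2.2), one_mul,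
      Finset.prod_congr rfl (fun o ho => htwo _ fun hh => (Finset.mem_filter.1 ho).2.2 ((hθ _).1 hh)),
      Finset.prod_const]
  have hA2 : Even A₂.card := by
    have h1 : ∑ _o ∈ A₂, (1 : ZMod 2) = 0 :=
      Finset.sum_involution (fun o _ => σ o) (fun _ _ => by decide)
        (fun o ho _ => (Finset.mem_filter.1 ho).2)
        (fun o ho => Finset.mem_filter.2 ⟨Finset.mem_univ _, fun hh => (Finset.mem_filter.1 ho).2
          (by rw [hσσ] at hh; exact hh.symm)⟩)
        (fun o _ => hσσ o)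
    rw [Finset.sum_const, nsmul_eq_mul, mul_one] at h1
    exact (ZMod.natCast_eq_zero_iff_even).1 h1
  have htotal : A₀.card + A₁.card + A₂.card = n := by
    have h1 : Nat.card (orbitRel.Quotient S X) = n :=
      Nat.eq_of_mul_eq_mul_left Nat.card_pos ((card_eq_card_mul_orbits hfree).symm.trans hn)
    rw [← h1, Nat.card_eq_fintype_card, ← Finset.card_univ,
      ← Finset.card_filter_add_card_filter_not (s := Finset.univ) (fun o => σ o = o),
      ← Finset.card_filter_add_card_filter_not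
        (s := Finset.univ.filter fun o => σ o = o) (fun o => (δ o : Ω) ∈ T),
      Finset.filter_filter, Finset.filter_filter]
  -- the conjugates of `i`
  let C := {j : S // (j : Ω) ∈ T ∧
    ∃ φ ∈ F.Hom (Subgroup.zpowers (j : Ω)), φ ⟨j, Subgroup.mem_zpowers _⟩ = i}
  let Fix : S → Set X := fun j => {x | ((iS, j) : ↥S × ↥S) • x = x}
  have hFix : ∀ (j : S), (∃ φ ∈ F.Hom (Subgroup.zpowers (j : Ω)),
      φ ⟨j, Subgroup.mem_zpowers _⟩ = i) → ∃ L : Subgroup (↥S × ↥S), IsTwisted F L ∧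
        dom L = Subgroup.zpowers (j : Ω) ∧ mark L X = Nat.card (Fix j) := by
    rintro j ⟨φ, hφ, hφi⟩
    refine ⟨twist hφ, twist_isTwisted hφ, (isTwist_twist hφ).dom_eq hφ,
      Nat.card_congr (Equiv.subtypeEquivRight fun x => ?_)⟩
    rw [mem_fixedPoints_sub]
    constructor
    · exact fun hx => hx _ ⟨Subgroup.mem_zpowers _, hφi⟩
    · rintro hx ⟨k₁, k₂⟩ ⟨hk, hk'⟩
      obtain ⟨e, he⟩ := Subgroup.mem_zpowers_iff.1 hk
      have hk₂ : k₂ = j ^ e := Subtype.ext (by rw [SubgroupClass.coe_zpow]; exact he.symm)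
      have hk₁ : k₁ = iS ^ e := by
        refine Subtype.ext ?_
        rw [← hk', SubgroupClass.coe_zpow]
        show φ ⟨(k₂ : Ω), hk⟩ = i ^ e
        rw [← hφi, ← map_zpow]
        exact congrArg φ (Subtype.ext (by rw [SubgroupClass.coe_zpow]; exact he.symm))
      show ((k₁, k₂) : ↥S × ↥S) • x = x
      rw [hk₁, hk₂]
      show ((iS, j) ^ e : ↥S × ↥S) • x = x
      exact mem_stabilizer_iff.1 ((stabilizer (↥S × ↥S) x).zpow_mem (mem_stabilizer_iff.2 hx) e)
  obtain ⟨Q, hQ, hQn⟩ := exists_fullyNormalized (F := F) (P := Subgroup.zpowers i)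
    (Subgroup.zpowers_le.2 hi)
  obtain ⟨φ₀, hφ₀, hφ₀Q⟩ := id hQ
  set j₀ : S := ⟨φ₀ ⟨i, Subgroup.mem_zpowers i⟩, hom_apply_mem hφ₀ _⟩ with hj₀
  have hQj₀ : Q = Subgroup.zpowers (j₀ : Ω) := by
    rw [← hφ₀Q, MonoidHom.range_eq_map, ← (Subgroup.eq_top_iff' (Subgroup.zpowers
      (⟨i, Subgroup.mem_zpowers i⟩ : Subgroup.zpowers i))).2 fun y => ?_, MonoidHom.map_zpowers]
    obtain ⟨k, hk⟩ := Subgroup.mem_zpowers_iff.1 y.2
    exact Subgroup.mem_zpowers_iff.2 ⟨k, Subtype.ext hk⟩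
  have hback : ∀ (P : Subgroup Ω) (φ : P →* Ω), φ ∈ F.Hom P → ∀ (x : P), (x : Ω) = i →
      ∃ ψ ∈ F.Hom (Subgroup.zpowers (φ x)), ψ ⟨φ x, Subgroup.mem_zpowers _⟩ = i := by
    intro P φ hφ x hx
    obtain ⟨ψ, hψ, -, hψl, -⟩ := exists_inv hφ rfl
    refine ⟨_, restrict_mem hψ (Subgroup.zpowers_le.2 ⟨x, rfl⟩), ?_⟩
    exact (hψl x ⟨x, rfl⟩).trans hx
  have hj₀C := hback _ φ₀ hφ₀ ⟨i, Subgroup.mem_zpowers i⟩ rfl
  obtain ⟨L₀, hL₀, hdom₀, hmark₀⟩ := hFix j₀ hj₀C
  set m := Nat.card (Fix j₀) with hm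
  have hM : Nat.card (centralizerIn S Q) ∣ m := by
    let K := (centralizerIn S Q).subgroupOf S
    have hK : ∀ (b : S), b ∈ K → ∀ x ∈ Fix j₀, b • x ∈ Fix j₀ := by
      intro b hb x hx
      have hbj : b * j₀ = j₀ * b := Subtype.ext
        ((mem_centralizerIn.1 hb).2 _ (hQj₀ ▸ Subgroup.mem_zpowers _)).symm
      show ((iS, j₀) : ↥S × ↥S) • ((1, b) : ↥S × ↥S) • x = ((1, b) : ↥S × ↥S) • x
      rw [smul_smul, show ((iS, j₀) : ↥S × ↥S) * (1, b) = (1, b) * (iS, j₀) by
        rw [Prod.mk_mul_mk, Prod.mk_mul_mk, mul_one, one_mul, hbj], mul_smul, hx]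
    let _ : MulAction K (Fix j₀) :=
      { smul := fun b x => ⟨(b : S) • (x : X), hK b b.2 x x.2⟩
        one_smul := fun x => Subtype.ext (one_smul S (x : X))
        mul_smul := fun b c x => Subtype.ext (mul_smul (b : S) (c : S) (x : X)) }
    have hd := Dvd.intro _ (card_eq_card_mul_orbits (B := K) (W := Fix j₀)
      (fun b x hbx => Subtype.ext (hfree b x (congrArg Subtype.val hbx)))).symm
    rwa [card_subgroupOf_eq (centralizerIn_le Q)] at hd
  have hconj : ∀ j : C, F.IsConj (Subgroup.zpowers ((j : S) : Ω)) Q := by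
    rintro ⟨j, hjT, φ, hφ, hφi⟩
    refine isConj_trans ⟨φ, hφ, ?_⟩ hQ
    rw [MonoidHom.range_eq_map, ← (Subgroup.eq_top_iff' (Subgroup.zpowers
      (⟨(j : Ω), Subgroup.mem_zpowers _⟩ : Subgroup.zpowers (j : Ω)))).2 fun y => ?_,
      MonoidHom.map_zpowers, hφi]
    obtain ⟨k, hk⟩ := Subgroup.mem_zpowers_iff.1 y.2
    exact Subgroup.mem_zpowers_iff.2 ⟨k, Subtype.ext hk⟩
  have hCfix : ∀ j : C, Nat.card (Fix j) = m := by
    intro j
    obtain ⟨L, hL, hdom, hmark⟩ := hFix j j.2.2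
    show Nat.card (Fix j) = Nat.card (Fix j₀)
    rw [← hmark]
    exact (hX.stable L L₀ hL hL₀ (by rw [hdom, hdom₀, ← hQj₀]; exact hconj j)).trans hmark₀
  -- conjugation on them
  have hCsmul : ∀ (s : S) (j : C), ((s * (j : S) * s⁻¹ : S) : Ω) ∈ T ∧
      ∃ φ ∈ F.Hom (Subgroup.zpowers ((s * (j : S) * s⁻¹ : S) : Ω)),
        φ ⟨_, Subgroup.mem_zpowers _⟩ = i := by
    rintro s ⟨j, hjT, φ, hφ, hφi⟩
    refine ⟨(inferInstance : T₂.Normal).conj_mem j hjT s, ?_⟩
    set y := ((s * j * s⁻¹ : S) : Ω) with hy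
    have hyS : Subgroup.zpowers y ≤ S := Subgroup.zpowers_le.2 (s * j * s⁻¹).2
    have hmap : ∀ z : Subgroup.zpowers y,
        conjHom (Subgroup.zpowers y) (s : Ω)⁻¹ z ∈ Subgroup.zpowers (j : Ω) := by
      rintro ⟨_, k, rfl⟩
      refine Subgroup.mem_zpowers_iff.2 ⟨k, ?_⟩
      show (j : Ω) ^ k = (s : Ω)⁻¹ * y ^ k * (s : Ω)⁻¹⁻¹
      rw [hy, Subgroup.coe_mul, Subgroup.coe_mul, InvMemClass.coe_inv, conj_zpow]
      group
    refine ⟨_, F.comp_mem (F.conj_mem hyS (S.inv_mem s.2)) hφ hmap, ?_⟩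
    refine Eq.trans (congrArg φ (Subtype.ext ?_)) hφi
    show (s : Ω)⁻¹ * y * (s : Ω)⁻¹⁻¹ = (j : Ω)
    rw [hy, Subgroup.coe_mul, Subgroup.coe_mul, InvMemClass.coe_inv]
    group
  let _ : MulAction S C :=
    { smul := fun s j => ⟨s * (j : S) * s⁻¹, hCsmul s j⟩
      one_smul := fun j => Subtype.ext (by show 1 * (j : S) * 1⁻¹ = j; simp)
      mul_smul := fun s t j => Subtype.ext (by
        show s * t * (j : S) * (s * t)⁻¹ = s * (t * (j : S) * t⁻¹) * s⁻¹; group) }
  have hdvd : 2 * Nat.card S ∣ Nat.card C * m := by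
    refine dvd_card_mul_of_orbits fun j => ?_
    have hst : Nat.card (stabilizer S j) =
        Nat.card (centralizerIn S (Subgroup.zpowers ((j : S) : Ω))) := by
      rw [← card_subgroupOf_eq (centralizerIn_le (S := S) (Subgroup.zpowers ((j : S) : Ω)))]
      refine Nat.card_congr (Equiv.subtypeEquivRight fun s => ?_)
      rw [mem_stabilizer_iff, Subgroup.mem_subgroupOf, mem_centralizerIn]
      constructor
      · intro hs
        refine ⟨s.2, fun y hy => ?_⟩
        obtain ⟨k, rfl⟩ := Subgroup.mem_zpowers_iff.1 hy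
        have h1 : s * (j : S) * s⁻¹ = (j : S) := congrArg Subtype.val hs
        have h2 : Commute (s : Ω) ((j : S) : Ω) :=
          congrArg Subtype.val (mul_inv_eq_iff_eq_mul.1 h1)
        exact ((h2.zpow_right k).symm).eq
      · rintro ⟨-, hs⟩
        refine Subtype.ext ?_
        show s * (j : S) * s⁻¹ = (j : S)
        rw [mul_inv_eq_iff_eq_mul]
        exact Subtype.ext (hs _ (Subgroup.mem_zpowers _)).symm
    rw [hst]
    refine dvd_trans ?_ hM
    -- not fully normalized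
    have hj2 : orderOf ((j : S) : Ω) = 2 := by
      rw [← Nat.card_zpowers, isConj_card (hconj j), ← isConj_card hQ, Nat.card_zpowers, hi2]
    have hQ2 : normalizerIn S Q = centralizerIn S Q := by
      rw [hQj₀]
      refine normalizerIn_zpowers_involution ?_
      rw [← Nat.card_zpowers, ← hQj₀, ← isConj_card hQ, Nat.card_zpowers, hi2]
    have hlt : Nat.card (centralizerIn S (Subgroup.zpowers ((j : S) : Ω))) <
        Nat.card (centralizerIn S Q) := by
      rw [← hQ2, ← normalizerIn_zpowers_involution hj2]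
      refine lt_of_not_ge fun hge => ?_
      obtain ⟨φ, hφ, hφi⟩ := j.2.2
      refine h _ ?_ ⟨Subgroup.zpowers_le.2 (j : S).2, fun R hR =>
        (hQn.2 R (isConj_trans (isConj_symm (hconj j)) hR)).trans hge⟩ j.2.1
      obtain ⟨ψ, hψ, -, hψl, -⟩ := exists_inv hφ rfl
      have hir : i ∈ φ.range := ⟨_, hφi⟩
      refine ⟨_, restrict_mem hψ (Subgroup.zpowers_le.2 hir), ?_⟩
      show ψ (Subgroup.inclusion _ ⟨i, Subgroup.mem_zpowers i⟩) = _
      rw [show Subgroup.inclusion (Subgroup.zpowers_le.2 hir) ⟨i, Subgroup.mem_zpowers i⟩ =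
        (⟨φ ⟨(j : S), Subgroup.mem_zpowers _⟩, ⟨_, rfl⟩⟩ : φ.range) from Subtype.ext hφi.symm]
      exact hψl _ _
    have := finite_le (centralizerIn_le (S := S) Q)
    have := finite_le (centralizerIn_le (S := S) (Subgroup.zpowers ((j : S) : Ω)))
    obtain ⟨u, hu⟩ := IsPGroup.iff_card.1 (hS.to_le (centralizerIn_le (S := S) Q))
    obtain ⟨v, hv⟩ := IsPGroup.iff_card.1
      (hS.to_le (centralizerIn_le (S := S) (Subgroup.zpowers ((j : S) : Ω))))
    rw [hu, hv] at hlt ⊢
    have hvu : v < u := (Nat.pow_lt_pow_iff_right (by norm_num : 1 < 2)).1 hlt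
    rw [← pow_succ']
    exact pow_dvd_pow 2 hvu
  -- the points over them
  let Y := Σ j : C, Fix j
  let Z := S × {o // o ∈ A₀}
  have hYZ : Nat.card Z = Nat.card Y := by
    have hmem : ∀ z : Z, ∃ j : C, (z.1 • z.2.1.out) ∈ Fix j := by
      rintro ⟨b, o, ho⟩
      obtain ⟨hσo, hδT⟩ := (Finset.mem_filter.1 ho).2
      set x := b • o.out with hx
      set c := b * δ o * b⁻¹ with hcdef
      have hgx' : g • x = c • x := by
        rw [hx, hc, hfix o hσo, smul_smul, smul_smul, hcdef, inv_mul_cancel_right]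
      have h1 : ((iS, c⁻¹) : ↥S × ↥S) • x = x := by
        rw [show ((iS, c⁻¹) : ↥S × ↥S) = (1, c⁻¹) * (iS, 1) by
          rw [Prod.mk_mul_mk, one_mul, mul_one], mul_smul, ← hgx, hgx', hsm, smul_smul,
          Prod.mk_mul_mk, one_mul, inv_mul_cancel]
        exact one_smul _ x
      obtain ⟨P, φ, hφ, hTw⟩ := hX.twisted x
      obtain ⟨hP, hPi⟩ := (hTw _).1 (mem_stabilizer_iff.2 h1)
      exact ⟨⟨c⁻¹, T.inv_mem ((inferInstance : T₂.Normal).conj_mem (δ o) hδT b),
        ⟨_, restrict_mem hφ (Subgroup.zpowers_le.2 hP), hPi⟩⟩, h1⟩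
    choose J hJ using hmem
    refine Nat.card_congr (Equiv.ofBijective (fun z : Z => (⟨J z, _, hJ z⟩ : Y)) ⟨?_, ?_⟩)
    · rintro ⟨b, o, ho⟩ ⟨b', o', ho'⟩ hzz
      have hx : b • o.out = b' • o'.out := congrArg (fun y : Y => (y.2 : X)) hzz
      have hoo : o = o' := by
        rw [← o.out_eq', ← o'.out_eq']
        refine Quotient.sound' ⟨b⁻¹ * b', ?_⟩
        show (b⁻¹ * b') • o'.out = o.out
        rw [mul_smul, ← hx, inv_smul_smul]
      subst hoo
      rw [FreeTransfer.smul_left_cancel' hfree hx]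
    · rintro ⟨j, x, hx⟩
      set o : orbitRel.Quotient S X := Quotient.mk'' x with ho
      obtain ⟨b, hb⟩ : ∃ b : S, b • o.out = x :=
        Quotient.exact' ((show Quotient.mk'' x = o from rfl).trans o.out_eq'.symm)
      have hgx' : g • x = (j : S)⁻¹ • x := by
        rw [hgx, hsm]
        conv_rhs => rw [← (hx : ((iS, (j : S)) : ↥S × ↥S) • x = x)]
        rw [smul_smul, Prod.mk_mul_mk, one_mul, inv_mul_cancel]
      have hσo : σ o = o := by
        rw [hσ, ho, FreeTransfer.orbMap_mk, hgx']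
        exact Quotient.sound' ⟨_, rfl⟩
      have hδo : b * δ o = (j : S)⁻¹ * b := FreeTransfer.smul_left_cancel' hfree (w := o.out) (by
        rw [mul_smul, ← hfix o hσo, ← hc, hb, hgx', mul_smul, hb])
      have hoA : o ∈ A₀ := by
        refine Finset.mem_filter.2 ⟨Finset.mem_univ _, hσo, ?_⟩
        have h1 : δ o = b⁻¹ * (j : S)⁻¹ * b⁻¹⁻¹ := by
          rw [inv_inv, mul_assoc, ← hδo, inv_mul_cancel_left]
        rw [h1]
        exact (inferInstance : T₂.Normal).conj_mem _ (T.inv_mem j.2.1) b⁻¹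
      refine ⟨⟨b, o, hoA⟩, ?_⟩
      have hJj : (J ⟨b, o, hoA⟩ : S) = (j : S) := by
        have h1 := hJ ⟨b, o, hoA⟩
        change ((iS, (J ⟨b, o, hoA⟩ : S)) : ↥S × ↥S) • (b • o.out) = b • o.out at h1
        rw [hb] at h1
        have h2 : ((1, (J ⟨b, o, hoA⟩ : S)⁻¹ * (j : S)) : ↥S × ↥S) • x = x := by
          rw [show ((1, (J ⟨b, o, hoA⟩ : S)⁻¹ * (j : S)) : ↥S × ↥S) =
            (iS, (J ⟨b, o, hoA⟩ : S))⁻¹ * (iS, (j : S)) by
              rw [Prod.inv_mk, Prod.mk_mul_mk, inv_mul_cancel], mul_smul, hx, inv_smul_eq_iff, h1]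
        exact inv_mul_eq_one.1 (hX.right_free _ _ h2)
      exact Sigma.subtype_ext (Subtype.ext hJj) hb
  have hA0 : Even A₀.card := by
    have h1 : Nat.card Z = Nat.card S * A₀.card := by
      rw [Nat.card_prod, Nat.card_eq_finsetCard]
    have h2 : Nat.card Y = Nat.card C * m := by
      have := Fintype.ofFinite C
      rw [Nat.card_sigma, Finset.sum_congr rfl (fun j _ => hCfix j), Finset.sum_const,
        Finset.card_univ, smul_eq_mul, Nat.card_eq_fintype_card]
    rw [← h2, ← hYZ, h1, mul_comm 2] at hdvd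
    exact even_iff_two_dvd.2 ((Nat.mul_dvd_mul_iff_left Nat.card_pos).1 hdvd)
  have hA1 : Odd A₁.card := by
    have hn' : Odd n := Nat.odd_iff.2 (Nat.two_dvd_ne_zero.1 hn2)
    rw [← htotal] at hn'
    obtain ⟨u, hu⟩ := hA0
    obtain ⟨v, hv⟩ := hA2
    obtain ⟨w, hw⟩ := hn'
    exact ⟨w - u - v, by omega⟩
  apply ha
  obtain ⟨k, hk⟩ := hA1
  have h1 := hτA.symm.trans hτg
  rwa [hk, pow_succ, pow_mul,
    show a ^ 2 = 1 by rw [← hcard2]; exact pow_card_eq_one', one_pow, one_mul] at h1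

end CfsgLib.Fusion
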