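import Cfsg.Agent.Lib.Fusion.JGeneration

/-!
Climbing to `N(J(S))` through the normalizers of centric subgroups.
-/

set_option autoImplicit false

namespace CfsgLib.Fusion

open Cfsg Cfsg.FusionSystem

variable {Ω : Type*} [Group Ω] {S : Subgroup Ω} {F : FusionSystem S} {p : ℕ}

/-- A subsystem with the maps of `N(J(S))` is everything, if for centric `Y` not containing the
Thompson subgroup of its normalizer it gets the maps of `N(Y)` from those of larger subgroups. -/
theorem le_of_thompsonA_climb [Fact p.Prime] [Finite S] (hS : IsPGroup p S)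
    (hF : F.IsSaturated p) (E : FusionSystem S)
    (hN : ∀ (P : Subgroup Ω) (φ : P →* Ω),
      φ ∈ F.normalizerHom (thompsonSubgroupAOf S) P → φ ∈ E.Hom P)
    (hkey : ∀ {R : Subgroup Ω} (Y : Subgroup Ω), F.IsCentric Y → F.IsFullyNormalized Y →
      Nat.card R < Nat.card (normalizerIn S Y) →
      (∀ P : Subgroup Ω, Nat.card R < Nat.card P → F.Hom P ⊆ E.Hom P) →
      ¬ thompsonSubgroupAOf (normalizerIn S Y) ≤ Y →
      (∀ Y2, F.IsCentric Y2 → normalizerIn S Y ≤ normalizerIn S Y2 → Nat.card Y < Nat.card Y2 →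
        ∀ (P : Subgroup Ω) (φ : P →* Ω), φ ∈ F.normalizerHom Y2 P → φ ∈ E.Hom P) →
      ∀ (P : Subgroup Ω) (φ : P →* Ω), φ ∈ F.normalizerHom Y P → φ ∈ E.Hom P) :
    F ≤ E := by
  set J := thompsonSubgroupAOf S with hJ
  have hJchar : ∀ a ∈ F.autGroup S, ∀ x : S, (x : Ω) ∈ J → ((a x : S) : Ω) ∈ J := by
    intro a _ x hx
    have h1 := thompsonA_img (φ := S.subtype.comp a.toMonoidHom)
      (S.subtype_injective.comp a.injective) (le_refl S)
    rw [img_self, show (S.subtype.comp a.toMonoidHom).range = S by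
      rw [MonoidHom.range_comp, MonoidHom.range_eq_top.2 a.surjective, ← MonoidHom.range_eq_map,
        Subgroup.range_subtype]] at h1
    rw [hJ, h1]
    exact mem_img.2 ⟨x, hx, rfl⟩
  -- extending to the normalizer of `J`
  have hnormJ : ∀ (P : Subgroup Ω) (φ : P →* Ω), φ ∈ F.Hom P →
      ∀ (A : Subgroup Ω) (ψ : A →* Ω), ψ ∈ F.Hom A → ∀ hPA : P ≤ A, J ≤ A →
      (∀ x : P, ψ (Subgroup.inclusion hPA x) = φ x) → img ψ J = J → φ ∈ E.Hom P := by
    intro P φ hφ A ψ hψ hPA hJA hag himg
    have hle : P ⊔ J ≤ A := sup_le hPA hJA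
    have hJn : S ≤ normalizerIn S J := fun g hg =>
      ⟨hg, normalizer_le_normalizer_thompsonA S (Subgroup.le_normalizer hg)⟩
    refine hN P φ ⟨hφ, (hom_le hφ).trans hJn, fun x => hJn (hom_apply_mem hφ x),
      ψ.comp (Subgroup.inclusion hle), restrict_mem hψ hle, hag, ?_⟩
    have := finite_le ((thompsonAOf_le S) : J ≤ S)
    refine Subgroup.eq_of_le_of_card_ge ?_ ?_
    · rintro _ ⟨x, hx, rfl⟩
      exact himg.le (mem_img.2 ⟨Subgroup.inclusion hle x, hx, rfl⟩)
    · exact (card_img (F.injective_of_mem (restrict_mem hψ hle)) le_sup_right).ge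
  refine alperin_gen hS hF E (fun a ha => ?_) fun R hRS hess hup => ?_
  · have haF := (mem_autGroup_iff le_rfl).1 ha
    refine (mem_autGroup_iff le_rfl).2 (hnormJ S _ haF S _ haF le_rfl (thompsonAOf_le S)
      (fun x => rfl) ?_)
    have := finite_le (thompsonAOf_le S : J ≤ S)
    refine Subgroup.eq_of_le_of_card_ge ?_ ?_
    · intro y hy
      obtain ⟨x, hx, rfl⟩ := mem_img.1 hy
      exact hJchar a ha x hx
    · exact (card_img (F.injective_of_mem haF) (thompsonAOf_le S)).ge
  -- maps defined above `R` are given; climb through normalizers of centric subgroups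
  suffices main : ∀ (m : ℕ) (Y : Subgroup Ω), (Nat.card S - Nat.card (normalizerIn S Y)) *
      (Nat.card S + 1) + (Nat.card S - Nat.card Y) < m → F.IsCentric Y → F.IsFullyNormalized Y →
      Nat.card R < Nat.card (normalizerIn S Y) →
      ∀ (P : Subgroup Ω) (φ : P →* Ω), φ ∈ F.normalizerHom Y P → φ ∈ E.Hom P by
    intro a ha
    refine Subgroup.mem_sup_left ((mem_autGroup_iff hRS.le).2 (main _ R (Nat.lt_succ_self _)
      hess.1 hess.2.1 ?_ R _ ?_))
    · have := finite_le (normalizerIn_le (S := S) R)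
      exact lt_of_le_of_ne (Subgroup.card_le_of_le (le_normalizerIn hRS.le)) fun h =>
        (lt_normalizerIn hS hRS).ne (Subgroup.eq_of_le_of_card_ge (le_normalizerIn hRS.le) h.ge)
    · have haF := (mem_autGroup_iff hRS.le).1 ha
      refine ⟨haF, le_normalizerIn hRS.le, fun x => le_normalizerIn hRS.le (a x).2,
        (R.subtype.comp a.toMonoidHom).comp (Subgroup.inclusion (sup_le le_rfl le_rfl)),
        restrict_mem haF _, fun x => rfl, ?_⟩
      have := finite_le hRS.le
      refine Subgroup.eq_of_le_of_card_ge ?_ ?_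
      · rintro _ ⟨x, -, rfl⟩
        exact (a _).2
      · exact (card_img (F.injective_of_mem (restrict_mem haF _)) le_sup_right).ge
  intro m
  induction m with
  | zero => intro Y h; omega
  | succ m ih =>
  intro Y hm hYc hYn hRT
  have hYS := hYc.1
  set T := normalizerIn S Y with hT
  have hTS : T ≤ S := normalizerIn_le Y
  have hYT : Y ≤ T := le_normalizerIn hYS
  have := finite_le hTS
  -- one step upwards
  have move : ∀ Y2 : Subgroup Ω, F.IsCentric Y2 → T ≤ normalizerIn S Y2 →
      (Nat.card T < Nat.card (normalizerIn S Y2) ∨ Nat.card Y < Nat.card Y2) →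
      ∀ (P : Subgroup Ω) (φ : P →* Ω), φ ∈ F.normalizerHom Y2 P → φ ∈ E.Hom P := by
    intro Y2 hc hTN hlt P φ hφ
    obtain ⟨Y', hconj, h1, h2, hY'n⟩ := IsSaturated.exists_rep hS hF hc.1
    obtain ⟨f, hf, hfm, hfY⟩ := exists_normalizer_map hS h1 h2 hconj
    have hcard := card_normalizerIn_le_of_map hf hfm
    have hfin2 := finite_le (normalizerIn_le (S := S) Y2)
    have hTc := Subgroup.card_le_of_le hTN
    refine mem_of_transport hf (hup _ (lt_of_lt_of_le hRT hTc) hf) hfm hfY hc.1 ?_ hφ
    refine ih Y' ?_ (isCentric_of_isConj hc hconj) hY'n (hRT.trans_le (hTc.trans hcard))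
    have hYY' := isConj_card hconj
    have hb1 := Subgroup.card_le_of_le (normalizerIn_le (S := S) Y')
    have hb2 := Subgroup.card_le_of_le hc.1
    have hb3 := Subgroup.card_le_of_le hYS
    set s := Nat.card S
    set t := Nat.card T
    set t' := Nat.card (normalizerIn S Y')
    rcases eq_or_lt_of_le (hTc.trans hcard) with heq | hlt'
    · rw [← heq]
      rcases hlt with h | h <;> omega
    · have : (s - t' + 1) * (s + 1) ≤ (s - t) * (s + 1) := Nat.mul_le_mul_right _ (by omega)
      rw [add_mul, one_mul] at this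
      omega
  intro P φ hφ
  by_cases hJY : thompsonSubgroupAOf T ≤ Y
  · set X := thompsonSubgroupAOf T with hX
    obtain ⟨hφF, hP, hφm, ψ, hψ, hψP, hψY⟩ := hφ
    have hXY : thompsonSubgroupAOf Y = X := thompsonA_eq_of_le hYT hTS hJY
    have hψX : img ψ X = X := by
      conv_rhs => rw [← hXY, ← show img ψ Y = Y from hψY,
        thompsonA_img (F.injective_of_mem hψ) le_sup_right, hXY]
    have hXN : ∀ x, x ∈ T → x ∈ normalizerIn S X := fun x hx =>
      ⟨hTS hx, normalizer_le_normalizer_thompsonA T (Subgroup.le_normalizer hx)⟩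
    rcases eq_or_lt_of_le hTS with hTeq | hTlt
    · refine hnormJ P φ hφF _ ψ hψ le_sup_left ?_ hψP ?_
      · rw [hJ, ← hTeq]; exact hJY.trans le_sup_right
      · rw [hJ, ← hTeq]; exact hψX
    · have hle : P ⊔ X ≤ P ⊔ Y := sup_le_sup_left hJY P
      refine move X (isCentric_thompsonA hS hF hYc hYn hJY) hXN (Or.inl ?_) P φ
        ⟨hφF, hP.trans hXN, fun x => hXN _ (hφm x), ψ.comp (Subgroup.inclusion hle),
          restrict_mem hψ hle, hψP, ?_⟩
      · have hlt : T < normalizerIn S X := by
          exact lt_of_lt_of_le (lt_normalizerIn hS hTlt) fun x hx =>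
            ⟨hx.1, normalizer_le_normalizer_thompsonA T hx.2⟩
        have := finite_le (normalizerIn_le (S := S) X)
        exact lt_of_le_of_ne (Subgroup.card_le_of_le hlt.le) fun h =>
          hlt.ne (Subgroup.eq_of_le_of_card_ge hlt.le h.ge)
      · have := finite_le (hJY.trans hYS)
        refine Subgroup.eq_of_le_of_card_ge ?_ ?_
        · rintro _ ⟨x, hx, rfl⟩
          exact hψX.le (mem_img.2 ⟨Subgroup.inclusion hle x, hx, rfl⟩)
        · exact (card_img (F.injective_of_mem (restrict_mem hψ hle)) le_sup_right).ge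
  exact hkey Y hYc hYn hRT hup hJY (fun Y2 hc hTN hY2 => move Y2 hc hTN (Or.inr hY2)) P φ hφ

end CfsgLib.Fusion
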