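import Cfsg.Agent.Lib.Fusion.RadicalCriterion

/-!
# Simplicity of a `2`-fusion system when squares in `N(S)` are powers of one element up to `2`-elements
-/

set_option autoImplicit false

namespace CfsgLib.Fusion

open Cfsg Cfsg.FusionSystem

variable {G : Type*} [Group G] [Finite G]

/-- Simplicity from: no proper closed subgroup; an element `g` of `N(S)` in the group generated by the
`2`-elements normalizing a normal centric `R`; squares of elements of `N(S)` act as powers of `g` up to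
automorphisms of `2`-power order. -/
theorem groupFusion_isSimple_of_squareStep (S : Sylow 2 G) (hne : (S : Subgroup G) ≠ ⊥)
    (hT : ∀ T : Subgroup G, T ≤ (S : Subgroup G) → T ≠ ⊥ →
      (∀ x ∈ T, ∀ c : G, c * x * c⁻¹ ∈ (S : Subgroup G) → c * x * c⁻¹ ∈ T) →
      T = (S : Subgroup G))
    (R : Subgroup G) (hRS : R ≤ (S : Subgroup G))
    (hSR : (S : Subgroup G) ≤ Subgroup.normalizer (R : Set G))
    (hcR : ∀ x ∈ (S : Subgroup G), (∀ r ∈ R, r * x = x * r) → x ∈ R)
    (g : G) (hg : g ∈ Subgroup.normalizer ((S : Subgroup G) : Set G))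
    (hgR : g ∈ pGenNormalizer 2 R)
    (hstep : ∀ n ∈ Subgroup.normalizer ((S : Subgroup G) : Set G), ∃ i a : ℕ,
      ∀ x ∈ (S : Subgroup G),
        ((g ^ i)⁻¹ * n ^ 2) ^ 2 ^ a * x = x * ((g ^ i)⁻¹ * n ^ 2) ^ 2 ^ a) :
    (groupFusionSystem (S : Subgroup G)).IsSimple 2 := by
  have : Fact (Nat.Prime 2) := ⟨Nat.prime_two⟩
  set F := groupFusionSystem (S : Subgroup G)
  have hF : F.IsSaturated 2 := groupFusion_saturated S
  have hSp := S.isPGroup'
  refine groupFusion_isSimple S hne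
    (fun T hTc => or_iff_not_imp_left.2 fun hb => hT T hTc.1 hb fun x hx c hc =>
      stronglyClosed_conj_mem hTc hx hc) fun α hα => ?_
  set Y := ⨆ (R : Subgroup G) (_ : F.IsFullyNormalized R ∧ F.IsCentric R),
    autInducedBy (pGenNormalizer 2 R) (S : Subgroup G) with hY
  have hR : F.IsFullyNormalized R ∧ F.IsCentric R := by
    have hn : F.IsFullyNormalized R := ⟨hRS, fun Q _ => by
      rw [show normalizerIn (S : Subgroup G) R = (S : Subgroup G) from
        le_antisymm (normalizerIn_le R) (le_inf le_rfl hSR)]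
      exact Subgroup.card_le_of_le (normalizerIn_le Q)⟩
    refine ⟨hn, isCentric_of_centralizerIn_le hSp hF (IsSaturated.fullyCentralized hSp hF hn)
      fun x hx => ?_⟩
    obtain ⟨hxS, hxc⟩ := mem_centralizerIn.1 hx
    exact hcR x hxS hxc
  have hS : F.IsFullyNormalized (S : Subgroup G) ∧ F.IsCentric (S : Subgroup G) :=
    ⟨isFullyNormalized_self, isCentric_self⟩
  have hle : ∀ {R' : Subgroup G}, F.IsFullyNormalized R' ∧ F.IsCentric R' →
      autInducedBy (pGenNormalizer 2 R') (S : Subgroup G) ≤ Y := fun {R'} h =>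
    le_iSup₂_of_le R' h le_rfl
  have hSgen : (S : Subgroup G) ≤ pGenNormalizer 2 (S : Subgroup G) := fun x hx => by
    obtain ⟨k, hk⟩ := IsPGroup.iff_orderOf.1 hSp ⟨x, hx⟩
    exact Subgroup.subset_closure ⟨Subgroup.le_normalizer hx, k, by rw [← hk, Subgroup.orderOf_mk]⟩
  have hInn : Inn (S : Subgroup G) ≤ Y := by
    rw [← autInducedBy_self_eq]
    exact (autInducedBy_mono hSgen).trans (hle hS)
  let θ := (S : Subgroup G).normalizerMonoidHom
  have hθA : ∀ m, θ m ∈ F.autGroup (S : Subgroup G) := fun m => by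
    rw [groupFusion_autGroup le_rfl]
    exact mem_autInducedBy_iff.2 ⟨(m : G), trivial, fun x => rfl⟩
  have htwo : ∀ β ∈ F.autGroup (S : Subgroup G), ∀ a : ℕ, β ^ 2 ^ a = 1 →
      β ∈ Inn (S : Subgroup G) := by
    intro β hβ a ha
    refine mem_of_sylow_le (IsSaturated.top_autGroup_sylow hSp hF)
      (fun b _ k hk => ?_) le_rfl hβ (k := a) (orderOf_dvd_of_pow_eq_one ha)
    obtain ⟨u, rfl⟩ := hk
    refine ⟨b u, MulEquiv.ext fun x => ?_⟩
    simp [MulAut.conj_apply, map_mul, map_inv, MulAut.apply_inv_self]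
  obtain ⟨n, -, hn⟩ := mem_autInducedBy_iff.1 hα
  have hnN := mem_normalizer_of_conj_eq α hn
  obtain ⟨i, a, ha⟩ := hstep n hnN
  let gg : Subgroup.normalizer ((S : Subgroup G) : Set G) := ⟨g, hg⟩
  let nn : Subgroup.normalizer ((S : Subgroup G) : Set G) := ⟨n, hnN⟩
  have hgY : θ gg ∈ Y := hle hR (mem_autInducedBy_iff.2 ⟨g, hgR, fun x => rfl⟩)
  have hm : θ ((gg ^ i)⁻¹ * nn ^ 2) ∈ Y := by
    refine hInn (htwo _ (hθA _) a ?_)
    rw [← map_pow]
    refine MulEquiv.ext fun x => Subtype.ext ?_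
    show ((g ^ i)⁻¹ * n ^ 2) ^ 2 ^ a * (x : G) * (((g ^ i)⁻¹ * n ^ 2) ^ 2 ^ a)⁻¹ = (x : G)
    rw [ha x x.2, mul_inv_cancel_right]
  have hsq : θ nn ^ 2 ∈ Y := by
    have e : θ nn ^ 2 = θ gg ^ i * θ ((gg ^ i)⁻¹ * nn ^ 2) := by
      rw [map_mul, map_inv, map_pow, map_pow, mul_inv_cancel_left]
    rw [e]
    exact Y.mul_mem (Y.pow_mem hgY i) hm
  have hnα : θ nn = α := MulEquiv.ext fun x => Subtype.ext (by rw [hn]; rfl)
  rw [hnα] at hsq
  have hαA : α ∈ F.autGroup (S : Subgroup G) := hnα ▸ hθA nn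
  have := finite_mulAut_of_le (S := (S : Subgroup G)) (P := (S : Subgroup G)) le_rfl
  obtain ⟨k, m, hmodd, ho⟩ := Nat.exists_eq_two_pow_mul_odd (orderOf_pos α).ne'
  obtain ⟨j, rfl⟩ := hmodd
  have hpm : α ^ (2 * j + 1) ∈ Y := by
    refine hInn (htwo _ (Subgroup.pow_mem _ hαA _) k ?_)
    rw [← pow_mul, mul_comm, ← ho, pow_orderOf_eq_one]
  rw [pow_succ, pow_mul] at hpm
  exact (Subgroup.mul_mem_cancel_left _ (Y.pow_mem hsq j)).1 hpm

end CfsgLib.Fusion
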