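import Cfsg.Agent.Lib.Sporadic.J3TwoTable
import Cfsg.Agent.Lib.Fusion.TwoStep
import Cfsg.Agent.Lib.Core.Nilpotent

/-!
# The 2-fusion system of the third Janko group is simple

The listed Sylow 2-subgroup has centre of order 2, and every generator is conjugate to the central
involution. An automorphism fixing the four cosets of the commutator subgroup in the centralizer of
the second centre term stabilizes a series of length 5. An element of order 3 permutes these cosets
and is a product of two involutions normalizing the extraspecial subgroup of order 32.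
-/

set_option autoImplicit false
set_option maxRecDepth 20000

namespace CfsgLib.Fusion.J3Two

open Cfsg CfsgLib.Sporadic CfsgLib.Sporadic.Mult CfsgLib.Sporadic.J3 CfsgLib.Sporadic.J3.TwoData
  CfsgLib.Sporadic.J3.MultData

/-- The table realised in a group, with the elements normalizing it. -/
structure Model (G : Type*) [Group G] where
  t : ℕ → G
  edge : ∀ p < 128, ∀ i < 7, twoTable.nx p i < 128 ∧
    wprod t (twoTable.wd p) * t i = wprod t (twoTable.wd (twoTable.nx p i))
  wlt : ∀ p < 128, ∀ i ∈ twoTable.wd p, i < 7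
  wnil : twoTable.wd 0 = []
  inj : Set.InjOn (fun p => wprod t (twoTable.wd p)) {p | p < 128}
  g : G
  u : G
  v : G
  gt : ∀ i < 7, g * t i = wprod t (twoTable.wd (gperm.getD (genT i) 0)) * g
  uu : u * u = 1
  vv : v * v = 1
  uv : u * v = g
  uq : ∀ e ∈ qMoves, u * wprod t (twoTable.wd e.1) = wprod t (twoTable.wd e.2.1) * u
  vq : ∀ e ∈ qMoves, v * wprod t (twoTable.wd e.1) = wprod t (twoTable.wd e.2.2) * v
  conj : ∀ i < 7, ∃ c : G, c * wprod t (twoTable.wd 20) * c⁻¹ = t i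

/-- An element of a mask. -/
def In (m p : ℕ) : Prop := p < 128 ∧ mem m p = true

theorem closed_iff {m : ℕ} (h : closedT m = true) : mem m 0 = true ∧ ∀ p, In m p →
    mem m (invT p) = true ∧ ∀ q, In m q → mem m (mulT p q) = true := by
  simp only [closedT, Bool.and_eq_true, forallLt_iff, Bool.or_eq_true, Bool.not_eq_true'] at h
  refine ⟨h.1, fun p hp => ?_⟩
  have h1 := (h.2 p hp.1).resolve_left (by simp [hp.2])
  exact ⟨h1.1, fun q hq => (h1.2 q hq.1).resolve_left (by simp [hq.2])⟩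

theorem cen_iff {m n : ℕ} (h : cenT m n = true) {p : ℕ} (hp : p < 128) :
    mem m p = true ↔ ∀ a, In n a → mulT p a = mulT a p := by
  simp only [cenT, forallLt_iff, beq_iff_eq] at h
  rw [h p hp, forallLt_iff]
  simp only [Bool.or_eq_true, Bool.not_eq_true', Nat.beq_eq, In]
  constructor
  · intro H a ha
    exact (H a ha.1).resolve_left (by simp [ha.2])
  · intro H a ha
    by_cases hm : mem n a = true
    · exact Or.inr (H a ⟨ha, hm⟩)
    · exact Or.inl (by simpa using hm)

theorem step_iff {m n : ℕ} (h : stepT m n = true) {p q : ℕ} (hp : In n p) (hpm : mem m p = false)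
    (hq : In n q) (hqm : mem m q = false) : mem m (mulT (invT p) q) = true := by
  simp only [stepT, forallLt_iff, Bool.or_eq_true, Bool.not_eq_true'] at h
  have h1 := (h p hp.1).resolve_left (by simp [hp.2, hpm])
  exact (h1 q hq.1).resolve_left (by simp [hq.2, hqm])

theorem in_all {p : ℕ} (hp : p < 128) : In maskS p := by
  have h := forallLt_elim inv_ok hp
  simp only [Bool.and_eq_true] at h
  exact ⟨hp, h.2⟩

/-- The image of a model under an isomorphism. -/
def Model.map {G H : Type*} [Group G] [Group H] (M : Model G) (φ : G ≃* H) : Model H := by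
  have hw : ∀ w, wprod (fun i => φ (M.t i)) w = φ (wprod M.t w) := fun w =>
    (map_wprod φ.toMonoidHom M.t w).symm
  refine { t := fun i => φ (M.t i), g := φ M.g, u := φ M.u, v := φ M.v
           edge := fun p hp i hi => ?_, wlt := M.wlt, wnil := M.wnil, inj := ?_
           gt := fun i hi => ?_, uu := ?_, vv := ?_, uv := ?_
           uq := fun e he => ?_, vq := fun e he => ?_, conj := fun i hi => ?_ }
  · exact ⟨(M.edge p hp i hi).1, by rw [hw, hw, ← map_mul, (M.edge p hp i hi).2]⟩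
  · intro p hp q hq e
    refine M.inj hp hq (φ.injective ?_)
    simpa only [hw] using e
  · rw [hw, ← map_mul, M.gt i hi, map_mul]
  · rw [← map_mul, M.uu, map_one]
  · rw [← map_mul, M.vv, map_one]
  · rw [← map_mul, M.uv]
  · rw [hw, hw, ← map_mul, M.uq e he, map_mul]
  · rw [hw, hw, ← map_mul, M.vq e he, map_mul]
  · obtain ⟨c, hc⟩ := M.conj i hi
    exact ⟨φ c, by rw [hw, ← map_inv, ← map_mul, ← map_mul, hc]⟩

variable {G : Type*} [Group G] (M : Model G)

/-- The element at a position. -/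
noncomputable def sE (p : ℕ) : G := wprod M.t (twoTable.wd p)

theorem sE_inj {p q : ℕ} (hp : p < 128) (hq : q < 128) (h : sE M p = sE M q) : p = q :=
  M.inj hp hq h

theorem sE_zero : sE M 0 = 1 := by simp [sE, M.wnil, wprod]

theorem sE_foldl : ∀ (l : List ℕ), (∀ i ∈ l, i < 7) → ∀ p < 128,
    l.foldl twoTable.nx p < 128 ∧ sE M p * wprod M.t l = sE M (l.foldl twoTable.nx p)
  | [], _, p, hp => ⟨hp, by simp [wprod]⟩
  | i :: l, hl, p, hp => by
    obtain ⟨h1, h2⟩ := M.edge p hp i (hl i (by simp))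
    obtain ⟨h3, h4⟩ := sE_foldl l (fun j hj => hl j (List.mem_cons_of_mem _ hj)) _ h1
    refine ⟨h3, ?_⟩
    rw [wprod_cons, ← mul_assoc]
    show wprod M.t (twoTable.wd p) * M.t i * wprod M.t l = _
    rw [h2]
    exact h4

include M in
theorem mulT_lt {p q : ℕ} (hp : p < 128) (hq : q < 128) : mulT p q < 128 :=
  (sE_foldl M _ (M.wlt q hq) p hp).1

theorem sE_mul {p q : ℕ} (hp : p < 128) (hq : q < 128) : sE M p * sE M q = sE M (mulT p q) :=
  (sE_foldl M _ (M.wlt q hq) p hp).2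

theorem invT_lt {p : ℕ} (hp : p < 128) : invT p < 128 := by
  have h := forallLt_elim inv_ok hp
  simp only [Bool.and_eq_true, Nat.blt_eq] at h
  exact h.1.1

theorem sE_inv {p : ℕ} (hp : p < 128) : (sE M p)⁻¹ = sE M (invT p) := by
  refine inv_eq_of_mul_eq_one_right ?_
  have h := forallLt_elim inv_ok hp
  simp only [Bool.and_eq_true, Nat.beq_eq] at h
  rw [sE_mul M hp (invT_lt hp), h.1.2, sE_zero]

include M in
theorem cmT_lt {p q : ℕ} (hp : p < 128) (hq : q < 128) : cmT p q < 128 :=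
  mulT_lt M (mulT_lt M hp hq) (mulT_lt M (invT_lt hp) (invT_lt hq))

theorem sE_cm {p q : ℕ} (hp : p < 128) (hq : q < 128) :
    sE M (cmT p q) = sE M p * sE M q * ((sE M p)⁻¹ * (sE M q)⁻¹) := by
  rw [sE_inv M hp, sE_inv M hq, sE_mul M hp hq, sE_mul M (invT_lt hp) (invT_lt hq),
    sE_mul M (mulT_lt M hp hq) (mulT_lt M (invT_lt hp) (invT_lt hq))]
  rfl

theorem genT_spec {i : ℕ} (hi : i < 7) : genT i < 128 ∧ sE M (genT i) = M.t i := by
  obtain ⟨h1, h2⟩ := M.edge 0 (by norm_num) i hi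
  exact ⟨h1, by rw [show sE M (genT i) = _ from h2.symm, M.wnil]; simp [wprod]⟩

/-- The subgroup given by a closed mask. -/
noncomputable def maskSub (m : ℕ) (hm : closedT m = true) : Subgroup G where
  carrier := {x | ∃ p, In m p ∧ sE M p = x}
  one_mem' := ⟨0, ⟨by norm_num, (closed_iff hm).1⟩, sE_zero M⟩
  mul_mem' := by
    rintro _ _ ⟨p, hp, rfl⟩ ⟨q, hq, rfl⟩
    exact ⟨_, ⟨mulT_lt M hp.1 hq.1, ((closed_iff hm).2 p hp).2 q hq⟩, (sE_mul M hp.1 hq.1).symm⟩
  inv_mem' := by
    rintro _ ⟨p, hp, rfl⟩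
    exact ⟨_, ⟨invT_lt hp.1, ((closed_iff hm).2 p hp).1⟩, (sE_inv M hp.1).symm⟩

/-- The whole listed group. -/
noncomputable def full : Subgroup G where
  carrier := {x | ∃ p < 128, sE M p = x}
  one_mem' := ⟨0, by norm_num, sE_zero M⟩
  mul_mem' := by
    rintro _ _ ⟨p, hp, rfl⟩ ⟨q, hq, rfl⟩
    exact ⟨_, mulT_lt M hp hq, (sE_mul M hp hq).symm⟩
  inv_mem' := by
    rintro _ ⟨p, hp, rfl⟩
    exact ⟨_, invT_lt hp, (sE_inv M hp).symm⟩

theorem card_full : Nat.card (full M) = 128 := by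
  rw [← Nat.card_eq_of_bijective (fun p : Fin 128 => (⟨sE M p, p, p.2, rfl⟩ : full M))
    ⟨fun p q h => Fin.ext (sE_inj M p.2 q.2 (congrArg Subtype.val h)),
      fun ⟨x, p, hp, e⟩ => ⟨⟨p, hp⟩, Subtype.ext e⟩⟩, Nat.card_fin]

/-- An automorphism of the listed group read on positions. -/
structure Map (m : G) (π : ℕ → ℕ) : Prop where
  conj : ∀ p < 128, π p < 128 ∧ m * sE M p * m⁻¹ = sE M (π p)

variable {M} {m : G} {π : ℕ → ℕ}

theorem Map.mul (h : Map M m π) {p q : ℕ} (hp : p < 128) (hq : q < 128) :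
    π (mulT p q) = mulT (π p) (π q) := by
  refine sE_inj M (h.conj _ (mulT_lt M hp hq)).1 (mulT_lt M (h.conj p hp).1 (h.conj q hq).1) ?_
  rw [← (h.conj _ (mulT_lt M hp hq)).2, ← sE_mul M hp hq,
    ← sE_mul M (h.conj p hp).1 (h.conj q hq).1, ← (h.conj p hp).2, ← (h.conj q hq).2]
  group

theorem Map.inv (h : Map M m π) {p : ℕ} (hp : p < 128) : π (invT p) = invT (π p) := by
  refine sE_inj M (h.conj _ (invT_lt hp)).1 (invT_lt (h.conj p hp).1) ?_
  rw [← (h.conj _ (invT_lt hp)).2, ← sE_inv M hp, ← sE_inv M (h.conj p hp).1, ← (h.conj p hp).2]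
  group

theorem Map.cm (h : Map M m π) {p q : ℕ} (hp : p < 128) (hq : q < 128) :
    π (cmT p q) = cmT (π p) (π q) := by
  simp only [cmT]
  rw [h.mul (mulT_lt M hp hq) (mulT_lt M (invT_lt hp) (invT_lt hq)), h.mul hp hq,
    h.mul (invT_lt hp) (invT_lt hq), h.inv hp, h.inv hq]

theorem Map.injOn (h : Map M m π) {p q : ℕ} (hp : p < 128) (hq : q < 128) (e : π p = π q) :
    p = q := by
  refine sE_inj M hp hq ?_
  have h2 : m * sE M p * m⁻¹ = m * sE M q * m⁻¹ := by rw [(h.conj p hp).2, (h.conj q hq).2, e]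
  exact mul_left_cancel (mul_right_cancel h2)

theorem Map.surjOn (h : Map M m π) {k : ℕ} (hk : ∀ p, In k p → mem k (π p) = true) {q : ℕ}
    (hq : In k q) : ∃ p, In k p ∧ π p = q := by
  have hs : ((Finset.range 128).filter fun p => mem k p = true).image π =
      (Finset.range 128).filter fun p => mem k p = true := by
    refine Finset.eq_of_subset_of_card_le (fun x hx => ?_) (le_of_eq ?_)
    · simp only [Finset.mem_image, Finset.mem_filter, Finset.mem_range] at hx ⊢
      obtain ⟨p, hp, rfl⟩ := hx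
      exact ⟨(h.conj p hp.1).1, hk p hp⟩
    · refine (Finset.card_image_of_injOn fun p hp q hq e => ?_).symm
      simp only [Finset.coe_filter, Finset.mem_range, Set.mem_setOf_eq] at hp hq
      exact h.injOn hp.1 hq.1 e
  have hq' : q ∈ (Finset.range 128).filter fun p => mem k p = true := by
    simpa [In] using hq
  rw [← hs, Finset.mem_image] at hq'
  obtain ⟨p, hp, rfl⟩ := hq'
  exact ⟨p, by simpa [In] using hp, rfl⟩

theorem Map.cen (h : Map M m π) {k n : ℕ} (hc : cenT k n = true)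
    (hn : ∀ p, In n p → mem n (π p) = true) {p : ℕ} (hp : In k p) : mem k (π p) = true := by
  refine (cen_iff hc (h.conj p hp.1).1).2 fun a ha => ?_
  obtain ⟨b, hb, rfl⟩ := h.surjOn hn ha
  rw [← h.mul hp.1 hb.1, (cen_iff hc hp.1).1 hp.2 b hb, h.mul hb.1 hp.1]

theorem Map.inS (h : Map M m π) : ∀ p, In maskS p → mem maskS (π p) = true := fun p hp =>
  (in_all (h.conj p hp.1).1).2

theorem Map.inC (h : Map M m π) : ∀ p, In maskC p → mem maskC (π p) = true := by
  intro p hp
  have h1 := (forallLt_elim comm_ok.2 hp.1)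
  simp only [Bool.or_eq_true, Bool.not_eq_true', List.any_eq_true, Bool.and_eq_true,
    Nat.blt_eq, Nat.beq_eq] at h1
  obtain ⟨w, -, ⟨ha, hb⟩, e⟩ := h1.resolve_left (by simp [hp.2])
  rw [← e, h.cm ha hb]
  exact forallLt_elim (forallLt_elim comm_ok.1 (h.conj _ ha).1) (h.conj _ hb).1

theorem Map.inK (h : Map M m π) : ∀ p, In maskK p → mem maskK (π p) = true := fun _ hp =>
  h.cen cen_ok.2.1 h.inC hp

theorem Map.inB (h : Map M m π) : ∀ p, In maskB p → mem maskB (π p) = true := fun _ hp =>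
  h.cen cen_ok.2.2 h.inK hp

theorem Map.inZ (h : Map M m π) : ∀ p, In maskZ p → mem maskZ (π p) = true := fun _ hp =>
  h.cen cen_ok.1 h.inS hp

theorem Map.notMem (h : Map M m π) {k : ℕ} (hk : ∀ p, In k p → mem k (π p) = true) {p : ℕ}
    (hp : p < 128) (hpk : mem k p = false) : mem k (π p) = false := by
  by_contra hc
  rw [Bool.not_eq_false] at hc
  obtain ⟨q, hq, e⟩ := h.surjOn hk ⟨(h.conj p hp).1, hc⟩
  rw [h.injOn hq.1 hp e] at hq
  simp [hq.2] at hpk

theorem lA_lt (p : ℕ) : lA p < 4 := Nat.lt_succ_of_le Nat.and_le_right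

theorem lA_mul {p q : ℕ} (hp : In maskB p) (hq : In maskB q) :
    lA (mulT p q) = lA p ^^^ lA q := by
  have h := forallLt_elim labelA_ok.2.1 hp.1
  simp only [Bool.or_eq_true, Bool.not_eq_true', forallLt_iff, Nat.beq_eq] at h
  exact ((h.resolve_left (by simp [hp.2])) q hq.1).resolve_left (by simp [hq.2])

theorem lA_zero {p : ℕ} (hp : In maskB p) : lA p = 0 ↔ mem maskC p = true := by
  have h := forallLt_elim labelA_ok.1 hp.1
  simp only [Bool.or_eq_true, Bool.not_eq_true', beq_iff_eq] at h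
  rw [← h.resolve_left (by simp [hp.2]), Nat.beq_eq]

theorem lA_rep {c : ℕ} (hc : c < 4) : ∃ p, In maskB p ∧ lA p = c := by
  have h := forallLt_elim labelA_ok.2.2 hc
  simp only [List.any_eq_true, List.mem_range, Bool.and_eq_true, Nat.beq_eq] at h
  obtain ⟨p, hp, hm, e⟩ := h
  exact ⟨p, ⟨hp, hm⟩, e⟩

variable (M) in
include M in
theorem lA_eq_iff {p q : ℕ} (hp : In maskB p) (hq : In maskB q) :
    lA p = lA q ↔ mem maskC (mulT (invT p) q) = true := by
  have hB := closed_iff closed_ok.2.2.2.1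
  have hi : In maskB (invT p) := ⟨invT_lt hp.1, (hB.2 p hp).1⟩
  have e : lA p ^^^ lA (invT p) = 0 := by
    have h := forallLt_elim inv_ok hp.1
    simp only [Bool.and_eq_true, Nat.beq_eq] at h
    rw [← lA_mul hp hi, h.1.2, lA_zero ⟨by norm_num, hB.1⟩]
    exact (closed_iff closed_ok.2.2.1).1
  rw [← lA_zero ⟨mulT_lt M hi.1 hq.1, (hB.2 _ hi).2 q hq⟩, lA_mul hi hq,
    ← Nat.xor_eq_zero_iff.1 e, Nat.xor_eq_zero_iff]

theorem Map.lA_congr (h : Map M m π) {p q : ℕ} (hp : In maskB p) (hq : In maskB q)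
    (e : lA p = lA q) : lA (π p) = lA (π q) := by
  have hC := (lA_eq_iff M hp hq).1 e
  refine (lA_eq_iff M ⟨(h.conj p hp.1).1, h.inB p hp⟩ ⟨(h.conj q hq.1).1, h.inB q hq⟩).2 ?_
  have := h.inC _ ⟨mulT_lt M (invT_lt hp.1) hq.1, hC⟩
  rwa [h.mul (invT_lt hp.1) hq.1, h.inv hp.1] at this

/-- The square of an automorphism acts on the cosets as a power of the given permutation. -/
theorem Map.square (h : Map M m π) : ∃ i : ℕ, ∀ p, In maskB p →
    lA (π (π p)) = ((fun d => [0, 2, 3, 1].getD d 0)^[i]) (lA p) := by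
  obtain ⟨x, hx, ex⟩ := lA_rep (c := 1) (by norm_num)
  obtain ⟨y, hy, ey⟩ := lA_rep (c := 2) (by norm_num)
  have hxy : In maskB (mulT x y) :=
    ⟨mulT_lt M hx.1 hy.1, ((closed_iff closed_ok.2.2.2.1).2 x hx).2 y hy⟩
  have exy : lA (mulT x y) = 3 := by rw [lA_mul hx hy, ex, ey]; rfl
  set a := lA (π x) with ha
  set b := lA (π y) with hb
  have hπ : ∀ p, In maskB p → In maskB (π p) := fun p hp => ⟨(h.conj p hp.1).1, h.inB p hp⟩
  have hnz : ∀ p, In maskB p → lA p ≠ 0 → lA (π p) ≠ 0 := by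
    intro p hp hne h0
    rw [lA_zero (hπ p hp)] at h0
    rw [ne_eq, lA_zero hp, Bool.not_eq_true] at hne
    simp [h.notMem h.inC hp.1 hne] at h0
  have ha0 : a ≠ 0 := hnz x hx (by omega)
  have hb0 : b ≠ 0 := hnz y hy (by omega)
  have hab : a ≠ b := by
    intro e
    have := hnz _ hxy (by omega)
    rw [h.mul hx.1 hy.1, lA_mul (hπ x hx) (hπ y hy), ← ha, ← hb, e, Nat.xor_self] at this
    exact this rfl
  have hval : ∀ p, In maskB p → lA (π p) = [0, a, b, a ^^^ b].getD (lA p) 0 := by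
    intro p hp
    obtain e | e | e | e : lA p = 0 ∨ lA p = 1 ∨ lA p = 2 ∨ lA p = 3 := by
      have := lA_lt p; omega
    · rw [e]
      exact (lA_zero (hπ p hp)).2 (h.inC p ⟨hp.1, (lA_zero hp).1 e⟩)
    · rw [e]; exact (h.lA_congr hp hx (e.trans ex.symm))
    · rw [e]; exact (h.lA_congr hp hy (e.trans ey.symm))
    · rw [e, h.lA_congr hp hxy (e.trans exy.symm), h.mul hx.1 hy.1, lA_mul (hπ x hx) (hπ y hy)]
      rfl
  obtain ⟨i, hi⟩ := square_four ⟨a, lA_lt _⟩ ⟨b, lA_lt _⟩
    (fun e => ha0 (congrArg Fin.val e)) (fun e => hb0 (congrArg Fin.val e))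
    (fun e => hab (congrArg Fin.val e))
  refine ⟨i, fun p hp => ?_⟩
  rw [hval _ (hπ p hp), hval p hp]
  exact hi ⟨lA p, lA_lt p⟩

theorem lK_congr {p q : ℕ} (hp : In maskC p) (hq : In maskC q) :
    lK p = lK q ↔ mem maskK (mulT (invT p) q) = true := by
  have h := forallLt_elim labelK_ok.1 hp.1
  simp only [Bool.or_eq_true, Bool.not_eq_true', forallLt_iff, beq_iff_eq] at h
  rw [← ((h.resolve_left (by simp [hp.2])) q hq.1).resolve_left (by simp [hq.2]), Nat.beq_eq]

theorem lK_cm {x s : ℕ} (hx : In maskB x) (hs : s < 128) (hsB : mem maskB s = false) :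
    lK (cmT x s) = lA x := by
  have h := forallLt_elim labelK_ok.2.1 hx.1
  simp only [Bool.or_eq_true, Bool.not_eq_true', forallLt_iff, Nat.beq_eq] at h
  exact ((h.resolve_left (by simp [hx.2])) s hs).resolve_left (by simp [hsB])

/-- An automorphism fixing the cosets stabilizes the series. -/
theorem Map.stab (h : Map M m π) (hfix : ∀ p, In maskB p → lA (π p) = lA p) :
    (∀ p, In maskZ p → mem 1 (mulT (invT p) (π p)) = true) ∧
      (∀ p, In maskK p → mem maskZ (mulT (invT p) (π p)) = true) ∧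
      (∀ p, In maskC p → mem maskK (mulT (invT p) (π p)) = true) ∧
      (∀ p, In maskB p → mem maskC (mulT (invT p) (π p)) = true) ∧
      ∀ p, In maskS p → mem maskB (mulT (invT p) (π p)) = true := by
  have h1 : ∀ q, In 1 q → q = 0 := by
    intro q hq
    by_contra hne
    have := hq.2
    simp [mem, Nat.testBit_one_eq_true_iff_self_eq_zero, hne] at this
  have hone : ∀ p, In 1 p → mem 1 (π p) = true := by
    intro p hp
    obtain rfl := h1 p hp
    have : π 0 = 0 := by
      refine sE_inj M (h.conj 0 (by norm_num)).1 (by norm_num) ?_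
      rw [← (h.conj 0 (by norm_num)).2, sE_zero]
      simp
    rw [this]
    exact hp.2
  have gen : ∀ {k n : ℕ}, closedT k = true → stepT k n = true →
      (∀ p, In k p → mem k (π p) = true) → (∀ p, In n p → mem n (π p) = true) →
      ∀ p, In n p → mem k (mulT (invT p) (π p)) = true := by
    intro k n hk hs hik hin p hp
    cases hpk : mem k p
    · exact step_iff hs hp hpk ⟨(h.conj p hp.1).1, hin p hp⟩ (h.notMem hik hp.1 hpk)
    · exact ((closed_iff hk).2 _ ⟨invT_lt hp.1, ((closed_iff hk).2 p ⟨hp.1, hpk⟩).1⟩).2 _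
        ⟨(h.conj p hp.1).1, hik p ⟨hp.1, hpk⟩⟩
  refine ⟨gen closed_ok.2.2.2.2.2 step_ok.1 hone h.inZ,
    gen closed_ok.1 step_ok.2.1 h.inZ h.inK, fun a ha => ?_,
    fun p hp => (lA_eq_iff M hp ⟨(h.conj p hp.1).1, h.inB p hp⟩).1 (hfix p hp).symm,
    gen closed_ok.2.2.2.1 step_ok.2.2 h.inB h.inS⟩
  obtain ⟨x, hx, ex⟩ := lA_rep (c := lK a) (Nat.lt_succ_of_le Nat.and_le_right)
  have hs : mem maskB 1 = false := labelK_ok.2.2
  have hcm : In maskC (cmT x 1) :=
    ⟨cmT_lt M hx.1 (by norm_num), forallLt_elim (forallLt_elim comm_ok.1 hx.1) (by norm_num)⟩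
  have e1 : lK a = lK (cmT x 1) := by rw [lK_cm hx (by norm_num) hs, ex]
  have hπa : In maskC (π a) := ⟨(h.conj a ha.1).1, h.inC a ha⟩
  have hπc : In maskC (π (cmT x 1)) := ⟨(h.conj _ hcm.1).1, h.inC _ hcm⟩
  have e2 : lK (π a) = lK (π (cmT x 1)) := by
    refine (lK_congr hπa hπc).2 ?_
    have := h.inK _ ⟨mulT_lt M (invT_lt ha.1) hcm.1, (lK_congr ha hcm).1 e1⟩
    rwa [h.mul (invT_lt ha.1) hcm.1, h.inv ha.1] at this
  rw [h.cm hx.1 (by norm_num), lK_cm ⟨(h.conj x hx.1).1, h.inB x hx⟩ (h.conj 1 (by norm_num)).1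
    (h.notMem h.inB (by norm_num) hs), hfix x hx] at e2
  exact (lK_congr ha hπa).1 (by rw [e2, ex])

theorem gperm_map : Map M M.g (fun p => gperm.getD p 0) := by
  obtain ⟨h0, h1, -⟩ := gperm_ok
  rw [Nat.beq_eq] at h0
  simp only [forallLt_iff, Bool.and_eq_true, Nat.blt_eq, Nat.beq_eq] at h1
  have key : ∀ (l : List ℕ), (∀ i ∈ l, i < 7) → ∀ p < 128,
      M.g * sE M p * M.g⁻¹ = sE M (gperm.getD p 0) →
      M.g * (sE M p * wprod M.t l) * M.g⁻¹ = sE M (gperm.getD (l.foldl twoTable.nx p) 0) := by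
    intro l
    induction l with
    | nil => intro _ p _ e; simpa [wprod] using e
    | cons i l ih =>
      intro hl p hp e
      obtain ⟨hn, he⟩ := M.edge p hp i (hl i (by simp))
      rw [wprod_cons, ← mul_assoc (sE M p), show sE M p * M.t i = _ from he, List.foldl_cons]
      refine ih (fun j hj => hl j (List.mem_cons_of_mem _ hj)) _ hn ?_
      have hi := hl i (by simp)
      have hg := M.gt i hi
      rw [(h1 p hp).2 i hi, ← sE_mul M (h1 p hp).1 (h1 _ (genT_spec M hi).1).1, ← e,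
        show sE M (twoTable.nx p i) = _ from he.symm]
      change M.g * M.t i = sE M (gperm.getD (genT i) 0) * M.g at hg
      rw [eq_mul_inv_of_mul_eq hg.symm]
      show M.g * (sE M p * M.t i) * M.g⁻¹ = _
      group
  refine ⟨fun p hp => ⟨(h1 p hp).1, ?_⟩⟩
  have e := key (twoTable.wd p) (M.wlt p hp) 0 (by norm_num) (by rw [h0, sE_zero]; simp)
  have e' := (sE_foldl M _ (M.wlt p hp) 0 (by norm_num)).2
  rw [sE_zero, one_mul] at e e'
  rw [← sE_inj M hp (sE_foldl M _ (M.wlt p hp) 0 (by norm_num)).1 e'] at e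
  exact e

theorem gpow_map : ∀ i : ℕ, Map M (M.g ^ i) ((fun p => gperm.getD p 0)^[i]) ∧
    ∀ p, In maskB p → In maskB ((fun p => gperm.getD p 0)^[i] p) ∧
      lA ((fun p => gperm.getD p 0)^[i] p) = ((fun d => [0, 2, 3, 1].getD d 0)^[i]) (lA p)
  | 0 => ⟨⟨fun p hp => ⟨hp, by simp⟩⟩, fun p hp => ⟨hp, rfl⟩⟩
  | i + 1 => by
    obtain ⟨hM, hl⟩ := gpow_map i
    refine ⟨⟨fun p hp => ?_⟩, fun p hp => ?_⟩
    · rw [Function.iterate_succ_apply']
      obtain ⟨a, b⟩ := hM.conj p hp
      refine ⟨((gperm_map (M := M)).conj _ a).1, ?_⟩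
      rw [← ((gperm_map (M := M)).conj _ a).2, ← b, pow_succ']
      group
    · rw [Function.iterate_succ_apply', Function.iterate_succ_apply']
      obtain ⟨a, b⟩ := hl p hp
      have h := forallLt_elim gperm_ok.2.2 a.1
      simp only [Bool.or_eq_true, Bool.not_eq_true', Bool.and_eq_true, Nat.beq_eq] at h
      obtain ⟨h1, h2⟩ := h.resolve_left (by rw [a.2]; exact Bool.noConfusion)
      exact ⟨⟨((gperm_map (M := M)).conj _ a.1).1, h1⟩, by rw [h2, b]⟩

theorem sigma_inj (i : ℕ) {c d : ℕ} (hc : c < 4) (hd : d < 4)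
    (h : ((fun x => [0, 2, 3, 1].getD x 0)^[i]) c = ((fun x => [0, 2, 3, 1].getD x 0)^[i]) d) :
    c = d := by
  induction i generalizing c d with
  | zero => exact h
  | succ i ih =>
    rw [Function.iterate_succ_apply, Function.iterate_succ_apply] at h
    have hb : ∀ e < 4, [0, 2, 3, 1].getD e 0 < 4 := by decide
    have hi : ∀ e < 4, ∀ f < 4, [0, 2, 3, 1].getD e 0 = [0, 2, 3, 1].getD f 0 → e = f := by decide
    exact hi c hc d hd (ih (hb c hc) (hb d hd) h)

theorem mem_normalizer_full [Finite G] {m : G}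
    (h : ∀ p < 128, m * sE M p * m⁻¹ ∈ full M) :
    m ∈ Subgroup.normalizer (full M : Set G) := by
  refine Subgroup.mem_normalizer_fintype fun x hx => ?_
  obtain ⟨p, hp, rfl⟩ := hx
  exact h p hp

/-- The simplicity of the fusion system of a group containing the model with odd index. -/
theorem isSimple_of_model [Finite G] (M₀ : Model G) (hG : Nat.card G = 50232960) (S : Sylow 2 G) :
    (groupFusionSystem (S : Subgroup G)).IsSimple 2 := by
  have : Fact (Nat.Prime 2) := ⟨Nat.prime_two⟩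
  have hfact : (Nat.card G).factorization 2 = 7 := by
    rw [hG, show (50232960 : ℕ) = 2 ^ 7 * 392445 by norm_num,
      Nat.factorization_mul (by norm_num) (by norm_num), Finsupp.add_apply,
      Nat.Prime.factorization_pow Nat.prime_two, Finsupp.single_eq_same,
      Nat.factorization_eq_zero_of_not_dvd (by norm_num), add_zero]
  obtain ⟨M, hS₀e⟩ : ∃ M : Model G, (S : Subgroup G) = full M := by
    obtain ⟨c, hc⟩ := MulAction.exists_smul_eq G
      (Sylow.ofCard (full M₀) (by rw [card_full, hfact]; norm_num)) S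
    refine ⟨M₀.map (MulAut.conj c), le_antisymm (fun x hx => ?_) ?_⟩
    · rw [← hc, Sylow.coe_subgroup_smul, Sylow.coe_ofCard] at hx
      obtain ⟨_, ⟨p, hp, rfl⟩, rfl⟩ := hx
      exact ⟨p, hp, (map_wprod (MulAut.conj c).toMonoidHom M₀.t _).symm⟩
    · rintro _ ⟨p, hp, rfl⟩
      rw [← hc, Sylow.coe_subgroup_smul, Sylow.coe_ofCard]
      exact ⟨_, ⟨p, hp, rfl⟩, map_wprod (MulAut.conj c).toMonoidHom M₀.t _⟩
  have hfull : ∀ {p : ℕ}, p < 128 → sE M p ∈ full M := fun hp => ⟨_, hp, rfl⟩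
  refine groupFusion_isSimple_of_squareStep S ?_ ?_
    (maskSub M maskQ closed_ok.2.2.2.2.1) ?_ ?_ ?_ M.g ?_ ?_ ?_
  · intro hb
    have h1 : sE M 20 ∈ (S : Subgroup G) := hS₀e ▸ hfull (by norm_num)
    rw [hb, Subgroup.mem_bot, ← sE_zero M] at h1
    have := sE_inj M (by norm_num) (by norm_num) h1
    omega
  · intro T hTS hTb hTc
    rw [hS₀e] at hTS hTc ⊢
    have hn : (T.subgroupOf (full M)).Normal := ⟨fun t ht a => by
      rw [Subgroup.mem_subgroupOf] at ht ⊢
      exact hTc _ ht (a : G) (by exact (a * t * a⁻¹).2)⟩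
    have : Group.IsNilpotent (full M) := (IsPGroup.of_card (p := 2) (n := 7) ((card_full M).trans (by norm_num))).isNilpotent
    have hTne : T.subgroupOf (full M) ≠ ⊥ := fun h => hTb ((Subgroup.eq_bot_iff_forall _).2
      fun x hx => by
        have h2 : (⟨x, hTS hx⟩ : full M) ∈ T.subgroupOf (full M) := hx
        rw [h, Subgroup.mem_bot] at h2
        exact congrArg Subtype.val h2)
    obtain ⟨⟨t, htS⟩, ⟨htT, htc⟩, ht1⟩ := Subgroup.bot_or_exists_ne_one _ |>.resolve_left
      (CfsgLib.Core.inf_center_ne_bot_of_isNilpotent (T.subgroupOf (full M)) hTne)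
    obtain ⟨p, hp, rfl⟩ := htS
    have hpZ : In maskZ p := ⟨hp, (cen_iff cen_ok.1 hp).2 fun a ha => by
      refine sE_inj M (mulT_lt M hp ha.1) (mulT_lt M ha.1 hp) ?_
      rw [← sE_mul M hp ha.1, ← sE_mul M ha.1 hp]
      exact (congrArg Subtype.val (Subgroup.mem_center_iff.1 htc ⟨_, hfull ha.1⟩)).symm⟩
    have h20 : sE M 20 ∈ T := by
      have h := forallLt_elim order_ok.2.1 hp
      simp only [Bool.or_eq_true, Bool.not_eq_true', Nat.beq_eq] at h
      rcases h with (h | rfl) | rfl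
      · simp [hpZ.2] at h
      · exact absurd (Subtype.ext (sE_zero M)) ht1
      · exact htT
    refine le_antisymm hTS ?_
    rintro _ ⟨q, hq, rfl⟩
    refine Subgroup.list_prod_mem _ fun x hx => ?_
    obtain ⟨i, hi, rfl⟩ := List.mem_map.1 hx
    have hi7 := M.wlt q hq i hi
    obtain ⟨c, hc⟩ := M.conj i hi7
    obtain ⟨hgl, hge⟩ := genT_spec M hi7
    have := hTc _ h20 c (by rw [show c * sE M 20 * c⁻¹ = M.t i from hc, ← hge]; exact hfull hgl)
    rwa [show c * sE M 20 * c⁻¹ = M.t i from hc] at this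
  · rw [hS₀e]
    rintro _ ⟨p, hp, rfl⟩
    exact hfull hp.1
  · rw [hS₀e]
    rintro _ ⟨a, ha, rfl⟩
    refine Subgroup.mem_normalizer_fintype fun x hx => ?_
    obtain ⟨q, hq, rfl⟩ := hx
    have h := forallLt_elim (forallLt_elim quot_ok.2.1 ha) hq.1
    simp only [Bool.or_eq_true, Bool.not_eq_true'] at h
    refine ⟨_, ⟨mulT_lt M (mulT_lt M ha hq.1) (invT_lt ha), h.resolve_left (by simp [hq.2])⟩, ?_⟩
    rw [sE_inv M ha, sE_mul M ha hq.1, sE_mul M (mulT_lt M ha hq.1) (invT_lt ha)]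
  · rw [hS₀e]
    rintro _ ⟨p, hp, rfl⟩ hc
    refine ⟨p, ⟨hp, ?_⟩, rfl⟩
    have h := forallLt_elim quot_ok.1 hp
    simp only [Bool.or_eq_true, Bool.not_eq_true'] at h
    refine h.resolve_right fun h' => ?_
    have : forallLt 128 (fun q => !mem maskQ q || Nat.beq (mulT p q) (mulT q p)) = true := by
      simp only [forallLt_iff, Bool.or_eq_true, Bool.not_eq_true', Nat.beq_eq]
      intro q hq
      by_cases hm : mem maskQ q = true
      · refine Or.inr (sE_inj M (mulT_lt M hp hq) (mulT_lt M hq hp) ?_)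
        rw [← sE_mul M hp hq, ← sE_mul M hq hp]
        exact (hc _ ⟨q, ⟨hq, hm⟩, rfl⟩).symm
      · exact Or.inl (by simpa using hm)
    rw [this] at h'
    exact Bool.noConfusion h'
  · rw [hS₀e]
    exact mem_normalizer_full fun p hp =>
      ⟨_, ((gperm_map (M := M)).conj p hp).1, (((gperm_map (M := M)).conj p hp).2).symm⟩
  · have key : ∀ w : G, w * w = 1 →
        (∀ q, In maskQ q → w * sE M q * w⁻¹ ∈ maskSub M maskQ closed_ok.2.2.2.2.1) →
        w ∈ pGenNormalizer 2 (maskSub M maskQ closed_ok.2.2.2.2.1) := by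
      intro w hw hmv
      refine Subgroup.subset_closure ⟨Subgroup.mem_normalizer_fintype fun x hx => ?_, ?_⟩
      · obtain ⟨q, hq, rfl⟩ := hx
        exact hmv q hq
      · obtain ⟨j, -, hj⟩ := (Nat.dvd_prime_pow Nat.prime_two).1
          (orderOf_dvd_of_pow_eq_one (show w ^ 2 ^ 1 = 1 by rw [pow_one, sq, hw]))
        exact ⟨j, hj⟩
    obtain ⟨-, -, hcov, hall⟩ := quot_ok
    have hmem : ∀ q, In maskQ q → ∃ e ∈ qMoves, e.1 = q ∧ In maskQ e.2.1 ∧ In maskQ e.2.2 := by
      intro q hq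
      have h := forallLt_elim hcov hq.1
      simp only [Bool.or_eq_true, Bool.not_eq_true', List.any_eq_true, Nat.beq_eq] at h
      obtain ⟨e, he, hee⟩ := h.resolve_left (by simp [hq.2])
      have h2 := List.all_eq_true.1 hall e he
      simp only [Bool.and_eq_true, Nat.blt_eq] at h2
      exact ⟨e, he, hee, ⟨h2.1.1.1.2, h2.1.2⟩, ⟨h2.1.1.2, h2.2⟩⟩
    rw [← M.uv]
    refine Subgroup.mul_mem _ (key _ M.uu fun q hq => ?_) (key _ M.vv fun q hq => ?_)
    · obtain ⟨e, he, rfl, h1, -⟩ := hmem q hq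
      exact ⟨_, h1, eq_mul_inv_of_mul_eq (M.uq e he).symm⟩
    · obtain ⟨e, he, rfl, -, h2⟩ := hmem q hq
      exact ⟨_, h2, eq_mul_inv_of_mul_eq (M.vq e he).symm⟩
  · rw [hS₀e]
    intro n hn
    have hex : ∀ p, ∃ q, p < 128 → q < 128 ∧ n * sE M p * n⁻¹ = sE M q := by
      intro p
      by_cases hp : p < 128
      · obtain ⟨q, hq, e⟩ := (Subgroup.mem_normalizer_iff.1 hn _).1 (hfull hp)
        exact ⟨q, fun _ => ⟨hq, e.symm⟩⟩
      · exact ⟨0, fun h => absurd h hp⟩
    choose π hπ using hex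
    have hM : Map M n π := ⟨fun p hp => hπ p hp⟩
    obtain ⟨i, hi⟩ := hM.square
    obtain ⟨hgM, hgl⟩ := gpow_map (M := M) i
    have hgn : M.g ∈ Subgroup.normalizer (full M : Set G) :=
      mem_normalizer_full fun p hp => ⟨_, ((gperm_map (M := M)).conj p hp).1, (((gperm_map (M := M)).conj p hp).2).symm⟩
    set w := (M.g ^ i)⁻¹ * n ^ 2 with hw
    have hwn : w ∈ Subgroup.normalizer (full M : Set G) :=
      Subgroup.mul_mem _ (Subgroup.inv_mem _ (Subgroup.pow_mem _ hgn i)) (Subgroup.pow_mem _ hn 2)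
    have hex' : ∀ p, ∃ q, p < 128 → q < 128 ∧ w * sE M p * w⁻¹ = sE M q := by
      intro p
      by_cases hp : p < 128
      · obtain ⟨q, hq, e⟩ := (Subgroup.mem_normalizer_iff.1 hwn _).1 (hfull hp)
        exact ⟨q, fun _ => ⟨hq, e.symm⟩⟩
      · exact ⟨0, fun h => absurd h hp⟩
    choose ρ hρ using hex'
    have hW : Map M w ρ := ⟨fun p hp => hρ p hp⟩
    have hfix : ∀ p, In maskB p → lA (ρ p) = lA p := by
      intro p hp
      have hρB : In maskB (ρ p) := ⟨(hW.conj p hp.1).1, hW.inB p hp⟩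
      have hπB : In maskB (π p) := ⟨(hM.conj p hp.1).1, hM.inB p hp⟩
      have e : (fun p => gperm.getD p 0)^[i] (ρ p) = π (π p) := by
        refine sE_inj M (hgl _ hρB).1.1 (hM.conj _ hπB.1).1 ?_
        rw [← (hgM.conj _ hρB.1).2, ← (hW.conj p hp.1).2, ← (hM.conj _ hπB.1).2,
          ← (hM.conj p hp.1).2, hw, sq]
        group
      have h1 := (hgl _ hρB).2
      rw [e, hi p hp] at h1
      exact sigma_inj i (lA_lt _) (lA_lt _) h1.symm
    obtain ⟨s1, s2, s3, s4, s5⟩ := hW.stab hfix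
    let θ := (full M).normalizerMonoidHom ⟨w, hwn⟩
    let P : Fin 6 → Subgroup (full M) := ![(maskSub M 1 closed_ok.2.2.2.2.2).subgroupOf _,
      (maskSub M maskZ closed_ok.1).subgroupOf _, (maskSub M maskK closed_ok.2.1).subgroupOf _,
      (maskSub M maskC closed_ok.2.2.1).subgroupOf _, (maskSub M maskB closed_ok.2.2.2.1).subgroupOf _,
      ⊤]
    have one_eq : ∀ q, In 1 q → q = 0 := by
      intro q hq
      by_contra hne
      have := hq.2
      simp [mem, Nat.testBit_one_eq_true_iff_self_eq_zero, hne] at this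
    have hstep : ∀ {k l : ℕ} (hk : closedT k = true),
        (∀ p, In l p → mem k (mulT (invT p) (ρ p)) = true) → ∀ (x : full M) (p : ℕ),
        In l p → sE M p = x → x⁻¹ * θ x ∈ (maskSub M k hk).subgroupOf (full M) := by
      intro k l hk hs x p hp e
      refine ⟨_, ⟨mulT_lt M (invT_lt hp.1) (hW.conj p hp.1).1, hs p hp⟩, ?_⟩
      rw [← sE_mul M (invT_lt hp.1) (hW.conj p hp.1).1, ← sE_inv M hp.1, ← (hW.conj p hp.1).2, e]
      rfl
    have hinv : ∀ {k : ℕ} (hk : closedT k = true), (∀ p, In k p → mem k (ρ p) = true) →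
        ∀ x ∈ (maskSub M k hk).subgroupOf (full M), θ x ∈ (maskSub M k hk).subgroupOf (full M) := by
      intro k hk hi x hx
      obtain ⟨p, hp, e⟩ := hx
      refine ⟨_, ⟨(hW.conj p hp.1).1, hi p hp⟩, ?_⟩
      rw [← (hW.conj p hp.1).2, e]
      rfl
    have h0 : P 0 = ⊥ := by
      refine (Subgroup.eq_bot_iff_forall _).2 fun x hx => ?_
      obtain ⟨p, hp, e⟩ := hx
      rw [one_eq p hp, sE_zero] at e
      exact Subtype.ext e.symm
    obtain ⟨k, hk⟩ := exists_pow_eq_one_of_stabilizes (p := 2)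
      (IsPGroup.of_card (p := 2) (n := 7) ((card_full M).trans (by norm_num))) P h0 rfl θ
      (by
        intro j
        fin_cases j
        · intro x hx
          have h1 : x ∈ P 0 := hx
          rw [h0, Subgroup.mem_bot] at h1
          rw [h1, map_one]
          exact Subgroup.one_mem _
        · exact hinv _ hW.inZ
        · exact hinv _ hW.inK
        · exact hinv _ hW.inC
        · exact hinv _ hW.inB
        · exact fun _ _ => Subgroup.mem_top _)
      (by
        intro j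
        fin_cases j
        · rintro x ⟨p, hp, e⟩; exact hstep _ s1 x p hp e
        · rintro x ⟨p, hp, e⟩; exact hstep _ s2 x p hp e
        · rintro x ⟨p, hp, e⟩; exact hstep _ s3 x p hp e
        · rintro x ⟨p, hp, e⟩; exact hstep _ s4 x p hp e
        · intro x _
          obtain ⟨p, hp, e⟩ := x.2
          exact hstep _ s5 x p (in_all hp) e)
    refine ⟨i, k, fun x hx => ?_⟩
    have h1 := congrArg (fun β : MulAut (full M) => ((β ⟨x, hx⟩ : full M) : G))
      ((map_pow (full M).normalizerMonoidHom ⟨w, hwn⟩ (2 ^ k)).trans hk)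
    have h2 : w ^ 2 ^ k * x * (w ^ 2 ^ k)⁻¹ = x := h1
    exact mul_inv_eq_iff_eq_mul.1 h2

end CfsgLib.Fusion.J3Two
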