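import Cfsg.Agent.Lib.Fusion.JankoThreeTwo

/-!
# The table of the Sylow 2-subgroup inside the third Janko group
-/

set_option autoImplicit false
set_option maxRecDepth 20000

namespace CfsgLib.Fusion.J3Two

open Cfsg Cfsg.Spor CfsgLib.Sporadic CfsgLib.Sporadic.Mult CfsgLib.Sporadic.J3
  CfsgLib.Sporadic.J3.TwoData CfsgLib.Sporadic.J3.MultData
open scoped MatrixGroups

variable {F : Type*} [Field F] [Fintype F] [CharP F 2] {ω : F} (hω : ω ^ 2 + ω + 1 = 0)
include hω

theorem exists_model (hF : Fintype.card F = 4) : Nonempty (Model (J3 F ω)) := by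
  obtain ⟨hUU, hVV, hUV, h20, hg, hq, hrel⟩ := elems_ok
  obtain ⟨hok, hlt, hsep⟩ := two_table_data
  set t : ℕ → J3 F ω := fun i => el hω (twoGenAt i) with ht
  have hwp : ∀ w : List ℕ, wprod t w = ((w.map twoGenAt).map (el hω)).prod := fun w => by
    simp only [wprod, List.map_map, ht, Function.comp_def]
  have hrels : ∀ W ∈ twoTable.rels, wprod t W = 1 := fun W hW => by
    rw [hwp, eq_of_chkEq hω (List.all_eq_true.1 hrel W hW)]
    rfl
  obtain ⟨-, hw0, hedge⟩ := all_edges hok hrels
  have hq' := fun e (he : e ∈ qMoves) => List.all_eq_true.1 hq e he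
  obtain ⟨-, -, -, -, -, -, -, hgen⟩ := base_data
  have e20 : wprod t (twoTable.wd 20) = el hω baseA := by
    rw [hwp, eq_of_chkEq hω h20]; simp
  refine ⟨{ t := t, g := el hω elG, u := el hω elU, v := el hω elV
            edge := fun p hp i hi => hedge p hp i hi
            wlt := fun p hp i hi => hlt ⟨p, hp⟩ i hi
            wnil := hw0
            inj := ?_, gt := fun i hi => ?_, uu := ?_, vv := ?_, uv := ?_
            uq := fun e he => ?_, vq := fun e he => ?_, conj := fun i hi => ?_ }⟩
  · intro p (hp : p < 128) q (hq : q < 128) e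
    refine injOn_of_sepOK hω hF hsep (by simpa using hp) (by simpa using hq) ?_
    simpa [wprod, ht, List.getD_eq_getElem?_getD, List.map_map, Function.comp_def, hp, hq] using e
  · have h := eq_of_chkEq hω (forallLt_elim hg hi)
    simpa [wprod, ht, List.map_map, Function.comp_def] using h
  · simpa using eq_of_chkEq hω hUU
  · simpa using eq_of_chkEq hω hVV
  · simpa using eq_of_chkEq hω hUV
  · have h := hq' e he
    rw [Bool.and_eq_true] at h
    simpa [wprod, ht, List.map_map, Function.comp_def] using eq_of_chkEq hω h.1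
  · have h := hq' e he
    rw [Bool.and_eq_true] at h
    simpa [wprod, ht, List.map_map, Function.comp_def] using eq_of_chkEq hω h.2
  · refine ⟨el hω (ctoAt i), ?_⟩
    have h := eq_of_chkEq hω (hgen ⟨i, hi⟩)
    simp only [List.map_cons, List.map_nil, List.prod_cons, List.prod_nil, mul_one] at h
    rw [e20, h, mul_inv_cancel_right]

end CfsgLib.Fusion.J3Two
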