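import Cfsg.Agent.Lib.Fusion.ExtraspecialCentralizer
import Cfsg.Agent.Lib.Recog.JankoTwo.Centralizer

/-!
# The 2-fusion system of the Hall-Janko group is simple

The centralizer of a reflection is the stabilizer of a line. A second reflection lies in its
kernel of order 32, and a conjugate of an element of the kernel moves a pair of lines.
-/

set_option autoImplicit false
set_option maxRecDepth 20000

namespace CfsgLib.Fusion

open Cfsg CfsgLib.Recog.JankoTwo

attribute [local irreducible] pget t0 t1 t2 t3 stAt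

theorem j2_fusion_check :
    pget (t0 13) 20 = 0 ∧ pget (strong0.getD 0 0) 20 = 20 ∧
    ((List.range 5).all fun j =>
      ((List.range 315).any fun b => pget (t0 13) b == (pairAt j).1 &&
        inPair (pget (t0 13) (pget (strong0.getD 0 0) b)) j) &&
      ((List.range 315).any fun b => pget (t0 13) b == (pairAt j).2 &&
        inPair (pget (t0 13) (pget (strong0.getD 0 0) b)) j)) = true ∧
    allPts (fun b => pget (strong0.getD 0 0) (pget (t0 13) b) ==
      pget (t0 13) (pget (strong0.getD 0 0) b)) = false ∧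
    kerTab.contains (2, 0, 4) = true ∧ stAt (2, 0, 4) 20 = 20 ∧
    inPair (pget (t0 13) 135) 1 = true ∧
    inPair (pget (t0 13) (stAt (2, 0, 4) 135)) 1 = false := by
  decide +kernel

/-- the centralizer of the first reflection in the permutation group -/
noncomputable def j2Cent : Subgroup P := stab.subgroupOf P

theorem mem_j2Cent (x : P) :
    x ∈ j2Cent ↔ x * ⟨gen 0, Subgroup.subset_closure ⟨0, rfl⟩⟩ =
      ⟨gen 0, Subgroup.subset_closure ⟨0, rfl⟩⟩ * x :=
  ⟨fun h => Subtype.ext (stab_commute h).eq,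
    fun h => Subgroup.mem_subgroupOf.2 ⟨x.2, zero_of_commute x.2 (congrArg Subtype.val h)⟩⟩

theorem mem_ker_iff_pairs (g : stab) :
    pairHom g = 1 ↔ PairMaps (g : S315) 1 :=
  ⟨fun h => h ▸ (exists_pairMaps g.2).choose_spec.1,
    fun h => (exists_pairMaps g.2).choose_spec.1.unique h⟩

theorem isExtraspecial_pairKer {C : Type*} [Group C] (eC : C ≃* stab) :
    Nat.card (pairHom.comp (eC : C →* stab)).ker = 32 ∧
      Nat.card (Subgroup.center (pairHom.comp (eC : C →* stab)).ker) = 2 := by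
  set ψ : C →* Equiv.Perm (Fin 5) := pairHom.comp (eC : C →* stab) with hψ
  have hcard : Nat.card ψ.ker = 32 := by
    rw [← card_ker]
    exact Nat.card_congr
      { toFun := fun x => ⟨eC x.1, x.2⟩
        invFun := fun y => ⟨eC.symm y.1,
          show pairHom (eC (eC.symm y.1)) = 1 by rw [MulEquiv.apply_symm_apply]; exact y.2⟩
        left_inv := fun x => Subtype.ext (eC.symm_apply_apply _)
        right_inv := fun y => Subtype.ext (eC.apply_symm_apply _) }
  have : Finite C := Finite.of_equiv _ eC.symm.toEquiv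
  obtain ⟨Q, hQn, hQc, hQe, -⟩ := exists_Q eC
  have hle : Q ≤ ψ.ker := by
    intro x hx
    let e : C →* alternatingGroup (Fin 5) :=
      ψ.codRestrict _ fun c => range_pairHom ▸ ⟨eC c, rfl⟩
    have hes : Function.Surjective e := by
      rintro ⟨σ, hσ⟩
      obtain ⟨s, hs⟩ := MonoidHom.mem_range.1 (range_pairHom.symm ▸ hσ)
      exact ⟨eC.symm s, Subtype.ext (by
        show pairHom (eC (eC.symm s)) = σ
        rw [MulEquiv.apply_symm_apply]; exact hs)⟩
    rcases alternatingGroup.isSimpleGroup_five.eq_bot_or_eq_top_of_normal _ (hQn.map e hes)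
      with h | h
    · have h1 : e x ∈ Q.map e := ⟨x, hx, rfl⟩
      rw [h, Subgroup.mem_bot] at h1
      exact congrArg Subtype.val h1
    · exfalso
      have h1 := Q.card_map_dvd e
      rw [h, Subgroup.card_top, hQc, nat_card_alternatingGroup] at h1
      simp [Nat.factorial] at h1
  have hQψ : Q = ψ.ker := Subgroup.eq_of_le_of_card_ge hle (by rw [hcard, hQc])
  subst hQψ
  exact ⟨hcard, hQe.2⟩

theorem j2_twoFusion_simple {G : Type*} [Group G] [Finite G] (hG : Spor.IsoJ2 G) (S : Sylow 2 G) :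
    (groupFusionSystem (S : Subgroup G)).IsSimple 2 := by
  obtain ⟨e⟩ := hG
  let Φ : G ≃* P := e.trans equivP
  let z0 : P := ⟨gen 0, Subgroup.subset_closure ⟨0, rfl⟩⟩
  set C : Subgroup G := j2Cent.comap Φ.toMonoidHom with hC
  have hmem : ∀ x : G, x ∈ C ↔ x * Φ.symm z0 = Φ.symm z0 * x := fun x => by
    rw [← Φ.apply_eq_iff_eq (x := x * Φ.symm z0), map_mul, map_mul, Φ.apply_symm_apply]
    exact mem_j2Cent (Φ x)
  let eC : C ≃* stab :=
    { toFun := fun x => ⟨(Φ x.1 : S315), Subgroup.mem_subgroupOf.1 x.2⟩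
      invFun := fun y => ⟨Φ.symm ⟨y.1, y.2.1⟩, by
        show Φ (Φ.symm ⟨y.1, y.2.1⟩) ∈ j2Cent
        rw [MulEquiv.apply_symm_apply]; exact Subgroup.mem_subgroupOf.2 y.2⟩
      left_inv := fun x => Subtype.ext (Φ.symm_apply_apply x.1)
      right_inv := fun y =>
        Subtype.ext (congrArg (Subtype.val : P → S315) (Φ.apply_symm_apply ⟨y.1, y.2.1⟩))
      map_mul' := fun a b =>
        Subtype.ext (congrArg (Subtype.val : P → S315) (map_mul Φ a.1 b.1)) }
  obtain ⟨hker, hcen⟩ := isExtraspecial_pairKer eC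
  obtain ⟨k0, k1, k2, k3, k4, k5, k6, k7⟩ := j2_fusion_check
  set U : S315 := U0 ⟨13, by norm_num⟩ with hU
  have rU : Rep U (t0 13) := U0_rep _
  have r0 : Rep (gen 0) (strong0.getD 0 0) := gen_rep 0
  let a : Fin 315 := ⟨20, by norm_num⟩
  have hUa : U a = 0 := Fin.ext ((rU a).symm.trans k0)
  have h0a : gen 0 a = a := Fin.ext ((r0 a).symm.trans k1)
  have hUP : U ∈ P := U0_mem _
  -- the second reflection
  have hs : U * gen 0 * U⁻¹ ∈ stab := Subgroup.mem_inf.2
    ⟨mul_mem (mul_mem hUP z0.2) (inv_mem hUP), MulAction.mem_stabilizer_iff.2 <| by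
    show (U * gen 0 * U⁻¹) 0 = 0
    rw [← hUa]; simp [h0a]⟩
  have hs1 : pairHom ⟨_, hs⟩ = 1 := by
    rw [mem_ker_iff_pairs]
    intro i x hx
    have h := k2
    simp only [List.all_eq_true, List.mem_range, Bool.and_eq_true, List.any_eq_true,
      beq_iff_eq] at h
    obtain ⟨⟨b1, hb1, e1, f1⟩, ⟨b2, hb2, e2, f2⟩⟩ := h i.1 i.2
    have key : ∀ (b : ℕ) (hb : b < 315), pget (t0 13) b = x.1 →
        inPair (pget (t0 13) (pget (strong0.getD 0 0) b)) i.1 = true →
        inPair ((U * gen 0 * U⁻¹) x).1 i.1 = true := by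
      intro b hb he hf
      have hx' : U ⟨b, hb⟩ = x := Fin.ext ((rU ⟨b, hb⟩).symm.trans he)
      rw [← hx', Equiv.Perm.mul_apply, Equiv.Perm.mul_apply, Equiv.Perm.inv_def,
        Equiv.symm_apply_apply, ← rU, ← r0 ⟨b, hb⟩]
      exact hf
    simp only [inPair, Bool.or_eq_true, beq_iff_eq] at hx
    rcases hx with hx | hx
    · exact key b1 hb1 (e1.trans hx.symm) f1
    · exact key b2 hb2 (e2.trans hx.symm) f2
  have hne : U * gen 0 * U⁻¹ ≠ gen 0 := fun h => by
    rw [← Bool.not_eq_true, allPts_iff] at k3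
    refine k3 fun x => beq_iff_eq.mpr ?_
    rw [r0.comp rU, rU.comp r0, mul_inv_eq_iff_eq_mul.1 h]
  -- the element of the kernel moved out of it
  obtain ⟨q, hq⟩ := stab_elem (kerTab_range (List.contains_iff_mem.mp k4))
  have hq1 : pairHom q = 1 :=
    MonoidHom.mem_ker.1 (mem_ker_of_mem hq (List.contains_iff_mem.mp k4))
  have hqa : (q : S315) a = a := Fin.ext ((hq a).symm.trans k5)
  have hr : U * q * U⁻¹ ∈ stab := Subgroup.mem_inf.2
    ⟨mul_mem (mul_mem hUP q.2.1) (inv_mem hUP), MulAction.mem_stabilizer_iff.2 <| by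
    show (U * q * U⁻¹) 0 = 0
    rw [← hUa]; simp [hqa]⟩
  have hr1 : pairHom ⟨_, hr⟩ ≠ 1 := fun h => by
    rw [mem_ker_iff_pairs] at h
    let b : Fin 315 := ⟨135, by norm_num⟩
    have hb := h 1 (U b) (by rw [← rU b]; exact k6)
    rw [Equiv.Perm.one_apply, Equiv.Perm.mul_apply, Equiv.Perm.mul_apply, Equiv.Perm.inv_def,
      Equiv.symm_apply_apply, ← rU, ← hq b] at hb
    exact Bool.false_ne_true (k7.symm.trans hb)
  let s' : C := eC.symm ⟨_, hs⟩
  let r' : C := eC.symm ⟨_, hr⟩
  have hΦ : ∀ y : stab, (Φ (eC.symm y : G) : S315) = y := fun y =>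
    congrArg Subtype.val (eC.apply_symm_apply y)
  have h20 : ∀ g : G, orderOf g ≠ 20 := fun g h => by
    have h1 := orderOf_P (Φ g).2
    rw [Subgroup.orderOf_coe, MulEquiv.orderOf_eq, h] at h1
    exact absurd h1 (by decide)
  refine isSimple_of_extraspecialCentralizer (z := Φ.symm z0) ?_ C hmem
    (pairHom.comp (eC : C →* stab)) ?_ hker hcen (m := 4725) (by norm_num)
    (by rw [Nat.card_congr Φ.toEquiv, card_P]; norm_num) h20 s' ?_ ?_
    ⟨Φ.symm ⟨U, hUP⟩, ?_⟩ r' ?_ (eC.symm q) ?_ (Φ.symm ⟨U, hUP⟩) ?_ S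
  · intro h
    have h2 : gen 0 = 1 := by
      have := congrArg (fun u : G => (Φ u : S315)) h
      simpa [z0] using this
    exact hne (by rw [h2, mul_one, mul_inv_cancel])
  · rw [MonoidHom.range_comp, MonoidHom.range_eq_top.mpr eC.surjective,
      ← MonoidHom.range_eq_map, range_pairHom]
  · show pairHom (eC (eC.symm _)) = 1
    rw [MulEquiv.apply_symm_apply]; exact hs1
  · intro h
    have := congrArg (fun u : G => (Φ u : S315)) h
    simp only [s', hΦ, MulEquiv.apply_symm_apply] at this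
    exact hne this
  · refine Φ.injective (Subtype.ext ?_)
    simp [s', hΦ, z0]
  · show pairHom (eC (eC.symm _)) ≠ 1
    rw [MulEquiv.apply_symm_apply]; exact hr1
  · show pairHom (eC (eC.symm _)) = 1
    rw [MulEquiv.apply_symm_apply]; exact hq1
  · refine Φ.injective (Subtype.ext ?_)
    simp [r', hΦ]

end CfsgLib.Fusion
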