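import Cfsg.Agent.Lib.Fusion.LayerClosed
import Cfsg.Agent.Lib.Fusion.CentralProduct
import Cfsg.Agent.Lib.Fusion.InnerQuot
import Cfsg.Agent.Lib.Fusion.ResidualSeries

/-!
# Normal subsystems of quasisimple systems are central or over the whole subgroup
-/

set_option autoImplicit false
set_option maxHeartbeats 800000
set_option linter.unusedSectionVars false

namespace CfsgLib.Fusion.Closed

open Cfsg Cfsg.FusionSystem CfsgLib.Fusion

universe u v

variable {Ω : Type u} [Group Ω] {Ω' : Type v} [Group Ω'] {S W Z : Subgroup Ω} {F : FusionSystem S}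
  {E : FusionSystem W} {p : ℕ}

/-- The restriction of a quotient map. -/
def quotHom (θ : S →* Ω') (hW : W ≤ S) : W →* Ω' := θ.comp (Subgroup.inclusion hW)

theorem quotHom_range (θ : S →* Ω') (hW : W ≤ S) : (quotHom θ hW).range = imageAlong θ W := by
  ext y
  exact ⟨fun ⟨x, hx⟩ => ⟨⟨x, hW x.2⟩, x.2, hx⟩, fun ⟨s, hs, h⟩ => ⟨⟨s, hs⟩, h⟩⟩

theorem preimageAlong_quotHom (θ : S →* Ω') (hθ : ∀ s : S, θ s = 1 ↔ (s : Ω) ∈ Z) (hW : W ≤ S)
    (hZW : Z ≤ W) {P' : Subgroup Ω'} (hP' : P' ≤ imageAlong θ W) :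
    preimageAlong (quotHom θ hW) P' = preimageAlong θ P' := by
  refine le_antisymm ?_ ?_
  · rintro _ ⟨x, hx, rfl⟩
    exact (mem_preimageAlong (θ := θ) (x := ⟨(x : Ω), hW x.2⟩)).2 hx
  · rintro _ ⟨s, hs, rfl⟩
    obtain ⟨t, ht, hts⟩ := hP' hs
    have h1 : ((t⁻¹ * s : S) : Ω) ∈ Z :=
      (hθ _).1 (by rw [map_mul, map_inv, inv_mul_eq_one]; exact hts)
    rw [Subgroup.coe_mul, Subgroup.coe_inv] at h1
    have h2 : (s : Ω) ∈ W := by
      have h3 : (t : Ω) * ((t : Ω)⁻¹ * (s : Ω)) ∈ W := W.mul_mem ht (hZW h1)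
      rwa [mul_inv_cancel_left] at h3
    exact (mem_preimageAlong (θ := quotHom θ hW) (x := ⟨(s : Ω), h2⟩)).2 hs

theorem inducedAlong_quotHom (θ : S →* Ω') (hW : W ≤ S) {P : Subgroup Ω} {φ : P →* Ω}
    {P' : Subgroup Ω'} {φ' : P' →* Ω'} (h : InducedAlong (quotHom θ hW) φ φ') :
    InducedAlong θ φ φ' :=
  ⟨h.1.trans hW, fun x => hW (h.2.1 x), h.2.2.1, h.2.2.2⟩

variable [Fact p.Prime] [Finite S]

/-- The image of an invariant subsystem in a factor system is invariant. -/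
theorem exists_image (hS : IsPGroup p S) (hEs : E.IsSaturated p) (hE : E.IsInvariantIn F)
    (hZ : F.StronglyClosed Z) (hZW : Z ≤ W) {θ : S →* Ω'} {S' : Subgroup Ω'}
    {Fb : FusionSystem S'} (hfac : F.IsFactorSystem Z θ Fb) :
    ∃ D : FusionSystem (imageAlong θ W), D.IsSaturated p ∧ D.IsInvariantIn Fb := by
  obtain ⟨-, hθ, hr, hiff⟩ := id hfac
  have hWS := hE.2.1.1
  have := finite_le hWS
  set η := quotHom θ hWS with hη
  have hηk : ∀ w : W, η w = 1 ↔ (w : Ω) ∈ Z := fun w => hθ ⟨w, hWS w.2⟩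
  have hZE : E.StronglyClosed Z :=
    ⟨hZW, fun R hR φ hφ x => hZ.2 R hR φ (hE.1 R hφ) x⟩
  have hηr := quotHom_range θ hWS
  set D := factorSystem E hZE η hηk hηr with hD
  have himS : imageAlong θ W ≤ S' := (Subgroup.map_le_range _ _).trans hr.le
  have hsc := stronglyClosed_imageAlong hfac hZ hE.2.1
  have hpre : ∀ {P' : Subgroup Ω'}, P' ≤ imageAlong θ W → preimageAlong η P' = preimageAlong θ P' :=
    fun hP' => preimageAlong_quotHom θ hθ hWS hZW hP'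
  have hrg : ∀ {P' : Subgroup Ω'}, P' ≤ imageAlong θ W → P' ≤ η.range := fun hP' =>
    hP'.trans hηr.ge
  refine ⟨D, factor_saturated (hS.to_le hWS) hEs hZE (E := D)
      ⟨hZW, hηk, hηr, fun _ _ => Iff.rfl⟩, ?_, hsc, fun P' hP' φ' hφ' α' hα' => ?_,
    fun P' hP' φ' hφ' => ?_⟩
  · rintro P' φ' ⟨hP', ψ, hψ, hind⟩
    refine (hiff P' φ').2 ⟨hP'.trans himS, _, restrict_mem (hE.1 _ hψ) (hpre hP').ge,
      preimageAlong_le θ P', fun x => hWS (hom_apply_mem hψ _), fun x => mem_preimageAlong.1 x.2,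
      fun x => ?_⟩
    exact inducedAlong_apply (inducedAlong_quotHom θ hWS hind) (Subgroup.inclusion (hpre hP').ge x)
      _ _ _
  · obtain ⟨-, ψ, hψ, hind⟩ := hφ'
    obtain ⟨-, φa, hφa, hinda⟩ := (hiff _ _).1 ((mem_autGroup_iff hsc.1).1 hα')
    have hWp : W ≤ preimageAlong θ (imageAlong θ W) := fun w hw =>
      (mem_preimageAlong (θ := θ) (x := ⟨w, hWS hw⟩)).2 ⟨⟨w, hWS hw⟩, hw, rfl⟩
    have hres := restrict_mem hφa hWp
    obtain ⟨α, hα, hαv⟩ := exists_iso hres (Q := W) (Subgroup.eq_of_le_of_card_ge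
      (by rintro _ ⟨x, rfl⟩; exact StronglyClosed.apply_mem hE.2.1 hres x.2)
      (Nat.card_congr (MonoidHom.ofInjective (F.injective_of_mem hres)).toEquiv).le)
    have hcomm : ∀ w : W, ((α' ⟨η w, ⟨⟨w, hWS w.2⟩, w.2, rfl⟩⟩ : imageAlong θ W) : Ω') =
        η (α w) := fun w => by
      refine (inducedAlong_apply hinda (Subgroup.inclusion hWp w) (hWS w.2)
        (hom_apply_mem hφa _) ⟨⟨w, hWS w.2⟩, w.2, rfl⟩).trans ?_
      exact congrArg θ (Subtype.ext (hαv w).symm)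
    obtain ⟨χ, hχ, hχv⟩ := hE.2.2.1 _ (preimageAlong_le η P') ψ hψ (α : MulAut W)
      ((mem_autGroup_iff_isoIn hWS).2 hα)
    set P'' := (P'.subgroupOf (imageAlong θ W)).map
      ((imageAlong θ W).subtype.comp α'.toMonoidHom) with hP''
    have hP''W : P'' ≤ imageAlong θ W := by rintro _ ⟨y, -, rfl⟩; exact SetLike.coe_mem _
    have hle : preimageAlong η P'' ≤
        ((preimageAlong η P').subgroupOf W).map (W.subtype.comp (α : MulAut W).toMonoidHom) := by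
      intro s hs
      have hsW := preimageAlong_le η P'' hs
      obtain ⟨y, hy, hyv⟩ : η ⟨s, hsW⟩ ∈ P'' :=
        (mem_preimageAlong (θ := η) (x := ⟨s, hsW⟩)).1 hs
      refine ⟨α.symm ⟨s, hsW⟩, mem_preimageAlong.2 ?_,
        congrArg Subtype.val (α.apply_symm_apply _)⟩
      have h1 : α' y = α' ⟨η (α.symm ⟨s, hsW⟩), ⟨⟨_, hWS (α.symm ⟨s, hsW⟩).2⟩,
          (α.symm ⟨s, hsW⟩).2, rfl⟩⟩ := Subtype.ext (by
        rw [hcomm, MulEquiv.apply_symm_apply]
        exact hyv)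
      have h2 : (y : Ω') = η (α.symm ⟨s, hsW⟩) := congrArg Subtype.val (α'.injective h1)
      exact h2 ▸ (hy : (y : Ω') ∈ P')
    have hχ₀ := restrict_mem hχ hle
    obtain ⟨χ', hχ'⟩ := exists_induced hZE hηk (hrg hP''W) hχ₀
    refine ⟨χ', ⟨hP''W, _, hχ₀, hχ'⟩, fun y hy1 hy2 => ?_⟩
    obtain ⟨x, hx⟩ := exists_preimage (hrg hP') y
    have hm : η ⟨x, preimageAlong_le η P' x.2⟩ ∈ P' := hx ▸ y.2
    obtain rfl : y = ⟨_, hm⟩ := Subtype.ext hx.symm
    have h1 := hcomm ⟨x, preimageAlong_le η P' x.2⟩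
    set s : W := α ⟨x, preimageAlong_le η P' x.2⟩ with hs
    have hsP : (s : Ω) ∈ preimageAlong η P'' := mem_preimageAlong.2 (h1 ▸ hy2)
    have hψW : ψ x ∈ W := hom_apply_mem hψ x
    refine Eq.trans (congrArg χ' (Subtype.ext h1))
      (Eq.trans (inducedAlong_apply hχ' ⟨s, hsP⟩ s.2 (hom_apply_mem hχ₀ _)
        (mem_preimageAlong.1 hsP)) ?_)
    rw [show (⟨φ' ⟨η ⟨x, preimageAlong_le η P' x.2⟩, hm⟩, hy1⟩ : imageAlong θ W) =
      ⟨η ⟨ψ x, hψW⟩, ⟨⟨ψ x, hWS hψW⟩, hψW, rfl⟩⟩ from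
        Subtype.ext (inducedAlong_apply hind x _ hψW hm), hcomm]
    exact congrArg η (Subtype.ext (hχv x hψW (hle hsP)))
  · obtain ⟨-, φ₁, hφ₁, hind⟩ := (hiff _ _).1 hφ'
    have hres := restrict_mem hφ₁ (hpre hP').le
    obtain ⟨α, hα, φ₀, hφ₀, hv⟩ := hE.2.2.2 _ (preimageAlong_le η P') _ hres
    obtain ⟨φ₀', hφ₀'⟩ := exists_induced hZE hηk (hrg hP') hφ₀
    have hWim : preimageAlong θ (imageAlong θ W) ≤ W := by
      rw [← hpre le_rfl]
      exact preimageAlong_le η _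
    have hαr := restrict_mem ((mem_autGroup_iff hWS).1 hα) hWim
    obtain ⟨a', ha'⟩ := exists_induced hZ hθ (Subgroup.map_le_range _ _) hαr
    have haF : a' ∈ Fb.Hom (imageAlong θ W) := (hiff _ _).2 ⟨himS, _, hαr, ha'⟩
    have := finite_le (le_refl S)
    have : Finite (imageAlong θ W) := by
      rw [← hηr]
      exact Finite.of_surjective _ η.rangeRestrict_surjective
    obtain ⟨α', hα', hα'v⟩ := exists_iso haF (Q := imageAlong θ W) (Subgroup.eq_of_le_of_card_ge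
      (by rintro _ ⟨y, rfl⟩; exact StronglyClosed.apply_mem hsc haF y.2)
      (Nat.card_congr (MonoidHom.ofInjective (Fb.injective_of_mem haF)).toEquiv).le)
    refine ⟨α', (mem_autGroup_iff_isoIn hsc.1).2 hα', φ₀', ⟨hP', _, hφ₀, hφ₀'⟩, fun y hy => ?_⟩
    obtain ⟨x, hx⟩ := exists_preimage (hrg hP') y
    have hm : η ⟨x, preimageAlong_le η P' x.2⟩ ∈ P' := hx ▸ y.2
    obtain rfl : y = ⟨_, hm⟩ := Subtype.ext hx.symm
    have h0 : φ₀ x ∈ W := hom_apply_mem hφ₀ x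
    have h1 : φ₀' ⟨η ⟨x, preimageAlong_le η P' x.2⟩, hm⟩ = η ⟨φ₀ x, h0⟩ :=
      inducedAlong_apply hφ₀' x _ h0 hm
    have hxθ := (hpre hP').le x.2
    refine (inducedAlong_apply hind ⟨x, hxθ⟩ (hWS (preimageAlong_le η P' x.2))
      (hom_apply_mem hφ₁ _) hm).trans (Eq.trans ?_ (hα'v _).symm)
    have hz : φ₀ x ∈ preimageAlong θ (imageAlong θ W) :=
      (mem_preimageAlong (θ := θ) (x := ⟨_, hWS h0⟩)).2 ⟨⟨_, hWS h0⟩, h0, rfl⟩
    refine Eq.trans ?_ (Eq.trans (inducedAlong_apply ha' ⟨φ₀ x, hz⟩ (hWS h0)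
      (hom_apply_mem hαr _) ⟨⟨_, hWS h0⟩, h0, rfl⟩).symm (congrArg a' (Subtype.ext h1).symm))
    exact congrArg θ (Subtype.ext (hv x h0))

/-- A normal subsystem of a quasisimple system is over a central or over the whole subgroup. -/
theorem quasisimple_normal_dichotomy (hS : IsPGroup p S) (hq : F.Quasisimple p)
    (hn : E.IsNormalIn F p) : W ≤ F.center ∨ W = S := by
  obtain ⟨hF, hyp, hfac⟩ := hq
  have hZ : F.IsCentral F.center := center_isCentral
  have hZS := hZ.1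
  have hfix := ((isCentral_iff hS hF).1 hZ).2
  have hWS := normal_le hn
  have := finite_le hWS
  have := finite_le hZS
  have hNZ := inner_isNormalIn_of_normal hS hF (isCentral_isNormal hZ)
  have hzc : ∀ z ∈ F.center, ∀ s ∈ S, s * z = z * s := fun z hz s hs =>
    F.center_le_centralizer hz s hs
  have hD : Central.CData p F E (innerFusionSystem F.center) := by
    refine ⟨hS, hF, hn, hNZ, fun x hx y hy => hzc y hy x (hWS hx), ?_, ?_⟩
    · refine le_center ((isCentral_iff (hS.to_le hWS) hn.1.1).2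
        ⟨inf_le_left, fun x hx y hy => ?_⟩)
      obtain ⟨φ, hφ, rfl⟩ := hy
      exact hfix x hx.2 _ (isConjElt_of_hom (hn.1.2.2.1 _ hφ) ⟨x, Subgroup.mem_zpowers x⟩)
    · refine le_center ((isCentral_iff (hS.to_le hZS) hNZ.1.1).2
        ⟨inf_le_right, fun x hx y hy => ?_⟩)
      obtain ⟨φ, ⟨-, g, hg, hv⟩, rfl⟩ := hy
      rw [hv]
      show g * x * g⁻¹ = x
      rw [hzc x hx.2 g (hZS hg), mul_inv_cancel_right]
  set W' := W ⊔ F.center with hW'
  have hW'n := hD.prodC_normal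
  have hsc := IsNormal.stronglyClosed (isCentral_isNormal hZ)
  set q := QuotientGroup.mk' (F.center.subgroupOf S) with hqdef
  have hθ : ∀ s : S, q s = 1 ↔ (s : Ω) ∈ F.center := fun s => QuotientGroup.eq_one_iff s
  have hr : q.range = ⊤ := MonoidHom.range_eq_top.2 (QuotientGroup.mk'_surjective _)
  set Fb := factorSystem F hsc q hθ hr
  have hFb : F.IsFactorSystem F.center q Fb := ⟨hsc.1, hθ, hr, fun _ _ => Iff.rfl⟩
  obtain ⟨hFbs, -, hsimple⟩ := hfac Fb hFb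
  obtain ⟨Db, hDbs, hDbi⟩ := exists_image hS hW'n.1.1 hW'n.1.2.2 hsc le_sup_right hFb
  have : Finite (⊤ : Subgroup (S ⧸ F.center.subgroupOf S)) := inferInstance
  have hTp : IsPGroup p (⊤ : Subgroup (S ⧸ F.center.subgroupOf S)) :=
    (hS.to_quotient _).to_subgroup ⊤
  have hle' : imageAlong q W' ≤ (⊤ : Subgroup (S ⧸ F.center.subgroupOf S)) := le_top
  have := finite_le hle'
  obtain ⟨D, hD'⟩ := exists_pPrimeResidual (hTp.to_le hle') hDbs
  rcases hsimple _ D (pPrimeResidual_normal hTp hFbs hDbs hDbi hD') with hbot | ⟨htop, -⟩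
  · refine Or.inl fun w hw => (hθ ⟨w, hWS hw⟩).1 (Subgroup.mem_bot.1 ?_)
    rw [← hbot]
    exact ⟨⟨w, hWS hw⟩, Subgroup.mem_sup_left (T := F.center) hw, rfl⟩
  · refine Or.inr (le_antisymm hWS ?_)
    have hWn := StronglyClosed.normal_in hn.1.2.2.2.1
    have hdec : ∀ s ∈ S, ∃ w ∈ W, ∃ z ∈ F.center, s = w * z := by
      intro s hs
      obtain ⟨t, ht, hts⟩ : q ⟨s, hs⟩ ∈ imageAlong q W' := by
        rw [htop]
        exact Subgroup.mem_top _
      have h1 : ((t⁻¹ * ⟨s, hs⟩ : S) : Ω) ∈ F.center :=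
        (hθ _).1 (by rw [map_mul, map_inv, inv_mul_eq_one]; exact hts)
      rw [Subgroup.coe_mul, Subgroup.coe_inv] at h1
      have h2 : (t : Ω) * ((t : Ω)⁻¹ * s) ∈ W' :=
        Subgroup.mul_mem W' ht (Subgroup.mem_sup_right h1)
      rw [mul_inv_cancel_left] at h2
      have hn' : F.center ≤ Subgroup.normalizer (W : Set Ω) := fun z hz => hWn (hZS hz)
      rw [hW', ← SetLike.mem_coe, Subgroup.coe_mul_of_right_le_normalizer_left W F.center hn'] at h2
      obtain ⟨w, hw, z, hz, hwz⟩ := h2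
      exact ⟨w, hw, z, hz, hwz.symm⟩
    conv_lhs => rw [← hyp]
    refine hyperfocal_le_of_coprime fun P α hP hα _ x => ?_
    obtain ⟨w, hw, z, hz, hxwz⟩ := hdec x (hP x.2)
    obtain ⟨ψ, hψ, hψP, hψZ⟩ := hZ.2 P _ ((mem_autGroup_iff hP).1 hα)
    have hwP : w ∈ P ⊔ F.center := by
      rw [show w = (x : Ω) * z⁻¹ by rw [hxwz, mul_inv_cancel_right]]
      exact mul_mem (Subgroup.mem_sup_left x.2) (Subgroup.mem_sup_right (F.center.inv_mem hz))
    have h1 : ((α x : P) : Ω) = ψ ⟨w, hwP⟩ * z := by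
      have h2 := hψP x
      simp only [MonoidHom.comp_apply, Subgroup.coe_subtype, MulEquiv.coe_toMonoidHom] at h2
      rw [← h2, show Subgroup.inclusion (le_sup_left (b := F.center)) x =
        ⟨w, hwP⟩ * Subgroup.inclusion (le_sup_right (a := P)) ⟨z, hz⟩ from Subtype.ext hxwz,
        map_mul, hψZ]
    rw [h1, hxwz]
    have h3 := hzc z hz _ (S.mul_mem (S.inv_mem (hWS hw)) (hom_apply_mem hψ ⟨w, hwP⟩))
    rw [show (w * z)⁻¹ * (ψ ⟨w, hwP⟩ * z) = z⁻¹ * ((w⁻¹ * ψ ⟨w, hwP⟩) * z) by group, h3,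
      inv_mul_cancel_left]
    exact W.mul_mem (W.inv_mem hw) (StronglyClosed.apply_mem hn.1.2.2.2.1 hψ hw)

end CfsgLib.Fusion.Closed
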