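import Cfsg.Agent.Lib.Fusion.Pairing
import Cfsg.Agent.Lib.Fusion.QuasisimpleNormal
import Cfsg.Agent.Lib.Fusion.GenFitting
import Cfsg.Agent.Lib.Fusion.CentralizerNormal

/-!
# Components are normal in the layer
-/

set_option autoImplicit false
set_option maxHeartbeats 800000
set_option linter.unusedSectionVars false

namespace CfsgLib.Fusion.Closed

open Cfsg Cfsg.FusionSystem CfsgLib.Fusion

universe u

variable {Ω : Type u} [Group Ω] {S T W : Subgroup Ω} {F : FusionSystem S} {E : FusionSystem W}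
  {C : FusionSystem T} {p : ℕ}

theorem normal_congr {U U' : Subgroup Ω} {D : FusionSystem U} {D' : FusionSystem U'} (hU : U = U')
    (h : ∀ P : Subgroup Ω, D.Hom P = D'.Hom P) (hC : C.IsNormalIn D p) : C.IsNormalIn D' p := by
  subst hU
  rw [← fusionSystem_ext h]
  exact hC

/-- A component inside no smaller normal subsystem is the whole system. -/
theorem eq_of_least (h : C.IsSubnormalIn F p) :
    (∀ (U : Subgroup Ω) (D : FusionSystem U), D.IsNormalIn F p → T ≤ U → F.IsSubsystemOf D) →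
      T = S ∧ ∀ P : Subgroup Ω, C.Hom P = F.Hom P := by
  induction h with
  | refl F p => exact fun _ => ⟨rfl, fun _ => rfl⟩
  | step h hn ih =>
    intro hmin
    have hFD := hmin _ _ hn (subnormal_le h)
    have hU := le_antisymm (normal_le hn) (IsSubsystemOf.le hFD)
    subst hU
    have hD := fusionSystem_ext fun P => Set.Subset.antisymm (hn.1.2.2.1 P) (hFD P)
    subst hD
    exact ih hmin

variable [Fact p.Prime]

/-- A component outside a normal subsystem commutes with it. -/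
theorem split_aux (n : ℕ) : ∀ {S : Subgroup Ω} [Finite S] (F : FusionSystem S),
    (homGraphs F).ncard = n → IsPGroup p S → F.IsSaturated p →
    ∀ {T W : Subgroup Ω} (C : FusionSystem T) (E : FusionSystem W), C.IsComponentIn F p →
      E.IsNormalIn F p → ¬ T ≤ W →
      (∀ t ∈ T, ∀ w ∈ W, t * w = w * t) ∧ (IsClosed E p → CentBy F E T) := by
  induction n using Nat.strong_induction_on with
  | _ n ih =>
    intro S _ F hn hS hF T W C E hC hE hTW
    have hTS := component_le hC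
    have hWS := normal_le hE
    obtain ⟨WC, EC, hEC, hTWC, hCl, hmin⟩ := exists_least hS hF hC
    by_cases htop : WC = S ∧ ∀ P : Subgroup Ω, EC.Hom P = F.Hom P
    · have hFmin : ∀ (U : Subgroup Ω) (D : FusionSystem U), D.IsNormalIn F p → T ≤ U →
          F.IsSubsystemOf D := fun U D hD hle P φ hφ => hmin U D hD hle P (htop.2 P ▸ hφ)
      obtain ⟨hTS', hCF⟩ := eq_of_least hC.1 hFmin
      subst hTS'
      obtain rfl : C = F := fusionSystem_ext hCF
      rcases quasisimple_normal_dichotomy hS hC.2 hE with hWZ | hWS'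
      · have hcomm : ∀ t ∈ T, ∀ w ∈ W, t * w = w * t := fun t ht w hw =>
          C.center_le_centralizer (hWZ hw) t ht
        have hTC : T ≤ centralizerIn T W := fun t ht =>
          mem_centralizerIn.2 ⟨ht, fun w hw => (hcomm t ht w hw).symm⟩
        refine ⟨hcomm, fun _ => ⟨hTC, fun P φ hφ =>
          mem_centralizerHom_of_fixExt hE.1.2.2.1 hWS hTC hφ ⟨(P ⊔ T).subtype,
            incl_mem (sup_le ((hom_le hφ).trans hWS) le_rfl), fun x => ?_, fun y => rfl⟩⟩⟩
        exact (((isCentral_iff hS hF).1 center_isCentral).2 _ (hWZ (hom_le hφ x.2)) _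
          (isConjElt_of_hom (hE.1.2.2.1 _ hφ) x)).symm
      · exact absurd hWS'.ge hTW
    have hWCS := normal_le hEC
    have := finite_le hWCS
    have := finite_le hWS
    have hUS : W ⊓ WC ≤ S := inf_le_left.trans hWS
    have := finite_le hUS
    have hlt := hn ▸ ncard_homGraphs_lt hWCS hEC.1.2.2.1 htop
    obtain ⟨M, ⟨hMF, hME, hMC⟩, -⟩ := Meet.Data.exists_meet ⟨hS, hF, hE, hEC⟩
    obtain ⟨UL, L, hL⟩ := exists_layer (hS.to_le hUS) hMF.1.1
    have hLM := normal_le hL.1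
    have hLF := layer_normal hS hMF hL
    have hLC := layer_normal (hS.to_le hWCS) hMC hL
    have hcC := (ih _ hlt EC rfl (hS.to_le hWCS) hEC.1.1 C L (component_of_le hS hF hC hEC hTWC)
      hLC fun h => hTW (h.trans (hLM.trans inf_le_left))).2 (layer_isClosed (hS.to_le hUS) hL)
    have hcF : CentBy F L T := by
      have hTc : T ≤ centralizerIn S UL := hcC.1.trans (inf_le_inf_right _ hWCS)
      refine ⟨hTc, fun P φ hφ => ?_⟩
      obtain ⟨-, -, -, ψ, hψ, hψP, hψT⟩ := hcC.2 P hφ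
      exact mem_centralizerHom_of_fixExt hLF.1.2.2.1 (normal_le hLF) hTc hφ
        ⟨ψ, hEC.1.2.2.1 _ hψ, hψP, hψT⟩
    obtain ⟨DY, hDY, -⟩ := exists_centralizer_normal hS hLF
    have hWCY : WC ≤ centralizerIn S UL :=
      (IsSubsystemOf.le (hmin _ DY hDY (le_sSup hcF))).trans (centBy_centOf hS hLF).1
    have hnone : ¬ ∃ (V : Subgroup Ω) (Q : FusionSystem V), Q.IsComponentIn M p := by
      rintro ⟨V, Q, hQ⟩
      have hVU := IsSubsystemOf.le (hL.2.1 V Q hQ)
      exact component_not_abelian (hS.to_le hUS) hQ fun x hx y hy =>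
        ((mem_centralizerIn.1 (hWCY ((hLM.trans inf_le_right) (hVU hy)))).2 x (hVU hx))
    obtain ⟨-, hKc⟩ := exists_normal_centric_core
      ((isConstrained_iff_no_component (hS.to_le hUS) hMF.1.1).2 hnone)
    have hKF := invariant_core_isNormal hS hF hMF.1.1 hMF.1.2.2
    have hUK : W ⊓ WC ≤ M.core := fun u hu => hKc.2 _ (isConj_refl hKc.1) (mem_centralizerIn.2
      ⟨hu, fun k hk => (mem_centralizerIn.1 ((centralizes hS hEC hCl hKF WC
        (incl_mem le_rfl)).2.1 hu.2)).2 k hk⟩)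
    have hU : WC ⊓ W ≤ EC.center := fun u hu =>
      le_center_closed hS hEC hCl hKF (hKc.1.trans inf_le_right) (hUK ⟨hu.2, hu.1⟩)
    have hcom := commutes hS hEC hCl hE.1.2.2.2.1 hU
    refine ⟨fun t ht w hw => hcom t (hTWC ht) w hw, fun hEcl => ?_⟩
    have hD : Central.CData p F E EC := ⟨hS, hF, hE, hEC,
      fun x hx y hy => (hcom y hy x hx).symm,
      fun u hu => le_center_closed hS hE hEcl hKF (hKc.1.trans inf_le_left) (hUK hu),
      fun u hu => hU ⟨hu.2, hu.1⟩⟩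
    exact CentBy.mono hE.1.2.2.1 hWS hD.centBy₁ hTWC

/-- A component outside a normal subsystem commutes with it. -/
theorem component_commutes [Finite S] (hS : IsPGroup p S) (hF : F.IsSaturated p)
    (hC : C.IsComponentIn F p) (hE : E.IsNormalIn F p) (hTW : ¬ T ≤ W) :
    ∀ t ∈ T, ∀ w ∈ W, t * w = w * t := (split_aux _ F rfl hS hF C E hC hE hTW).1

/-- A component outside a closed normal subsystem is centralized by it. -/
theorem component_centBy [Finite S] (hS : IsPGroup p S) (hF : F.IsSaturated p)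
    (hC : C.IsComponentIn F p) (hE : E.IsNormalIn F p) (hEc : IsClosed E p) (hTW : ¬ T ≤ W) :
    CentBy F E T := (split_aux _ F rfl hS hF C E hC hE hTW).2 hEc

end CfsgLib.Fusion.Closed

namespace CfsgLib.Fusion.Central.CData

open Cfsg Cfsg.FusionSystem CfsgLib.Fusion

universe u

variable {Ω : Type u} [Group Ω] {S T₁ T₂ V : Subgroup Ω} {F : FusionSystem S}
  {E₁ : FusionSystem T₁} {E₂ : FusionSystem T₂} {C : FusionSystem V} {p : ℕ} [Fact p.Prime]
  [Finite S] (h : CData p F E₁ E₂)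
include h

theorem prodC_swap (P : Subgroup Ω) : h.swap.prodC.Hom P = h.prodC.Hom P := by
  ext φ
  rw [h.swap.mem_prodC, h.mem_prodC]
  constructor
  · rintro ⟨hP, b, hb, a, ha, hv⟩
    refine ⟨hP.trans (sup_comm _ _).le, a, ha, b, hb, fun u x y huxy => ?_⟩
    rw [hv u y x (huxy.trans (h.comm _ x.2.1 _ y.2.1))]
    exact (h.comm _ (hom_apply_mem ha x) _ (hom_apply_mem hb y)).symm
  · rintro ⟨hP, a, ha, b, hb, hv⟩
    refine ⟨hP.trans (sup_comm _ _).le, b, hb, a, ha, fun u y x huyx => ?_⟩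
    rw [hv u x y (huyx.trans (h.comm _ x.2.1 _ y.2.1).symm)]
    exact h.comm _ (hom_apply_mem ha x) _ (hom_apply_mem hb y)

theorem prodC_restrict {P : Subgroup Ω} (hP : P ≤ T₁) {φ : P →* Ω} (hφ : φ ∈ h.prodC.Hom P) :
    φ ∈ E₁.Hom P := by
  obtain ⟨-, a, ha, b, hb, hv⟩ := h.mem_prodC.1 hφ
  have hle : P ≤ Split.comp T₁ T₂ P := fun x hx =>
    h.pair.mem_comp.2 ⟨hP hx, 1, T₂.one_mem, by rwa [mul_one]⟩
  refine hom_congr (restrict_mem ha hle) fun x => ?_
  rw [hv x ⟨x, hle x.2⟩ 1 (by rw [OneMemClass.coe_one, mul_one]), map_one, mul_one]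
  rfl

theorem mem_prodC_of_left {P : Subgroup Ω} {φ : P →* Ω} (hφ : φ ∈ E₁.Hom P) :
    φ ∈ h.prodC.Hom P := by
  have := h.finite₁
  have hP := hom_le hφ
  obtain ⟨ψ, hψ, hψP, hψZ⟩ := (center_isCentral (F := E₁)).2 P φ hφ
  have hle : Split.comp T₁ T₂ P ≤ P ⊔ E₁.center := by
    intro x hx
    obtain ⟨hx₁, y, hy, hxy⟩ := h.pair.mem_comp.1 hx
    have hy₁ : y ∈ T₁ ⊓ T₂ := ⟨by
      have h1 := T₁.mul_mem (T₁.inv_mem hx₁) (hP hxy)
      rwa [inv_mul_cancel_left] at h1, hy⟩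
    rw [show x = x * y * y⁻¹ from (mul_inv_cancel_right x y).symm]
    exact mul_mem (Subgroup.mem_sup_left hxy) (Subgroup.mem_sup_right (inv_mem (h.cen₁ hy₁)))
  have hle₂ : Split.comp T₂ T₁ P ≤ T₁ ⊓ T₂ := by
    intro y hy
    obtain ⟨hy₂, x, hx, hyx⟩ := h.pair.swap.mem_comp.1 hy
    exact ⟨by
      have h1 := T₁.mul_mem (hP hyx) (T₁.inv_mem hx)
      rwa [mul_inv_cancel_right] at h1, hy₂⟩
  refine h.mem_prodC.2 ⟨hP.trans le_sup_left, _, restrict_mem hψ hle,
    (Split.comp T₂ T₁ P).subtype, incl_mem (hle₂.trans inf_le_right), fun u x y huxy => ?_⟩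
  have h2 : ψ (Subgroup.inclusion le_sup_right ⟨(y : Ω), h.cen₁ (hle₂ y.2)⟩) = y := hψZ _
  show φ u = ψ (Subgroup.inclusion hle x) * (y : Ω)
  rw [← h2, ← map_mul, ← hψP]
  exact congrArg ψ (Subtype.ext huxy)

/-- Normal subsystems of a factor are normal in the central product. -/
theorem normal_prodC (hC : C.IsNormalIn E₁ p) : C.IsNormalIn h.prodC p := by
  obtain ⟨⟨hCs, -, hsub, hsc, hinv, hfrat⟩, hext⟩ := id hC
  have := h.finite₁
  have hV₁ : V ≤ T₁ := hsc.1
  have hTS := h.pair.sup_le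
  have hV : V ≤ T₁ ⊔ T₂ := hV₁.trans le_sup_left
  have := finite_le hTS
  have haut : ∀ {α : MulAut V}, α ∈ h.prodC.autGroup V ↔ α ∈ E₁.autGroup V := fun {α} => by
    rw [mem_autGroup_iff hV, mem_autGroup_iff hV₁]
    exact ⟨h.prodC_restrict hV₁, h.mem_prodC_of_left⟩
  refine ⟨⟨hCs, h.prodC_sat, fun P φ hφ => h.mem_prodC_of_left (hsub P hφ),
    ⟨hV, fun R hR φ hφ x => hsc.2 R hR φ (h.prodC_restrict (hR.trans hV₁) hφ) x⟩,
    fun P hP φ hφ α hα => hinv P hP φ hφ α (haut.1 hα), fun P hP φ hφ => ?_⟩, fun α hα => ?_⟩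
  · obtain ⟨α, hα, φ₀, hφ₀, hv⟩ := hfrat P hP φ (h.prodC_restrict (hP.trans hV₁) hφ)
    exact ⟨α, haut.2 hα, φ₀, hφ₀, hv⟩
  have hM₁ := sup_centralizerIn_le_S (S := T₁) hV₁
  set M₁ := V ⊔ centralizerIn T₁ V with hM₁def
  set M := V ⊔ centralizerIn (T₁ ⊔ T₂) V with hMdef
  obtain ⟨β, hβ, hβv, hβz⟩ := hext α hα
  have hMT : M ≤ T₁ ⊔ T₂ := sup_centralizerIn_le_S hV
  have hT₂M : T₂ ≤ M := fun y hy => Subgroup.mem_sup_right (mem_centralizerIn.2
    ⟨Subgroup.mem_sup_right hy, fun v hv => h.comm v (hV₁ hv) y hy⟩)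
  have hsplit : ∀ c ∈ centralizerIn (T₁ ⊔ T₂) V,
      ∃ x ∈ centralizerIn T₁ V, ∃ y ∈ T₂, c = x * y := fun c hc => by
    obtain ⟨x, hx, y, hy, rfl⟩ := h.pair.exists_mul hc.1
    refine ⟨x, mem_centralizerIn.2 ⟨hx, fun v hv => ?_⟩, y, hy, rfl⟩
    have h1 := (mem_centralizerIn.1 hc).2 v hv
    rw [mul_assoc x y v, ← h.comm v (hV₁ hv) y hy, ← mul_assoc, ← mul_assoc] at h1
    exact mul_right_cancel h1
  have hMle : M ≤ M₁ ⊔ T₂ := _root_.sup_le (le_sup_left.trans le_sup_left) fun c hc => by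
    obtain ⟨x, hx, y, hy, rfl⟩ := hsplit c hc
    exact mul_mem (Subgroup.mem_sup_left (Subgroup.mem_sup_right hx)) (Subgroup.mem_sup_right hy)
  have hM₁M : M₁ ≤ M := sup_le_sup_left (inf_le_inf_right _ le_sup_left) V
  obtain ⟨-, -, -, ψ, hψ, hψM, hψT⟩ := h.centBy₁.2 _ ((mem_autGroup_iff hM₁).1 hβ)
  have hdecM : ∀ m ∈ M, ∃ x ∈ M₁, ∃ y ∈ T₂, m = x * y := fun m hm => by
    have h1 := hMle hm
    have hn : T₂ ≤ Subgroup.normalizer (M₁ : Set Ω) := fun y hy =>
      Subgroup.centralizer_le_normalizer _ fun x hx => h.comm x (hM₁ hx) y hy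
    rw [← SetLike.mem_coe, Subgroup.coe_mul_of_right_le_normalizer_left M₁ T₂ hn] at h1
    obtain ⟨x, hx, y, hy, hxy⟩ := h1
    exact ⟨x, hx, y, hy, hxy.symm⟩
  have hUM : T₁ ⊓ T₂ ≤ M₁ := fun u hu => Subgroup.mem_sup_right (mem_centralizerIn.2
    ⟨hu.1, fun v hv => h.comm v (hV₁ hv) u hu.2⟩)
  have hcle : Split.comp T₁ T₂ M ≤ M₁ := fun x hx => by
    obtain ⟨hx₁, y, hy, hxy⟩ := h.pair.mem_comp.1 hx
    obtain ⟨m, hm, y', hy', hmy⟩ := hdecM _ hxy
    have hu : m⁻¹ * x ∈ T₁ ⊓ T₂ := ⟨T₁.mul_mem (T₁.inv_mem (hM₁ hm)) hx₁, by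
      rw [show m⁻¹ * x = y' * y⁻¹ by
        rw [inv_mul_eq_iff_eq_mul, ← mul_assoc, ← hmy, mul_inv_cancel_right]]
      exact T₂.mul_mem hy' (T₂.inv_mem hy)⟩
    have h1 := M₁.mul_mem hm (hUM hu)
    rwa [mul_inv_cancel_left] at h1
  set φ : M →* Ω := ψ.comp (Subgroup.inclusion hMle) with hφ
  have hφv : ∀ (u : M) (x : Ω) (hx : x ∈ M₁) (y : Ω), y ∈ T₂ → (u : Ω) = x * y →
      φ u = ((β ⟨x, hx⟩ : M₁) : Ω) * y := fun u x hx y hy huxy => by
    have e1 : ψ (Subgroup.inclusion le_sup_left ⟨x, hx⟩) = ((β ⟨x, hx⟩ : M₁) : Ω) := hψM _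
    have e2 : ψ (Subgroup.inclusion le_sup_right ⟨y, hy⟩) = y := hψT _
    conv_rhs => rw [← e1, ← e2, ← map_mul]
    exact congrArg ψ (Subtype.ext huxy)
  have hφP : φ ∈ h.prodC.Hom M := h.mem_prodC.2 ⟨hMT, _,
    restrict_mem ((mem_autGroup_iff hM₁).1 hβ) hcle, (Split.comp T₂ T₁ M).subtype,
    incl_mem (h.pair.swap.comp_le M), fun u x y huxy =>
      hφv u x (hcle x.2) y (h.pair.swap.comp_le M y.2) huxy⟩
  have := finite_le hMT
  obtain ⟨γ, hγ, hγv⟩ := exists_iso hφP (Q := M) (Subgroup.eq_of_le_of_card_ge (by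
      rintro _ ⟨u, rfl⟩
      obtain ⟨x, hx, y, hy, hxy⟩ := hdecM u u.2
      rw [hφv u x hx y hy hxy]
      exact M.mul_mem (hM₁M (β _).2) (hT₂M hy))
    (Nat.card_congr (MonoidHom.ofInjective (h.prodC.injective_of_mem hφP)).toEquiv).le)
  refine ⟨γ, (mem_autGroup_iff_isoIn hMT).2 hγ, fun x => ?_, fun c hc => ?_⟩
  · rw [hγv, hφv _ x (Subgroup.mem_sup_left x.2) 1 T₂.one_mem (mul_one _).symm, mul_one]
    exact hβv x
  · obtain ⟨x, hx, y, hy, hxy⟩ := hsplit c hc
    have h1 := hβz ⟨x, Subgroup.mem_sup_right hx⟩ hx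
    rw [hγv, hφv c x (Subgroup.mem_sup_right hx) y hy hxy, hxy]
    have h2 := h.comm _ (hV₁ h1.1) y hy
    rw [show (x * y)⁻¹ * (((β ⟨x, Subgroup.mem_sup_right hx⟩ : M₁) : Ω) * y) =
      y⁻¹ * ((x⁻¹ * ((β ⟨x, Subgroup.mem_sup_right hx⟩ : M₁) : Ω)) * y) by group, h2,
      inv_mul_cancel_left]
    exact h1

end CfsgLib.Fusion.Central.CData

namespace CfsgLib.Fusion.Closed

open Cfsg Cfsg.FusionSystem CfsgLib.Fusion

universe u

variable {Ω : Type u} [Group Ω] {S T U : Subgroup Ω} {F : FusionSystem S} {C : FusionSystem T}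
  {p : ℕ} [Fact p.Prime]

theorem normal_aux (n : ℕ) : ∀ {S : Subgroup Ω} [Finite S] (F : FusionSystem S),
    (homGraphs F).ncard = n → IsPGroup p S → IsClosed F p →
    ∀ {T : Subgroup Ω} (C : FusionSystem T), C.IsComponentIn F p → C.IsNormalIn F p := by
  induction n using Nat.strong_induction_on with
  | _ n ih =>
    intro S _ F hn hS hFc T C hC
    have hF := hFc.1.1.1
    obtain ⟨W₁, E₁, hE₁, hTW₁, hE₁c, hmin⟩ := exists_least hS hF hC
    by_cases htop : W₁ = S ∧ ∀ P : Subgroup Ω, E₁.Hom P = F.Hom P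
    · obtain ⟨hTS', hCF⟩ := eq_of_least hC.1 fun U D hD hle P φ hφ =>
        hmin U D hD hle P (htop.2 P ▸ hφ)
      subst hTS'
      rw [fusionSystem_ext hCF]
      exact isNormalIn_refl hF
    have hW₁S := normal_le hE₁
    have := finite_le hW₁S
    have hlt := hn ▸ ncard_homGraphs_lt hW₁S hE₁.1.2.2.1 htop
    have hC₁ := ih _ hlt E₁ rfl (hS.to_le hW₁S) hE₁c C (component_of_le hS hF hC hE₁ hTW₁)
    obtain ⟨DY, hDY, -⟩ := exists_centralizer_normal hS hE₁
    have hYS := normal_le hDY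
    have := finite_le hYS
    obtain ⟨U₂, E₂, hE₂⟩ := exists_layer (hS.to_le hYS) hDY.1.1
    have hE₂F := layer_normal hS hDY hE₂
    have hE₂c := layer_isClosed (hS.to_le hYS) hE₂
    have hU₂C : U₂ ≤ centralizerIn S W₁ := (normal_le hE₂.1).trans (centBy_centOf hS hE₁).1
    have hcomm : ∀ x ∈ W₁, ∀ y ∈ U₂, x * y = y * x := fun x hx y hy =>
      (mem_centralizerIn.1 (hU₂C hy)).2 x hx
    have hsc : F.StronglyClosed (W₁ ⊓ U₂) :=
      ⟨inf_le_left.trans hW₁S, fun R hR φ hφ x =>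
        ⟨hE₁.1.2.2.2.1.2 R (hR.trans inf_le_left) φ hφ x,
          hE₂F.1.2.2.2.1.2 R (hR.trans inf_le_right) φ hφ x⟩⟩
    have hUn := isNormal_of_stronglyClosed_abelian hS hF hsc
      ⟨⟨fun a b => Subtype.ext (hcomm a a.2.1 b b.2.2)⟩⟩
    have hD : Central.CData p F E₁ E₂ := ⟨hS, hF, hE₁, hE₂F, hcomm,
      le_center_closed hS hE₁ hE₁c hUn inf_le_left, le_center_closed hS hE₂F hE₂c hUn inf_le_right⟩
    have hall := closed_le hFc hD.prodC_normal (fun V Q hQ => by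
      by_cases hle : V ≤ W₁
      · exact hle.trans le_sup_left
      · have hVY : V ≤ centOf F E₁ := le_sSup (component_centBy hS hF hQ hE₁ hE₁c hle)
        exact (IsSubsystemOf.le (hE₂.2.1 V Q (component_of_le hS hF hQ hDY hVY))).trans
          le_sup_right) hS le_rfl
    exact normal_congr (le_antisymm (normal_le hD.prodC_normal) (IsSubsystemOf.le hall))
      (fun P => Set.Subset.antisymm (hD.prodC_normal.1.2.2.1 P) (hall P)) (hD.normal_prodC hC₁)

/-- A component is normal in a layer. -/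
theorem component_normal_layer [Finite S] (hS : IsPGroup p S) (hF : F.IsSaturated p)
    {W : Subgroup Ω} {E : FusionSystem W} (hE : E.IsLayerOf F p) (hC : C.IsComponentIn F p) :
    C.IsNormalIn E p := by
  have := finite_le (normal_le hE.1)
  exact normal_aux _ E rfl (hS.to_le (normal_le hE.1)) (layer_isClosed hS hE) C
    (component_of_le hS hF hC hE.1 (IsSubsystemOf.le (hE.2.1 T C hC)))

/-- A component is normal in a generalized Fitting subsystem. -/
theorem component_normal_fitting [Finite S] (hS : IsPGroup p S) (hF : F.IsSaturated p)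
    (hC : C.IsComponentIn F p) {D : FusionSystem U} (hD : D.IsGeneralizedFittingOf F p) :
    C.IsNormalIn D p := by
  obtain ⟨W, E, h, hE, rfl, hhom⟩ := Central.fitting_eq hS hF hD
  exact normal_congr (sup_comm _ _) (fun P => (h.prodC_swap P).trans (hhom P).symm)
    (h.swap.normal_prodC (component_normal_layer hS hF hE hC))

end CfsgLib.Fusion.Closed
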