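import Cfsg.Agent.Lib.PLocal.SLTwo.StableFusionSystem
import Cfsg.Agent.Lib.PLocal.SLTwo.AutomizerStable
import Cfsg.Agent.Lib.Transfer.Conj
import Cfsg.Agent.Lib.HallGen.Counting

/-!
# The least centric radical subgroup of a group with constrained fusion
-/

set_option autoImplicit false

namespace CfsgLib.Fusion

open Subgroup Cfsg Cfsg.FusionSystem
open scoped Pointwise

universe u

variable {G : Type u} [Group G] [Finite G] {p : ℕ} [Fact p.Prime]

/-- a central Sylow subgroup has an invariant complement of coprime order -/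
theorem exists_invariant_complement {C Z : Subgroup G} (hs : IsSylowIn p Z C)
    (hcomm : ∀ z ∈ Z, ∀ c ∈ C, z * c = c * z) :
    ∃ O : Subgroup G, O ≤ C ∧ normalizer (C : Set G) ≤ normalizer (O : Set G) ∧
      C ≤ Z ⊔ O ∧ (Nat.card O).Coprime p := by
  classical
  obtain ⟨R, hR⟩ := hs
  have hRc : normalizer ((R : Subgroup C) : Set C) ≤ centralizer ((R : Subgroup C) : Set C) := by
    intro c _
    refine mem_centralizer_iff.2 fun r hr => Subtype.ext ?_
    exact hcomm r (mem_subgroupOf.1 (hR.le hr)) c c.2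
  have hc := MonoidHom.ker_transferSylow_isComplement' R hRc
  set L := (MonoidHom.transferSylow R hRc).ker
  have hL : L ≤ pPrimeCore p C := by
    refine CfsgLib.Core.le_pPrimeCore ?_
    rw [← hc.index_eq_card]
    exact ((Fact.out : p.Prime).coprime_iff_not_dvd.2 R.not_dvd_index).symm
  refine ⟨(pPrimeCore p C).map C.subtype, map_subtype_le _, ?_, ?_, ?_⟩
  · intro n hn
    set O := pPrimeCore p C with hO
    have key : ∀ m : G, m ∈ normalizer (C : Set G) → ∀ x ∈ O.map C.subtype,
        m * x * m⁻¹ ∈ O.map C.subtype := by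
      rintro m hm _ ⟨y, hy, rfl⟩
      have h := (characteristic_iff_map_eq.1 (CfsgLib.Core.characteristic_pPrimeCore p C))
        (C.normalizerMonoidHom ⟨m, hm⟩)
      exact ⟨C.normalizerMonoidHom ⟨m, hm⟩ y, h.le (mem_map_of_mem _ hy), rfl⟩
    refine mem_normalizer_iff.2 fun x => ⟨key n hn x, fun hx => ?_⟩
    have := key n⁻¹ (inv_mem hn) _ hx
    simpa [mul_assoc] using this
  · calc C = ((R : Subgroup C) ⊔ L).map C.subtype := by
          rw [hc.symm.sup_eq_top, ← MonoidHom.range_eq_map, range_subtype]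
      _ ≤ Z ⊔ (pPrimeCore p C).map C.subtype := by
          rw [Subgroup.map_sup]
          refine sup_le_sup ?_ (map_mono hL)
          rintro _ ⟨x, hx, rfl⟩
          exact mem_subgroupOf.1 (hR.le hx)
  · rw [card_map_of_injective C.subtype_injective]
    exact CfsgLib.Core.coprime_card_pPrimeCore p C

omit [Finite G] in
theorem map_conj_eq {X : Subgroup G} {x : G} (hx : x ∈ normalizer (X : Set G)) :
    X.map (MulAut.conj x).toMonoidHom = X := by
  ext y
  constructor
  · rintro ⟨a, ha, rfl⟩
    exact (mem_normalizer_iff.1 hx a).1 ha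
  · intro hy
    refine ⟨x⁻¹ * y * x, ?_, ?_⟩
    · simpa using (mem_normalizer_iff.1 (inv_mem hx) y).1 hy
    · show x * (x⁻¹ * y * x) * x⁻¹ = y
      group

/-- groups with stable normalizers: the least centric radical subgroup controls strong fusion -/
theorem exists_least_centricRadical (hp : p ≠ 2) (P : Sylow p G) (hst : IsNormalizerPStable p G)
    (cr : Subgroup G → Prop)
    (hcr : ∀ Q : Subgroup G, cr Q ↔ (Q ≤ (P : Subgroup G) ∧
      (∃ R : Sylow p ↥(Subgroup.centralizer (Q : Set G)),
        (R : Subgroup ↥(Subgroup.centralizer (Q : Set G))).map (Subgroup.centralizer (Q : Set G)).subtype = Q ⊓ Subgroup.centralizer (Q : Set G)) ∧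
      ∀ X : Subgroup G, X ≤ Subgroup.normalizer (Q : Set G) →
        (∀ n ∈ Subgroup.normalizer (Q : Set G), X.map (MulAut.conj n).toMonoidHom = X) →
        Q ⊔ Subgroup.centralizer (Q : Set G) ≤ X → (∃ k : ℕ, (Q ⊔ Subgroup.centralizer (Q : Set G)).relIndex X = p ^ k) →
        X = Q ⊔ Subgroup.centralizer (Q : Set G))) :
    ∃ Q : Subgroup G, cr Q ∧ (∀ R : Subgroup G, cr R → Q ≤ R) ∧
      (∀ x ∈ (P : Subgroup G), Q.map (MulAut.conj x).toMonoidHom = Q) ∧
      ∀ A : Subgroup G, A ≤ (P : Subgroup G) → ∀ g : G,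
        A.map (MulAut.conj g).toMonoidHom ≤ (P : Subgroup G) →
        ∃ h ∈ Subgroup.normalizer (Q : Set G), ∃ c ∈ Subgroup.centralizer (A : Set G), g = h * c := by
  classical
  have hpr : p.Prime := Fact.out
  set F := groupFusionSystem (P : Subgroup G) with hF
  obtain ⟨-, Q', hQ'n, hQ'c⟩ := CfsgLib.PLocal.SLTwo.isConstrained_of_nStable hp hst P
  have hQn : F.IsNormal F.core := core_isNormal
  have hQ'Q : Q' ≤ F.core := le_core hQ'n
  generalize hQdef : F.core = Q at hQn hQ'Q
  have hQP : Q ≤ (P : Subgroup G) := hQn.1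
  have hPN : (P : Subgroup G) ≤ normalizer (Q : Set G) := IsNormal.normal_in hQn
  have hCP : centralizerIn (P : Subgroup G) Q ≤ Q := by
    refine le_trans ?_ ((hQ'c.2 Q' ?_).trans hQ'Q)
    · exact inf_le_inf_left _ (centralizer_le hQ'Q)
    · exact groupFusion_isConj_iff.2 ⟨hQ'c.1, hQ'c.1, 1, by ext x; simp [mem_conjOf]⟩
  -- maps extend to `Q`
  have hext : ∀ {A : Subgroup G}, A ≤ (P : Subgroup G) → ∀ g : G,
      (∀ a ∈ A, g * a * g⁻¹ ∈ (P : Subgroup G)) →
      ∃ h ∈ normalizer (Q : Set G), ∀ a ∈ A, h * a * h⁻¹ = g * a * g⁻¹ := by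
    intro A hA g hg
    obtain ⟨χ, hχ, hχφ, hχQ⟩ := hQn.2 A (conjHom A g)
      ⟨hA, fun x => hg _ x.2, g, fun x => rfl⟩
    obtain ⟨-, -, h, hh⟩ := hχ
    refine ⟨h, mem_normalizer_iff.2 fun y => ?_, fun a ha => ?_⟩
    · constructor
      · intro hy
        rw [← hχQ]
        exact ⟨⟨y, le_sup_right (a := A) hy⟩, hy, hh _⟩
      · intro hy
        rw [← hχQ] at hy
        obtain ⟨z, hz, hze⟩ := hy
        rw [hh] at hze
        have : (z : G) = y := mul_left_cancel (mul_right_cancel hze)
        rw [← this]; exact hz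
    · have := hχφ ⟨a, ha⟩
      rw [hh] at this
      exact this
  refine ⟨Q, (hcr Q).2 ⟨hQP, ?_, ?_⟩, ?_, fun x hx => map_conj_eq (hPN hx), ?_⟩
  · obtain ⟨R, hR⟩ := (sylow_parts P ((groupFusion_fullyNormalized_iff P hQP).1
      (IsNormal.fullyNormalized hQn))).1
    refine ⟨R, ?_⟩
    rw [hR, subgroupOf_map_subtype]
    refine le_antisymm (le_inf (inf_le_left.trans hCP) inf_le_right) ?_
    exact le_inf (le_inf (inf_le_left.trans hQP) inf_le_right) inf_le_right
  · intro X hXN hXn hQX hk
    set C := centralizer (Q : Set G) with hC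
    set R := (P : Subgroup G) ⊓ X with hR
    have hRP : R ≤ (P : Subgroup G) := inf_le_left
    have hRX : R ≤ X := inf_le_right
    have hRp : IsPGroup p R := P.isPGroup'.to_le hRP
    have hQR : Q ≤ R := le_inf hQP (le_sup_left.trans hQX)
    have hCX : C ≤ X := le_sup_right.trans hQX
    have hXnor : normalizer (Q : Set G) ≤ normalizer (X : Set G) := fun n hn =>
      mem_normalizer_iff_map_conj_eq.2 (hXn n hn)
    have hPi : ¬ p ∣ (P : Subgroup G).relIndex (normalizer (Q : Set G)) := fun hd =>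
      P.not_dvd_index (hd.trans (relIndex_dvd_index_of_le hPN))
    have hRi : ¬ p ∣ R.relIndex X := by
      haveI : (X.subgroupOf (normalizer (Q : Set G))).Normal :=
        (normal_subgroupOf_iff_le_normalizer hXN).2 hXnor
      rw [hR, inf_relIndex_right, ← relIndex_subgroupOf hXN]
      exact fun hd => hPi (hd.trans (CfsgLib.HallGen.relIndex_dvd_index_right _ _))
    have hXRC : X ≤ R ⊔ C := by
      obtain ⟨k, hk⟩ := hk
      have h1 : (R ⊔ C).relIndex X ∣ p ^ k :=
        hk ▸ relIndex_dvd_of_le_left X (sup_le_sup_right hQR C)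
      obtain ⟨i, -, hi⟩ := (Nat.dvd_prime_pow hpr).1 h1
      rcases Nat.eq_zero_or_pos i with hi0 | hi0
      · exact relIndex_eq_one.1 (by rw [hi, hi0, pow_zero])
      · exact absurd ((dvd_pow_self p hi0.ne').trans
          (hi ▸ relIndex_dvd_of_le_left X (le_sup_left : R ≤ R ⊔ C))) hRi
    have hTC : IsSylowIn p (centralizerIn (P : Subgroup G) Q) C :=
      (sylow_parts P ((groupFusion_fullyNormalized_iff P hQP).1
        (IsNormal.fullyNormalized hQn))).1
    obtain ⟨O, hOC, hON, hCO, hOp⟩ := exists_invariant_complement hTC (fun z hz c hc =>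
      (mem_centralizer_iff.1 hc z (hCP hz)))
    have hNO : normalizer (Q : Set G) ≤ normalizer (O : Set G) :=
      (CfsgLib.Techniques.normalizer_le_normalizer_centralizer (G := G)).trans hON
    have hXRO : X ≤ R ⊔ O := hXRC.trans (sup_le le_sup_left
      (hCO.trans (sup_le_sup_right (hCP.trans hQR) O)))
    have hPR : (P : Subgroup G) ≤ normalizer (R : Set G) := fun x hx => by
      refine mem_normalizer_iff.2 fun y => ?_
      rw [hR, mem_inf, mem_inf, ← (mem_normalizer_iff.1 (hXnor (hPN hx)) y),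
        ← (mem_normalizer_iff.1 (le_normalizer hx) y)]
    have hRn : F.IsNormal R := by
      refine ⟨hRP, fun A φ hφ => ?_⟩
      obtain ⟨hA, hφS, g, hg⟩ := hφ
      obtain ⟨h, hhQ, hha⟩ := hext hA g (fun a ha => by
        have := hφS ⟨a, ha⟩
        rwa [hg] at this)
      obtain ⟨x, hxX, hxR⟩ := CfsgLib.Transfer.exists_conj_le hRp hRi
        (S := R.map (MulAut.conj h).toMonoidHom)
        (by rintro _ ⟨r, hr, rfl⟩; exact (mem_normalizer_iff.1 (hXnor hhQ) r).1 (hRX hr))
        (hRp.map _)
      have hn : x⁻¹ * h ∈ normalizer (R : Set G) := by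
        refine mem_normalizer_iff_map_conj_eq.2 (Subgroup.eq_of_le_of_card_ge ?_
          (card_map_of_injective (MulAut.conj (x⁻¹ * h)).injective).ge)
        rintro _ ⟨r, hr, rfl⟩
        have := hxR _ (mem_map_of_mem _ hr)
        show x⁻¹ * h * r * (x⁻¹ * h)⁻¹ ∈ R
        simpa [mul_assoc] using this
      have hxOR : x ∈ O ⊔ R := by rw [sup_comm]; exact hXRO hxX
      rw [← SetLike.mem_coe, coe_mul_of_right_le_normalizer_left O R
        ((hRP.trans hPN).trans hNO), Set.mem_mul] at hxOR
      obtain ⟨o, ho, r, hr, hor⟩ := hxOR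
      set m := r * (x⁻¹ * h) with hm
      have hmR : m ∈ normalizer (R : Set G) := mul_mem (le_normalizer hr) hn
      have hhm : h = o * m := by rw [hm, ← mul_assoc, hor, mul_inv_cancel_left]
      have hmQ : m ∈ normalizer (Q : Set G) := by
        have : m = o⁻¹ * h := by rw [hhm, inv_mul_cancel_left]
        rw [this]
        exact mul_mem (inv_mem (centralizer_le_normalizer _ (hOC ho))) hhQ
      set B := A.map (MulAut.conj m).toMonoidHom with hB
      have hBp : IsPGroup p B := (P.isPGroup'.to_le hA).map _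
      have hBR : B ≤ normalizer (R : Set G) := by
        rintro _ ⟨a, ha, rfl⟩
        exact mul_mem (mul_mem hmR (hPR (hA ha))) (inv_mem hmR)
      have hBQ : B ≤ normalizer (Q : Set G) := by
        rintro _ ⟨a, ha, rfl⟩
        exact mul_mem (mul_mem hmQ (hPN (hA ha))) (inv_mem hmQ)
      have hBo : ∀ b ∈ B, o * b * o⁻¹ ∈ (P : Subgroup G) := by
        rintro _ ⟨a, ha, rfl⟩
        show o * (m * a * m⁻¹) * o⁻¹ ∈ _
        have := hφS ⟨a, ha⟩
        rw [hg, ← hha a ha, hhm] at this
        simpa [mul_assoc] using this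
      set O₀ := O ⊓ normalizer (R : Set G) with hO₀
      have hO₀n : B ≤ normalizer (O₀ : Set G) :=
        le_trans (le_inf (hBQ.trans hNO) (hBR.trans le_normalizer))
          inf_normalizer_le_normalizer_inf
      have hcomm : ∀ b ∈ B, o * b * o⁻¹ * b⁻¹ ∈ O₀ := by
        intro b hb
        refine ⟨?_, mul_mem (hPR (hBo b hb)) ((normalizer (R : Set G)).inv_mem (hBR hb))⟩
        have h1 := (mem_normalizer_iff.1 (hNO (hBQ hb)) o⁻¹).1 (inv_mem ho)
        have h2 := mul_mem ho h1
        simpa [mul_assoc] using h2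
      have hcop : ∀ y : G, y ∈ O₀ → ∀ D : Subgroup G, IsPGroup p D → y ∈ D → y = 1 := by
        intro y hy D hD hyD
        obtain ⟨j, hj⟩ := IsPGroup.iff_card.1 hD
        have : O ⊓ D = ⊥ := inf_eq_bot_of_coprime (by rw [hj]; exact hOp.pow_right j)
        exact (mem_bot).1 (this ▸ ⟨hy.1, hyD⟩)
      -- `o` acts on `B` as an element of `O₀`
      have hact : ∃ o₀ ∈ O₀, ∀ b ∈ B, o₀ * b * o₀⁻¹ = o * b * o⁻¹ := by
        set L := O₀ ⊔ B with hL
        have hLi : ¬ p ∣ B.relIndex L := by
          have h1 : B.relIndex L * Nat.card B = Nat.card L := by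
            rw [mul_comm, ← relIndex_bot_left, ← relIndex_bot_left,
              relIndex_mul_relIndex _ _ _ bot_le le_sup_right]
          have h2 : Nat.card L ≤ Nat.card O₀ * Nat.card B := by
            rw [hL, ← SetLike.coe_sort_coe, coe_mul_of_right_le_normalizer_left _ _ hO₀n]
            exact Set.natCard_mul_le
          have h3 : Nat.card O₀ ∣ B.relIndex L := by
            have h4 : Nat.card O₀ ∣ B.relIndex L * Nat.card B :=
              h1 ▸ card_dvd_of_le le_sup_left
            obtain ⟨j, hj⟩ := IsPGroup.iff_card.1 hBp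
            refine Nat.Coprime.dvd_of_dvd_mul_right ?_ h4
            rw [hj]
            exact ((hOp.coprime_dvd_left (card_dvd_of_le inf_le_left)).pow_right j)
          have h5 : B.relIndex L = Nat.card O₀ := by
            refine le_antisymm ?_ (Nat.le_of_dvd ?_ h3)
            · exact Nat.le_of_mul_le_mul_right (h1 ▸ h2) Nat.card_pos
            · exact Nat.pos_of_mul_pos_right (h1 ▸ Nat.card_pos)
          rw [h5]
          exact hpr.coprime_iff_not_dvd.1
            ((hOp.coprime_dvd_left (card_dvd_of_le inf_le_left)).symm)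
        obtain ⟨l, hl, hlB⟩ := CfsgLib.Transfer.exists_conj_le hBp hLi
          (S := B.map (MulAut.conj o).toMonoidHom)
          (by
            rintro _ ⟨b, hb, rfl⟩
            have := mul_mem (mem_sup_left (T := B) (hcomm b hb)) (mem_sup_right hb)
            show o * b * o⁻¹ ∈ L
            simpa [mul_assoc] using this)
          (hBp.map _)
        rw [hL, ← SetLike.mem_coe, coe_mul_of_right_le_normalizer_left _ _ hO₀n,
          Set.mem_mul] at hl
        obtain ⟨o₀, ho₀, b₀, hb₀, rfl⟩ := hl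
        refine ⟨o₀, ho₀, fun b hb => ?_⟩
        set d := o₀⁻¹ * (o * b * o⁻¹) * o₀ with hd
        have hdB : d ∈ B := by
          have := mul_mem (mul_mem hb₀ (hlB _ (mem_map_of_mem _ hb))) (inv_mem hb₀)
          simpa [hd, mul_assoc] using this
        -- `d` and `b` agree modulo `O₀`
        have h1 : d * b⁻¹ ∈ O₀ := by
          have h2 := (mem_normalizer_iff.1 (hO₀n hb) o₀).1 ho₀
          have h3 := mul_mem (mul_mem (inv_mem ho₀) (hcomm b hb)) h2
          simpa [hd, mul_assoc] using h3
        have h4 : d = b := mul_inv_eq_one.1 (hcop _ h1 B hBp (mul_mem hdB (inv_mem hb)))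
        calc o₀ * b * o₀⁻¹ = o₀ * d * o₀⁻¹ := by rw [h4]
          _ = o * b * o⁻¹ := by rw [hd]; group
      obtain ⟨o₀, ho₀, hoo⟩ := hact
      have hgR : o₀ * m ∈ normalizer (R : Set G) := mul_mem ho₀.2 hmR
      have hval : ∀ a ∈ A, o₀ * m * a * (o₀ * m)⁻¹ = g * a * g⁻¹ := by
        intro a ha
        rw [← hha a ha, hhm]
        have := hoo _ (mem_map_of_mem (MulAut.conj m).toMonoidHom ha)
        simp only [MulEquiv.coe_toMonoidHom, MulAut.conj_apply] at this
        calc o₀ * m * a * (o₀ * m)⁻¹ = o₀ * (m * a * m⁻¹) * o₀⁻¹ := by group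
          _ = o * (m * a * m⁻¹) * o⁻¹ := this
          _ = o * m * a * (o * m)⁻¹ := by group
      refine ⟨conjHom (A ⊔ R) (o₀ * m), ⟨sup_le hA hRP, fun y => ?_, _, fun y => rfl⟩,
        fun y => ?_, normalizerIn_conj_map hgR⟩
      · have hle : conjOf (o₀ * m) (A ⊔ R) ≤ (P : Subgroup G) := by
          show map _ (A ⊔ R) ≤ _
          rw [Subgroup.map_sup]
          refine sup_le ?_ ?_
          · rintro _ ⟨a, ha, rfl⟩
            show o₀ * m * a * (o₀ * m)⁻¹ ∈ _
            have := hφS ⟨a, ha⟩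
            rw [hg, ← hval a ha] at this
            exact this
          · rintro _ ⟨a, ha, rfl⟩
            exact hRP ((mem_normalizer_iff.1 hgR a).1 ha)
        exact hle (conj_mem_conjOf y.2)
      · rw [hg]
        exact hval _ y.2
    have hRQ : R ≤ Q := hQdef ▸ le_core hRn
    exact le_antisymm (hXRC.trans (sup_le_sup_right hRQ C)) hQX
  · intro R hR
    obtain ⟨hRP, hsyl, hrad⟩ := (hcr R).1 hR
    by_contra hnle
    set D := Q ⊓ normalizer (R : Set G) with hD
    set C := centralizer (R : Set G) with hC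
    have hCn : normalizer (R : Set G) ≤ normalizer (C : Set G) :=
      CfsgLib.Techniques.normalizer_le_normalizer_centralizer
    have hRCn : normalizer (R : Set G) ≤ normalizer ((R ⊔ C : Subgroup G) : Set G) := fun n hn =>
      mem_normalizer_iff_map_conj_eq.2 (by
        rw [Subgroup.map_sup]
        exact congrArg₂ (· ⊔ ·) (map_conj_eq hn) (map_conj_eq (hCn hn)))
    obtain ⟨T, hT⟩ := hsyl
    -- `D` is normal in `N(R)` modulo `R C(R)`
    have hDn : ∀ n ∈ normalizer (R : Set G),
        (D ⊔ (R ⊔ C)).map (MulAut.conj n).toMonoidHom = D ⊔ (R ⊔ C) := by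
      intro n hn
      obtain ⟨h, hhQ, hha⟩ := hext hRP n
        (fun a ha => hRP ((mem_normalizer_iff.1 hn a).1 ha))
      have hc : h⁻¹ * n ∈ C := by
        refine mem_centralizer_iff.2 fun a ha => ?_
        have h1 := hha a ha
        calc a * (h⁻¹ * n) = h⁻¹ * (h * a * h⁻¹) * n := by group
          _ = h⁻¹ * (n * a * n⁻¹) * n := by rw [h1]
          _ = h⁻¹ * n * a := by group
      have hhR : h ∈ normalizer (R : Set G) := by
        have : h = n * (h⁻¹ * n)⁻¹ := by group
        rw [this]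
        exact mul_mem hn (inv_mem (centralizer_le_normalizer _ hc))
      have hhD : h ∈ normalizer (D : Set G) :=
        inf_normalizer_le_normalizer_inf ⟨hhQ, le_normalizer hhR⟩
      have hcX : h⁻¹ * n ∈ D ⊔ (R ⊔ C) := mem_sup_right (mem_sup_right hc)
      refine mem_normalizer_iff_map_conj_eq.1 ?_
      rw [show n = h * (h⁻¹ * n) by group]
      refine mul_mem (mem_normalizer_iff_map_conj_eq.2 ?_) (le_normalizer hcX)
      rw [Subgroup.map_sup]
      exact congrArg₂ (· ⊔ ·) (map_conj_eq hhD) (map_conj_eq (hRCn hhR))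
    have hDN : D ≤ normalizer ((R ⊔ C : Subgroup G) : Set G) := inf_le_right.trans hRCn
    have hsup := hrad (D ⊔ (R ⊔ C))
      (sup_le inf_le_right (sup_le le_normalizer (centralizer_le_normalizer _)))
      hDn le_sup_right (by
        haveI : ((R ⊔ C).subgroupOf (D ⊔ (R ⊔ C))).Normal :=
          (normal_subgroupOf_iff_le_normalizer le_sup_right).2
            (sup_le hDN le_normalizer)
        have hdvd : (R ⊔ C).relIndex (D ⊔ (R ⊔ C)) ∣ Nat.card D := by
          have htop : D.subgroupOf (D ⊔ (R ⊔ C)) ⊔ (R ⊔ C).subgroupOf (D ⊔ (R ⊔ C)) = ⊤ := by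
            rw [← subgroupOf_sup le_sup_left le_sup_right, subgroupOf_self]
          have e := relIndex_sup_right (H := D.subgroupOf (D ⊔ (R ⊔ C)))
            (K := (R ⊔ C).subgroupOf (D ⊔ (R ⊔ C)))
          rw [htop, relIndex_top_right, relIndex_subgroupOf le_sup_left] at e
          rw [relIndex, e]
          exact index_dvd_card _
        obtain ⟨j, hj⟩ := IsPGroup.iff_card.1 (P.isPGroup'.to_le (inf_le_left.trans hQP) : IsPGroup p D)
        obtain ⟨i, -, hi⟩ := (Nat.dvd_prime_pow hpr).1 (hj ▸ hdvd)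
        exact ⟨i, hi⟩)
    have hDle : D ≤ R ⊔ C := le_sup_left.trans hsup.le
    -- hence `D ≤ R`
    have hDR : D ≤ R := by
      intro x hx
      have hxRC := hDle hx
      rw [← SetLike.mem_coe, coe_mul_of_right_le_normalizer_left R C (centralizer_le_normalizer _),
        Set.mem_mul] at hxRC
      obtain ⟨r, hr, c, hc, rfl⟩ := hxRC
      have hcP' : c ∈ (P : Subgroup G) := by
        have := mul_mem ((P : Subgroup G).inv_mem (hRP hr)) (hQP hx.1)
        rwa [inv_mul_cancel_left] at this
      have hcP : c ∈ (P : Subgroup G) ⊓ C := ⟨hcP', hc⟩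
      have hmax := T.is_maximal'
        (isPGroup_subgroupOf inf_le_right (P.isPGroup'.to_le inf_le_left) :
          IsPGroup p (((P : Subgroup G) ⊓ C).subgroupOf C))
        (fun t ht => by
          rw [mem_subgroupOf]
          have : (t : G) ∈ R ⊓ C := hT.le (mem_map_of_mem _ ht)
          exact ⟨hRP this.1, this.2⟩)
      have hcT : (⟨c, hc⟩ : C) ∈ (T : Subgroup C) := by rw [← hmax]; exact hcP
      exact mul_mem hr (hT.le (mem_map_of_mem _ hcT)).1
    -- `R` is self-normalizing in `R Q`
    have hRQ : R ⊔ Q ≤ (P : Subgroup G) := sup_le hRP hQP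
    obtain ⟨g, hg, hgR⟩ := exists_mem_normalizerIn_not_mem (P.isPGroup'.to_le hRQ)
      (left_lt_sup.2 hnle)
    obtain ⟨hgS, hgN⟩ := hg
    replace hgS : g ∈ ((R ⊔ Q : Subgroup G) : Set G) := hgS
    rw [coe_mul_of_left_le_normalizer_right R Q (hRP.trans hPN),
      Set.mem_mul] at hgS
    obtain ⟨r, hr, q, hq, rfl⟩ := hgS
    refine hgR (mul_mem hr (hDR ⟨hq, ?_⟩))
    simpa using mul_mem (inv_mem (le_normalizer hr : r ∈ normalizer (R : Set G))) hgN
  · intro A hA g hg
    obtain ⟨h, hhQ, hha⟩ := hext hA g (fun a ha => hg (mem_map_of_mem _ ha))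
    refine ⟨h, hhQ, h⁻¹ * g, mem_centralizer_iff.2 fun a ha => ?_, by group⟩
    calc a * (h⁻¹ * g) = h⁻¹ * (h * a * h⁻¹) * g := by group
      _ = h⁻¹ * (g * a * g⁻¹) * g := by rw [hha a ha]
      _ = h⁻¹ * g * a := by group

end CfsgLib.Fusion
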