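import Cfsg.Agent.Lib.Fusion.TFamily
import Cfsg.Agent.Lib.Fusion.PrimeIndexLeast

/-!
Maps between subgroups of a strongly closed `T` extending over `C_S(T)` trivially modulo `T`:
they form a family, containing the generated maps of a weakly normal subsystem.
-/

set_option autoImplicit false

namespace CfsgLib.Fusion

open Cfsg Cfsg.FusionSystem

variable {Ω : Type*} [Group Ω] {S T : Subgroup Ω} {F : FusionSystem S} {p : ℕ}

/-- `φ` extends over `C_S(T)`, moving its elements by elements of `T`. -/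
def HasLift (F : FusionSystem S) (T : Subgroup Ω) {R : Subgroup Ω} (φ : R →* Ω) : Prop :=
  ∃ ψ ∈ F.Hom (R ⊔ centralizerIn S T), (∀ x : R, ψ (Subgroup.inclusion le_sup_left x) = φ x) ∧
    ∀ x : ↥(R ⊔ centralizerIn S T), (x : Ω) ∈ centralizerIn S T → (x : Ω)⁻¹ * ψ x ∈ T

theorem HasLift.mem {R : Subgroup Ω} {φ : R →* Ω} (h : HasLift F T φ) : φ ∈ F.Hom R := by
  obtain ⟨ψ, hψ, hag, -⟩ := h
  exact restrict_mem' hψ le_sup_left fun x => (hag x).symm

theorem HasLift.congr {R : Subgroup Ω} {φ φ' : R →* Ω} (h : HasLift F T φ)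
    (he : ∀ x, φ' x = φ x) : HasLift F T φ' := by
  obtain rfl : φ' = φ := MonoidHom.ext he
  exact h

theorem centralizerIn_comm {x t : Ω} (hx : x ∈ centralizerIn S T) (ht : t ∈ T) : t * x = x * t :=
  (mem_centralizerIn.1 hx).2 t ht

/-- The displacement of an element of `C_S(T)` lies in the image. -/
theorem lift_shift_mem (hT : F.StronglyClosed T) {R : Subgroup Ω} (hR : TCentric F T R)
    {φ : R →* Ω} {ψ : ↥(R ⊔ centralizerIn S T) →* Ω} (hψ : ψ ∈ F.Hom (R ⊔ centralizerIn S T))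
    (hag : ∀ x : R, ψ (Subgroup.inclusion le_sup_left x) = φ x)
    (hX : ∀ x : ↥(R ⊔ centralizerIn S T), (x : Ω) ∈ centralizerIn S T → (x : Ω)⁻¹ * ψ x ∈ T)
    (x : ↥(R ⊔ centralizerIn S T)) (hx : (x : Ω) ∈ centralizerIn S T) :
    (x : Ω)⁻¹ * ψ x ∈ φ.range := by
  have hφ : φ ∈ F.Hom R := restrict_mem' hψ le_sup_left fun x => (hag x).symm
  refine hR.2 _ ⟨φ, hφ, rfl⟩ (mem_centralizerIn.2 ⟨hX x hx, ?_⟩)
  rintro _ ⟨r, rfl⟩
  have h1 : φ r * ψ x = ψ x * φ r := by
    rw [← hag, ← map_mul, ← map_mul]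
    congr 1
    exact Subtype.ext (centralizerIn_comm hx (hR.le r.2))
  have h2 : φ r * (x : Ω)⁻¹ = (x : Ω)⁻¹ * φ r :=
    centralizerIn_comm (Subgroup.inv_mem _ hx) (hT.2 R hR.le φ hφ r)
  rw [← mul_assoc, h2, mul_assoc, h1, mul_assoc]

/-- The image of a lift. -/
theorem lift_range_eq (hT : F.StronglyClosed T) {R : Subgroup Ω} (hR : TCentric F T R)
    {φ : R →* Ω} {ψ : ↥(R ⊔ centralizerIn S T) →* Ω} (hψ : ψ ∈ F.Hom (R ⊔ centralizerIn S T))
    (hag : ∀ x : R, ψ (Subgroup.inclusion le_sup_left x) = φ x)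
    (hX : ∀ x : ↥(R ⊔ centralizerIn S T), (x : Ω) ∈ centralizerIn S T → (x : Ω)⁻¹ * ψ x ∈ T) :
    ψ.range = φ.range ⊔ centralizerIn S T := by
  refine le_antisymm ?_ (sup_le ?_ fun x hx => ?_)
  · have h : R ⊔ centralizerIn S T ≤
        ((φ.range ⊔ centralizerIn S T).comap ψ).map (R ⊔ centralizerIn S T).subtype := by
      refine sup_le (fun x hx => ?_) fun x hx => ?_
      · refine ⟨Subgroup.inclusion le_sup_left ⟨x, hx⟩, Subgroup.mem_sup_left ?_, rfl⟩
        exact ⟨⟨x, hx⟩, (hag _).symm⟩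
      · refine ⟨⟨x, Subgroup.mem_sup_right hx⟩, ?_, rfl⟩
        have h1 := Subgroup.mul_mem _ (Subgroup.mem_sup_right hx)
          (Subgroup.mem_sup_left (lift_shift_mem hT hR hψ hag hX ⟨x, Subgroup.mem_sup_right hx⟩ hx) :
            _ ∈ φ.range ⊔ centralizerIn S T)
        rwa [mul_inv_cancel_left] at h1
    rintro _ ⟨y, rfl⟩
    obtain ⟨z, hz, hzy⟩ := h y.2
    rw [Subtype.ext hzy] at hz
    exact hz
  · rintro _ ⟨r, rfl⟩
    exact ⟨_, hag r⟩
  · obtain ⟨r, hr⟩ := lift_shift_mem hT hR hψ hag hX ⟨x, Subgroup.mem_sup_right hx⟩ hx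
    refine ⟨⟨x, Subgroup.mem_sup_right hx⟩ * (Subgroup.inclusion le_sup_left r)⁻¹, ?_⟩
    rw [map_mul, map_inv, hag, hr]
    simp

theorem hasLift_conj (hT : F.StronglyClosed T) {R : Subgroup Ω} (hR : R ≤ T) {t : Ω} (ht : t ∈ T) :
    HasLift F T (conjHom R t) := by
  refine ⟨conjHom _ t, F.conj_mem (sup_le (hR.trans hT.1) (centralizerIn_le T)) (hT.1 ht),
    fun x => rfl, fun x hx => ?_⟩
  show (x : Ω)⁻¹ * (t * x * t⁻¹) ∈ T
  rw [centralizerIn_comm hx ht]
  simp

theorem hasLift_comp (hT : F.StronglyClosed T) {R Q : Subgroup Ω} {φ : R →* Ω} {ψ : Q →* Ω}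
    (hR : TCentric F T R) (hQ : Q ≤ T) (hφ : HasLift F T φ) (hψ : HasLift F T ψ)
    (h : ∀ x, φ x ∈ Q) (χ : R →* Ω) (hχ : ∀ x, χ x = ψ ⟨φ x, h x⟩) : HasLift F T χ := by
  have hψF := hψ.mem
  obtain ⟨φ', hφ', hφag, hφX⟩ := hφ
  obtain ⟨ψ', hψ', hψag, hψX⟩ := hψ
  have hrange : φ.range ≤ Q := by rintro _ ⟨x, rfl⟩; exact h x
  have hmem : ∀ x, φ' x ∈ Q ⊔ centralizerIn S T := fun x =>
    sup_le_sup_right hrange _ ((lift_range_eq hT hR hφ' hφag hφX).le ⟨x, rfl⟩)
  refine ⟨ψ'.comp (φ'.codRestrict _ hmem), F.comp_mem hφ' hψ' hmem, fun x => ?_, fun x hx => ?_⟩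
  · show ψ' ⟨φ' _, _⟩ = _
    rw [hχ, ← hψag]
    exact congrArg ψ' (Subtype.ext (hφag x))
  · show (x : Ω)⁻¹ * ψ' ⟨φ' x, hmem x⟩ ∈ T
    have ht := hrange (lift_shift_mem hT hR hφ' hφag hφX x hx)
    have hsplit : (⟨φ' x, hmem x⟩ : ↥(Q ⊔ centralizerIn S T)) =
        ⟨(x : Ω), Subgroup.mem_sup_right hx⟩ *
          Subgroup.inclusion le_sup_left (⟨(x : Ω)⁻¹ * φ' x, ht⟩ : Q) :=
      Subtype.ext (by simp)
    rw [hsplit, map_mul, hψag, ← mul_assoc]
    exact T.mul_mem (hψX ⟨(x : Ω), Subgroup.mem_sup_right hx⟩ hx) (hT.2 Q hQ ψ hψF _)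

theorem hasLift_inv (hT : F.StronglyClosed T) {R : Subgroup Ω} {φ : R →* Ω}
    (hR : TCentric F T R) (hφ : HasLift F T φ) :
    ∃ ψ : φ.range →* Ω, HasLift F T ψ ∧ ∀ x : R, ψ ⟨φ x, ⟨x, rfl⟩⟩ = x := by
  obtain ⟨φ', hφ', hag, hX⟩ := hφ
  obtain ⟨θ, hθ, -, hθv, -⟩ := exists_inv hφ' (lift_range_eq hT hR hφ' hag hX)
  refine ⟨θ.comp (Subgroup.inclusion le_sup_left), ⟨θ, hθ, fun y => rfl, fun y hy => ?_⟩,
    fun x => ?_⟩
  · obtain ⟨r, hr⟩ := lift_shift_mem hT hR hφ' hag hX ⟨(y : Ω), Subgroup.mem_sup_right hy⟩ hy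
    set z : ↥(R ⊔ centralizerIn S T) :=
      ⟨(y : Ω), Subgroup.mem_sup_right hy⟩ * (Subgroup.inclusion le_sup_left r)⁻¹ with hz
    have hzy : φ' z = (y : Ω) := by
      rw [hz, map_mul, map_inv, hag, hr]
      simp
    have hθy : θ y = (z : Ω) := by
      refine Eq.trans ?_ (hθv z (hzy ▸ y.2))
      exact congrArg θ (Subtype.ext hzy.symm)
    rw [hθy, hz]
    show (y : Ω)⁻¹ * ((y : Ω) * ((r : Ω))⁻¹) ∈ T
    rw [inv_mul_cancel_left]
    exact T.inv_mem (hR.le r.2)
  · show θ ⟨φ x, _⟩ = x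
    refine Eq.trans ?_ (hθv (Subgroup.inclusion le_sup_left x) ((hag x).symm ▸
      Subgroup.mem_sup_left ⟨x, rfl⟩))
    exact congrArg θ (Subtype.ext (hag x).symm)

variable [Fact p.Prime] [Finite S]

/-- An automorphism of `T` in `F` extends to one of `T C_S(T)`. -/
theorem exists_ext_centralizer (hS : IsPGroup p S) (hF : F.IsSaturated p)
    (hT : F.StronglyClosed T) {α : MulAut T} (hα : α ∈ F.autGroup T) :
    ∃ β : ↥(T ⊔ centralizerIn S T) ≃* ↥(T ⊔ centralizerIn S T), IsoIn F β ∧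
      (∀ t : T, (β (Subgroup.inclusion le_sup_left t) : Ω) = ((α t : T) : Ω)) ∧
      ∀ x : ↥(T ⊔ centralizerIn S T), (x : Ω) ∈ centralizerIn S T →
        (β x : Ω) ∈ centralizerIn S T ∧ (β.symm x : Ω) ∈ centralizerIn S T := by
  have hTn : F.IsFullyNormalized T := ⟨hT.1, fun Q hQ => by
    obtain ⟨φ, hφ, rfl⟩ := hQ
    rw [(StronglyClosed.weaklyClosed hT).2 φ hφ]⟩
  have hαI : IsoIn F (α : T ≃* T) := (mem_autGroup_iff_isoIn hT.1).1 hα
  obtain ⟨ψ, hψ, hag⟩ := exists_extension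
    (IsSaturated.receptive hS hF (IsSaturated.fullyCentralized hS hF hTn)) hαI le_sup_left
    (sup_le_extender hαI)
  have := finite_le (sup_le hT.1 (centralizerIn_le (S := S) T))
  have hr : ψ.range = T ⊔ centralizerIn S T := by
    refine Subgroup.eq_of_le_of_card_ge ?_
      (Nat.card_congr (MonoidHom.ofInjective (F.injective_of_mem hψ)).toEquiv).le
    rintro _ ⟨y, rfl⟩
    exact lift_range hψ hag y
  obtain ⟨β, hβ, hβv⟩ := exists_iso hψ hr
  have hβT : ∀ t : T, (β (Subgroup.inclusion le_sup_left t) : Ω) = ((α t : T) : Ω) :=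
    fun t => (hβv _).trans (hag t)
  refine ⟨β, hβ, hβT, fun x hx => ⟨?_, ?_⟩⟩
  · rw [hβv]
    exact extension_mem_centralizerIn hψ le_sup_left hag x hx
  · refine extension_mem_centralizerIn (e := (α⁻¹ : MulAut T)) hβ.symm.mem le_sup_left (fun t => ?_)
      x hx
    show (β.symm _ : Ω) = _
    have h : β.symm (Subgroup.inclusion le_sup_left t) =
        Subgroup.inclusion le_sup_left (α⁻¹ t) := by
      rw [MulEquiv.symm_apply_eq]
      refine Subtype.ext ?_
      rw [hβT, MulAut.apply_inv_self]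
      rfl
    rw [h]
    rfl

theorem hasLift_transport (hS : IsPGroup p S) (hF : F.IsSaturated p) (hT : F.StronglyClosed T)
    {R R' : Subgroup Ω} {φ : R →* Ω} (hR : TCentric F T R) (hφ : HasLift F T φ)
    {α : MulAut T} (hα : α ∈ F.autGroup T) (hR' : R' ≤ T)
    (h1 : ∀ y : R', ((α⁻¹ (Subgroup.inclusion hR' y) : T) : Ω) ∈ R) (h2 : ∀ x, φ x ∈ T) :
    HasLift F T (topConj α φ hR' h1 h2) := by
  obtain ⟨ψ, hψ, hag, hX⟩ := hφ
  obtain ⟨β, hβ, hβT, hβX⟩ := exists_ext_centralizer hS hF hT hα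
  have hle : R' ⊔ centralizerIn S T ≤ T ⊔ centralizerIn S T := sup_le_sup_right hR' _
  have hβinv : ∀ y : R', (β.symm (Subgroup.inclusion hle (Subgroup.inclusion le_sup_left y)) : Ω) =
      ((α⁻¹ (Subgroup.inclusion hR' y) : T) : Ω) := fun y => by
    have h : β.symm (Subgroup.inclusion hle (Subgroup.inclusion le_sup_left y)) =
        Subgroup.inclusion le_sup_left (α⁻¹ (Subgroup.inclusion hR' y)) := by
      rw [MulEquiv.symm_apply_eq]
      refine Subtype.ext ?_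
      rw [hβT, MulAut.apply_inv_self]
      rfl
    rw [h]
    rfl
  set f₁ : ↥(R' ⊔ centralizerIn S T) →* Ω := (isoHom β.symm).comp (Subgroup.inclusion hle) with hf₁
  have hf₁F : f₁ ∈ F.Hom (R' ⊔ centralizerIn S T) := restrict_mem hβ.symm.mem hle
  have hf₁R : ∀ y, f₁ y ∈ R ⊔ centralizerIn S T := by
    have h : R' ⊔ centralizerIn S T ≤
        ((R ⊔ centralizerIn S T).comap f₁).map (R' ⊔ centralizerIn S T).subtype := by
      refine sup_le (fun y hy => ⟨⟨y, Subgroup.mem_sup_left hy⟩, Subgroup.mem_sup_left ?_, rfl⟩)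
        fun y hy => ⟨⟨y, Subgroup.mem_sup_right hy⟩, Subgroup.mem_sup_right ?_, rfl⟩
      · exact (congrArg (fun z => z ∈ R) (hβinv ⟨y, hy⟩)).mpr (h1 ⟨y, hy⟩)
      · exact (hβX ⟨y, Subgroup.mem_sup_right hy⟩ hy).2
    intro y
    obtain ⟨z, hz, hzy⟩ := h y.2
    rw [Subtype.ext hzy] at hz
    exact hz
  have hψM : ∀ y, ψ y ∈ T ⊔ centralizerIn S T := fun y => by
    have h := (lift_range_eq hT hR hψ hag hX).le ⟨y, rfl⟩
    suffices hr : φ.range ≤ T from sup_le_sup_right hr (centralizerIn S T) h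
    rintro _ ⟨r, rfl⟩
    exact h2 r
  set f₂ : ↥(R' ⊔ centralizerIn S T) →* Ω := ψ.comp (f₁.codRestrict _ hf₁R) with hf₂
  have hf₂F : f₂ ∈ F.Hom (R' ⊔ centralizerIn S T) := F.comp_mem hf₁F hψ hf₁R
  have hf₂M : ∀ y, f₂ y ∈ T ⊔ centralizerIn S T := fun y => hψM _
  refine ⟨(isoHom β).comp (f₂.codRestrict _ hf₂M), F.comp_mem hf₂F hβ.mem hf₂M, fun y => ?_,
    fun x hx => ?_⟩
  · rw [topConj_apply]
    show (β ⟨ψ ⟨f₁ _, _⟩, _⟩ : Ω) = _
    rw [← hβT ⟨φ ⟨_, h1 y⟩, h2 _⟩]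
    congr 2
    refine Subtype.ext ?_
    show ψ _ = φ _
    rw [← hag]
    exact congrArg ψ (Subtype.ext (hβinv y))
  · set z : ↥(T ⊔ centralizerIn S T) := β.symm (Subgroup.inclusion hle x) with hz
    have hzX : (z : Ω) ∈ centralizerIn S T := (hβX _ hx).2
    have ht : (z : Ω)⁻¹ * ψ ⟨(z : Ω), hf₁R x⟩ ∈ T := hX ⟨(z : Ω), hf₁R x⟩ hzX
    show (x : Ω)⁻¹ * (β ⟨ψ ⟨(z : Ω), hf₁R x⟩, _⟩ : Ω) ∈ T
    have hsplit : (⟨ψ ⟨(z : Ω), hf₁R x⟩, hψM _⟩ : ↥(T ⊔ centralizerIn S T)) =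
        z * Subgroup.inclusion le_sup_left (⟨_, ht⟩ : T) := Subtype.ext (by simp)
    have hβz : β z = Subgroup.inclusion hle x := β.apply_symm_apply _
    rw [hsplit, map_mul, Subgroup.coe_mul, hβT, hβz]
    simp

/-- Automorphisms of a subgroup `W` normal in `N_S(R)` fixing a fully normalized `R ≤ W` pointwise
and trivial modulo `R` are induced by `N_S(R)`. -/
theorem fix_shift_le (hS : IsPGroup p S) (hF : F.IsSaturated p) {R W : Subgroup Ω}
    (hRn : F.IsFullyNormalized R) (hRW : R ≤ W) (hWM : W ≤ normalizerIn S R)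
    (hnorm : normalizerIn S R ≤ Subgroup.normalizer (W : Set Ω)) {ε : MulAut W}
    (hε : ε ∈ F.autGroup W) (hfix : ∀ x : W, (x : Ω) ∈ R → ε x = x)
    (hshift : ∀ x : W, ((x⁻¹ * ε x : W) : Ω) ∈ R) :
    ε ∈ autInducedBy (normalizerIn S R) W := by
  classical
  have hRS := hRn.1
  have hWS : W ≤ S := hWM.trans (normalizerIn_le R)
  have hNsys := normSystem_isNormalizerSystem F R hRS
  set NS := normSystem F R hRS with hNSdef
  have hNSs : NS.IsSaturated p := normalizerSystem_saturated hS hF hRn hNsys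
  have := finite_le (normalizerIn_le (S := S) R)
  have hMp : IsPGroup p (normalizerIn S R) := hS.to_le (normalizerIn_le R)
  have hWn : NS.IsFullyNormalized W := by
    have := finite_le ((normalizerIn_le (S := normalizerIn S R) W).trans (normalizerIn_le R))
    refine ⟨hWM, fun Q _ => Subgroup.card_le_of_le ?_⟩
    exact fun x hx => ⟨hx.1, hnorm hx.1⟩
  have hsyl := (IsSaturated.fullyAutomized hMp hNSs hWn).2
  have := finite_mulAut_of_le (S := S) hWS
  have := finite_le hWS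
  have hRmem : ∀ β ∈ NS.autGroup W, ∀ x : W, (x : Ω) ∈ R → ((β x : W) : Ω) ∈ R := by
    intro β hβ x hx
    have h1 := (mem_autGroup_iff hWM).1 hβ
    rw [hNsys W] at h1
    obtain ⟨-, -, -, ψ, -, hag, hψR⟩ := h1
    show (W.subtype.comp β.toMonoidHom) x ∈ R
    rw [← hag]
    exact hψR.le ⟨_, hx, rfl⟩
  let K : Subgroup (MulAut W) :=
    { carrier := {β | β ∈ NS.autGroup W ∧ (∀ x : W, (x : Ω) ∈ R → β x = x) ∧
        ∀ x : W, ((x⁻¹ * β x : W) : Ω) ∈ R}
      one_mem' := ⟨one_mem _, fun _ _ => rfl, fun x => by simp⟩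
      mul_mem' := fun {a b} ha hb => ⟨mul_mem ha.1 hb.1, fun x hx => by
        rw [MulAut.mul_apply, hb.2.1 x hx, ha.2.1 x hx], fun x => by
        have h1 : a (b x) = a x * a (x⁻¹ * b x) := by rw [← map_mul, mul_inv_cancel_left]
        rw [MulAut.mul_apply, h1, ha.2.1 _ (hb.2.2 x), ← mul_assoc, Subgroup.coe_mul]
        exact R.mul_mem (ha.2.2 x) (hb.2.2 x)⟩
      inv_mem' := fun {a} ha => ⟨inv_mem ha.1, fun x hx => by
        conv_lhs => rw [← ha.2.1 x hx]
        exact MulAut.inv_apply_self W a x, fun x => by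
        have h2 := ha.2.2 (a⁻¹ x)
        rw [MulAut.apply_inv_self] at h2
        have h3 := R.inv_mem h2
        simpa using h3⟩ }
  have hKN : K ≤ NS.autGroup W := fun β hβ => hβ.1
  have hKp : IsPGroup p K := by
    intro β
    obtain ⟨n, hn⟩ := IsPGroup.iff_card.1 ((hS.to_le hWS) :)
    refine ⟨n, Subtype.ext (MulEquiv.ext fun x => ?_)⟩
    have h1 := pow_shift (β : MulAut W) (mul_inv_cancel_left x _).symm (β.2.2.1 _ (β.2.2.2 x))
      (p ^ n)
    rw [← hn, pow_card_eq_one', mul_one, hn] at h1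
    rw [SubgroupClass.coe_pow, h1]
    rfl
  have hεK : ε ∈ K := by
    have hle : W ⊔ R ≤ W := sup_le le_rfl hRW
    refine ⟨(mem_autGroup_iff hWM).2 ?_, hfix, hshift⟩
    rw [hNsys W]
    refine ⟨(mem_autGroup_iff hWS).1 hε, hWM, fun x => hWM (ε x).2,
      (W.subtype.comp ε.toMonoidHom).comp (Subgroup.inclusion hle),
      restrict_mem ((mem_autGroup_iff hWS).1 hε) hle, fun x => rfl, ?_⟩
    ext y
    constructor
    · rintro ⟨z, hz, rfl⟩
      show ((ε (Subgroup.inclusion hle z) : W) : Ω) ∈ R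
      rw [hfix (Subgroup.inclusion hle z) (show (z : Ω) ∈ R from hz)]
      exact hz
    · intro hy
      refine ⟨⟨y, Subgroup.mem_sup_right hy⟩, hy, ?_⟩
      show ((ε ⟨y, hRW hy⟩ : W) : Ω) = y
      rw [hfix _ hy]
  obtain ⟨k, hk, hkc⟩ := IsSylowIn.exists_conj_mem hsyl hKN hKp
  have h1 : k⁻¹ * ε * k ∈ K := by
    refine ⟨mul_mem (mul_mem (inv_mem hk) hεK.1) hk, fun x hx => ?_, fun x => ?_⟩
    · rw [MulAut.mul_apply, MulAut.mul_apply, hfix _ (hRmem k hk x hx), MulAut.inv_apply_self]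
    · have h2 := hRmem k⁻¹ (inv_mem hk) _ (hshift (k x))
      rw [map_mul, map_inv, MulAut.inv_apply_self] at h2
      exact h2
  have := hkc _ h1
  simpa [mul_assoc] using this

set_option maxHeartbeats 800000 in
theorem hasLift_extend (hS : IsPGroup p S) (hF : F.IsSaturated p) (hT : F.StronglyClosed T)
    {R R' M : Subgroup Ω} {φ : R' →* Ω} (hR : TCentric F T R) (hRn : F.IsFullyNormalized R)
    (hR' : TCentric F T R') (hφ : HasLift F T φ) (hφr : φ.range = R) (hle : R' ≤ M)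
    (hM : M ≤ normalizerIn T R')
    (hext : ∀ g ∈ M, ∃ t ∈ T, ∀ (x : R') (hx : g * (x : Ω) * g⁻¹ ∈ R'),
      φ ⟨g * x * g⁻¹, hx⟩ = t * φ x * t⁻¹) :
    ∃ ψ : M →* Ω, HasLift F T ψ ∧ ∀ (x : R') (hx : (x : Ω) ∈ M), ψ ⟨x, hx⟩ = φ x := by
  classical
  have hφF := hφ.mem
  obtain ⟨ψ, hψ, hag, hX⟩ := hφ
  have hψr : ψ.range = R ⊔ centralizerIn S T := hφr ▸ lift_range_eq hT hR' hψ hag hX
  have hMT : M ≤ T := hM.trans (normalizerIn_le R')
  -- extension of `φ`
  obtain ⟨e, he, hev⟩ := exists_iso hφF hφr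
  have hMX : M ⊔ centralizerIn S T ≤ extender S R' (isoHom e) := by
    refine sup_le (fun g hg => ?_)
      ((centralizerIn_antitone hR'.le).trans centralizerIn_le_extender)
    obtain ⟨t, ht, htv⟩ := hext g hg
    refine mem_extender_iff.2 ⟨hT.1 (hMT hg), (hM hg).2, t, hT.1 ht, fun x hx => ?_⟩
    rw [isoHom_apply, isoHom_apply, hev, hev]
    exact htv x hx
  obtain ⟨ξ, hξ, hξag⟩ := exists_extension
    (IsSaturated.receptive hS hF (IsSaturated.fullyCentralized hS hF hRn)) he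
    (hle.trans le_sup_left) hMX
  have hξR : ∀ x : R', ξ (Subgroup.inclusion (hle.trans le_sup_left) x) = φ x := fun x =>
    (hξag x).trans (hev x)
  have hξN : ∀ g, ξ g ∈ normalizerIn S R := fun g =>
    extension_mem_normalizerIn hξ (hle.trans le_sup_left)
      (hMX.trans (extender_le.trans inf_le_right)) hξag g
  have hUM : R' ⊔ centralizerIn S T ≤ M ⊔ centralizerIn S T := sup_le_sup_right hle _
  set ξ' : ↥(R' ⊔ centralizerIn S T) →* Ω := ξ.comp (Subgroup.inclusion hUM) with hξ'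
  obtain ⟨a, ha, hav⟩ := exists_iso (restrict_mem hξ hUM) (Q := ξ'.range) rfl
  obtain ⟨b, hb, hbv⟩ := exists_iso hψ hψr
  set ζ : ξ'.range ≃* ↥(R ⊔ centralizerIn S T) := a.symm.trans b with hζdef
  have hζ : IsoIn F ζ := ha.symm.trans hb
  have hav' : ∀ u, (a u : Ω) = ξ (Subgroup.inclusion hUM u) := fun u => hav u
  have hζv : ∀ u, (ζ (a u) : Ω) = ψ u := fun u => by simp [hζdef, hbv]
  have hζR : ∀ x : R', (ζ (a (Subgroup.inclusion le_sup_left x)) : Ω) = φ x := fun x =>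
    (hζv _).trans (hag x)
  have haR : ∀ x : R', (a (Subgroup.inclusion le_sup_left x) : Ω) = φ x := fun x =>
    (hav' _).trans (hξR x)
  -- the normalizer system
  have hRS := hRn.1
  have hNsys := normSystem_isNormalizerSystem F R hRS
  set NS := normSystem F R hRS with hNSdef
  have hNSs : NS.IsSaturated p := normalizerSystem_saturated hS hF hRn hNsys
  have := finite_le (normalizerIn_le (S := S) R)
  have hMp : IsPGroup p (normalizerIn S R) := hS.to_le (normalizerIn_le R)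
  have hXN : centralizerIn S T ≤ normalizerIn S R :=
    (centralizerIn_antitone hR.le).trans (centralizerIn_le_normalizerIn R)
  have hWM : R ⊔ centralizerIn S T ≤ normalizerIn S R := sup_le (le_normalizerIn hRS) hXN
  have hWnorm : normalizerIn S R ≤
      Subgroup.normalizer ((R ⊔ centralizerIn S T : Subgroup Ω) : Set Ω) := by
    rw [Subgroup.le_normalizer_iff]
    intro s hs
    suffices h : R ⊔ centralizerIn S T ≤
        (R ⊔ centralizerIn S T).comap (MulAut.conj s).toMonoidHom from fun y hy => h hy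
    refine sup_le (fun y hy => Subgroup.mem_sup_left (conj_mem_of_mem_normalizer hs.2 hy))
      fun y hy => Subgroup.mem_sup_right (mem_centralizerIn.2 ⟨?_, fun q hq => ?_⟩)
    · exact S.mul_mem (S.mul_mem hs.1 (centralizerIn_le T hy)) (S.inv_mem hs.1)
    · have hq' : s⁻¹ * q * s⁻¹⁻¹ ∈ T :=
        hT.2 T le_rfl _ (F.conj_mem hT.1 (S.inv_mem hs.1)) ⟨q, hq⟩
      have h1 := centralizerIn_comm hy hq'
      show q * (s * y * s⁻¹) = s * y * s⁻¹ * q
      calc q * (s * y * s⁻¹) = s * (s⁻¹ * q * s⁻¹⁻¹ * y) * s⁻¹ := by group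
        _ = s * (y * (s⁻¹ * q * s⁻¹⁻¹)) * s⁻¹ := by rw [h1]
        _ = s * y * s⁻¹ * q := by group
  have hWn : NS.IsFullyNormalized (R ⊔ centralizerIn S T) := by
    have := finite_le ((normalizerIn_le (S := normalizerIn S R) (R ⊔ centralizerIn S T)).trans
      (normalizerIn_le R))
    refine ⟨hWM, fun Q _ => Subgroup.card_le_of_le ?_⟩
    exact fun x hx => ⟨hx.1, hWnorm hx.1⟩
  have hRW₁ : R ≤ ξ'.range := by
    rw [← hφr]
    rintro _ ⟨x, rfl⟩
    exact ⟨Subgroup.inclusion le_sup_left x, hξR x⟩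
  have hζfix : ∀ y : ξ'.range, (y : Ω) ∈ R → (ζ y : Ω) = y := fun y hy => by
    rw [← hφr] at hy
    obtain ⟨x, hx⟩ := hy
    rw [show y = a (Subgroup.inclusion le_sup_left x) from Subtype.ext ((haR x).trans hx).symm,
      hζR, haR]
  have hW₁N : ξ'.range ≤ normalizerIn S R := by
    rintro _ ⟨u, rfl⟩
    exact hξN _
  have hζNS : IsoIn NS ζ := by
    show isoHom ζ ∈ NS.Hom ξ'.range
    have hle' : ξ'.range ⊔ R ≤ ξ'.range := sup_le le_rfl hRW₁
    rw [hNsys]
    refine ⟨hζ.mem, hW₁N, fun y => hWM (ζ y).2, (isoHom ζ).comp (Subgroup.inclusion hle'),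
      restrict_mem hζ.mem hle', fun y => rfl, ?_⟩
    ext y
    constructor
    · rintro ⟨z, hz, rfl⟩
      show (ζ (Subgroup.inclusion hle' z) : Ω) ∈ R
      rw [hζfix (Subgroup.inclusion hle' z) (show (z : Ω) ∈ R from hz)]
      exact hz
    · intro hy
      exact ⟨⟨y, Subgroup.mem_sup_right hy⟩, hy, hζfix _ hy⟩
  -- the extender condition
  have hUN : ∀ g ∈ M ⊔ centralizerIn S T,
      g ∈ Subgroup.normalizer ((R' ⊔ centralizerIn S T : Subgroup Ω) : Set Ω) := by
    suffices h : M ⊔ centralizerIn S T ≤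
        Subgroup.normalizer ((R' ⊔ centralizerIn S T : Subgroup Ω) : Set Ω) from fun g hg => h hg
    refine sup_le ?_ (le_trans le_sup_right Subgroup.le_normalizer)
    rw [Subgroup.le_normalizer_iff]
    intro g hg
    suffices h : R' ⊔ centralizerIn S T ≤
        (R' ⊔ centralizerIn S T).comap (MulAut.conj g).toMonoidHom from fun y hy => h hy
    refine sup_le (fun y hy => Subgroup.mem_sup_left (conj_mem_of_mem_normalizer (hM hg).2 hy))
      fun y hy => Subgroup.mem_sup_right ?_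
    show g * y * g⁻¹ ∈ centralizerIn S T
    rw [centralizerIn_comm hy (hMT hg)]
    simpa using hy
  have hξW₁ : ∀ g, ξ g ∈ Subgroup.normalizer (ξ'.range : Set Ω) := fun g => by
    have h1 := img_mem_normalizer (ψ := ξ) hUM g (hUN g g.2)
    rwa [show img ξ (R' ⊔ centralizerIn S T) = ξ'.range from (range_restrict ξ hUM).symm] at h1
  have hcrit : ∀ g : ↥(M ⊔ centralizerIn S T),
      ξ g ∈ extender (normalizerIn S R) ξ'.range (isoHom ζ) := by
    suffices h : M ⊔ centralizerIn S T ≤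
        ((extender (normalizerIn S R) ξ'.range (isoHom ζ)).comap ξ).map
          (M ⊔ centralizerIn S T).subtype by
      intro g
      obtain ⟨z, hz, hzg⟩ := h g.2
      rw [Subtype.ext hzg] at hz
      exact hz
    refine sup_le (fun g hg => ⟨⟨g, Subgroup.mem_sup_left hg⟩, ?_, rfl⟩)
      fun g hg => ⟨⟨g, Subgroup.mem_sup_right hg⟩, ?_, rfl⟩
    · set g' : ↥(M ⊔ centralizerIn S T) := ⟨g, Subgroup.mem_sup_left hg⟩ with hg'
      -- the action of `g` read on `R C_S(T)`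
      set gU : MulAut ↥(R' ⊔ centralizerIn S T) :=
        (R' ⊔ centralizerIn S T).normalizerMonoidHom ⟨g, hUN g g'.2⟩ with hgU
      have hgUF : gU ∈ F.autGroup (R' ⊔ centralizerIn S T) :=
        autInducedBy_le_autGroup (hom_le hψ)
          (mem_autInducedBy_iff.2 ⟨g, hT.1 (hMT hg), fun _ => rfl⟩)
      obtain ⟨t, ht, htv⟩ := hext g hg
      have htR : t ∈ Subgroup.normalizer (R : Set Ω) := by
        have key : ∀ y ∈ R, ∃ z ∈ R, t * z * t⁻¹ = y := by
          intro y hy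
          rw [← hφr] at hy
          obtain ⟨x, rfl⟩ := hy
          have hx : g⁻¹ * (x : Ω) * g⁻¹⁻¹ ∈ R' :=
            conj_mem_of_mem_normalizer (Subgroup.inv_mem _ (hM hg).2) x.2
          refine ⟨φ ⟨_, hx⟩, hφr ▸ ⟨_, rfl⟩, ?_⟩
          rw [← htv ⟨_, hx⟩ (by
            show g * (g⁻¹ * (x : Ω) * g⁻¹⁻¹) * g⁻¹ ∈ R'
            simp [mul_assoc])]
          congr 1
          exact Subtype.ext (by simp [mul_assoc])
        have hti : t⁻¹ ∈ Subgroup.normalizer (R : Set Ω) := by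
          refine Subgroup.mem_normalizer_iff.2 fun y => ⟨fun hy => ?_, fun hy => ?_⟩
          · obtain ⟨z, hz, hzy⟩ := key y hy
            rw [← hzy]
            simpa [mul_assoc] using hz
          · rw [← hφr] at hy
            obtain ⟨x, hx⟩ := hy
            have h1 := htv x (conj_mem_of_mem_normalizer (hM hg).2 x.2)
            rw [hx] at h1
            have : y = φ ⟨g * x * g⁻¹, conj_mem_of_mem_normalizer (hM hg).2 x.2⟩ := by
              rw [h1]
              simp [mul_assoc]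
            rw [this, ← hφr]
            exact ⟨_, rfl⟩
        simpa using Subgroup.inv_mem _ hti
      have htM : t ∈ normalizerIn S R := ⟨hT.1 ht, htR⟩
      set tW : MulAut ↥(R ⊔ centralizerIn S T) :=
        (R ⊔ centralizerIn S T).normalizerMonoidHom ⟨t, hWnorm htM⟩ with htW
      set lam : MulAut ↥(R ⊔ centralizerIn S T) := tW⁻¹ * MulAut.congr b gU with hlam
      have hlamF : lam ∈ F.autGroup (R ⊔ centralizerIn S T) :=
        mul_mem (inv_mem (autInducedBy_le_autGroup (hWM.trans (normalizerIn_le R))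
          (mem_autInducedBy_iff.2 ⟨t, hT.1 ht, fun _ => rfl⟩)))
          (hb.congr_autGroup.le ⟨gU, hgUF, rfl⟩)
      have htWi : ∀ y, ((tW⁻¹ y : ↥(R ⊔ centralizerIn S T)) : Ω) = t⁻¹ * y * t := fun y => by
        obtain ⟨z, rfl⟩ := tW.surjective y
        rw [MulAut.inv_apply_self]
        show (z : Ω) = t⁻¹ * (t * z * t⁻¹) * t
        group
      have hlamv : ∀ u, (lam (b u) : Ω) = t⁻¹ * ψ (gU u) * t := fun u => by
        rw [hlam, MulAut.mul_apply, htWi,
          show MulAut.congr b gU (b u) = b (gU u) by simp [MulAut.congr], hbv]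
      have hlamR : ∀ y : ↥(R ⊔ centralizerIn S T), (y : Ω) ∈ R → lam y = y := fun y hy => by
        obtain ⟨x, hx⟩ : ∃ x, φ x = (y : Ω) := hφr.ge hy
        have hyb : y = b (Subgroup.inclusion le_sup_left x) :=
          Subtype.ext (hx.symm.trans ((hag x).symm.trans (hbv _).symm))
        refine Subtype.ext ?_
        conv_lhs => rw [hyb, hlamv]
        have hxg := conj_mem_of_mem_normalizer (hM hg).2 x.2
        rw [show gU (Subgroup.inclusion le_sup_left x) =
          Subgroup.inclusion le_sup_left ⟨g * x * g⁻¹, hxg⟩ from Subtype.ext rfl, hag, htv x hxg,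
          hx]
        group
      have hlams : ∀ y : ↥(R ⊔ centralizerIn S T), ((y⁻¹ * lam y : ↥(R ⊔ centralizerIn S T)) : Ω) ∈ R := by
        intro y
        have hX' : ∀ y : ↥(R ⊔ centralizerIn S T), (y : Ω) ∈ centralizerIn S T →
            ((y⁻¹ * lam y : ↥(R ⊔ centralizerIn S T)) : Ω) ∈ R := by
          intro y hy
          obtain ⟨r, hr⟩ := lift_shift_mem hT hR' hψ hag hX ⟨(y : Ω), Subgroup.mem_sup_right hy⟩ hy
          set u : ↥(R' ⊔ centralizerIn S T) :=
            ⟨(y : Ω), Subgroup.mem_sup_right hy⟩ * (Subgroup.inclusion le_sup_left r)⁻¹ with hu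
          have hub : y = b u := Subtype.ext (by
            rw [hbv, hu, map_mul, map_inv, hag, hr]
            simp)
          show (y : Ω)⁻¹ * (lam y : Ω) ∈ R
          conv => arg 2; arg 2; rw [hub, hlamv]
          have hxg := conj_mem_of_mem_normalizer (hM hg).2 (r⁻¹).2
          have hgu : gU u = ⟨(y : Ω), Subgroup.mem_sup_right hy⟩ *
              Subgroup.inclusion le_sup_left ⟨g * (r⁻¹ : R') * g⁻¹, hxg⟩ := by
            refine Subtype.ext ?_
            show g * ((y : Ω) * (r : Ω)⁻¹) * g⁻¹ = (y : Ω) * (g * (r : Ω)⁻¹ * g⁻¹)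
            rw [← mul_assoc g, centralizerIn_comm hy (hMT hg)]
            group
          rw [hgu, map_mul, hag]
          have hψy : ψ ⟨(y : Ω), Subgroup.mem_sup_right hy⟩ = (y : Ω) * φ r := by
            rw [hr]; simp
          rw [hψy]
          have hR2 : ∀ r' ∈ R, t⁻¹ * r' * t ∈ R := fun r' hr' => by
            have := conj_mem_of_mem_normalizer (Subgroup.inv_mem _ htR) hr'
            simpa using this
          have h3 : (y : Ω)⁻¹ * (t⁻¹ * ((y : Ω) * φ r * φ ⟨g * (r⁻¹ : R') * g⁻¹, hxg⟩) * t) =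
              t⁻¹ * (φ r * φ ⟨g * (r⁻¹ : R') * g⁻¹, hxg⟩) * t := by
            rw [← mul_assoc t⁻¹, ← mul_assoc t⁻¹, centralizerIn_comm hy (T.inv_mem ht)]
            group
          rw [h3]
          exact hR2 _ (R.mul_mem (hφr ▸ ⟨_, rfl⟩) (hφr ▸ ⟨_, rfl⟩))
        obtain ⟨r, hr, x, hx, hrx⟩ : ∃ r ∈ R, ∃ x ∈ centralizerIn S T, (y : Ω) = r * x := by
          have h := y.2
          rw [← SetLike.mem_coe, Subgroup.coe_mul_of_left_le_normalizer_right R
            (centralizerIn S T) (fun r hr => by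
              refine Subgroup.mem_normalizer_iff.2 fun z => ⟨fun hz => ?_, fun hz => ?_⟩
              · rw [centralizerIn_comm hz (hR.le hr)]
                simpa using hz
              · have h5 := centralizerIn_comm hz (T.inv_mem (hR.le hr))
                have h6 : z = r * z * r⁻¹ := by
                  calc z = r⁻¹ * (r * z * r⁻¹) * r := by group
                    _ = r * z * r⁻¹ * r⁻¹ * r := by rw [h5]
                    _ = r * z * r⁻¹ := by group
                rwa [h6])] at h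
          obtain ⟨r, hr, x, hx, hrx⟩ := h
          exact ⟨r, hr, x, hx, hrx.symm⟩
        have hy : y = ⟨r, Subgroup.mem_sup_left hr⟩ * ⟨x, Subgroup.mem_sup_right hx⟩ :=
          Subtype.ext hrx
        rw [hy, map_mul, hlamR _ hr]
        simpa [mul_assoc] using hX' ⟨x, Subgroup.mem_sup_right hx⟩ hx
      obtain ⟨s, hs, hsv⟩ := mem_autInducedBy_iff.1
        (fix_shift_le hS hF hRn le_sup_left hWM hWnorm hlamF hlamR hlams)
      refine mem_extender_iff.2 ⟨hξN _, hξW₁ _, t * s, Subgroup.mul_mem _ htM hs, fun y hy => ?_⟩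
      obtain ⟨u, rfl⟩ := a.surjective y
      have h1 : (⟨ξ g' * (a u : Ω) * (ξ g')⁻¹, hy⟩ : ξ'.range) = a (gU u) := by
        refine Subtype.ext ?_
        show ξ g' * (a u : Ω) * (ξ g')⁻¹ = (a (gU u) : Ω)
        rw [hav', hav', ← map_inv, ← map_mul, ← map_mul]
        rfl
      rw [isoHom_apply, isoHom_apply, h1, hζv, hζv]
      have h2 := hsv (b u)
      rw [hlamv, hbv] at h2
      calc ψ (gU u) = t * (t⁻¹ * ψ (gU u) * t) * t⁻¹ := by group
        _ = t * (s * ψ u * s⁻¹) * t⁻¹ := by rw [h2]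
        _ = t * s * ψ u * (t * s)⁻¹ := by group
    · set g' : ↥(R' ⊔ centralizerIn S T) := ⟨g, Subgroup.mem_sup_right hg⟩
      refine mem_extender_iff.2 ⟨hξN _, hξW₁ _, ψ g', hWM (hψr ▸ ⟨g', rfl⟩), fun y hy => ?_⟩
      obtain ⟨u, rfl⟩ := a.surjective y
      have h1 : (⟨ξ ⟨g, Subgroup.mem_sup_right hg⟩ * (a u : Ω) *
          (ξ ⟨g, Subgroup.mem_sup_right hg⟩)⁻¹, hy⟩ : ξ'.range) = a (g' * u * g'⁻¹) := by
        refine Subtype.ext ?_
        show ξ ⟨g, Subgroup.mem_sup_right hg⟩ * (a u : Ω) *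
          (ξ ⟨g, Subgroup.mem_sup_right hg⟩)⁻¹ = (a (g' * u * g'⁻¹) : Ω)
        rw [hav', hav', ← map_inv, ← map_mul, ← map_mul]
        rfl
      rw [isoHom_apply, isoHom_apply, h1, hζv, hζv, map_mul, map_mul, map_inv]
  obtain ⟨η, hη, hηag⟩ := exists_extension
    (IsSaturated.receptive hMp hNSs (IsSaturated.fullyCentralized hMp hNSs hWn)) hζNS
    (R := ξ.range) (by rintro _ ⟨u, rfl⟩; exact ⟨_, rfl⟩)
    (by rintro _ ⟨g, rfl⟩; exact hcrit g)
  have hηF : η ∈ F.Hom ξ.range := normalizerSystem_le hNsys hη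
  set χ : ↥(M ⊔ centralizerIn S T) →* Ω := η.comp (ξ.codRestrict _ fun g => ⟨g, rfl⟩) with hχ
  have hχF : χ ∈ F.Hom (M ⊔ centralizerIn S T) := F.comp_mem hξ hηF _
  have hχU : ∀ u, χ (Subgroup.inclusion hUM u) = ψ u := fun u => by
    rw [← hζv u, ← hηag]
    exact congrArg η (Subtype.ext (hav' u).symm)
  refine ⟨χ.comp (Subgroup.inclusion le_sup_left), ⟨χ, hχF, fun x => rfl, fun x hx => ?_⟩,
    fun x hx => ?_⟩
  · rw [show x = Subgroup.inclusion hUM ⟨(x : Ω), Subgroup.mem_sup_right hx⟩ from Subtype.ext rfl,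
      hχU]
    exact hX ⟨(x : Ω), Subgroup.mem_sup_right hx⟩ hx
  · exact (hχU (Subgroup.inclusion le_sup_left x)).trans (hag x)

/-- An automorphism of `p`-power order of a weakly normal subsystem has a lift. -/
theorem hasLift_pElement (hS : IsPGroup p S) (hF : F.IsSaturated p) {E : FusionSystem T}
    (hEs : E.IsSaturated p) (hEi : E.IsInvariantIn F) {R : Subgroup Ω} (hR : TCentric F T R)
    {a : MulAut R} (ha : a ∈ E.autGroup R) (hk : ∃ k : ℕ, a ^ p ^ k = 1) :
    HasLift F T (R.subtype.comp a.toMonoidHom) := by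
  classical
  have hT : F.StronglyClosed T := hEi.2.1
  have hRS := hR.le.trans hT.1
  obtain ⟨U, hRU, hUn⟩ := exists_fullyNormalized (F := F) hRS
  obtain ⟨f, hf, -, hfU⟩ := exists_normalizer_map hS (IsSaturated.fullyAutomized hS hF hUn)
    (IsSaturated.receptive hS hF (IsSaturated.fullyCentralized hS hF hUn)) hRU
  have hRN : R ≤ normalizerIn S R := le_normalizerIn hRS
  obtain ⟨e, he, hev⟩ := exists_iso (Q := U) (restrict_mem hf hRN) (by rw [range_restrict, hfU])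
  have hU : TCentric F T U := hR.conj hT he.isConj
  obtain ⟨k, hk', hc⟩ := exists_conj_autInducedBy hS hF hEs hT hEi.1 hU.le hUn
    (invariant_congr hEi hR.le he ha) (by
      obtain ⟨k, hk⟩ := hk
      exact ⟨k, by rw [← map_pow, hk, map_one]⟩)
  obtain ⟨t, ht, htv⟩ := mem_autInducedBy_iff.1 hc
  have hki : (k⁻¹ : MulAut U) ∈ F.autGroup U :=
    inv_mem ((mem_autGroup_iff hUn.1).2 (hEi.1 U ((mem_autGroup_iff hU.le).1 hk')))
  have hkI : IsoIn F (((k⁻¹ : MulAut U)) : U ≃* U) := (mem_autGroup_iff_isoIn hUn.1).1 hki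
  obtain ⟨κ₀, hκ₀, hκag⟩ := exists_extension
    (IsSaturated.receptive hS hF (IsSaturated.fullyCentralized hS hF hUn)) hkI le_sup_left
    (sup_le_extender hkI)
  have := finite_le (sup_le hUn.1 (centralizerIn_le (S := S) U))
  obtain ⟨κ, hκ, hκv⟩ := exists_iso hκ₀ (Q := U ⊔ centralizerIn S U) (by
    refine Subgroup.eq_of_le_of_card_ge ?_
      (Nat.card_congr (MonoidHom.ofInjective (F.injective_of_mem hκ₀)).toEquiv).le
    rintro _ ⟨y, rfl⟩
    exact lift_range hκ₀ hκag y)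
  -- conjugation by `t`
  have htN : t ∈ Subgroup.normalizer (U : Set Ω) := mem_normalizer_of_conj_eq _ htv
  have htV : t ∈ Subgroup.normalizer ((U ⊔ centralizerIn S U : Subgroup Ω) : Set Ω) := by
    have hc' : ∀ s ∈ normalizerIn S U, ∀ y ∈ U ⊔ centralizerIn S U,
        s * y * s⁻¹ ∈ U ⊔ centralizerIn S U := by
      intro s hs
      suffices h : U ⊔ centralizerIn S U ≤
          (U ⊔ centralizerIn S U).comap (MulAut.conj s).toMonoidHom from fun y hy => h hy
      refine sup_le (fun y hy => Subgroup.mem_sup_left (conj_mem_of_mem_normalizer hs.2 hy))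
        fun y hy => Subgroup.mem_sup_right (mem_centralizerIn.2 ⟨?_, fun q hq => ?_⟩)
      · exact S.mul_mem (S.mul_mem hs.1 (centralizerIn_le U hy)) (S.inv_mem hs.1)
      · have hq' := conj_mem_of_mem_normalizer (Subgroup.inv_mem _ hs.2) hq
        show q * (s * y * s⁻¹) = s * y * s⁻¹ * q
        have h1 := (mem_centralizerIn.1 hy).2 _ hq'
        calc q * (s * y * s⁻¹) = s * (s⁻¹ * q * s⁻¹⁻¹ * y) * s⁻¹ := by group
          _ = s * (y * (s⁻¹ * q * s⁻¹⁻¹)) * s⁻¹ := by rw [h1]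
          _ = s * y * s⁻¹ * q := by group
    have htS : t ∈ normalizerIn S U := ⟨hT.1 ht, htN⟩
    refine Subgroup.mem_normalizer_iff.2 fun y => ⟨hc' t htS y, fun hy => ?_⟩
    have := hc' t⁻¹ (Subgroup.inv_mem _ htS) _ hy
    simpa [mul_assoc] using this
  set c : MulAut ↥(U ⊔ centralizerIn S U) :=
    (U ⊔ centralizerIn S U).normalizerMonoidHom ⟨t, htV⟩ with hcdef
  have hcF : c ∈ F.autGroup (U ⊔ centralizerIn S U) :=
    autInducedBy_le_autGroup (sup_le hUn.1 (centralizerIn_le U))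
      (mem_autInducedBy_iff.2 ⟨t, hT.1 ht, fun _ => rfl⟩)
  set b : MulAut ↥(U ⊔ centralizerIn S U) := MulAut.congr κ c with hb
  have hbF : b ∈ F.autGroup (U ⊔ centralizerIn S U) := hκ.congr_autGroup.le ⟨c, hcF, rfl⟩
  have hκU : ∀ u : U, κ (Subgroup.inclusion le_sup_left u) =
      Subgroup.inclusion le_sup_left (k⁻¹ u) := fun u => Subtype.ext ((hκv _).trans (hκag u))
  have hbU : ∀ u : U, b (Subgroup.inclusion le_sup_left u) =
      Subgroup.inclusion le_sup_left (MulAut.congr e a u) := fun u => by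
    obtain ⟨w, rfl⟩ : ∃ w, k⁻¹ w = u := ⟨k u, MulAut.inv_apply_self _ _ _⟩
    rw [← hκU, hb, show MulAut.congr κ c (κ (Subgroup.inclusion le_sup_left w)) =
      κ (c (Subgroup.inclusion le_sup_left w)) by simp [MulAut.congr],
      show c (Subgroup.inclusion le_sup_left w) =
        Subgroup.inclusion le_sup_left ((k * MulAut.congr e a * k⁻¹ : MulAut U) w) from
        Subtype.ext (htv w).symm, hκU]
    rw [MulAut.mul_apply, MulAut.mul_apply, MulAut.inv_apply_self]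
  have hbY : ∀ y : ↥(U ⊔ centralizerIn S U), (y : Ω) ∈ centralizerIn S U →
      (y : Ω)⁻¹ * (b y : Ω) ∈ U := by
    intro y hy
    obtain ⟨z, rfl⟩ := κ.surjective y
    have hz : (z : Ω) ∈ centralizerIn S U := by
      refine mem_centralizerIn.2 ⟨sup_le hUn.1 (centralizerIn_le U) z.2, fun u hu => ?_⟩
      have h1 : Subgroup.inclusion le_sup_left (k⁻¹ ⟨u, hu⟩) * κ z =
          κ z * Subgroup.inclusion (le_sup_left : U ≤ U ⊔ centralizerIn S U) (k⁻¹ ⟨u, hu⟩) :=
        Subtype.ext ((mem_centralizerIn.1 hy).2 _ (SetLike.coe_mem _))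
      rw [← hκU, ← map_mul, ← map_mul] at h1
      exact congrArg Subtype.val (κ.injective h1)
    have hd : (z : Ω)⁻¹ * (t * z * t⁻¹) ∈ U := by
      refine hU.2 U (isConj_refl hUn.1) (mem_centralizerIn.2 ⟨?_, fun u hu => ?_⟩)
      · have h1 : (z : Ω)⁻¹ * t * (z : Ω)⁻¹⁻¹ ∈ T :=
          hT.2 T le_rfl _ (F.conj_mem hT.1 (S.inv_mem hz.1)) ⟨t, ht⟩
        have h2 := T.mul_mem h1 (T.inv_mem ht)
        simpa [mul_assoc] using h2
      · have h1 := (mem_centralizerIn.1 hz).2 _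
          (conj_mem_of_mem_normalizer (Subgroup.inv_mem _ htN) hu)
        have h4 := (mem_centralizerIn.1 (Subgroup.inv_mem _ hz)).2 u hu
        have h5 : u * (t * z * t⁻¹) = t * z * t⁻¹ * u :=
          calc u * (t * z * t⁻¹) = t * (t⁻¹ * u * t⁻¹⁻¹ * z) * t⁻¹ := by group
            _ = t * (z * (t⁻¹ * u * t⁻¹⁻¹)) * t⁻¹ := by rw [h1]
            _ = t * z * t⁻¹ * u := by group
        rw [← mul_assoc u, h4, mul_assoc _ u, h5, ← mul_assoc]
    have h2 : b (κ z) = κ z * κ (Subgroup.inclusion le_sup_left ⟨_, hd⟩) := by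
      rw [hb, show MulAut.congr κ c (κ z) = κ (c z) by simp [MulAut.congr], ← map_mul]
      congr 1
      refine Subtype.ext ?_
      show t * (z : Ω) * t⁻¹ = (z : Ω) * ((z : Ω)⁻¹ * (t * z * t⁻¹))
      group
    rw [h2, hκU, Subgroup.coe_mul, inv_mul_cancel_left]
    exact SetLike.coe_mem _
  -- pulling back along the normalizer map
  have hXN : centralizerIn S T ≤ normalizerIn S R :=
    (centralizerIn_antitone hR.le).trans (centralizerIn_le_normalizerIn R)
  have hM₀ : R ⊔ centralizerIn S T ≤ normalizerIn S R := sup_le hRN hXN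
  set f₁ : ↥(R ⊔ centralizerIn S T) →* Ω := f.comp (Subgroup.inclusion hM₀) with hf₁
  have hf₁R : ∀ x : R, f₁ (Subgroup.inclusion le_sup_left x) = (e x : Ω) := fun x => (hev x).symm
  have hf₁V : ∀ y, f₁ y ∈ U ⊔ centralizerIn S U := by
    have h : R ⊔ centralizerIn S T ≤
        ((U ⊔ centralizerIn S U).comap f₁).map (R ⊔ centralizerIn S T).subtype := by
      refine sup_le (fun y hy => ⟨⟨y, Subgroup.mem_sup_left hy⟩, Subgroup.mem_sup_left ?_, rfl⟩)
        fun y hy => ⟨⟨y, Subgroup.mem_sup_right hy⟩, Subgroup.mem_sup_right ?_, rfl⟩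
      · have := hf₁R ⟨y, hy⟩
        exact (congrArg (fun z => z ∈ U) this).mpr (e ⟨y, hy⟩).2
      · exact extension_mem_centralizerIn (restrict_mem hf hM₀) le_sup_left hf₁R _
          (centralizerIn_antitone hR.le hy)
    intro y
    obtain ⟨z, hz, hzy⟩ := h y.2
    rw [Subtype.ext hzy] at hz
    exact hz
  set g₂ : ↥(R ⊔ centralizerIn S T) →* Ω :=
    ((U ⊔ centralizerIn S U).subtype.comp b.toMonoidHom).comp (f₁.codRestrict _ hf₁V) with hg₂
  have hg₂F : g₂ ∈ F.Hom (R ⊔ centralizerIn S T) :=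
    F.comp_mem (restrict_mem hf hM₀)
      ((mem_autGroup_iff (sup_le hUn.1 (centralizerIn_le U))).1 hbF) hf₁V
  have hg₂R : ∀ x : R, g₂ (Subgroup.inclusion le_sup_left x) = (e (a x) : Ω) := fun x => by
    show (b ⟨f₁ _, _⟩ : Ω) = _
    rw [show (⟨f₁ (Subgroup.inclusion le_sup_left x), hf₁V _⟩ : ↥(U ⊔ centralizerIn S U)) =
      Subgroup.inclusion le_sup_left (e x) from Subtype.ext (hf₁R x), hbU]
    simp [MulAut.congr]
  have hg₂X : ∀ y : ↥(R ⊔ centralizerIn S T), (y : Ω) ∈ centralizerIn S T →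
      ∃ r : R, g₂ y = f₁ y * (e r : Ω) := fun y hy => by
    have h1 := hbY ⟨f₁ y, hf₁V y⟩ (extension_mem_centralizerIn (restrict_mem hf hM₀) le_sup_left
      hf₁R _ (centralizerIn_antitone hR.le hy))
    refine ⟨e.symm ⟨_, h1⟩, ?_⟩
    rw [MulEquiv.apply_symm_apply]
    show (b ⟨f₁ y, hf₁V y⟩ : Ω) = f₁ y * ((f₁ y)⁻¹ * (b ⟨f₁ y, hf₁V y⟩ : Ω))
    group
  obtain ⟨θ, hθ, -, hθv, -⟩ := exists_inv (restrict_mem hf hM₀) (Q := f₁.range) rfl
  have hg₂f : ∀ y, g₂ y ∈ f₁.range := by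
    have h : R ⊔ centralizerIn S T ≤ (f₁.range.comap g₂).map (R ⊔ centralizerIn S T).subtype := by
      refine sup_le (fun y hy => ⟨⟨y, Subgroup.mem_sup_left hy⟩, ?_, rfl⟩)
        fun y hy => ⟨⟨y, Subgroup.mem_sup_right hy⟩, ?_, rfl⟩
      · exact ⟨_, (hf₁R _).trans (hg₂R ⟨y, hy⟩).symm⟩
      · obtain ⟨r, hr⟩ := hg₂X ⟨y, Subgroup.mem_sup_right hy⟩ hy
        exact ⟨⟨y, Subgroup.mem_sup_right hy⟩ * Subgroup.inclusion le_sup_left r, by
          rw [map_mul, hf₁R, hr]⟩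
    intro y
    obtain ⟨z, hz, hzy⟩ := h y.2
    rw [Subtype.ext hzy] at hz
    exact hz
  refine ⟨θ.comp (g₂.codRestrict _ hg₂f), F.comp_mem hg₂F hθ hg₂f, fun x => ?_, fun y hy => ?_⟩
  · refine (?_ : θ ⟨g₂ (Subgroup.inclusion le_sup_left x), hg₂f _⟩ = _).trans
      (hθv (Subgroup.inclusion le_sup_left (a x)) ⟨_, rfl⟩)
    exact congrArg θ (Subtype.ext ((hg₂R x).trans (hf₁R (a x)).symm))
  · obtain ⟨r, hr⟩ := hg₂X y hy
    show (y : Ω)⁻¹ * θ ⟨g₂ y, hg₂f y⟩ ∈ T
    have h : g₂ y = f₁ (y * Subgroup.inclusion le_sup_left r) := by rw [map_mul, hf₁R, hr]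
    rw [show θ ⟨g₂ y, hg₂f y⟩ = ((y * Subgroup.inclusion le_sup_left r : ↥(R ⊔ centralizerIn S T)) : Ω)
      from (congrArg θ (Subtype.ext h)).trans (hθv _ ⟨_, rfl⟩)]
    show (y : Ω)⁻¹ * ((y : Ω) * (r : Ω)) ∈ T
    rw [inv_mul_cancel_left]
    exact hR.le r.2

/-- The generated maps of a weakly normal subsystem have lifts on subgroups centric inside `T`. -/
theorem genMap_hasLift (hS : IsPGroup p S) (hF : F.IsSaturated p) {E : FusionSystem T}
    (hEs : E.IsSaturated p) (hEi : E.IsInvariantIn F) {R : Subgroup Ω} {φ : R →* Ω}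
    (hφ : GenMap E p φ) (hR : TCentric F T R) : HasLift F T φ := by
  have hT : F.StronglyClosed T := hEi.2.1
  induction hφ with
  | incl φ hP hφ =>
      exact (hasLift_conj hT hR.le T.one_mem).congr fun x => (hφ x).trans (by
        show (x : Ω) = 1 * x * 1⁻¹
        simp)
  | @step Q φ hc hr a ha hk hφ hle χ hχ ih =>
      have hQ := tCentric_of_centric hEi hc
      exact hasLift_comp hT hR hQ.le ih (hasLift_pElement hS hF hEs hEi hQ ha hk) hle χ hχ

/-- The maps with lifts form a family. -/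
def liftFamily (hS : IsPGroup p S) (hF : F.IsSaturated p) {E : FusionSystem T}
    (hEs : E.IsSaturated p) (hEi : E.IsInvariantIn F) : TFamily F T where
  Mem R φ := HasLift F T φ
  mem _ h := h.mem
  conj hR _ ht := hasLift_conj hEi.2.1 hR.le ht
  comp hR hQ hφ hψ h χ hχ := hasLift_comp hEi.2.1 hR hQ.le hφ hψ h χ hχ
  inv hR hφ := hasLift_inv hEi.2.1 hR hφ
  transport hR _ hφ _ hα hR' h1 h2 := hasLift_transport hS hF hEi.2.1 hR hφ hα hR' h1 h2
  frattini := by
    intro R φ hR hφ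
    have := finite_le hEi.2.1.1
    have hTp : IsPGroup p T := hS.to_le hEi.2.1.1
    obtain ⟨α, hα, e, he, hv⟩ := hEi.2.2.2 R hR.le φ hφ
    obtain ⟨β, hβ, g, hg, hgv⟩ := exists_gen_decomp hTp hEs he
    refine ⟨α * β, mul_mem hα ((mem_autGroup_iff hEi.2.1.1).2
      (hEi.1 T ((mem_autGroup_iff le_rfl).1 hβ))), g, genMap_hasLift hS hF hEs hEi hg hR,
      fun x hx => ?_⟩
    rw [hv x (hom_apply_mem he x), MulAut.mul_apply]
    congr 2
    exact Subtype.ext (hgv x hx)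
  extend hR hRn hR' hφ hr hle hM hext := hasLift_extend hS hF hEi.2.1 hR hRn hR' hφ hr hle hM hext

end CfsgLib.Fusion
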