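import Cfsg.Agent.Lib.Fusion.EssentialFlag
import Cfsg.Agent.Lib.Fusion.Normal
import Cfsg.Agent.Lib.Fusion.Biset.ModelExists

/-!
# Systems with nontrivial core over `p`-groups with commuting lines

If every non-central element of a `p`-group `S` of order `q³` has an abelian centraliser of order
`q²`, the centre has order `q` and contains the commutators, then a saturated system over `S` with a
nontrivial normal subgroup is constrained, hence realizable.
-/

set_option autoImplicit false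

namespace CfsgLib.Fusion

open Cfsg Cfsg.FusionSystem

section Fix

variable {V : Type*} [Group V] {p : ℕ}

/-- The automorphisms centralising `Z` and stabilising each coset of `Z`. -/
def stabSeries (Z : Subgroup V) : Subgroup (MulAut V) where
  carrier := {h | (∀ z ∈ Z, h z = z) ∧ ∀ v, h v * v⁻¹ ∈ Z}
  one_mem' := ⟨fun _ _ => rfl, fun v => by simp⟩
  mul_mem' := by
    rintro a b ⟨ha, ha'⟩ ⟨hb, hb'⟩
    refine ⟨fun z hz => by rw [MulAut.mul_apply, hb z hz, ha z hz], fun v => ?_⟩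
    have h : a (b v) * v⁻¹ = (a (b v) * (b v)⁻¹) * (b v * v⁻¹) := by group
    rw [MulAut.mul_apply, h]
    exact Z.mul_mem (ha' _) (hb' v)
  inv_mem' := by
    rintro a ⟨ha, ha'⟩
    refine ⟨fun z hz => ?_, fun v => ?_⟩
    · conv_lhs => rw [← ha z hz]
      exact MulAut.inv_apply_self _ _ _
    · have h := ha' (a⁻¹ v)
      rw [MulAut.apply_inv_self] at h
      have h' : a⁻¹ v * v⁻¹ = (v * (a⁻¹ v)⁻¹)⁻¹ := by group
      rw [h']
      exact Z.inv_mem h

theorem mem_stabSeries {Z : Subgroup V} {h : MulAut V} :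
    h ∈ stabSeries Z ↔ (∀ z ∈ Z, h z = z) ∧ ∀ v, h v * v⁻¹ ∈ Z := Iff.rfl

theorem isPGroup_stabSeries [Fact p.Prime] [Finite V] {Z : Subgroup V} (hZ : IsPGroup p Z) :
    IsPGroup p (stabSeries Z) := by
  rintro ⟨h, hh, hh'⟩
  have key : ∀ (m : ℕ) (v : V), (h ^ m) v = (h v * v⁻¹) ^ m * v := by
    intro m v
    induction m with
    | zero => simp
    | succ m ih =>
      rw [pow_succ' h, MulAut.mul_apply, ih, map_mul, map_pow, hh _ (hh' v), pow_succ,
        mul_assoc, inv_mul_cancel_right]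
  obtain ⟨n, hn⟩ := IsPGroup.iff_card.1 hZ
  refine ⟨n, Subtype.ext (MulEquiv.ext fun v => ?_)⟩
  rw [SubmonoidClass.coe_pow, key]
  have : (⟨_, hh' v⟩ : Z) ^ p ^ n = 1 := by rw [← hn]; exact pow_card_eq_one'
  have h1 : (h v * v⁻¹) ^ p ^ n = 1 := congrArg Subtype.val this
  rw [h1, one_mul]
  rfl

/-- An element mapping `Z` to itself normalises a Sylow subgroup stabilising the series. -/
theorem conj_mem_of_map_eq [Fact p.Prime] [Finite V] {Z : Subgroup V} (hZ : IsPGroup p Z)
    {H U : Subgroup (MulAut V)} (hU : U ≤ stabSeries Z) (hUH : U ≤ H)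
    (hmax : ∀ K : Subgroup (MulAut V), IsPGroup p K → U ≤ K → K ≤ H → K = U)
    {a : MulAut V} (ha : a ∈ H) (haZ : ∀ z ∈ Z, a z ∈ Z) {u : MulAut V} (hu : u ∈ U) :
    a * u * a⁻¹ ∈ U := by
  have haZ' : ∀ z ∈ Z, a⁻¹ z ∈ Z := by
    have hmap : Z.map a.toMonoidHom = Z := Subgroup.eq_of_le_of_card_ge
      (by rintro _ ⟨z, hz, rfl⟩; exact haZ z hz)
      (le_of_eq (Subgroup.card_map_of_injective a.injective).symm)
    intro z hz
    obtain ⟨w, hw, rfl⟩ := hmap.ge hz
    show a⁻¹ (a w) ∈ Z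
    rwa [MulAut.inv_apply_self]
  have hmem : a * u * a⁻¹ ∈ stabSeries Z ⊓ H := by
    refine ⟨⟨fun z hz => ?_, fun v => ?_⟩, H.mul_mem (H.mul_mem ha (hUH hu)) (H.inv_mem ha)⟩
    · rw [MulAut.mul_apply, MulAut.mul_apply, (hU hu).1 _ (haZ' z hz), MulAut.apply_inv_self]
    · have h := haZ _ ((hU hu).2 (a⁻¹ v))
      rw [map_mul, map_inv, MulAut.apply_inv_self] at h
      exact h
  rwa [hmax _ ((isPGroup_stabSeries hZ).to_le inf_le_left) (le_inf hU hUH) inf_le_right] at hmem

/-- A Sylow subgroup `U` of order at least `|Z|` of an automorphism group, stabilising `1 ≤ Z ≤ V`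
and fixing nothing outside `Z`, is normal as soon as `Z` contains a nontrivial invariant subgroup. -/
theorem conj_mem_of_invariant [Fact p.Prime] [Finite V] {Z W₀ : Subgroup V} (hZ : IsPGroup p Z)
    {H U : Subgroup (MulAut V)} (hU : U ≤ stabSeries Z) (hUH : U ≤ H)
    (hmax : ∀ K : Subgroup (MulAut V), IsPGroup p K → U ≤ K → K ≤ H → K = U)
    (hfix : ∀ u ∈ U, ∀ v, u v = v → v ∉ Z → u = 1) (hcard : Nat.card Z ≤ Nat.card U)
    (hne : W₀ ≠ ⊥) (hW : W₀ ≤ Z) (hinv : ∀ a ∈ H, ∀ w ∈ W₀, a w ∈ W₀)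
    {a : MulAut V} (ha : a ∈ H) {u : MulAut V} (hu : u ∈ U) : a * u * a⁻¹ ∈ U := by
  classical
  refine conj_mem_of_map_eq hZ hU hUH hmax ha ?_ hu
  by_contra hbad
  let Bad : MulAut V → Prop := fun b => b ∈ H ∧ ¬ ∀ z ∈ Z, b z ∈ Z
  haveI : Finite (MulAut V) :=
    Finite.of_injective (fun e : MulAut V => (e : V → V)) DFunLike.coe_injective
  haveI : Nonempty {b // Bad b} := ⟨⟨a, ha, hbad⟩⟩
  obtain ⟨⟨b, hbH, hbZ⟩, hbmax⟩ := Finite.exists_max
    (fun b : {b // Bad b} => Nat.card (Z ⊓ Z.map b.1.toMonoidHom : Subgroup V))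
  obtain ⟨z, hz, hzb⟩ : ∃ z ∈ Z, b z ∉ Z := by push_neg at hbZ; exact hbZ
  obtain ⟨w, hw, hw1⟩ := Subgroup.ne_bot_iff_exists_ne_one.1 hne |> fun ⟨⟨w, hw⟩, h⟩ =>
    (⟨w, hw, fun e => h (Subtype.ext e)⟩ : ∃ w, w ∈ W₀ ∧ w ≠ 1)
  have hwb : w ∈ Z.map b.toMonoidHom := by
    refine ⟨b⁻¹ w, hW (hinv _ (H.inv_mem hbH) w hw), ?_⟩
    exact MulAut.apply_inv_self _ _ _
  -- `U` moves `b z` by every element of `Z`
  let f : U → Z := fun x => ⟨(x : MulAut V) (b z) * (b z)⁻¹, (hU x.2).2 _⟩
  have hfinj : Function.Injective f := by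
    intro x y hxy
    have h : (x : MulAut V) (b z) = (y : MulAut V) (b z) :=
      mul_right_cancel (congrArg Subtype.val hxy)
    have h1 := hfix _ (U.mul_mem (U.inv_mem x.2) y.2) (b z) (by
      rw [MulAut.mul_apply, ← h, MulAut.inv_apply_self]) hzb
    exact Subtype.ext (inv_mul_eq_one.1 h1)
  have hfsurj := (Nat.bijective_iff_injective_and_card f).2
    ⟨hfinj, le_antisymm (Nat.card_le_card_of_injective f hfinj) hcard⟩
  obtain ⟨⟨c, hc⟩, hcw⟩ := hfsurj.2 ⟨w, hW hw⟩
  have hcw' : c (b z) = w * b z := by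
    have := congrArg Subtype.val hcw
    exact eq_mul_of_mul_inv_eq this
  -- conjugating gives a larger intersection
  have hd : b⁻¹ * c * b ∈ H := H.mul_mem (H.mul_mem (H.inv_mem hbH) (hUH hc)) hbH
  have hdbad : Bad (b⁻¹ * c * b) := by
    refine ⟨hd, fun hall => ?_⟩
    have hcb : b⁻¹ * c * b ∈ U := by
      -- it normalises `U` and is a `p`-element
      set d := b⁻¹ * c * b with hddef
      have hnorm : ∀ x ∈ U, d * x * d⁻¹ ∈ U := fun x hx =>
        conj_mem_of_map_eq hZ hU hUH hmax hd hall hx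
      have hdp : IsPGroup p (Subgroup.zpowers d) := by
        rintro ⟨_, k, rfl⟩
        obtain ⟨m, hm⟩ := isPGroup_stabSeries hZ ⟨c, hU hc⟩
        refine ⟨m, Subtype.ext ?_⟩
        have hm' : c ^ p ^ m = 1 := congrArg Subtype.val hm
        show (d ^ k) ^ p ^ m = 1
        have : d ^ p ^ m = 1 := by
          rw [hddef, show b⁻¹ * c * b = MulAut.conj b⁻¹ c by simp, ← map_pow, hm', map_one]
        rw [← zpow_natCast, ← zpow_mul, mul_comm, zpow_mul, zpow_natCast, this, one_zpow]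
      have hle : Subgroup.zpowers d ≤ Subgroup.normalizer (U : Set (MulAut V)) := by
        rw [Subgroup.zpowers_le]
        refine Subgroup.mem_normalizer_iff.2 fun x => ⟨hnorm x, fun hx => ?_⟩
        have hUd : U.map (MulAut.conj d).toMonoidHom = U := Subgroup.eq_of_le_of_card_ge
          (by rintro _ ⟨y, hy, rfl⟩; exact hnorm y hy)
          (le_of_eq (Subgroup.card_map_of_injective (MulAut.conj d).injective).symm)
        obtain ⟨y, hy, hyx⟩ := hUd.ge hx
        obtain rfl : y = x := (MulAut.conj d).injective hyx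
        exact hy
      have hK := hmax _ ((IsPGroup.to_sup_of_normal_right'
        hdp ((isPGroup_stabSeries hZ).to_le hU) hle)) le_sup_right
        (sup_le (Subgroup.zpowers_le.2 hd) hUH)
      exact hK.le (Subgroup.mem_sup_left (Subgroup.mem_zpowers d))
    have h := (hU hcb).1 z hz
    rw [MulAut.mul_apply, MulAut.mul_apply, hcw', map_mul, MulAut.inv_apply_self] at h
    have h' : b⁻¹ w = 1 := mul_eq_right.1 h
    exact hw1 (by simpa using congrArg b h')
  have hlt : (Z ⊓ Z.map b.toMonoidHom : Subgroup V).map b⁻¹.toMonoidHom <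
      Z ⊓ Z.map (b⁻¹ * c * b).toMonoidHom := by
    refine lt_of_le_of_ne ?_ ?_
    · rintro _ ⟨y, ⟨hy, t, ht, rfl⟩, rfl⟩
      have htb : b⁻¹ (b t) = t := MulAut.inv_apply_self _ _ _
      refine ⟨?_, t, ht, ?_⟩
      · show b⁻¹ (b t) ∈ Z
        rw [htb]; exact ht
      · show (b⁻¹ * c * b) t = b⁻¹ (b t)
        rw [MulAut.mul_apply, MulAut.mul_apply]; exact congrArg _ ((hU hc).1 _ hy)
    · intro heq
      have hmem : b⁻¹ (w * b z) ∈ Z ⊓ Z.map (b⁻¹ * c * b).toMonoidHom := by
        refine ⟨?_, z, hz, ?_⟩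
        · rw [map_mul, MulAut.inv_apply_self]
          exact Z.mul_mem (hW (hinv _ (H.inv_mem hbH) w hw)) hz
        · show (b⁻¹ * c * b) z = _
          rw [MulAut.mul_apply, MulAut.mul_apply, hcw']
      rw [← heq] at hmem
      obtain ⟨y, hy, hyw⟩ := hmem
      obtain rfl : y = w * b z := b⁻¹.injective hyw
      exact hzb ((Z.mul_mem_cancel_left (hW hw)).1 hy.1)
  have h1 := hbmax ⟨_, hdbad⟩
  have h2 : Nat.card (Z ⊓ Z.map b.toMonoidHom : Subgroup V) <
      Nat.card (Z ⊓ Z.map (b⁻¹ * c * b).toMonoidHom : Subgroup V) := by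
    refine lt_of_eq_of_lt (Nat.card_congr (Subgroup.equivMapOfInjective _ b⁻¹.toMonoidHom
      (show Function.Injective b⁻¹.toMonoidHom from b⁻¹.injective)).toEquiv) ?_
    by_contra hge
    exact hlt.ne (Subgroup.eq_of_le_of_card_ge hlt.le (not_lt.1 hge))
  exact absurd h1 (not_le.2 h2)

end Fix

universe u

variable {Ω : Type u} [Group Ω] {S : Subgroup Ω} {F : FusionSystem S} {p q : ℕ}

/-- The data of a group of order `q³` with commuting lines. -/
structure LineGroup (G : Type*) [Group G] (q : ℕ) : Prop where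
  card : Nat.card G = q ^ 3
  card_center : Nat.card (Subgroup.center G) = q
  comm : ∀ a b : G, a * b * a⁻¹ * b⁻¹ ∈ Subgroup.center G
  card_centralizer : ∀ x : G, x ∉ Subgroup.center G →
    Nat.card (Subgroup.centralizer ({x} : Set G)) = q ^ 2
  abelian : ∀ x a b : G, x ∉ Subgroup.center G → a * x = x * a → b * x = x * b → a * b = b * a

theorem LineGroup.congr {G G' : Type*} [Group G] [Group G'] (e : G ≃* G') (h : LineGroup G' q) :
    LineGroup G q := by
  have hc : ∀ x : G, e x ∈ Subgroup.center G' ↔ x ∈ Subgroup.center G := by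
    intro x
    rw [Subgroup.mem_center_iff, Subgroup.mem_center_iff]
    exact ⟨fun hx g => e.injective (by simpa using hx (e g)), fun hx g => by
      simpa using congrArg e (hx (e.symm g))⟩
  refine ⟨(Nat.card_congr e.toEquiv).trans h.card, ?_, fun a b => ?_, fun x hx => ?_,
    fun x a b hx ha hb => ?_⟩
  · exact (Nat.card_congr (e.toEquiv.subtypeEquiv fun x => (hc x).symm)).trans h.card_center
  · rw [← hc]; simpa using h.comm (e a) (e b)
  · refine (Nat.card_congr (e.toEquiv.subtypeEquiv fun g => ?_)).trans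
      (h.card_centralizer (e x) (fun h' => hx ((hc x).1 h')))
    show g ∈ Subgroup.centralizer {x} ↔ e g ∈ Subgroup.centralizer {e x}
    rw [Subgroup.mem_centralizer_singleton_iff, Subgroup.mem_centralizer_singleton_iff, ← map_mul,
      ← map_mul, e.injective.eq_iff]
  · have h1 := h.abelian (e x) (e a) (e b) (fun h' => hx ((hc x).1 h'))
      (by rw [← map_mul, ha, map_mul]) (by rw [← map_mul, hb, map_mul])
    exact e.injective (by simpa using h1)

theorem LineGroup.two_le [Fact p.Prime] [Finite S] (hL : LineGroup S q) : 0 < q := by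
  rw [← hL.card_center]; exact Nat.card_pos

/-- An essential subgroup is the centraliser of any of its non-central elements. -/
theorem LineGroup.essential [Fact p.Prime] [Finite S] (hS : IsPGroup p S) (hF : F.IsSaturated p)
    (hL : LineGroup S q) {P : Subgroup Ω} (hP : F.IsEssential p P) :
    centerOf S ≤ P ∧ Nat.card P = q ^ 2 ∧ (∀ a ∈ P, ∀ b ∈ P, a * b = b * a) ∧
      ∀ x ∈ P, x ∉ centerOf S → ∀ g, g ∈ P ↔ g ∈ S ∧ g * x = x * g := by
  have hPS : P ≤ S := hP.1.1
  have hC := hP.1.2 P (isConj_refl hPS)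
  have hZP : centerOf S ≤ P := fun z hz => hC (mem_centralizerIn.2 ⟨centerOf_le S hz, fun x hx =>
    centerOf_comm hz (hPS hx)⟩)
  have hcomm : ∀ a ∈ S, ∀ b ∈ S, a * b * a⁻¹ * b⁻¹ ∈ centerOf S := fun a ha b hb =>
    (mem_centerOf_iff _).2 (hL.comm ⟨a, ha⟩ ⟨b, hb⟩)
  have hne := isEssential_ne_self hS hF hP
  have habP : ∀ a ∈ P, ∀ b ∈ P, a * b = b * a := by
    by_contra! hnab
    obtain ⟨a, ha, b, hb, hab⟩ := hnab
    -- the centre of `P` is that of `S`
    have hcen : ∀ c ∈ P, (∀ x ∈ P, x * c = c * x) → c ∈ centerOf S := by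
      intro c hc hcc
      by_contra hcZ
      refine hab (congrArg Subtype.val (hL.abelian ⟨c, hPS hc⟩ ⟨a, hPS ha⟩ ⟨b, hPS hb⟩
        (fun h => hcZ ((mem_centerOf_iff _).2 h)) (Subtype.ext (hcc a ha)) (Subtype.ext (hcc b hb))))
    apply hne
    refine le_antisymm hPS fun g hg => ?_
    have hgN : g ∈ Subgroup.normalizer (P : Set Ω) := by
      refine Subgroup.mem_normalizer_iff.2 fun x => ⟨fun hx => ?_, fun hx => ?_⟩
      · have h : g * x * g⁻¹ = (g * x * g⁻¹ * x⁻¹) * x := by group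
        rw [h]
        exact P.mul_mem (hZP (hcomm g hg x (hPS hx))) hx
      · have hy := hPS hx
        have h : x = (g⁻¹ * (g * x * g⁻¹) * g⁻¹⁻¹ * (g * x * g⁻¹)⁻¹) * (g * x * g⁻¹) := by group
        rw [h]
        exact P.mul_mem (hZP (hcomm _ (S.inv_mem hg) _ hy)) hx
    let Z₁ : Subgroup P := (centerOf S).subgroupOf P
    have := finite_le hPS
    set N := (stabSeries Z₁).subgroupOf (F.autGroup P) with hN
    have hinvZ : ∀ b : MulAut P, ∀ z ∈ Z₁, b z ∈ Z₁ := fun b z hz => hcen _ (b z).2 fun x hx => by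
      have h : b.symm ⟨x, hx⟩ * z = z * b.symm ⟨x, hx⟩ :=
        Subtype.ext (centerOf_comm (show (z : Ω) ∈ centerOf S from hz) (hPS (b.symm ⟨x, hx⟩).2))
      have := congrArg (fun w => ((b w : P) : Ω)) h
      simpa using this
    have : N.Normal := by
      refine ⟨fun n hn b => ⟨fun z hz => ?_, fun v => ?_⟩⟩
      · show (b : MulAut P) ((n : MulAut P) ((b : MulAut P)⁻¹ z)) = z
        rw [(show (n : MulAut P) ∈ stabSeries Z₁ from hn).1 _ (hinvZ _ z hz), MulAut.apply_inv_self]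
      · have h := hinvZ (b : MulAut P) _
          ((show (n : MulAut P) ∈ stabSeries Z₁ from hn).2 ((b : MulAut P)⁻¹ v))
        rw [map_mul, map_inv, MulAut.apply_inv_self] at h
        exact h
    have hNp : IsPGroup p N := (isPGroup_stabSeries (hS.to_le (centerOf_le S) |>.to_le le_rfl
        |>.of_equiv (Subgroup.subgroupOfEquivOfLe hZP).symm)).comap_of_injective _
      Subtype.val_injective
    have hgs : g ∈ normalizerIn S P := ⟨hg, hgN⟩
    refine mem_of_conjAut_inn hP.1 ⟨g, hgs⟩ ?_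
    refine (isRadical_iff_le hS hPS).1 (IsEssential.isRadical hS hP) (Core.le_pCore hNp
      (show (⟨_, autInducedBy_le_autGroup hPS (conjAut_mem _)⟩ : F.autGroup P) ∈ N from ?_))
    refine ⟨fun z hz => Subtype.ext ?_, fun v => ?_⟩
    · show g * (z : Ω) * g⁻¹ = z
      rw [centerOf_comm (show (z : Ω) ∈ centerOf S from hz) hg, mul_inv_cancel_right]
    · exact hcomm g hg _ (hPS v.2)
  have hPne : ¬ P ≤ centerOf S := fun h => hne (le_antisymm hPS fun g hg =>
    hC (mem_centralizerIn.2 ⟨hg, fun x hx => (centerOf_comm (h hx) hg).symm⟩))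
  have hmain : ∀ x ∈ P, x ∉ centerOf S → ∀ g, g ∈ P ↔ g ∈ S ∧ g * x = x * g := by
    intro x hx hxZ g
    refine ⟨fun hg => ⟨hPS hg, habP g hg x hx⟩, fun ⟨hg, hgx⟩ => ?_⟩
    refine hC (mem_centralizerIn.2 ⟨hg, fun y hy => ?_⟩)
    exact congrArg Subtype.val (hL.abelian ⟨x, hPS hx⟩ ⟨y, hPS hy⟩ ⟨g, hg⟩
      (fun h => hxZ ((mem_centerOf_iff _).2 h)) (Subtype.ext (habP y hy x hx)) (Subtype.ext hgx))
  refine ⟨hZP, ?_, habP, hmain⟩
  obtain ⟨x, hx, hxZ⟩ := Set.not_subset.1 hPne
  rw [← hL.card_centralizer ⟨x, hPS hx⟩ fun h => hxZ ((mem_centerOf_iff _).2 h)]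
  refine (Nat.card_congr (Subgroup.subgroupOfEquivOfLe hPS).toEquiv).symm.trans
    (Nat.card_congr (Equiv.subtypeEquivRight fun g => ?_))
  show g ∈ P.subgroupOf S ↔ g ∈ Subgroup.centralizer {(⟨x, hPS hx⟩ : S)}
  rw [Subgroup.mem_subgroupOf, hmain x hx hxZ, Subgroup.mem_centralizer_singleton_iff, Subtype.ext_iff]
  exact ⟨fun h => h.2, fun h => ⟨g.2, h⟩⟩

/-- No nontrivial central subgroup is invariant under the automiser of an essential subgroup. -/
theorem LineGroup.not_invariant [Fact p.Prime] [Finite S] (hS : IsPGroup p S) (hF : F.IsSaturated p)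
    (hL : LineGroup S q) {P Q : Subgroup Ω} (hP : F.IsEssential p P) (hQ : Q ≤ centerOf S)
    (hinv : ∀ α ∈ F.autGroup P, (Q.subgroupOf P).map α.toMonoidHom = Q.subgroupOf P) : Q = ⊥ := by
  by_contra hne
  obtain ⟨hZP, hcard, hab, hmain⟩ := hL.essential hS hF hP
  have hPS := hP.1.1
  have := finite_le hPS
  have := finite_mulAut_of_le (S := S) hPS
  set H := F.autGroup P with hH
  set U := autInducedBy S P with hU
  set Z₁ := (centerOf S).subgroupOf P with hZ₁
  have hZp : IsPGroup p Z₁ := isPGroup_subgroupOf hZP (hS.to_le (centerOf_le S))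
  have hcomm : ∀ a ∈ S, ∀ b ∈ S, a * b * a⁻¹ * b⁻¹ ∈ centerOf S := fun a ha b hb =>
    (mem_centerOf_iff _).2 (hL.comm ⟨a, ha⟩ ⟨b, hb⟩)
  have hUs : U ≤ stabSeries Z₁ := by
    intro α hα
    obtain ⟨g, hg, h⟩ := mem_autInducedBy_iff.1 hα
    refine ⟨fun z hz => Subtype.ext ?_, fun v => ?_⟩
    · rw [h, centerOf_comm (show (z : Ω) ∈ centerOf S from hz) hg, mul_inv_cancel_right]
    · show ((α v : P) : Ω) * (v : Ω)⁻¹ ∈ centerOf S
      rw [h]; exact hcomm g hg _ (hPS v.2)
  have hfix : ∀ u ∈ U, ∀ v, u v = v → v ∉ Z₁ → u = 1 := by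
    intro u hu v huv hv
    obtain ⟨g, hg, h⟩ := mem_autInducedBy_iff.1 hu
    have hgv : g * (v : Ω) = (v : Ω) * g := by
      have := h v; rw [huv] at this
      exact (eq_mul_inv_iff_mul_eq.1 this).symm
    have hgP : g ∈ P := (hmain v v.2 hv g).2 ⟨hg, hgv⟩
    refine MulEquiv.ext fun y => Subtype.ext ?_
    rw [h, hab g hgP y y.2, mul_inv_cancel_right]
    rfl
  obtain ⟨-, R, hR⟩ := IsSaturated.fullyAutomized hS hF hP.2.1
  have hmax : ∀ K : Subgroup (MulAut P), IsPGroup p K → U ≤ K → K ≤ H → K = U := by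
    intro K hK hUK hKH
    refine le_antisymm (fun k hk => ?_) hUK
    have hle : (R : Subgroup H) ≤ K.subgroupOf H := by
      rw [hR]; exact fun x hx => hUK hx
    have heq := R.is_maximal' (isPGroup_subgroupOf hKH hK) hle
    have : (⟨k, hKH hk⟩ : H) ∈ (R : Subgroup H) := heq ▸ (show (⟨k, hKH hk⟩ : H) ∈ K.subgroupOf H from hk)
    rw [hR] at this
    exact this
  have hcU : Nat.card Z₁ ≤ Nat.card U := by
    rw [hZ₁, card_subgroupOf_eq hZP]
    have hN : normalizerIn S P = S := le_antisymm (normalizerIn_le P) fun g hg =>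
      ⟨hg, Subgroup.mem_normalizer_iff.2 fun x => by
        constructor
        · intro hx
          have h : g * x * g⁻¹ = (g * x * g⁻¹ * x⁻¹) * x := by group
          rw [h]
          exact P.mul_mem (hZP (hcomm g hg x (hPS hx))) hx
        · intro hx
          have hy := hPS hx
          have h : x = (g⁻¹ * (g * x * g⁻¹) * g⁻¹⁻¹ * (g * x * g⁻¹)⁻¹) * (g * x * g⁻¹) := by
            group
          rw [h]
          exact P.mul_mem (hZP (hcomm _ (S.inv_mem hg) _ hy)) hx⟩
    have hCP : centralizerIn S P = P := le_antisymm (hP.1.2 P (isConj_refl hPS))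
      fun x hx => mem_centralizerIn.2 ⟨hPS hx, fun y hy => hab y hy x hx⟩
    have h := card_normalizerIn (S := S) P
    rw [hN, hCP, hL.card, hcard, show q ^ 3 = q * q ^ 2 by ring] at h
    have hq : Nat.card (centerOf S) = q := by
      rw [← hL.card_center, ← Nat.card_congr (Subgroup.subgroupOfEquivOfLe (centerOf_le S)).toEquiv]
      exact Nat.card_congr (Equiv.subtypeEquivRight fun x => mem_centerOf_iff x)
    rw [hq]
    have := finite_le (centerOf_le S)
    have hq0 : 0 < q := by rw [← hq]; exact Nat.card_pos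
    exact le_of_eq (Nat.eq_of_mul_eq_mul_right (by positivity) h)
  have hW : Q.subgroupOf P ≠ ⊥ := fun h => hne (by
    rw [Subgroup.subgroupOf_eq_bot, disjoint_iff, inf_eq_left.2 (hQ.trans hZP)] at h; exact h)
  have hnorm : ∀ a ∈ H, ∀ u ∈ U, a * u * a⁻¹ ∈ U := fun a ha u hu =>
    conj_mem_of_invariant hZp hUs (autInducedBy_le_autGroup hPS) hmax hfix hcU hW
      (fun x hx => hQ hx) (fun b hb w hw => (hinv b hb).le ⟨w, hw, rfl⟩) ha hu
  have hUn : (U.subgroupOf H).Normal := ⟨fun u hu b => hnorm b b.2 _ hu⟩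
  obtain ⟨g, hg, hgP⟩ := exists_mem_normalizerIn_not_mem hS
    (lt_of_le_of_ne hPS (isEssential_ne_self hS hF hP))
  refine hgP (mem_of_conjAut_inn hP.1 ⟨g, hg⟩ ?_)
  exact (isRadical_iff_le hS hPS).1 (IsEssential.isRadical hS hP)
    (Core.le_pCore (isPGroup_subgroupOf (autInducedBy_le_autGroup hPS) (isPGroup_autInducedBy hS))
      (show (⟨_, autInducedBy_le_autGroup hPS (conjAut_mem _)⟩ : H) ∈ U.subgroupOf H from
        conjAut_mem (⟨g, hg⟩ : normalizerIn S P)))

/-- A system with nontrivial core over a group with commuting lines is realizable. -/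
theorem LineGroup.isRealizable [Fact p.Prime] [Finite S] (hS : IsPGroup p S) (hF : F.IsSaturated p)
    (hL : LineGroup S q) (hcore : F.core ≠ ⊥) : F.IsRealizable p := by
  obtain ⟨N, hN, hNc⟩ : ∃ N, F.IsNormal N ∧ F.IsCentric N := by
    have hQ : F.IsNormal F.core := core_isNormal
    by_cases hne : ∀ P, ¬ F.IsEssential p P
    · refine ⟨S, isNormal_of_invariant hS hF fun P hP => ?_, isCentric_self⟩
      obtain rfl : P = S := hP.resolve_right (hne P)
      exact ⟨le_rfl, fun α _ => by rw [Subgroup.subgroupOf_self]; exact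
        Subgroup.map_top_of_surjective _ α.surjective⟩
    · push Not at hne
      obtain ⟨P₀, hP₀⟩ := hne
      obtain ⟨hZ₀, -, -, hmain₀⟩ := hL.essential hS hF hP₀
      obtain ⟨x, hx, hxZ⟩ : ∃ x ∈ F.core, x ∉ centerOf S := by
        by_contra! hle
        exact hcore (hL.not_invariant hS hF hP₀ hle
          (IsNormal.invariant hS hF hQ P₀ (Or.inr hP₀)).2)
      have hxP : ∀ P, F.IsEssential p P → ∀ g, g ∈ P ↔ g ∈ S ∧ g * x = x * g := fun P hP =>
        (hL.essential hS hF hP).2.2.2 x ((IsNormal.invariant hS hF hQ P (Or.inr hP)).1 hx) hxZ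
      refine ⟨P₀, isNormal_of_invariant hS hF fun P hP => ?_, hP₀.1⟩
      rcases hP with rfl | hP
      · refine ⟨hP₀.1.1, fun α hα => map_subgroupOf_eq le_rfl ?_⟩
        rintro _ ⟨g, hg, rfl⟩
        set y := α ⟨x, core_le hx⟩ with hy
        have hycore : (y : Ω) ∈ F.core :=
          ((IsNormal.invariant hS hF hQ _ (Or.inl rfl)).2 α hα).le ⟨⟨x, core_le hx⟩, hx, rfl⟩
        have hyZ : (y : Ω) ∉ centerOf P := by
          intro h
          apply hxZ
          refine (mem_centerOf_iff ⟨x, core_le hx⟩).2 (Subgroup.mem_center_iff.2 fun w => ?_)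
          exact α.injective (by
            rw [map_mul, map_mul]; exact Subgroup.mem_center_iff.1 ((mem_centerOf_iff y).1 h) (α w))
        refine (hmain₀ _ ((IsNormal.invariant hS hF hQ P₀ (Or.inr hP₀)).1 hycore) hyZ _).2
          ⟨(α g).2, ?_⟩
        have h : g * ⟨x, core_le hx⟩ = ⟨x, core_le hx⟩ * g :=
          Subtype.ext ((hxP P₀ hP₀ _).1 hg).2
        have := congrArg (fun w => ((α w : P) : Ω)) h
        simpa using this
      · obtain rfl : P₀ = P := by
          ext g; rw [hxP P₀ hP₀, hxP P hP]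
        exact ⟨le_rfl, fun α _ => by rw [Subgroup.subgroupOf_self]; exact
          Subgroup.map_top_of_surjective _ α.surjective⟩
  obtain ⟨M, _, ι, hM⟩ := exists_model_of_normal_centric hS hF hN hNc
  obtain ⟨hfin, hreal, hT, -⟩ := hM
  exact ⟨M, inferInstance, hfin, ι, hreal, hT⟩

end CfsgLib.Fusion
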