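import Cfsg.Agent.Lib.Fusion.LineCentralizer
import Cfsg.Agent.Lib.PGroups.Suzuki.LinearThreeFour
import Cfsg.Agent.Lib.Classical.LinearOrder

/-!
# The unitriangular group of degree three has commuting lines
-/

set_option autoImplicit false

open scoped MatrixGroups

namespace CfsgLib.Fusion

open CfsgLib.PGroups.Suzuki (LinearThreeFour.el LinearThreeFour.el_mul LinearThreeFour.el_zero)

variable {K : Type*} [Field K] [Fintype K] {p : ℕ} [Fact p.Prime] [CharP K p]

omit [Fintype K] in
theorem el_injective {u v z u' v' z' : K}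
    (h : LinearThreeFour.el u v z = LinearThreeFour.el u' v' z') : u = u' ∧ v = v' ∧ z = z' := by
  have h' : (!![1, u, z; 0, 1, v; 0, 0, 1] : Matrix (Fin 3) (Fin 3) K) =
      !![1, u', z'; 0, 1, v'; 0, 0, 1] := congrArg Subtype.val h
  exact ⟨by simpa using congrFun (congrFun h' 0) 1, by simpa using congrFun (congrFun h' 1) 2,
    by simpa using congrFun (congrFun h' 0) 2⟩

theorem lineGroup_sl_three (T : Sylow p SL(3, K)) :
    LineGroup ↥(T : Subgroup SL(3, K)) (Fintype.card K) := by
  classical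
  let e : K × K × K → SL(3, K) := fun x => LinearThreeFour.el x.1 x.2.1 x.2.2
  have hemul : ∀ x y : K × K × K,
      e x * e y = e (x.1 + y.1, x.2.1 + y.2.1, x.2.2 + y.2.2 + x.1 * y.2.1) :=
    fun x y => LinearThreeFour.el_mul _ _ _ _ _ _
  have heinj : Function.Injective e := fun x y h => by
    obtain ⟨h1, h2, h3⟩ := el_injective h
    exact Prod.ext h1 (Prod.ext h2 h3)
  let U : Subgroup SL(3, K) :=
    { carrier := Set.range e
      one_mem' := ⟨(0, 0, 0), LinearThreeFour.el_zero⟩
      mul_mem' := by rintro _ _ ⟨x, rfl⟩ ⟨y, rfl⟩; exact ⟨_, (hemul x y).symm⟩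
      inv_mem' := by
        rintro _ ⟨x, rfl⟩
        refine ⟨(-x.1, -x.2.1, -x.2.2 + x.1 * x.2.1), eq_inv_of_mul_eq_one_left ?_⟩
        rw [hemul, ← LinearThreeFour.el_zero]
        show e _ = e (0, 0, 0)
        congr 1
        refine Prod.ext ?_ (Prod.ext ?_ ?_) <;> simp }
  let eU : K × K × K ≃ U := Equiv.ofInjective e heinj
  obtain ⟨n, hprime, hn⟩ := FiniteField.card K p
  set q := Fintype.card K with hq
  have hq2 : 2 ≤ q := Fintype.one_lt_card
  have hU : Nat.card U = q ^ 3 := by
    rw [← Nat.card_congr eU, Nat.card_prod, Nat.card_prod, Nat.card_eq_fintype_card]; ring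
  have hfac : (Nat.card SL(3, K)).factorization p = n * 3 := by
    have h1 := CfsgLib.Classical.card_SL (F := K) 3 (by norm_num)
    rw [← hq, Fin.prod_univ_three] at h1
    simp only [Fin.val_zero, Fin.val_one, Fin.val_two, pow_zero, pow_one] at h1
    obtain ⟨r, hr⟩ : ∃ r, q = r + 1 := ⟨q - 1, by omega⟩
    obtain ⟨b, hb⟩ : ∃ b, q ^ 2 = b + 1 := ⟨q ^ 2 - 1, by
      have : 1 ≤ q ^ 2 := Nat.one_le_pow _ _ (by omega)
      omega⟩
    obtain ⟨d, hd⟩ : ∃ d, q ^ 3 = d + 1 := ⟨q ^ 3 - 1, by
      have : 1 ≤ q ^ 3 := Nat.one_le_pow _ _ (by omega)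
      omega⟩
    have f1 : q ^ 3 - q = q * b := Nat.sub_eq_of_eq_add (by rw [pow_succ', hb]; ring)
    have f2 : q ^ 3 - q ^ 2 = q ^ 2 * r := Nat.sub_eq_of_eq_add (by rw [hr]; ring)
    rw [f1, f2, hd, Nat.add_sub_cancel, show q - 1 = r by omega] at h1
    have h5 : r * Nat.card SL(3, K) = p ^ ((n : ℕ) * 3) * (d * b * r) := by
      rw [h1, pow_mul, ← hn]; ring
    have hr0 : 0 < r := by omega
    have h6 : Nat.card SL(3, K) = p ^ ((n : ℕ) * 3) * (d * b) :=
      Nat.eq_of_mul_eq_mul_left hr0 (by rw [h5]; ring)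
    have hp1 := (Fact.out : p.Prime).one_lt
    have hpq : p ∣ q := hn ▸ dvd_pow_self p n.pos.ne'
    have hnd : ¬ p ∣ d := fun h => by
      have hh : p ∣ q ^ 3 := hpq.trans (dvd_pow_self q (by norm_num))
      rw [hd] at hh
      exact absurd (Nat.le_of_dvd one_pos ((Nat.dvd_add_right h).1 hh)) (by omega)
    have hnb : ¬ p ∣ b := fun h => by
      have hh : p ∣ q ^ 2 := hpq.trans (dvd_pow_self q (by norm_num))
      rw [hb] at hh
      exact absurd (Nat.le_of_dvd one_pos ((Nat.dvd_add_right h).1 hh)) (by omega)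
    have hdb : ¬ p ∣ d * b := (Fact.out : p.Prime).not_dvd_mul hnd hnb
    rw [h6, Nat.factorization_mul (pow_ne_zero _ (Fact.out : p.Prime).ne_zero)
      (fun h => hdb (by rw [h]; exact dvd_zero p)), Finsupp.add_apply, (Fact.out : p.Prime).factorization_pow,
      Finsupp.single_eq_same, Nat.factorization_eq_zero_of_not_dvd hdb, add_zero]
  let U' : Sylow p SL(3, K) := Sylow.ofCard U (by rw [hU, hfac, hn, pow_mul])
  suffices h : LineGroup U q from h.congr ((T.equiv U').trans (MulEquiv.subgroupCongr rfl))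
  have hcom : ∀ x y : K × K × K, eU x * eU y = eU y * eU x ↔ x.1 * y.2.1 = y.1 * x.2.1 := by
    intro x y
    rw [Subtype.ext_iff]
    show e x * e y = e y * e x ↔ _
    rw [hemul, hemul, heinj.eq_iff]
    simp only [Prod.mk.injEq]
    exact ⟨fun h => by linear_combination h.2.2, fun h => ⟨add_comm _ _, add_comm _ _,
      by linear_combination h⟩⟩
  have hcen : ∀ x, eU x ∈ Subgroup.center U ↔ x.1 = 0 ∧ x.2.1 = 0 := by
    intro x
    rw [Subgroup.mem_center_iff]
    constructor
    · intro h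
      have h1 := (hcom (1, 0, 0) x).1 (h _)
      have h2 := (hcom (0, 1, 0) x).1 (h _)
      simp at h1 h2
      exact ⟨h2.symm, h1⟩
    · rintro ⟨h1, h2⟩ g
      obtain ⟨y, rfl⟩ := eU.surjective g
      rw [hcom, h1, h2]; simp
  refine ⟨hU, ?_, fun a b => ?_, fun g hg => ?_, fun g a b hg ha hb => ?_⟩
  · let f : K ≃ Subgroup.center U :=
      { toFun := fun z => ⟨eU (0, 0, z), (hcen _).2 ⟨rfl, rfl⟩⟩
        invFun := fun g => (eU.symm g.1).2.2
        left_inv := fun z => by simp
        right_inv := fun ⟨g, hg⟩ => by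
          obtain ⟨x, rfl⟩ := eU.surjective g
          obtain ⟨h1, h2⟩ := (hcen x).1 hg
          refine Subtype.ext (congrArg eU ?_)
          simp only [Equiv.symm_apply_apply]
          exact Prod.ext h1.symm (Prod.ext h2.symm rfl) }
    rw [← Nat.card_congr f, Nat.card_eq_fintype_card]
  · obtain ⟨x, rfl⟩ := eU.surjective a
    obtain ⟨y, rfl⟩ := eU.surjective b
    have h : eU x * eU y * (eU x)⁻¹ * (eU y)⁻¹ = eU (0, 0, x.1 * y.2.1 - y.1 * x.2.1) := by
      rw [mul_inv_eq_iff_eq_mul, mul_inv_eq_iff_eq_mul]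
      refine Subtype.ext ?_
      show e x * e y = e _ * e y * e x
      rw [hemul, hemul, hemul]
      refine congrArg e (Prod.ext ?_ (Prod.ext ?_ ?_)) <;> simp <;> ring
    rw [h]
    exact (hcen _).2 ⟨rfl, rfl⟩
  · obtain ⟨x, rfl⟩ := eU.surjective g
    rw [hcen] at hg
    let f : K × K → Subgroup.centralizer ({eU x} : Set U) := fun tz =>
      ⟨eU (tz.1 * x.1, tz.1 * x.2.1, tz.2), by
        rw [Subgroup.mem_centralizer_singleton_iff, hcom]; ring⟩
    have hf : Function.Bijective f := by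
      constructor
      · rintro ⟨t, z⟩ ⟨t', z'⟩ h
        have := eU.injective (congrArg Subtype.val h)
        simp only [Prod.mk.injEq] at this ⊢
        rcases not_and_or.1 hg with h0 | h0
        · exact ⟨mul_right_cancel₀ h0 this.1, this.2.2⟩
        · exact ⟨mul_right_cancel₀ h0 this.2.1, this.2.2⟩
      · rintro ⟨g, hg'⟩
        obtain ⟨y, rfl⟩ := eU.surjective g
        rw [Subgroup.mem_centralizer_singleton_iff, hcom] at hg'
        rcases not_and_or.1 hg with h0 | h0
        · refine ⟨(y.1 / x.1, y.2.2), Subtype.ext (congrArg eU (Prod.ext ?_ (Prod.ext ?_ rfl)))⟩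
          · show y.1 / x.1 * x.1 = y.1
            field_simp
          · show y.1 / x.1 * x.2.1 = y.2.1
            field_simp
            linear_combination hg'
        · refine ⟨(y.2.1 / x.2.1, y.2.2), Subtype.ext (congrArg eU (Prod.ext ?_ (Prod.ext ?_ rfl)))⟩
          · show y.2.1 / x.2.1 * x.1 = y.1
            field_simp
            linear_combination -hg'
          · show y.2.1 / x.2.1 * x.2.1 = y.2.1
            field_simp
    rw [← Nat.card_eq_of_bijective f hf, Nat.card_prod, Nat.card_eq_fintype_card, pow_two]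
  · obtain ⟨x, rfl⟩ := eU.surjective g
    obtain ⟨y, rfl⟩ := eU.surjective a
    obtain ⟨z, rfl⟩ := eU.surjective b
    rw [hcen] at hg
    rw [hcom] at ha hb ⊢
    rcases not_and_or.1 hg with h0 | h0
    · exact mul_left_cancel₀ h0 (by linear_combination (z.1 * ha - y.1 * hb))
    · exact mul_left_cancel₀ h0 (by linear_combination (z.2.1 * ha - y.2.1 * hb))

end CfsgLib.Fusion
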