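import Cfsg.Agent.Lib.Fusion.TwoSylowCert

/-!
# Sylow 2-subgroup data for M11
-/

set_option autoImplicit false

namespace CfsgLib.Fusion

def g11 : List ℕ :=
  [713508038817093280236299335846412672, 840322336171952073106297466122548320, 716116665689140382005577299019772960, 645739522547615390072952519308774464]

def conjs11 : List (List ℕ) :=
  [[], [713508038817093280236299335846412672], [713508038817093280236299335846412672, 435330801119435435320198911181759040], [713508038817093280236299335846412672, 840322336171952073106297466122548320, 859801253374563838922762248489667136]]

def steps11 : List Cert.Step :=
  [Cert.dfltStep,
   ⟨false, false, some 1059, 0, [[713508038817093280236299335846412672]]⟩,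
   ⟨false, true, some 264, 0, [[840322336171952073106297466122548320, 840322336171952073106297466122548320], [840322336171952073106297466122548320]]⟩,
   ⟨false, false, some 547, 0, [[716116665689140382005577299019772960, 975718850453553687830466422727876992], [859801253374563838922762248489667136, 975718850453553687830466422727876992], [716116665689140382005577299019772960]]⟩]

def ops11 : List Cert.Op :=
  [.conj 713508038817093280236299335846412672 849902105454760600707937952856541312 975718850453553687830466422727876992,
   .conj 713508038817093280236299335846412672 712939933179187510772712302387956096 422342651126977408006835094951084128,
   .mul 975718850453553687830466422727876992 422342651126977408006835094951084128,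
   .conj 840322336171952073106297466122548320 313713677412939585369021052588504128 936702089662010969418003860511264000,
   .mul 975718850453553687830466422727876992 713508038817093280236299335846412672,
   .mul 975718850453553687830466422727876992 936702089662010969418003860511264000]

end CfsgLib.Fusion
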