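import Cfsg.Agent.Lib.Fusion.TwoSylowCert

/-!
# Sylow 2-subgroup data for M12
-/

set_option autoImplicit false

namespace CfsgLib.Fusion

def g12 : List ℕ :=
  [845644152782281121559550017587577122, 845928014986720888753639071069341984, 940226020202828804505008072745359747, 483764132979692398727233352118765952, 970254902120350598020240965873371168, 651240974335815021475531929428567041]

def conjs12 : List (List ℕ) :=
  [[], [845644152782281121559550017587577122], [845644152782281121559550017587577122, 845928014986720888753639071069341984], [845644152782281121559550017587577122, 845928014986720888753639071069341984, 487414887557705162895433086573481478], [845644152782281121559550017587577122, 845928014986720888753639071069341984, 487414887557705162895433086573481478, 944566443478193120172726627690809856], [845644152782281121559550017587577122, 984534199270930787501087034671562786, 940226020202828804505008072745359747, 859760697487166323109273112269559843, 970254902120350598020240965873371168]]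

def steps12 : List Cert.Step :=
  [Cert.dfltStep,
   ⟨false, false, some 1059, 0, [[845644152782281121559550017587577122]]⟩,
   ⟨false, true, some 18, 0, [[984534199270930787501087034671562786, 845928014986720888753639071069341984], [845928014986720888753639071069341984]]⟩,
   ⟨false, true, some 264, 0, [[940226020202828804505008072745359747, 940226020202828804505008072745359747], [940428911069985502649800873942715782, 940226020202828804505008072745359747], [940226020202828804505008072745359747]]⟩,
   ⟨false, false, some 547, 0, [[944566443478193120172726627690809856, 483480087715247111514928717152485762], [944282581274130478203221362370249218, 483480087715247111514928717152485762], [970296026880361490851444743752191270, 483480087715247111514928717152485762], [483764132979692398727233352118765952]]⟩,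
   ⟨true, true, some 18, 6, []⟩]

def ops12 : List Cert.Op :=
  [.conj 845644152782281121559550017587577122 721266773050040232254304787452272722 483480087715247111514928717152485762,
   .conj 845644152782281121559550017587577122 304648943324348694687810267776616483 970296026880361490851444743752191270,
   .conj 845644152782281121559550017587577122 808990971430482531780109976304419074 860206350567375858463251621658853666,
   .mul 860206350567375858463251621658853666 845644152782281121559550017587577122,
   .mul 970296026880361490851444743752191270 970254902120350598020240965873371168,
   .conj 984371538355503381028549848182295846 316021888411885855032081820941818115 434468986750690874689150370231755841,
   .mul 984371538355503381028549848182295846 845644152782281121559550017587577122,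
   .mul 984371538355503381028549848182295846 845684224442099286947910784466884643,
   .mul 970296026880361490851444743752191270 483480087715247111514928717152485762,
   .mul 984371538355503381028549848182295846 483480087715247111514928717152485762,
   .mul 984371538355503381028549848182295846 483520182881494485186228222550874627,
   .mul 434468986750690874689150370231755841 483480087715247111514928717152485762,
   .mul 970296026880361490851444743752191270 892241635841564143728736358659130569]

end CfsgLib.Fusion
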