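import Cfsg.Agent.Lib.Fusion.TwoSylowCert

/-!
# Sylow 2-subgroup data for M22
-/

set_option autoImplicit false

namespace CfsgLib.Fusion

def g22 : List ℕ :=
  [984481035417004622389629550076640288, 984230048376954736502601549567334432, 984683679202251656063076328997751072, 984070314313859978201607936991203360, 965894034220076612649064698059753920, 965995967454161196873229362941626400, 984112152782508392512400925293349920]

def conjs22 : List (List ℕ) :=
  [[], [984481035417004622389629550076640288], [984481035417004622389629550076640288, 984230048376954736502601549567334432], [984481035417004622389629550076640288, 984230048376954736502601549567334432, 984250132374674243132699426645261600], [984481035417004622389629550076640288, 984686412000481665237904396589909024, 984683679202251656063076328997751072, 984162850092731284903913895507863584], [984481035417004622389629550076640288, 984686412000481665237904396589909024, 984683679202251656063076328997751072, 984611608944022611027629565309005856, 966229000994910300695236236362287712], [984481035417004622389629550076640288, 984230048376954736502601549567334432, 984483373012258070472260851719051552, 984070314313859978201607936991203360, 966518988685051854327401906633288128, 966297670692917966245789555290656800]]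

def steps22 : List Cert.Step :=
  [Cert.dfltStep,
   ⟨true, false, some 547, 7, []⟩,
   ⟨true, true, none, 7, []⟩,
   ⟨false, true, some 274, 0, [[984250132374674243132699426645261600, 984683679202251656063076328997751072], [984483373012258070472260851719051552, 984683679202251656063076328997751072], [984683679202251656063076328997751072]]⟩,
   ⟨false, true, none, 0, [[984481035417004622389629550076640288], [984230048376954736502601549567334432], [984683679202251656063076328997751072], [984070314313859978201607936991203360]]⟩,
   ⟨false, false, some 274, 0, [[966431511085281601167111254842785216, 966229000994910300695236236362287712], [966238825142075966409119513126017472, 966229000994910300695236236362287712], [966229000994910300695236236362287712, 966229000994910300695236236362287712], [966621661259168465387720507479200192, 966229000994910300695236236362287712], [965894034220076612649064698059753920]]⟩,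
   ⟨false, false, some 547, 0, [[984237257649697655051896296252229056, 984696157558112865101038733610195392], [984473033808279762481138649031412160, 984696157558112865101038733610195392], [984683679202251656063076328997751072], [965915030115453094406733780417690912, 966627444533924040470946643212087584], [966429688416125693221214370123909408, 984473033808279762481138649031412160], [965995967454161196873229362941626400]]⟩]

def ops22 : List Cert.Op :=
  [.conj 984481035417004622389629550076640288 973822745475554944959832287899629152 984188218311738396460148637629553696,
   .conj 984481035417004622389629550076640288 966027261834816235162126538506405248 984696157558112865101038733610195392,
   .conj 984481035417004622389629550076640288 974299814141079266772843739979749056 984230048376954736502601549567334432,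
   .conj 984481035417004622389629550076640288 981793194010036730602381650124978304 984250132374674243132699426645261600,
   .conj 984481035417004622389629550076640288 984229615026425389056703704442411296 984162850092731284903913895507863584,
   .conj 984481035417004622389629550076640288 962547433089354164389763950376620448 966638655381185409036361429435295776,
   .mul 984250132374674243132699426645261600 984481035417004622389629550076640288,
   .mul 984230048376954736502601549567334432 984481035417004622389629550076640288,
   .mul 984162850092731284903913895507863584 984686412000481665237904396589909024,
   .mul 984696157558112865101038733610195392 966638655381185409036361429435295776,
   .mul 984162850092731284903913895507863584 966518988685051854327401906633288128,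
   .mul 966638655381185409036361429435295776 984162850092731284903913895507863584,
   .mul 984188218311738396460148637629553696 984481035417004622389629550076640288,
   .mul 984162850092731284903913895507863584 984650895008759490611503713509263392]

end CfsgLib.Fusion
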