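import Cfsg.Agent.Lib.Fusion.TwoSylowCert

/-!
# Sylow 2-subgroup data for M23
-/

set_option autoImplicit false

namespace CfsgLib.Fusion

def g23 : List ℕ :=
  [970285285274645343192414467267305511, 982143567379679476824158509974164515, 981534870870242420336850699331674144, 961081155278739309402447250079252514, 961494445003539029236835943679857952, 971582110291725965799410783885562912, 961875673706294720191284726435654692]

def conjs23 : List (List ℕ) :=
  [[], [970285285274645343192414467267305511], [970285285274645343192414467267305511, 982143567379679476824158509974164515], [970285285274645343192414467267305511, 982143567379679476824158509974164515, 971745024399500087173829244608907303], [970285285274645343192414467267305511, 971136310868396640088597594226530354, 981534870870242420336850699331674144, 975305504753937162849523616459066405], [970285285274645343192414467267305511, 982143567379679476824158509974164515, 981534870870242420336850699331674144, 975305504753937162849523616459066405, 983458987494387721318573892260403488], [970285285274645343192414467267305511, 982143567379679476824158509974164515, 970529264532314149074020507687556146, 980884827472156259368232678572891176, 981967278258231491847688594227724581, 982224612722533532765257419304015911]]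

def steps23 : List Cert.Step :=
  [Cert.dfltStep,
   ⟨true, false, some 547, 7, []⟩,
   ⟨true, true, none, 7, []⟩,
   ⟨false, true, some 274, 0, [[971745024399500087173829244608907303, 981534870870242420336850699331674144], [984574247637431012829222300483065891, 981534870870242420336850699331674144], [981534870870242420336850699331674144]]⟩,
   ⟨false, true, none, 0, [[970285285274645343192414467267305511], [982143567379679476824158509974164515], [981534870870242420336850699331674144], [961081155278739309402447250079252514]]⟩,
   ⟨false, false, some 274, 0, [[975689553097031133408272985364859171, 980957948760360786963109231127142691], [980512074790329147683732250167449895, 980957948760360786963109231127142691], [961048554011822109911615846100240690, 980957948760360786963109231127142691], [971839430829202859903789497318448422, 980957948760360786963109231127142691], [961494445003539029236835943679857952]]⟩,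
   ⟨false, false, some 547, 0, [[981534870870242420336850699331674144, 971745024399500087173829244608907303], [970529264532314149074020507687556146, 971745024399500087173829244608907303], [981534870870242420336850699331674144], [984564699405912736276225805116415272, 961413294436234981220762795257209127], [980552700384576265729720227443837216, 970448236288513747957784772254734368], [971582110291725965799410783885562912]]⟩]

def ops23 : List Cert.Op :=
  [.conj 970285285274645343192414467267305511 960603345961869989503884761914591755 971745024399500087173829244608907303,
   .conj 970285285274645343192414467267305511 975628284620116063972058053384458449 981980625727730331773979210101786674,
   .conj 970285285274645343192414467267305511 971532819918341288562768201154866278 970448236288513747957784772254734368,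
   .conj 970285285274645343192414467267305511 959787801212817153564668898784543015 983559487296617400067232961491388454,
   .conj 970285285274645343192414467267305511 958034090851566148255149246841041458 975324830235885707264894193849934112,
   .conj 970285285274645343192414467267305511 971860938452209751114757619815418176 965896535295497301090355755471252531,
   .mul 981980625727730331773979210101786674 970285285274645343192414467267305511,
   .mul 970448236288513747957784772254734368 971826079645874457397966097723957283,
   .mul 971745024399500087173829244608907303 970285285274645343192414467267305511,
   .mul 970448236288513747957784772254734368 981980625727730331773979210101786674,
   .mul 983559487296617400067232961491388454 971136310868396640088597594226530354,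
   .mul 970448236288513747957784772254734368 975324830235885707264894193849934112,
   .mul 970448236288513747957784772254734368 981534870870242420336850699331674144,
   .mul 965896535295497301090355755471252531 971745024399500087173829244608907303]

end CfsgLib.Fusion
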