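import Cfsg.Agent.Lib.Fusion.MathieuData11
import Cfsg.Agent.Lib.Fusion.MathieuData12
import Cfsg.Agent.Lib.Fusion.MathieuData22
import Cfsg.Agent.Lib.Fusion.MathieuData23
import Cfsg.Agent.Lib.Fusion.MathieuData24
import Cfsg.Agent.Lib.Sporadic.SporMathieu

/-!
# The 2-fusion systems of the Mathieu groups are simple
-/

set_option autoImplicit false

namespace CfsgLib.Fusion

open Cfsg CfsgLib.Sporadic
open scoped Pointwise

theorem fix_of_pget {σ : Equiv.Perm GolayPt} {p : ℕ} (hr : Rep σ p) (x : GolayPt)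
    (h : Nat.beq (pget p (ix x)) (ix x) = true) : σ ∈ MulAction.stabilizer (Equiv.Perm GolayPt) x := by
  rw [MulAction.mem_stabilizer_iff]
  exact ix_injective ((hr x).symm.trans (Nat.eq_of_beq_eq_true h))

theorem stab_of_mimg {σ : Equiv.Perm GolayPt} {p : ℕ} (hr : Rep σ p)
    (h : Nat.beq (mimg p stdD) stdD = true) :
    σ ∈ MulAction.stabilizer (Equiv.Perm GolayPt) Spor.squareDodecad := by
  rw [MulAction.mem_stabilizer_iff, squareDodecad_eq, smul_setOfMask hr, Nat.eq_of_beq_eq_true h]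

noncomputable def in24 (p : ℕ) : Bool := isAut p

noncomputable def in23 (p : ℕ) : Bool := isAut p && Nat.beq (pget p 23) 23

noncomputable def in22 (p : ℕ) : Bool := in23 p && Nat.beq (pget p 0) 0

noncomputable def in12 (p : ℕ) : Bool := isAut p && Nat.beq (mimg p stdD) stdD

noncomputable def in11 (p : ℕ) : Bool := in12 p && Nat.beq (pget p 0) 0

theorem in23_sound (p : ℕ) (h : in23 p = true) : ∃ σ ∈ Spor.M23, Rep σ p := by
  rw [in23, Bool.and_eq_true] at h
  obtain ⟨σ, hσ, hr⟩ := exists_mem_M24 h.1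
  exact ⟨σ, ⟨hσ, fix_of_pget hr none h.2⟩, hr⟩

theorem in22_sound (p : ℕ) (h : in22 p = true) : ∃ σ ∈ Spor.M22, Rep σ p := by
  rw [in22, Bool.and_eq_true] at h
  obtain ⟨σ, hσ, hr⟩ := in23_sound p h.1
  exact ⟨σ, ⟨hσ, fix_of_pget hr (some 0) h.2⟩, hr⟩

theorem in12_sound (p : ℕ) (h : in12 p = true) : ∃ σ ∈ Spor.M12, Rep σ p := by
  rw [in12, Bool.and_eq_true] at h
  obtain ⟨σ, hσ, hr⟩ := exists_mem_M24 h.1
  exact ⟨σ, ⟨hσ, stab_of_mimg hr h.2⟩, hr⟩

theorem in11_sound (p : ℕ) (h : in11 p = true) : ∃ σ ∈ Spor.M11, Rep σ p := by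
  rw [in11, Bool.and_eq_true] at h
  obtain ⟨σ, hσ, hr⟩ := in12_sound p h.1
  exact ⟨σ, ⟨hσ, fix_of_pget hr (some 0) h.2⟩, hr⟩

theorem chk11 : Cert.chk in11 g11 4 conjs11 steps11 ops11 = true := by decide +kernel

theorem chk12 : Cert.chk in12 g12 6 conjs12 steps12 ops12 = true := by decide +kernel

theorem chk22 : Cert.chk in22 g22 7 conjs22 steps22 ops22 = true := by decide +kernel

theorem chk23 : Cert.chk in23 g23 7 conjs23 steps23 ops23 = true := by decide +kernel

theorem chk24 : Cert.chk in24 g24 10 conjs24 steps24 ops24 = true := by decide +kernel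

theorem m11_twoFusion_simple (S : Sylow 2 Spor.M11) :
    (groupFusionSystem (S : Subgroup Spor.M11)).IsSimple 2 :=
  Cert.isSimple_of_chk in11_sound chk11 (m := 495) (by rw [card_sporM11]; norm_num) (by decide) S

theorem m12_twoFusion_simple (S : Sylow 2 Spor.M12) :
    (groupFusionSystem (S : Subgroup Spor.M12)).IsSimple 2 :=
  Cert.isSimple_of_chk in12_sound chk12 (m := 1485) (by rw [card_sporM12]; norm_num) (by decide) S

theorem m22_twoFusion_simple (S : Sylow 2 Spor.M22) :
    (groupFusionSystem (S : Subgroup Spor.M22)).IsSimple 2 :=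
  Cert.isSimple_of_chk in22_sound chk22 (m := 3465) (by rw [card_sporM22]; norm_num) (by decide) S

theorem m23_twoFusion_simple (S : Sylow 2 Spor.M23) :
    (groupFusionSystem (S : Subgroup Spor.M23)).IsSimple 2 :=
  Cert.isSimple_of_chk in23_sound chk23 (m := 79695) (by rw [card_sporM23]; norm_num) (by decide) S

theorem m24_twoFusion_simple (S : Sylow 2 Cfsg.M24) :
    (groupFusionSystem (S : Subgroup Cfsg.M24)).IsSimple 2 :=
  Cert.isSimple_of_chk (fun _ h => exists_mem_M24 h) chk24 (m := 239085)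
    (by rw [M24_card]; norm_num) (by decide) S

end CfsgLib.Fusion
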