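import Cfsg.Agent.Lib.ClassSizes.MaxClassPowers
import Cfsg.Agent.Lib.Core.Nilpotent

/-!
# Maximal class data from an ambient lower central series, centre and second centre
-/

set_option autoImplicit false

namespace CfsgLib.Fusion

open Subgroup CfsgLib.ClassSizes.MaxClass CfsgLib.PGroups.MaxClassRank
open scoped commutatorElement

/-- The lower central series of a subgroup is the image of that of the group it forms. -/
theorem map_lcs_subtype {Ω : Type*} [Group Ω] (S : Subgroup Ω) (k : ℕ) :
    ((⊤ : Subgroup S).lowerCentralSeries k).map S.subtype = Subgroup.lowerCentralSeries S k := by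
  rw [Subgroup.map_lowerCentralSeries, ← MonoidHom.range_eq_map, Subgroup.range_subtype]

/-- Maximal class, read off from the ambient lower central series. -/
theorem maxClassData {Ω : Type*} [Group Ω] {S : Subgroup Ω} [Finite S] {p n : ℕ} [Fact p.Prime]
    (hS : IsPGroup p S) (hn : Nat.card S = p ^ n) (h3 : 3 ≤ n)
    (hmax : Subgroup.lowerCentralSeries S (n - 2) ≠ ⊥) : Data S p n := by
  haveI := hS.isNilpotent
  refine Data.of h3 hn (le_antisymm (CfsgLib.Core.nilpotencyClass_le_of_card_eq_pow hn (by omega)) ?_)
  by_contra hlt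
  refine hmax ?_
  rw [← map_lcs_subtype, Subgroup.lowerCentralSeries_eq_bot_iff_nilpotencyClass_le.2 (by omega),
    Subgroup.map_bot]

variable {S : Type*} [Group S] [Finite S] {p n : ℕ}

local notation "L" => Subgroup.lowerCentralSeries (⊤ : Subgroup S)

/-- Elements with all commutators in `L t` lie in `L (t - 1)`. -/
theorem maxClass_mem_of_commutators (D : Data S p n) {t : ℕ} (h2 : 2 ≤ t) (ht : t ≤ n - 1) {z : S}
    (h : ∀ g : S, ⁅g, z⁆ ∈ L t) : z ∈ L (t - 1) := by
  suffices hk : ∀ j, 1 ≤ j → j ≤ t - 1 → z ∈ L j from hk (t - 1) (by omega) le_rfl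
  intro j hj
  induction j, hj using Nat.le_induction with
  | base =>
    intro _
    by_contra hz
    obtain ⟨y, hy⟩ := D.exists_partner hz
    exact hy (Subgroup.lowerCentralSeries_antitone _ h2 (h y))
  | succ j hj ih =>
    intro hjt
    by_contra hz
    refine D.twoStep_ne_top (j := j) (by omega) (eq_top_iff.2 fun g _ => ?_)
    refine D.mem_twoStep_of_commute hj (ih (by omega)) hz (mk_commute_iff.1 ?_)
    rw [← commutatorElement_inv]
    exact inv_mem (Subgroup.lowerCentralSeries_antitone _ (show j + 2 ≤ t by omega) (h g))

/-- The centre is the last nontrivial term of the lower central series. -/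
theorem maxClass_center_eq (D : Data S p n) : Subgroup.center S = L (n - 2) := by
  have hn := D.hn
  refine le_antisymm (fun z hz => ?_) fun z hz => Subgroup.mem_center_iff.2 fun g => ?_
  · have := maxClass_mem_of_commutators D (t := n - 1) (by omega) le_rfl (z := z) fun g => by
      rw [commutatorElement_eq_one_iff_mul_comm.2 (Subgroup.mem_center_iff.1 hz g)]
      exact one_mem _
    rwa [show n - 1 - 1 = n - 2 by omega] at this
  · have h : ⁅z, g⁆ ∈ L (n - 1) := by
      rw [show n - 1 = n - 2 + 1 by omega, Subgroup.lowerCentralSeries_succ]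
      exact Subgroup.commutator_mem_commutator hz (mem_top g)
    rw [D.hbot, Subgroup.mem_bot] at h
    exact (commutatorElement_eq_one_iff_mul_comm.1 h).symm

theorem maxClass_card_center (D : Data S p n) : Nat.card (Subgroup.center S) = p := by
  have hn := D.hn
  rw [maxClass_center_eq D, D.hser (n - 2) (by omega) (by omega), show n - 1 - (n - 2) = 1 by omega,
    pow_one]

/-- The second centre is the term of order `p ^ 2`. -/
theorem maxClass_ucs_two (D : Data S p n) (h4 : 4 ≤ n) :
    Subgroup.upperCentralSeries S 2 = L (n - 3) := by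
  refine le_antisymm (fun z hz => ?_) fun z hz => ?_
  · have := maxClass_mem_of_commutators D (t := n - 2) (by omega) (by omega) (z := z) fun g => by
      have h := Subgroup.mem_upperCentralSeries_succ_iff.1 hz g
      rw [Subgroup.upperCentralSeries_one, maxClass_center_eq D] at h
      rw [← commutatorElement_inv]
      exact inv_mem h
    rwa [show n - 2 - 1 = n - 3 by omega] at this
  · refine Subgroup.mem_upperCentralSeries_succ_iff.2 fun g => ?_
    rw [Subgroup.upperCentralSeries_one, maxClass_center_eq D, show n - 2 = n - 3 + 1 by omega,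
      Subgroup.lowerCentralSeries_succ]
    exact Subgroup.commutator_mem_commutator hz (mem_top g)

/-- Membership in the last two-step centralizer. -/
theorem maxClass_mem_twoStep_last (D : Data S p n) (h4 : 4 ≤ n) {s : S} :
    s ∈ twoStep (S := S) (n - 3) ↔ ∀ x ∈ L (n - 3), x * s = s * x := by
  rw [mem_twoStep, show n - 3 + 2 = n - 1 by omega, D.hbot]
  simp only [Subgroup.mem_bot, commutatorElement_eq_one_iff_mul_comm]

/-- A two-step centralizer has index `p`. -/
theorem maxClass_twoStep_index (D : Data S p n) {j : ℕ} (h1 : 1 ≤ j) (hj : j + 3 ≤ n) :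
    (twoStep (S := S) j).index = p := by
  haveI := Fact.mk D.prime
  obtain ⟨e, he⟩ := D.pgrp.index (twoStep (S := S) j)
  have h0 : e ≠ 0 := fun h => D.twoStep_ne_top hj (Subgroup.index_eq_one.1 (by rw [he, h, pow_zero]))
  refine le_antisymm (D.twoStep_index_le h1 hj) ?_
  rw [he]
  exact Nat.le_self_pow h0 p

end CfsgLib.Fusion
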