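import Cfsg.Agent.Lib.Fusion.MaxClassAmbient
import Cfsg.Agent.Lib.PGroups.PolyMap
import Cfsg.Agent.Lib.LocalEvenB.SmallEssential.Frame

/-!
# Groups of maximal class of order `p⁵`: generators and the action of automorphisms
-/

set_option autoImplicit false

namespace CfsgLib.Fusion.MaxClassFive

open Subgroup CfsgLib.ClassSizes.MaxClass CfsgLib.PGroups.MaxClassRank CfsgLib.Fusion
open scoped commutatorElement

section Bilin

variable {Q : Type*} [Group Q]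

theorem comm_mul_left {a b c : Q} (h : ⁅b, c⁆ ∈ center Q) : ⁅a * b, c⁆ = ⁅a, c⁆ * ⁅b, c⁆ := by
  rw [mem_center_iff.1 h ⁅a, c⁆]
  calc ⁅a * b, c⁆ = a * ⁅b, c⁆ * a⁻¹ * ⁅a, c⁆ := by simp only [commutatorElement_def]; group
    _ = ⁅b, c⁆ * ⁅a, c⁆ := by rw [mem_center_iff.1 h a, mul_inv_cancel_right]

theorem comm_mul_right {a b c : Q} (h : ⁅a, c⁆ ∈ center Q) : ⁅a, b * c⁆ = ⁅a, b⁆ * ⁅a, c⁆ := by
  calc ⁅a, b * c⁆ = ⁅a, b⁆ * (b * ⁅a, c⁆ * b⁻¹) := by simp only [commutatorElement_def]; group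
    _ = _ := by rw [mem_center_iff.1 h b, mul_inv_cancel_right]

theorem comm_zpow_left {a b : Q} (h : ⁅a, b⁆ ∈ center Q) (i : ℤ) : ⁅a ^ i, b⁆ = ⁅a, b⁆ ^ i := by
  induction i using Int.induction_on with
  | zero => simp
  | succ n ih => rw [zpow_add_one, zpow_add_one, comm_mul_left h, ih]
  | pred n ih =>
    have h1 := comm_mul_left (a := a ^ (-(n : ℤ) - 1)) h
    rw [← zpow_add_one, sub_add_cancel, ih] at h1
    rw [zpow_sub_one ⁅a, b⁆, h1, mul_inv_cancel_right]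

theorem comm_zpow_zpow {a b : Q} (h : ⁅a, b⁆ ∈ center Q) (i j : ℤ) :
    ⁅a ^ i, b ^ j⁆ = ⁅a, b⁆ ^ (i * j) := by
  have h' : ⁅b, a⁆ ∈ center Q := by rw [← commutatorElement_inv]; exact inv_mem h
  have h1 : ⁅a, b ^ j⁆ = ⁅a, b⁆ ^ j := by
    rw [← commutatorElement_inv (b ^ j), comm_zpow_left h', ← inv_zpow, commutatorElement_inv]
  rw [comm_zpow_left (h1 ▸ zpow_mem h j), h1, ← zpow_mul, mul_comm]

theorem comm_eq_one_of_center {a b : Q} (h : a ∈ center Q) : ⁅a, b⁆ = 1 ∧ ⁅b, a⁆ = 1 :=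
  ⟨commutatorElement_eq_one_iff_mul_comm.2 (mem_center_iff.1 h b).symm,
    commutatorElement_eq_one_iff_mul_comm.2 (mem_center_iff.1 h b)⟩

end Bilin

variable {G : Type*} [Group G] [Finite G] {p : ℕ} [hp : Fact p.Prime]

local notation "L" => Subgroup.lowerCentralSeries (⊤ : Subgroup G)

theorem L_comm (i j : ℕ) {a b : G} (ha : a ∈ L i) (hb : b ∈ L j) : ⁅a, b⁆ ∈ L (i + j + 1) :=
  PGroups.lowerCentralSeries_commutator_le i j (commutator_mem_commutator ha hb)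

theorem L_four (D : Data G p 5) : L 4 = ⊥ := D.hbot

theorem L_card (D : Data G p 5) {j : ℕ} (h1 : 1 ≤ j) (h4 : j ≤ 4) : Nat.card (L j) = p ^ (4 - j) :=
  D.hser j h1 (by omega)

/-- A power in a term with cyclic section below. -/
theorem L_index (D : Data G p 5) {j : ℕ} (h1 : 1 ≤ j) (h3 : j ≤ 3) {a : G} (ha : a ∈ L j)
    (ha' : a ∉ L (j + 1)) {i : ℤ} (hi : a ^ i ∈ L (j + 1)) : (p : ℤ) ∣ i := by
  by_contra hd
  obtain ⟨u, v, huv⟩ := (Nat.prime_iff_prime_int.1 hp.out).coprime_iff_not_dvd.2 hd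
  refine ha' ?_
  have hap : a ^ p ∈ L (j + 1) := by
    have hc := L_card D h1 (by omega)
    rw [show 4 - j = (4 - (j + 1)) + 1 by omega, pow_succ, ← L_card D (by omega) (by omega)] at hc
    have hidx : ((L (j + 1)).subgroupOf (L j)).index = p := by
      have := card_mul_index ((L (j + 1)).subgroupOf (L j))
      rw [Nat.card_congr (subgroupOfEquivOfLe (Subgroup.lowerCentralSeries_antitone _ (Nat.le_succ j))).toEquiv,
        hc] at this
      exact Nat.eq_of_mul_eq_mul_left Nat.card_pos this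
    have h := pow_index_mem ((L (j + 1)).subgroupOf (L j)) ⟨a, ha⟩
    rw [hidx] at h
    exact h
  rw [← zpow_one a, ← huv, zpow_add, zpow_mul', zpow_mul', zpow_natCast]
  exact mul_mem (zpow_mem hap u) (zpow_mem hi v)

/-- Generators of a group of maximal class of order `p⁵` and the commutator facts. -/
structure Gens (G : Type*) [Group G] [Finite G] (p : ℕ) (A : Subgroup G) (x s₁ : G) : Prop where
  data : Data G p 5
  idx : A.index = p
  hA : A = twoStep 1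
  hxA : x ∉ A
  hs₁ : s₁ ∈ A
  hs₁' : s₁ ∉ Subgroup.lowerCentralSeries (⊤ : Subgroup G) 1

variable {A : Subgroup G} {x s₁ : G}

theorem Gens.L_le (H : Gens G p A x s₁) : L 1 ≤ A := by
  rw [H.hA]
  exact fun b hb => mem_twoStep.2 fun a ha => L_comm 1 1 ha hb

theorem Gens.normal (H : Gens G p A x s₁) : A.Normal := by
  rw [H.hA, twoStep]; infer_instance

theorem Gens.cover_top (H : Gens G p A x s₁) (g : G) : ∃ a ∈ A, ∃ i : ℤ, g = a * x ^ i := by
  haveI := H.normal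
  have hc : Nat.card (G ⧸ A) = p := by rw [← index_eq_card, H.idx]
  obtain ⟨i, hi⟩ := mem_zpowers_iff.1 (mem_zpowers_of_prime_card hc
    (fun h => H.hxA ((QuotientGroup.eq_one_iff x).1 h) : QuotientGroup.mk' A x ≠ 1)
    (g' := QuotientGroup.mk' A g))
  refine ⟨g * (x ^ i)⁻¹, ?_, i, by rw [inv_mul_cancel_right]⟩
  rw [← QuotientGroup.eq_one_iff, ← QuotientGroup.mk'_apply, map_mul, map_inv, map_zpow, hi,
    mul_inv_cancel]

theorem Gens.cover_A (H : Gens G p A x s₁) {a : G} (ha : a ∈ A) : ∃ l ∈ L 1, ∃ i : ℤ, a = s₁ ^ i * l := by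
  have D := H.data
  have hAc : Nat.card A = p ^ 4 := by
    have := card_mul_index A
    rw [H.idx, D.hcard, pow_succ p 4] at this
    exact Nat.eq_of_mul_eq_mul_right hp.out.pos this
  haveI : (L 1).Normal := inferInstance
  have hle : zpowers s₁ ⊔ L 1 ≤ A := sup_le (zpowers_le.2 H.hs₁) H.L_le
  have heq : zpowers s₁ ⊔ L 1 = A := by
    refine eq_of_le_of_card_ge hle ?_
    have hlt : Nat.card (L 1) < Nat.card (zpowers s₁ ⊔ L 1 : Subgroup G) :=
      lt_of_le_of_ne (card_le_of_le le_sup_right) fun h => H.hs₁' (by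
        rw [eq_of_le_of_card_ge (le_sup_right : L 1 ≤ zpowers s₁ ⊔ L 1) h.ge]
        exact mem_sup_left (mem_zpowers s₁))
    obtain ⟨e, he, hec⟩ := (Nat.dvd_prime_pow hp.out).1 (hAc ▸ card_dvd_of_le hle)
    rw [L_card D le_rfl (by omega), hec] at hlt
    rw [hAc, hec]
    exact Nat.pow_le_pow_right hp.out.pos ((Nat.pow_lt_pow_iff_right hp.out.one_lt).1 hlt)
  obtain ⟨y, hy, l, hl, rfl⟩ := mem_sup_of_normal_right.1 (heq.ge ha)
  obtain ⟨i, rfl⟩ := mem_zpowers_iff.1 hy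
  exact ⟨l, hl, i, rfl⟩

/-- `[A, L₂] = 1`. -/
theorem Gens.comm_A_L2 (H : Gens G p A x s₁) {a b : G} (ha : a ∈ A) (hb : b ∈ L 2) : ⁅a, b⁆ = 1 := by
  have h4 := L_four H.data
  have key : ⁅⁅L 1, (⊤ : Subgroup G)⁆, A⁆ = ⊥ := by
    refine commutator_commutator_eq_bot_of_rotate ?_ ?_
    · rw [← le_bot_iff, ← h4]
      refine (commutator_mono (?_ : ⁅(⊤ : Subgroup G), A⁆ ≤ L 1) le_rfl).trans ?_
      · rw [Subgroup.top_lowerCentralSeries_one, _root_.commutator_def]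
        exact commutator_mono le_rfl le_top
      · refine commutator_le.2 fun u hu v hv => ?_
        obtain ⟨w, hw, hwv⟩ := SetLike.exists_of_lt (H.data.lt (j := 1) le_rfl (by omega))
        obtain ⟨u', hu', u'', hu'', rfl⟩ := mem_sup_of_normal_right.1 (H.data.cover le_rfl hw hwv hu)
        obtain ⟨v', hv', v'', hv'', rfl⟩ := mem_sup_of_normal_right.1 (H.data.cover le_rfl hw hwv hv)
        obtain ⟨i, rfl⟩ := mem_zpowers_iff.1 hu'
        obtain ⟨j, rfl⟩ := mem_zpowers_iff.1 hv'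
        rw [h4, mem_bot, commutatorElement_eq_one_iff_commute]
        have h12 : ∀ {a b : G}, a ∈ L 1 → b ∈ L 2 → Commute a b := fun {a b} ha hb =>
          commutatorElement_eq_one_iff_commute.1 (by
            have := L_comm 1 2 ha hb
            rwa [show 1 + 2 + 1 = 4 from rfl, h4, mem_bot] at this)
        exact (Commute.mul_right ((Commute.refl w).zpow_zpow i j) (h12 (zpow_mem hw i) hv'')).mul_left
          (Commute.mul_right (h12 (zpow_mem hw j) hu'').symm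
            (h12 (Subgroup.lowerCentralSeries_antitone _ (by omega) hu'') hv''))
    · rw [← le_bot_iff, ← h4, Subgroup.lowerCentralSeries_succ _ 3]
      refine commutator_mono ?_ le_rfl
      refine commutator_le.2 fun u hu v hv => ?_
      rw [← commutatorElement_inv]
      exact inv_mem (mem_twoStep.1 (H.hA ▸ hu) v hv)
  have : ⁅b, a⁆ ∈ ⁅⁅L 1, (⊤ : Subgroup G)⁆, A⁆ :=
    commutator_mem_commutator (by rwa [← Subgroup.lowerCentralSeries_succ]) ha
  rw [key, mem_bot] at this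
  rw [← commutatorElement_inv, this, inv_one]

theorem Gens.L3_center (H : Gens G p A x s₁) {b : G} (hb : b ∈ L 3) : b ∈ center G := by
  rw [maxClass_center_eq H.data]; exact hb

theorem Gens.s₂_not_mem (H : Gens G p A x s₁) : ⁅s₁, x⁆ ∉ L 2 := by
  intro h
  have hle : L 1 ≤ L 2 := by
    rw [Subgroup.top_lowerCentralSeries_one, _root_.commutator_def]
    refine SmallEssential.comm_le_of_gens (s := insert x (insert s₁ (L 1 : Set G)))
      (fun y _ => mem_top y) (fun y _ => ?_) (fun t _ y hy => (inferInstance : (L 2).Normal).conj_mem y hy t) ?_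
    · obtain ⟨a, ha, i, rfl⟩ := H.cover_top y
      obtain ⟨l, hl, j, rfl⟩ := H.cover_A ha
      exact mul_mem (mul_mem (zpow_mem (subset_closure (Set.mem_insert_of_mem _ (Set.mem_insert _ _))) j)
        (subset_closure (Set.mem_insert_of_mem _ (Set.mem_insert_of_mem _ hl))))
        (zpow_mem (subset_closure (Set.mem_insert _ _)) i)
    · have hr : ∀ l ∈ L 1, ∀ g : G, ⁅l, g⁆ ∈ L 2 := fun l hl g => by
        rw [Subgroup.lowerCentralSeries_succ _ 1]; exact commutator_mem_commutator hl (mem_top g)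
      have hl' : ∀ a b : G, ⁅a, b⁆ ∈ L 2 → ⁅b, a⁆ ∈ L 2 := fun a b hab => by
        rw [← commutatorElement_inv]; exact inv_mem hab
      rintro a (rfl | rfl | ha) b (rfl | rfl | hb)
      · rw [commutatorElement_self]; exact one_mem _
      · exact hl' _ _ h
      · exact hl' _ _ (hr _ hb _)
      · exact h
      · rw [commutatorElement_self]; exact one_mem _
      · exact hl' _ _ (hr _ hb _)
      · exact hr _ ha _
      · exact hr _ ha _
      · exact hr _ ha _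
  exact (H.data.lt (j := 1) le_rfl (by omega)).not_ge hle

theorem Gens.s₂_mem (H : Gens G p A x s₁) : ⁅s₁, x⁆ ∈ L 1 := by
  rw [Subgroup.top_lowerCentralSeries_one, _root_.commutator_def]
  exact commutator_mem_commutator (mem_top _) (mem_top _)

theorem Gens.s₃_mem (H : Gens G p A x s₁) : ⁅⁅s₁, x⁆, x⁆ ∈ L 2 := L_comm 1 0 H.s₂_mem (mem_top x)

theorem Gens.s₃_not_mem (H : Gens G p A x s₁) : ⁅⁅s₁, x⁆, x⁆ ∉ L 3 := fun h =>
  H.hxA (H.hA ▸ H.data.mem_twoStep_of_commute le_rfl H.s₂_mem H.s₂_not_mem (mk_commute_iff.1 h))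

theorem Gens.z_mem (H : Gens G p A x s₁) : ⁅⁅⁅s₁, x⁆, x⁆, x⁆ ∈ L 3 := L_comm 2 0 H.s₃_mem (mem_top x)

theorem Gens.z_not_one (H : Gens G p A x s₁) : ⁅⁅⁅s₁, x⁆, x⁆, x⁆ ≠ 1 := fun h => H.s₃_not_mem (by
  have hc : ⁅⁅s₁, x⁆, x⁆ ∈ center G := mem_center_iff.2 fun g => by
    obtain ⟨a, ha, i, rfl⟩ := H.cover_top g
    exact ((commutatorElement_eq_one_iff_commute.1 (H.comm_A_L2 ha H.s₃_mem)).mul_left
      ((commutatorElement_eq_one_iff_commute.1 h).symm.zpow_left i)).eq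
  rwa [maxClass_center_eq H.data] at hc)

theorem Gens.z_pow (H : Gens G p A x s₁) {i : ℤ} (h : ⁅⁅⁅s₁, x⁆, x⁆, x⁆ ^ i = 1) : (p : ℤ) ∣ i :=
  L_index H.data (j := 3) (by omega) le_rfl H.z_mem
    (fun h' => H.z_not_one (by rwa [show 3 + 1 = 4 from rfl, L_four H.data, mem_bot] at h'))
    (by rw [show 3 + 1 = 4 from rfl, L_four H.data, mem_bot]; exact h)

theorem Gens.comm_s (H : Gens G p A x s₁) :
    ∃ γ : ℤ, ⁅s₁, ⁅s₁, x⁆⁆ = ⁅⁅⁅s₁, x⁆, x⁆, x⁆ ^ γ := by
  have h3 : ⁅s₁, ⁅s₁, x⁆⁆ ∈ L 3 := by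
    rw [← commutatorElement_inv]; exact inv_mem (mem_twoStep.1 (H.hA ▸ H.hs₁) _ H.s₂_mem)
  have hz4 : ⁅⁅⁅s₁, x⁆, x⁆, x⁆ ∉ L 4 := fun h' => H.z_not_one (by rwa [L_four H.data, mem_bot] at h')
  have h := H.data.cover (j := 3) (by omega) H.z_mem hz4 h3
  rw [show 3 + 1 = 4 from rfl, L_four H.data, sup_bot_eq] at h
  obtain ⟨γ, hγ⟩ := mem_zpowers_iff.1 h
  exact ⟨γ, hγ.symm⟩

/-- If `[s₁, s₂] = 1` the two-step centralizer is abelian. -/
theorem Gens.abelian (H : Gens G p A x s₁) (h : ⁅s₁, ⁅s₁, x⁆⁆ = 1) : ∀ a ∈ A, ∀ b ∈ A, a * b = b * a := by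
  have hL1 : ∀ l ∈ L 1, ∀ m ∈ L 1, Commute l m := by
    intro l hl m hm
    obtain ⟨l', hl', l'', hl'', rfl⟩ := mem_sup_of_normal_right.1 (H.data.cover le_rfl H.s₂_mem H.s₂_not_mem hl)
    obtain ⟨m', hm', m'', hm'', rfl⟩ := mem_sup_of_normal_right.1 (H.data.cover le_rfl H.s₂_mem H.s₂_not_mem hm)
    obtain ⟨i, rfl⟩ := mem_zpowers_iff.1 hl'
    obtain ⟨j, rfl⟩ := mem_zpowers_iff.1 hm'
    have h12 : ∀ {a b : G}, a ∈ A → b ∈ L 2 → Commute a b := fun ha hb =>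
      commutatorElement_eq_one_iff_commute.1 (H.comm_A_L2 ha hb)
    have hs := fun k : ℤ => zpow_mem (H.L_le H.s₂_mem) k
    exact (Commute.mul_right ((Commute.refl _).zpow_zpow i j) (h12 (hs i) hm'')).mul_left
      (Commute.mul_right (h12 (hs j) hl'').symm
        (h12 (H.L_le (Subgroup.lowerCentralSeries_antitone _ (by omega) hl'')) hm''))
  have hs : ∀ l ∈ L 1, Commute s₁ l := by
    intro l hl
    obtain ⟨l', hl', l'', hl'', rfl⟩ := mem_sup_of_normal_right.1 (H.data.cover le_rfl H.s₂_mem H.s₂_not_mem hl)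
    obtain ⟨i, rfl⟩ := mem_zpowers_iff.1 hl'
    exact ((commutatorElement_eq_one_iff_commute.1 h).zpow_right i).mul_right
      (commutatorElement_eq_one_iff_commute.1 (H.comm_A_L2 H.hs₁ hl''))
  intro a ha b hb
  obtain ⟨l, hl, i, rfl⟩ := H.cover_A ha
  obtain ⟨m, hm, j, rfl⟩ := H.cover_A hb
  exact ((((Commute.refl s₁).zpow_zpow i j).mul_right ((hs m hm).zpow_left i)).mul_left
    (((hs l hl).symm.zpow_right j).mul_right (hL1 l hl m hm))).eq

set_option maxHeartbeats 800000 in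
/-- The weights of an automorphism. -/
theorem Gens.aut (H : Gens G p A x s₁) {γ : ℤ} (hγ : ⁅s₁, ⁅s₁, x⁆⁆ = ⁅⁅⁅s₁, x⁆, x⁆, x⁆ ^ γ)
    (τ : MulAut G) : ∃ k m : ℤ, τ s₁ * (s₁ ^ k)⁻¹ ∈ L 1 ∧
      τ ⁅⁅s₁, x⁆, x⁆ * (⁅⁅s₁, x⁆, x⁆ ^ (k * m ^ 2))⁻¹ ∈ L 3 ∧
      τ ⁅⁅⁅s₁, x⁆, x⁆, x⁆ = ⁅⁅⁅s₁, x⁆, x⁆, x⁆ ^ (k * m ^ 3) ∧
      (p : ℤ) ∣ γ * (k * m) * (k - m ^ 2) ∧ ¬ (p : ℤ) ∣ k * m := by
  haveI := H.normal
  set s₂ := ⁅s₁, x⁆ with hs₂
  set s₃ := ⁅s₂, x⁆ with hs₃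
  set z := ⁅s₃, x⁆ with hz
  have hτL : ∀ j, ∀ b ∈ L j, τ b ∈ L j := fun j b hb =>
    characteristic_iff_le_comap.1 inferInstance τ hb
  have hτA : ∀ b ∈ A, τ b ∈ A := fun b hb => by
    rw [H.hA] at hb ⊢
    refine mem_twoStep.2 fun y hy => ?_
    have := hτL 3 _ (mem_twoStep.1 hb (τ⁻¹ y) (characteristic_iff_le_comap.1 inferInstance τ⁻¹ hy))
    rwa [map_commutatorElement, MulAut.apply_inv_self] at this
  obtain ⟨a', ha', m, hm⟩ := H.cover_top (τ x)
  obtain ⟨l, hl, k, hk⟩ := H.cover_A (hτA s₁ H.hs₁)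
  refine ⟨k, m, ?_, ?_⟩
  · rw [hk]
    haveI : (L 1).Normal := inferInstance
    exact (inferInstance : (L 1).Normal).conj_mem l hl (s₁ ^ k)
  -- modulo `L 2`
  set q₂ := QuotientGroup.mk' (L 2) with hq₂
  have hc2 : ∀ u ∈ L 1, q₂ u ∈ center (G ⧸ L 2) := fun u hu => mem_center_iff.2 fun g => by
    obtain ⟨g, rfl⟩ := QuotientGroup.mk'_surjective (L 2) g
    exact (central_mod hu g).symm
  have hAA : ∀ u ∈ A, ∀ v ∈ A, ⁅u, v⁆ ∈ L 3 := by
    intro u hu v hv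
    obtain ⟨u', hu', i, rfl⟩ := H.cover_A hu
    obtain ⟨v', hv', j, rfl⟩ := H.cover_A hv
    set q := QuotientGroup.mk' (L 3)
    have hA1 : ∀ w ∈ A, ∀ r ∈ L 1, Commute (q w) (q r) := fun w hw r hr =>
      (mk_commute_iff.1 (mem_twoStep.1 (H.hA ▸ hw) r hr)).symm
    rw [← QuotientGroup.eq_one_iff, ← QuotientGroup.mk'_apply, map_commutatorElement,
      commutatorElement_eq_one_iff_commute, map_mul, map_mul, map_zpow, map_zpow]
    exact ((((Commute.refl (q s₁)).zpow_zpow i j).mul_right ((hA1 s₁ H.hs₁ v' hv').zpow_left i)).mul_left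
      (((hA1 s₁ H.hs₁ u' hu').symm.zpow_right j).mul_right (hA1 u' (H.L_le hu') v' hv')))
  have e2 : τ s₂ * (s₂ ^ (k * m))⁻¹ ∈ L 2 := by
    rw [← QuotientGroup.eq_one_iff, ← QuotientGroup.mk'_apply, map_mul, map_inv, mul_inv_eq_one,
      hs₂, map_commutatorElement, hm, hk, map_zpow, map_commutatorElement, map_commutatorElement,
      map_mul, map_mul, map_zpow, map_zpow]
    have hs2c : ⁅q₂ s₁, q₂ x⁆ ∈ center (G ⧸ L 2) := by
      rw [← map_commutatorElement]; exact hc2 _ H.s₂_mem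
    have h1 : ⁅q₂ s₁ ^ k, q₂ a'⁆ = 1 := by
      rw [← map_zpow, ← map_commutatorElement]
      exact (QuotientGroup.eq_one_iff _).2 (Subgroup.lowerCentralSeries_antitone _ (by omega)
        (hAA _ (zpow_mem H.hs₁ k) _ ha'))
    rw [comm_mul_left (by rw [(comm_eq_one_of_center (hc2 l hl)).1]; exact one_mem _),
      (comm_eq_one_of_center (hc2 l hl)).1, mul_one, comm_mul_right ?_, h1, one_mul, comm_zpow_zpow hs2c]
    rw [comm_zpow_zpow hs2c]; exact zpow_mem hs2c _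
  -- modulo `L 3`
  set q₃ := QuotientGroup.mk' (L 3) with hq₃
  have hc3 : ∀ u ∈ L 2, q₃ u ∈ center (G ⧸ L 3) := fun u hu => mem_center_iff.2 fun g => by
    obtain ⟨g, rfl⟩ := QuotientGroup.mk'_surjective (L 3) g
    exact (central_mod hu g).symm
  have hA13 : ∀ w ∈ A, ∀ r ∈ L 1, ⁅q₃ r, q₃ w⁆ = 1 := fun w hw r hr => by
    rw [← map_commutatorElement]
    exact (QuotientGroup.eq_one_iff _).2 (mem_twoStep.1 (H.hA ▸ hw) r hr)
  obtain ⟨v, hv, hv'⟩ : ∃ v ∈ L 2, τ s₂ = v * s₂ ^ (k * m) := ⟨_, e2, by rw [inv_mul_cancel_right]⟩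
  have e3 : τ s₃ * (s₃ ^ (k * m ^ 2))⁻¹ ∈ L 3 := by
    rw [← QuotientGroup.eq_one_iff, ← QuotientGroup.mk'_apply, map_mul, map_inv, mul_inv_eq_one,
      hs₃, map_commutatorElement, hm, hv', map_zpow, map_commutatorElement, map_commutatorElement,
      map_mul, map_mul, map_zpow, map_zpow]
    have hs3c : ⁅q₃ s₂, q₃ x⁆ ∈ center (G ⧸ L 3) := by
      rw [← map_commutatorElement]; exact hc3 _ H.s₃_mem
    have h1 : ⁅q₃ s₂ ^ (k * m), q₃ a'⁆ = 1 := by
      rw [← map_zpow]; exact hA13 _ ha' _ (zpow_mem H.s₂_mem _)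
    have hb : ⁅q₃ s₂ ^ (k * m), q₃ a' * q₃ x ^ m⁆ = ⁅q₃ s₂, q₃ x⁆ ^ (k * m ^ 2) := by
      rw [comm_mul_right (by rw [comm_zpow_zpow hs3c]; exact zpow_mem hs3c _), h1, one_mul,
        comm_zpow_zpow hs3c]
      congr 1
      ring
    rw [comm_mul_left (by rw [hb]; exact zpow_mem hs3c _), (comm_eq_one_of_center (hc3 v hv)).1, one_mul, hb]
  obtain ⟨w, hw, hw'⟩ : ∃ w ∈ L 3, τ s₃ = w * s₃ ^ (k * m ^ 2) := ⟨_, e3, by rw [inv_mul_cancel_right]⟩
  have hzc : z ∈ center G := H.L3_center H.z_mem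
  have ez : τ z = z ^ (k * m ^ 3) := by
    rw [hz, map_commutatorElement, hm, hw']
    have h1 : ⁅s₃ ^ (k * m ^ 2), a'⁆ = 1 := by
      rw [← commutatorElement_inv, H.comm_A_L2 ha' (zpow_mem H.s₃_mem _), inv_one]
    have hb : ⁅s₃ ^ (k * m ^ 2), a' * x ^ m⁆ = ⁅s₃, x⁆ ^ (k * m ^ 3) := by
      rw [comm_mul_right (by rw [comm_zpow_zpow hzc]; exact zpow_mem hzc _), h1, one_mul,
        comm_zpow_zpow hzc]
      congr 1
      ring
    rw [comm_mul_left (by rw [hb]; exact zpow_mem hzc _),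
      (comm_eq_one_of_center (H.L3_center hw)).1, one_mul, hb]
  refine ⟨e3, ez, ?_, ?_⟩
  · have h := congrArg τ hγ
    rw [map_commutatorElement, map_zpow, ez, hk, hv', ← zpow_mul] at h
    have hl1 : ∀ r ∈ L 1, ⁅l, r⁆ = 1 := by
      intro r hr
      obtain ⟨l', hl', l'', hl'', rfl⟩ := mem_sup_of_normal_right.1 (H.data.cover le_rfl H.s₂_mem H.s₂_not_mem hl)
      obtain ⟨r', hr', r'', hr'', rfl⟩ := mem_sup_of_normal_right.1 (H.data.cover le_rfl H.s₂_mem H.s₂_not_mem hr)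
      obtain ⟨i, rfl⟩ := mem_zpowers_iff.1 hl'
      obtain ⟨j, rfl⟩ := mem_zpowers_iff.1 hr'
      rw [commutatorElement_eq_one_iff_commute]
      have h12 : ∀ {a b : G}, a ∈ A → b ∈ L 2 → Commute a b := fun ha hb =>
        commutatorElement_eq_one_iff_commute.1 (H.comm_A_L2 ha hb)
      have hs := fun k : ℤ => zpow_mem (H.L_le H.s₂_mem) k
      exact (Commute.mul_right ((Commute.refl _).zpow_zpow i j) (h12 (hs i) hr'')).mul_left
        (Commute.mul_right (h12 (hs j) hl'').symm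
          (h12 (H.L_le (Subgroup.lowerCentralSeries_antitone _ (by omega) hl'')) hr''))
    have hcγ : ⁅s₁, s₂⁆ ∈ center G := by rw [hγ]; exact zpow_mem hzc _
    have h2 : ⁅s₁ ^ k, v * s₂ ^ (k * m)⁆ = ⁅s₁, s₂⁆ ^ (k * (k * m)) := by
      rw [comm_mul_right (by rw [comm_zpow_zpow hcγ]; exact zpow_mem hcγ _),
        H.comm_A_L2 (zpow_mem H.hs₁ k) hv, one_mul, comm_zpow_zpow hcγ]
    rw [comm_mul_left (by rw [hl1 _ (mul_mem (Subgroup.lowerCentralSeries_antitone _ (by omega) hv)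
        (zpow_mem H.s₂_mem _))]; exact one_mem _),
      hl1 _ (mul_mem (Subgroup.lowerCentralSeries_antitone _ (by omega) hv) (zpow_mem H.s₂_mem _)),
      mul_one, h2, hγ, ← zpow_mul] at h
    have h3 := H.z_pow (i := γ * (k * (k * m)) - k * m ^ 3 * γ) (by
      rw [zpow_sub, h, mul_inv_cancel])
    rwa [show γ * (k * m) * (k - m ^ 2) = γ * (k * (k * m)) - k * m ^ 3 * γ by ring]
  · intro hd
    have h0 : z ^ (k * m ^ 3) = 1 := by
      obtain ⟨q, hq⟩ := hd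
      rw [show k * m ^ 3 = (p : ℤ) * (q * m ^ 2) by rw [← mul_assoc, ← hq]; ring, zpow_mul, zpow_natCast]
      have : z ^ p = 1 := by
        have h := pow_card_eq_one' (x := (⟨z, H.z_mem⟩ : L 3))
        rw [L_card H.data (by omega) (by omega), show 4 - 3 = 1 from rfl, pow_one] at h
        exact congrArg Subtype.val h
      rw [this, one_zpow]
    exact H.z_not_one (τ.injective (by rw [ez, h0, map_one]))

end CfsgLib.Fusion.MaxClassFive
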