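import Cfsg.Agent.Lib.Fusion.McLTwoData
import Cfsg.Agent.Lib.Fusion.MathieuSimple
import Cfsg.Agent.Lib.Sporadic.ConwaySmallStab
import Cfsg.Prelude.Def_Spor_Conway

/-!
# The 2-fusion system of the McLaughlin group is simple

A Sylow 2-subgroup of the subgroup `M22` is one of the whole group.
-/

set_option autoImplicit false

namespace CfsgLib.Fusion

open Cfsg CfsgLib.Sporadic CfsgLib.ThreeTrans.Leech CfsgLib.Sporadic.Lattice
open scoped Pointwise

theorem chkI22 : Cert.chkI in22 gI22 keysI22 7 conjsI22 stepsI22 opsI22 = true := by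
  decide +kernel

theorem keysI22_eq : keysI22 = (Cert.elems gI22 7).map (Cert.ikey (Cert.elems gI22 7)) := by
  decide +kernel

/-- `M22` sits in the stabilizer of the two standard vectors. -/
theorem exists_m22_hom_mcl :
    ∃ ι : Spor.M22 →* Conway.fixGroup [Conway.fiveElt, Conway.pairElt], Function.Injective ι := by
  have h24 : ∀ π : Spor.M22, (π : Equiv.Perm GolayPt) ∈ M24 := fun π => π.2.1.1
  have htwo : ∀ π : Spor.M22, (⟨_, h24 π⟩ : M24) ∈ Conway.twoPt := fun π =>
    Conway.mem_twoPt.2 ⟨π.2.1.2, π.2.2⟩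
  refine ⟨{
    toFun := fun π => ⟨Conway.permHom ⟨_, h24 π⟩, Conway.mem_fixGroup.2 fun v hv => ?_⟩
    map_one' := Subtype.ext (map_one Conway.permHom)
    map_mul' := fun a b => Subtype.ext
      (map_mul Conway.permHom (⟨_, h24 a⟩ : M24) ⟨_, h24 b⟩) }, fun a b h => ?_⟩
  · simp only [List.mem_cons, List.not_mem_nil, or_false] at hv
    rcases hv with rfl | rfl
    · exact Conway.perm_fix_five π.2.1.2
    · exact Conway.perm_fix_pair (htwo π)
  · have h' := Conway.permHom_injective (congrArg Subtype.val h)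
    exact Subtype.ext (congrArg (fun x : M24 => (x : Equiv.Perm GolayPt)) h')

theorem leechV_eq : Spor.leechV = -Conway.fiveElt := by
  refine Subtype.ext ?_
  funext i
  show Spor.vecV i = -(Conway.pv Conway.kFive i)
  rw [Conway.five_shape i]
  unfold Spor.vecV
  split_ifs <;> rfl

theorem leechU_eq : Spor.leechU = Conway.pairElt := by
  refine Subtype.ext ?_
  funext i
  show Spor.vecU i = Conway.pv Conway.kPair i
  rw [Conway.pair_shape i]
  unfold Spor.vecU
  by_cases h0 : i = none <;> by_cases h1 : i = some 0 <;> simp [h0, h1]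

theorem map_fixGroup_mcl :
    (Conway.fixGroup [Conway.fiveElt, Conway.pairElt]).map (Cfsg.Co0).subtype = Spor.McL := by
  ext g
  constructor
  · rintro ⟨a, ha, rfl⟩
    have h := Conway.mem_fixGroup.1 ha
    refine ⟨⟨a.2, ?_⟩, ?_⟩
    · show a • Spor.leechV = Spor.leechV
      rw [leechV_eq, Conway.smul_neg', h _ (by simp)]
    · show a • Spor.leechU = Spor.leechU
      rw [leechU_eq, h _ (by simp)]
  · rintro ⟨⟨hg, hV⟩, hU⟩
    refine ⟨⟨g, hg⟩, Conway.mem_fixGroup.2 fun v hv => ?_, rfl⟩
    simp only [List.mem_cons, List.not_mem_nil, or_false] at hv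
    rcases hv with rfl | rfl
    · have h : (⟨g, hg⟩ : Cfsg.Co0) • Spor.leechV = Spor.leechV := hV
      rwa [leechV_eq, Conway.smul_neg', neg_inj] at h
    · have h : (⟨g, hg⟩ : Cfsg.Co0) • Spor.leechU = Spor.leechU := hU
      rwa [leechU_eq] at h

theorem mcl_twoFusion_simple {G : Type*} [Group G] [Finite G] (hG : Spor.IsoMcL G) (S : Sylow 2 G) :
    (groupFusionSystem (S : Subgroup G)).IsSimple 2 := by
  obtain ⟨e⟩ := hG
  let e' : G ≃* Conway.fixGroup [Conway.fiveElt, Conway.pairElt] :=
    e.trans ((MulEquiv.subgroupCongr map_fixGroup_mcl.symm).trans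
      (Subgroup.equivMapOfInjective _ _ (Cfsg.Co0).subtype_injective).symm)
  obtain ⟨ι, hι⟩ := exists_m22_hom_mcl
  exact Cert.isSimple_of_chkI in22_sound chkI22 keysI22_eq (e'.symm.toMonoidHom.comp ι)
    (e'.symm.injective.comp hι) (m := 7016625)
    (by rw [Nat.card_congr e'.toEquiv, Conway.card_fix_mcl]; norm_num) (by decide) S

end CfsgLib.Fusion
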