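import Cfsg.Agent.Lib.Fusion.MeetUp
import Cfsg.Agent.Lib.Fusion.FamilyGen

/-!
# The automorphism groups of the intersection of two normal subsystems
-/

set_option autoImplicit false
set_option maxHeartbeats 800000
set_option linter.unusedSectionVars false

namespace CfsgLib.Fusion.Meet

open Cfsg Cfsg.FusionSystem CfsgLib.Fusion

universe u

variable {Ω : Type u} [Group Ω] {S T₁ T₂ : Subgroup Ω} {F : FusionSystem S}
  {E₁ : FusionSystem T₁} {E₂ : FusionSystem T₂} {p : ℕ}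

/-- Two normal subsystems of a saturated system. -/
structure Data (p : ℕ) (F : FusionSystem S) (E₁ : FusionSystem T₁) (E₂ : FusionSystem T₂) :
    Prop where
  pgroup : IsPGroup p S
  sat : F.IsSaturated p
  normal₁ : E₁.IsNormalIn F p
  normal₂ : E₂.IsNormalIn F p

/-- An `F`-conjugate of an automorphism induced by `T`. -/
def Moved (F : FusionSystem S) (T : Subgroup Ω) {R : Subgroup Ω} (a : MulAut R) : Prop :=
  ∃ (R' : Subgroup Ω) (e : R' ≃* R), IsoIn F e ∧ R' ≤ T ∧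
    ∃ c ∈ autInducedBy T R', MulAut.congr e c = a

theorem Moved.congr {T R R₂ : Subgroup Ω} {a : MulAut R} (ha : Moved F T a) {e : R ≃* R₂}
    (he : IsoIn F e) : Moved F T (MulAut.congr e a) := by
  obtain ⟨R', f, hf, hR', c, hc, rfl⟩ := ha
  exact ⟨R', f.trans e, hf.trans he, hR', c, hc, congr_trans f e c⟩

/-- The automorphisms lifting in the three systems. -/
def liftAll [Finite S] [Finite T₁] [Finite T₂] (F : FusionSystem S) (E₁ : FusionSystem T₁)
    (E₂ : FusionSystem T₂) (R : Subgroup Ω) : Subgroup (MulAut R) :=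
  lGroup F R ⊓ (lGroup E₁ R ⊓ lGroup E₂ R)

/-- The automorphism group of `R` in the intersection. -/
def meetAut [Finite S] [Finite T₁] [Finite T₂] (p : ℕ) (F : FusionSystem S)
    (E₁ : FusionSystem T₁) (E₂ : FusionSystem T₂) (R : Subgroup Ω) : Subgroup (MulAut R) :=
  Subgroup.closure ({a | Moved F (T₁ ⊓ T₂) a} ∪
    {a | a ∈ liftAll F E₁ E₂ R ∧ (orderOf a).Coprime p})

/-- A power decomposition into parts prime to `p` and of `p`-power order. -/
theorem exists_split [hp : Fact p.Prime] {A : Type u} [Group A] [Finite A] (a : A) :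
    ∃ b c : A, b ∈ Subgroup.zpowers a ∧ c ∈ Subgroup.zpowers a ∧ a = b * c ∧
      (orderOf b).Coprime p ∧ ∃ k : ℕ, c ^ p ^ k = 1 := by
  obtain ⟨e, m, hm, hn⟩ :=
    Nat.exists_eq_pow_mul_and_not_dvd (orderOf_pos a).ne' p hp.out.ne_one
  obtain ⟨j, hj1, hj2⟩ := Nat.chineseRemainder
    (((hp.out.coprime_iff_not_dvd.2 hm).pow_left e)) 0 1
  refine ⟨a ^ j, (a ^ j)⁻¹ * a, Subgroup.pow_mem _ (Subgroup.mem_zpowers a) _,
    Subgroup.mul_mem _ (Subgroup.inv_mem _ (Subgroup.pow_mem _ (Subgroup.mem_zpowers a) _))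
      (Subgroup.mem_zpowers a), (mul_inv_cancel_left _ _).symm, ?_, e, ?_⟩
  · refine Nat.Coprime.coprime_dvd_left ?_ (hp.out.coprime_iff_not_dvd.2 hm).symm
    refine orderOf_dvd_of_pow_eq_one ?_
    obtain ⟨k, hk⟩ := Nat.modEq_zero_iff_dvd.1 hj1
    rw [← pow_mul, hk, show p ^ e * k * m = (p ^ e * m) * k by ring, ← hn, pow_mul,
      pow_orderOf_eq_one, one_pow]
  · have hc : Commute ((a ^ j)⁻¹) a := ((Commute.refl a).pow_left j).inv_left
    rw [hc.mul_pow, inv_pow, inv_mul_eq_one, ← pow_mul, pow_eq_pow_iff_modEq, hn]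
    have := hj2.mul_left' (p ^ e)
    rwa [mul_one, mul_comm (p ^ e) j] at this

/-- The normalizer in `T` of a fully normalized subgroup is fully centralized. -/
theorem fullyCentralized_normalizerIn {V T : Subgroup Ω} {G : FusionSystem V} [Fact p.Prime]
    [Finite V] (hV : IsPGroup p V) (hG : G.IsSaturated p) (hT : G.StronglyClosed T)
    {P : Subgroup Ω} (hP : G.IsFullyNormalized P) (hPT : P ≤ T) :
    G.IsFullyCentralized (normalizerIn T P) := by
  set N := normalizerIn T P with hNdef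
  have hNT : N ≤ T := normalizerIn_le P
  have hNV : N ≤ V := hNT.trans hT.1
  have hPN : P ≤ N := le_normalizerIn hPT
  refine ⟨hNV, fun N' hN' => ?_⟩
  obtain ⟨e, he⟩ := isConj_iff.1 hN'
  have hN'T : N' ≤ T := fun y hy => by
    have h := hT.2 N hNT _ he.mem (e.symm ⟨y, hy⟩)
    rwa [isoHom_apply, MulEquiv.apply_symm_apply] at h
  set P' := img (isoHom e) P with hP'
  have hP'N : P' ≤ N' := by rintro _ ⟨x, -, rfl⟩; exact (e x).2
  have hcardP : Nat.card P' = Nat.card P := card_img (G.injective_of_mem he.mem) hPN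
  obtain ⟨f, hf, hfN, himg⟩ := exists_normalizer_map hV (IsSaturated.fullyAutomized hV hG hP)
    (IsSaturated.receptive hV hG (IsSaturated.fullyCentralized hV hG hP))
    (isConj_symm (isConj_img he.mem hPN))
  have hN'N : N' ≤ normalizerIn T P' := fun y hy => ⟨hN'T hy, by
    obtain ⟨x, hx⟩ := e.surjective ⟨y, hy⟩
    have h1 := img_mem_normalizer (ψ := isoHom e) hPN x x.2.2
    rwa [isoHom_apply, hx] at h1⟩
  have hle : N' ≤ normalizerIn V P' := fun y hy => ⟨hT.1 (hN'T hy), (hN'N hy).2⟩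
  have hCle : centralizerIn V N' ≤ normalizerIn V P' :=
    (centralizerIn_antitone hP'N).trans (centralizerIn_le_normalizerIn P')
  have hNfin := finite_le hNV
  have hfN' : img f N' = N := by
    refine Subgroup.eq_of_le_of_card_ge ?_ ?_
    · rintro _ ⟨x, hx, rfl⟩
      exact ⟨StronglyClosed.apply_mem hT hf (hN'T hx), (hfN x).2⟩
    · rw [card_img (G.injective_of_mem hf) hle]
      exact (Nat.card_congr e.toEquiv).le
  have := finite_le (centralizerIn_le (S := V) N)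
  refine Nat.card_le_card_of_injective (fun c : centralizerIn V N' =>
    (⟨f ⟨c, hCle c.2⟩, mem_centralizerIn.2 ⟨hom_apply_mem hf _, fun y hy => ?_⟩⟩ :
      centralizerIn V N)) fun c d hcd => ?_
  · obtain ⟨x, hx, rfl⟩ := hfN'.ge hy
    rw [← map_mul, ← map_mul]
    exact congrArg f (Subtype.ext ((mem_centralizerIn.1 c.2).2 _ hx))
  · exact Subtype.ext (congrArg Subtype.val
      (G.injective_of_mem hf (congrArg Subtype.val hcd :)) :)

/-- A conjugate of `M` fully centralized, fixing `P`. -/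
theorem exists_fc_fixing {V T : Subgroup Ω} {G : FusionSystem V} [Fact p.Prime] [Finite V]
    (hV : IsPGroup p V) (hG : G.IsSaturated p) (hT : G.StronglyClosed T) {P M : Subgroup Ω}
    (hP : G.IsFullyNormalized P) (hPM : P ≤ M) (hM : M ≤ normalizerIn T P) :
    ∃ (M' : Subgroup Ω) (e : M ≃* M'), IsoIn G e ∧ G.IsFullyCentralized M' ∧
      M' ≤ normalizerIn T P ∧ P ≤ M' ∧ ∀ x : M, (x : Ω) ∈ P → ((e x : M') : Ω) ∈ P := by
  have hMT : M ≤ T := hM.trans (normalizerIn_le P)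
  have hMV : M ≤ V := hMT.trans hT.1
  obtain ⟨M₀, e₀, hM₀, he₀⟩ := exists_fc hV hG hMV
  set P₀ := img (isoHom e₀) P with hP₀
  have hP₀M : P₀ ≤ M₀ := by rintro _ ⟨x, -, rfl⟩; exact (e₀ x).2
  obtain ⟨f, hf, hfN, himg⟩ := exists_normalizer_map hV (IsSaturated.fullyAutomized hV hG hP)
    (IsSaturated.receptive hV hG (IsSaturated.fullyCentralized hV hG hP))
    (isConj_symm (isConj_img he₀.mem hPM))
  have hM₀T : M₀ ≤ T := fun y hy => by
    have h := hT.2 M hMT _ he₀.mem (e₀.symm ⟨y, hy⟩)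
    rwa [isoHom_apply, MulEquiv.apply_symm_apply] at h
  have hM₀N : M₀ ≤ normalizerIn V P₀ := fun y hy => ⟨hM₀.1 hy, by
    obtain ⟨x, hx⟩ := e₀.surjective ⟨y, hy⟩
    have h1 := img_mem_normalizer (ψ := isoHom e₀) hPM x (hM x.2).2
    rwa [isoHom_apply, hx] at h1⟩
  set M' := img f M₀ with hM'
  obtain ⟨g, hg, hgv⟩ := exists_iso (restrict_mem hf hM₀N) (Q := M') (range_restrict f hM₀N)
  have hM'N : M' ≤ normalizerIn T P := by
    rintro _ ⟨x, hx, rfl⟩
    exact ⟨StronglyClosed.apply_mem hT hf (hM₀T hx), (hfN x).2⟩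
  refine ⟨M', e₀.trans g, he₀.trans hg, ⟨hg.le_right, fun R hR => ?_⟩, hM'N,
    himg.ge.trans (img_mono f hP₀M), fun x hx => ?_⟩
  · refine (hM₀.2 R (isConj_trans hg.isConj hR)).trans ?_
    have hCle : centralizerIn V M₀ ≤ normalizerIn V P₀ :=
      (centralizerIn_antitone hP₀M).trans (centralizerIn_le_normalizerIn P₀)
    have := finite_le (centralizerIn_le (S := V) M')
    refine Nat.card_le_card_of_injective (fun c : centralizerIn V M₀ =>
      (⟨f ⟨c, hCle c.2⟩, mem_centralizerIn.2 ⟨hom_apply_mem hf _, fun y hy => ?_⟩⟩ :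
        centralizerIn V M')) fun c d hcd => ?_
    · obtain ⟨z, hz, rfl⟩ := hy
      rw [← map_mul, ← map_mul]
      exact congrArg f (Subtype.ext ((mem_centralizerIn.1 c.2).2 _ hz))
    · exact Subtype.ext (congrArg Subtype.val
        (G.injective_of_mem hf (congrArg Subtype.val hcd :)) :)
  · rw [MulEquiv.trans_apply, hgv]
    exact himg.le ⟨_, ⟨x, hx, rfl⟩, rfl⟩

namespace Data

variable [Fact p.Prime] [Finite S] [Finite T₁] [Finite T₂] (h : Data p F E₁ E₂)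
include h

theorem tclosed₁ : F.StronglyClosed T₁ := h.normal₁.1.2.2.2.1

theorem tclosed₂ : F.StronglyClosed T₂ := h.normal₂.1.2.2.2.1

theorem tclosed : F.StronglyClosed (T₁ ⊓ T₂) :=
  ⟨inf_le_left.trans h.tclosed₁.1, fun R hR φ hφ x =>
    ⟨h.tclosed₁.2 R (hR.trans inf_le_left) φ hφ x, h.tclosed₂.2 R (hR.trans inf_le_right) φ hφ x⟩⟩

theorem closedIn {V : Subgroup Ω} {G : FusionSystem V} (hsub : G.IsSubsystemOf F)
    (hle : T₁ ⊓ T₂ ≤ V) : G.StronglyClosed (T₁ ⊓ T₂) :=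
  ⟨hle, fun R hR φ hφ x => h.tclosed.2 R hR φ (hsub R hφ) x⟩

theorem closed₁ : E₁.StronglyClosed (T₁ ⊓ T₂) := h.closedIn h.normal₁.1.2.2.1 inf_le_left

theorem closed₂ : E₂.StronglyClosed (T₁ ⊓ T₂) := h.closedIn h.normal₂.1.2.2.1 inf_le_right

theorem moved_mem_liftAll {R : Subgroup Ω} (hR : TCentric F (T₁ ⊓ T₂) R) {a : MulAut R}
    (ha : Moved F (T₁ ⊓ T₂) a) : a ∈ liftAll F E₁ E₂ R := by
  obtain ⟨R', e, he, hR', c, hc, rfl⟩ := ha
  have hR'c : TCentric F (T₁ ⊓ T₂) R' := hR.conj h.tclosed (isConj_symm he.isConj)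
  refine ⟨?_, ?_, ?_⟩
  · exact lGroup_congr h.pgroup h.sat isInvariantIn_refl (hR'.trans h.tclosed.1) he
      (induced_mem_lGroup h.pgroup h.sat (fun _ => subset_rfl) h.tclosed hR'c hc)
  · exact lGroup_congr (h.pgroup.to_le h.tclosed₁.1) h.normal₁.1.1 h.normal₁.1.2.2
      (hR'.trans inf_le_left) he
      (induced_mem_lGroup (h.pgroup.to_le h.tclosed₁.1) h.normal₁.1.1 h.normal₁.1.2.2.1 h.closed₁
        hR'c hc)
  · exact lGroup_congr (h.pgroup.to_le h.tclosed₂.1) h.normal₂.1.1 h.normal₂.1.2.2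
      (hR'.trans inf_le_right) he
      (induced_mem_lGroup (h.pgroup.to_le h.tclosed₂.1) h.normal₂.1.1 h.normal₂.1.2.2.1 h.closed₂
        hR'c hc)

theorem meetAut_le_liftAll {R : Subgroup Ω} (hR : TCentric F (T₁ ⊓ T₂) R) :
    meetAut p F E₁ E₂ R ≤ liftAll F E₁ E₂ R := by
  refine (Subgroup.closure_le _).2 ?_
  rintro a (ha | ha)
  · exact h.moved_mem_liftAll hR ha
  · exact ha.1

theorem liftAll_congr {R R' : Subgroup Ω} (hR : R ≤ T₁ ⊓ T₂) {e : R ≃* R'} (he : IsoIn F e)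
    {a : MulAut R} (ha : a ∈ liftAll F E₁ E₂ R) : MulAut.congr e a ∈ liftAll F E₁ E₂ R' :=
  ⟨lGroup_congr h.pgroup h.sat isInvariantIn_refl (hR.trans h.tclosed.1) he ha.1,
    lGroup_congr (h.pgroup.to_le h.tclosed₁.1) h.normal₁.1.1 h.normal₁.1.2.2
      (hR.trans inf_le_left) he ha.2.1,
    lGroup_congr (h.pgroup.to_le h.tclosed₂.1) h.normal₂.1.1 h.normal₂.1.2.2
      (hR.trans inf_le_right) he ha.2.2⟩

theorem meetAut_le {R : Subgroup Ω} (hR : TCentric F (T₁ ⊓ T₂) R) :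
    meetAut p F E₁ E₂ R ≤ F.autGroup R :=
  fun _ ha => lGroup_le R (h.meetAut_le_liftAll hR ha).1

theorem induced_le {R : Subgroup Ω} (hR : TCentric F (T₁ ⊓ T₂) R) :
    autInducedBy (T₁ ⊓ T₂) R ≤ meetAut p F E₁ E₂ R := fun a ha =>
  Subgroup.subset_closure (Or.inl ⟨R, MulEquiv.refl R, isoIn_refl (hR.le.trans h.tclosed.1), hR.le,
    a, ha, congr_refl' a⟩)

theorem meetAut_congr {R R' : Subgroup Ω} {e : R ≃* R'} (hR : TCentric F (T₁ ⊓ T₂) R)
    (he : IsoIn F e) {a : MulAut R} (ha : a ∈ meetAut p F E₁ E₂ R) :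
    MulAut.congr e a ∈ meetAut p F E₁ E₂ R' := by
  induction ha using Subgroup.closure_induction with
  | mem a ha =>
      refine Subgroup.subset_closure ?_
      rcases ha with ha | ⟨ha, hc⟩
      · exact Or.inl (ha.congr he)
      · refine Or.inr ⟨h.liftAll_congr hR.le he ha, ?_⟩
        rwa [(MulAut.congr e).orderOf_eq]
  | one => rw [map_one]; exact one_mem _
  | mul a b _ _ ha hb => rw [map_mul]; exact mul_mem ha hb
  | inv a _ ha => rw [map_inv]; exact Subgroup.inv_mem _ ha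

/-- An element of `p`-power order stabilizing `P` is inner on `N_T(P)`. -/
theorem pElement_inner
    (hsylow : ∀ {Q : Subgroup Ω}, TCentric F (T₁ ⊓ T₂) Q → F.IsFullyNormalized Q →
      IsSylowIn p (autInducedBy (T₁ ⊓ T₂) Q) (meetAut p F E₁ E₂ Q))
    {P : Subgroup Ω} (hP : TCentric F (T₁ ⊓ T₂) P) (hn : F.IsFullyNormalized P)
    {γ : MulAut ↥(normalizerIn (T₁ ⊓ T₂) P)}
    (hγ : γ ∈ meetAut p F E₁ E₂ (normalizerIn (T₁ ⊓ T₂) P)) {k : ℕ} (hk : γ ^ p ^ k = 1)
    (hfix : ∀ x : ↥(normalizerIn (T₁ ⊓ T₂) P), (x : Ω) ∈ P → ((γ x : _) : Ω) ∈ P) :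
    ∃ n ∈ normalizerIn (T₁ ⊓ T₂) P, ∀ x : ↥(normalizerIn (T₁ ⊓ T₂) P),
      ((γ x : _) : Ω) = n * (x : Ω) * n⁻¹ := by
  have hTS := h.tclosed.1
  have hPN : P ≤ (normalizerIn (T₁ ⊓ T₂) P) := le_normalizerIn hP.le
  have hNT : (normalizerIn (T₁ ⊓ T₂) P) ≤ T₁ ⊓ T₂ := normalizerIn_le P
  have hNc : TCentric F (T₁ ⊓ T₂) (normalizerIn (T₁ ⊓ T₂) P) := hP.mono hPN hNT
  obtain ⟨U, hNU, hU⟩ := exists_fullyNormalized (F := F) (hNT.trans hTS)
  obtain ⟨e, he⟩ := isConj_iff.1 hNU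
  have hUc : TCentric F (T₁ ⊓ T₂) U := hNc.conj h.tclosed hNU
  have hγ' := h.meetAut_congr hNc he hγ
  have := finite_mulAut_of_le (S := S) hU.1
  obtain ⟨b, hb, hbv⟩ := IsSylowIn.exists_conj_mem (hsylow hUc hU)
    ((Subgroup.zpowers_le.2 hγ') :
      Subgroup.zpowers (MulAut.congr e γ) ≤ meetAut p F E₁ E₂ U) (by
      rintro ⟨x, hx⟩
      obtain ⟨i, rfl⟩ := Subgroup.mem_zpowers_iff.1 hx
      refine ⟨k, Subtype.ext ?_⟩
      show ((MulAut.congr e γ) ^ i) ^ p ^ k = 1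
      rw [← zpow_natCast, ← zpow_mul, mul_comm, zpow_mul, zpow_natCast, ← map_pow, hk, map_one,
        one_zpow])
  obtain ⟨t, ht, htv⟩ := mem_autInducedBy_iff.1 (hbv _ (Subgroup.mem_zpowers _))
  set f : (normalizerIn (T₁ ⊓ T₂) P) ≃* U := e.trans (b : U ≃* U) with hfdef
  have hbF : IsoIn F (b : U ≃* U) := (mem_autGroup_iff_isoIn hU.1).1 (h.meetAut_le hUc hb)
  have hf : IsoIn F f := he.trans hbF
  have hfv : ∀ x : (normalizerIn (T₁ ⊓ T₂) P), ((f (γ x) : U) : Ω) = t * ((f x : U) : Ω) * t⁻¹ := fun x => by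
    rw [← htv]
    simp [hfdef, MulAut.congr]
  set P' := img (isoHom f) P with hP'
  have hP'U : P' ≤ U := by rintro _ ⟨x, -, rfl⟩; exact (f x).2
  have hUN : U ≤ normalizerIn (T₁ ⊓ T₂) P' := fun y hy => ⟨hUc.le hy, by
    obtain ⟨x, hx⟩ := f.surjective ⟨y, hy⟩
    have h1 := img_mem_normalizer (ψ := isoHom f) hPN x x.2.2
    rwa [isoHom_apply, hx] at h1⟩
  have htN : t ∈ normalizerIn (T₁ ⊓ T₂) P' := by
    refine ⟨ht, Subgroup.mem_normalizer_iff_map_conj_eq.2 ?_⟩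
    have := finite_le (hP'U.trans hU.1)
    refine Subgroup.eq_of_le_of_card_ge ?_
      (Subgroup.card_map_of_injective (MulAut.conj t).injective).ge
    rintro _ ⟨_, ⟨x, hx, rfl⟩, rfl⟩
    exact ⟨γ x, hfix x hx, hfv x⟩
  have heq : normalizerIn (T₁ ⊓ T₂) P' = U := by
    have := finite_le ((normalizerIn_le (S := T₁ ⊓ T₂) P').trans hTS)
    refine (Subgroup.eq_of_le_of_card_ge hUN ?_).symm
    obtain ⟨g, hg, hgN, himg⟩ := exists_normalizer_map h.pgroup
      (IsSaturated.fullyAutomized h.pgroup h.sat hn)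
      (IsSaturated.receptive h.pgroup h.sat (IsSaturated.fullyCentralized h.pgroup h.sat hn))
      (isConj_symm (isConj_img hf.mem hPN))
    have hle : normalizerIn (T₁ ⊓ T₂) P' ≤ normalizerIn S P' :=
      fun x hx => ⟨hTS hx.1, hx.2⟩
    rw [← isConj_card hNU, ← card_img (F.injective_of_mem hg) hle]
    have := finite_le (hNT.trans hTS)
    refine Subgroup.card_le_of_le ?_
    rintro _ ⟨x, hx, rfl⟩
    exact ⟨StronglyClosed.apply_mem h.tclosed hg hx.1, (hgN x).2⟩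
  obtain ⟨n, hn'⟩ := f.surjective ⟨t, heq.le htN⟩
  refine ⟨n, n.2, fun x => ?_⟩
  have h1 : f (γ x) = f (n * x * n⁻¹) := Subtype.ext (by
    rw [hfv, map_mul, map_mul, map_inv, hn']
    rfl)
  rw [f.injective h1]
  rfl

/-- Restriction from `N_T(P)` to a fully normalized `P`. -/
theorem meetAut_down
    (hsylow : ∀ {Q : Subgroup Ω}, TCentric F (T₁ ⊓ T₂) Q → F.IsFullyNormalized Q →
      IsSylowIn p (autInducedBy (T₁ ⊓ T₂) Q) (meetAut p F E₁ E₂ Q))
    {P : Subgroup Ω} (hP : TCentric F (T₁ ⊓ T₂) P) (hn : F.IsFullyNormalized P)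
    {η : MulAut ↥(normalizerIn (T₁ ⊓ T₂) P)}
    (hη : η ∈ meetAut p F E₁ E₂ (normalizerIn (T₁ ⊓ T₂) P)) (a : MulAut P)
    (hPN : P ≤ normalizerIn (T₁ ⊓ T₂) P)
    (hav : ∀ x : P, ((a x : P) : Ω) = ((η (Subgroup.inclusion hPN x) : _) : Ω)) :
    a ∈ meetAut p F E₁ E₂ P := by
  classical
  have hTS := h.tclosed.1
  have hNT : (normalizerIn (T₁ ⊓ T₂) P) ≤ T₁ ⊓ T₂ := normalizerIn_le P
  have hNS : (normalizerIn (T₁ ⊓ T₂) P) ≤ S := hNT.trans hTS
  have hNc : TCentric F (T₁ ⊓ T₂) (normalizerIn (T₁ ⊓ T₂) P) := hP.mono hPN hNT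
  have := finite_mulAut_of_le (S := S) hNS
  have := finite_le hn.1
  obtain ⟨b, c, hbz, hcz, hbc, hb, k, hk⟩ := exists_split (p := p) η
  -- the stabilizer of `P`
  have hstab : ∀ γ ∈ Subgroup.zpowers η, ∀ x : (normalizerIn (T₁ ⊓ T₂) P), (x : Ω) ∈ P → ((γ x : (normalizerIn (T₁ ⊓ T₂) P)) : Ω) ∈ P := by
    intro γ hγ
    obtain ⟨i, rfl⟩ := mem_powers_iff_mem_zpowers.2 hγ
    intro x hx
    show (((η ^ i) x : (normalizerIn (T₁ ⊓ T₂) P)) : Ω) ∈ P
    induction i with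
    | zero => simpa using hx
    | succ i ih =>
        rw [pow_succ', MulAut.mul_apply]
        rw [show (η ^ i) x = Subgroup.inclusion hPN ⟨_, ih (Subgroup.npow_mem_zpowers η i)⟩ from
          rfl, ← hav]
        exact (a _).2
  have hmem : ∀ γ ∈ Subgroup.zpowers η, γ ∈ meetAut p F E₁ E₂ (normalizerIn (T₁ ⊓ T₂) P) :=
    fun γ hγ => (Subgroup.zpowers_le.2 hη) hγ
  obtain ⟨n, hnN, hnv⟩ := h.pElement_inner hsylow hP hn (hmem c hcz) hk (hstab c hcz)
  obtain ⟨b', hb'F, hb'v⟩ := exists_restrict_aut hNS hPN (h.meetAut_le hNc (hmem b hbz))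
    (hstab b hbz)
  have hb'ord : (orderOf b').Coprime p := by
    refine hb.coprime_dvd_left (orderOf_dvd_of_pow_eq_one (MulEquiv.ext fun x => Subtype.ext ?_))
    have hpow : ∀ i : ℕ, ∀ x : P, (((b' ^ i) x : P) : Ω) =
        (((b ^ i) (Subgroup.inclusion hPN x) : (normalizerIn (T₁ ⊓ T₂) P)) : Ω) := by
      intro i
      induction i with
      | zero => exact fun x => rfl
      | succ i ih =>
        intro x
        rw [pow_succ, pow_succ, MulAut.mul_apply, MulAut.mul_apply, ih]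
        exact congrArg (fun z : (normalizerIn (T₁ ⊓ T₂) P) => (((b ^ i) z : (normalizerIn (T₁ ⊓ T₂) P)) : Ω)) (Subtype.ext (hb'v x x.2).symm)
    rw [hpow, pow_orderOf_eq_one]
    rfl
  have hkey : ∀ v ∈ centralizerIn S P, ∀ α ∈ meetAut p F E₁ E₂ (normalizerIn (T₁ ⊓ T₂) P),
      (∀ x : (normalizerIn (T₁ ⊓ T₂) P), ((α x : (normalizerIn (T₁ ⊓ T₂) P)) : Ω) = v * (x : Ω) * v⁻¹) →
      ∃ z ∈ P, z ∈ Subgroup.centralizer (P : Set Ω) ∧
        ∀ x : (normalizerIn (T₁ ⊓ T₂) P), v * (x : Ω) * v⁻¹ = z * (x : Ω) * z⁻¹ := by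
    intro v hv α hα hαv
    obtain ⟨hvS, hvc⟩ := mem_centralizerIn.1 hv
    have hαp : ∃ i : ℕ, α ^ p ^ i = 1 := by
      obtain ⟨i, hi⟩ := isPGroup_autInducedBy h.pgroup
        (⟨α, mem_autInducedBy_iff.2 ⟨v, hvS, hαv⟩⟩ : autInducedBy S (normalizerIn (T₁ ⊓ T₂) P))
      exact ⟨i, congrArg Subtype.val hi⟩
    obtain ⟨i, hi⟩ := hαp
    obtain ⟨z, hzN, hzv⟩ := h.pElement_inner hsylow hP hn hα hi fun x hx => by
      rw [hαv, ← hvc _ hx, mul_inv_cancel_right]
      exact hx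
    have hzc : ∀ y ∈ P, y * z = z * y := fun y hy => by
      have h1 : z * y * z⁻¹ = y := by
        rw [show y = ((⟨y, hPN hy⟩ : (normalizerIn (T₁ ⊓ T₂) P)) : Ω) from rfl, ← hzv, hαv]
        show v * y * v⁻¹ = y
        rw [← hvc _ hy, mul_inv_cancel_right]
      exact ((mul_inv_eq_iff_eq_mul.1 h1)).symm
    exact ⟨z, hP.2 P (isConj_refl hn.1) (mem_centralizerIn.2 ⟨hNT hzN, hzc⟩),
      Subgroup.mem_centralizer_iff.2 hzc, fun x => (hαv x).symm.trans (hzv x)⟩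
  have hdown : ∀ {V : Subgroup Ω} {G : FusionSystem V} [Finite V], IsPGroup p V →
      G.IsSaturated p → G.IsSubsystemOf F → T₁ ⊓ T₂ ≤ V → G.IsFullyNormalized P →
      b ∈ lGroup G (normalizerIn (T₁ ⊓ T₂) P) → b' ∈ lGroup G P := by
    intro V G _ hV hG hsub hTV hPn hbl
    have hT := h.closedIn hsub hTV
    refine down_fn hV hG hT hPn (fullyCentralized_normalizerIn hV hG hT hPn hP.le) hPN hNT
      inf_le_right (hP.2 P (isConj_refl hn.1)) (meetAut p F E₁ E₂ (normalizerIn (T₁ ⊓ T₂) P))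
      (fun β hβ α hα => ?_) (fun v hv => hkey v (inf_le_inf_right _ (IsSubsystemOf.le hsub) hv))
      (hmem b hbz) hb hbl (hstab b hbz) fun x => (hb'v x x.2).symm
    have hβF : IsoIn F (β : (normalizerIn (T₁ ⊓ T₂) P) ≃* (normalizerIn (T₁ ⊓ T₂) P)) :=
      hsub (normalizerIn (T₁ ⊓ T₂) P) ((mem_autGroup_iff (hNT.trans hTV)).1 hβ)
    have := h.meetAut_congr hNc hβF hα
    rwa [show MulAut.congr (β : (normalizerIn (T₁ ⊓ T₂) P) ≃* (normalizerIn (T₁ ⊓ T₂) P)) α = β * α * β⁻¹ from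
      MulEquiv.ext fun x => by simp [MulAut.congr, MulAut.mul_apply, MulAut.inv_def]] at this
  have hbl := h.meetAut_le_liftAll hNc (hmem b hbz)
  have hb'A : b' ∈ meetAut p F E₁ E₂ P := by
    refine Subgroup.subset_closure (Or.inr ⟨⟨?_, ?_, ?_⟩, hb'ord⟩)
    · exact hdown h.pgroup h.sat (fun _ => subset_rfl) h.tclosed.1 hn hbl.1
    · exact hdown (h.pgroup.to_le h.tclosed₁.1) h.normal₁.1.1 h.normal₁.1.2.2.1 inf_le_left
        (fullyNormalized_of_ambient h.pgroup h.sat h.tclosed₁ h.normal₁.1.2.2.1 hn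
          (hP.le.trans inf_le_left)) hbl.2.1
    · exact hdown (h.pgroup.to_le h.tclosed₂.1) h.normal₂.1.1 h.normal₂.1.2.2.1 inf_le_right
        (fullyNormalized_of_ambient h.pgroup h.sat h.tclosed₂ h.normal₂.1.2.2.1 hn
          (hP.le.trans inf_le_right)) hbl.2.2
  set c' : MulAut P := P.normalizerMonoidHom ⟨n, hnN.2⟩ with hc'
  have hc'A : c' ∈ meetAut p F E₁ E₂ P :=
    h.induced_le hP (mem_autInducedBy_iff.2 ⟨n, hnN.1, fun x => rfl⟩)
  rw [show a = b' * c' from MulEquiv.ext fun x => Subtype.ext ?_]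
  · exact mul_mem hb'A hc'A
  · rw [hav, hbc, MulAut.mul_apply, MulAut.mul_apply, ← hb'v _ (c' x).2]
    exact congrArg (fun z : (normalizerIn (T₁ ⊓ T₂) P) => ((b z : (normalizerIn (T₁ ⊓ T₂) P)) : Ω)) (Subtype.ext (hnv _))

/-- Extension to a subgroup of the normalizer of a fully normalized `P`. -/
theorem meetAut_up {P M : Subgroup Ω} (hP : TCentric F (T₁ ⊓ T₂) P) (hn : F.IsFullyNormalized P)
    (hPM : P ≤ M) (hM : M ≤ normalizerIn (T₁ ⊓ T₂) P) {b : MulAut P}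
    (hb : b ∈ meetAut p F E₁ E₂ P) (hord : (orderOf b).Coprime p)
    (hbM : ∀ c ∈ autInducedBy M P, b * c * b⁻¹ ∈ autInducedBy M P) :
    ∃ α ∈ meetAut p F E₁ E₂ M,
      ∀ x : P, ((α (Subgroup.inclusion hPM x) : M) : Ω) = ((b x : P) : Ω) := by
  classical
  have hTS := h.tclosed.1
  have hMT : M ≤ T₁ ⊓ T₂ := hM.trans (normalizerIn_le P)
  have hMS : M ≤ S := hMT.trans hTS
  have hc := hP.2 P (isConj_refl hn.1)
  have := finite_le hMS
  have := finite_mulAut_of_le (S := S) hMS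
  have hbL := h.meetAut_le_liftAll hP hb
  have hbF := h.meetAut_le hP hb
  obtain ⟨ψ, hψ, hψv⟩ := exists_extension
    (IsSaturated.receptive h.pgroup h.sat (IsSaturated.fullyCentralized h.pgroup h.sat hn))
    ((mem_autGroup_iff_isoIn hn.1).1 hbF) hPM (fun g hg => by
      set τ : MulAut P := P.normalizerMonoidHom ⟨g, (hM hg).2⟩
      obtain ⟨m, hm, hmv⟩ := mem_autInducedBy_iff.1
        (hbM τ (mem_autInducedBy_iff.2 ⟨g, hg, fun x => rfl⟩))
      refine mem_extender_iff.2 ⟨hMS hg, (hM hg).2, m, hMS hm, fun x hx => ?_⟩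
      have h2 := hmv (b x)
      rw [MulAut.mul_apply, MulAut.mul_apply, MulAut.inv_apply_self] at h2
      exact h2)
  have hψP : ∀ x : P, ψ (Subgroup.inclusion hPM x) = ((b x : P) : Ω) := fun x => hψv x
  have hrM : ψ.range = M := by
    refine Subgroup.eq_of_le_of_card_ge ?_
      (Nat.card_congr (MonoidHom.ofInjective (F.injective_of_mem hψ)).toEquiv).le
    rintro _ ⟨g, rfl⟩
    set τ : MulAut P := P.normalizerMonoidHom ⟨g, (hM g.2).2⟩
    obtain ⟨m, hm, hmv⟩ := mem_autInducedBy_iff.1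
      (hbM τ (mem_autInducedBy_iff.2 ⟨g, g.2, fun x => rfl⟩))
    have h1 : m⁻¹ * ψ g ∈ P := by
      refine hc (mem_centralizerIn.2 ⟨mul_mem (inv_mem (hMT hm))
        (h.tclosed.2 M hMT ψ hψ g), fun r hr => ?_⟩)
      obtain ⟨x, hx⟩ := b.surjective ⟨r, hr⟩
      have hxr : ((b x : P) : Ω) = r := congrArg Subtype.val hx
      have h2 : m * r * m⁻¹ = ψ g * r * (ψ g)⁻¹ := by
        rw [← hxr, ← hmv, MulAut.mul_apply, MulAut.mul_apply, MulAut.inv_apply_self, ← hψP,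
          ← hψP, ← map_inv, ← map_mul, ← map_mul]
        exact congrArg ψ (Subtype.ext rfl)
      calc r * (m⁻¹ * ψ g) = m⁻¹ * (m * r * m⁻¹) * ψ g := by group
        _ = m⁻¹ * (ψ g * r * (ψ g)⁻¹) * ψ g := by rw [h2]
        _ = m⁻¹ * ψ g * r := by group
    have := M.mul_mem hm (hPM h1)
    rwa [mul_inv_cancel_left] at this
  obtain ⟨α₀, hα₀, hα₀v⟩ := exists_iso hψ hrM
  have hα₀F : (α₀ : MulAut M) ∈ F.autGroup M := (mem_autGroup_iff_isoIn hMS).2 hα₀
  obtain ⟨j, hj, hjid⟩ :=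
    exists_pPrime_exponent.{u} (p := p) (N := orderOf (α₀ : MulAut M)) (orderOf_pos _).ne'
  have hpow : ∀ i : ℕ, ∀ x : P, ((((α₀ : MulAut M) ^ i) (Subgroup.inclusion hPM x) : M) : Ω) =
      (((b ^ i) x : P) : Ω) := by
    intro i
    induction i with
    | zero => exact fun x => rfl
    | succ i ih =>
      intro x
      rw [pow_succ, pow_succ, MulAut.mul_apply, MulAut.mul_apply,
        show α₀ (Subgroup.inclusion hPM x) = Subgroup.inclusion hPM (b x) from
          Subtype.ext ((hα₀v _).trans (hψP x)), ih]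
  have hbj : b ^ j = b := hjid b (MulEquiv.ext fun x => Subtype.ext (by
    rw [← hpow, pow_orderOf_eq_one]; rfl)) hord
  set α := (α₀ : MulAut M) ^ j with hαdef
  have hαF : α ∈ F.autGroup M := Subgroup.pow_mem _ hα₀F _
  have hαord : (orderOf α).Coprime p := hj _ (pow_orderOf_eq_one _)
  have hαb : ∀ x : P, ((α (Subgroup.inclusion hPM x) : M) : Ω) = ((b x : P) : Ω) := fun x => by
    rw [hαdef, hpow, hbj]
  have hup : ∀ {V : Subgroup Ω} {G : FusionSystem V} [Finite V], IsPGroup p V →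
      G.IsSaturated p → G.IsInvariantIn F → T₁ ⊓ T₂ ≤ V → G.IsFullyNormalized P →
      b ∈ lGroup G P → α ∈ lGroup G M := by
    intro V G _ hV hG hi hTV hPn hbl
    have hT := h.closedIn hi.1 hTV
    obtain ⟨M', e, he, hM', hM'N, hPM', heP⟩ := exists_fc_fixing hV hG hT hPn hPM hM
    obtain ⟨u, hu, huv⟩ := exists_iso (restrict_mem he.mem hPM) (Q := P) (by
      have := finite_le hn.1
      rw [range_restrict]
      exact Subgroup.eq_of_le_of_card_ge (by rintro _ ⟨z, hz, rfl⟩; exact heP z hz)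
        (card_img (G.injective_of_mem he.mem) hPM).ge)
    have hu' := lGroup_congr_in hu hbl
    have heF : IsoIn F e := hi.1 M he
    have h1 := up_fn h.pgroup hV hG hi hT hPn hM' hPM' (hM'N.trans (normalizerIn_le P))
      (hM'N.trans inf_le_right) hc hu' (α := MulAut.congr e α)
      (heF.congr_autGroup.le ⟨α, hαF, rfl⟩) (by rwa [(MulAut.congr e).orderOf_eq]) fun r => by
        obtain ⟨x, rfl⟩ := u.surjective r
        have e1 : Subgroup.inclusion hPM' (u x) = e (Subgroup.inclusion hPM x) :=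
          Subtype.ext (huv x)
        rw [e1]
        show ((e (α (e.symm (e (Subgroup.inclusion hPM x)))) : M') : Ω) =
          ((u (b (u.symm (u x))) : P) : Ω)
        rw [MulEquiv.symm_apply_apply, MulEquiv.symm_apply_apply, huv]
        exact congrArg (fun z : M => ((e z : M') : Ω)) (Subtype.ext (hαb x))
    have h2 := lGroup_congr_in he.symm h1
    rwa [congr_symm_congr'] at h2
  refine ⟨α, Subgroup.subset_closure (Or.inr ⟨⟨?_, ?_, ?_⟩, hαord⟩), hαb⟩
  · exact hup h.pgroup h.sat isInvariantIn_refl h.tclosed.1 hn hbL.1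
  · exact hup (h.pgroup.to_le h.tclosed₁.1) h.normal₁.1.1 h.normal₁.1.2.2 inf_le_left
      (fullyNormalized_of_ambient h.pgroup h.sat h.tclosed₁ h.normal₁.1.2.2.1 hn
        (hP.le.trans inf_le_left)) hbL.2.1
  · exact hup (h.pgroup.to_le h.tclosed₂.1) h.normal₂.1.1 h.normal₂.1.2.2 inf_le_right
      (fullyNormalized_of_ambient h.pgroup h.sat h.tclosed₂ h.normal₂.1.2.2.1 hn
        (hP.le.trans inf_le_right)) hbL.2.2

end Data

end CfsgLib.Fusion.Meet
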