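import Cfsg.Agent.Lib.Fusion.LiftAverage
import Cfsg.Agent.Lib.Fusion.ComponentTransport
import Cfsg.Agent.Lib.Fusion.LiftFamily

/-!
# Automorphisms lifting trivially to `R C_S(R)` at every fully centralized conjugate
-/

set_option autoImplicit false

namespace CfsgLib.Fusion.Meet

open Cfsg Cfsg.FusionSystem CfsgLib.Fusion

universe u

variable {Ω : Type u} [Group Ω] {S T V : Subgroup Ω} {F : FusionSystem S} {G : FusionSystem V}
  {p : ℕ}

/-- Transport along a composite. -/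
theorem congr_trans {A B C : Type*} [Group A] [Group B] [Group C] (e : A ≃* B) (f : B ≃* C)
    (a : MulAut A) : MulAut.congr (e.trans f) a = MulAut.congr f (MulAut.congr e a) :=
  MulEquiv.ext fun x => by simp [MulAut.congr]

theorem congr_symm_congr' {A B : Type*} [Group A] [Group B] (e : A ≃* B) (a : MulAut A) :
    MulAut.congr e.symm (MulAut.congr e a) = a :=
  MulEquiv.ext fun x => by simp [MulAut.congr]

theorem congr_refl' {A : Type*} [Group A] (a : MulAut A) :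
    MulAut.congr (MulEquiv.refl A) a = a :=
  MulEquiv.ext fun x => by simp [MulAut.congr]

/-- A lift carried along an isomorphism of the sources. -/
theorem liftable_of_equiv {Q Q' : Subgroup Ω} (hQ : Q ≤ V) {e : Q ≃* Q'}
    (κ : ↥(Q ⊔ centralizerIn V Q) ≃* ↥(Q' ⊔ centralizerIn V Q'))
    (hκ : ∀ (r : Ω) (hr : r ∈ Q),
      ((κ ⟨r, le_sup_left (b := centralizerIn V Q) hr⟩ : _) : Ω) = ((e ⟨r, hr⟩ : Q') : Ω))
    (haut : ∀ x ∈ G.autGroup (Q ⊔ centralizerIn V Q),
      MulAut.congr κ x ∈ G.autGroup (Q' ⊔ centralizerIn V Q'))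
    {a : MulAut Q} (ha : Liftable G Q a) : Liftable G Q' (MulAut.congr e a) := by
  obtain ⟨x, hx, hxa⟩ := ha
  have hsymm : ∀ (y : ↥(Q' ⊔ centralizerIn V Q')) (hy : (y : Ω) ∈ Q'),
      κ.symm y = ⟨((e.symm ⟨y, hy⟩ : Q) : Ω),
        le_sup_left (b := centralizerIn V Q) (e.symm ⟨y, hy⟩).2⟩ := fun y hy => by
    rw [MulEquiv.symm_apply_eq]
    refine Subtype.ext ?_
    rw [hκ _ (e.symm ⟨y, hy⟩).2, Subtype.coe_eta, MulEquiv.apply_symm_apply]
  have hC : ∀ y : ↥(Q' ⊔ centralizerIn V Q'), (y : Ω) ∈ centralizerIn V Q' →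
      ((κ.symm y : _) : Ω) ∈ centralizerIn V Q := by
    intro y hy
    refine mem_centralizerIn.2 ⟨sup_centralizerIn_le_S hQ (κ.symm y).2, fun r hr => ?_⟩
    have h1 : κ ⟨r, le_sup_left (b := centralizerIn V Q) hr⟩ * y =
        y * κ ⟨r, le_sup_left (b := centralizerIn V Q) hr⟩ := by
      refine Subtype.ext ?_
      rw [Subgroup.coe_mul, Subgroup.coe_mul, hκ r hr]
      exact (mem_centralizerIn.1 hy).2 _ (e ⟨r, hr⟩).2
    have h2 := congrArg κ.symm h1
    rw [map_mul, map_mul, MulEquiv.symm_apply_apply] at h2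
    exact congrArg Subtype.val h2
  refine ⟨MulAut.congr κ x, ⟨haut x hx.1, fun r hr => ?_, fun c hc => ?_⟩, fun r hr => ?_⟩
  · show ((κ (x (κ.symm r)) : _) : Ω) ∈ Q'
    have h1 : ((κ.symm r : _) : Ω) ∈ Q := by
      rw [hsymm r hr]
      exact SetLike.coe_mem _
    have h2 := hx.2.1 _ h1
    rw [show x (κ.symm r) = ⟨_, le_sup_left (b := centralizerIn V Q) h2⟩ from Subtype.ext rfl,
      hκ _ h2]
    exact SetLike.coe_mem _
  · have h1 : c⁻¹ * MulAut.congr κ x c = κ ((κ.symm c)⁻¹ * x (κ.symm c)) := by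
      rw [map_mul, map_inv, MulEquiv.apply_symm_apply]
      rfl
    rw [h1]
    have h2 := hx.2.2 _ (hC c hc)
    rw [show (κ.symm c)⁻¹ * x (κ.symm c) = ⟨_, le_sup_left (b := centralizerIn V Q) h2⟩ from
      Subtype.ext rfl, hκ _ h2]
    exact SetLike.coe_mem _
  · show ((κ (x (κ.symm ⟨r, _⟩)) : _) : Ω) = ((e (a (e.symm ⟨r, hr⟩)) : Q') : Ω)
    have h2 := hxa _ (e.symm ⟨r, hr⟩).2
    rw [hsymm _ hr, show x ⟨((e.symm ⟨r, hr⟩ : Q) : Ω),
        le_sup_left (b := centralizerIn V Q) (e.symm ⟨r, hr⟩).2⟩ =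
      ⟨((a (e.symm ⟨r, hr⟩) : Q) : Ω),
        le_sup_left (b := centralizerIn V Q) (a (e.symm ⟨r, hr⟩)).2⟩ from
      Subtype.ext (h2.trans (by rw [Subtype.coe_eta])), hκ _ (a (e.symm ⟨r, hr⟩)).2,
      Subtype.coe_eta]

/-- The lifts agree between fully centralized conjugates. -/
theorem liftable_congr [Fact p.Prime] [Finite V] (hV : IsPGroup p V) (hG : G.IsSaturated p)
    {Q Q' : Subgroup Ω} (hQ : G.IsFullyCentralized Q) (hQ' : G.IsFullyCentralized Q')
    {e : Q ≃* Q'} (he : IsoIn G e) {a : MulAut Q} (ha : Liftable G Q a) :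
    Liftable G Q' (MulAut.congr e a) := by
  have key : ∀ {A B : Subgroup Ω} {f : A ≃* B}, G.IsFullyCentralized B → IsoIn G f →
      ∃ ψ ∈ G.Hom (A ⊔ centralizerIn V A),
        (∀ x : A, ψ (Subgroup.inclusion le_sup_left x) = ((f x : B) : Ω)) ∧
        ψ.range ≤ B ⊔ centralizerIn V B := by
    intro A B f hB hf
    obtain ⟨ψ, hψ, hag⟩ := exists_extension (IsSaturated.receptive hV hG hB) hf le_sup_left
      (sup_le_extender hf)
    exact ⟨ψ, hψ, hag, range_le_of_gens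
      (fun x => Subgroup.mem_sup_left (by rw [hag]; exact (f x).2))
      fun y => Subgroup.mem_sup_right (extension_mem_centralizerIn hψ le_sup_left hag _ y.2)⟩
  obtain ⟨ψ, hψ, hag, hle⟩ := key hQ' he
  obtain ⟨χ, hχ, -, hle'⟩ := key hQ he.symm
  have := finite_le (sup_centralizerIn_le_S (S := V) hQ'.1)
  have := finite_le (sup_centralizerIn_le_S (S := V) hQ.1)
  have hr : ψ.range = Q' ⊔ centralizerIn V Q' := by
    refine Subgroup.eq_of_le_of_card_ge hle ?_
    rw [← Nat.card_congr (MonoidHom.ofInjective (G.injective_of_mem hψ)).toEquiv]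
    exact (Nat.card_congr (MonoidHom.ofInjective (G.injective_of_mem hχ)).toEquiv).le.trans
      (Subgroup.card_le_of_le hle')
  obtain ⟨κ, hκ, hκv⟩ := exists_iso hψ hr
  exact liftable_of_equiv hQ.1 κ (fun r hr => (hκv _).trans (hag ⟨r, hr⟩))
    (fun x hx => hκ.congr_autGroup.le ⟨x, hx, rfl⟩) ha

/-- The automorphisms of `R` in `G` lifting at every fully centralized conjugate. -/
def lGroup [Finite V] (G : FusionSystem V) (R : Subgroup Ω) : Subgroup (MulAut R) where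
  carrier := {a | a ∈ G.autGroup R ∧ ∀ (Q : Subgroup Ω) (e : R ≃* Q), G.IsFullyCentralized Q →
    IsoIn G e → Liftable G Q (MulAut.congr e a)}
  one_mem' := ⟨one_mem _, fun Q e _ _ => by
    rw [map_one]
    exact ⟨1, TrivAut.one Q, fun r hr => rfl⟩⟩
  mul_mem' := fun {a b} ha hb => ⟨mul_mem ha.1 hb.1, fun Q e hQ he => by
    rw [map_mul]
    exact (ha.2 Q e hQ he).mul (hb.2 Q e hQ he)⟩
  inv_mem' := fun {a} ha => ⟨inv_mem ha.1, fun Q e hQ he => by
    have := finite_mulAut_of_le (S := V) hQ.1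
    obtain ⟨n, hn⟩ := mem_powers_iff_mem_zpowers.2
      (Subgroup.inv_mem _ (Subgroup.mem_zpowers (MulAut.congr e a)))
    rw [map_inv, ← show MulAut.congr e a ^ n = (MulAut.congr e a)⁻¹ from hn]
    exact (ha.2 Q e hQ he).pow n⟩

theorem lGroup_le [Finite V] (R : Subgroup Ω) : lGroup G R ≤ G.autGroup R := fun _ h => h.1

/-- A fully centralized conjugate exists. -/
theorem exists_fc [Fact p.Prime] [Finite V] (hV : IsPGroup p V) (hG : G.IsSaturated p)
    {R : Subgroup Ω} (hR : R ≤ V) :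
    ∃ (Q : Subgroup Ω) (e : R ≃* Q), G.IsFullyCentralized Q ∧ IsoIn G e := by
  obtain ⟨Q, hRQ, hQn⟩ := exists_fullyNormalized (F := G) hR
  obtain ⟨e, he⟩ := isConj_iff.1 hRQ
  exact ⟨Q, e, IsSaturated.fullyCentralized hV hG hQn, he⟩

/-- One fully centralized conjugate suffices. -/
theorem mem_lGroup_of_fc [Fact p.Prime] [Finite V] (hV : IsPGroup p V) (hG : G.IsSaturated p)
    {R Q : Subgroup Ω} (hQ : G.IsFullyCentralized Q) {e : R ≃* Q} (he : IsoIn G e)
    {a : MulAut R} (ha : a ∈ G.autGroup R) (hl : Liftable G Q (MulAut.congr e a)) :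
    a ∈ lGroup G R := by
  refine ⟨ha, fun Q' f hQ' hf => ?_⟩
  have h := liftable_congr hV hG hQ hQ' (he.symm.trans hf) hl
  rwa [congr_trans, congr_symm_congr'] at h

/-- An automorphism of the fully centralized `Q` with a lift. -/
theorem mem_lGroup_of_liftable [Fact p.Prime] [Finite V] (hV : IsPGroup p V) (hG : G.IsSaturated p)
    {Q : Subgroup Ω} (hQ : G.IsFullyCentralized Q) {a : MulAut Q} (ha : Liftable G Q a) :
    a ∈ lGroup G Q := by
  obtain ⟨x, hx, hxa⟩ := ha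
  refine mem_lGroup_of_fc hV hG hQ (isoIn_refl hQ.1) ?_ (by rw [congr_refl']; exact ⟨x, hx, hxa⟩)
  refine (mem_autGroup_iff hQ.1).2 (restrict_mem'
    ((mem_autGroup_iff (sup_centralizerIn_le_S hQ.1)).1 hx.1) le_sup_left fun r => ?_)
  exact (hxa r r.2).symm

theorem liftable_of_mem_lGroup [Finite V] {Q : Subgroup Ω} (hQ : G.IsFullyCentralized Q)
    {a : MulAut Q} (ha : a ∈ lGroup G Q) : Liftable G Q a := by
  have h := ha.2 Q (MulEquiv.refl Q) hQ (isoIn_refl hQ.1)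
  rwa [congr_refl'] at h

/-- Transport inside `G`. -/
theorem lGroup_congr_in [Finite V] {R R' : Subgroup Ω} {e : R ≃* R'} (he : IsoIn G e)
    {a : MulAut R} (ha : a ∈ lGroup G R) : MulAut.congr e a ∈ lGroup G R' := by
  refine ⟨he.congr_autGroup.le ⟨a, ha.1, rfl⟩, fun Q f hQ hf => ?_⟩
  rw [← congr_trans]
  exact ha.2 Q _ hQ (he.trans hf)

/-- Transport by the isomorphisms of an ambient system. -/
theorem lGroup_congr [Fact p.Prime] [Finite V] (hV : IsPGroup p V) (hG : G.IsSaturated p)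
    (hi : G.IsInvariantIn F) {R R' : Subgroup Ω} (hR : R ≤ V) {e : R ≃* R'} (he : IsoIn F e)
    {a : MulAut R} (ha : a ∈ lGroup G R) : MulAut.congr e a ∈ lGroup G R' := by
  obtain ⟨α, hα, φ₀, hφ₀, hv⟩ := hi.2.2.2 R hR _ he.mem
  obtain ⟨e₀, he₀, he₀v⟩ := exists_iso hφ₀ (Q := φ₀.range) rfl
  have ha₀ := lGroup_congr_in he₀ ha
  have hR₀ : φ₀.range ≤ V := hom_range_le hφ₀
  have hev : ∀ x : R, ((e x : R') : Ω) = ((α ⟨φ₀ x, hom_apply_mem hφ₀ x⟩ : V) : Ω) :=
    fun x => hv x _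
  obtain rfl : R' = mapS (α : V ≃* V) φ₀.range := by
    refine le_antisymm (fun y hy => ?_) ?_
    · refine ⟨⟨φ₀ (e.symm ⟨y, hy⟩), hom_apply_mem hφ₀ _⟩, ⟨_, rfl⟩, ?_⟩
      show ((α _ : V) : Ω) = y
      rw [← hev, MulEquiv.apply_symm_apply]
    · rintro _ ⟨s, ⟨x, hx⟩, rfl⟩
      show ((α s : V) : Ω) ∈ _
      rw [show s = ⟨φ₀ x, hom_apply_mem hφ₀ x⟩ from Subtype.ext hx.symm, ← hev]
      exact (e x).2
  set m := mapSEquiv (α : V ≃* V) hR₀ with hm
  have hem : e = e₀.trans m := MulEquiv.ext fun x => Subtype.ext (by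
    rw [hev, MulEquiv.trans_apply, hm, mapSEquiv_apply]
    exact congrArg (fun z : V => ((α z : V) : Ω)) (Subtype.ext (he₀v x).symm))
  rw [hem, congr_trans]
  have hsys := sysEquiv_of_invariant hi hα
  obtain ⟨Q, f, hQ, hf⟩ := exists_fc hV hG hR₀
  have hl := ha₀.2 Q f hQ hf
  have hQm := hsys.fullyCentralized hQ
  have hf' := hsys.1.isoIn hf
  refine mem_lGroup_of_fc hV hG hQm hf' ?_ ?_
  · exact hsys.1.autGroup_mem (restricts_mapSEquiv _ hR₀) ha₀.1
  have hW := sup_centralizerIn_le_S (S := V) hQ.1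
  have hWeq : mapS (α : V ≃* V) (Q ⊔ centralizerIn V Q) =
      mapS (α : V ≃* V) Q ⊔ centralizerIn V (mapS (α : V ≃* V) Q) := by
    rw [mapS_sup hQ.1 (centralizerIn_le Q), mapS_centralizerIn hQ.1]
  set κ := (mapSEquiv (α : V ≃* V) hW).trans (MulEquiv.subgroupCongr hWeq) with hκ
  have hκr : Restricts (α : V ≃* V) κ := ⟨hW, fun t ht => rfl⟩
  have h := liftable_of_equiv hQ.1 (e := mapSEquiv (α : V ≃* V) hQ.1) κ
    (fun r hr => rfl) (fun x hx => hsys.1.autGroup_mem hκr hx) hl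
  rw [congr_trans, hm, congr_symm_congr', congr_trans]
  exact h

/-- Conjugations by `T` lift. -/
theorem induced_mem_lGroup [Fact p.Prime] [Finite V] (hV : IsPGroup p V) (hG : G.IsSaturated p)
    (hsub : G.IsSubsystemOf F) (hT : G.StronglyClosed T) {R : Subgroup Ω} (hR : TCentric F T R)
    {a : MulAut R} (ha : a ∈ autInducedBy T R) : a ∈ lGroup G R := by
  obtain ⟨t, ht, htv⟩ := mem_autInducedBy_iff.1 ha
  have hRV : R ≤ V := hR.le.trans hT.1
  obtain ⟨Q, hRQ, hQn⟩ := exists_fullyNormalized (F := G) hRV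
  have hQc := IsSaturated.fullyCentralized hV hG hQn
  obtain ⟨f, hf, -, himg⟩ := exists_normalizer_map hV (IsSaturated.fullyAutomized hV hG hQn)
    (IsSaturated.receptive hV hG hQc) hRQ
  have hRN := le_normalizerIn hRV
  obtain ⟨e, he, hev⟩ := exists_iso (Q := Q) (restrict_mem hf hRN) (by rw [range_restrict, himg])
  have htN : t ∈ normalizerIn V R := ⟨hT.1 ht, mem_normalizer_of_conj_eq _ htv⟩
  set t' := f ⟨t, htN⟩ with ht'
  have hQT : Q ≤ T := fun y hy => by
    have h := hT.2 R hR.le _ he.mem (e.symm ⟨y, hy⟩)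
    rwa [isoHom_apply, MulEquiv.apply_symm_apply] at h
  have ht'T : t' ∈ T := hT.2 (Subgroup.zpowers t) (Subgroup.zpowers_le.2 ht) _
    (restrict_mem hf (Subgroup.zpowers_le.2 htN)) ⟨t, Subgroup.mem_zpowers t⟩
  have hv : ∀ y : Q, ((MulAut.congr e a y : Q) : Ω) = t' * (y : Ω) * t'⁻¹ := by
    intro y
    obtain ⟨x, rfl⟩ := e.surjective y
    rw [show MulAut.congr e a (e x) = e (a x) by simp [MulAut.congr], hev, hev, ht', ← map_inv]
    show f _ = f _ * f _ * f _
    rw [← map_mul, ← map_mul]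
    exact congrArg f (Subtype.ext (htv x))
  have ht'N : t' ∈ normalizerIn T Q := ⟨ht'T, mem_normalizer_of_conj_eq _ hv⟩
  refine mem_lGroup_of_fc hV hG hQc he
    (autInducedBy_le_autGroup hRV (autInducedBy_mono hT.1 ha)) ?_
  have hQc' : centralizerIn T Q ≤ Q := hR.2 Q ⟨_, hsub R he.mem, isoHom_range e⟩
  rw [show MulAut.congr e a = conjAut (S := T) ⟨t', ht'N⟩ from
    MulEquiv.ext fun y => Subtype.ext (hv y)]
  exact trivAut_conjAut hT hQT hQc' ht'N

end CfsgLib.Fusion.Meet
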