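import Cfsg.Agent.Lib.Fusion.CentricNormal
import Cfsg.Agent.Lib.Fusion.RadicalNormalizer
import Cfsg.Agent.Lib.Fusion.NormalCriterion

/-!
Stability of a fusion system is detected on normalizer systems.
-/

set_option autoImplicit false

namespace CfsgLib.Fusion

open Cfsg Cfsg.FusionSystem

variable {Ω : Type*} [Group Ω] {S : Subgroup Ω} {F : FusionSystem S} {p : ℕ}

/-- Quadratic action of an automorphism. -/
def QuadAut {Q : Subgroup Ω} (χ : MulAut Q) : Prop :=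
  ∀ a : Q, (χ a⁻¹) * a * (χ a⁻¹) * (χ (χ a)) = 1

/-- The stability condition at `Q`. -/
def StableAt (F : FusionSystem S) (p : ℕ) (Q : Subgroup Ω) : Prop :=
  ∀ χ : MulAut Q, χ ∈ F.autGroup Q → QuadAut χ →
    χ ∈ ((pCore p (F.autGroup Q)).map (F.autGroup Q).subtype : Subgroup (MulAut Q))

theorem mem_pCoreMap_iff {M : Type*} [Group M] (A : Subgroup M) {χ : M} :
    χ ∈ (pCore p A).map A.subtype ↔ ∃ K : Subgroup M, K ≤ A ∧
      (∀ a ∈ A, ∀ k ∈ K, a * k * a⁻¹ ∈ K) ∧ IsPGroup p K ∧ χ ∈ K ∧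
      K ≤ (pCore p A).map A.subtype := by
  refine ⟨fun h => ⟨_, Subgroup.map_subtype_le _, ?_, (Core.isPGroup_pCore _ _).map _, h, le_rfl⟩,
    fun ⟨K, _, _, _, hχ, hle⟩ => hle hχ⟩
  rintro a ha _ ⟨k, hk, rfl⟩
  exact ⟨_, Subgroup.Normal.conj_mem inferInstance k hk ⟨a, ha⟩, rfl⟩

theorem le_pCoreMap {M : Type*} [Group M] {A K : Subgroup M} (hKA : K ≤ A)
    (hKn : ∀ a ∈ A, ∀ k ∈ K, a * k * a⁻¹ ∈ K) (hKp : IsPGroup p K) :
    K ≤ (pCore p A).map A.subtype := by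
  have : (K.subgroupOf A).Normal := ⟨fun k hk a => hKn _ a.2 _ hk⟩
  exact fun k hk => ⟨⟨k, hKA hk⟩,
    Core.le_pCore (hKp.of_equiv (Subgroup.subgroupOfEquivOfLe hKA).symm) hk, rfl⟩

theorem StableAt.congr {Q Q' : Subgroup Ω} {e : Q ≃* Q'} (he : IsoIn F e) (h : StableAt F p Q) :
    StableAt F p Q' := by
  intro χ hχ hq
  have hA := he.congr_autGroup
  obtain ⟨χ₀, hχ₀, rfl⟩ := hA.ge hχ
  have hq₀ : QuadAut χ₀ := fun a => e.injective (by
    have := hq (e a)
    simpa [MulAut.congr] using this)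
  obtain ⟨K, hKA, hKn, hKp, hK, -⟩ := (mem_pCoreMap_iff _).1 (h χ₀ hχ₀ hq₀)
  refine le_pCoreMap ((Subgroup.map_mono hKA).trans hA.le) ?_ (hKp.map _)
    (Subgroup.mem_map_of_mem _ hK)
  intro a ha
  obtain ⟨a₀, ha₀, rfl⟩ := hA.ge ha
  rintro _ ⟨k, hk, rfl⟩
  exact ⟨_, hKn a₀ ha₀ k hk, by rw [map_mul, map_mul, map_inv]⟩

theorem StableAt.mono {T : Subgroup Ω} {E : FusionSystem T} {Q : Subgroup Ω}
    (hle : E.autGroup Q ≤ F.autGroup Q) (h : StableAt F p Q) : StableAt E p Q := by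
  intro χ hχ hq
  obtain ⟨K, -, hKn, hKp, hK, -⟩ := (mem_pCoreMap_iff _).1 (h χ (hle hχ) hq)
  refine le_pCoreMap (K := K ⊓ E.autGroup Q) inf_le_right ?_ (hKp.to_le inf_le_left) ⟨hK, hχ⟩
  intro a ha k hk
  exact ⟨hKn a (hle ha) k hk.1,
    Subgroup.mul_mem _ (Subgroup.mul_mem _ ha hk.2) (Subgroup.inv_mem _ ha)⟩

theorem normalizerSystem_autGroup_le {R Q : Subgroup Ω} {E : FusionSystem (normalizerIn S R)}
    (hE : F.IsNormalizerSystem R E) (hQ : Q ≤ normalizerIn S R) :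
    E.autGroup Q ≤ F.autGroup Q := fun _ hα =>
  (mem_autGroup_iff (hQ.trans (normalizerIn_le R))).2
    (normalizerSystem_le hE ((mem_autGroup_iff hQ).1 hα))

/-- Stability passes to normalizer systems. -/
theorem stableAt_normalizer [Finite S]
    (h : ∀ Q, F.IsFullyNormalized Q → StableAt F p Q) {R : Subgroup Ω}
    {E : FusionSystem (normalizerIn S R)} (hE : F.IsNormalizerSystem R E) {Q : Subgroup Ω}
    (hQ : Q ≤ normalizerIn S R) : StableAt E p Q := by
  obtain ⟨Q', hc, hn⟩ := exists_fullyNormalized (F := F) (hQ.trans (normalizerIn_le R))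
  obtain ⟨e, he⟩ := isConj_iff.1 (isConj_symm hc)
  exact StableAt.mono (normalizerSystem_autGroup_le hE hQ) (StableAt.congr he (h Q' hn))

theorem IsFullyNormalized.sup_centralizerIn_centric [Fact p.Prime] [Finite S] (hS : IsPGroup p S)
    (hF : F.IsSaturated p) {Q : Subgroup Ω} (hQ : F.IsFullyNormalized Q) :
    F.IsCentric (Q ⊔ centralizerIn S Q) := by
  set C := centralizerIn S Q
  refine ⟨sup_le hQ.1 (centralizerIn_le Q), fun R ⟨φ, hφ, hR⟩ => ?_⟩
  subst hR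
  set Q' := img φ Q
  have hC : img φ C ≤ centralizerIn S Q' := by
    rintro _ ⟨c, hc, rfl⟩
    refine mem_centralizerIn.2 ⟨hom_apply_mem hφ c, ?_⟩
    rintro _ ⟨q, hq, rfl⟩
    rw [← map_mul, ← map_mul]
    exact congrArg φ (Subtype.ext ((mem_centralizerIn.1 hc).2 q hq))
  have := finite_le (centralizerIn_le (S := S) Q')
  have heq : img φ C = centralizerIn S Q' := by
    refine Subgroup.eq_of_le_of_card_ge hC ?_
    rw [card_img (F.injective_of_mem hφ) le_sup_right]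
    exact (IsSaturated.fullyCentralized hS hF hQ).2 _ (isConj_img hφ le_sup_left)
  exact (centralizerIn_antitone (img_le_range φ Q)).trans (heq.ge.trans (img_le_range φ C))

/-- The automorphisms of `Q` extend to automorphisms of `R`. -/
def AutExtends (F : FusionSystem S) (Q R : Subgroup Ω) : Prop :=
  ∃ hQR : Q ≤ R, ∀ α ∈ F.autGroup Q, ∃ β ∈ F.autGroup R,
    ∀ x : Q, ((β (Subgroup.inclusion hQR x) : R) : Ω) = ((α x : Q) : Ω)

/-- It is enough to know stability where all automorphisms extend to a fully normalized centric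
radical subgroup. -/
theorem stableAt_of_radical [Fact p.Prime] [Finite S] (hS : IsPGroup p S) (hF : F.IsSaturated p)
    (H : ∀ R : Subgroup Ω, F.IsFullyNormalized R → F.IsCentric R → F.IsRadical p R →
      ∀ Q, AutExtends F Q R → StableAt F p Q) :
    ∀ (n : ℕ) (R : Subgroup Ω), Nat.card S - Nat.card R ≤ n → F.IsCentric R →
      ∀ Q, AutExtends F Q R → StableAt F p Q := by
  intro n
  induction n using Nat.strong_induction_on with
  | _ n ih =>
  intro R₀ hn hc₀ Q₀ ⟨hQR₀, hext₀⟩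
  obtain ⟨R, hconj, hRn⟩ := exists_fullyNormalized (F := F) hc₀.1
  obtain ⟨e, he⟩ := isConj_iff.1 hconj
  have hc := isCentric_of_isConj hc₀ hconj
  have hcard : Nat.card R₀ = Nat.card R := isConj_card hconj
  set Q := img (isoHom e) Q₀
  obtain ⟨f, hf, hfv⟩ := exists_iso (restrict_mem he.mem hQR₀) (range_restrict (isoHom e) hQR₀)
  refine StableAt.congr hf.symm ?_
  have hQR : Q ≤ R := (img_le_range _ _).trans (isoHom_range e).le
  have hfe : ∀ x, Subgroup.inclusion hQR (f x) = e (Subgroup.inclusion hQR₀ x) :=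
    fun x => Subtype.ext (hfv x)
  have hext : ∀ α ∈ F.autGroup Q, ∃ β ∈ F.autGroup R,
      ∀ x : Q, ((β (Subgroup.inclusion hQR x) : R) : Ω) = ((α x : Q) : Ω) := by
    intro α hα
    obtain ⟨α₀, hα₀, rfl⟩ := hf.congr_autGroup.ge hα
    obtain ⟨β₀, hβ₀, hag⟩ := hext₀ α₀ hα₀
    refine ⟨MulAut.congr e β₀, he.congr_autGroup.le ⟨β₀, hβ₀, rfl⟩, fun x => ?_⟩
    obtain ⟨x, rfl⟩ := f.surjective x
    rw [hfe]
    have h1 : β₀ (Subgroup.inclusion hQR₀ x) = Subgroup.inclusion hQR₀ (α₀ x) :=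
      Subtype.ext (hag x)
    simp only [MulAut.congr, MulEquiv.coe_mk, Equiv.coe_fn_mk, MulEquiv.trans_apply,
      MulEquiv.symm_apply_apply, MulEquiv.toMonoidHom_eq_coe, MonoidHom.coe_coe]
    rw [h1, ← hfe]
    rfl
  by_cases hr : F.IsRadical p R
  · exact H R hRn hc hr Q ⟨hQR, hext⟩
  have hRS := hc.1
  have := finite_le hRS
  have := finite_mulAut_of_le (S := S) hRS
  set K : Subgroup (MulAut R) := (pCore p (F.autGroup R)).map (F.autGroup R).subtype with hKdef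
  have hKA : K ≤ F.autGroup R := Subgroup.map_subtype_le _
  have hKn : ∀ a ∈ F.autGroup R, ∀ k ∈ K, a * k * a⁻¹ ∈ K := by
    rintro a ha _ ⟨k, hk, rfl⟩
    exact ⟨_, Subgroup.Normal.conj_mem inferInstance k hk ⟨a, ha⟩, rfl⟩
  have hKS : K ≤ autInducedBy S R :=
    IsFullyAutomized.le_autInducedBy (IsSaturated.fullyAutomized hS hF hRn) hKA hKn
      ((Core.isPGroup_pCore _ _).map _)
  let κ : normalizerIn S R →* MulAut R :=
    R.normalizerMonoidHom.comp (Subgroup.inclusion inf_le_right)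
  set R₁ := (K.comap κ).map (normalizerIn S R).subtype with hR₁def
  have hmem₁ : ∀ g : normalizerIn S R, (g : Ω) ∈ R₁ ↔ κ g ∈ K := fun g =>
    ⟨fun ⟨_, hy, h⟩ => (Subtype.ext h : _ = g) ▸ hy, fun h => ⟨g, h, rfl⟩⟩
  have hR₁N : R₁ ≤ normalizerIn S R := Subgroup.map_subtype_le _
  have hRR₁ : R ≤ R₁ := fun g hg => (hmem₁ ⟨g, le_normalizerIn hRS hg⟩).2
    ⟨⟨_, inn_le_autGroup hRS ⟨⟨g, hg⟩, rfl⟩⟩, innIn_le_pCore hS hRS ⟨⟨g, hg⟩, rfl⟩,
      MulEquiv.ext fun x => rfl⟩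
  have hlt : R < R₁ := by
    refine lt_of_le_of_ne hRR₁ fun heq => hr ((isRadical_iff_le hS hRS).2 fun a ha => ?_)
    obtain ⟨g, hg, hgv⟩ := mem_autInducedBy_iff.1 (hKS ⟨a, ha, rfl⟩)
    have hgN : g ∈ normalizerIn S R := ⟨hg, mem_normalizer_of_conj_eq _ hgv⟩
    have hκ : κ ⟨g, hgN⟩ = (a : MulAut R) := MulEquiv.ext fun x => Subtype.ext (hgv x).symm
    have hgR : g ∈ R := heq ▸ (hmem₁ ⟨g, hgN⟩).2 (hκ ▸ ⟨a, ha, rfl⟩)
    exact ⟨⟨g, hgR⟩, MulEquiv.ext fun x => Subtype.ext (hgv x).symm⟩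
  have hR₁S : R₁ ≤ S := hR₁N.trans (normalizerIn_le R)
  have := finite_le hR₁S
  have hcard₁ : Nat.card R < Nat.card R₁ :=
    lt_of_le_of_ne (Subgroup.card_le_of_le hlt.le) fun h =>
      hlt.ne (Subgroup.eq_of_le_of_card_ge hlt.le h.ge)
  refine ih (Nat.card S - Nat.card R₁) ?_ R₁ le_rfl (isCentric_mono hc hRR₁ hR₁S) Q
    ⟨hQR.trans hRR₁, fun α hα => ?_⟩
  · have := Subgroup.card_le_of_le hR₁S
    omega
  obtain ⟨β, hβ, hag⟩ := hext α hα
  have hβi : IsoIn F (β : R ≃* R) := (mem_autGroup_iff_isoIn hRS).1 hβ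
  have hx : R₁ ≤ extender S R (isoHom (β : R ≃* R)) := by
    intro g hg
    have hgN := hR₁N hg
    obtain ⟨h, hh, hhv⟩ := mem_autInducedBy_iff.1
      (hKS (hKn β hβ _ ((hmem₁ ⟨g, hgN⟩).1 hg)))
    refine mem_extender_iff.2 ⟨hgN.1, hgN.2, h, hh, fun x hx => ?_⟩
    rw [isoHom_apply, isoHom_apply, ← hhv ((β : R ≃* R) x), MulAut.mul_apply, MulAut.mul_apply,
      MulAut.inv_apply_self]
    exact congrArg (fun z => ((β z : R) : Ω)) (Subtype.ext rfl)
  obtain ⟨ψ, hψ, hψv⟩ :=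
    exists_extension (IsSaturated.receptive hS hF (IsSaturated.fullyCentralized hS hF hRn)) hβi
      hRR₁ hx
  have hψle : ψ.range ≤ R₁ := by
    rintro _ ⟨g, rfl⟩
    have hgN : ψ g ∈ normalizerIn S R :=
      extension_mem_normalizerIn hψ hRR₁ (hR₁N.trans inf_le_right) hψv g
    refine (hmem₁ ⟨ψ g, hgN⟩).2 ?_
    have hk := hKn β hβ _ ((hmem₁ ⟨g, hR₁N g.2⟩).1 g.2)
    have : κ ⟨ψ g, hgN⟩ = β * κ ⟨g, hR₁N g.2⟩ * β⁻¹ := by
      refine MulEquiv.ext fun x => Subtype.ext ?_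
      obtain ⟨y, rfl⟩ := β.surjective x
      rw [MulAut.mul_apply, MulAut.mul_apply, MulAut.inv_apply_self]
      show ψ g * ((β y : R) : Ω) * (ψ g)⁻¹ = _
      rw [← hψv, ← hψv, ← map_inv, ← map_mul, ← map_mul]
      exact congrArg ψ (Subtype.ext rfl)
    rwa [this]
  have hψR : ψ.range = R₁ := Subgroup.eq_of_le_of_card_ge hψle
    (le_of_eq (Nat.card_congr (MonoidHom.ofInjective (F.injective_of_mem hψ)).toEquiv))
  obtain ⟨β₁, hβ₁, hβ₁v⟩ := exists_iso hψ hψR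
  refine ⟨β₁, (mem_autGroup_iff_isoIn hR₁S).2 hβ₁, fun x => ?_⟩
  rw [hβ₁v, ← hag x]
  exact hψv (Subgroup.inclusion hQR x)

/-- The converse direction of the centric radical criterion. -/
theorem stableAt_of_normalizers [Fact p.Prime] [Finite S] (hS : IsPGroup p S)
    (hF : F.IsSaturated p)
    (h : ∀ R : Subgroup Ω, F.IsFullyNormalized R → F.IsCentric R → F.IsRadical p R →
      ∀ E : FusionSystem (normalizerIn S R), F.IsNormalizerSystem R E →
        ∀ Q, E.IsFullyNormalized Q → StableAt E p Q)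
    {Q : Subgroup Ω} (hQ : F.IsFullyNormalized Q) : StableAt F p Q := by
  set R₀ := Q ⊔ centralizerIn S Q with hR₀
  refine stableAt_of_radical hS hF (fun R hRn hRc hRr Q' ⟨hQR, hext⟩ => ?_) _ R₀ le_rfl
    (IsFullyNormalized.sup_centralizerIn_centric hS hF hQ) Q ⟨le_sup_left, fun α hα => ?_⟩
  · set E := normSystem F R hRn.1 with hEdef
    have hE : F.IsNormalizerSystem R E := normSystem_isNormalizerSystem F R hRn.1
    have hQN : Q' ≤ normalizerIn S R := hQR.trans (le_normalizerIn hRn.1)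
    have := finite_le (normalizerIn_le (S := S) R)
    have hle : F.autGroup Q' ≤ E.autGroup Q' := by
      intro α hα
      obtain ⟨β, hβ, hag⟩ := hext α hα
      refine (mem_autGroup_iff hQN).2 ?_
      rw [hE Q']
      have hsup : Q' ⊔ R ≤ R := sup_le hQR le_rfl
      refine ⟨(mem_autGroup_iff (hQR.trans hRn.1)).1 hα, hQN, fun x => hQN (α x).2,
        (R.subtype.comp β.toMonoidHom).comp (Subgroup.inclusion hsup),
        restrict_mem ((mem_autGroup_iff hRn.1).1 hβ) hsup, hag, ?_⟩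
      refine le_antisymm ?_ fun y hy => ?_
      · rintro _ ⟨x, -, rfl⟩
        exact (β _).2
      · exact ⟨Subgroup.inclusion le_sup_right (β.symm ⟨y, hy⟩), (β.symm ⟨y, hy⟩).2,
          congrArg Subtype.val (β.apply_symm_apply ⟨y, hy⟩)⟩
    obtain ⟨Q'', hc, hn⟩ := exists_fullyNormalized (F := E) hQN
    obtain ⟨e, he⟩ := isConj_iff.1 (isConj_symm hc)
    exact StableAt.mono hle (StableAt.congr he (h R hRn hRc hRr E hE Q'' hn))
  · have hrec := IsSaturated.receptive hS hF (IsSaturated.fullyCentralized hS hF hQ)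
    have hαi : IsoIn F (α : Q ≃* Q) := (mem_autGroup_iff_isoIn hQ.1).1 hα
    obtain ⟨ψ, hψ, hψv⟩ := exists_extension hrec hαi le_sup_left (sup_le_extender hαi)
    have hR₀S : R₀ ≤ S := sup_le hQ.1 (centralizerIn_le Q)
    have := finite_le hR₀S
    have hle : ψ.range ≤ R₀ := by
      rw [MonoidHom.range_eq_map, ← Subgroup.subgroupOf_self (H := R₀),
        Subgroup.subgroupOf_sup le_sup_left le_sup_right, Subgroup.map_sup]
      refine sup_le_sup ?_ ?_
      · rintro _ ⟨x, hx, rfl⟩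
        exact (hψv ⟨x, hx⟩).symm ▸ (α ⟨x, hx⟩).2
      · rintro _ ⟨x, hx, rfl⟩
        exact extension_mem_centralizerIn hψ le_sup_left hψv x hx
    obtain ⟨β, hβ, hβv⟩ := exists_iso hψ (Subgroup.eq_of_le_of_card_ge hle
      (le_of_eq (Nat.card_congr (MonoidHom.ofInjective (F.injective_of_mem hψ)).toEquiv)))
    exact ⟨β, (mem_autGroup_iff_isoIn hR₀S).2 hβ, fun x => (hβv _).trans (hψv x)⟩

theorem QuadAut.exists_pow_eq_one [Fact p.Prime] {Q : Subgroup Ω} [Finite Q] (hQ : IsPGroup p Q)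
    {χ : MulAut Q} (hq : QuadAut χ) : ∃ k, χ ^ p ^ k = 1 := by
  obtain ⟨m, hm⟩ := IsPGroup.iff_card.1 hQ
  refine ⟨m, MulEquiv.ext fun a => ?_⟩
  set c := a⁻¹ * χ a with hc
  have hfix : χ c = c := by
    have h1 := hq a
    rw [map_inv, mul_assoc] at h1
    rw [hc, map_mul, map_inv, eq_inv_of_mul_eq_one_right h1, mul_inv_rev, inv_inv]
  have hpow : ∀ j : ℕ, (χ ^ j) a = a * c ^ j := by
    intro j
    induction j with
    | zero => simp
    | succ j ih =>
        rw [pow_succ', MulAut.mul_apply, ih, map_mul, map_pow, hfix, pow_succ', ← mul_assoc, hc,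
          mul_inv_cancel_left]
  rw [hpow, ← hm, pow_card_eq_one', mul_one, MulAut.one_apply]

theorem stableAt_cyclic [Fact p.Prime] [Finite S] (hS : IsPGroup p S) {Q : Subgroup Ω}
    (hQ : Q ≤ S) (hcyc : IsCyclic Q) : StableAt F p Q := by
  intro χ hχ hq
  have := finite_le hQ
  obtain ⟨k, hk⟩ := QuadAut.exists_pow_eq_one (hS.to_le hQ) hq
  have hcomm : ∀ a b : MulAut Q, a * b = b * a := by
    intro a b
    obtain ⟨g, hg⟩ := hcyc.exists_generator
    obtain ⟨i, hi⟩ := Subgroup.mem_zpowers_iff.1 (hg (a g))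
    obtain ⟨j, hj⟩ := Subgroup.mem_zpowers_iff.1 (hg (b g))
    refine MulEquiv.ext fun x => ?_
    obtain ⟨l, rfl⟩ := Subgroup.mem_zpowers_iff.1 (hg x)
    rw [MulAut.mul_apply, MulAut.mul_apply, map_zpow, map_zpow, map_zpow, map_zpow, ← hi, ← hj,
      map_zpow, map_zpow, ← hi, ← hj]
    simp only [← zpow_mul, mul_comm, mul_left_comm]
  refine le_pCoreMap (K := Subgroup.zpowers χ) (Subgroup.zpowers_le.2 hχ) ?_ ?_
    (Subgroup.mem_zpowers χ)
  · intro a _ x hx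
    rwa [hcomm a x, mul_inv_cancel_right]
  · rintro ⟨x, hx⟩
    obtain ⟨j, rfl⟩ := Subgroup.mem_zpowers_iff.1 hx
    exact ⟨k, Subtype.ext (show (χ ^ j) ^ p ^ k = 1 by
      rw [← zpow_natCast, zpow_comm, zpow_natCast, hk, one_zpow])⟩

theorem stable_iff_noncyclic [Fact p.Prime] [Finite S] (hS : IsPGroup p S) :
    (∀ Q, F.IsFullyNormalized Q → StableAt F p Q) ↔
      ∀ R : Subgroup Ω, F.IsFullyNormalized R → ¬ IsCyclic R →
        ∀ N : FusionSystem (normalizerIn S R), F.IsNormalizerSystem R N →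
          ∀ Q, N.IsFullyNormalized Q → StableAt N p Q := by
  refine ⟨fun h R _ _ N hN Q hQ => stableAt_normalizer h hN hQ.1, fun h Q hQ => ?_⟩
  by_cases hcyc : IsCyclic Q
  · exact stableAt_cyclic hS hQ.1 hcyc
  have hN := normSystem_isNormalizerSystem F Q hQ.1
  have := finite_le (normalizerIn_le (S := S) Q)
  exact StableAt.mono (normalizerSystem_autGroup hQ.1 hN).ge (h Q hQ hcyc _ hN Q
    (IsNormal.fullyNormalized (normalizerSystem_isNormal hQ.1 hN)))

end CfsgLib.Fusion
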