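import Cfsg.Agent.Lib.Fusion.MeetFamily
import Cfsg.Agent.Lib.Fusion.KNormalizer
import Cfsg.Agent.Lib.Fusion.NormalSubgroup
import Cfsg.Agent.Lib.Fusion.StableNormalizers
import Cfsg.Agent.Lib.Transfer.Fusion

/-!
# The Sylow condition for the intersection of two normal subsystems

At a fully normalized subgroup `Q` centric in `T₁ ⊓ T₂` the automorphisms induced by `T₁ ⊓ T₂` form
a Sylow subgroup of the automorphism group of the intersection; this is a transfer argument in the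
automorphism group of `Q C_S(Q)`.
-/

set_option autoImplicit false
set_option maxHeartbeats 800000
set_option linter.unusedSectionVars false

namespace CfsgLib.Fusion.Meet

open Cfsg Cfsg.FusionSystem CfsgLib.Fusion
open scoped commutatorElement

universe u

variable {Ω : Type u} [Group Ω] {S : Subgroup Ω} {F : FusionSystem S} {p : ℕ}

/-- Transport along an automorphism is conjugation. -/
theorem congr_self {X : Subgroup Ω} (δ a : MulAut X) :
    MulAut.congr (δ : X ≃* X) a = δ * a * δ⁻¹ :=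
  MulEquiv.ext fun x => by simp [MulAut.congr, MulAut.mul_apply, MulAut.inv_def]

/-- A strongly closed subgroup is normalized by `S`. -/
theorem closed_conj {T : Subgroup Ω} (hT : F.StronglyClosed T) {g u : Ω} (hg : g ∈ S)
    (hu : u ∈ T) : g * u * g⁻¹ ∈ T :=
  StronglyClosed.apply_mem hT (F.conj_mem (Subgroup.zpowers_le.2 (hT.1 hu)) hg)
    (x := ⟨u, Subgroup.mem_zpowers u⟩) hu

/-- A Sylow subgroup of `B` cuts a subgroup normalized by `B` in a Sylow subgroup. -/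
theorem isSylowIn_inf_of_normalized {A : Type u} [Group A] [Fact p.Prime] {P B H : Subgroup A}
    [Finite B] (hP : IsSylowIn p P B) (hPB : P ≤ B) (hHB : H ≤ B)
    (hn : ∀ b ∈ B, ∀ x ∈ H, b * x * b⁻¹ ∈ H) : IsSylowIn p (P ⊓ H) H := by
  obtain ⟨T, hle, hTH, hTp, hTs⟩ := exists_isSylowIn_ge (p := p) (inf_le_right : P ⊓ H ≤ H)
    ((hP.isPGroup hPB).to_le inf_le_left)
  obtain ⟨k, hk, hkT⟩ := hP.exists_conj_mem (hTH.trans hHB) hTp
  have : Finite ↥(P ⊓ H) :=
    Finite.of_injective _ (Subgroup.inclusion_injective (inf_le_right.trans hHB : P ⊓ H ≤ B))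
  have : Finite H := Finite.of_injective _ (Subgroup.inclusion_injective hHB)
  have : Finite T := Finite.of_injective _ (Subgroup.inclusion_injective hTH)
  have hc : Nat.card T ≤ Nat.card ↥(P ⊓ H) :=
    Nat.card_le_card_of_injective
      (fun t : T => (⟨k * t * k⁻¹, hkT t t.2, hn k hk t (hTH t.2)⟩ : ↥(P ⊓ H)))
      fun a b hab => Subtype.ext (mul_left_cancel (mul_right_cancel (congrArg Subtype.val hab :)))
  rwa [Subgroup.eq_of_le_of_card_ge hle hc]

/-- An extension carrying conjugation by `s` to the conjugate automorphism. -/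
theorem exists_conj_rep [Fact p.Prime] [Finite S] (hS : IsPGroup p S) (hF : F.IsSaturated p)
    {X : Subgroup Ω} (hX : F.IsFullyCentralized X) {δ γ : MulAut X} (hδ : δ ∈ F.autGroup X)
    {s : Ω} (hs : s ∈ normalizerIn S X) (hγ : ∀ x : X, ((γ x : X) : Ω) = s * (x : Ω) * s⁻¹)
    (hc : δ * γ * δ⁻¹ ∈ autInducedBy S X) :
    ∃ φ ∈ F.Hom (X ⊔ Subgroup.zpowers s),
      (∀ x : X, φ (Subgroup.inclusion le_sup_left x) = ((δ x : X) : Ω)) ∧
      ∀ x : X, (((δ * γ * δ⁻¹) x : X) : Ω) =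
        φ ⟨s, Subgroup.mem_sup_right (Subgroup.mem_zpowers s)⟩ * (x : Ω) *
          (φ ⟨s, Subgroup.mem_sup_right (Subgroup.mem_zpowers s)⟩)⁻¹ := by
  obtain ⟨g, hg, hgv⟩ := mem_autInducedBy_iff.1 hc
  have hδ' : IsoIn F (δ : X ≃* X) := (mem_autGroup_iff_isoIn hX.1).1 hδ
  obtain ⟨φ, hφ, hφv⟩ := exists_extension (IsSaturated.receptive hS hF hX) hδ'
    (le_sup_left : X ≤ X ⊔ Subgroup.zpowers s)
    (sup_le (le_extender hX.1 fun x => hom_apply_mem hδ'.mem x)
      (Subgroup.zpowers_le.2 (mem_extender_iff.2 ⟨hs.1, hs.2, g, hg, fun x hx => by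
        have h2 := hgv (δ x)
        rw [MulAut.mul_apply, MulAut.mul_apply, MulAut.inv_apply_self] at h2
        show ((δ ⟨s * x * s⁻¹, hx⟩ : X) : Ω) = g * ((δ x : X) : Ω) * g⁻¹
        rw [← h2]
        exact congrArg (fun y : X => ((δ y : X) : Ω)) (Subtype.ext (hγ x).symm)⟩)))
  refine ⟨φ, hφ, hφv, fun x => ?_⟩
  obtain ⟨y, rfl⟩ := δ.surjective x
  rw [MulAut.mul_apply, MulAut.mul_apply, MulAut.inv_apply_self, ← hφv, ← hφv, ← map_inv,
    ← map_mul, ← map_mul]
  exact congrArg φ (Subtype.ext (hγ y))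

section Hull

variable {Q : Subgroup Ω}

/-- `a` is the restriction of `x` to `Q`. -/
def Res (S : Subgroup Ω) {Q : Subgroup Ω} (x : MulAut ↥(Q ⊔ centralizerIn S Q)) (a : MulAut Q) :
    Prop :=
  ∀ (r : Ω) (hr : r ∈ Q),
    ((x ⟨r, le_sup_left (b := centralizerIn S Q) hr⟩ : _) : Ω) = ((a ⟨r, hr⟩ : Q) : Ω)

theorem Res.one : Res S (1 : MulAut ↥(Q ⊔ centralizerIn S Q)) 1 := fun _ _ => rfl

theorem Res.mul {x y : MulAut ↥(Q ⊔ centralizerIn S Q)} {a b : MulAut Q} (hx : Res S x a)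
    (hy : Res S y b) : Res S (x * y) (a * b) := fun r hr => by
  rw [MulAut.mul_apply, MulAut.mul_apply,
    show y ⟨r, _⟩ = ⟨((b ⟨r, hr⟩ : Q) : Ω),
      le_sup_left (b := centralizerIn S Q) (b ⟨r, hr⟩).2⟩ from Subtype.ext (hy r hr),
    hx _ (b ⟨r, hr⟩).2, Subtype.coe_eta]

theorem Res.pow {x : MulAut ↥(Q ⊔ centralizerIn S Q)} {a : MulAut Q} (hx : Res S x a) :
    ∀ n : ℕ, Res S (x ^ n) (a ^ n) := by
  intro n
  induction n with
  | zero => rw [pow_zero, pow_zero]; exact Res.one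
  | succ n ih => rw [pow_succ, pow_succ]; exact ih.mul hx

theorem Res.unique {x : MulAut ↥(Q ⊔ centralizerIn S Q)} {a b : MulAut Q} (ha : Res S x a)
    (hb : Res S x b) : a = b :=
  MulEquiv.ext fun r => Subtype.ext ((ha r r.2).symm.trans (hb r r.2))

theorem Res.preserves {x : MulAut ↥(Q ⊔ centralizerIn S Q)} {a : MulAut Q} (hx : Res S x a)
    (r : ↥(Q ⊔ centralizerIn S Q)) (hr : (r : Ω) ∈ Q) : ((x r : _) : Ω) ∈ Q := by
  have := hx r hr
  rw [Subtype.coe_eta] at this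
  rw [this]
  exact (a _).2

theorem Res.inv {x : MulAut ↥(Q ⊔ centralizerIn S Q)} {a : MulAut Q} (hx : Res S x a) :
    Res S x⁻¹ a⁻¹ := fun r hr => by
  have h1 := hx _ (a⁻¹ ⟨r, hr⟩).2
  rw [Subtype.coe_eta, MulAut.apply_inv_self] at h1
  rw [show (⟨r, _⟩ : ↥(Q ⊔ centralizerIn S Q)) =
    x ⟨_, le_sup_left (b := centralizerIn S Q) (a⁻¹ ⟨r, hr⟩).2⟩ from Subtype.ext h1.symm,
    MulAut.inv_apply_self]

theorem apply_centralizer_of_pres [Finite S] (hQ : Q ≤ S)
    {x : MulAut ↥(Q ⊔ centralizerIn S Q)}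
    (hx : ∀ r : ↥(Q ⊔ centralizerIn S Q), (r : Ω) ∈ Q → ((x r : _) : Ω) ∈ Q)
    {c : ↥(Q ⊔ centralizerIn S Q)} (hc : (c : Ω) ∈ centralizerIn S Q) :
    ((x c : _) : Ω) ∈ centralizerIn S Q := by
  have := finite_le hQ
  set f : Q → Q := fun q =>
    ⟨x ⟨q, le_sup_left (b := centralizerIn S Q) q.2⟩, hx _ q.2⟩ with hf
  have hsurj : Function.Surjective f := Finite.surjective_of_injective fun a b hab =>
    Subtype.ext (congrArg Subtype.val
      (x.injective (Subtype.ext (congrArg Subtype.val hab :))) :)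
  refine mem_centralizerIn.2 ⟨sup_centralizerIn_le_S hQ (x c).2, fun q hq => ?_⟩
  obtain ⟨q', hq'⟩ := hsurj ⟨q, hq⟩
  rw [show q = ((x ⟨q', le_sup_left (b := centralizerIn S Q) q'.2⟩ : _) : Ω) from
    (congrArg Subtype.val hq').symm, ← Subgroup.coe_mul, ← Subgroup.coe_mul, ← map_mul, ← map_mul]
  exact congrArg (fun z => ((x z : _) : Ω)) (Subtype.ext ((mem_centralizerIn.1 hc).2 q' q'.2))

theorem normalizer_hull [Finite S] (hQ : Q ≤ S) {g : Ω} (hg : g ∈ normalizerIn S Q) :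
    g ∈ Subgroup.normalizer ((Q ⊔ centralizerIn S Q : Subgroup Ω) : Set Ω) := by
  refine Subgroup.mem_normalizer_iff_map_conj_eq.2 ?_
  have := finite_le (sup_centralizerIn_le_S hQ)
  refine Subgroup.eq_of_le_of_card_ge ?_
    (Subgroup.card_map_of_injective (MulAut.conj g).injective).ge
  rw [Subgroup.map_sup]
  refine sup_le_sup ?_ ?_
  · rintro _ ⟨x, hx, rfl⟩
    exact conj_mem_of_mem_normalizer hg.2 hx
  · rintro _ ⟨c, hc, rfl⟩
    obtain ⟨hcS, hcc⟩ := mem_centralizerIn.1 hc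
    refine mem_centralizerIn.2
      ⟨S.mul_mem (S.mul_mem hg.1 hcS) (S.inv_mem hg.1), fun q hq => ?_⟩
    have h1 := hcc _ (conj_mem_of_mem_normalizer (Subgroup.inv_mem _ hg.2) hq)
    show q * (g * c * g⁻¹) = g * c * g⁻¹ * q
    calc q * (g * c * g⁻¹) = g * (g⁻¹ * q * g⁻¹⁻¹ * c) * g⁻¹ := by group
      _ = g * (c * (g⁻¹ * q * g⁻¹⁻¹)) * g⁻¹ := by rw [h1]
      _ = g * c * g⁻¹ * q := by group

theorem mem_norm_autGroup (hQ : Q ≤ S) {x : MulAut ↥(Q ⊔ centralizerIn S Q)} [Finite S] :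
    x ∈ (normSystem F Q hQ).autGroup (Q ⊔ centralizerIn S Q) ↔
      x ∈ F.autGroup (Q ⊔ centralizerIn S Q) ∧
        ∀ r : ↥(Q ⊔ centralizerIn S Q), (r : Ω) ∈ Q → ((x r : _) : Ω) ∈ Q := by
  rw [mem_autGroup_iff (sup_centralizerIn_le hQ),
    mem_autGroup_iff (sup_centralizerIn_le_S hQ)]
  constructor
  · rintro ⟨h1, -, -, ψ, -, hψ, hψQ⟩
    refine ⟨h1, fun r hr => ?_⟩
    exact hψQ.le ⟨Subgroup.inclusion le_sup_left r, hr, hψ r⟩
  · rintro ⟨h1, h2⟩
    have hWN : (Q ⊔ centralizerIn S Q) ≤ normalizerIn S Q := sup_centralizerIn_le hQ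
    have hle : (Q ⊔ centralizerIn S Q) ⊔ Q ≤ (Q ⊔ centralizerIn S Q) := sup_le le_rfl le_sup_left
    refine ⟨h1, hWN, fun y => hWN (x y).2, _, restrict_mem h1 hle, fun y => rfl, ?_⟩
    have := finite_le hQ
    refine Subgroup.eq_of_le_of_card_ge ?_ (le_of_eq ?_)
    · rintro _ ⟨y, hy, rfl⟩
      exact h2 _ hy
    · rw [Subgroup.card_map_of_injective, card_subgroupOf_eq le_sup_right]
      exact fun a b hab => Subgroup.inclusion_injective hle (x.injective (Subtype.ext hab))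

theorem hull_sylow [Fact p.Prime] [Finite S] (hS : IsPGroup p S) (hF : F.IsSaturated p)
    (hQ : F.IsFullyNormalized Q) :
    IsSylowIn p (autInducedBy (normalizerIn S Q) (Q ⊔ centralizerIn S Q))
      ((normSystem F Q hQ.1).autGroup (Q ⊔ centralizerIn S Q)) := by
  have hN := normalizerSystem_saturated hS hF hQ (normSystem_isNormalizerSystem F Q hQ.1)
  have hNp : IsPGroup p (normalizerIn S Q) := hS.to_le (normalizerIn_le Q)
  have hWN := sup_centralizerIn_le (S := S) hQ.1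
  have := finite_le (normalizerIn_le (S := S) Q)
  refine (IsSaturated.fullyAutomized hNp hN ⟨hWN, fun R hR => ?_⟩).2
  suffices R = Q ⊔ centralizerIn S Q by rw [this]
  obtain ⟨φ, ⟨hφ, -, -, ψ, hψ, hψv, hψQ⟩, rfl⟩ := hR
  have hfin := finite_le (sup_centralizerIn_le_S hQ.1)
  refine Subgroup.eq_of_le_of_card_ge ?_
    (Nat.card_congr (MonoidHom.ofInjective (F.injective_of_mem hφ)).toEquiv).le
  refine range_le_of_gens (fun r => Subgroup.mem_sup_left (hψQ.le ?_)) fun c =>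
    Subgroup.mem_sup_right (mem_centralizerIn.2 ⟨hom_apply_mem hφ _, fun q hq => ?_⟩)
  · exact ⟨Subgroup.inclusion le_sup_left (Subgroup.inclusion le_sup_left r), r.2, hψv _⟩
  · obtain ⟨q', hq', rfl⟩ := hψQ.ge hq
    rw [← hψv, ← map_mul, ← map_mul]
    exact congrArg ψ (Subtype.ext ((mem_centralizerIn.1 c.2).2 _ hq'))

end Hull

section Main

variable {T₁ T₂ : Subgroup Ω} {E₁ : FusionSystem T₁} {E₂ : FusionSystem T₂}
  [Fact p.Prime] [Finite S] [Finite T₁] [Finite T₂]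

/-- A lift to `Q C_S(Q)` of a member of the three lifting groups. -/
def Good (F : FusionSystem S) (E₁ : FusionSystem T₁) (E₂ : FusionSystem T₂) {Q : Subgroup Ω}
    (x : MulAut ↥(Q ⊔ centralizerIn S Q)) : Prop :=
  TrivAut F Q x ∧ ∃ a ∈ liftAll F E₁ E₂ Q, Res S x a

/-- The generators of the group of lifts. -/
def hullGen (p : ℕ) (F : FusionSystem S) (E₁ : FusionSystem T₁) (E₂ : FusionSystem T₂)
    {Q : Subgroup Ω} (hQ : Q ≤ S) : Set (MulAut ↥(Q ⊔ centralizerIn S Q)) :=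
  {z | ∃ y ∈ (normSystem F Q hQ).autGroup (Q ⊔ centralizerIn S Q),
    ∃ r ∈ autInducedBy (normalizerIn (T₁ ⊓ T₂) Q) (Q ⊔ centralizerIn S Q), z = y * r * y⁻¹} ∪
  {z | Good F E₁ E₂ z ∧ (orderOf z).Coprime p}

/-- The group of lifts. -/
def hullGroup (p : ℕ) (F : FusionSystem S) (E₁ : FusionSystem T₁) (E₂ : FusionSystem T₂)
    {Q : Subgroup Ω} (hQ : Q ≤ S) : Subgroup (MulAut ↥(Q ⊔ centralizerIn S Q)) :=
  Subgroup.closure (hullGen p F E₁ E₂ hQ)

namespace Data

variable (h : Data p F E₁ E₂) {Q : Subgroup Ω} (hQ : TCentric F (T₁ ⊓ T₂) Q)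
include h hQ

theorem good_pow {x : MulAut ↥(Q ⊔ centralizerIn S Q)} (hx : Good F E₁ E₂ x) (n : ℕ) :
    Good F E₁ E₂ (x ^ n) := by
  obtain ⟨ht, a, ha, hr⟩ := hx
  exact ⟨ht.pow n, a ^ n, Subgroup.pow_mem _ ha n, hr.pow n⟩

theorem good_induced (hn : F.IsFullyNormalized Q) {r : MulAut ↥(Q ⊔ centralizerIn S Q)}
    (hr : r ∈ autInducedBy (normalizerIn (T₁ ⊓ T₂) Q) (Q ⊔ centralizerIn S Q)) :
    Good F E₁ E₂ r := by
  obtain ⟨g, hg, hgv⟩ := mem_autInducedBy_iff.1 hr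
  have hgS : g ∈ S := h.tclosed.1 hg.1
  set a : MulAut Q := Q.normalizerMonoidHom ⟨g, hg.2⟩ with ha
  have hres : Res S r a := fun x hx => hgv _
  refine ⟨⟨autInducedBy_le_autGroup (sup_centralizerIn_le_S hn.1) (mem_autInducedBy_iff.2
    ⟨g, hgS, hgv⟩), hres.preserves, fun c hc => ?_⟩, a, ?_, hres⟩
  · have hcS : (c : Ω) ∈ S := (mem_centralizerIn.1 hc).1
    have h1 : ((c⁻¹ * r c : _) : Ω) ∈ T₁ ⊓ T₂ := by
      rw [Subgroup.coe_mul, hgv, Subgroup.coe_inv, ← mul_assoc, ← mul_assoc]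
      refine Subgroup.mul_mem _ ?_ (Subgroup.inv_mem _ hg.1)
      simpa using closed_conj h.tclosed (Subgroup.inv_mem _ hcS) hg.1
    have h2 : ((c⁻¹ * r c : _) : Ω) ∈ centralizerIn S Q := by
      rw [Subgroup.coe_mul, Subgroup.coe_inv]
      exact Subgroup.mul_mem _ (Subgroup.inv_mem _ hc)
        (apply_centralizer_of_pres hn.1 hres.preserves hc)
    exact hQ.2 Q (isConj_refl hn.1) (mem_centralizerIn.2 ⟨h1, (mem_centralizerIn.1 h2).2⟩)
  · exact h.meetAut_le_liftAll hQ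
      (h.induced_le hQ (mem_autInducedBy_iff.2 ⟨g, hg.1, fun x => rfl⟩))

theorem good_conj (hn : F.IsFullyNormalized Q) {x y : MulAut ↥(Q ⊔ centralizerIn S Q)}
    (hy : y ∈ (normSystem F Q hn.1).autGroup (Q ⊔ centralizerIn S Q)) (hx : Good F E₁ E₂ x) :
    Good F E₁ E₂ (y * x * y⁻¹) := by
  obtain ⟨⟨hxF, -, hxC⟩, a, ha, hxa⟩ := hx
  have hWS := sup_centralizerIn_le_S hn.1
  obtain ⟨hyF, hyQ⟩ := (mem_norm_autGroup hn.1).1 hy
  obtain ⟨δ, hδF, hδv⟩ := exists_restrict_aut hWS le_sup_left hyF hyQ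
  have hyd : Res S y δ := hδv
  have hall := (hyd.mul hxa).mul hyd.inv
  refine ⟨⟨mul_mem (mul_mem hyF hxF) (Subgroup.inv_mem _ hyF), hall.preserves, fun c hc => ?_⟩,
    δ * a * δ⁻¹, ?_, hall⟩
  · have h1 := hxC _ (apply_centralizer_of_pres hn.1 hyd.inv.preserves hc)
    have h2 := hyQ _ h1
    rw [map_mul, map_inv, MulAut.apply_inv_self] at h2
    exact h2
  · rw [← congr_self]
    exact h.liftAll_congr hQ.le ((mem_autGroup_iff_isoIn hn.1).1 hδF) ha

theorem hullGen_good (hn : F.IsFullyNormalized Q) {z : MulAut ↥(Q ⊔ centralizerIn S Q)}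
    (hz : z ∈ hullGen p F E₁ E₂ hn.1) : Good F E₁ E₂ z := by
  rcases hz with ⟨y, hy, r, hr, rfl⟩ | ⟨hz, -⟩
  · exact h.good_conj hQ hn hy (h.good_induced hQ hn hr)
  · exact hz

theorem hullGroup_good (hn : F.IsFullyNormalized Q) {z : MulAut ↥(Q ⊔ centralizerIn S Q)}
    (hz : z ∈ hullGroup p F E₁ E₂ hn.1) : Good F E₁ E₂ z := by
  induction hz using Subgroup.closure_induction with
  | mem z hz => exact h.hullGen_good hQ hn hz
  | one => exact ⟨TrivAut.one Q, 1, one_mem _, Res.one⟩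
  | mul x y _ _ hx hy =>
      obtain ⟨hxt, a, ha, hxa⟩ := hx
      obtain ⟨hyt, b, hb, hyb⟩ := hy
      exact ⟨hxt.mul hyt, a * b, mul_mem ha hb, hxa.mul hyb⟩
  | inv x _ hx =>
      have := finite_mulAut_of_le (sup_centralizerIn_le_S (S := S) hn.1)
      obtain ⟨n, hn'⟩ := mem_powers_iff_mem_zpowers.2
        (Subgroup.inv_mem _ (Subgroup.mem_zpowers x))
      exact (show x ^ n = x⁻¹ from hn') ▸ h.good_pow hQ hx n

theorem hullGroup_le (hn : F.IsFullyNormalized Q) :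
    hullGroup p F E₁ E₂ hn.1 ≤ (normSystem F Q hn.1).autGroup (Q ⊔ centralizerIn S Q) :=
  fun _ hz => (mem_norm_autGroup hn.1).2
    ⟨(h.hullGroup_good hQ hn hz).1.1, (h.hullGroup_good hQ hn hz).1.2.1⟩

theorem hullGroup_normalized (hn : F.IsFullyNormalized Q) :
    ∀ b ∈ (normSystem F Q hn.1).autGroup (Q ⊔ centralizerIn S Q),
      ∀ x ∈ hullGroup p F E₁ E₂ hn.1, b * x * b⁻¹ ∈ hullGroup p F E₁ E₂ hn.1 := by
  intro b hb x hx
  induction hx using Subgroup.closure_induction with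
  | mem z hz =>
      refine Subgroup.subset_closure ?_
      rcases hz with ⟨y, hy, r, hr, rfl⟩ | ⟨hz, hc⟩
      · exact Or.inl ⟨b * y, mul_mem hb hy, r, hr, by group⟩
      · exact Or.inr ⟨h.good_conj hQ hn hb hz, by
          rwa [← MulAut.conj_apply, (MulAut.conj b).orderOf_eq]⟩
  | one => simp
  | mul x y _ _ hx hy =>
      rw [show b * (x * y) * b⁻¹ = b * x * b⁻¹ * (b * y * b⁻¹) by group]
      exact mul_mem hx hy
  | inv x _ hx =>
      rw [show b * x⁻¹ * b⁻¹ = (b * x * b⁻¹)⁻¹ by group]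
      exact Subgroup.inv_mem _ hx

omit hQ in
/-- On a fully normalized `Q` the elements of `S` acting in `Eᵢ` act as elements of `Tᵢ`. -/
theorem induced_of_autGroup {T₀ : Subgroup Ω} {E : FusionSystem T₀} (hE : E.IsNormalIn F p)
    (hn : F.IsFullyNormalized Q) (hQT : Q ≤ T₀) {a : MulAut Q} (ha : a ∈ E.autGroup Q)
    (hS' : a ∈ autInducedBy S Q) : a ∈ autInducedBy T₀ Q := by
  have hT₀ : F.StronglyClosed T₀ := hE.1.2.2.2.1
  have := finite_le hT₀.1
  have hQn := fullyNormalized_of_ambient h.pgroup h.sat hT₀ hE.1.2.2.1 hn hQT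
  have := finite_mulAut_of_le (S := S) hn.1
  have hle : autInducedBy T₀ Q ≤ E.autGroup Q := autInducedBy_le_autGroup hQT
  have hsy := (IsSaturated.fullyAutomized (h.pgroup.to_le hT₀.1) hE.1.1 hQn).2
  have heq := IsSylowIn.eq_of_le (X := E.autGroup Q ⊓ autInducedBy S Q) hsy hle
    (le_inf hle (autInducedBy_mono hT₀.1)) inf_le_left
    ((isPGroup_autInducedBy h.pgroup).to_le inf_le_right)
  exact heq.le ⟨ha, hS'⟩

/-- The transfer computation. -/
theorem diff_mem (hn : F.IsFullyNormalized Q) {x y : MulAut ↥(Q ⊔ centralizerIn S Q)}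
    (hx : Good F E₁ E₂ x) (hy : Good F E₁ E₂ y)
    (hxP : x ∈ autInducedBy (normalizerIn S Q) (Q ⊔ centralizerIn S Q))
    (hcP : y * x * y⁻¹ ∈ autInducedBy (normalizerIn S Q) (Q ⊔ centralizerIn S Q)) :
    x⁻¹ * (y * x * y⁻¹) ∈
      autInducedBy (normalizerIn (T₁ ⊓ T₂) Q) (Q ⊔ centralizerIn S Q) := by
  have hWS : (Q ⊔ centralizerIn S Q) ≤ S := sup_centralizerIn_le_S hn.1
  have hQc := IsSaturated.fullyCentralized h.pgroup h.sat hn
  have hWc : F.IsFullyCentralized (Q ⊔ centralizerIn S Q) := isCentric_fullyCentralized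
    (isCentric_sup_centralizerIn hQc)
  obtain ⟨s, hs, hsv⟩ := mem_autInducedBy_iff.1 hxP
  obtain ⟨φ, hφ, hφy, hφv⟩ := exists_conj_rep h.pgroup h.sat hWc hy.1.1
    ⟨hs.1, mem_normalizer_of_conj_eq x hsv⟩ hsv (autInducedBy_mono (normalizerIn_le Q) hcP)
  set s' := φ ⟨s, Subgroup.mem_sup_right (Subgroup.mem_zpowers s)⟩ with hs'
  obtain ⟨hxt, a, ha, hxa⟩ := hx
  obtain ⟨hyt, b, hb, hyb⟩ := hy
  have hs'N : s' ∈ Subgroup.normalizer (Q : Set Ω) :=
    mem_normalizer_of_conj_eq (b * a * b⁻¹) fun r =>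
      (((hyb.mul hxa).mul hyb.inv) r r.2).symm.trans (hφv _)
  -- the difference lies in each `Tᵢ`
  have key : ∀ {T₀ : Subgroup Ω} {E : FusionSystem T₀}, E.IsNormalIn F p → Q ≤ T₀ →
      a ∈ E.autGroup Q → s⁻¹ * s' ∈ T₀ := by
    intro T₀ E hE hQT haE
    have hT₀ : F.StronglyClosed T₀ := hE.1.2.2.2.1
    have haS : ∀ r : Q, ((a r : Q) : Ω) = s * (r : Ω) * s⁻¹ := fun r =>
      (hxa r r.2).symm.trans (hsv _)
    obtain ⟨t, ht, htv⟩ := mem_autInducedBy_iff.1
      (h.induced_of_autGroup hE hn hQT haE (mem_autInducedBy_iff.2 ⟨s, hs.1, haS⟩))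
    have hzC : t⁻¹ * s ∈ centralizerIn S Q := mem_centralizerIn.2
      ⟨mul_mem (Subgroup.inv_mem _ (hT₀.1 ht)) hs.1, fun r hr => by
        have h1 : t * r * t⁻¹ = s * r * s⁻¹ := (htv ⟨r, hr⟩).symm.trans (haS ⟨r, hr⟩)
        calc r * (t⁻¹ * s) = t⁻¹ * (t * r * t⁻¹) * s := by group
          _ = t⁻¹ * (s * r * s⁻¹) * s := by rw [h1]
          _ = t⁻¹ * s * r := by group⟩
    have hzW : t⁻¹ * s ∈ (Q ⊔ centralizerIn S Q) := Subgroup.mem_sup_right hzC
    have hzR : t⁻¹ * s ∈ (Q ⊔ centralizerIn S Q) ⊔ Subgroup.zpowers s := Subgroup.mem_sup_left hzW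
    have htR : t ∈ (Q ⊔ centralizerIn S Q) ⊔ Subgroup.zpowers s := by
      have := ((Q ⊔ centralizerIn S Q) ⊔ Subgroup.zpowers s).mul_mem
        (Subgroup.mem_sup_right (Subgroup.mem_zpowers s)) (Subgroup.inv_mem _ hzR)
      rwa [show s * (t⁻¹ * s)⁻¹ = t by group] at this
    have hsplit : s' = φ ⟨t, htR⟩ * ((y ⟨t⁻¹ * s, hzW⟩ : ↥(Q ⊔ centralizerIn S Q)) : Ω) := by
      rw [← hφy, ← map_mul, hs']
      exact congrArg φ (Subtype.ext (mul_inv_cancel_left t s).symm)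
    have hq : (t⁻¹ * s)⁻¹ * ((y ⟨t⁻¹ * s, hzW⟩ : ↥(Q ⊔ centralizerIn S Q)) : Ω) ∈ T₀ :=
      hQT (hyt.2.2 ⟨t⁻¹ * s, hzW⟩ hzC :)
    have hd : t⁻¹ * φ ⟨t, htR⟩ ∈ T₀ :=
      mul_mem (Subgroup.inv_mem _ ht) (StronglyClosed.apply_mem hT₀ hφ ht)
    have hgS : (t⁻¹ * s)⁻¹ ∈ S := Subgroup.inv_mem _ (mem_centralizerIn.1 hzC).1
    have h3 := mul_mem (closed_conj hT₀ hgS hd) hq
    rwa [show (t⁻¹ * s)⁻¹ * (t⁻¹ * φ ⟨t, htR⟩) * (t⁻¹ * s)⁻¹⁻¹ *
        ((t⁻¹ * s)⁻¹ * ((y ⟨t⁻¹ * s, hzW⟩ : ↥(Q ⊔ centralizerIn S Q)) : Ω)) = s⁻¹ * s' by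
      rw [hsplit]; group] at h3
  refine mem_autInducedBy_iff.2 ⟨s⁻¹ * s',
    ⟨⟨key h.normal₁ (hQ.le.trans inf_le_left) (lGroup_le Q ha.2.1),
      key h.normal₂ (hQ.le.trans inf_le_right) (lGroup_le Q ha.2.2)⟩,
      mul_mem (Subgroup.inv_mem _ hs.2) hs'N⟩, fun w => ?_⟩
  have h1 : ∀ w : ↥(Q ⊔ centralizerIn S Q), ((x⁻¹ w : ↥(Q ⊔ centralizerIn S Q)) : Ω) = s⁻¹ * (w : Ω) * s := fun w => by
    obtain ⟨v, rfl⟩ := x.surjective w
    rw [MulAut.inv_apply_self, hsv]
    group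
  rw [MulAut.mul_apply, h1, hφv]
  group

/-- The lifts in `P` are induced by `T₁ ⊓ T₂`. -/
theorem hullGroup_inf_le (hn : F.IsFullyNormalized Q) :
    autInducedBy (normalizerIn S Q) (Q ⊔ centralizerIn S Q) ⊓ hullGroup p F E₁ E₂ hn.1 ≤
      autInducedBy (normalizerIn (T₁ ⊓ T₂) Q) (Q ⊔ centralizerIn S Q) := by
  classical
  set W := Q ⊔ centralizerIn S Q with hW
  have hWS : W ≤ S := sup_centralizerIn_le_S hn.1
  have := finite_mulAut_of_le (S := S) hWS
  set H := hullGroup p F E₁ E₂ hn.1 with hH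
  set P := autInducedBy (normalizerIn S Q) W with hP
  set R := autInducedBy (normalizerIn (T₁ ⊓ T₂) Q) W with hR
  have hPB : P ≤ (normSystem F Q hn.1).autGroup W :=
    autInducedBy_le_autGroup (sup_centralizerIn_le hn.1)
  have hsyl := hull_sylow h.pgroup h.sat hn
  obtain ⟨Ps, hPs⟩ := isSylowIn_inf_of_normalized hsyl hPB (h.hullGroup_le hQ hn)
    (h.hullGroup_normalized hQ hn)
  have hRP : R ≤ P := autInducedBy_mono (inf_le_inf_right _ h.tclosed.1)
  have hRH : R ≤ H := fun r hr =>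
    Subgroup.subset_closure (Or.inl ⟨1, one_mem _, r, hr, by simp⟩)
  set C : Subgroup H := R.subgroupOf H with hC
  have htr : _root_.commutator H ⊓ (Ps : Subgroup H) ≤ C := by
    refine CfsgLib.Transfer.commutator_inf_le_of_fusion Ps C fun x hx g hg => ?_
    rw [hPs] at hx hg
    have h1 : ((g⁻¹ : H) : MulAut W) * x * ((g⁻¹ : H) : MulAut W)⁻¹ ∈ P := by
      have := hg.1
      simpa using this
    have := h.diff_mem hQ hn (h.hullGroup_good hQ hn x.2) (h.hullGroup_good hQ hn (g⁻¹ : H).2)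
      hx.1 h1
    show ((x⁻¹ * (g⁻¹ * x * g) : H) : MulAut W) ∈ R
    simpa using this
  set K : Subgroup H := _root_.commutator H ⊔ C with hK
  have hKn : K.Normal := ⟨fun n hn g => by
    rw [show g * n * g⁻¹ = (g * n * g⁻¹ * n⁻¹) * n by group]
    exact mul_mem (Subgroup.mem_sup_left
      (Subgroup.commutator_mem_commutator (Subgroup.mem_top g) (Subgroup.mem_top n))) hn⟩
  have hcomm : ∀ a b : H ⧸ K, Commute a b := by
    intro a b
    obtain ⟨a, rfl⟩ := QuotientGroup.mk'_surjective K a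
    obtain ⟨b, rfl⟩ := QuotientGroup.mk'_surjective K b
    show _ * _ = _ * _
    rw [← map_mul, ← map_mul, QuotientGroup.mk'_eq_mk']
    exact ⟨(a * b)⁻¹ * (b * a), Subgroup.mem_sup_left (by
      rw [show (a * b)⁻¹ * (b * a) = ⁅b⁻¹, a⁻¹⁆ by rw [commutatorElement_def]; group]
      exact Subgroup.commutator_mem_commutator (Subgroup.mem_top _) (Subgroup.mem_top _)),
      mul_inv_cancel_left _ _⟩
  have hgen : ∀ z (hz : z ∈ H), (orderOf (QuotientGroup.mk' K ⟨z, hz⟩)).Coprime p := by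
    intro z hz
    induction hz using Subgroup.closure_induction with
    | mem z hz =>
        have hzH : z ∈ H := Subgroup.subset_closure hz
        rcases hz with ⟨y, hy, r, hr, rfl⟩ | ⟨-, hc⟩
        · -- a conjugate of an element induced by `T₁ ⊓ T₂`
          obtain ⟨i, hi⟩ := isPGroup_autInducedBy
            (P := W) (h.pgroup.to_le (normalizerIn_le Q)) (⟨r, hRP hr⟩ : P)
          obtain ⟨k, hk, hkv⟩ := IsSylowIn.exists_conj_mem (⟨Ps, hPs⟩ : IsSylowIn p (P ⊓ H) H)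
            (X := Subgroup.zpowers (y * r * y⁻¹)) (Subgroup.zpowers_le.2 hzH) (by
              rintro ⟨v, hv⟩
              obtain ⟨j, rfl⟩ := Subgroup.mem_zpowers_iff.1 hv
              refine ⟨i, Subtype.ext ?_⟩
              show ((y * r * y⁻¹) ^ j) ^ p ^ i = 1
              rw [← zpow_natCast, ← zpow_mul, mul_comm, zpow_mul, zpow_natCast,
                ← MulAut.conj_apply, ← map_pow,
                show r ^ p ^ i = 1 from congrArg Subtype.val hi, map_one, one_zpow])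
          have hkm := hkv _ (Subgroup.mem_zpowers _)
          have hky : k * (y * r * y⁻¹) * k⁻¹ = k * y * r * (k * y)⁻¹ := by group
          obtain ⟨g, hg, hgv⟩ := mem_autInducedBy_iff.1 hr
          have hgS : g ∈ S := h.tclosed.1 hg.1
          have hcm : k * y * r * (k * y)⁻¹ ∈ P := hky ▸ hkm.1
          have hkyB : k * y ∈ (normSystem F Q hn.1).autGroup W :=
            mul_mem (h.hullGroup_le hQ hn hk) hy
          obtain ⟨φ, hφ, -, hφv⟩ := exists_conj_rep h.pgroup h.sat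
            (isCentric_fullyCentralized (isCentric_sup_centralizerIn
              (IsSaturated.fullyCentralized h.pgroup h.sat hn)))
            ((mem_norm_autGroup hn.1).1 hkyB).1
            ⟨hgS, mem_normalizer_of_conj_eq r hgv⟩ hgv
            (autInducedBy_mono (normalizerIn_le Q) hcm)
          obtain ⟨-, a', -, hres⟩ := h.good_conj hQ hn hkyB (h.good_induced hQ hn hr)
          have hin : k * y * r * (k * y)⁻¹ ∈ R := mem_autInducedBy_iff.2
            ⟨_, ⟨StronglyClosed.apply_mem h.tclosed hφ hg.1,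
              mem_normalizer_of_conj_eq a' fun q => (hres q q.2).symm.trans (hφv _)⟩, hφv⟩
          have h1 : QuotientGroup.mk' K
              (⟨k, hk⟩ * ⟨y * r * y⁻¹, hzH⟩ * (⟨k, hk⟩ : H)⁻¹) = 1 := by
            rw [QuotientGroup.mk'_apply, QuotientGroup.eq_one_iff]
            exact Subgroup.mem_sup_right (show k * (y * r * y⁻¹) * k⁻¹ ∈ R from hky ▸ hin)
          rw [map_mul, map_mul, map_inv, (hcomm _ _).eq, ← mul_assoc, inv_mul_cancel,
            one_mul] at h1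
          rw [h1, orderOf_one]
          exact Nat.coprime_one_left p
        · exact hc.coprime_dvd_left ((orderOf_map_dvd _ (⟨z, hzH⟩ : H)).trans
            (Subgroup.orderOf_mk z hzH).dvd)
    | one =>
        rw [show (⟨1, one_mem H⟩ : H) = 1 from rfl, map_one, orderOf_one]
        exact Nat.coprime_one_left p
    | mul a b ha hb iha ihb =>
        rw [show (⟨a * b, mul_mem ha hb⟩ : H) = ⟨a, ha⟩ * ⟨b, hb⟩ from rfl, map_mul]
        exact Nat.Coprime.coprime_dvd_left (hcomm _ _).orderOf_mul_dvd_lcm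
          ((iha.mul_left ihb).coprime_dvd_left (Nat.lcm_dvd_mul _ _))
    | inv a ha iha =>
        rw [show (⟨a⁻¹, Subgroup.inv_mem _ ha⟩ : H) = (⟨a, ha⟩)⁻¹ from rfl, map_inv, orderOf_inv]
        exact iha
  intro x hx
  obtain ⟨i, hi⟩ := isPGroup_autInducedBy (P := W) (h.pgroup.to_le (normalizerIn_le Q))
    (⟨x, hx.1⟩ : P)
  have hxK : (⟨x, hx.2⟩ : H) ∈ K := by
    rw [← QuotientGroup.eq_one_iff, ← QuotientGroup.mk'_apply, ← orderOf_eq_one_iff]
    refine Nat.eq_one_of_dvd_coprimes ((hgen x hx.2).pow_right i) dvd_rfl ?_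
    exact orderOf_dvd_of_pow_eq_one (by
      rw [← map_pow, show (⟨x, hx.2⟩ : H) ^ p ^ i = 1 from
        Subtype.ext (show x ^ p ^ i = 1 from congrArg Subtype.val hi), map_one])
  obtain ⟨c, hc, r, hr, hcr⟩ := Subgroup.mem_sup_of_normal_left.1 hxK
  have hcP : c ∈ (Ps : Subgroup H) := by
    rw [hPs]
    refine ⟨?_, c.2⟩
    have : (c : MulAut W) = x * ((r : H) : MulAut W)⁻¹ :=
      eq_mul_inv_of_mul_eq (congrArg Subtype.val hcr)
    show (c : MulAut W) ∈ P
    rw [this]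
    exact mul_mem hx.1 (Subgroup.inv_mem _ (hRP hr))
  have hx' : x = (c : MulAut W) * ((r : H) : MulAut W) := (congrArg Subtype.val hcr).symm
  rw [hx']
  exact mul_mem (htr ⟨hc, hcP⟩) hr

/-- Every element of the group on `Q` has a lift in the group of lifts. -/
theorem exists_hull_lift (hn : F.IsFullyNormalized Q) {a : MulAut Q}
    (ha : a ∈ meetAut p F E₁ E₂ Q) : ∃ x ∈ hullGroup p F E₁ E₂ hn.1, Res S x a := by
  classical
  have hQc := IsSaturated.fullyCentralized h.pgroup h.sat hn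
  have hWS := sup_centralizerIn_le_S (S := S) hn.1
  have := finite_mulAut_of_le (S := S) hWS
  induction ha using Subgroup.closure_induction with
  | mem a ha =>
      rcases ha with ⟨R', e, he, hR', c, hc, rfl⟩ | ⟨ha, hord⟩
      · obtain ⟨f, hf, hfN, himg⟩ := exists_normalizer_map h.pgroup
          (IsSaturated.fullyAutomized h.pgroup h.sat hn)
          (IsSaturated.receptive h.pgroup h.sat hQc) he.isConj
        have hR'S : R' ≤ S := hR'.trans h.tclosed.1
        obtain ⟨e₁, he₁, he₁v⟩ := exists_iso (Q := Q) (restrict_mem hf (le_normalizerIn hR'S))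
          (by rw [range_restrict, himg])
        obtain ⟨t, ht, htv⟩ := mem_autInducedBy_iff.1 hc
        have htN : t ∈ normalizerIn S R' := ⟨h.tclosed.1 ht, mem_normalizer_of_conj_eq c htv⟩
        set g := f ⟨t, htN⟩ with hg
        have hgT : g ∈ T₁ ⊓ T₂ := StronglyClosed.apply_mem h.tclosed hf ht
        have hgv : ∀ r : Q, ((MulAut.congr e₁ c r : Q) : Ω) = g * (r : Ω) * g⁻¹ := fun r => by
          obtain ⟨x, rfl⟩ := e₁.surjective r
          rw [show MulAut.congr e₁ c (e₁ x) = e₁ (c x) by simp [MulAut.congr], he₁v, he₁v, hg,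
            ← map_inv]
          show f _ = f _ * f _ * f _
          rw [← map_mul, ← map_mul]
          exact congrArg f (Subtype.ext (htv x))
        -- the transporting automorphism, extended to `Q C_S(Q)`
        set δ : Q ≃* Q := e₁.symm.trans e with hδ
        have hδF : IsoIn F δ := he₁.symm.trans he
        obtain ⟨ψ, hψ, hψv⟩ := exists_extension (IsSaturated.receptive h.pgroup h.sat hQc) hδF
          le_sup_left (sup_le_extender hδF)
        have hψr : ψ.range = Q ⊔ centralizerIn S Q := by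
          have := finite_le hWS
          refine Subgroup.eq_of_le_of_card_ge (range_le_of_gens
            (fun q => Subgroup.mem_sup_left (by rw [hψv]; exact (δ q).2))
            fun q => Subgroup.mem_sup_right (extension_mem_centralizerIn hψ le_sup_left hψv _ q.2))
            (Nat.card_congr (MonoidHom.ofInjective (F.injective_of_mem hψ)).toEquiv).le
        obtain ⟨d, hd, hdv⟩ := exists_iso hψ hψr
        have hres : Res S (d : MulAut _) (δ : MulAut Q) := fun r hr => by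
          rw [hdv]
          exact hψv ⟨r, hr⟩
        have hdB : (d : MulAut _) ∈ (normSystem F Q hn.1).autGroup (Q ⊔ centralizerIn S Q) :=
          (mem_norm_autGroup hn.1).2 ⟨(mem_autGroup_iff_isoIn hWS).2 hd, hres.preserves⟩
        have hgN : g ∈ normalizerIn S Q := ⟨h.tclosed.1 hgT, mem_normalizer_of_conj_eq _ hgv⟩
        have hgW : g ∈ Subgroup.normalizer ((Q ⊔ centralizerIn S Q : Subgroup Ω) : Set Ω) :=
          normalizer_hull hn.1 hgN
        refine ⟨_, Subgroup.subset_closure (Or.inl ⟨d, hdB,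
          Subgroup.normalizerMonoidHom _ ⟨g, hgW⟩,
          mem_autInducedBy_iff.2 ⟨g, ⟨hgT, hgN.2⟩, fun x => rfl⟩, rfl⟩), ?_⟩
        have h2 : Res S (Subgroup.normalizerMonoidHom (Q ⊔ centralizerIn S Q) ⟨g, hgW⟩)
            (MulAut.congr e₁ c) := fun r hr => (hgv ⟨r, hr⟩).symm
        have h3 : MulAut.congr e c = (δ : MulAut Q) * MulAut.congr e₁ c * (δ : MulAut Q)⁻¹ := by
          rw [← congr_self, ← congr_trans]
          exact congrArg (fun u => MulAut.congr u c)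
            (MulEquiv.ext fun x => by simp [hδ] : e = e₁.trans δ)
        rw [h3]
        exact (hres.mul h2).mul hres.inv
      · obtain ⟨x₀, hx₀, hx₀v⟩ := liftable_of_mem_lGroup hQc ha.1
        obtain ⟨j, hj, hjid⟩ := exists_pPrime_exponent.{u} (p := p) (N := orderOf x₀)
          (orderOf_pos _).ne'
        have hr0 : Res S x₀ a := hx₀v
        have hao : a ^ orderOf x₀ = 1 := by
          have := hr0.pow (orderOf x₀)
          rw [pow_orderOf_eq_one] at this
          exact this.unique Res.one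
        refine ⟨x₀ ^ j, Subgroup.subset_closure (Or.inr ⟨⟨hx₀.pow j, a, ha, ?_⟩,
          hj _ (pow_orderOf_eq_one _)⟩), ?_⟩
        all_goals
          have := hr0.pow j
          rwa [hjid a hao hord] at this
  | one => exact ⟨1, one_mem _, Res.one⟩
  | mul a b _ _ iha ihb =>
      obtain ⟨x, hx, hxa⟩ := iha
      obtain ⟨y, hy, hyb⟩ := ihb
      exact ⟨x * y, mul_mem hx hy, hxa.mul hyb⟩
  | inv a _ iha =>
      obtain ⟨x, hx, hxa⟩ := iha
      exact ⟨x⁻¹, Subgroup.inv_mem _ hx, hxa.inv⟩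

/-- The Sylow condition. -/
theorem meetAut_sylow (hn : F.IsFullyNormalized Q) :
    IsSylowIn p (autInducedBy (T₁ ⊓ T₂) Q) (meetAut p F E₁ E₂ Q) := by
  classical
  have hQc := IsSaturated.fullyCentralized h.pgroup h.sat hn
  have := finite_mulAut_of_le (S := S) hn.1
  have hWS := sup_centralizerIn_le_S (S := S) hn.1
  have := finite_mulAut_of_le (S := S) hWS
  have hFs : IsSylowIn p (autInducedBy S Q) (F.autGroup Q) :=
    (IsSaturated.fullyAutomized h.pgroup h.sat hn).2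
  have hinf := isSylowIn_inf_of_normalized hFs (autInducedBy_le_autGroup hn.1) (h.meetAut_le hQ)
    fun b hb x hx => by
      rw [← congr_self]
      exact h.meetAut_congr hQ ((mem_autGroup_iff_isoIn hn.1).1 hb) hx
  suffices autInducedBy S Q ⊓ meetAut p F E₁ E₂ Q = autInducedBy (T₁ ⊓ T₂) Q by rwa [this] at hinf
  refine le_antisymm ?_ (le_inf (autInducedBy_mono h.tclosed.1) (h.induced_le hQ))
  rintro a ⟨haS, haA⟩
  obtain ⟨x, hx, hxa⟩ := h.exists_hull_lift hQ hn haA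
  obtain ⟨b, c, hbz, hcz, hbc, hb, k, hk⟩ := exists_split (p := p) x
  obtain ⟨i, rfl⟩ := mem_powers_iff_mem_zpowers.2 hbz
  obtain ⟨m, rfl⟩ := mem_powers_iff_mem_zpowers.2 hcz
  obtain ⟨l, hl⟩ := isPGroup_autInducedBy h.pgroup (⟨a, haS⟩ : autInducedBy S Q)
  have hal : a ^ p ^ l = 1 := congrArg Subtype.val hl
  have hbi : a ^ i = 1 := by
    have h1 : (a ^ i) ^ orderOf (x ^ i) = 1 := by
      refine ((hxa.pow i).pow (orderOf (x ^ i))).unique ?_
      rw [pow_orderOf_eq_one]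
      exact Res.one
    have h2 : (a ^ i) ^ p ^ l = 1 := by rw [← pow_mul, mul_comm, pow_mul, hal, one_pow]
    exact orderOf_eq_one_iff.1 (Nat.eq_one_of_dvd_coprimes (hb.pow_right l)
      (orderOf_dvd_of_pow_eq_one h1) (orderOf_dvd_of_pow_eq_one h2))
  have hca : Res S (x ^ m) a := by
    have h1 := (hxa.pow i).mul (hxa.pow m)
    rw [← show x = x ^ i * x ^ m from hbc, hbi, one_mul] at h1
    rw [hxa.unique h1]
    exact hxa.pow m
  -- move the `p`-part into the given Sylow subgroup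
  have hsyl := isSylowIn_inf_of_normalized (hull_sylow h.pgroup h.sat hn)
    (autInducedBy_le_autGroup (sup_centralizerIn_le hn.1)) (h.hullGroup_le hQ hn)
    (h.hullGroup_normalized hQ hn)
  obtain ⟨y, hy, hyv⟩ := IsSylowIn.exists_conj_mem hsyl (X := Subgroup.zpowers (x ^ m))
    (Subgroup.zpowers_le.2 (Subgroup.pow_mem _ hx m)) (by
      rintro ⟨v, hv⟩
      obtain ⟨j, rfl⟩ := Subgroup.mem_zpowers_iff.1 hv
      refine ⟨k, Subtype.ext ?_⟩
      show ((x ^ m) ^ j) ^ p ^ k = 1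
      rw [← zpow_natCast, ← zpow_mul, mul_comm, zpow_mul, zpow_natCast, hk, one_zpow])
  obtain ⟨g, hg, hgv⟩ := mem_autInducedBy_iff.1
    (h.hullGroup_inf_le hQ hn (hyv _ (Subgroup.mem_zpowers _)))
  obtain ⟨hyt, b', -, hyb⟩ := h.hullGroup_good hQ hn hy
  obtain ⟨δ, hδF, hδv⟩ := exists_restrict_aut hWS le_sup_left hyt.1 hyt.2.1
  set γ : MulAut Q := Q.normalizerMonoidHom ⟨g, hg.2⟩ with hγ
  have hyδ : Res S y δ := hδv
  have h1 : δ * a * δ⁻¹ = γ :=
    ((hyδ.mul hca).mul hyδ.inv).unique fun r hr => hgv _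
  have ha' : a = δ⁻¹ * γ * δ⁻¹⁻¹ := by rw [← h1]; group
  have hgS : g ∈ S := h.tclosed.1 hg.1
  obtain ⟨φ, hφ, -, hφv⟩ := exists_conj_rep h.pgroup h.sat hQc (Subgroup.inv_mem _ hδF)
    (s := g) (γ := γ) ⟨hgS, hg.2⟩ (fun r => rfl) (ha' ▸ haS)
  rw [ha']
  exact mem_autInducedBy_iff.2 ⟨_, StronglyClosed.apply_mem h.tclosed hφ hg.1, hφv⟩

end Data

end Main

end CfsgLib.Fusion.Meet
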