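import Cfsg.Agent.Lib.Fusion.MeetDown
import Cfsg.Agent.Lib.Fusion.NormalCentralizerClosed
import Mathlib.GroupTheory.Nilpotent

/-!
# Trivial lifting passes up to a subgroup containing `P` as a normal subgroup
-/

set_option autoImplicit false
set_option maxHeartbeats 1000000

namespace CfsgLib.Fusion.Meet

open Cfsg Cfsg.FusionSystem CfsgLib.Fusion
open scoped Pointwise

universe u

variable {Ω : Type u} [Group Ω] {S T V : Subgroup Ω} {F : FusionSystem S} {G : FusionSystem V}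
  {p : ℕ}

/-- Elements of the normalizer in `T` act trivially modulo `P` on the centralizer. -/
theorem shift_conj (hT : G.StronglyClosed T) {P : Subgroup Ω} (hPc : centralizerIn T P ≤ P)
    {t c : Ω} (ht : t ∈ normalizerIn T P) (hc : c ∈ centralizerIn V P) :
    c⁻¹ * (t * c * t⁻¹) ∈ P := by
  refine hPc (mem_centralizerIn.2 ⟨?_, ?_⟩)
  · rw [show c⁻¹ * (t * c * t⁻¹) = c⁻¹ * t * c⁻¹⁻¹ * t⁻¹ by group]
    exact T.mul_mem (conj_mem_of_mem_normalizer (StronglyClosed.normal_in hT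
      (V.inv_mem (centralizerIn_le P hc))) ht.1) (T.inv_mem ht.1)
  · exact (mem_centralizerIn.1 ((centralizerIn V P).mul_mem ((centralizerIn V P).inv_mem hc)
      (conj_centralizerIn ⟨hT.1 ht.1, ht.2⟩ hc))).2

/-- Extensions of order prime to `p` of a trivially lifting automorphism lift trivially. -/
theorem up_fn [Fact p.Prime] [Finite S] [Finite V] (hS : IsPGroup p S) (hV : IsPGroup p V)
    (hG : G.IsSaturated p) (hi : G.IsInvariantIn F) (hT : G.StronglyClosed T) {P U : Subgroup Ω}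
    (hP : G.IsFullyNormalized P) (hU : G.IsFullyCentralized U) (hPU : P ≤ U) (hUT : U ≤ T)
    (hUN : U ≤ Subgroup.normalizer (P : Set Ω)) (hPc : centralizerIn T P ≤ P)
    {b : MulAut P} (hb : b ∈ lGroup G P) {α : MulAut U} (hα : α ∈ F.autGroup U)
    (hord : (orderOf α).Coprime p)
    (hαb : ∀ r : P, ((α (Subgroup.inclusion hPU r) : U) : Ω) = ((b r : P) : Ω)) :
    α ∈ lGroup G U := by
  classical
  have hUV := hU.1
  have hPV := hP.1
  have hUS : U ≤ S := hUV.trans hi.2.1.1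
  have hPfc := IsSaturated.fullyCentralized hV hG hP
  obtain ⟨x, hx, hxb⟩ := liftable_of_mem_lGroup hPfc hb
  have hUNT : U ≤ normalizerIn T P := fun u hu => ⟨hUT hu, hUN hu⟩
  set W := U ⊔ (P ⊔ centralizerIn V P) with hW
  obtain ⟨ψ, hψ, hψv⟩ := extend_lift hV hG hPfc hx (M := U)
    (fun u hu => ⟨hUV hu, hUN hu⟩) fun g hg => by
      refine ⟨((α ⟨g, hg⟩ : U) : Ω), ⟨hUV (α _).2, hUN (α _).2⟩, fun r hr hrP => ?_,
        fun c hc => ?_⟩
      · have h1 := conj_mem_of_mem_normalizer (hUN hg) hrP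
        rw [hxb _ h1, hxb _ hrP, ← hαb, ← hαb, ← Subgroup.coe_inv, ← Subgroup.coe_mul,
          ← Subgroup.coe_mul, ← map_inv, ← map_mul, ← map_mul]
        rfl
      · have h1 := shift_conj hT hPc (hUNT hg) hc
        have h2 := shift_conj hT hPc (hUNT (α ⟨g, hg⟩).2) hc
        have := P.mul_mem (P.inv_mem h1) h2
        simpa [mul_assoc] using this
  have hPW : P ≤ W := le_sup_left.trans le_sup_right
  have hWV : W ≤ V := sup_le hUV (sup_centralizerIn_le_S hPV)
  have hψP : ∀ (r : Ω) (hr : r ∈ P), ψ ⟨r, hPW hr⟩ = ((b ⟨r, hr⟩ : P) : Ω) := fun r hr =>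
    (hψv ⟨r, le_sup_left (b := centralizerIn V P) hr⟩).trans (hxb r hr)
  have hψU : ∀ y : W, (y : Ω) ∈ U → ψ y ∈ U := by
    intro y hy
    have hT1 : ψ y ∈ T :=
      hT.2 U hUT _ (restrict_mem hψ le_sup_left) ⟨(y : Ω), hy⟩
    set h := ((α ⟨(y : Ω), hy⟩ : U) : Ω)
    have h1 : h⁻¹ * ψ y ∈ P := by
      refine hPc (mem_centralizerIn.2 ⟨T.mul_mem (T.inv_mem (hUT (α _).2)) hT1, fun r hr => ?_⟩)
      obtain ⟨r₀, hr₀⟩ : ∃ r₀ : P, ((b r₀ : P) : Ω) = r :=
        ⟨b⁻¹ ⟨r, hr⟩, by rw [MulAut.apply_inv_self]⟩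
      have hy' := conj_mem_of_mem_normalizer (hUN hy) r₀.2
      have e1 : ψ y * r * (ψ y)⁻¹ = h * r * h⁻¹ := by
        calc ψ y * r * (ψ y)⁻¹ = ψ (y * ⟨r₀, hPW r₀.2⟩ * y⁻¹) := by
              rw [map_mul, map_mul, map_inv, hψP _ r₀.2, hr₀]
          _ = ψ ⟨(y : Ω) * r₀ * (y : Ω)⁻¹, hPW hy'⟩ := rfl
          _ = h * r * h⁻¹ := by
              rw [hψP _ hy', ← hαb, ← hr₀, ← hαb]
              refine (congrArg (fun z : U => ((α z : U) : Ω))
                (Subtype.ext rfl : Subgroup.inclusion hPU ⟨_, hy'⟩ =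
                  ⟨(y : Ω), hy⟩ * Subgroup.inclusion hPU r₀ * ⟨(y : Ω), hy⟩⁻¹)).trans ?_
              rw [map_mul, map_mul, map_inv]
              rfl
      calc r * (h⁻¹ * ψ y) = h⁻¹ * (h * r * h⁻¹) * ψ y := by group
        _ = h⁻¹ * (ψ y * r * (ψ y)⁻¹) * ψ y := by rw [e1]
        _ = h⁻¹ * ψ y * r := by group
    have := U.mul_mem (α ⟨(y : Ω), hy⟩).2 (hPU h1)
    rwa [mul_inv_cancel_left] at this
  have := finite_le hWV
  obtain ⟨y₀, hy₀, hy₀v⟩ := exists_iso hψ (Q := W) (Subgroup.eq_of_le_of_card_ge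
    (range_le_of_gens (U := W) (fun u => Subgroup.mem_sup_left (hψU _ u.2))
      fun w => by rw [hψv]; exact Subgroup.mem_sup_right (x w).2)
    (Nat.card_congr (MonoidHom.ofInjective (G.injective_of_mem hψ)).toEquiv).le)
  set y : MulAut W := y₀
  have hyaut : y ∈ G.autGroup W := (mem_autGroup_iff_isoIn hWV).2 hy₀
  have := finite_mulAut_of_le (S := V) hWV
  have := finite_mulAut_of_le (S := V) hPV
  have := finite_mulAut_of_le (S := V) hUV
  have := finite_mulAut_of_le (S := V) (sup_centralizerIn_le_S (S := V) hPV)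
  have hpow : ∀ (k : ℕ) (w : ↥(P ⊔ centralizerIn V P)),
      (((y ^ k) (Subgroup.inclusion le_sup_right w) : W) : Ω) = (((x ^ k) w : _) : Ω) := by
    intro k
    induction k with
    | zero => exact fun w => rfl
    | succ k ih =>
      intro w
      rw [pow_succ, pow_succ, MulAut.mul_apply, MulAut.mul_apply,
        show y (Subgroup.inclusion le_sup_right w) = Subgroup.inclusion le_sup_right (x w) from
          Subtype.ext ((hy₀v _).trans (hψv w)), ih]
  have hpowP : ∀ (k : ℕ) (r : Ω) (hr : r ∈ P),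
      (((y ^ k) ⟨r, hPW hr⟩ : W) : Ω) = (((b ^ k) ⟨r, hr⟩ : P) : Ω) := by
    intro k
    induction k with
    | zero => exact fun r hr => rfl
    | succ k ih =>
      intro r hr
      rw [pow_succ, pow_succ, MulAut.mul_apply, MulAut.mul_apply,
        show y ⟨r, hPW hr⟩ = ⟨((b ⟨r, hr⟩ : P) : Ω), hPW (b ⟨r, hr⟩).2⟩ from
          Subtype.ext ((hy₀v _).trans (hψP r hr)), ih _ (b ⟨r, hr⟩).2]
  have hpowU : ∀ (k : ℕ) (w : W), (w : Ω) ∈ U → (((y ^ k) w : W) : Ω) ∈ U := by
    intro k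
    induction k with
    | zero => exact fun w hw => hw
    | succ k ih =>
      intro w hw
      rw [pow_succ', MulAut.mul_apply, show ((y ((y ^ k) w) : W) : Ω) = ψ ((y ^ k) w) from hy₀v _]
      exact hψU _ (ih w hw)
  -- the order of `b` is the order of `α`
  have hres : ∀ (β : MulAut U) (c : MulAut P),
      (∀ r : P, ((β (Subgroup.inclusion hPU r) : U) : Ω) = ((c r : P) : Ω)) →
      ∀ (k : ℕ) (r : P), (((β ^ k) (Subgroup.inclusion hPU r) : U) : Ω) = (((c ^ k) r : P) : Ω) := by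
    intro β c hβ k
    induction k with
    | zero => exact fun r => rfl
    | succ k ih =>
      intro r
      rw [pow_succ, pow_succ, MulAut.mul_apply, MulAut.mul_apply,
        show β (Subgroup.inclusion hPU r) = Subgroup.inclusion hPU (c r) from Subtype.ext (hβ r), ih]
  have := finite_le hUS
  let K : Subgroup (MulAut U) :=
    { carrier := {σ | σ ∈ F.autGroup U ∧ ∀ w : U, (w : Ω) ∈ P → σ w = w}
      one_mem' := ⟨one_mem _, fun _ _ => rfl⟩
      mul_mem' := fun {a c} ha hc => ⟨mul_mem ha.1 hc.1, fun w hw => by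
        rw [MulAut.mul_apply, hc.2 w hw, ha.2 w hw]⟩
      inv_mem' := fun {a} ha => ⟨inv_mem ha.1, fun w hw => by
        conv_lhs => rw [← ha.2 w hw]
        exact MulAut.inv_apply_self U a w⟩ }
  have hKp : IsPGroup p K := by
    rintro ⟨σ, hσ⟩
    obtain ⟨n, hn⟩ := IsPGroup.iff_card.1 ((hS.to_le hUS) :)
    refine ⟨n, Subtype.ext (MulEquiv.ext fun w => ?_)⟩
    show (σ ^ p ^ n) w = w
    rw [pow_shift σ (mul_inv_cancel_left w _).symm
      (hσ.2 _ (shift_of_fix hUT hUN hPU hPc hσ.2 w)) (p ^ n), ← hn, pow_card_eq_one', mul_one]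
  have hordeq : ∀ (β : MulAut U), β ∈ F.autGroup U →
      (∀ r : P, ((β (Subgroup.inclusion hPU r) : U) : Ω) = ((b r : P) : Ω)) →
      (orderOf β).Coprime p → orderOf β = orderOf b := by
    intro β hβ hβb hc
    refine Nat.dvd_antisymm ?_ ?_
    · have hmem : β ^ orderOf b ∈ K := ⟨pow_mem hβ _, fun w hw => Subtype.ext (by
        rw [show w = Subgroup.inclusion hPU ⟨(w : Ω), hw⟩ from rfl, hres β b hβb,
          pow_orderOf_eq_one]
        rfl)⟩
      obtain ⟨n, hn⟩ := hKp ⟨_, hmem⟩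
      refine orderOf_dvd_of_pow_eq_one (eq_one_of_coprime_pow (p := p) (a := n) ?_
        (congrArg Subtype.val hn :))
      exact Nat.Coprime.coprime_dvd_left (orderOf_pow_dvd _) hc
    · refine orderOf_dvd_of_pow_eq_one (MulEquiv.ext fun r => Subtype.ext ?_)
      rw [← hres β b hβb, pow_orderOf_eq_one]
      rfl
  have hbord : (orderOf b).Coprime p := hordeq α hα hαb hord ▸ hord
  -- a power of `y` of order prime to `p`
  obtain ⟨j, hj, hjid⟩ := exists_pPrime_exponent.{u} (p := p) (N := orderOf y) (orderOf_pos y).ne'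
  have hbN : b ^ orderOf y = 1 := by
    refine MulEquiv.ext fun r => Subtype.ext ?_
    rw [← hpowP _ r r.2, pow_orderOf_eq_one]
    rfl
  have hbj : b ^ j = b := hjid b hbN hbord
  obtain ⟨η, hη⟩ : ∃ η, η = y ^ j := ⟨_, rfl⟩
  have hηaut : η ∈ G.autGroup W := hη ▸ pow_mem hyaut j
  obtain ⟨α', hα'G, hα'v⟩ := exists_restrict_aut hWV le_sup_left hηaut
    (fun w hw => hη ▸ hpowU j w hw)
  have hα'v' : ∀ (w : U), ((α' w : U) : Ω) = ((η (Subgroup.inclusion le_sup_left w) : W) : Ω) :=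
    fun w => (hα'v w w.2).symm
  have hα'b : ∀ r : P, ((α' (Subgroup.inclusion hPU r) : U) : Ω) = ((b r : P) : Ω) := fun r => by
    rw [hα'v', hη]
    exact (hpowP j r r.2).trans (by rw [hbj])
  have hα'ord : (orderOf α').Coprime p := by
    refine Nat.Coprime.coprime_dvd_left ?_ (hη ▸ hj y (pow_orderOf_eq_one y) : (orderOf η).Coprime p)
    refine orderOf_dvd_of_pow_eq_one (MulEquiv.ext fun w => Subtype.ext ?_)
    have hk : ∀ k : ℕ, ∀ w : U, (((α' ^ k) w : U) : Ω) =
        (((η ^ k) (Subgroup.inclusion le_sup_left w) : W) : Ω) := by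
      intro k
      induction k with
      | zero => exact fun w => rfl
      | succ k ih =>
        intro w
        rw [pow_succ, pow_succ, MulAut.mul_apply, MulAut.mul_apply, ih]
        exact congrArg (fun z : W => (((η ^ k) z : W) : Ω)) (Subtype.ext (hα'v' w))
    rw [hk, pow_orderOf_eq_one]
    rfl
  have hα'L : α' ∈ lGroup G U := by
    refine mem_lGroup_of_liftable hV hG hU ?_
    have hle : U ⊔ centralizerIn V U ≤ W :=
      sup_le le_sup_left ((centralizerIn_antitone hPU).trans (le_sup_right.trans le_sup_right))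
    have hWU := sup_centralizerIn_le_S (S := V) hUV
    have := finite_le hWU
    have hres := restrict_mem ((mem_autGroup_iff hWV).1 hηaut) hle
    have hηshift : ∀ c : ↥(U ⊔ centralizerIn V U), (c : Ω) ∈ centralizerIn V U →
        (c : Ω)⁻¹ * ((η (Subgroup.inclusion hle c) : W) : Ω) ∈ P := by
      intro c hc
      have hcC := centralizerIn_antitone hPU hc
      have h1 := hpow j ⟨(c : Ω), Subgroup.mem_sup_right hcC⟩
      have h2 := (hx.pow j).2.2 ⟨(c : Ω), Subgroup.mem_sup_right hcC⟩ hcC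
      rw [Subgroup.coe_mul, Subgroup.coe_inv, ← h1, ← hη] at h2
      exact h2
    obtain ⟨κ, hκ, hκv⟩ := exists_iso hres (Q := U ⊔ centralizerIn V U) (Subgroup.eq_of_le_of_card_ge
      (range_le_of_gens (U := U ⊔ centralizerIn V U)
        (fun w => Subgroup.mem_sup_left (hη ▸ hpowU j _ w.2))
        (fun c => by
          have h1 := hηshift (Subgroup.inclusion le_sup_right c) c.2
          have := Subgroup.mul_mem _ (Subgroup.mem_sup_right (S := U) c.2)
            (Subgroup.mem_sup_left (T := centralizerIn V U) (hPU h1))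
          simpa using this))
      (Nat.card_congr (MonoidHom.ofInjective (G.injective_of_mem hres)).toEquiv).le)
    refine ⟨κ, ⟨(mem_autGroup_iff_isoIn hWU).2 hκ, fun r hr => ?_, fun c hc => ?_⟩,
      fun r hr => ?_⟩
    · rw [show ((κ r : _) : Ω) = _ from hκv r]
      exact hη ▸ hpowU j _ hr
    · rw [Subgroup.coe_mul, Subgroup.coe_inv, show ((κ c : _) : Ω) = _ from hκv c]
      exact hPU (hηshift c hc)
    · exact (hκv _).trans (hα'v r hr)
  -- conjugacy of the two extensions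
  have hα'F : α' ∈ F.autGroup U := (mem_autGroup_iff hUS).2 (hi.1 U ((mem_autGroup_iff hUV).1 hα'G))
  have := hKp.isNilpotent
  have hsolv : Group.IsSolvable K := inferInstance
  have hHN : Subgroup.zpowers α ≤ Subgroup.normalizer (K : Set (MulAut U)) := by
    rw [Subgroup.zpowers_le]
    have hαP : ∀ w : U, (w : Ω) ∈ P → ((α w : U) : Ω) ∈ P := fun w hw => by
      rw [show w = Subgroup.inclusion hPU ⟨(w : Ω), hw⟩ from rfl, hαb]
      exact (b _).2
    have hαP' : ∀ w : U, (w : Ω) ∈ P → ((α⁻¹ w : U) : Ω) ∈ P := fun w hw => by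
      obtain ⟨r, hr⟩ : ∃ r : P, ((b r : P) : Ω) = w :=
        ⟨b⁻¹ ⟨(w : Ω), hw⟩, by rw [MulAut.apply_inv_self]⟩
      rw [show w = α (Subgroup.inclusion hPU r) from Subtype.ext ((hαb r).trans hr).symm,
        MulAut.inv_apply_self]
      exact r.2
    refine Subgroup.mem_normalizer_iff.2 fun σ => ⟨fun hσ => ?_, fun hσ => ?_⟩
    · refine ⟨mul_mem (mul_mem hα hσ.1) (inv_mem hα), fun w hw => ?_⟩
      rw [MulAut.mul_apply, MulAut.mul_apply, hσ.2 _ (hαP' w hw), MulAut.apply_inv_self]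
    · refine ⟨?_, fun w hw => ?_⟩
      · have := mul_mem (mul_mem (inv_mem hα) hσ.1) hα
        simpa [mul_assoc] using this
      · have h1 := hσ.2 (α w) (hαP w hw)
        rw [MulAut.mul_apply, MulAut.mul_apply, MulAut.inv_apply_self] at h1
        exact α.injective h1
  have hdiff : α⁻¹ * α' ∈ K := ⟨mul_mem (inv_mem hα) hα'F, fun w hw => by
    rw [MulAut.mul_apply, show α' w = α w from Subtype.ext ?_, MulAut.inv_apply_self]
    rw [show w = Subgroup.inclusion hPU ⟨(w : Ω), hw⟩ from rfl, hαb, hα'b]⟩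
  have hcard : Nat.card (Subgroup.zpowers α') = Nat.card (Subgroup.zpowers α) := by
    rw [Nat.card_zpowers, Nat.card_zpowers, hordeq α hα hαb hord, hordeq α' hα'F hα'b hα'ord]
  have hcop : (Nat.card (Subgroup.zpowers α)).Coprime (Nat.card K) := by
    obtain ⟨n, hn⟩ := IsPGroup.iff_card.1 hKp
    rw [Nat.card_zpowers, hn]
    exact hord.pow_right n
  obtain ⟨σ, hσ, hσe⟩ := Core.exists_conj_eq_of_coprime hHN (Subgroup.zpowers_le.2 (by
    have := Subgroup.mul_mem _ (Subgroup.mem_sup_left (T := K) (Subgroup.mem_zpowers α))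
      (Subgroup.mem_sup_right hdiff)
    rwa [mul_inv_cancel_left] at this)) hcard hcop (Or.inl hsolv)
  have hmem : σ * α * σ⁻¹ ∈ Subgroup.zpowers α' := by
    rw [← hσe]
    exact ⟨α, Subgroup.mem_zpowers α, rfl⟩
  obtain ⟨k, hk⟩ := mem_powers_iff_mem_zpowers.2 hmem
  have hk' : α' ^ k = σ * α * σ⁻¹ := hk
  have hbk : b ^ k = b := MulEquiv.ext fun r => Subtype.ext (by
    rw [← hres α' b hα'b, hk', MulAut.mul_apply, MulAut.mul_apply]
    have h1 : σ⁻¹ (Subgroup.inclusion hPU r) = Subgroup.inclusion hPU r := (K.inv_mem hσ).2 _ r.2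
    rw [h1, show α (Subgroup.inclusion hPU r) = Subgroup.inclusion hPU (b r) from
      Subtype.ext (hαb r), hσ.2 _ (b r).2]
    rfl)
  have hkα : α' ^ k = α' := by
    conv_rhs => rw [← pow_one α']
    rw [pow_eq_pow_iff_modEq, hordeq α' hα'F hα'b hα'ord, ← pow_eq_pow_iff_modEq, pow_one]
    exact hbk
  rw [hkα] at hk'
  have hσI : IsoIn F ((σ⁻¹ : MulAut U) : U ≃* U) := (mem_autGroup_iff_isoIn hUS).1 (inv_mem hσ.1)
  have h := lGroup_congr hV hG hi hUV hσI hα'L
  rwa [show MulAut.congr ((σ⁻¹ : MulAut U) : U ≃* U) α' = α from MulEquiv.ext fun w => by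
    rw [hk']
    simp [MulAut.congr]] at h

end CfsgLib.Fusion.Meet
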