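import Cfsg.Agent.Lib.Fusion.NormalExtend
import Cfsg.Agent.Lib.Fusion.InnerQuot
import Cfsg.Agent.Lib.PGroups.GeomSum
import Cfsg.Prelude.Def_OddOrderLocal

/-!
# Strongly closed metacyclic subgroups, `p` odd

A strongly closed metacyclic subgroup of a saturated fusion system is normal in it.
-/

set_option autoImplicit false

namespace CfsgLib.Fusion

open Cfsg Cfsg.FusionSystem
open scoped commutatorElement

universe u

theorem pow_mul_of_conj {G : Type*} [Group G] {n x : G} {d : ℕ} (h : x * n * x⁻¹ = n ^ (d + 1)) :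
    ∀ l : ℕ, (n * x) ^ l = n ^ PGroups.GeomSum.S d l * x ^ l := by
  intro l
  induction l with
  | zero => simp [PGroups.GeomSum.S_zero]
  | succ l ih =>
    rw [pow_succ' (n * x), ih, PGroups.GeomSum.S_succ, pow_add, pow_one, pow_mul, ← h, conj_pow,
      pow_succ' x]
    group

/-- The elements of order dividing `p` of a metacyclic `p`-group, `p` odd. -/
theorem metacyclic_omega {p : ℕ} [Fact p.Prime] (hp : p ≠ 2) {P : Type*} [Group P] [Finite P]
    (hP : IsPGroup p P) (hm : Cfsg.IsMetacyclic P) (hne : Nontrivial P) :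
    ∃ n₀ x₀ : P, n₀ ≠ 1 ∧ n₀ ^ p = 1 ∧ x₀ ^ p = 1 ∧ (∀ y : P, y * n₀ = n₀ * y) ∧
      (∀ y : P, y ^ p = 1 → ∃ i j : ℕ, y = n₀ ^ i * x₀ ^ j) ∧
      ∀ y : P, ∃ i : ℕ, y * x₀ * y⁻¹ = x₀ * n₀ ^ i := by
  classical
  have hp' : p.Prime := Fact.out
  obtain ⟨N, hN, hNc, hQc⟩ := hm
  by_cases hN1 : N = ⊥
  · -- a cyclic group
    subst hN1
    have : IsCyclic P := (QuotientGroup.quotientBot (G := P)).isCyclic.1 hQc
    obtain ⟨n₀, hn₀⟩ := exists_prime_orderOf_dvd_card' (G := P) p (by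
      obtain ⟨k, hk⟩ := hP.nontrivial_iff_card.1 hne
      rw [hk.2]; exact dvd_pow_self p hk.1.ne')
    letI := IsCyclic.commGroup (α := P)
    refine ⟨n₀, 1, fun h => hp'.ne_one (by rw [← hn₀, h, orderOf_one]), by
      rw [← hn₀, pow_orderOf_eq_one], one_pow p, fun y => mul_comm y n₀, fun y hy => ?_, fun y =>
      ⟨0, by simp⟩⟩
    obtain ⟨g, hg⟩ := IsCyclic.exists_generator (α := P)
    have hle : Nat.card {a : P // a ^ p = 1} ≤ p := by
      have : Fintype P := Fintype.ofFinite P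
      rw [Nat.card_eq_fintype_card, Fintype.card_subtype]
      exact IsCyclic.card_pow_eq_one_le hp'.pos
    let f : Subgroup.zpowers n₀ → {a : P // a ^ p = 1} := fun z => ⟨z, by
      obtain ⟨k, hk⟩ := Subgroup.mem_zpowers_iff.1 z.2
      rw [← hk, ← zpow_natCast, zpow_comm, zpow_natCast, show n₀ ^ p = 1 by
        rw [← hn₀, pow_orderOf_eq_one], one_zpow]⟩
    have hf : Function.Injective f := fun a b h => Subtype.ext (congrArg (fun w : {a : P // a ^ p = 1} => (w : P)) h)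
    obtain ⟨z, hz⟩ := (hf.bijective_of_nat_card_le (by rwa [Nat.card_zpowers, hn₀])).2 ⟨y, hy⟩
    have hzy : (z : P) = y := congrArg (fun w : {a : P // a ^ p = 1} => (w : P)) hz
    obtain ⟨k, hk⟩ := (mem_powers_iff_mem_zpowers (x := n₀)).2 (hzy ▸ z.2 : y ∈ Subgroup.zpowers n₀)
    exact ⟨k, 0, by simp [← hk]⟩
  obtain ⟨⟨a, haN⟩, hagen⟩ := hNc.exists_generator
  have hN' : ∀ n ∈ N, ∃ i : ℕ, a ^ i = n := fun n hn => by
    obtain ⟨i, hi⟩ := mem_powers_iff_mem_zpowers.2 (hagen ⟨n, hn⟩)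
    exact ⟨i, congrArg Subtype.val hi⟩
  -- conjugation on `N`
  have hpow : ∀ x : P, ∀ n ∈ N, ∃ d : ℕ, p ∣ d ∧ x * n * x⁻¹ = n ^ (d + 1) := by
    intro x n hn
    by_cases hn1 : n = 1
    · exact ⟨0, dvd_zero p, by simp [hn1]⟩
    obtain ⟨i, rfl⟩ := hN' n hn
    obtain ⟨r, hr⟩ := hN' _ (hN.conj_mem a haN x)
    have hiter : ∀ k : ℕ, x ^ k * a * (x ^ k)⁻¹ = a ^ r ^ k := by
      intro k
      induction k with
      | zero => simp
      | succ k ih =>
        calc x ^ (k + 1) * a * (x ^ (k + 1))⁻¹ = x * (x ^ k * a * (x ^ k)⁻¹) * x⁻¹ := by group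
          _ = a ^ r ^ (k + 1) := by rw [ih, ← conj_pow, ← hr, ← pow_mul, pow_succ']
    obtain ⟨t, ht⟩ := IsPGroup.iff_orderOf.1 hP x
    have h1 : a ^ r ^ p ^ t = a ^ 1 := by
      rw [← hiter, ← ht, pow_orderOf_eq_one, one_mul, inv_one, mul_one, pow_one]
    rw [pow_eq_pow_iff_modEq] at h1
    have ha1 : a ≠ 1 := fun h => hn1 (by rw [h, one_pow])
    have hpa : p ∣ orderOf a := by
      obtain ⟨m, hm⟩ := IsPGroup.iff_orderOf.1 hP a
      rcases Nat.eq_zero_or_pos m with rfl | h0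
      · rw [pow_zero] at hm; exact absurd (orderOf_eq_one_iff.1 hm) ha1
      · rw [hm]; exact dvd_pow_self p h0.ne'
    have h2 := (ZMod.natCast_eq_natCast_iff _ _ p).2 (h1.of_dvd hpa)
    rw [Nat.cast_pow, ZMod.pow_card_pow, Nat.cast_one] at h2
    have hr1 : 1 ≤ r := Nat.pos_of_ne_zero fun h0 => by
      rw [h0, Nat.cast_zero] at h2; exact zero_ne_one h2
    refine ⟨r - 1, ?_, ?_⟩
    · rw [← ZMod.natCast_eq_zero_iff, Nat.cast_sub hr1, h2, Nat.cast_one, sub_self]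
    · rw [Nat.sub_add_cancel hr1, ← pow_mul, mul_comm, pow_mul, hr, conj_pow]
  have hkey : ∀ x : P, x ^ p = 1 → ∀ n ∈ N, (n * x) ^ p = 1 → n ^ p = 1 := by
    intro x hx n hn hnx
    obtain ⟨d, hd, hc⟩ := hpow x n hn
    rw [pow_mul_of_conj hc, hx, mul_one] at hnx
    obtain ⟨m, hm⟩ := IsPGroup.iff_orderOf.1 hP n
    have h1 := orderOf_dvd_of_pow_eq_one hnx
    rw [hm, PGroups.GeomSum.pow_dvd_S_iff hp hd] at h1
    exact orderOf_dvd_iff_pow_eq_one.1 (hm ▸ h1)
  -- the subgroup of order `p` of `N`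
  have hNne : Nontrivial N := (Subgroup.nontrivial_iff_ne_bot N).2 hN1
  obtain ⟨m, hm⟩ := IsPGroup.iff_orderOf.1 hP a
  have hm0 : m ≠ 0 := by
    rintro rfl
    rw [pow_zero, orderOf_eq_one_iff] at hm
    refine hN1 ((Subgroup.eq_bot_iff_forall _).2 fun n hn => ?_)
    obtain ⟨i, rfl⟩ := hN' n hn
    rw [hm, one_pow]
  obtain ⟨m, rfl⟩ := Nat.exists_eq_succ_of_ne_zero hm0
  set n₀ := a ^ p ^ m with hn₀
  have hn₀p : n₀ ^ p = 1 := by rw [hn₀, ← pow_mul, ← pow_succ, ← hm, pow_orderOf_eq_one]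
  have hn₀1 : n₀ ≠ 1 := fun h => by
    have h2 := Nat.le_of_dvd (pow_pos hp'.pos m) (orderOf_dvd_of_pow_eq_one h)
    rw [hm, pow_succ] at h2
    nlinarith [hp'.two_le, pow_pos hp'.pos m]
  have hNroot : ∀ n ∈ N, n ^ p = 1 → ∃ i : ℕ, n = n₀ ^ i := by
    intro n hn h
    obtain ⟨i, rfl⟩ := hN' n hn
    rw [← pow_mul] at h
    have h1 := orderOf_dvd_of_pow_eq_one h
    rw [hm, pow_succ] at h1
    obtain ⟨c, hc⟩ := Nat.dvd_of_mul_dvd_mul_right hp'.pos h1
    exact ⟨c, by rw [hn₀, ← pow_mul, ← hc]⟩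
  have hn₀c : ∀ y : P, y * n₀ = n₀ * y := by
    intro y
    obtain ⟨d, ⟨e, rfl⟩, hc⟩ := hpow y n₀ (Subgroup.pow_mem _ haN _)
    rw [pow_succ, pow_mul, hn₀p, one_pow, one_mul] at hc
    exact mul_inv_eq_iff_eq_mul.1 hc
  by_cases hall : ∀ y : P, y ^ p = 1 → y ∈ N
  · refine ⟨n₀, 1, hn₀1, hn₀p, one_pow p, hn₀c, fun y hy => ?_, fun y => ⟨0, by simp⟩⟩
    obtain ⟨i, rfl⟩ := hNroot y (hall y hy) hy
    exact ⟨i, 0, by simp⟩
  push Not at hall
  obtain ⟨x₀, hx₀, hx₀N⟩ := hall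
  obtain ⟨q, hq⟩ := hQc.exists_generator
  letI := @IsCyclic.commGroup (P ⧸ N) _ hQc
  have hqx : orderOf (x₀ : P ⧸ N) = p := orderOf_eq_prime (by
    rw [← QuotientGroup.mk_pow, hx₀, QuotientGroup.mk_one]) fun h =>
      hx₀N ((QuotientGroup.eq_one_iff _).1 h)
  have hcov : ∀ y : P, y ^ p = 1 → ∃ j : ℕ, (y : P ⧸ N) = (x₀ : P ⧸ N) ^ j := by
    intro y hy
    have hle : Nat.card {b : P ⧸ N // b ^ p = 1} ≤ p := by
      have : Fintype (P ⧸ N) := Fintype.ofFinite _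
      rw [Nat.card_eq_fintype_card, Fintype.card_subtype]
      exact @IsCyclic.card_pow_eq_one_le _ _ _ _ hQc _ hp'.pos
    let f : Subgroup.zpowers (x₀ : P ⧸ N) → {b : P ⧸ N // b ^ p = 1} := fun z => ⟨z, by
      obtain ⟨k, hk⟩ := Subgroup.mem_zpowers_iff.1 z.2
      rw [← hk, ← zpow_natCast, zpow_comm, zpow_natCast, ← QuotientGroup.mk_pow, hx₀,
        QuotientGroup.mk_one, one_zpow]⟩
    have hf : Function.Injective f := fun a b h => Subtype.ext (congrArg (fun w : {b : P ⧸ N // b ^ p = 1} => (w : P ⧸ N)) h)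
    obtain ⟨z, hz⟩ := (hf.bijective_of_nat_card_le (by rwa [Nat.card_zpowers, hqx])).2
      ⟨(y : P ⧸ N), by rw [← QuotientGroup.mk_pow, hy, QuotientGroup.mk_one]⟩
    have hzy : (z : P ⧸ N) = y := congrArg (fun w : {b : P ⧸ N // b ^ p = 1} => (w : P ⧸ N)) hz
    obtain ⟨j, hj⟩ := (mem_powers_iff_mem_zpowers (x := (x₀ : P ⧸ N))).2 (hzy ▸ z.2 : (y : P ⧸ N) ∈ _)
    exact ⟨j, hj.symm⟩
  have hxp : ∀ j : ℕ, (x₀ ^ j) ^ p = 1 := fun j => by
    rw [← pow_mul, mul_comm, pow_mul, hx₀, one_pow]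
  refine ⟨n₀, x₀, hn₀1, hn₀p, hx₀, hn₀c, fun y hy => ?_, fun y => ?_⟩
  · obtain ⟨j, hj⟩ := hcov y hy
    have hn : y * (x₀ ^ j)⁻¹ ∈ N := by
      rw [← QuotientGroup.eq_one_iff, QuotientGroup.mk_mul, QuotientGroup.mk_inv,
        QuotientGroup.mk_pow, hj, mul_inv_cancel]
    obtain ⟨i, hi⟩ := hNroot _ hn (hkey _ (hxp j) _ hn (by rwa [inv_mul_cancel_right]))
    exact ⟨i, j, by rw [← hi, inv_mul_cancel_right]⟩
  · have hy' : (y * x₀ * y⁻¹) ^ p = 1 := by rw [conj_pow, hx₀, mul_one, mul_inv_cancel]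
    have hn : y * x₀ * y⁻¹ * x₀⁻¹ ∈ N := by
      rw [← QuotientGroup.eq_one_iff, QuotientGroup.mk_mul, QuotientGroup.mk_mul,
        QuotientGroup.mk_mul, QuotientGroup.mk_inv, QuotientGroup.mk_inv, mul_comm (y : P ⧸ N)]
      group
    obtain ⟨i, hi⟩ := hNroot _ hn (hkey x₀ hx₀ _ hn (by rwa [inv_mul_cancel_right]))
    refine ⟨i, ?_⟩
    have h2 : Commute x₀ (n₀ ^ i) := (show Commute x₀ n₀ from hn₀c x₀).pow_right i
    rw [h2.eq, ← hi, inv_mul_cancel_right]

variable {Ω : Type u} [Group Ω] {S : Subgroup Ω} {F : FusionSystem S} {p : ℕ}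

/-- The preimage of a strongly closed subgroup of a factor system is strongly closed. -/
theorem stronglyClosed_preimageAlong_meta [Fact p.Prime] [Finite S] (hS : IsPGroup p S)
    (hF : F.IsSaturated p) {T : Subgroup Ω} (hT : F.StronglyClosed T) {Ω' : Type*} [Group Ω']
    {S' : Subgroup Ω'} {θ : S →* Ω'} {E : FusionSystem S'} (hE : F.IsFactorSystem T θ E)
    {D : Subgroup Ω'} (hD : E.StronglyClosed D) : F.StronglyClosed (preimageAlong θ D) := by
  refine ⟨preimageAlong_le θ D, fun R hR φ hφ x => ?_⟩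
  obtain ⟨hmor, -, -⟩ := factor_isSurjectiveMorphism hS hF hT hE
  obtain ⟨φ', hφ', hPS, hφS, hm, hv⟩ := hmor.2 R φ hφ
  refine (mem_preimageAlong (x := ⟨φ x, hφS x⟩)).2 ?_
  rw [← hv x]
  refine hD.2 _ ?_ φ' hφ' _
  rintro _ ⟨r, hr, rfl⟩
  exact (mem_preimageAlong (x := r)).1 (hR hr)

/-- `p` odd: a strongly closed metacyclic subgroup is normal in the system. -/
theorem metacyclic_stronglyClosed_normal [Fact p.Prime] (hp : p ≠ 2) :
    ∀ (n : ℕ) {Ω : Type u} [Group Ω] {S : Subgroup Ω} [Finite S] {F : FusionSystem S},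
      Nat.card S = n → IsPGroup p S → F.IsSaturated p → ∀ P : Subgroup Ω, F.StronglyClosed P →
      Cfsg.IsMetacyclic P → F.IsNormal P := by
  intro n
  induction n using Nat.strong_induction_on with
  | _ n ih =>
  intro Ω _ S _ F hn hS hF P hP hm
  have hp' : p.Prime := Fact.out
  have hPS := hP.1
  have := finite_le hPS
  have hbot : F.WeaklyClosed (⊥ : Subgroup Ω) := ⟨bot_le, fun φ hφ =>
    le_bot_iff.1 (by
      rintro _ ⟨x, rfl⟩
      rw [show x = 1 from Subtype.ext (Subgroup.mem_bot.1 x.2), map_one]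
      exact one_mem _)⟩
  -- abelian strongly closed subgroups are normal
  have habn : ∀ A : Subgroup Ω, F.StronglyClosed A → (∀ a ∈ A, ∀ b ∈ A, a * b = b * a) →
      F.IsNormal A := fun A hA hab =>
    isNormal_of_stronglyClosed_abelian hS hF hA ⟨⟨fun a b => Subtype.ext (hab a a.2 b b.2)⟩⟩
  by_cases hab : ∀ a ∈ P, ∀ b ∈ P, a * b = b * a
  · exact habn P hP hab
  have hPne : Nontrivial P := (Subgroup.nontrivial_iff_ne_bot P).2 fun h => hab fun a ha b hb => by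
    rw [h, Subgroup.mem_bot] at ha hb
    rw [ha, hb]
  obtain ⟨n₀, x₀, hn₀1, hn₀p, hx₀p, hn₀c, hall, hx₀c⟩ :=
    metacyclic_omega hp (hS.to_le hPS) hm hPne
  have hcomm : Commute n₀ x₀ := (hn₀c x₀).symm
  -- the elements of order dividing `p`
  let C : Subgroup Ω :=
    { carrier := {y | ∃ i j : ℕ, y = ((n₀ ^ i * x₀ ^ j : P) : Ω)}
      one_mem' := ⟨0, 0, by simp⟩
      mul_mem' := by
        rintro _ _ ⟨i, j, rfl⟩ ⟨k, l, rfl⟩
        refine ⟨i + k, j + l, ?_⟩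
        rw [← Subgroup.coe_mul, pow_add, pow_add, (hcomm.pow_pow k j).symm.mul_mul_mul_comm]
      inv_mem' := by
        rintro _ ⟨i, j, rfl⟩
        obtain ⟨i', j', h⟩ := hall (n₀ ^ i * x₀ ^ j)⁻¹ (by
          rw [inv_pow, (hcomm.pow_pow i j).mul_pow, ← pow_mul, mul_comm, pow_mul, hn₀p, one_pow,
            one_mul, ← pow_mul, mul_comm, pow_mul, hx₀p, one_pow, inv_one])
        exact ⟨i', j', by rw [← Subgroup.coe_inv, h]⟩ }
  have hCP : C ≤ P := by rintro _ ⟨i, j, rfl⟩; exact (n₀ ^ i * x₀ ^ j).2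
  have hCiff : ∀ y : Ω, y ∈ C ↔ y ∈ P ∧ y ^ p = 1 := by
    intro y
    constructor
    · rintro ⟨i, j, rfl⟩
      refine ⟨(n₀ ^ i * x₀ ^ j).2, ?_⟩
      rw [← Subgroup.coe_pow, (hcomm.pow_pow i j).mul_pow, ← pow_mul, mul_comm, pow_mul, hn₀p,
        one_pow, one_mul, ← pow_mul, mul_comm, pow_mul, hx₀p, one_pow, Subgroup.coe_one]
    · rintro ⟨hy, hyp⟩
      obtain ⟨i, j, h⟩ := hall ⟨y, hy⟩ (Subtype.ext hyp)
      exact ⟨i, j, congrArg Subtype.val h⟩
  have hCsc : F.StronglyClosed C := ⟨hCP.trans hPS, fun R hR φ hφ x => (hCiff _).2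
    ⟨StronglyClosed.apply_mem hP hφ (hCP (hR x.2)), by
      rw [← map_pow, show x ^ p = 1 from Subtype.ext ((hCiff _).1 (hR x.2)).2, map_one]⟩⟩
  have hCab : ∀ a ∈ C, ∀ b ∈ C, a * b = b * a := by
    rintro _ ⟨i, j, rfl⟩ _ ⟨k, l, rfl⟩
    rw [← Subgroup.coe_mul, ← Subgroup.coe_mul]
    refine congrArg Subtype.val (Commute.mul_left (Commute.mul_right ?_ ?_) (Commute.mul_right ?_ ?_))
    · exact Commute.pow_pow_self n₀ i k
    · exact hcomm.pow_pow i l
    · exact (hcomm.pow_pow k j).symm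
    · exact Commute.pow_pow_self x₀ j l
  have hCn := habn C hCsc hCab
  set z : Ω := (n₀ : Ω) with hz
  have hzP : z ∈ P := n₀.2
  have hzC : z ∈ C := ⟨1, 0, by simp [hz]⟩
  have hz1 : z ≠ 1 := fun h => hn₀1 (Subtype.ext h)
  have hzp : z ^ p = 1 := ((hCiff z).1 hzC).2
  -- a strongly closed central subgroup
  obtain ⟨Z, hZsc, hZP, hZne, hZc⟩ : ∃ Z : Subgroup Ω, F.StronglyClosed Z ∧ Z ≤ P ∧ Z ≠ ⊥ ∧
      ∀ a ∈ P, ∀ b ∈ Z, a * b = b * a := by
    by_cases hcen : ∀ a ∈ P, a * (x₀ : Ω) = (x₀ : Ω) * a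
    · refine ⟨C, hCsc, hCP, fun h => hz1 (Subgroup.mem_bot.1 (h ▸ hzC)), ?_⟩
      rintro a ha _ ⟨i, j, rfl⟩
      have h1 : Commute (⟨a, ha⟩ : P) x₀ := Subtype.ext (hcen a ha)
      exact congrArg Subtype.val ((Commute.pow_right (hn₀c ⟨a, ha⟩) i).mul_right (h1.pow_right j)).eq
    push Not at hcen
    obtain ⟨y, hy, hyne⟩ := hcen
    refine ⟨Subgroup.zpowers z, ?_, Subgroup.zpowers_le.2 hzP, fun h => hz1
      (Subgroup.mem_bot.1 (h ▸ Subgroup.mem_zpowers z)), fun a ha b hb => ?_⟩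
    swap
    · obtain ⟨k, rfl⟩ := hb
      exact (Commute.zpow_right (congrArg Subtype.val (hn₀c ⟨a, ha⟩) : a * z = z * a) k)
    -- the automorphisms of `C` fix `⟨z⟩`
    suffices key : ∀ α ∈ F.autGroup C, ((α ⟨z, hzC⟩ : C) : Ω) ∈ Subgroup.zpowers z by
      refine ⟨Subgroup.zpowers_le.2 (hPS hzP), fun R hR φ hφ x => ?_⟩
      have hRC : R ≤ C := hR.trans (Subgroup.zpowers_le.2 hzC)
      obtain ⟨α, hα, hαv⟩ := IsNormal.exists_aut hCn hRC hφ
      rw [← hαv x]
      obtain ⟨k, hk⟩ := hR x.2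
      rw [show Subgroup.inclusion hRC x = (⟨z, hzC⟩ : C) ^ k from Subtype.ext (by simp [← hk]),
        map_zpow, Subgroup.coe_zpow]
      exact Subgroup.zpow_mem _ (key α hα) k
    intro α hα
    by_contra hne
    have hCS : C ≤ S := hCP.trans hPS
    have := finite_le hCS
    set zc : C := ⟨z, hzC⟩
    set e : C := α zc
    -- `y` moves `e`
    obtain ⟨i, hi⟩ := hx₀c ⟨y, hy⟩
    have hw1 : n₀ ^ i ≠ 1 := fun h => hyne (mul_inv_eq_iff_eq_mul.1
      (congrArg Subtype.val (hi.trans (by rw [h, mul_one]))))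
    obtain ⟨k, l, hkl⟩ := e.2
    have hl : ¬ p ∣ l := fun ⟨c, hc⟩ => hne (by
      show (e : Ω) ∈ _
      rw [hkl, hc, pow_mul x₀, hx₀p, one_pow, mul_one, Subgroup.coe_pow]
      exact Subgroup.pow_mem _ (Subgroup.mem_zpowers z) k)
    have hyC : y ∈ Subgroup.normalizer (C : Set Ω) :=
      (StronglyClosed.normal_in hCsc) (hPS hy)
    set u : MulAut C := conjAut (⟨y, hPS hy, hyC⟩ : normalizerIn S C) with hu
    have hu0 : u ∈ F.autGroup C := autInducedBy_le_autGroup hCS (conjAut_mem _)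
    have huz : u zc = zc := Subtype.ext (by
      rw [hu, conjAut_apply]
      exact mul_inv_eq_iff_eq_mul.2 (congrArg Subtype.val (hn₀c ⟨y, hy⟩)))
    obtain ⟨s, hs, hsne⟩ : ∃ s : ℕ, u e = e * zc ^ s ∧ ¬ p ∣ s := by
      refine ⟨i * l, Subtype.ext ?_, fun hd => ?_⟩
      · rw [hu, conjAut_apply, Subgroup.coe_mul, Subgroup.coe_pow, hkl]
        have h1 : (⟨y, hy⟩ : P) * (n₀ ^ k * x₀ ^ l) * (⟨y, hy⟩ : P)⁻¹ =
            n₀ ^ k * x₀ ^ l * n₀ ^ (i * l) := by
          rw [show (⟨y, hy⟩ : P) * (n₀ ^ k * x₀ ^ l) * (⟨y, hy⟩ : P)⁻¹ =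
            ((⟨y, hy⟩ : P) * n₀ ^ k * (⟨y, hy⟩ : P)⁻¹) *
              ((⟨y, hy⟩ : P) * x₀ * (⟨y, hy⟩ : P)⁻¹) ^ l by rw [conj_pow]; group,
            hi, (Commute.pow_right hcomm.symm i).mul_pow, ← pow_mul,
            (Commute.pow_right (hn₀c ⟨y, hy⟩) k).eq, mul_inv_cancel_right]
          group
        exact congrArg Subtype.val h1
      · rcases hp'.dvd_mul.1 hd with h | h
        · obtain ⟨c, rfl⟩ := h
          exact hw1 (by rw [pow_mul, hn₀p, one_pow])
        · exact hl h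
    have hzo : orderOf zc = p := orderOf_eq_prime (Subtype.ext hzp) fun h => hz1 (congrArg Subtype.val h)
    have hupow : ∀ m : ℕ, (u ^ m) e = e * zc ^ (s * m) ∧ (u ^ m) zc = zc := by
      intro m
      induction m with
      | zero => simp
      | succ m ihm =>
        rw [pow_succ', MulAut.mul_apply, MulAut.mul_apply, ihm.1, ihm.2, map_mul, map_pow, hs, huz]
        exact ⟨by rw [mul_assoc, ← pow_add]; ring_nf, rfl⟩
    -- normalise `u`
    obtain ⟨m, hm1⟩ : ∃ m, (u ^ m) e = e * zc := by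
      obtain ⟨m, -, hm⟩ := Nat.exists_mul_mod_eq_one_of_coprime
        (hp'.coprime_iff_not_dvd.2 hsne).symm hp'.one_lt
      exact ⟨m, by rw [(hupow m).1, ← pow_mod_orderOf, hzo, hm, pow_one]⟩
    set U := u ^ m with hU
    have hUz : U zc = zc := (hupow m).2
    -- the conjugate
    have hVz : ∃ V ∈ F.autGroup C, V e = e ∧ V zc = zc * e⁻¹ := by
      set z' := α⁻¹ zc with hz'
      obtain ⟨k', l', hkl'⟩ := z'.2
      have hl' : ¬ p ∣ l' := fun ⟨c, hc⟩ => by
        have h1 : z' = zc ^ k' := Subtype.ext (by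
          rw [hkl', hc, pow_mul x₀, hx₀p, one_pow, mul_one, Subgroup.coe_pow, Subgroup.coe_pow])
        have h2 : zc = e ^ k' := by rw [← MulAut.apply_inv_self C α zc, ← hz', h1, map_pow]
        by_cases hk0 : p ∣ k'
        · obtain ⟨c', rfl⟩ := hk0
          refine hz1 (congrArg Subtype.val (h2.trans ?_ : zc = 1))
          rw [pow_mul, ← map_pow, show zc ^ p = 1 from Subtype.ext hzp, map_one, one_pow]
        · refine hne ?_
          obtain ⟨j, -, hj⟩ := Nat.exists_mul_mod_eq_one_of_coprime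
            (hp'.coprime_iff_not_dvd.2 hk0).symm hp'.one_lt
          have h3 : e = zc ^ j := by
            rw [h2, ← pow_mul, ← pow_mod_orderOf, show orderOf e = p by
              rw [← hzo]; exact MulEquiv.orderOf_eq α zc, hj, pow_one]
          show (e : Ω) ∈ _
          rw [h3, Subgroup.coe_pow]
          exact Subgroup.pow_mem _ (Subgroup.mem_zpowers z) j
      have h1 : u z' = z' * zc ^ (i * l') := Subtype.ext (by
        rw [hu, conjAut_apply, Subgroup.coe_mul, Subgroup.coe_pow, hkl']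
        have h1 : (⟨y, hy⟩ : P) * (n₀ ^ k' * x₀ ^ l') * (⟨y, hy⟩ : P)⁻¹ =
            n₀ ^ k' * x₀ ^ l' * n₀ ^ (i * l') := by
          rw [show (⟨y, hy⟩ : P) * (n₀ ^ k' * x₀ ^ l') * (⟨y, hy⟩ : P)⁻¹ =
            ((⟨y, hy⟩ : P) * n₀ ^ k' * (⟨y, hy⟩ : P)⁻¹) *
              ((⟨y, hy⟩ : P) * x₀ * (⟨y, hy⟩ : P)⁻¹) ^ l' by rw [conj_pow]; group,
            hi, (Commute.pow_right hcomm.symm i).mul_pow, ← pow_mul,
            (Commute.pow_right (hn₀c ⟨y, hy⟩) k').eq, mul_inv_cancel_right]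
          group
        exact congrArg Subtype.val h1)
      have hns : ¬ p ∣ i * l' := fun hd => (hp'.dvd_mul.1 hd).elim (fun ⟨c, hc⟩ =>
        hw1 (by rw [hc, pow_mul, hn₀p, one_pow])) hl'
      obtain ⟨j, -, hj⟩ := Nat.exists_mul_mod_eq_one_of_coprime
        (hp'.coprime_iff_not_dvd.2 hns).symm hp'.one_lt
      have hiterz : ∀ m : ℕ, (u ^ m) z' = z' * zc ^ (i * l' * m) := by
        intro m
        induction m with
        | zero => simp
        | succ m ihm =>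
          rw [pow_succ', MulAut.mul_apply, ihm, map_mul, map_pow, h1, huz, mul_assoc, ← pow_add]
          ring_nf
      refine ⟨α * u ^ (j * (p - 1)) * α⁻¹, mul_mem (mul_mem hα (pow_mem hu0 _)) (inv_mem hα), ?_, ?_⟩
      · show α ((u ^ (j * (p - 1))) (α⁻¹ (α zc))) = α zc
        rw [MulAut.inv_apply_self, (hupow _).2]
      · show α ((u ^ (j * (p - 1))) z') = zc * e⁻¹
        rw [hiterz, ← mul_assoc, pow_mul, ← pow_mod_orderOf zc (i * l' * j), hzo, hj, pow_one,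
          map_mul, map_pow, hz', MulAut.apply_inv_self]
        congr 1
        refine eq_inv_of_mul_eq_one_left ?_
        rw [← pow_succ, Nat.sub_add_cancel hp'.one_le, ← map_pow,
          show zc ^ p = 1 from Subtype.ext hzp, map_one]
    obtain ⟨V, hV, hVe, hVz⟩ := hVz
    set W := U * V * U with hW
    have hWA : W ∈ F.autGroup C := mul_mem (mul_mem (pow_mem hu0 _) hV) (pow_mem hu0 _)
    have hcc : ∀ a b : C, a * b = b * a := fun a b => Subtype.ext (hCab a a.2 b b.2)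
    have hWz : W zc = e⁻¹ := by
      show U (V (U zc)) = _
      rw [hUz, hVz, map_mul, map_inv, hUz, hm1, hcc e zc, mul_inv_rev, hcc e⁻¹, mul_inv_cancel_left]
    have hWe : W e = zc := by
      show U (V (U e)) = _
      rw [hm1, map_mul, hVe, hVz, hcc zc, mul_inv_cancel_left, hUz]
    set τ := W * W with hτ
    have hτinv : ∀ c : C, τ c = c⁻¹ := by
      have hτz : τ zc = zc⁻¹ := by
        show W (W zc) = _
        rw [hWz, map_inv, hWe]
      have hτe : τ e = e⁻¹ := by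
        show W (W e) = _
        rw [hWe, hWz]
      obtain ⟨j, -, hj⟩ := Nat.exists_mul_mod_eq_one_of_coprime
        (hp'.coprime_iff_not_dvd.2 hl).symm hp'.one_lt
      set xc : C := ⟨x₀, ⟨0, 1, by simp⟩⟩
      have hxe : xc = (zc⁻¹) ^ (k * j) * e ^ j := by
        have he : e = zc ^ k * xc ^ l := Subtype.ext (by
          rw [hkl, Subgroup.coe_mul, Subgroup.coe_pow, Subgroup.coe_mul, Subgroup.coe_pow,
            Subgroup.coe_pow, Subgroup.coe_pow])
        have hxo : xc ^ p = 1 := Subtype.ext ((hCiff _).1 xc.2).2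
        rw [he, (show Commute (zc ^ k) (xc ^ l) from hcc _ _).mul_pow, ← pow_mul, ← pow_mul,
          ← mul_assoc, inv_pow, inv_mul_cancel, one_mul, pow_eq_pow_mod _ hxo, hj, pow_one]
      have hτx : τ xc = xc⁻¹ := by
        rw [hxe, map_mul, map_pow, map_pow, map_inv, hτz, hτe, mul_inv_rev, hcc (e ^ j)⁻¹]
        simp [inv_pow]
      rintro ⟨_, a, b, rfl⟩
      rw [show (⟨_, a, b, rfl⟩ : C) = zc ^ a * xc ^ b from Subtype.ext (by simp [zc, xc, hz]),
        map_mul, map_pow, map_pow, hτz, hτx, inv_pow, inv_pow, mul_inv_rev, hcc]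
    have hτA : τ ∈ F.autGroup C := mul_mem hWA hWA
    -- extend to `S`
    have hCnS : S ≤ Subgroup.normalizer (C : Set Ω) := StronglyClosed.normal_in hCsc
    have hfn : F.IsFullyNormalized C := ⟨hCS, fun R _ => by
      rw [show normalizerIn S C = S from inf_eq_left.2 hCnS]
      exact Subgroup.card_le_of_le inf_le_left⟩
    have hrec := IsSaturated.receptive hS hF (IsSaturated.fullyCentralized hS hF hfn)
    have hext : S ≤ extender S C (isoHom (τ : C ≃* C)) := fun g hg => by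
      refine mem_extender_iff.2 ⟨hg, hCnS hg, g, hg, fun c hc => ?_⟩
      rw [isoHom_apply, isoHom_apply, show (τ : C ≃* C) ⟨g * c * g⁻¹, hc⟩ = _ from hτinv _,
        show (τ : C ≃* C) c = _ from hτinv c, Subgroup.coe_inv, Subgroup.coe_inv]
      simp [mul_assoc]
    obtain ⟨ψ, hψ, hψv⟩ := exists_extension hrec ((mem_autGroup_iff_isoIn hCS).1 hτA) hCS hext
    -- no automorphism of `P` inverts `C`
    have hψP : ∀ w : P, ψ ⟨w, hPS w.2⟩ ∈ P := fun w => StronglyClosed.apply_mem hP hψ w.2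
    let γ : P →* P := (ψ.comp (Subgroup.inclusion hPS)).codRestrict P hψP
    have hγc : ∀ c : Ω, ∀ hc : c ∈ C, (γ ⟨c, hCP hc⟩ : Ω) = c⁻¹ := fun c hc => by
      show ψ _ = c⁻¹
      refine (hψv ⟨c, hc⟩).trans ?_
      rw [show (τ : C ≃* C) ⟨c, hc⟩ = _ from hτinv _]
      rfl
    have hγi : Function.Injective γ := fun a b h => Subgroup.inclusion_injective hPS
      (F.injective_of_mem hψ (congrArg Subtype.val h))
    have hfix : ∀ w : P, γ w = w → w = 1 := by
      intro w hw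
      by_contra hw1
      obtain ⟨t, ht⟩ := IsPGroup.iff_orderOf.1 (hS.to_le hPS) w
      obtain ⟨t, rfl⟩ : ∃ e, t = e + 1 := Nat.exists_eq_succ_of_ne_zero (by
        rintro rfl; exact hw1 (orderOf_eq_one_iff.1 (by simpa using ht)))
      set c := w ^ p ^ t
      have hcp : c ^ p = 1 := by rw [← pow_mul, ← pow_succ, ← ht, pow_orderOf_eq_one]
      have hc1 : c ≠ 1 := fun h => by
        have h2 := Nat.le_of_dvd (pow_pos hp'.pos t) (orderOf_dvd_of_pow_eq_one h)
        rw [ht, pow_succ] at h2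
        nlinarith [hp'.two_le, pow_pos hp'.pos t]
      have hcC : (c : Ω) ∈ C := (hCiff _).2 ⟨c.2, congrArg Subtype.val hcp⟩
      have h1 : γ c = c := by rw [map_pow, hw]
      have h2 : c = c⁻¹ := h1.symm.trans (Subtype.ext (hγc c hcC))
      have h3 : c ^ 2 = 1 := by rw [sq]; nth_rw 2 [h2]; exact mul_inv_cancel c
      exact hc1 (orderOf_eq_one_iff.1 (Nat.eq_one_of_dvd_coprimes
        ((Nat.coprime_primes hp' Nat.prime_two).2 hp)
        (orderOf_dvd_of_pow_eq_one hcp) (orderOf_dvd_of_pow_eq_one h3)))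
    have hinj : Function.Injective (fun w : P => w⁻¹ * γ w) := fun a b h => by
      have h2 : γ (b * a⁻¹) = b * a⁻¹ := by
        simp only at h
        rw [map_mul, map_inv, show γ b = b * (a⁻¹ * γ a) by rw [h]; group]
        group
      exact (mul_inv_eq_one.1 (hfix _ h2)).symm
    obtain ⟨w, hw⟩ := (Finite.injective_iff_surjective.1 hinj) ⟨y, hy⟩
    -- `w⁻¹ γ w` centralises `C`
    have hcx : (y : Ω) * (x₀ : Ω) * y⁻¹ = (x₀ : Ω) := by
      have hxC : (x₀ : Ω) ∈ C := ⟨0, 1, by simp⟩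
      set c : P := w * x₀ * w⁻¹ with hcdef
      have hcC : (c : Ω) ∈ C := (hCiff _).2 ⟨c.2, by
        rw [← Subgroup.coe_pow, hcdef, conj_pow, hx₀p, mul_one, mul_inv_cancel, Subgroup.coe_one]⟩
      have h1 : γ w * x₀⁻¹ * (γ w)⁻¹ = c⁻¹ := by
        have e1 : γ x₀ = x₀⁻¹ := Subtype.ext (hγc x₀ hxC)
        have e2 : γ c = c⁻¹ := Subtype.ext (hγc c hcC)
        rw [hcdef, map_mul, map_mul, map_inv, e1] at e2
        rw [hcdef]; exact e2
      have h2 : (⟨y, hy⟩ : P) * x₀⁻¹ * (⟨y, hy⟩ : P)⁻¹ = x₀⁻¹ := by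
        rw [← hw, show w⁻¹ * γ w * x₀⁻¹ * (w⁻¹ * γ w)⁻¹ = w⁻¹ * (γ w * x₀⁻¹ * (γ w)⁻¹) * w by group,
          h1, hcdef]
        group
      have h3 := congrArg (fun v : P => v⁻¹) h2
      simp only [mul_inv_rev, inv_inv, ← mul_assoc] at h3
      exact congrArg Subtype.val h3
    exact hyne (mul_inv_eq_iff_eq_mul.1 hcx)
  -- pass to the factor system
  set NZ := Z.subgroupOf S with hNZ
  have hZn : S ≤ Subgroup.normalizer (Z : Set Ω) := StronglyClosed.normal_in hZsc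
  have : NZ.Normal := ⟨fun a ha b => conj_mem_of_mem_normalizer (P := Z) (hZn b.2) ha⟩
  let θ : S →* S ⧸ NZ := QuotientGroup.mk' NZ
  have hθ : ∀ s : S, θ s = 1 ↔ (s : Ω) ∈ Z := fun s => QuotientGroup.eq_one_iff s
  have hrg : θ.range = ⊤ := MonoidHom.range_eq_top.2 (QuotientGroup.mk'_surjective NZ)
  let E := factorSystem F hZsc θ hθ hrg
  have hE : F.IsFactorSystem Z θ E := ⟨hZsc.1, hθ, hrg, fun _ _ => Iff.rfl⟩
  have hEs : E.IsSaturated p := factor_saturated hS hF hZsc hE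
  set P' := imageAlong θ P with hP'
  have htp : IsPGroup p (⊤ : Subgroup (S ⧸ NZ)) := (hS.to_quotient NZ).to_subgroup _
  have hcard : Nat.card (⊤ : Subgroup (S ⧸ NZ)) < n := by
    rw [Subgroup.card_top, ← hn, NZ.card_eq_card_quotient_mul_card_subgroup]
    refine lt_mul_of_one_lt_right Nat.card_pos ?_
    rw [Nat.one_lt_iff_ne_zero_and_ne_one]
    refine ⟨Nat.card_pos.ne', fun h1 => hZne ?_⟩
    rw [← inf_eq_left.2 hZsc.1, ← Subgroup.subgroupOf_map_subtype, ← hNZ,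
      Subgroup.card_eq_one.1 h1, Subgroup.map_bot]
  have hm' : Cfsg.IsMetacyclic P' := by
    obtain ⟨N, hN, hNc, hQc⟩ := hm
    let f : P →* P' := (θ.comp (Subgroup.inclusion hPS)).codRestrict P' fun x => ⟨_, x.2, rfl⟩
    have hf : Function.Surjective f := by
      rintro ⟨_, s, hs, rfl⟩
      exact ⟨⟨s, hs⟩, rfl⟩
    have hn' : (N.map f).Normal := hN.map f hf
    refine ⟨N.map f, hn', isCyclic_of_surjective (f.subgroupMap N) (f.subgroupMap_surjective N), ?_⟩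
    refine isCyclic_of_surjective (QuotientGroup.map N (N.map f) f (Subgroup.le_comap_map f N)) ?_
    intro q
    obtain ⟨q, rfl⟩ := QuotientGroup.mk_surjective q
    obtain ⟨x, rfl⟩ := hf q
    exact ⟨QuotientGroup.mk x, rfl⟩
  have hP'n := ih _ hcard rfl htp hEs P' (stronglyClosed_imageAlong hE hZsc hP) hm'
  obtain ⟨m, D, hD0, hDl, hDm, hDsc, hDc⟩ := IsNormal.exists_series htp hP'n
  have hpre : ∀ i, F.StronglyClosed (preimageAlong θ (D i)) := fun i =>
    stronglyClosed_preimageAlong_meta hS hF hZsc hE (hDsc i)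
  refine isNormal_of_series hS hF hP (Fin.cases ⊥ fun i => preimageAlong θ (D i))
    rfl ?_ ?_ ?_ ?_
  · rw [show (Fin.last (m + 1)) = (Fin.last m).succ from (Fin.succ_last m).symm, Fin.cases_succ,
      hDl, hP', preimageAlong_imageAlong hZsc.1 hθ hPS, sup_eq_left.2 hZP]
  · refine Fin.monotone_iff_le_succ.2 fun i => ?_
    induction i using Fin.cases with
    | zero => exact bot_le
    | succ i =>
      rw [Fin.castSucc_succ, Fin.cases_succ, Fin.cases_succ]
      exact preimageAlong_mono (hDm (Fin.castSucc_le_succ i))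
  · intro i
    induction i using Fin.cases with
    | zero =>
      rw [Fin.castSucc_zero, Fin.cases_zero, Fin.cases_succ, hD0]
      refine Subgroup.commutator_le.2 fun a ha b hb => Subgroup.mem_bot.2 ?_
      obtain ⟨s, hs, rfl⟩ := ha
      exact commutatorElement_eq_one_iff_mul_comm.2
        (hZc b hb s ((hθ s).1 (Subgroup.mem_bot.1 hs))).symm
    | succ i =>
      rw [Fin.castSucc_succ, Fin.cases_succ, Fin.cases_succ]
      refine Subgroup.commutator_le.2 fun a ha b hb => ?_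
      obtain ⟨s, hs, rfl⟩ := ha
      refine (mem_preimageAlong (x := ⁅s, (⟨b, hPS hb⟩ : S)⁆)).2 ?_
      rw [map_commutatorElement]
      exact hDc i (Subgroup.commutator_mem_commutator hs ⟨⟨b, hPS hb⟩, hb, rfl⟩)
  · intro i
    induction i using Fin.cases with
    | zero => exact hbot
    | succ i =>
      rw [Fin.castSucc_succ, Fin.cases_succ]
      exact StronglyClosed.weaklyClosed (hpre _)

end CfsgLib.Fusion
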