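import Cfsg.Agent.Lib.Fusion.ModelTools
import Cfsg.Agent.Lib.Fusion.WeakClosureApps

/-!
# The centre of a system with a model
-/

set_option autoImplicit false

namespace CfsgLib.Fusion

open Cfsg Cfsg.FusionSystem

universe u

variable {Ω : Type u} [Group Ω] {S : Subgroup Ω} {F : FusionSystem S} {p : ℕ}
  {L : Type u} [Group L] {ι : S →* L}

/-- An element of `S` that is central in the model is central in the system. -/
theorem mem_center_of_model_central (hG : F.IsModel p L ι) {x : S}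
    (hx : ∀ g : L, g * ι x * g⁻¹ = ι x) : (x : Ω) ∈ F.center := by
  obtain ⟨-, ⟨hinj, hiff⟩, -, -⟩ := hG
  refine le_center ⟨Subgroup.zpowers_le.2 x.2, fun P φ hφ => ?_⟩ (Subgroup.mem_zpowers (x : Ω))
  have hPS := hom_le hφ
  obtain ⟨g, hg⟩ := (hiff P hPS φ (hom_apply_mem hφ)).1 hφ
  set R := P ⊔ Subgroup.zpowers (x : Ω)
  have hRS : R ≤ S := sup_le hPS (Subgroup.zpowers_le.2 x.2)
  let D : Subgroup S := (ι.range.comap (MulAut.conj g).toMonoidHom).comap ι
  have hD : R ≤ D.map S.subtype := by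
    refine sup_le (fun y hy => ⟨⟨y, hPS hy⟩, ?_, rfl⟩) (Subgroup.zpowers_le.2 ⟨x, ?_, rfl⟩)
    · show g * ι ⟨y, hPS hy⟩ * g⁻¹ ∈ ι.range
      exact ⟨⟨φ ⟨y, hy⟩, hom_apply_mem hφ _⟩, hg ⟨y, hy⟩⟩
    · show g * ι x * g⁻¹ ∈ ι.range
      rw [hx g]
      exact ⟨x, rfl⟩
  have hmem : ∀ z : R, g * ι (Subgroup.inclusion hRS z) * g⁻¹ ∈ ι.range := fun z => by
    obtain ⟨d, hd, hdz⟩ := hD z.2
    rw [show Subgroup.inclusion hRS z = d from Subtype.ext hdz.symm]
    exact hd
  let ψ : R →* Ω := S.subtype.comp ((MonoidHom.ofInjective hinj).symm.toMonoidHom.comp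
    (((MulAut.conj g).toMonoidHom.comp (ι.comp (Subgroup.inclusion hRS))).codRestrict ι.range hmem))
  have hψS : ∀ z, ψ z ∈ S := fun z => ((MonoidHom.ofInjective hinj).symm _).2
  have hψv : ∀ z, ι ⟨ψ z, hψS z⟩ = g * ι (Subgroup.inclusion hRS z) * g⁻¹ := fun z =>
    MonoidHom.apply_ofInjective_symm hinj ⟨_, hmem z⟩
  refine ⟨ψ, (hiff R hRS ψ hψS).2 ⟨g, hψv⟩, fun y => ?_, fun y => ?_⟩
  · have h : (⟨ψ (Subgroup.inclusion le_sup_left y), hψS _⟩ : S) = ⟨φ y, hom_apply_mem hφ y⟩ :=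
      hinj ((hψv _).trans (hg y).symm)
    exact congrArg Subtype.val h
  · obtain ⟨k, hk⟩ := y.2
    have hk' : (⟨(y : Ω), hRS (Subgroup.mem_sup_right y.2)⟩ : S) = x ^ k :=
      Subtype.ext (by rw [Subgroup.coe_zpow]; exact hk.symm)
    have h : (⟨ψ (Subgroup.inclusion le_sup_right y), hψS _⟩ : S) =
        ⟨(y : Ω), hRS (Subgroup.mem_sup_right y.2)⟩ := hinj ((hψv _).trans (by
      show g * ι (⟨(y : Ω), hRS (Subgroup.mem_sup_right y.2)⟩ : S) * g⁻¹ = _
      rw [hk', map_zpow, ← conj_zpow, hx g]))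
    exact congrArg Subtype.val h

/-- The centre of the system is central in the model. -/
theorem model_center_central [Fact p.Prime] [Finite S] (hG : F.IsModel p L ι) {x : S}
    (hx : (x : Ω) ∈ F.center) (g : L) : g * ι x * g⁻¹ = ι x := by
  have hC := model_isNormal_coreBack hG
  have hxC : ∀ y ∈ S, y * (x : Ω) = (x : Ω) * y := fun y hy =>
    Subgroup.mem_centralizer_iff.1 (center_le_centralizer F hx) y hy
  have hxO : (x : Ω) ∈ coreBack p ι := mem_coreBack.2 (model_central_core hG x.2 hxC)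
  obtain ⟨b, hb, -, hv⟩ := model_exists_aut hG (R := coreBack p ι) hC.1 (h := g) fun z =>
    model_coreBack_conj hG g z
  obtain ⟨ψ, hψ, hψb, hψc⟩ := center_isCentral.2 _ _ ((mem_autGroup_iff hC.1).1 hb)
  have h1 := hψb ⟨x, hxO⟩
  have h2 := hψc ⟨x, hx⟩
  have h3 : ((b ⟨x, hxO⟩ : coreBack p ι) : Ω) = x :=
    h1.symm.trans ((congrArg ψ (Subtype.ext rfl)).trans h2)
  have h4 := hv ⟨x, hxO⟩
  rw [show (⟨((b ⟨x, hxO⟩ : coreBack p ι) : Ω), hC.1 (b ⟨x, hxO⟩).2⟩ : S) = x from Subtype.ext h3] at h4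
  exact h4.symm

/-- In a system with a model the centre is a direct factor of `Z(S)`. -/
theorem center_complement_of_model [Fact p.Prime] [Finite S] (hS : IsPGroup p S)
    (hG : F.IsModel p L ι) :
    ∃ K : Subgroup Ω, K ≤ S ⊓ Subgroup.centralizer (S : Set Ω) ∧ F.center ⊓ K = ⊥ ∧
      F.center ⊔ K = S ⊓ Subgroup.centralizer (S : Set Ω) := by
  classical
  have hfin := hG.1
  have hinj : Function.Injective ι := hG.2.1.1
  have hcore := model_pCore_le hG
  obtain ⟨TL, hTL⟩ := hG.2.2.1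
  set A : Subgroup L := pCore p L ⊓ Subgroup.centralizer ((pCore p L : Subgroup L) : Set L) with hA
  have hAc : IsMulCommutative A := ⟨⟨fun a b =>
    Subtype.ext (Subgroup.mem_centralizer_iff.1 b.2.2 a a.2.1)⟩⟩
  letI : CommGroup A := { (inferInstance : Group A) with mul_comm := fun a b => hAc.is_comm.comm a b }
  have hAn : A.Normal := by
    have : (pCore p L).Normal := inferInstance
    exact Subgroup.normal_inf_normal _ _
  set Z := S ⊓ Subgroup.centralizer (S : Set Ω) with hZ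
  have hzA : ∀ v : Z, ι ⟨v, v.2.1⟩ ∈ A := fun v => by
    have hc : ∀ y ∈ S, y * (v : Ω) = (v : Ω) * y := fun y hy =>
      Subgroup.mem_centralizer_iff.1 v.2.2 y hy
    refine ⟨model_central_core hG v.2.1 hc, Subgroup.mem_centralizer_iff.2 fun y hy => ?_⟩
    obtain ⟨t, rfl⟩ := hcore hy
    rw [← map_mul, ← map_mul]
    exact congrArg ι (Subtype.ext (hc t t.2))
  let e : Z →* A := MonoidHom.mk' (fun v => ⟨ι ⟨v, v.2.1⟩, hzA v⟩) fun v w =>
    Subtype.ext (map_mul ι ⟨v, v.2.1⟩ ⟨w, w.2.1⟩)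
  let c : L → (A →* A) := fun g => (MulAut.conjNormal g : MulAut A).toMonoidHom
  have hcv : ∀ (g : L) (a : A), ((c g a : A) : L) = g * a * g⁻¹ := fun g a =>
    MulAut.conjNormal_apply g a
  have hfix : ∀ (v : Z) (t : L), t ∈ (TL : Subgroup L) → c t (e v) = e v := fun v t ht => by
    obtain ⟨s, rfl⟩ := hTL.le ht
    refine Subtype.ext ?_
    rw [hcv]
    show ι s * ι ⟨v, v.2.1⟩ * (ι s)⁻¹ = ι ⟨v, v.2.1⟩
    rw [mul_inv_eq_iff_eq_mul, ← map_mul, ← map_mul]
    exact congrArg ι (Subtype.ext (Subgroup.mem_centralizer_iff.1 v.2.2 s s.2))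
  let Q := L ⧸ (TL : Subgroup L)
  have : Fintype Q := Fintype.ofFinite _
  let τ : Z →* A := MonoidHom.mk' (fun v => ∏ q : Q, c q.out (e v)) fun v w => by
    simp only [map_mul, Finset.prod_mul_distrib]
  have hτ : ∀ (g : L) (v : Z), c g (τ v) = τ v := by
    intro g v
    show c g (∏ q : Q, c q.out (e v)) = ∏ q : Q, c q.out (e v)
    rw [map_prod, ← Equiv.prod_comp (MulAction.toPerm g : Equiv.Perm Q) (fun q => c q.out (e v))]
    refine Finset.prod_congr rfl fun q _ => Subtype.ext ?_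
    have h1 : (g * q.out)⁻¹ * (g • q : Q).out ∈ (TL : Subgroup L) := by
      refine QuotientGroup.eq.1 ?_
      rw [QuotientGroup.out_eq']
      conv_rhs => rw [← QuotientGroup.out_eq' q]
      rfl
    have h2 := hfix v _ h1
    show ((c g (c q.out (e v)) : A) : L) = ((c (g • q : Q).out (e v) : A) : L)
    conv_rhs => rw [show (g • q : Q).out = g * q.out * ((g * q.out)⁻¹ * (g • q : Q).out) by group]
    rw [hcv, hcv, hcv]
    have h3 := congrArg (fun a : A => (a : L)) h2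
    simp only [hcv] at h3
    rw [show g * q.out * ((g * q.out)⁻¹ * (g • q : Q).out) * (e v : L) *
      (g * q.out * ((g * q.out)⁻¹ * (g • q : Q).out))⁻¹ = g * q.out *
      (((g * q.out)⁻¹ * (g • q : Q).out) * (e v : L) * ((g * q.out)⁻¹ * (g • q : Q).out)⁻¹) *
      (g * q.out)⁻¹ by group, h3]
    group
  have hpow : ∀ v : Z, (v : Ω) ∈ F.center → τ v = e v ^ Fintype.card Q := fun v hv => by
    show ∏ q : Q, c q.out (e v) = _
    rw [Finset.prod_congr rfl fun q _ => show c q.out (e v) = e v from Subtype.ext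
      ((hcv _ _).trans (model_center_central hG hv _)), Finset.prod_const, Finset.card_univ]
  have hdiv : ¬ p ∣ Fintype.card Q := by
    rw [← Nat.card_eq_fintype_card]
    exact TL.not_dvd_index
  have hcenS : F.center ≤ Z := le_inf center_le (center_le_centralizer F)
  have := finite_le (inf_le_left : Z ≤ S)
  obtain ⟨m, hm⟩ := IsPGroup.iff_card.1 (hS.to_le (inf_le_left : Z ≤ S))
  have hcop : Nat.Coprime (Fintype.card Q) (p ^ m) :=
    Nat.Coprime.pow_right _ (((Fact.out : p.Prime).coprime_iff_not_dvd.2 hdiv).symm)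
  refine ⟨τ.ker.map Z.subtype, Subgroup.map_subtype_le _, ?_, le_antisymm
    (sup_le hcenS (Subgroup.map_subtype_le _)) fun v hv => ?_⟩
  · refine (Subgroup.eq_bot_iff_forall _).2 ?_
    rintro _ ⟨hc, v, hv, rfl⟩
    have h1 : e v ^ Fintype.card Q = 1 := (hpow v hc).symm.trans hv
    have h2 : e v ^ p ^ m = 1 := by rw [← map_pow, ← hm, pow_card_eq_one', map_one]
    have h3 : e v = 1 := orderOf_eq_one_iff.1 (Nat.eq_one_of_dvd_coprimes hcop
      (orderOf_dvd_of_pow_eq_one h1) (orderOf_dvd_of_pow_eq_one h2))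
    have h4 : (⟨v, v.2.1⟩ : S) = 1 := hinj ((congrArg Subtype.val h3).trans (map_one ι).symm)
    exact congrArg (fun s : S => (s : Ω)) h4
  · set w := τ ⟨v, hv⟩ with hw
    obtain ⟨s, hs⟩ := hcore w.2.1
    have hsc : (s : Ω) ∈ F.center := mem_center_of_model_central hG fun g => by
      rw [hs]
      exact (hcv g w).symm.trans (congrArg Subtype.val (hτ g ⟨v, hv⟩))
    let sZ : Z := ⟨s, hcenS hsc⟩
    have hes : e sZ = w := Subtype.ext hs
    obtain ⟨u, hu⟩ : ∃ u, Fintype.card Q * u ≡ 1 [MOD p ^ m] := by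
      rcases Nat.lt_or_ge 1 (p ^ m) with h | h
      · obtain ⟨u, -, hu⟩ := Nat.exists_mul_mod_eq_one_of_coprime hcop h
        exact ⟨u, by rw [Nat.ModEq, hu, Nat.mod_eq_of_lt h]⟩
      · exact ⟨0, by
          have : p ^ m = 1 := le_antisymm h (Nat.one_le_pow _ _ (Fact.out : p.Prime).pos)
          rw [this]; exact Nat.modEq_one⟩
    have h2 : τ (sZ ^ u) = w := by
      rw [map_pow, hpow sZ hsc, ← pow_mul, ← map_pow, ← hes]
      refine congrArg e ?_
      have hz : sZ ^ p ^ m = 1 := by rw [← hm]; exact pow_card_eq_one'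
      rw [pow_eq_pow_mod _ hz, hu, ← pow_eq_pow_mod _ hz, pow_one]
    rw [show v = ((sZ ^ u : Z) : Ω) * (((sZ ^ u)⁻¹ * ⟨v, hv⟩ : Z) : Ω) by simp]
    refine mul_mem (Subgroup.mem_sup_left ?_) (Subgroup.mem_sup_right ⟨((sZ ^ u)⁻¹ * ⟨v, hv⟩ : Z), ?_, rfl⟩)
    · rw [Subgroup.coe_pow]; exact Subgroup.pow_mem _ hsc u
    · rw [SetLike.mem_coe, MonoidHom.mem_ker, map_mul, map_inv, h2, ← hw, inv_mul_cancel]

end CfsgLib.Fusion
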