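import Cfsg.Agent.Lib.Fusion.ClosedCentric
import Mathlib.GroupTheory.GroupAction.Quotient
import Mathlib.GroupTheory.PGroup
import Mathlib.Algebra.BigOperators.Intervals

/-!
# The norm argument for quadratic elements, odd `p`

For odd `p` a point of an abelian `p`-group fixed by a Sylow subgroup `P` and by the normalizer of the
subgroup generated by the elements of `P` acting quadratically is fixed by the whole group.
-/

set_option autoImplicit false

namespace CfsgLib.Fusion

variable {G M : Type*} [Group G] [CommGroup M] {p : ℕ}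

/-- The elements acting quadratically. -/
def quadElts (σ : G →* MulAut M) : Set G := {g | ∀ m : M, σ g (σ g m / m) = σ g m / m}

theorem conj_mem_quadElts {σ : G →* MulAut M} {o : G} (ho : o ∈ quadElts σ) (g : G) :
    g * o * g⁻¹ ∈ quadElts σ := by
  intro m
  have h := congrArg (σ g) (ho (σ g⁻¹ m))
  simp only [map_mul, MulAut.mul_apply, map_div, map_inv, MulAut.inv_apply_self,
    MulAut.apply_inv_self] at h ⊢
  exact h

variable [Fact p.Prime]

/-- A norm over a subgroup of index `p` followed by a quadratic element is a `p`th power up to fixed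
points. -/
theorem prod_range_quadratic (hp2 : p ≠ 2) (α : MulAut M) {b : M} (hd : α (α b / b) = α b / b)
    (hp : (α ^ p) b = b) : ∏ i ∈ Finset.range p, (α ^ i) b = b ^ p := by
  have h : α b = b * (α b / b) := by rw [mul_div_cancel]
  have hi := pow_shift α h hd
  have hdp : (α b / b) ^ p = 1 := by
    have := hi p
    rw [hp] at this
    exact mul_eq_left.1 this.symm
  simp only [hi, Finset.prod_mul_distrib, Finset.prod_const, Finset.card_range]
  rw [Finset.prod_pow_eq_pow_sum]
  obtain ⟨k, hk⟩ := ((Fact.out : p.Prime).odd_of_ne_two hp2)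
  rw [Finset.sum_range_id, show p * (p - 1) / 2 = p * k by
    rw [show p - 1 = k * 2 by omega, ← mul_assoc, Nat.mul_div_cancel _ two_pos], pow_mul, hdp,
    one_pow, mul_one]

/-- The norm argument. -/
theorem fixed_of_quadratic [Finite G] (hp2 : p ≠ 2) (σ : G →* MulAut M) (hM : IsPGroup p M)
    (P : Sylow p G) :
    ∀ v : M, (∀ g ∈ (P : Subgroup G), σ g v = v) →
      (∀ g ∈ Subgroup.normalizer ((Subgroup.closure ((P : Set G) ∩ quadElts σ) : Subgroup G) :
        Set G), σ g v = v) → ∀ g, σ g v = v := by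
  classical
  intro v
  induction hn : orderOf v using Nat.strong_induction_on generalizing v with
  | _ n IH =>
  intro hP hN
  subst hn
  by_cases hv1 : v = 1
  · intro g
    rw [hv1, map_one]
  have hpp : p.Prime := Fact.out
  obtain ⟨k, hk⟩ := IsPGroup.iff_orderOf.1 hM v
  have hk0 : k ≠ 0 := fun h => hv1 (orderOf_eq_one_iff.1 (by rw [hk, h, pow_zero]))
  have hvp : ∀ g, σ g (v ^ p) = v ^ p := by
    refine IH _ ?_ (v ^ p) rfl (fun g hg => by rw [map_pow, hP g hg])
      (fun g hg => by rw [map_pow, hN g hg])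
    rw [orderOf_pow' _ hpp.ne_zero, hk, Nat.gcd_eq_right (dvd_pow_self p hk0)]
    exact Nat.div_lt_self (pow_pos hpp.pos _) hpp.one_lt
  let Fix : Subgroup M :=
    { carrier := {m | ∀ g, σ g m = m}
      one_mem' := fun g => map_one _
      mul_mem' := fun ha hb g => by rw [map_mul, ha g, hb g]
      inv_mem' := fun ha g => by rw [map_inv, ha g] }
  haveI := Fintype.ofFinite (G ⧸ (P : Subgroup G))
  let f : G ⧸ (P : Subgroup G) → M := fun x => Quotient.liftOn' x (fun g => σ g v) fun a b hab => by
    have h := hP _ (QuotientGroup.leftRel_apply.1 hab)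
    rw [map_mul, map_inv, MulAut.mul_apply] at h
    show σ a v = σ b v
    conv_lhs => rw [← h]
    rw [MulAut.apply_inv_self]
  have hfs : ∀ (g : G) x, f (g • x) = σ g (f x) := fun g x =>
    Quotient.inductionOn' x fun a => by
      show σ (g * a) v = σ g (σ a v)
      rw [map_mul]; rfl
  have hfp : ∀ x, f x ^ p = v ^ p := fun x => Quotient.inductionOn' x fun a => by
    show σ a v ^ p = v ^ p
    rw [← map_pow, hvp]
  have hNfix : ∏ x, f x ∈ Fix := fun g => by
    rw [map_prod]
    exact Fintype.prod_equiv (MulAction.toPerm g) _ _ fun x => (hfs g x).symm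
  set W : Subgroup G := Subgroup.closure ((P : Set G) ∩ quadElts σ) with hW
  have hWP : W ≤ P := (Subgroup.closure_le _).2 fun _ h => h.1
  have hWp : IsPGroup p W := P.2.to_le hWP
  -- the orbits of `W` of size bigger than one
  have horb : ∀ x : G ⧸ (P : Subgroup G), x ∉ MulAction.fixedPoints W (G ⧸ (P : Subgroup G)) →
      ∏ y ∈ Finset.univ.filter (· ∈ MulAction.orbit W x), f y ∈ Fix := by
    intro x hx
    have hH : MulAction.stabilizer W x ≠ ⊤ := fun h => hx fun w =>
      MulAction.mem_stabilizer_iff.1 (h.ge (Subgroup.mem_top w))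
    obtain ⟨K, hK, hHK⟩ :=
      (eq_top_or_exists_le_coatom (MulAction.stabilizer W x)).resolve_left hH
    haveI : K.Normal := Subgroup.NormalizerCondition.normal_of_coatom K
      (Group.normalizerCondition_of_isNilpotent (G := W) (h := hWp.isNilpotent)) hK
    obtain ⟨o, ⟨hoP, hoq⟩, hoK⟩ : ∃ o, ∃ ho : o ∈ (P : Set G) ∩ quadElts σ,
        (⟨o, Subgroup.subset_closure ho⟩ : W) ∉ K := by
      by_contra h
      push Not at h
      refine hK.1 (top_le_iff.1 ?_)
      have hle : W ≤ K.map W.subtype := (Subgroup.closure_le _).2 fun o ho =>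
        ⟨_, h o ho, rfl⟩
      rintro ⟨w, hw⟩ -
      obtain ⟨w', hw', he⟩ := hle hw
      exact (Subtype.ext he : w' = ⟨w, hw⟩) ▸ hw'
    set o' : W := ⟨o, Subgroup.subset_closure ⟨hoP, hoq⟩⟩ with ho'
    -- the quotient by `K` is generated by `o` of order `p`
    have hord : orderOf (QuotientGroup.mk' K o') = p := by
      refine orderOf_eq_prime ?_ fun h => hoK ((QuotientGroup.eq_one_iff _).1 h)
      by_contra hne
      have hop : o' ^ p ∉ K := fun h => hne (by rw [← map_pow]; exact (QuotientGroup.eq_one_iff _).2 h)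
      have htop := hK.2 (K ⊔ Subgroup.zpowers (o' ^ p)) (left_lt_sup.2 fun h =>
        hop (h (Subgroup.mem_zpowers _)))
      have hmem := congrArg (Subgroup.map (QuotientGroup.mk' K)) htop
      rw [Subgroup.map_sup, QuotientGroup.map_mk'_self, bot_sup_eq,
        Subgroup.map_top_of_surjective _ (QuotientGroup.mk'_surjective K), MonoidHom.map_zpowers,
        map_pow] at hmem
      obtain ⟨j, hj⟩ := Subgroup.mem_zpowers_iff.1 (hmem.ge (Subgroup.mem_top (QuotientGroup.mk' K o')))
      obtain ⟨e, he⟩ := IsPGroup.iff_orderOf.1 (hWp.to_quotient K) (QuotientGroup.mk' K o')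
      have h1 : (QuotientGroup.mk' K o') ^ ((p : ℤ) * j - 1) = 1 := by
        rw [zpow_sub, zpow_one, zpow_mul, zpow_natCast, hj, mul_inv_cancel]
      have h2 := orderOf_dvd_iff_zpow_eq_one.2 h1
      rw [he] at h2
      rcases Nat.eq_zero_or_pos e with h0 | h0
      · rw [h0, pow_zero] at he
        exact hoK ((QuotientGroup.eq_one_iff _).1 (orderOf_eq_one_iff.1 he))
      · have h3 : (p : ℤ) ∣ (p : ℤ) * j - 1 :=
          dvd_trans (by exact_mod_cast dvd_pow_self p h0.ne') h2
        have h4 : (p : ℤ) ∣ 1 := by simpa using dvd_sub (dvd_mul_right (p : ℤ) j) h3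
        exact hpp.ne_one (by exact_mod_cast Int.eq_one_of_dvd_one (Int.natCast_nonneg p) h4)
    have hgen : ∀ w : W, ∃ i < p, (o' ^ i)⁻¹ * w ∈ K := by
      intro w
      have htop := congrArg (Subgroup.map (QuotientGroup.mk' K))
        (hK.2 (K ⊔ Subgroup.zpowers o') (left_lt_sup.2 fun h => hoK (h (Subgroup.mem_zpowers _))))
      rw [Subgroup.map_sup, QuotientGroup.map_mk'_self, bot_sup_eq,
        Subgroup.map_top_of_surjective _ (QuotientGroup.mk'_surjective K),
        MonoidHom.map_zpowers] at htop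
      have hw := htop.ge (Subgroup.mem_top (QuotientGroup.mk' K w))
      rw [mem_zpowers_iff_mem_range_orderOf, hord, Finset.mem_image] at hw
      obtain ⟨i, hi, hiw⟩ := hw
      rw [← map_pow] at hiw
      exact ⟨i, Finset.mem_range.1 hi, QuotientGroup.eq.1 hiw⟩
    set s := Finset.univ.filter (fun y => ∃ k ∈ K, k • x = y) with hs
    have hmem_s : ∀ y, y ∈ s ↔ ∃ k ∈ K, k • x = y := fun y => by simp [hs]
    have hcover : Finset.univ.filter (· ∈ MulAction.orbit W x) =
        (Finset.range p).biUnion fun i => s.image ((o' ^ i) • ·) := by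
      ext y
      simp only [Finset.mem_filter, Finset.mem_univ, true_and, MulAction.mem_orbit_iff,
        Finset.mem_biUnion, Finset.mem_range, Finset.mem_image, hmem_s]
      constructor
      · rintro ⟨w, rfl⟩
        obtain ⟨i, hi, hiK⟩ := hgen w
        exact ⟨i, hi, _, ⟨_, hiK, rfl⟩, by rw [smul_smul, mul_inv_cancel_left]⟩
      · rintro ⟨i, -, _, ⟨k, -, rfl⟩, rfl⟩
        exact ⟨o' ^ i * k, mul_smul _ _ _⟩
    have hdisj : Set.PairwiseDisjoint ↑(Finset.range p) fun i => s.image ((o' ^ i) • ·) := by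
      intro i hi j hj hij
      refine Finset.disjoint_left.2 fun y hy hy' => hij ?_
      obtain ⟨_, ha, rfl⟩ := Finset.mem_image.1 hy
      obtain ⟨_, hb, hab⟩ := Finset.mem_image.1 hy'
      obtain ⟨k₁, hk₁, rfl⟩ := (hmem_s _).1 ha
      obtain ⟨k₂, hk₂, rfl⟩ := (hmem_s _).1 hb
      rw [smul_smul, smul_smul] at hab
      have hst : (o' ^ i * k₁)⁻¹ * (o' ^ j * k₂) ∈ K := hHK (by
        rw [MulAction.mem_stabilizer_iff, mul_smul, hab, inv_smul_smul])
      have hq := (QuotientGroup.eq_one_iff _).2 hst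
      rw [← QuotientGroup.mk'_apply, map_mul, map_inv, map_mul, map_mul,
        show QuotientGroup.mk' K k₁ = 1 from (QuotientGroup.eq_one_iff _).2 hk₁,
        show QuotientGroup.mk' K k₂ = 1 from (QuotientGroup.eq_one_iff _).2 hk₂, mul_one, mul_one,
        inv_mul_eq_one, map_pow, map_pow] at hq
      refine pow_injOn_Iio_orderOf ?_ ?_ hq
      · rw [hord]; exact Finset.mem_range.1 hi
      · rw [hord]; exact Finset.mem_range.1 hj
    set b := ∏ y ∈ s, f y with hb
    have hsmul : ∀ (w : W) y, f (w • y) = σ (w : G) (f y) := fun w y => hfs w y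
    have hterm : ∀ i, ∏ y ∈ s.image ((o' ^ i) • ·), f y = ((σ o) ^ i) b := by
      intro i
      rw [Finset.prod_image (fun a _ c _ h => MulAction.injective _ h), hb, map_prod]
      refine Finset.prod_congr rfl fun y _ => ?_
      rw [hsmul, SubgroupClass.coe_pow, map_pow]
    have hbK : ∀ k ∈ K, σ (k : G) b = b := by
      intro k hk
      rw [hb, map_prod]
      refine Finset.prod_equiv (MulAction.toPerm k) (fun y => ?_) fun y _ => (hsmul k y).symm
      rw [hmem_s, hmem_s, MulAction.toPerm_apply]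
      exact ⟨fun ⟨l, hl, e⟩ => ⟨k * l, mul_mem hk hl, by rw [mul_smul, e]⟩,
        fun ⟨l, hl, e⟩ => ⟨k⁻¹ * l, mul_mem (Subgroup.inv_mem _ hk) hl, by
          rw [mul_smul, e, inv_smul_smul]⟩⟩
    have hop : o' ^ p ∈ K := (QuotientGroup.eq_one_iff _).1
      ((map_pow (QuotientGroup.mk' K) o' p).trans (by rw [← hord]; exact pow_orderOf_eq_one _))
    rw [hcover, Finset.prod_biUnion hdisj, Finset.prod_congr rfl (fun i _ => hterm i),
      prod_range_quadratic hp2 _ (hoq b) (by
        have := hbK _ hop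
        rwa [SubgroupClass.coe_pow, map_pow] at this), hb, ← Finset.prod_pow,
      Finset.prod_congr rfl (fun y _ => hfp y)]
    exact Subgroup.prod_mem _ fun _ _ => hvp
  have hrest : ∀ A : Finset (G ⧸ (P : Subgroup G)),
      (∀ x ∈ A, x ∉ MulAction.fixedPoints W (G ⧸ (P : Subgroup G))) →
      (∀ x ∈ A, ∀ w : W, w • x ∈ A) → ∏ x ∈ A, f x ∈ Fix := by
    intro A
    induction A using Finset.strongInduction with
    | _ A IHA =>
    intro hA hAw
    rcases A.eq_empty_or_nonempty with rfl | ⟨x, hx⟩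
    · simp [one_mem]
    have hsub : Finset.univ.filter (· ∈ MulAction.orbit W x) ⊆ A := by
      intro y hy
      obtain ⟨w, rfl⟩ := MulAction.mem_orbit_iff.1 (Finset.mem_filter.1 hy).2
      exact hAw x hx w
    rw [← Finset.prod_sdiff hsub]
    refine mul_mem (IHA _ (Finset.sdiff_ssubset hsub ⟨x, Finset.mem_filter.2
      ⟨Finset.mem_univ x, MulAction.mem_orbit_self x⟩⟩)
      (fun y hy => hA y (Finset.mem_sdiff.1 hy).1) fun y hy w => ?_) (horb x (hA x hx))
    obtain ⟨hy1, hy2⟩ := Finset.mem_sdiff.1 hy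
    refine Finset.mem_sdiff.2 ⟨hAw y hy1 w, fun h => hy2 (Finset.mem_filter.2
      ⟨Finset.mem_univ y, ?_⟩)⟩
    have := MulAction.mem_orbit_of_mem_orbit w⁻¹ (Finset.mem_filter.1 h).2
    rwa [inv_smul_smul] at this
  -- the fixed cosets
  set A₀ := Finset.univ.filter (fun x => x ∈ MulAction.fixedPoints W (G ⧸ (P : Subgroup G)))
    with hA₀
  have hv0 : ∏ x ∈ A₀, f x = v ^ A₀.card := by
    refine Finset.prod_eq_pow_card fun x hx => ?_
    have hx' := (Finset.mem_filter.1 hx).2
    induction x using Quotient.inductionOn' with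
    | _ a =>
    show σ a v = v
    refine hN a ?_
    have hle : W.map (MulAut.conj a⁻¹).toMonoidHom ≤ W := by
      rw [hW, MonoidHom.map_closure]
      refine (Subgroup.closure_le _).2 ?_
      rintro _ ⟨o, ho, rfl⟩
      refine Subgroup.subset_closure ⟨?_, conj_mem_quadElts ho.2 _⟩
      have h := hx' ⟨o, Subgroup.subset_closure ho⟩
      have h' := QuotientGroup.eq.1 (show ((o * a : G) : G ⧸ (P : Subgroup G)) = (a : G) from h)
      have h'' := Subgroup.inv_mem _ h'
      rw [show ((o * a)⁻¹ * a)⁻¹ = a⁻¹ * o * a by group] at h''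
      show a⁻¹ * o * a⁻¹⁻¹ ∈ (P : Subgroup G)
      rwa [inv_inv]
    have heq := Subgroup.eq_of_le_of_card_ge hle (le_of_eq
      (Subgroup.card_map_of_injective (MulAut.conj a⁻¹).injective).symm)
    exact inv_mem_iff.1 (Subgroup.mem_normalizer_iff_map_conj_eq.2 heq)
  have hr : ¬ p ∣ A₀.card := by
    intro hd
    have hmod := hWp.card_modEq_card_fixedPoints (G ⧸ (P : Subgroup G))
    rw [show Nat.card (MulAction.fixedPoints W (G ⧸ (P : Subgroup G))) = A₀.card from
      Nat.subtype_card A₀ (fun x => by rw [hA₀]; simp)] at hmod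
    exact P.not_dvd_index ((Nat.ModEq.dvd_iff hmod dvd_rfl).2 hd)
  have hvr : v ^ A₀.card ∈ Fix := by
    rw [← hv0]
    have h := hrest (Finset.univ \ A₀)
      (fun x hx h => (Finset.mem_sdiff.1 hx).2 (Finset.mem_filter.2 ⟨Finset.mem_univ x, h⟩))
      (fun x hx w => Finset.mem_sdiff.2 ⟨Finset.mem_univ _, fun h =>
        (Finset.mem_sdiff.1 hx).2 (Finset.mem_filter.2 ⟨Finset.mem_univ x, fun w' => by
          have h1 := (Finset.mem_filter.1 h).2 (w * w' * w⁻¹)
          rw [smul_smul, inv_mul_cancel_right, mul_smul] at h1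
          exact smul_left_cancel w h1⟩)⟩)
    have h' := hNfix
    rw [← Finset.prod_sdiff (Finset.subset_univ A₀)] at h'
    exact (Subgroup.mul_mem_cancel_left _ h).1 h'
  have hcop : (orderOf v).Coprime A₀.card := by
    rw [hk]
    exact ((hpp.coprime_iff_not_dvd.2 hr).pow_left _)
  obtain ⟨m, hm⟩ := exists_pow_eq_self_of_coprime hcop.symm
  rw [← hm]
  exact Subgroup.pow_mem Fix hvr m

end CfsgLib.Fusion
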