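import Cfsg.Agent.Lib.Fusion.NormalCentralizer

/-!
# `T C_S(T)/T` is abelian when `C_S(E) ≤ T`
-/

set_option autoImplicit false

namespace CfsgLib.Fusion

open Cfsg Cfsg.FusionSystem
open scoped commutatorElement Pointwise

universe u

variable {Ω : Type u} [Group Ω] {S T : Subgroup Ω} {F : FusionSystem S} {E : FusionSystem T}
  {p : ℕ} [Fact p.Prime] [Finite S]

/-- If `C_S(E) ≤ T` then `T C_S(T)` is abelian modulo `T`. -/
theorem commutator_sup_centralizerIn_le (hS : IsPGroup p S) (hE : E.IsNormalIn F p)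
    (hle : centOf F E ≤ T) : ⁅T ⊔ centralizerIn S T, T ⊔ centralizerIn S T⁆ ≤ T := by
  have hT := hE.1.2.2.2.1
  have hn := StronglyClosed.normal_in hT
  have hfoc : centFocal F T ≤ T :=
    (le_sSup (show centFocal F T ∈ {Y | CentBy F E Y} from centBy_centFocal hS hE)).trans hle
  have key : ∀ c ∈ centralizerIn S T, ∀ d ∈ centralizerIn S T, c⁻¹ * (d * c * d⁻¹) ∈ T := by
    intro c hc d hd
    refine hfoc (shift_mem_centFocal (χ := conjHom (T ⊔ Subgroup.zpowers c) d)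
      (F.conj_mem (sup_le hT.1 (Subgroup.zpowers_le.2 hc.1)) hd.1) le_sup_left (fun r hr => ?_)
      ⟨c, Subgroup.mem_sup_right (Subgroup.mem_zpowers c)⟩ hc)
    show d * (r : Ω) * d⁻¹ = r
    rw [← (mem_centralizerIn.1 hd).2 r hr, mul_inv_cancel_right]
  have hN : T ⊔ centralizerIn S T ≤ S := sup_le hT.1 (centralizerIn_le T)
  have hconj : ∀ s ∈ S, ∀ x ∈ T, s * x * s⁻¹ ∈ T := fun s hs x hx =>
    conj_mem_of_mem_normalizer (hn hs) hx
  refine Subgroup.commutator_le.2 fun a ha b hb => ?_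
  have hTC : T ≤ Subgroup.normalizer (centralizerIn S T : Set Ω) := by
    refine Subgroup.le_normalizer_iff.2 fun t ht c hc => ?_
    rw [(mem_centralizerIn.1 hc).2 t ht, mul_inv_cancel_right]
    exact hc
  rw [← SetLike.mem_coe, Subgroup.coe_mul_of_left_le_normalizer_right _ _ hTC] at ha hb
  obtain ⟨t, ht, c, hc, rfl⟩ := ha
  obtain ⟨u, hu, d, hd, rfl⟩ := hb
  have e1 : t * c = c * t := (mem_centralizerIn.1 hc).2 t ht
  have e2 : u * d = d * u := (mem_centralizerIn.1 hd).2 u hu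
  have e3 : u * c = c * u := (mem_centralizerIn.1 hc).2 u hu
  have e4 : t * d = d * t := (mem_centralizerIn.1 hd).2 t ht
  have h1 : c * d * c⁻¹ * d⁻¹ ∈ T := by
    rw [show c * d * c⁻¹ * d⁻¹ = c⁻¹⁻¹ * (d * c⁻¹ * d⁻¹) by group]
    exact key c⁻¹ (Subgroup.inv_mem _ hc) d hd
  have h2 : t * u * t⁻¹ * u⁻¹ ∈ T := mul_mem (mul_mem (mul_mem ht hu) (T.inv_mem ht)) (T.inv_mem hu)
  have hc' : Commute t c := e1
  have h3 : ⁅t * c, u * d⁆ = t * u * t⁻¹ * u⁻¹ * (c * d * c⁻¹ * d⁻¹) := by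
    rw [commutatorElement_def]
    have k1 : Commute u c := e3
    have k2 : Commute t d := e4
    have k3 : Commute u d := e2
    calc t * c * (u * d) * (t * c)⁻¹ * (u * d)⁻¹
        = t * (c * u) * d * (c⁻¹ * t⁻¹) * (d⁻¹ * u⁻¹) := by group
      _ = t * (u * c) * d * (c⁻¹ * t⁻¹) * (d⁻¹ * u⁻¹) := by rw [e3]
      _ = t * u * (c * d * c⁻¹) * (t⁻¹ * d⁻¹) * u⁻¹ := by group
      _ = t * u * (c * d * c⁻¹) * (d⁻¹ * t⁻¹) * u⁻¹ := by
          rw [(k2.inv_left.inv_right).eq]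
      _ = t * u * ((c * d * c⁻¹ * d⁻¹) * t⁻¹ * u⁻¹) := by group
      _ = t * u * (t⁻¹ * u⁻¹ * (c * d * c⁻¹ * d⁻¹)) := by
          have hk : Commute (c * d * c⁻¹ * d⁻¹) (t⁻¹ * u⁻¹) := by
            have a1 : Commute c (t⁻¹ * u⁻¹) := (hc'.symm.inv_right).mul_right (k1.symm.inv_right)
            have a2 : Commute d (t⁻¹ * u⁻¹) := (k2.symm.inv_right).mul_right (k3.symm.inv_right)
            exact ((a1.mul_left a2).mul_left a1.inv_left).mul_left a2.inv_left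
          rw [mul_assoc (c * d * c⁻¹ * d⁻¹), hk.eq]
      _ = t * u * t⁻¹ * u⁻¹ * (c * d * c⁻¹ * d⁻¹) := by group
  show ⁅t * c, u * d⁆ ∈ T
  rw [h3]
  exact mul_mem h2 h1

end CfsgLib.Fusion
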