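import Cfsg.Agent.Lib.Fusion.RankThreeTransvection
import Cfsg.Agent.Lib.Fusion.RankThreeAutomizer

/-!
# Reductions for three-generated essential subgroups

Elementary sections in subgroups and quotients; passing to the core-free case; and, when the action on
`E / Φ(E)` is regular, `Φ(E)` is generated by `[E, Φ(E)]` and the `p`th powers.
-/

set_option autoImplicit false

namespace CfsgLib.Fusion.RankThree

open Cfsg Subgroup
open scoped commutatorElement

variable {p : ℕ}

/-- Elementary sections have order at most `p³`. -/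
def SecLE (p : ℕ) (G : Type*) [Group G] : Prop :=
  ∀ A B : Subgroup G, B ≤ A → (∀ a ∈ A, ∀ b ∈ B, a * b * a⁻¹ ∈ B) →
    (∀ a ∈ A, ∀ b ∈ A, ⁅a, b⁆ ∈ B) → (∀ a ∈ A, a ^ p ∈ B) → Nat.card A ≤ p ^ 3 * Nat.card B

theorem secLE_of_sectional {G : Type*} [Group G] (h : SectionalPRankLE p 3 G) : SecLE p G := by
  intro A B hBA hn hc hp
  haveI : (B.subgroupOf A).Normal := ⟨fun b hb a => hn a a.2 b hb⟩
  have hcomm : IsMulCommutative (⊤ : Subgroup (A ⧸ B.subgroupOf A)) := ⟨⟨fun u v => by
    obtain ⟨a, ha⟩ := QuotientGroup.mk'_surjective (B.subgroupOf A) u.1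
    obtain ⟨b, hb⟩ := QuotientGroup.mk'_surjective (B.subgroupOf A) v.1
    refine Subtype.ext ?_
    show u.1 * v.1 = v.1 * u.1
    rw [← ha, ← hb, ← commutatorElement_eq_one_iff_mul_comm, ← map_commutatorElement]
    exact (QuotientGroup.eq_one_iff _).2 (hc a a.2 b b.2)⟩⟩
  have h1 := h A (B.subgroupOf A) ⊤ hcomm fun a _ => by
    obtain ⟨a, rfl⟩ := QuotientGroup.mk'_surjective (B.subgroupOf A) a
    rw [← map_pow]
    exact (QuotientGroup.eq_one_iff _).2 (hp a a.2)
  rw [Subgroup.card_top] at h1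
  rw [(B.subgroupOf A).card_eq_card_quotient_mul_card_subgroup,
    Nat.card_congr (subgroupOfEquivOfLe hBA).toEquiv]
  exact Nat.mul_le_mul_right _ h1

theorem SecLE.of_injective {G H : Type*} [Group G] [Group H] (f : G →* H) (hf : Function.Injective f)
    (h : SecLE p H) : SecLE p G := by
  intro A B hBA hn hc hp
  have h1 := h (A.map f) (B.map f) (map_mono hBA)
    (by rintro _ ⟨a, ha, rfl⟩ _ ⟨b, hb, rfl⟩; exact ⟨_, hn a ha b hb, by simp⟩)
    (by rintro _ ⟨a, ha, rfl⟩ _ ⟨b, hb, rfl⟩; exact ⟨_, hc a ha b hb, map_commutatorElement f a b⟩)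
    (by rintro _ ⟨a, ha, rfl⟩; exact ⟨_, hp a ha, map_pow f a p⟩)
  rwa [card_map_of_injective hf, card_map_of_injective hf] at h1

theorem SecLE.quotient {G : Type*} [Group G] [Finite G] (K : Subgroup G) [K.Normal] (h : SecLE p G) :
    SecLE p (G ⧸ K) := by
  intro A B hBA hn hc hp
  let f := QuotientGroup.mk' K
  have h1 := h (A.comap f) (B.comap f) (comap_mono hBA)
    (fun a ha b hb => by rw [mem_comap, map_mul, map_mul, map_inv]; exact hn _ ha _ hb)
    (fun a ha b hb => by rw [mem_comap, map_commutatorElement]; exact hc _ ha _ hb)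
    (fun a ha => by rw [mem_comap, map_pow]; exact hp _ ha)
  have hcard : ∀ W : Subgroup (G ⧸ K), Nat.card (W.comap f) = Nat.card K * Nat.card W := by
    intro W
    have h2 := relIndex_mul_relIndex ⊥ K (W.comap f) bot_le (by
      intro k hk
      rw [mem_comap, show f k = 1 from (QuotientGroup.eq_one_iff k).2 hk]
      exact one_mem _)
    rw [relIndex_bot_left, relIndex_bot_left] at h2
    have h3 : K.relIndex (W.comap f) = Nat.card W := by
      have h4 := relIndex_ker (W.comap f) f
      rw [QuotientGroup.ker_mk', map_comap_eq_self_of_surjective (QuotientGroup.mk'_surjective K)] at h4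
      exact h4
    rw [← h2, h3]
  rw [hcard, hcard, mul_left_comm] at h1
  exact Nat.le_of_mul_le_mul_left h1 Nat.card_pos

variable [hp : Fact p.Prime] {T : Type*} [Group T] [Finite T]

/-- The regular case is impossible. -/
theorem regular_contra (hT : IsPGroup p T) (hp5 : 5 ≤ p) {N E Φ : Subgroup T} (H : Regular p N E Φ)
    (hTN : N.index = p) {g : T} (hgE : ∃ e ∈ E, g * e * g⁻¹ ∉ E) : False := by
  set K := Φ.normalCore
  have hKΦ : K ≤ Φ := normalCore_le Φ
  let f := QuotientGroup.mk' K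
  have hf := QuotientGroup.mk'_surjective K
  have hKE : K ≤ E := hKΦ.trans H.hΦE
  have hmem : ∀ {W : Subgroup T}, K ≤ W → ∀ u, f u ∈ W.map f ↔ u ∈ W := fun {W} hW u => by
    rw [← mem_comap, comap_map_eq, QuotientGroup.ker_mk', sup_of_le_left hW]
  have hcard : ∀ {W : Subgroup T}, K ≤ W → Nat.card W = Nat.card K * Nat.card (W.map f) := by
    intro W hW
    have h2 := relIndex_mul_relIndex ⊥ K W bot_le hW
    rw [relIndex_bot_left, relIndex_bot_left] at h2
    rw [← h2, ← relIndex_ker W f, QuotientGroup.ker_mk']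
  have hKN : K ≤ N := hKE.trans H.hEN
  have H' : Regular p (N.map f) (E.map f) (Φ.map f) :=
    { hN := Subgroup.Normal.map H.hN f hf
      hEN := map_mono H.hEN
      hΦE := map_mono H.hΦE
      hNi := by
        have h := H.hNi
        rw [hcard hKN, hcard hKE, mul_left_comm] at h
        exact Nat.eq_of_mul_eq_mul_left Nat.card_pos h
      hEi := by
        have h := H.hEi
        rw [hcard hKE, hcard hKΦ, mul_left_comm] at h
        exact Nat.eq_of_mul_eq_mul_left Nat.card_pos h
      hΦN := by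
        rintro _ ⟨n, hn, rfl⟩ _ ⟨x, hx, rfl⟩
        exact ⟨_, H.hΦN n hn x hx, by simp⟩
      hΦc := by
        rintro _ ⟨a, ha, rfl⟩ _ ⟨b, hb, rfl⟩
        exact ⟨_, H.hΦc a ha b hb, map_commutatorElement f a b⟩
      hΦp := by
        rintro _ ⟨a, ha, rfl⟩
        exact ⟨_, H.hΦp a ha, map_pow f a p⟩
      reg := by
        obtain ⟨e, he, n, hn, h⟩ := H.reg
        refine ⟨f e, mem_map_of_mem f he, f n, mem_map_of_mem f hn, fun h' => h ?_⟩
        rwa [← map_commutatorElement, ← map_commutatorElement, hmem hKΦ] at h'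
      rank := SecLE.quotient K H.rank
      hY := fun Y hY h1 h2 => by
        rw [map_le_iff_le_comap]
        refine H.hY (Y.comap f) (fun u hu => (hmem hKΦ u).1 (hY hu)) (fun e he y hy => ?_)
          (fun e he => ?_)
        · rw [mem_comap, map_commutatorElement]
          exact h1 _ (mem_map_of_mem f he) _ (mem_map_of_mem f hy)
        · rw [mem_comap, map_pow]
          exact h2 _ (mem_map_of_mem f he) }
  refine regular_false (hT.to_quotient K) hp5 H' (g := f g) ?_ ?_ ?_
  · rw [index_map, QuotientGroup.ker_mk', sup_of_le_left hKN,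
      MonoidHom.range_eq_top.2 hf, index_top, mul_one, hTN]
  · obtain ⟨e, he, h⟩ := hgE
    refine ⟨f e, mem_map_of_mem f he, fun h' => h ?_⟩
    rwa [← map_inv, ← map_mul, ← map_mul, hmem hKE] at h'
  · intro u hu
    obtain ⟨u, rfl⟩ := hf u
    refine (QuotientGroup.eq_one_iff u).2 fun b => ?_
    have := hu (f b)
    rwa [← map_inv, ← map_mul, ← map_mul, hmem hKΦ] at this

/-- In the transvection case `Φ` is normal. -/
theorem transvect_normal (hT : IsPGroup p T) {N E Φ : Subgroup T} {e x c : T}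
    (H : Transvect p N E Φ e x c) : Φ.Normal := by
  set K := Φ.normalCore with hK
  have hKΦ : K ≤ Φ := normalCore_le Φ
  let f := QuotientGroup.mk' K
  have hf := QuotientGroup.mk'_surjective K
  have hKE : K ≤ E := hKΦ.trans H.hΦE
  have hmem : ∀ {W : Subgroup T}, K ≤ W → ∀ u, f u ∈ W.map f ↔ u ∈ W := fun {W} hW u => by
    rw [← mem_comap, comap_map_eq, QuotientGroup.ker_mk', sup_of_le_left hW]
  have H' : Transvect p (N.map f) (E.map f) (Φ.map f) (f e) (f x) (f c) :=
    { hN := Subgroup.Normal.map H.hN f hf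
      hEN := map_mono H.hEN
      hΦE := map_mono H.hΦE
      hΦN := by
        rintro _ ⟨n, hn, rfl⟩ _ ⟨u, hu, rfl⟩
        exact ⟨_, H.hΦN n hn u hu, by simp⟩
      hΦc := by
        rintro _ ⟨a, ha, rfl⟩ _ ⟨b, hb, rfl⟩
        exact ⟨_, H.hΦc a ha b hb, map_commutatorElement f a b⟩
      hΦp := by
        rintro _ ⟨a, ha, rfl⟩
        exact ⟨_, H.hΦp a ha, map_pow f a p⟩
      rank := SecLE.quotient K H.rank
      hgen := fun Y hY h1 h2 => by
        rw [map_le_iff_le_comap]
        refine H.hgen (Y.comap f) (fun u hu => (hmem hKΦ u).1 (hY hu)) (fun a ha b hb => ?_)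
          (fun a ha => ?_)
        · rw [mem_comap, map_commutatorElement]
          exact h1 _ (mem_map_of_mem f ha) _ (mem_map_of_mem f hb)
        · rw [mem_comap, map_pow]
          exact h2 _ (mem_map_of_mem f ha)
      he := mem_map_of_mem f H.he
      hc := mem_map_of_mem f H.hc
      hx := mem_map_of_mem f H.hx
      hxE := fun h => H.hxE ((hmem hKE x).1 h)
      hv := by rw [← map_commutatorElement]; exact mem_map_of_mem f H.hv
      hv1 := fun h => H.hv1 (by rwa [← map_commutatorElement, hmem hKΦ] at h)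
      hcx := by rw [← map_commutatorElement]; exact mem_map_of_mem f H.hcx
      hvx := by
        rw [← map_commutatorElement, ← map_commutatorElement]; exact mem_map_of_mem f H.hvx
      hcv := fun h => H.hcv (by
        rwa [← map_commutatorElement, ← MonoidHom.map_zpowers, ← Subgroup.map_sup,
          hmem (le_sup_of_le_right hKΦ)] at h)
      hecv := fun h => H.hecv (by
        rwa [← map_commutatorElement, ← MonoidHom.map_zpowers, ← MonoidHom.map_zpowers,
          ← Subgroup.map_sup, ← Subgroup.map_sup, hmem (le_sup_of_le_right hKΦ)] at h)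
      gen := by
        rw [H.gen, Subgroup.map_sup, MonoidHom.map_closure, Set.image_insert_eq, Set.image_pair] }
  have hbot := transvect_bot (hT.to_quotient K) H' (fun u hu => by
    obtain ⟨u, rfl⟩ := hf u
    refine (QuotientGroup.eq_one_iff u).2 fun b => ?_
    have := hu (f b)
    rwa [← map_inv, ← map_mul, ← map_mul, hmem hKΦ] at this)
  have hle : Φ ≤ K := fun u hu => (QuotientGroup.eq_one_iff u).1
    (mem_bot.1 (hbot ▸ mem_map_of_mem f hu))
  rw [le_antisymm hle hKΦ]
  exact normalCore_normal Φ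

section Radical

open Cfsg.FusionSystem

variable {Ω : Type*} [Group Ω] {S : Subgroup Ω} [Finite S] {F : FusionSystem S} {E : Subgroup Ω}

omit hp in
/-- Commutators with central values are bilinear. -/
theorem comm_mul_central {G : Type*} [Group G] {a b c : G} (h1 : ⁅a, c⁆ ∈ center G)
    (h2 : ⁅b, c⁆ ∈ center G) : ⁅a * b, c⁆ = ⁅a, c⁆ * ⁅b, c⁆ := by
  have e : ⁅a * b, c⁆ = a * ⁅b, c⁆ * a⁻¹ * ⁅a, c⁆ := by
    simp only [commutatorElement_def]; group
  rw [e, mem_center_iff.1 h2 a, mul_inv_cancel_right, mem_center_iff.1 h1]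

set_option maxHeartbeats 1600000 in
/-- In the regular case `Φ(E) = [E, Φ(E)] ℧(E)`. -/
theorem frattini_eq_of_regular (hS : IsPGroup p S) (hsr : SectionalPRankLE p 3 ↥S)
    (hF : F.IsSaturated p) (hE : F.IsEssential p E) (hp2 : p ≠ 2)
    (hrk : (frattini E).index = p ^ 3) (g : normalizerIn S E) (e : E)
    (hreg : (conjAut g e * e⁻¹)⁻¹ * conjAut g (conjAut g e * e⁻¹) ∉ frattini E) :
    frattini E ≤ closure ({u : E | ∃ a b : E, b ∈ frattini E ∧ u = ⁅a, b⁆} ∪
      {u | ∃ a : E, u = a ^ p}) := by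
  classical
  have hp' := hp.out
  have hES := hE.1.1
  have := finite_le hES
  have hEp : IsPGroup p E := hS.to_le hES
  set Y := closure ({u : E | ∃ a b : E, b ∈ frattini E ∧ u = ⁅a, b⁆} ∪
    {u | ∃ a : E, u = a ^ p}) with hY
  have hΦi : ∀ σ : MulAut E, ∀ u ∈ frattini E, σ u ∈ frattini E := fun σ u hu =>
    (Subgroup.characteristic_iff_map_eq.1 (inferInstance : (frattini E).Characteristic) σ).le
      ⟨u, hu, rfl⟩
  have hYi : ∀ σ : MulAut E, ∀ u ∈ Y, σ u ∈ Y := by
    intro σ u hu
    induction hu using closure_induction with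
    | mem u hu =>
      refine subset_closure ?_
      rcases hu with ⟨a, b, hb, rfl⟩ | ⟨a, rfl⟩
      · exact Or.inl ⟨σ a, σ b, hΦi σ b hb, map_commutatorElement σ a b⟩
      · exact Or.inr ⟨σ a, map_pow σ a p⟩
    | one => rw [map_one]; exact one_mem _
    | mul a b _ _ iha ihb => rw [map_mul]; exact Y.mul_mem iha ihb
    | inv a _ iha => rw [map_inv]; exact inv_mem iha
  haveI hYn : Y.Normal := ⟨fun u hu a => hYi (MulAut.conj a) u hu⟩
  have hYΦ : Y ≤ frattini E := by
    rw [hY, closure_le]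
    rintro u (⟨a, b, -, rfl⟩ | ⟨a, rfl⟩)
    · exact PGroups.commutator_le_frattini' hEp (commutator_mem_commutator (mem_top a) (mem_top b))
    · exact PGroups.pow_mem_frattini hEp a
  by_contra hne
  let π := QuotientGroup.mk' Y
  have hπs := QuotientGroup.mk'_surjective Y
  set W := (frattini E).map π with hW
  have hWne : W ≠ ⊥ := fun h => hne fun u hu => (QuotientGroup.eq_one_iff u).1
    (mem_bot.1 (h ▸ mem_map_of_mem π hu))
  have hexp : ∀ q : E ⧸ Y, q ^ p = 1 := fun q => by
    obtain ⟨a, rfl⟩ := hπs q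
    rw [← map_pow]
    exact (QuotientGroup.eq_one_iff _).2 (subset_closure (Or.inr ⟨a, rfl⟩))
  have hWc : W ≤ center (E ⧸ Y) := by
    rintro _ ⟨b, hb, rfl⟩
    refine mem_center_iff.2 fun q => ?_
    obtain ⟨a, rfl⟩ := hπs q
    rw [← commutatorElement_eq_one_iff_mul_comm, ← map_commutatorElement]
    exact (QuotientGroup.eq_one_iff _).2 (subset_closure (Or.inl ⟨a, b, hb, rfl⟩))
  have hcommW : ∀ q r : E ⧸ Y, ⁅q, r⁆ ∈ W := fun q r => by
    obtain ⟨a, rfl⟩ := hπs q
    obtain ⟨b, rfl⟩ := hπs r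
    rw [← map_commutatorElement]
    exact mem_map_of_mem π (PGroups.commutator_le_frattini' hEp
      (commutator_mem_commutator (mem_top a) (mem_top b)))
  have hbil : ∀ q r s : E ⧸ Y, ⁅q * r, s⁆ = ⁅q, s⁆ * ⁅r, s⁆ := fun q r s =>
    comm_mul_central (hWc (hcommW q s)) (hWc (hcommW r s))
  have hbil' : ∀ q r s : E ⧸ Y, ⁅q, r * s⁆ = ⁅q, r⁆ * ⁅q, s⁆ := fun q r s => by
    rw [← commutatorElement_inv, hbil, mul_inv_rev, commutatorElement_inv, commutatorElement_inv]
    exact mem_center_iff.1 (hWc (hcommW q r)) _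
  have hWW : ∀ w ∈ W, ∀ q : E ⧸ Y, ⁅w, q⁆ = (1 : E ⧸ Y) ∧ ⁅q, w⁆ = (1 : E ⧸ Y) := fun w hw q => by
    refine ⟨?_, ?_⟩ <;> rw [commutatorElement_eq_one_iff_mul_comm]
    · exact (mem_center_iff.1 (hWc hw) q).symm
    · exact mem_center_iff.1 (hWc hw) q
  -- the automorphism on the Frattini quotient
  obtain ⟨k, hk⟩ := conjAut_pow_eq_one hS g
  set σ := conjAut g with hσdef
  letI : CommGroup (E ⧸ frattini E) :=
    { (inferInstance : Group (E ⧸ frattini E)) with mul_comm := quot_comm hEp }
  set s := frattiniAut E σ with hsdef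
  have hs : ∀ u : E, s (QuotientGroup.mk' _ u) = QuotientGroup.mk' _ (σ u) := fun u => rfl
  have hVc : Nat.card (E ⧸ frattini E) = p ^ 3 := hrk
  let φ : (E ⧸ frattini E) →* (E ⧸ frattini E) :=
    { toFun := fun v => s v * v⁻¹
      map_one' := by simp
      map_mul' := fun u v => by rw [map_mul, mul_inv, mul_mul_mul_comm] }
  have hsk : s ^ p ^ k = 1 := by rw [hsdef, ← map_pow, hk, map_one]
  have hdrop : ∀ H : Subgroup (E ⧸ frattini E), (∀ v ∈ H, s v ∈ H) → H ≠ ⊥ →
      H.map φ < H := by
    intro H hH hne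
    have hle : H.map φ ≤ H := by
      rintro _ ⟨v, hv, rfl⟩
      exact H.mul_mem (hH v hv) (inv_mem hv)
    refine lt_of_le_of_ne hle fun heq => ?_
    -- a nontrivial fixed point
    have hP : IsPGroup p (zpowers s) := fun z => ⟨k, by
      obtain ⟨i, hi⟩ := mem_zpowers_iff.1 z.2
      refine Subtype.ext ?_
      rw [SubgroupClass.coe_pow, ← hi, coe_one, ← zpow_natCast, ← zpow_mul, mul_comm, zpow_mul,
        zpow_natCast, hsk, one_zpow]⟩
    have hiter : ∀ (z : zpowers s) (v : H), (z : MulAut (E ⧸ frattini E)) v ∈ H := by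
      intro z v
      obtain ⟨i, hi⟩ := mem_powers_iff_mem_zpowers.2 z.2
      rw [← hi]
      clear hi
      induction i with
      | zero => exact v.2
      | succ i ih => show (s ^ (i + 1)) (v : E ⧸ frattini E) ∈ H; rw [pow_succ', MulAut.mul_apply]; exact hH _ ih
    letI : MulAction (zpowers s) H :=
      { smul := fun z v => ⟨(z : MulAut (E ⧸ frattini E)) v, hiter z v⟩
        one_smul := fun v => rfl
        mul_smul := fun a b v => rfl }
    have hdvd : p ∣ Nat.card H := by
      obtain ⟨i, -, hi⟩ := (Nat.dvd_prime_pow hp').1 (hVc ▸ card_subgroup_dvd_card H)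
      rcases i with _ | i
      · exact absurd (eq_bot_of_card_eq H (by rw [hi, pow_zero])) hne
      · exact hi ▸ dvd_pow_self p (Nat.succ_ne_zero i)
    obtain ⟨a, ha, hane⟩ := hP.exists_fixed_point_of_prime_dvd_card_of_fixed_point H hdvd (a := 1)
      (fun z => Subtype.ext (map_one (z : MulAut (E ⧸ frattini E))))
    have ha' : s a = a := congrArg Subtype.val (ha ⟨s, mem_zpowers s⟩)
    let ψ : H → H.map φ := fun v => ⟨φ v, mem_map_of_mem φ v.2⟩
    have hψ : Function.Surjective ψ := by
      rintro ⟨_, v, hv, rfl⟩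
      exact ⟨⟨v, hv⟩, rfl⟩
    have hbij := hψ.bijective_of_nat_card_le (by rw [heq])
    refine hane (hbij.1 (Subtype.ext ?_))
    show φ ((1 : H) : E ⧸ frattini E) = φ a
    rw [OneMemClass.coe_one, map_one]
    show 1 = s a * (a : E ⧸ frattini E)⁻¹
    rw [ha', mul_inv_cancel]
  set I1 := (⊤ : Subgroup (E ⧸ frattini E)).map φ with hI1
  set I2 := I1.map φ with hI2
  have hsφ : ∀ v, s (φ v) = φ (s v) := fun v => by
    show s (s v * v⁻¹) = s (s v) * (s v)⁻¹
    rw [map_mul, map_inv]
  have hinv : ∀ H : Subgroup (E ⧸ frattini E), (∀ v ∈ H, s v ∈ H) → ∀ v ∈ H.map φ, s v ∈ H.map φ := by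
    rintro H hH _ ⟨v, hv, rfl⟩
    exact ⟨s v, hH v hv, (hsφ v).symm⟩
  have i1 := hinv ⊤ fun v _ => mem_top _
  have i2 := hinv I1 i1
  set ε := QuotientGroup.mk' (frattini E) e with hεdef
  have hφφ : φ (φ ε) ≠ 1 := by
    intro h
    refine hreg ?_
    have h2 : QuotientGroup.mk' (frattini E) (σ (σ e * e⁻¹)) *
        (QuotientGroup.mk' (frattini E) (σ e * e⁻¹))⁻¹ = 1 := by
      rw [← hs, map_mul, map_inv, ← hs]
      exact h
    rw [mul_comm, ← map_inv, ← map_mul] at h2
    exact (QuotientGroup.eq_one_iff _).1 h2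
  have hI2ne : I2 ≠ ⊥ := fun h => hφφ (mem_bot.1 (h ▸ mem_map_of_mem φ (mem_map_of_mem φ (mem_top ε))))
  have hI1ne : I1 ≠ ⊥ := fun h => hI2ne (by rw [hI2, h, Subgroup.map_bot])
  have htopne : (⊤ : Subgroup (E ⧸ frattini E)) ≠ ⊥ := fun h => hI1ne (by rw [hI1, h, Subgroup.map_bot])
  have l1 := hdrop ⊤ (fun v _ => mem_top _) htopne
  have l2 := hdrop I1 i1 hI1ne
  have l3 := hdrop I2 i2 hI2ne
  have hlt : ∀ {H K : Subgroup (E ⧸ frattini E)}, H < K → p * Nat.card H ≤ Nat.card K := by
    intro H K hHK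
    have h1 : Nat.card H < Nat.card K := lt_of_le_of_ne (card_le_of_le hHK.le) fun e =>
      hHK.ne (eq_of_le_of_card_ge hHK.le e.ge)
    obtain ⟨i, -, hi⟩ := (Nat.dvd_prime_pow hp').1 (hVc ▸ card_subgroup_dvd_card H)
    obtain ⟨j, -, hj⟩ := (Nat.dvd_prime_pow hp').1 (hVc ▸ card_subgroup_dvd_card K)
    rw [hi, hj] at h1 ⊢
    rw [← pow_succ']
    exact Nat.pow_le_pow_right hp'.pos ((Nat.pow_lt_pow_iff_right hp'.one_lt).1 h1)
  have c1 : p * Nat.card I1 ≤ p ^ 3 := (hlt l1).trans_eq (by rw [card_top, hVc])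
  have c2 : p * Nat.card I2 ≤ Nat.card I1 := hlt l2
  have c3 : p * Nat.card (I2.map φ) ≤ Nat.card I2 := hlt l3
  have hI2c : Nat.card I2 ≤ p := by
    have : p * (p * Nat.card I2) ≤ p * (p * p) := (Nat.mul_le_mul_left p c2).trans (by
      rw [← pow_two, ← pow_succ']; exact c1)
    exact Nat.le_of_mul_le_mul_left (Nat.le_of_mul_le_mul_left this hp'.pos) hp'.pos
  have hI3 : φ (φ (φ ε)) = 1 := by
    have h1 : I2.map φ = ⊥ := eq_bot_of_card_le _ (Nat.le_of_mul_le_mul_left
      (by rw [mul_one]; exact c3.trans hI2c) hp'.pos)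
    exact mem_bot.1 (h1 ▸ mem_map_of_mem φ (mem_map_of_mem φ (mem_map_of_mem φ (mem_top ε))))
  have hεI1 : ε ∉ I1 := by
    rintro ⟨w, -, hw⟩
    refine hφφ ?_
    rw [← hw]
    have h1 : I2.map φ = ⊥ := eq_bot_of_card_le _ (Nat.le_of_mul_le_mul_left
      (by rw [mul_one]; exact c3.trans hI2c) hp'.pos)
    exact mem_bot.1 (h1 ▸ mem_map_of_mem φ (mem_map_of_mem φ (mem_map_of_mem φ (mem_top w))))
  -- lifts
  set c := σ e * e⁻¹ with hcdef
  set d := σ c * c⁻¹ with hddef
  have hφε : φ ε = QuotientGroup.mk' (frattini E) c := by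
    show s ε * ε⁻¹ = _
    rw [hεdef, hs, hcdef, map_mul, map_inv]
  have hφc : φ (φ ε) = QuotientGroup.mk' (frattini E) d := by
    rw [hφε]
    show s _ * _⁻¹ = _
    rw [hs, hddef, map_mul _ (σ c), map_inv]
  have hdΦ : d ∉ frattini E := fun h => hφφ (by rw [hφc]; exact (QuotientGroup.eq_one_iff d).2 h)
  have hdfix : σ d * d⁻¹ ∈ frattini E := by
    have h : s (QuotientGroup.mk' (frattini E) d) * (QuotientGroup.mk' (frattini E) d)⁻¹ = 1 := by
      rw [← hφc]; exact hI3
    rw [hs, ← map_inv, ← map_mul] at h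
    exact (QuotientGroup.eq_one_iff _).1 h
  have hgen : closure ({e, c, d} : Set E) = ⊤ := by
    refine PGroups.closure_eq_top_of_sup_frattini ?_
    rw [eq_top_iff]
    intro u _
    have hmem : QuotientGroup.mk' (frattini E) u ∈ zpowers ε ⊔ zpowers (φ ε) ⊔ zpowers (φ (φ ε)) := by
      have hH : zpowers ε ⊔ zpowers (φ ε) ⊔ zpowers (φ (φ ε)) = ⊤ := by
        have hI2eq : zpowers (φ (φ ε)) = I2 := eq_of_le_of_card_ge
          (zpowers_le.2 (mem_map_of_mem φ (mem_map_of_mem φ (mem_top ε))))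
          (by rw [Nat.card_zpowers, orderOf_eq_prime (quot_pow hEp _) hφφ]; exact hI2c)
        have e1 : φ ε ∉ I2 := fun h => by
          obtain ⟨i, hi⟩ := mem_zpowers_iff.1 (hI2eq ▸ h)
          refine hφφ ?_
          rw [← hi, map_zpow, hI3, one_zpow]
        have hI1eq : zpowers (φ ε) ⊔ zpowers (φ (φ ε)) = I1 := by
          have hle : zpowers (φ ε) ⊔ zpowers (φ (φ ε)) ≤ I1 := by
            rw [hI2eq]
            exact sup_le (zpowers_le.2 (mem_map_of_mem φ (mem_top ε))) l2.le
          refine eq_of_le_of_card_ge hle ?_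
          have h1 := hlt (lt_of_le_of_ne (le_sup_right : I2 ≤ zpowers (φ ε) ⊔ I2) fun h =>
            e1 (h ▸ mem_sup_left (mem_zpowers _)))
          rw [← hI2eq] at h1
          refine le_trans ?_ h1
          rw [Nat.card_zpowers, orderOf_eq_prime (quot_pow hEp _) hφφ]
          refine Nat.le_of_mul_le_mul_left ?_ hp'.pos
          exact c1.trans (by rw [pow_succ', pow_two])
        rw [sup_assoc, hI1eq]
        refine eq_top_of_le_card _ ?_
        have h2 := hlt (lt_of_le_of_ne (le_sup_right : I1 ≤ zpowers ε ⊔ I1) fun h =>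
          hεI1 (h ▸ mem_sup_left (mem_zpowers ε)))
        rw [hVc]
        refine le_trans ?_ h2
        have h3 : p * p ≤ Nat.card I1 := le_trans (Nat.mul_le_mul_left p (by
          rw [← orderOf_eq_prime (quot_pow hEp _) hφφ, ← Nat.card_zpowers, hI2eq])) c2
        rw [pow_succ', pow_two]
        exact Nat.mul_le_mul_left p h3
      rw [hH]; trivial
    have hle : zpowers ε ⊔ zpowers (φ ε) ⊔ zpowers (φ (φ ε)) ≤
        (closure ({e, c, d} : Set E)).map (QuotientGroup.mk' (frattini E)) := by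
      rw [hφc, hφε, hεdef, ← MonoidHom.map_zpowers, ← MonoidHom.map_zpowers, ← MonoidHom.map_zpowers,
        ← Subgroup.map_sup, ← Subgroup.map_sup]
      exact map_mono (sup_le (sup_le (zpowers_le.2 (subset_closure (by simp)))
        (zpowers_le.2 (subset_closure (by simp)))) (zpowers_le.2 (subset_closure (by simp))))
    obtain ⟨w, hw, hwu⟩ := hle hmem
    have h1 := QuotientGroup.eq.1 hwu
    have h2 := Subgroup.mul_mem_sup hw h1
    rwa [mul_inv_cancel_left] at h2
  -- in the quotient by `Y`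
  set e' := π e with he'
  set c' := π c with hc'
  set d' := π d with hd'
  have hgenQ : closure ({e', c', d'} : Set (E ⧸ Y)) = ⊤ := by
    have h := congrArg (Subgroup.map π) hgen
    rw [MonoidHom.map_closure, Set.image_insert_eq, Set.image_pair,
      Subgroup.map_top_of_surjective _ hπs] at h
    exact h
  set b₁ := ⁅c', e'⁆ with hb₁
  set b₂ := ⁅d', e'⁆ with hb₂
  set b₃ := ⁅d', c'⁆ with hb₃
  have hYe : Y.map σ.toMonoidHom = Y := eq_of_le_of_card_ge
    (fun u ⟨w, hw, e⟩ => e ▸ hYi σ w hw) (card_map_of_injective σ.injective).ge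
  set τ : MulAut (E ⧸ Y) := QuotientGroup.congr Y Y σ hYe with hτdef
  have hτ : ∀ u, τ (π u) = π (σ u) := fun u => rfl
  have hτe : τ e' = c' * e' := by rw [he', hτ, hc', ← map_mul, hcdef, inv_mul_cancel_right]
  have hτc : τ c' = d' * c' := by rw [hc', hτ, hd', ← map_mul, hddef, inv_mul_cancel_right]
  obtain ⟨wd, hwd, hτd⟩ : ∃ w ∈ W, τ d' = w * d' :=
    ⟨π (σ d * d⁻¹), mem_map_of_mem π hdfix, by rw [hd', hτ, ← map_mul, inv_mul_cancel_right]⟩
  have hτW : ∀ w ∈ W, τ w ∈ W := by
    rintro _ ⟨u, hu, rfl⟩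
    exact ⟨σ u, hΦi σ u hu, rfl⟩
  have hτk : τ ^ p ^ k = 1 := by
    have : ∀ (n : ℕ) u, (τ ^ n) (π u) = π ((σ ^ n) u) := by
      intro n
      induction n with
      | zero => intro u; rfl
      | succ n ih => intro u; rw [pow_succ, pow_succ, MulAut.mul_apply, MulAut.mul_apply, hτ, ih]
    refine MulEquiv.ext fun q => ?_
    obtain ⟨u, rfl⟩ := hπs q
    rw [this, hk]; rfl
  have hτb₃ : τ b₃ = b₃ := by
    rw [hb₃, map_commutatorElement, hτd, hτc, hbil, (hWW wd hwd _).1, one_mul, hbil',
      commutatorElement_self, one_mul]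
  have hτb₂ : τ b₂ = b₃ * b₂ := by
    rw [hb₂, map_commutatorElement, hτd, hτe, hbil, (hWW wd hwd _).1, one_mul, hbil']
  have hτb₁ : τ b₁ = b₃ * b₂ * b₁ := by
    rw [hb₁, map_commutatorElement, hτc, hτe, hbil, hbil', hbil', commutatorElement_self, one_mul]
  have hsec : SecLE p (E ⧸ Y) :=
    SecLE.quotient Y ((secLE_of_sectional hsr).of_injective (inclusion hES) (inclusion_injective hES))
  -- an elementary abelian section
  have hsection : ∀ A : Subgroup (E ⧸ Y), (∀ a ∈ A, ∀ b ∈ A, a * b = b * a) → Nat.card A ≤ p ^ 3 := by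
    intro A hA
    refine (hsec A ⊥ bot_le (fun a _ b hb => by rw [mem_bot] at hb; simp [hb])
      (fun a ha b hb => by rw [mem_bot, commutatorElement_eq_one_iff_mul_comm]; exact hA a ha b hb)
      (fun a _ => by rw [mem_bot]; exact hexp a)).trans (by rw [card_bot, mul_one])
  have hWnormal : W.Normal := Subgroup.Normal.map inferInstance π hπs
  have hnotW : ∀ u : E, u ∉ frattini E → π u ∉ W := fun u hu h => by
    obtain ⟨w, hw, hwu⟩ := h
    have h1 := (frattini E).mul_mem hw (hYΦ (QuotientGroup.eq.1 hwu))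
    rw [mul_inv_cancel_left] at h1
    exact hu h1
  have hcΦ : c ∉ frattini E := fun h => hdΦ
    ((frattini E).mul_mem (hΦi σ c h) (inv_mem h))
  have heΦ : e ∉ frattini E := fun h => hcΦ ((frattini E).mul_mem (hΦi σ e h) (inv_mem h))
  have hWcomm : ∀ a : E ⧸ Y, ∀ u ∈ W ⊔ zpowers a, ∀ v ∈ W ⊔ zpowers a, u * v = v * u := by
    intro a
    have hle : W ⊔ zpowers a ≤ centralizer (W ⊔ zpowers a : Subgroup (E ⧸ Y)) := by
      refine sup_le (hWc.trans (center_le_centralizer _)) (zpowers_le.2 ?_)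
      refine mem_centralizer_iff.2 fun u hu => ?_
      obtain ⟨w, hw, y, hy, rfl⟩ := mem_sup_of_normal_left.1 hu
      obtain ⟨i, rfl⟩ := mem_zpowers_iff.1 hy
      exact ((show Commute w a from (mem_center_iff.1 (hWc hw) a).symm).mul_left
        ((Commute.refl a).zpow_left i)).eq
    exact fun u hu v hv => (mem_centralizer_iff.1 (hle hv) u hu)
  by_cases h3 : b₃ = 1
  · -- `W` has order `p`, so `b₂ = 1` and the centre gives an invariant line
    have hWp : Nat.card W ≤ p := by
      set A := W ⊔ zpowers c' ⊔ zpowers d' with hA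
      have hAc : ∀ a ∈ A, ∀ b ∈ A, a * b = b * a := by
        have hgenA : A ≤ centralizer (A : Set (E ⧸ Y)) := by
          have hcd : c' * d' = d' * c' :=
            (commutatorElement_eq_one_iff_mul_comm.1 h3).symm
          have hstep : ∀ a, (∀ w ∈ W, Commute w a) → Commute c' a → Commute d' a →
              a ∈ centralizer (A : Set (E ⧸ Y)) := by
            intro a h1 h2 h3
            refine mem_centralizer_iff.2 ?_
            have hle : A ≤ centralizer ({a} : Set (E ⧸ Y)) :=
              sup_le (sup_le (fun w hw => mem_centralizer_singleton_iff.2 (h1 w hw).eq)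
                (zpowers_le.2 (mem_centralizer_singleton_iff.2 h2.eq)))
                (zpowers_le.2 (mem_centralizer_singleton_iff.2 h3.eq))
            exact fun u hu => mem_centralizer_singleton_iff.1 (hle hu)
          have hwW : ∀ w ∈ W, ∀ a, Commute w a := fun w hw a => (mem_center_iff.1 (hWc hw) a).symm
          refine sup_le (sup_le (fun w hw => hstep w (fun u hu => hwW u hu w) (hwW w hw c').symm
            (hwW w hw d').symm) (zpowers_le.2 ?_)) (zpowers_le.2 ?_)
          · exact hstep c' (fun u hu => hwW u hu c') (Commute.refl c') hcd.symm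
          · exact hstep d' (fun u hu => hwW u hu d') hcd (Commute.refl d')
        exact fun a ha b hb => mem_centralizer_iff.1 (hgenA hb) a ha
      have h := hsection A hAc
      have e1 : Nat.card (W ⊔ zpowers c' : Subgroup (E ⧸ Y)) = p * Nat.card W :=
        card_sup_zpowers hWnormal (hnotW c hcΦ) (by rw [hexp]; exact one_mem _)
      haveI hWcn : (W ⊔ zpowers c').Normal := by
        refine ⟨fun u hu a => ?_⟩
        have h1 : a * u * a⁻¹ = ⁅a, u⁆ * u := by rw [commutatorElement_def]; group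
        rw [h1]
        exact (W ⊔ zpowers c').mul_mem (mem_sup_left (hcommW a u)) hu
      have e2 : Nat.card A = p * (p * Nat.card W) := by
        rw [hA, ← e1]
        refine card_sup_zpowers hWcn ?_ (by rw [hexp]; exact one_mem _)
        intro hd
        obtain ⟨w, hw, y, hy, hwy⟩ := mem_sup_of_normal_left.1 hd
        obtain ⟨i, rfl⟩ := mem_zpowers_iff.1 hy
        obtain ⟨u, hu, rfl⟩ := hw
        rw [hc', ← map_zpow, ← map_mul, hd'] at hwy
        have h1 := hYΦ (QuotientGroup.eq.1 hwy)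
        -- `d ≡ c ^ i` on the Frattini quotient
        have h2 : φ (φ ε) = φ ε ^ i := by
          rw [hφc, hφε, ← map_zpow]
          refine (QuotientGroup.eq.2 ?_).symm
          have h3 : (c ^ i)⁻¹ * d = ((c ^ i)⁻¹ * u * c ^ i) * ((u * c ^ i)⁻¹ * d) := by group
          rw [h3]
          refine (frattini E).mul_mem ?_ h1
          have := (inferInstance : (frattini E).Normal).conj_mem u hu (c ^ i)⁻¹
          rwa [inv_inv] at this
        have h3 := congrArg φ h2
        rw [hI3, map_zpow] at h3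
        have h4 : φ ε ^ i = 1 := by
          have h5 : (p : ℤ) ∣ i := by
            rw [← orderOf_eq_prime (quot_pow hEp _) hφφ]
            exact orderOf_dvd_iff_zpow_eq_one.2 h3.symm
          obtain ⟨q, rfl⟩ := h5
          rw [zpow_mul, zpow_natCast, quot_pow hEp, one_zpow]
        exact hφφ (h2.trans h4)
      rw [e2] at h
      refine Nat.le_of_mul_le_mul_left (Nat.le_of_mul_le_mul_left ?_ hp'.pos) hp'.pos
      exact h.trans (by rw [pow_succ', pow_two])
    have hfixW : ∀ w ∈ W, τ w = w := by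
      intro w hw
      obtain ⟨i, hi⟩ := IsPGroup.iff_card.1 ((hEp.to_quotient Y).to_subgroup W)
      have hi1 : i = 1 := by
        rcases i with _ | i
        · exact absurd (eq_bot_of_card_eq W (by rw [hi, pow_zero])) hWne
        · rw [hi] at hWp
          have := (Nat.pow_le_pow_iff_right hp'.one_lt).1 (hWp.trans (pow_one p).ge)
          omega
      have h := TransvAut.fix_section (D := (⊥ : Subgroup (E ⧸ Y))) (T := W) bot_le
        (by rw [hi, hi1, pow_one, card_bot, mul_one]) (σ := τ) hτW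
        (fun u hu => by rw [mem_bot] at hu ⊢; rw [hu, map_one]) hτk hw
      exact (inv_mul_eq_one.1 (mem_bot.1 h)).symm
    have hb₂1 : b₂ = 1 := by
      have h := hfixW b₁ (hcommW c' e')
      rw [hτb₁, h3, one_mul, mul_eq_right] at h
      exact h
    -- `b₁ ≠ 1`
    have hgenc : ∀ u : E ⧸ Y, Commute u e' → Commute u c' → Commute u d' → u ∈ center (E ⧸ Y) := by
      intro u h1 h2 h3
      have hle : closure ({e', c', d'} : Set (E ⧸ Y)) ≤ centralizer ({u} : Set (E ⧸ Y)) := by
        rw [closure_le]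
        rintro a (rfl | rfl | rfl) <;> refine mem_centralizer_singleton_iff.2 ?_
        exacts [h1.symm.eq, h2.symm.eq, h3.symm.eq]
      rw [hgenQ] at hle
      exact mem_center_iff.2 fun a => mem_centralizer_singleton_iff.1 (hle (mem_top a))
    have cd : Commute d' e' := commutatorElement_eq_one_iff_mul_comm.1 hb₂1
    have cdc : Commute d' c' := commutatorElement_eq_one_iff_mul_comm.1 h3
    have hb₁1 : b₁ ≠ 1 := by
      intro hb
      have cce : Commute c' e' := commutatorElement_eq_one_iff_mul_comm.1 hb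
      have hall : ∀ u : E ⧸ Y, u ∈ center (E ⧸ Y) := by
        intro u
        have hle : closure ({e', c', d'} : Set (E ⧸ Y)) ≤ center (E ⧸ Y) := by
          rw [closure_le]
          rintro a (rfl | rfl | rfl)
          · exact hgenc _ (Commute.refl _) cce.symm cd.symm
          · exact hgenc _ cce (Commute.refl _) cdc.symm
          · exact hgenc _ cd cdc (Commute.refl _)
        exact hle (hgenQ.ge (mem_top u))
      -- then `Φ(E) ≤ Y`
      refine hne (PGroups.frattini_le_of_elementary ?_ fun a => subset_closure (Or.inr ⟨a, rfl⟩))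
      rw [_root_.commutator_def, commutator_le]
      intro a _ b _
      rw [← QuotientGroup.eq_one_iff]
      show π ⁅a, b⁆ = 1
      rw [map_commutatorElement, commutatorElement_eq_one_iff_mul_comm]
      exact (mem_center_iff.1 (hall (π b)) (π a))
    -- the invariant line
    set D := (center (E ⧸ Y)).comap π with hD
    have hdD : d ∈ D := hgenc _ cd cdc (Commute.refl _)
    have hΦD : frattini E ≤ D := fun u hu => hWc (mem_map_of_mem π hu)
    have hDdec : ∀ u ∈ D, ∃ i : ℤ, (d ^ i)⁻¹ * u ∈ frattini E := by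
      intro u hu
      haveI : (frattini E).Normal := inferInstance
      have h1 : QuotientGroup.mk' (frattini E) u ∈
          zpowers ε ⊔ zpowers (φ ε) ⊔ zpowers (φ (φ ε)) := by
        have h := congrArg (Subgroup.map (QuotientGroup.mk' (frattini E))) hgen
        rw [MonoidHom.map_closure, Set.image_insert_eq, Set.image_pair,
          Subgroup.map_top_of_surjective _ (QuotientGroup.mk'_surjective _)] at h
        have h2 := h.ge (mem_top (QuotientGroup.mk' (frattini E) u))
        refine (closure_le _).2 ?_ h2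
        rintro a (rfl | rfl | rfl)
        · exact mem_sup_left (mem_sup_left (mem_zpowers _))
        · exact mem_sup_left (mem_sup_right (hφε ▸ mem_zpowers _))
        · exact mem_sup_right (hφc ▸ mem_zpowers _)
      obtain ⟨w, hw, y, hy, hwy⟩ := mem_sup.1 h1
      obtain ⟨we, hwe, wc, hwc, rfl⟩ := mem_sup.1 hw
      obtain ⟨i, rfl⟩ := mem_zpowers_iff.1 hwe
      obtain ⟨j, rfl⟩ := mem_zpowers_iff.1 hwc
      obtain ⟨l, rfl⟩ := mem_zpowers_iff.1 hy
      rw [hφc, hφε, hεdef, ← map_zpow, ← map_zpow, ← map_zpow, ← map_mul, ← map_mul] at hwy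
      have h2 := QuotientGroup.eq.1 hwy
      obtain ⟨f, hf, hu'⟩ : ∃ f ∈ frattini E, u = e ^ i * c ^ j * d ^ l * f :=
        ⟨_, h2, by rw [mul_inv_cancel_left]⟩
      have hfW : π f ∈ W := mem_map_of_mem π hf
      have hpu : π u = e' ^ i * c' ^ j * d' ^ l * π f := by
        rw [hu', map_mul, map_mul, map_mul, map_zpow, map_zpow, map_zpow]
      have hdl : d' ^ l * π f ∈ center (E ⧸ Y) :=
        (Subgroup.center _).mul_mem ((Subgroup.center _).zpow_mem hdD l) (hWc hfW)
      have hec : e' ^ i * c' ^ j ∈ center (E ⧸ Y) := by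
        have h3 := (Subgroup.center _).mul_mem (show π u ∈ center (E ⧸ Y) from hu) (inv_mem hdl)
        rwa [hpu, mul_assoc (e' ^ i * c' ^ j), mul_inv_cancel_right] at h3
      have hzp : ∀ (a b : E ⧸ Y) (n : ℤ), ⁅a ^ n, b⁆ = ⁅a, b⁆ ^ n := fun a b n => by
        let f : E ⧸ Y →* E ⧸ Y := { toFun := fun a => ⁅a, b⁆, map_one' := commutatorElement_one_left b,
                                    map_mul' := fun q r => hbil q r b }
        exact map_zpow f a n
      have hdvd : ∀ n : ℤ, b₁ ^ n = 1 → (p : ℤ) ∣ n := fun n hn => by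
        rw [← orderOf_eq_prime (hexp b₁) hb₁1]
        exact orderOf_dvd_iff_zpow_eq_one.2 hn
      have hj : (p : ℤ) ∣ j := hdvd j (by
        have h4 : ⁅e' ^ i * c' ^ j, e'⁆ = 1 :=
          commutatorElement_eq_one_iff_mul_comm.2 (mem_center_iff.1 hec e').symm
        rwa [hbil, hzp, hzp, commutatorElement_self, one_zpow, one_mul] at h4)
      have hi : (p : ℤ) ∣ i := hdvd i (by
        have h4 : ⁅e' ^ i * c' ^ j, c'⁆ = 1 :=
          commutatorElement_eq_one_iff_mul_comm.2 (mem_center_iff.1 hec c').symm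
        rwa [hbil, hzp, hzp, commutatorElement_self, one_zpow, mul_one, ← commutatorElement_inv,
          inv_zpow, inv_eq_one] at h4)
      refine ⟨l, ?_⟩
      rw [← QuotientGroup.eq_one_iff]
      show QuotientGroup.mk' (frattini E) ((d ^ l)⁻¹ * u) = 1
      obtain ⟨q, rfl⟩ := hi
      obtain ⟨q', rfl⟩ := hj
      rw [map_mul, hu', map_mul, map_mul, map_mul, map_zpow, map_zpow, map_inv,
        show QuotientGroup.mk' (frattini E) f = 1 from (QuotientGroup.eq_one_iff f).2 hf,
        zpow_mul, zpow_mul, zpow_natCast, zpow_natCast, quot_pow hEp, quot_pow hEp, one_zpow,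
        one_zpow, one_mul, one_mul, mul_one, inv_mul_cancel]
    have hDidx : D.index = p ^ 2 := by
      have hD' : D = frattini E ⊔ zpowers d := by
        refine le_antisymm (fun u hu => ?_) (sup_le hΦD (zpowers_le.2 hdD))
        obtain ⟨i, hi⟩ := hDdec u hu
        have := mul_mem_sup hi (zpow_mem (mem_zpowers d) i)
        rw [show u = (d ^ i) * ((d ^ i)⁻¹ * u) by rw [mul_inv_cancel_left]]
        exact mul_mem (mem_sup_right (zpow_mem (mem_zpowers d) i)) (mem_sup_left hi)
      have hc := card_sup_zpowers (inferInstance : (frattini E).Normal) hdΦ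
        (PGroups.pow_mem_frattini hEp d)
      rw [← hD'] at hc
      have e1 := D.card_mul_index
      rw [hc, ← (frattini E).card_mul_index, hrk, pow_succ' p 2, mul_comm p (Nat.card (frattini E)),
        mul_assoc] at e1
      exact Nat.eq_of_mul_eq_mul_left hp'.pos (Nat.eq_of_mul_eq_mul_left Nat.card_pos e1)
    refine hreg (quadratic_of_line hS hF hE hp2 hrk hΦD hDidx (fun α u hu => ?_) g e)
    have hYα : Y.map (α : MulAut E).toMonoidHom = Y := eq_of_le_of_card_ge
      (fun w ⟨v, hv, e⟩ => e ▸ hYi _ v hv) (card_map_of_injective (α : MulAut E).injective).ge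
    exact (Subgroup.characteristic_iff_map_eq.1 (inferInstance : (center (E ⧸ Y)).Characteristic)
      (QuotientGroup.congr Y Y (α : MulAut E) hYα)).le ⟨π u, hu, rfl⟩
  · -- `W` has order at most `p²` and carries a regular element
    set A := W ⊔ zpowers e' with hA
    have hAc : Nat.card A ≤ p ^ 3 := hsection A (hWcomm e')
    rw [hA, card_sup_zpowers hWnormal (hnotW e heΦ) (by rw [hexp]; exact one_mem _)] at hAc
    have hWc2 : Nat.card W ≤ p * p :=
      Nat.le_of_mul_le_mul_left (hAc.trans (by rw [pow_succ', pow_two])) hp'.pos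
    set Z := zpowers b₃ with hZ
    have hZc : Nat.card Z = p := by rw [hZ, Nat.card_zpowers, orderOf_eq_prime (hexp b₃) h3]
    have hZW : Z ≤ W := zpowers_le.2 (hcommW d' c')
    haveI : Z.Normal := ⟨fun u hu a => by
      rw [mem_center_iff.1 (hWc (hZW hu)) a, mul_inv_cancel_right]; exact hu⟩
    have hZinv : ∀ u ∈ Z, τ u ∈ Z := fun u hu => by
      obtain ⟨i, rfl⟩ := mem_zpowers_iff.1 hu
      rw [map_zpow, hτb₃]
      exact hu
    have hmove : ∀ w ∈ W, w⁻¹ * τ w ∈ Z := by
      intro w hw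
      obtain ⟨i, hi⟩ := IsPGroup.iff_card.1 ((hEp.to_quotient Y).to_subgroup W)
      have hlei : i ≤ 2 := (Nat.pow_le_pow_iff_right hp'.one_lt).1 (by rw [← hi, pow_two]; exact hWc2)
      have hgei : 1 ≤ i := by
        have := card_le_of_le hZW
        rw [hi, hZc] at this
        exact (Nat.pow_le_pow_iff_right hp'.one_lt).1 ((pow_one p).le.trans this)
      rcases (show i = 1 ∨ i = 2 by omega) with rfl | rfl
      · have hZeq : Z = W := eq_of_le_of_card_ge hZW (by rw [hi, hZc, pow_one])
        rw [hZeq]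
        exact W.mul_mem (inv_mem hw) (hτW w hw)
      · exact TransvAut.fix_section (D := Z) (T := W) hZW (by rw [hi, hZc, pow_two]) (σ := τ) hτW
          hZinv hτk hw
    have h1 := hmove b₁ (hcommW c' e')
    rw [hτb₁] at h1
    have hb : b₂ ∈ Z := by
      have hcm : b₃ * b₂ * b₁ = b₁ * (b₃ * b₂) :=
        mem_center_iff.1 (hWc (hcommW c' e')) (b₃ * b₂)
      have h2 : b₁⁻¹ * (b₁ * (b₃ * b₂)) ∈ Z := hcm ▸ h1
      rw [inv_mul_cancel_left] at h2
      have h3 := Z.mul_mem (inv_mem (mem_zpowers b₃)) h2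
      rwa [inv_mul_cancel_left] at h3
    obtain ⟨i, hi⟩ := mem_zpowers_iff.1 hb
    refine h3 ?_
    have h2 := hτb₂
    rw [← hi, map_zpow, hτb₃] at h2
    exact mul_eq_right.1 h2.symm

end Radical

end CfsgLib.Fusion.RankThree
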