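import Cfsg.Agent.Lib.Fusion.RankThreeRadical
import Cfsg.Agent.Lib.Fusion.Centric

/-!
# Three-generated essential subgroups are normal when the sectional rank is three

If `E` is not normal in `S`, an element `g` outside `N = N_S(E)` normalizes `N`. Either some element
of `N` acts regularly on `E / Φ(E)`, which `regular_contra` excludes, or all act as transvections.
Then `Φ(E)` is normal in `T = N⟨g⟩` and a diagonal automorphism makes a conjugate of `g` centralize
an elementary abelian subgroup of order `p³` of `N / Φ(E)`, so that `T / Φ(E)` has rank four.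
-/

set_option autoImplicit false

namespace CfsgLib.Fusion.RankThree

open Cfsg Cfsg.FusionSystem CfsgLib CfsgLib.Fusion CfsgLib.Fusion.TransvAut CfsgLib.SmallEssential
open scoped commutatorElement

variable {p : ℕ} [hp : Fact p.Prime]

omit hp in
theorem char_apply {G : Type*} [Group G] {H : Subgroup G} [hH : H.Characteristic] (σ : MulAut G)
    {x : G} (hx : x ∈ H) : σ x ∈ H :=
  (Subgroup.characteristic_iff_map_le.1 hH σ) ⟨x, hx, rfl⟩

/-- Exponents of elements of order `p` outside a subgroup. -/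
theorem dvd_of_zpow_mem {G : Type*} [Group G] {H : Subgroup G} {x : G} (hxp : x ^ p = 1)
    (hx : x ∉ H) {a : ℤ} (ha : x ^ a ∈ H) : (p : ℤ) ∣ a := by
  by_contra h
  obtain ⟨u, v, huv⟩ :=
    ((Nat.prime_iff_prime_int.1 hp.out).coprime_iff_not_dvd.2 h : IsCoprime (p : ℤ) a)
  refine hx ?_
  have hxp' : x ^ (p : ℤ) = 1 := by rw [zpow_natCast]; exact hxp
  rw [show x = x ^ (u * (p : ℤ) + v * a) by rw [huv, zpow_one], zpow_add, mul_comm u, zpow_mul,
    hxp', one_zpow, one_mul, mul_comm v, zpow_mul]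
  exact H.zpow_mem ha v

/-- A unit modulo `p` of large order. -/
theorem exists_torus_exponent (hp5 : 5 ≤ p) : ∃ t s : ℤ, (p : ℤ) ∣ t * s - 1 ∧
    ∀ k ∈ ({1, 2, 3, 5} : Finset ℕ), ¬ (p : ℤ) ∣ t ^ k - 1 := by
  have hp' := hp.out
  haveI : NeZero p := ⟨hp'.ne_zero⟩
  obtain ⟨u, hu⟩ := IsCyclic.exists_generator (α := (ZMod p)ˣ)
  have hord : orderOf u = p - 1 := by
    rw [orderOf_eq_card_of_forall_mem_zpowers hu, Nat.card_eq_fintype_card, ZMod.card_units]
  refine ⟨((u : ZMod p).val : ℤ), (((u⁻¹ : (ZMod p)ˣ) : ZMod p).val : ℤ), ?_, fun k hk hdvd => ?_⟩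
  · rw [← ZMod.intCast_zmod_eq_zero_iff_dvd]
    push_cast
    rw [ZMod.natCast_zmod_val, ZMod.natCast_zmod_val, ZMod.mul_inv_of_unit _ u.isUnit, sub_self]
  · rw [← ZMod.intCast_zmod_eq_zero_iff_dvd] at hdvd
    push_cast at hdvd
    rw [ZMod.natCast_zmod_val, sub_eq_zero, ← Units.val_pow_eq_pow_val, Units.val_eq_one] at hdvd
    have h1 := orderOf_dvd_of_pow_eq_one hdvd
    rw [hord] at h1
    simp only [Finset.mem_insert, Finset.mem_singleton] at hk
    have h2 := Nat.le_of_dvd (by omega) h1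
    obtain ⟨b, hb⟩ := hp'.odd_of_ne_two (by omega)
    obtain rfl : p = 5 := by omega
    rcases hk with rfl | rfl | rfl | rfl <;> omega

omit hp in
/-- The automorphisms stabilizing a subgroup. -/
def quotStab {G : Type*} [Group G] (H : Subgroup G) : Subgroup (MulAut G) where
  carrier := {σ | H.map σ.toMonoidHom = H}
  one_mem' := Subgroup.map_id H
  mul_mem' := fun {σ τ} (hσ : H.map σ.toMonoidHom = H) (hτ : H.map τ.toMonoidHom = H) => by
    show H.map (σ.toMonoidHom.comp τ.toMonoidHom) = H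
    rw [← Subgroup.map_map, hτ, hσ]
  inv_mem' := fun {σ} (hσ : H.map σ.toMonoidHom = H) => by
    show H.map σ⁻¹.toMonoidHom = H
    conv_lhs => rw [← hσ, Subgroup.map_map]
    convert Subgroup.map_id H using 2
    ext x
    exact σ.symm_apply_apply x

/-- Their action on the quotient. -/
noncomputable def quotAct {G : Type*} [Group G] (H : Subgroup G) [H.Normal] :
    quotStab H →* MulAut (G ⧸ H) where
  toFun σ := QuotientGroup.congr H H σ.1 σ.2
  map_one' := MulEquiv.ext fun v => by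
    obtain ⟨x, rfl⟩ := QuotientGroup.mk'_surjective _ v
    rfl
  map_mul' σ τ := MulEquiv.ext fun v => by
    obtain ⟨x, rfl⟩ := QuotientGroup.mk'_surjective _ v
    rfl

variable {Ω : Type*} [Group Ω] {S : Subgroup Ω} [Finite S] {F : FusionSystem S} {E : Subgroup Ω}

omit [Finite S] in
theorem conjAut_mul {P : Subgroup Ω} (a b : normalizerIn S P) :
    conjAut (a * b) = conjAut a * conjAut b :=
  map_mul (P.normalizerMonoidHom.comp (Subgroup.inclusion inf_le_right)) a b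

omit [Finite S] in
theorem conjAut_npow {P : Subgroup Ω} (a : normalizerIn S P) (n : ℕ) :
    conjAut (a ^ n) = conjAut a ^ n :=
  map_pow (P.normalizerMonoidHom.comp (Subgroup.inclusion inf_le_right)) a n

/-- An element outside `N_S(E)` moves `E`. -/
theorem exists_moved (hES : E ≤ S) {g : Ω} (hgS : g ∈ S) (hg : g ∉ normalizerIn S E) :
    ∃ e : E, g * e * g⁻¹ ∉ E := by
  have := finite_le hES
  by_contra h
  push Not at h
  have hmap : E.map (MulAut.conj g).toMonoidHom = E :=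
    Subgroup.eq_of_le_of_card_ge (by rintro _ ⟨x, hx, rfl⟩; exact h ⟨x, hx⟩)
      (Subgroup.card_map_of_injective (MulAut.conj g).injective).ge
  refine hg ⟨hgS, Subgroup.mem_normalizer_iff.2 fun x => ⟨fun hx => h ⟨x, hx⟩, fun hx => ?_⟩⟩
  rw [← hmap] at hx
  obtain ⟨w, hw, hwx⟩ := hx
  have : w = x := (MulAut.conj g).injective hwx
  rwa [← this]

/-- `N⟨g⟩` for an element of order `p` modulo the normalized subgroup `N`. -/
theorem step_facts (hS : IsPGroup p S) {N : Subgroup Ω} (hNS : N ≤ S) (g : normalizerIn S N)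
    (hg : (g : Ω) ∉ N) (hgp : (g : Ω) ^ p ∈ N) :
    N ⊔ Subgroup.zpowers (g : Ω) ≤ S ∧
      (Subgroup.inclusion (le_sup_left : N ≤ N ⊔ Subgroup.zpowers (g : Ω))).range.Normal ∧
      (Subgroup.inclusion (le_sup_left : N ≤ N ⊔ Subgroup.zpowers (g : Ω))).range.index = p := by
  set T := N ⊔ Subgroup.zpowers (g : Ω) with hT
  have hTS : T ≤ S := sup_le hNS (Subgroup.zpowers_le.2 g.2.1)
  have := finite_le hTS
  set W := (Subgroup.inclusion (le_sup_left : N ≤ T)).range with hW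
  have hmem : ∀ u : T, u ∈ W ↔ (u : Ω) ∈ N := fun u =>
    ⟨by rintro ⟨n, rfl⟩; exact n.2, fun h => ⟨⟨u, h⟩, Subtype.ext rfl⟩⟩
  have hn : W.Normal := ⟨fun u hu h => (hmem _).2
    (conj_mem_of_mem_normalizer ((sup_le Subgroup.le_normalizer (Subgroup.zpowers_le.2 g.2.2) :
      T ≤ _) h.2) ((hmem u).1 hu))⟩
  refine ⟨hTS, hn, ?_⟩
  let gT : T := ⟨g, Subgroup.mem_sup_right (Subgroup.mem_zpowers _)⟩
  have htop : W ⊔ Subgroup.zpowers gT = ⊤ := by
    refine Subgroup.map_injective T.subtype_injective ?_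
    rw [Subgroup.map_sup, MonoidHom.map_zpowers, ← MonoidHom.range_eq_map, Subgroup.range_subtype]
    conv_rhs => rw [hT]
    congr 1
    rw [hW, MonoidHom.map_range]
    exact Subgroup.range_subtype N
  have hc := card_sup_zpowers hn (h := gT) (fun h => hg ((hmem gT).1 h)) ((hmem _).2 hgp)
  rw [htop, Subgroup.card_top, ← W.card_mul_index, mul_comm p] at hc
  exact Nat.eq_of_mul_eq_mul_left Nat.card_pos hc

set_option maxHeartbeats 800000 in
/-- No element of `N_S(E)` acts regularly. -/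
theorem quadratic_all (hS : IsPGroup p S) (hsr : SectionalPRankLE p 3 ↥S) (hF : F.IsSaturated p)
    (hE : F.IsEssential p E) (hp5 : 5 ≤ p) (hrk : (frattini E).index = p ^ 3)
    (g : normalizerIn S (normalizerIn S E)) (hg : (g : Ω) ∉ normalizerIn S E)
    (hgp : (g : Ω) ^ p ∈ normalizerIn S E) (n : normalizerIn S E) (e : E) :
    (conjAut n e * e⁻¹)⁻¹ * conjAut n (conjAut n e * e⁻¹) ∈ frattini E := by
  by_contra hreg
  have hES := hE.1.1
  have := finite_le hES
  have hEp : IsPGroup p E := hS.to_le hES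
  have hNS := normalizerIn_le (S := S) E
  obtain ⟨hTS, hTn, hTi⟩ := step_facts hS hNS g hg hgp
  have := finite_le hNS
  have := finite_le hTS
  let incl := Subgroup.inclusion
    (le_sup_left : normalizerIn S E ≤ normalizerIn S E ⊔ Subgroup.zpowers (g : Ω))
  have hEN := le_normalizerIn (S := S) hES
  let j : E →* ↥(normalizerIn S E ⊔ Subgroup.zpowers (g : Ω)) :=
    incl.comp (Subgroup.inclusion hEN)
  have hj : Function.Injective j :=
    fun a b h => Subgroup.inclusion_injective hEN (Subgroup.inclusion_injective le_sup_left h)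
  have hconj : ∀ (m : normalizerIn S E) (x : E), incl m * j x * (incl m)⁻¹ = j (conjAut m x) :=
    fun m x => Subtype.ext rfl
  refine regular_contra (hS.to_le hTS) hp5
    (N := incl.range) (E := j.range) (Φ := (frattini E).map j) ?_ hTi
    (g := ⟨g, Subgroup.mem_sup_right (Subgroup.mem_zpowers _)⟩) ?_
  · refine
      { hN := hTn
        hEN := by rintro _ ⟨x, rfl⟩; exact ⟨_, rfl⟩
        hΦE := by rintro _ ⟨x, -, rfl⟩; exact ⟨x, rfl⟩
        hNi := ?_
        hEi := ?_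
        hΦN := ?_
        hΦc := ?_
        hΦp := ?_
        reg := ?_
        rank := (secLE_of_sectional hsr).of_injective _ (Subgroup.inclusion_injective hTS)
        hY := ?_ }
    · rw [← Nat.card_congr (MonoidHom.ofInjective (Subgroup.inclusion_injective _)).toEquiv,
        ← Nat.card_congr (MonoidHom.ofInjective hj).toEquiv, card_normalizerIn hS hF hE hrk]
    · rw [← Nat.card_congr (MonoidHom.ofInjective hj).toEquiv,
        Subgroup.card_map_of_injective hj, ← hrk, mul_comm, (frattini E).card_mul_index]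
    · rintro _ ⟨m, rfl⟩ _ ⟨x, hx, rfl⟩
      exact ⟨_, char_apply (conjAut m) hx, (hconj m x).symm⟩
    · rintro _ ⟨a, rfl⟩ _ ⟨b, rfl⟩
      exact ⟨_, PGroups.commutator_le_frattini' hEp
        (Subgroup.commutator_mem_commutator trivial trivial), map_commutatorElement j a b⟩
    · rintro _ ⟨a, rfl⟩
      exact ⟨_, PGroups.pow_mem_frattini hEp a, map_pow j a p⟩
    · refine ⟨j e, ⟨e, rfl⟩, incl n, ⟨n, rfl⟩, fun h => hreg ?_⟩
      obtain ⟨u, hu, hju⟩ := h
      have h1 : ∀ x : E, ⁅j x, incl n⁆ = j (conjAut n x * x⁻¹)⁻¹ := fun x => by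
        rw [mul_inv_rev, inv_inv, map_mul, map_inv, ← hconj, commutatorElement_def]
        group
      rw [h1, h1] at hju
      have h2 := hj hju
      rw [h2, inv_inv, map_inv, mul_inv_rev, inv_inv] at hu
      exact hu
    · intro Y _ h1 h2
      rw [Subgroup.map_le_iff_le_comap]
      refine (frattini_eq_of_regular hS hsr hF hE (by omega) hrk n e hreg).trans
        ((Subgroup.closure_le _).2 ?_)
      rintro _ (⟨a, b, hb, rfl⟩ | ⟨a, rfl⟩)
      · show j ⁅a, b⁆ ∈ Y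
        rw [map_commutatorElement]
        exact h1 _ ⟨a, rfl⟩ _ (Subgroup.mem_map_of_mem j hb)
      · show j (a ^ p) ∈ Y
        rw [map_pow]
        exact h2 _ ⟨a, rfl⟩
  · obtain ⟨x, hx⟩ := exists_moved hES g.2.1 hg
    refine ⟨j x, ⟨x, rfl⟩, fun h => hx ?_⟩
    obtain ⟨y, hy⟩ := h
    have h' : (y : Ω) = (g : Ω) * x * (g : Ω)⁻¹ := congrArg Subtype.val hy
    rw [← h']
    exact y.2

set_option maxHeartbeats 4000000 in
/-- Not all elements of `N_S(E)` act as transvections. -/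
theorem false_of_quadratic (hS : IsPGroup p S) (hsr : SectionalPRankLE p 3 ↥S)
    (hF : F.IsSaturated p) (hE : F.IsEssential p E) (hp5 : 5 ≤ p)
    (hrk : (frattini E).index = p ^ 3) (g : normalizerIn S (normalizerIn S E))
    (hg : (g : Ω) ∉ normalizerIn S E) (hgp : (g : Ω) ^ p ∈ normalizerIn S E)
    (hq : ∀ (n : normalizerIn S E) (e : E),
      (conjAut n e * e⁻¹)⁻¹ * conjAut n (conjAut n e * e⁻¹) ∈ frattini E) : False := by
  classical
  have hp' := hp.out
  have hpZ : Prime (p : ℤ) := Nat.prime_iff_prime_int.1 hp'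
  have hES := hE.1.1
  have := finite_le hES
  have := finite_mulAut_of_le (S := S) hES
  have hEp : IsPGroup p E := hS.to_le hES
  have hNS := normalizerIn_le (S := S) E
  have := finite_le hNS
  have hEN := le_normalizerIn (S := S) hES
  -- the Frattini quotient
  letI : CommGroup (E ⧸ frattini E) :=
    { (inferInstance : Group (E ⧸ frattini E)) with mul_comm := quot_comm hEp }
  have hexp : ∀ v : E ⧸ frattini E, v ^ p = 1 := quot_pow hEp
  have hVc : Nat.card (E ⧸ frattini E) = p ^ 3 := hrk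
  have hπs := QuotientGroup.mk'_surjective (frattini E)
  let L := outAut F E
  let zc : normalizerIn S E → F.autGroup E := fun m => ⟨conjAut m, conjAut_mem_autGroup hES m⟩
  have hzc : ∀ a b, zc (a * b) = zc a * zc b := fun a b => Subtype.ext (conjAut_mul a b)
  have hzz : ∀ (m : normalizerIn S E) (i : ℤ), zc (m ^ i) = zc m ^ i := fun m i =>
    Subtype.ext ((conjAut_zpow m i).trans (SubgroupClass.coe_zpow (zc m) i).symm)
  obtain ⟨n₀, hn₀E, hn₀p⟩ :=
    CfsgLib.Fusion.exists_step hS hES (isEssential_ne_self hS hF hE)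
  obtain ⟨z, hz⟩ : ∃ z, z = zc n₀ := ⟨_, rfl⟩
  have hLz1 : L z ≠ 1 := fun h => hn₀E (mem_of_conjAut_inn hE.1 n₀ (by
    have := outAut_ker hS hE h
    rwa [hz] at this))
  have hLinn : ∀ σ : F.autGroup E, (σ : MulAut E) ∈ Inn E → L σ = 1 := fun σ h =>
    outAut_inn hS hES h
  let φ : (E ⧸ frattini E) →* (E ⧸ frattini E) :=
    { toFun := fun w => L z w * w⁻¹
      map_one' := by simp
      map_mul' := fun u w => by rw [map_mul, mul_inv, mul_mul_mul_comm] }
  have hφφ : ∀ w, L z (φ w) = φ w := fun w => by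
    obtain ⟨x, rfl⟩ := hπs w
    show L z (L z (x : E ⧸ frattini E) * (x : E ⧸ frattini E)⁻¹) =
      L z (x : E ⧸ frattini E) * (x : E ⧸ frattini E)⁻¹
    rw [hz]
    refine Eq.symm ?_
    exact QuotientGroup.eq.2 (hq n₀ x)
  have hle : φ.range ≤ φ.ker := by
    rintro _ ⟨w, rfl⟩
    show L z (φ w) * (φ w)⁻¹ = 1
    rw [hφφ, mul_inv_cancel]
  have hrc : Nat.card φ.range = p ∧ Nat.card φ.ker = p ^ 2 := by
    have h := φ.ker.card_mul_index
    rw [Subgroup.index_ker, hVc] at h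
    obtain ⟨i, -, hi⟩ := (Nat.dvd_prime_pow hp').1 (hVc ▸ Subgroup.card_subgroup_dvd_card φ.range)
    obtain ⟨k, -, hk⟩ := (Nat.dvd_prime_pow hp').1 (hVc ▸ Subgroup.card_subgroup_dvd_card φ.ker)
    have h1 := Subgroup.card_le_of_le hle
    rw [hi, hk] at h1
    rw [hi, hk, ← pow_add] at h
    have h2 := Nat.pow_right_injective hp'.two_le h
    have h3 := (Nat.pow_le_pow_iff_right hp'.one_lt).1 h1
    have h4 : i ≠ 0 := fun h0 => hLz1 (MulEquiv.ext fun w => by
      have hb := Subgroup.eq_bot_of_card_eq _ (hi.trans (by rw [h0, pow_zero]))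
      have : φ w = 1 := Subgroup.mem_bot.1 (hb ▸ MonoidHom.mem_range.2 ⟨w, rfl⟩)
      exact mul_inv_eq_one.1 this)
    rw [hi, hk, show i = 1 by omega, show k = 2 by omega, pow_one]
    exact ⟨rfl, rfl⟩
  obtain ⟨a₀, ha₀⟩ := (isCyclic_of_prime_card hrc.1).exists_generator
  have ha₀r : φ.range = Subgroup.zpowers (a₀ : E ⧸ frattini E) := by
    refine le_antisymm (fun w hw => ?_) (Subgroup.zpowers_le.2 a₀.2)
    obtain ⟨i, hi⟩ := Subgroup.mem_zpowers_iff.1 (ha₀ ⟨w, hw⟩)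
    exact Subgroup.mem_zpowers_iff.2 ⟨i, congrArg Subtype.val hi⟩
  obtain ⟨a, ha⟩ : ∃ a : E ⧸ frattini E, a = (a₀ : E ⧸ frattini E) := ⟨_, rfl⟩
  rw [← ha] at ha₀r
  have ha1 : a ≠ 1 := fun h => by
    have h' := hrc.1
    rw [ha₀r, h, Subgroup.zpowers_one_eq_bot, Subgroup.card_bot] at h'
    exact hp'.one_lt.ne h'
  have himg : ∀ w, L z w * w⁻¹ ∈ Subgroup.zpowers a := fun w => ha₀r ▸ ⟨w, rfl⟩
  have hfix : L z a = a := by
    obtain ⟨w, hw⟩ : a ∈ φ.range := ha₀r ▸ Subgroup.mem_zpowers a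
    rw [← hw, hφφ]
  have hLzp : L z ^ p = 1 := MulEquiv.ext fun w => by
    rw [MulAut.one_apply]
    exact PGroups.Transvections.pow_fix (v := φ w)
      (by show L z w = w * (L z w * w⁻¹); rw [mul_comm w, inv_mul_cancel_right]) (hφφ w) (hexp _)
  have hzo : orderOf (L z) = p := orderOf_eq_prime hLzp hLz1
  have hzcard : Nat.card (Subgroup.zpowers (L z)) = p := by rw [Nat.card_zpowers, hzo]
  have hUle : ∀ U : Subgroup (MulAut (E ⧸ frattini E)), U ≤ L.range → IsPGroup p U →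
      L z ∈ U → U = Subgroup.zpowers (L z) := by
    intro U hU hUp hzU
    have : Finite U := Finite.of_injective _ U.subtype_injective
    refine (Subgroup.eq_of_le_of_card_ge (Subgroup.zpowers_le.2 hzU) ?_).symm
    rw [hzcard, ← Nat.card_congr (Subgroup.subgroupOfEquivOfLe hU).toEquiv]
    exact card_pGroup_le hS hE hrk (hUp.of_equiv (Subgroup.subgroupOfEquivOfLe hU).symm)
  obtain ⟨P, hP⟩ := (IsSaturated.fullyAutomized hS hF hE.2.1).2
  have hTz : ∀ u ∈ (P : Subgroup (F.autGroup E)), L u ∈ Subgroup.zpowers (L z) := by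
    intro u hu
    rw [← hUle ((P : Subgroup (F.autGroup E)).map L) (by rintro _ ⟨w, -, rfl⟩; exact ⟨w, rfl⟩)
      (P.2.map L) ⟨z, hP.ge (by rw [Subgroup.mem_subgroupOf, hz]; exact conjAut_mem n₀), rfl⟩]
    exact Subgroup.mem_map_of_mem L hu
  have hTr : Transv p L z a :=
    ⟨hexp, himg, hfix, hLz1, fun d h1 h2 => alone_of_sylow L P hTz hzo h1 h2⟩
  obtain ⟨M, -, hzM, gR, hgR, -⟩ := exists_embedded_range hS hE ⟨L z, ⟨z, rfl⟩⟩
    (by rw [← hzo]; exact (orderOf_injective _ L.range.subtype_injective _).symm)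
  obtain ⟨y, hy⟩ := gR.2
  have hyz : L (y * z * y⁻¹) ∉ Subgroup.zpowers (L z) := fun h => by
    obtain ⟨i, hi⟩ := Subgroup.mem_zpowers_iff.1 h
    refine hgR ?_
    have : gR * ⟨L z, ⟨z, rfl⟩⟩ * gR⁻¹ = (⟨L z, ⟨z, rfl⟩⟩ : L.range) ^ i := by
      refine Subtype.ext ?_
      rw [SubgroupClass.coe_zpow, hi, map_mul, map_mul, map_inv, Subgroup.coe_mul, Subgroup.coe_mul,
        Subgroup.coe_inv, hy]
    rw [this]
    exact M.zpow_mem hzM i
  obtain ⟨t, s, hts, ht⟩ := exists_torus_exponent hp5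
  obtain ⟨-, -, -, htor⟩ := hTr.exists_elements hyz
  obtain ⟨d, hd0, hd1, hdz, hdfix, -⟩ := htor t s hts
  have ht0 : ¬ (p : ℤ) ∣ t := fun h => hpZ.not_dvd_one (by
    have := dvd_sub (Dvd.dvd.mul_right h s) hts
    simpa using this)
  have ht2 : ¬ (p : ℤ) ∣ t * t - 1 := by
    rw [← pow_two]; exact ht 2 (by simp)
  -- the element moved by `z`
  obtain ⟨e₁, he₁⟩ : ∃ e, e = L y a := ⟨_, rfl⟩
  rw [← he₁] at hd1
  have hmove : L z e₁ ≠ e₁ := fun h => by
    have h1 := hdfix e₁ h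
    rw [hd1] at h1
    by_cases hea : e₁ ∈ Subgroup.zpowers a
    · obtain ⟨i, hi⟩ := Subgroup.mem_zpowers_iff.1 hea
      have h2 : a ^ (i * (t - s)) = 1 := by
        have h3 : L d e₁ = e₁ ^ t := by rw [← hi, map_zpow, hd0, ← zpow_mul, ← zpow_mul, mul_comm]
        rw [hd1] at h3
        rw [mul_sub, zpow_sub, zpow_mul, zpow_mul, hi, h3, mul_inv_cancel]
      have h4 : (p : ℤ) ∣ i * (t - s) := dvd_of_zpow_mem (H := ⊥) (hexp a)
        (fun h => ha1 (Subgroup.mem_bot.1 h)) (Subgroup.mem_bot.2 h2)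
      rcases hpZ.dvd_or_dvd h4 with h5 | h5
      · obtain ⟨q, rfl⟩ := h5
        rw [zpow_mul, zpow_natCast, hexp, one_zpow] at hi
        refine ha1 ((L y).injective ?_)
        rw [map_one, ← he₁, ← hi]
      · refine ht2 ?_
        have := dvd_add (Dvd.dvd.mul_left h5 t) hts
        rwa [show t * (t - s) + (t * s - 1) = t * t - 1 by ring] at this
    · rw [← zpow_sub_one] at h1
      have h5 := dvd_of_zpow_mem (hexp e₁) hea h1
      refine ht 1 (by simp) ?_
      have := dvd_sub hts (Dvd.dvd.mul_left h5 t)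
      rwa [show t * s - 1 - t * (s - 1) = t ^ 1 - 1 by ring] at this
  -- coordinates on the Frattini quotient
  obtain ⟨v₁, hv₁⟩ : ∃ v, v = e₁ * (L z e₁)⁻¹ := ⟨_, rfl⟩
  have hv₁a : v₁ ∈ Subgroup.zpowers a := by
    have h := inv_mem (himg e₁)
    rwa [mul_inv_rev, inv_inv, ← hv₁] at h
  have hv1 : v₁ ≠ 1 := fun h => hmove (by rw [hv₁, mul_inv_eq_one] at h; exact h.symm)
  have hacard : Nat.card (Subgroup.zpowers a) = p := by rw [← ha₀r]; exact hrc.1
  have hva : Subgroup.zpowers v₁ = Subgroup.zpowers a :=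
    Subgroup.eq_of_le_of_card_ge (Subgroup.zpowers_le.2 hv₁a)
      (by rw [hacard, Nat.card_zpowers, orderOf_eq_prime (hexp v₁) hv1])
  have hdv : L d v₁ = v₁ ^ t := by
    obtain ⟨i, hi⟩ := Subgroup.mem_zpowers_iff.1 hv₁a
    rw [← hi, map_zpow, hd0, ← zpow_mul, ← zpow_mul, mul_comm]
  have hzv : L z v₁ = v₁ := by
    obtain ⟨i, hi⟩ := Subgroup.mem_zpowers_iff.1 hv₁a
    rw [← hi, map_zpow, hfix]
  obtain ⟨c₁, hc₁k, hc₁v⟩ : ∃ c, L z c = c ∧ c ∉ Subgroup.zpowers v₁ := by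
    by_contra h
    push Not at h
    have h2 : φ.ker ≤ Subgroup.zpowers a := fun w hw => hva ▸ h w (mul_inv_eq_one.1 hw)
    have h3 := Subgroup.card_le_of_le h2
    rw [hrc.2, hacard] at h3
    exact absurd h3 (by nlinarith [hp'.two_le])
  obtain ⟨l, hl⟩ : ∃ l : ℤ, L d c₁ = c₁ * v₁ ^ l := by
    have h := hdfix c₁ hc₁k
    rw [← hva] at h
    obtain ⟨l, hl⟩ := Subgroup.mem_zpowers_iff.1 h
    exact ⟨l, by rw [hl, mul_comm c₁, inv_mul_cancel_right]⟩
  have hker : φ.ker = Subgroup.zpowers c₁ ⊔ Subgroup.zpowers v₁ := by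
    refine (Subgroup.eq_of_le_of_card_ge (sup_le (Subgroup.zpowers_le.2 ?_)
      (Subgroup.zpowers_le.2 ?_)) ?_).symm
    · show L z c₁ * c₁⁻¹ = 1; rw [hc₁k, mul_inv_cancel]
    · show L z v₁ * v₁⁻¹ = 1; rw [hzv, mul_inv_cancel]
    · rw [sup_comm, card_sup_zpowers inferInstance hc₁v (by rw [hexp]; exact one_mem _), hrc.2,
        hva, hacard, pow_two]
  have he₁k : e₁ ∉ Subgroup.zpowers c₁ ⊔ Subgroup.zpowers v₁ := by
    rw [← hker]; exact fun h => hmove (mul_inv_eq_one.1 h)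
  have hVtop : Subgroup.zpowers c₁ ⊔ Subgroup.zpowers v₁ ⊔ Subgroup.zpowers e₁ = ⊤ := by
    refine Subgroup.eq_top_of_le_card _ ?_
    rw [card_sup_zpowers inferInstance he₁k (by rw [hexp]; exact one_mem _), ← hker, hrc.2, hVc,
      pow_succ' p 2]
  have hindep : ∀ i k : ℤ, c₁ ^ i * v₁ ^ k = 1 → (p : ℤ) ∣ i ∧ (p : ℤ) ∣ k := fun i k h => by
    have hi : (p : ℤ) ∣ i := dvd_of_zpow_mem (hexp c₁) hc₁v
      (by rw [eq_inv_of_mul_eq_one_left h]; exact inv_mem (zpow_mem (Subgroup.mem_zpowers _) k))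
    refine ⟨hi, ?_⟩
    obtain ⟨q, rfl⟩ := hi
    rw [zpow_mul, zpow_natCast, hexp, one_zpow, one_mul] at h
    exact dvd_of_zpow_mem (H := ⊥) (hexp v₁) (fun h => hv1 (Subgroup.mem_bot.1 h))
      (Subgroup.mem_bot.2 h)
  -- decomposition of `N`
  have hdec : ∀ m : normalizerIn S E, ∃ (u : E) (i : ℤ), m = Subgroup.inclusion hEN u * n₀ ^ i := by
    have hn : (Subgroup.inclusion hEN).range.Normal := ⟨by
      rintro _ ⟨x, rfl⟩ m
      exact ⟨conjAut m x, Subtype.ext rfl⟩⟩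
    have hc := card_sup_zpowers (p := p) hn (h := n₀) (by rintro ⟨x, hx⟩; apply hn₀E; rw [← hx]; exact x.2)
      ⟨⟨(n₀ : Ω) ^ p, hn₀p⟩, Subtype.ext (by simp)⟩
    rw [← Nat.card_congr (MonoidHom.ofInjective (Subgroup.inclusion_injective hEN)).toEquiv,
      ← card_normalizerIn hS hF hE hrk] at hc
    intro m
    obtain ⟨_, ⟨u, rfl⟩, w, hw, hm⟩ := Subgroup.mem_sup_of_normal_left.1
      ((Subgroup.eq_top_of_le_card _ hc.ge).ge (Subgroup.mem_top m))
    obtain ⟨i, rfl⟩ := Subgroup.mem_zpowers_iff.1 hw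
    exact ⟨u, i, hm.symm⟩
  have hincl : ∀ u : E, conjAut (Subgroup.inclusion hEN u) = MulAut.conj u := fun u =>
    MulEquiv.ext fun x => Subtype.ext rfl
  have hLm : ∀ m : normalizerIn S E, L (zc m) ∈ Subgroup.zpowers (L z) := fun m => by
    obtain ⟨u, i, rfl⟩ := hdec m
    rw [hzc, map_mul, hLinn (zc (Subgroup.inclusion hEN u)) ⟨u, (hincl u).symm⟩, one_mul, hzz,
      map_zpow, ← hz]
    exact zpow_mem (Subgroup.mem_zpowers _) i
  -- the extension of `d` to `N`
  obtain ⟨u₀, hu₀⟩ : ∃ u : E, d * z * d⁻¹ = zc (Subgroup.inclusion hEN u) * z ^ (t * t) := by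
    have h : L (d * z * d⁻¹ * (z ^ (t * t))⁻¹) = 1 := by
      rw [map_mul, map_inv, hdz, map_zpow, mul_inv_cancel]
    obtain ⟨u, hu⟩ := outAut_ker hS hE h
    refine ⟨u, ?_⟩
    rw [show zc (Subgroup.inclusion hEN u) = d * z * d⁻¹ * (z ^ (t * t))⁻¹ from
      Subtype.ext ((hincl u).trans hu), inv_mul_cancel_right]
  have hgh : (d : MulAut E) * conjAut n₀ =
      conjAut (Subgroup.inclusion hEN u₀ * n₀ ^ (t * t)) * (d : MulAut E) := by
    have h : d * z = zc (Subgroup.inclusion hEN u₀ * n₀ ^ (t * t)) * d := by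
      rw [hzc, hzz, ← hz, ← hu₀, inv_mul_cancel_right]
    rw [hz] at h
    exact congrArg Subtype.val h
  obtain ⟨ψ, hψ, hψx, r₀, hr₀⟩ := centric_extend hS hF hE.1 d.2 n₀ _ hgh
  have hNle : normalizerIn S E ≤ E ⊔ Subgroup.zpowers (n₀ : Ω) := fun m hm => by
    obtain ⟨u, i, h⟩ := hdec ⟨m, hm⟩
    rw [show m = (u : Ω) * (n₀ : Ω) ^ i by simpa using congrArg Subtype.val h]
    exact Subgroup.mul_mem_sup u.2 (zpow_mem (Subgroup.mem_zpowers _) i)
  let ψ' := ψ.comp (Subgroup.inclusion hNle)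
  have hψ' : ψ' ∈ F.Hom (normalizerIn S E) := restrict_mem hψ hNle
  have hψE : ∀ x : E, ψ' (Subgroup.inclusion hEN x) = ((d : MulAut E) x : Ω) := fun x => hψx x
  have hψn : ψ' n₀ = (r₀ : Ω) * ((u₀ : Ω) * (n₀ : Ω) ^ (t * t)) := hr₀.trans (by simp)
  have hψN : ∀ m, ψ' m ∈ normalizerIn S E := fun m => by
    obtain ⟨u, i, rfl⟩ := hdec m
    rw [map_mul, map_zpow, hψE, hψn]
    exact mul_mem (hEN ((d : MulAut E) u).2) (zpow_mem (mul_mem (hEN r₀.2)
      (mul_mem (hEN u₀.2) (zpow_mem n₀.2 _))) i)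
  let α₀ : MulAut (normalizerIn S E) := MulEquiv.ofBijective (ψ'.codRestrict _ hψN)
    (Finite.injective_iff_bijective.1 fun a b h => F.injective_of_mem hψ' (congrArg Subtype.val h))
  have hα₀F : α₀ ∈ F.autGroup (normalizerIn S E) :=
    (mem_autGroup_iff hNS).2 (hom_congr hψ' fun _ => rfl)
  have hα₀E : ∀ x : E, α₀ (Subgroup.inclusion hEN x) =
      Subgroup.inclusion hEN ((d : MulAut E) x) := fun x => Subtype.ext (hψE x)
  have hα₀n : α₀ n₀ = Subgroup.inclusion hEN (r₀ * u₀) * n₀ ^ (t * t) :=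
    Subtype.ext (hψn.trans (by simp [mul_assoc]))
  -- the quotient of order `p ^ 4`
  obtain ⟨Φ₀, hΦ₀⟩ : ∃ W, W = (frattini E).map (Subgroup.inclusion hEN) := ⟨_, rfl⟩
  haveI : Φ₀.Normal := ⟨by
    rw [hΦ₀]
    rintro _ ⟨x, hx, rfl⟩ m
    exact ⟨_, char_apply (conjAut m) hx, Subtype.ext rfl⟩⟩
  let π₀ := QuotientGroup.mk' Φ₀
  have hπ₀s := QuotientGroup.mk'_surjective Φ₀
  have hπ₀1 : ∀ m, π₀ m = 1 ↔ m ∈ Φ₀ := fun m => QuotientGroup.eq_one_iff m
  let j : (E ⧸ frattini E) →* (normalizerIn S E ⧸ Φ₀) :=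
    QuotientGroup.map (frattini E) Φ₀ (Subgroup.inclusion hEN)
      (Subgroup.map_le_iff_le_comap.1 hΦ₀.ge)
  have hjv : ∀ u : E, j (QuotientGroup.mk' _ u) = π₀ (Subgroup.inclusion hEN u) := fun u => rfl
  have hjinj : Function.Injective j := (injective_iff_map_eq_one j).2 fun w hw => by
    obtain ⟨u, rfl⟩ := hπs w
    rw [hjv, hπ₀1, hΦ₀] at hw
    obtain ⟨x, hx, hxu⟩ := hw
    rw [← Subgroup.inclusion_injective hEN hxu]
    exact (QuotientGroup.eq_one_iff x).2 hx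
  have hrel : ∀ (m : normalizerIn S E) w, π₀ m * j w * (π₀ m)⁻¹ = j (L (zc m) w) := fun m w => by
    obtain ⟨u, rfl⟩ := hπs w
    rw [hjv, ← map_inv, ← map_mul, ← map_mul]
    exact congrArg π₀ (Subtype.ext rfl)
  obtain ⟨x, hxdef⟩ : ∃ x, x = π₀ n₀ := ⟨_, rfl⟩
  have hxj : ∀ w, x * j w * x⁻¹ = j (L z w) := fun w => by rw [hxdef, hrel, hz]
  have hqdec : ∀ q, ∃ w, ∃ i : ℤ, q = j w * x ^ i := fun q => by
    obtain ⟨m, rfl⟩ := hπ₀s q
    obtain ⟨u, i, rfl⟩ := hdec m
    exact ⟨_, i, by rw [map_mul, map_zpow, hxdef, hjv]⟩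
  have hcen : ∀ w, L z w = w → j w ∈ Subgroup.center (normalizerIn S E ⧸ Φ₀) := fun w hw =>
    Subgroup.mem_center_iff.2 fun q => by
      obtain ⟨w', i, rfl⟩ := hqdec q
      have h1 : Commute x (j w) := by
        have h := hxj w
        rw [hw] at h
        exact mul_inv_eq_iff_eq_mul.1 h
      have h2 : Commute (j w') (j w) := by
        show j w' * j w = j w * j w'
        rw [← map_mul, ← map_mul, mul_comm]
      exact (h2.mul_left (h1.zpow_left i)).eq
  have hEmem : ∀ m, π₀ m ∈ j.range ↔ (m : Ω) ∈ E := fun m => by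
    refine ⟨?_, fun h => ⟨_, (hjv ⟨m, h⟩).trans (congrArg π₀ (Subtype.ext rfl))⟩⟩
    rintro ⟨w, hw⟩
    obtain ⟨u, rfl⟩ := hπs w
    rw [hjv] at hw
    have h := QuotientGroup.eq.1 hw
    rw [hΦ₀] at h
    obtain ⟨f, -, hf⟩ := h
    have h2 : m = Subgroup.inclusion hEN (u * f) := by
      rw [map_mul, hf, mul_inv_cancel_left]
    rw [h2]
    exact (u * f).2
  have hQc : Nat.card (normalizerIn S E ⧸ Φ₀) = p ^ 4 := by
    have h := Φ₀.card_eq_card_quotient_mul_card_subgroup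
    rw [card_normalizerIn hS hF hE hrk, (frattini E).card_eq_card_quotient_mul_card_subgroup, hVc,
      hΦ₀, Subgroup.card_map_of_injective (Subgroup.inclusion_injective hEN), ← mul_assoc,
      ← pow_succ', ← hΦ₀] at h
    exact (Nat.eq_of_mul_eq_mul_right Nat.card_pos h).symm
  -- the automorphisms
  obtain ⟨A, hA⟩ : ∃ A, A = F.autGroup (normalizerIn S E) ⊓ quotStab Φ₀ := ⟨_, rfl⟩
  let δ : A →* MulAut (normalizerIn S E ⧸ Φ₀) :=
    (quotAct Φ₀).comp (Subgroup.inclusion (hA.le.trans inf_le_right))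
  have hδ : ∀ (β : A) m, δ β (π₀ m) = π₀ ((β : MulAut (normalizerIn S E)) m) := fun _ _ => rfl
  have hα₀A : α₀ ∈ A := by
    rw [hA]
    refine ⟨hα₀F, Subgroup.eq_of_le_of_card_ge ?_ (Subgroup.card_map_of_injective α₀.injective).ge⟩
    rw [hΦ₀]
    rintro _ ⟨_, ⟨f, hf, rfl⟩, rfl⟩
    exact ⟨_, char_apply (d : MulAut E) hf, (hα₀E f).symm⟩
  obtain ⟨α, hαdef⟩ : ∃ α : A, α = ⟨α₀, hα₀A⟩ := ⟨_, rfl⟩
  have hαj : ∀ w, δ α (j w) = j (L d w) := fun w => by
    obtain ⟨u, rfl⟩ := hπs w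
    rw [hjv, hδ, hαdef, hα₀E]
    rfl
  obtain ⟨w₀, hw₀⟩ : ∃ w, δ α x = j w * x ^ (t * t) :=
    ⟨QuotientGroup.mk' _ (r₀ * u₀), by rw [hxdef, hδ, hαdef, hα₀n, map_mul, map_zpow, hjv]⟩
  -- exponent `p`
  have hmulp : ∀ w q, (j w * q) ^ p = q ^ p := fun w q => by
    refine mul_pow_in (X := ⊤) (M := j.range) le_top ?_ (m := 4)
      (by rw [Subgroup.card_top, hQc]) (by norm_num) (by omega) ?_ ⟨w, rfl⟩ trivial
    · rintro h - _ ⟨w', rfl⟩
      obtain ⟨m, rfl⟩ := hπ₀s h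
      exact ⟨_, (hrel m w').symm⟩
    · rintro _ ⟨w', rfl⟩; rw [← map_pow, hexp, map_one]
  have hxp : x ^ p = 1 := by
    obtain ⟨w, hw⟩ : x ^ p ∈ j.range := by
      rw [hxdef, ← map_pow, hEmem]
      exact hn₀p
    have hwk : L z w = w := hjinj (by
      rw [← hxj, hw, ((Commute.refl x).pow_right p).eq, mul_inv_cancel_right])
    have hwk' : w ∈ Subgroup.zpowers c₁ ⊔ Subgroup.zpowers v₁ :=
      hker ▸ (show L z w * w⁻¹ = 1 by rw [hwk, mul_inv_cancel])
    obtain ⟨_, hi', _, hk', rfl⟩ := Subgroup.mem_sup.1 hwk'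
    obtain ⟨i, rfl⟩ := Subgroup.mem_zpowers_iff.1 hi'
    obtain ⟨k, rfl⟩ := Subgroup.mem_zpowers_iff.1 hk'
    have h1 : δ α (x ^ p) = (x ^ p) ^ (t * t) := by
      rw [map_pow, hw₀, hmulp, ← zpow_natCast, ← zpow_mul, mul_comm, zpow_mul, zpow_natCast]
    rw [← hw, hαj, ← map_zpow] at h1
    have h2 := hjinj h1
    rw [map_mul, map_zpow, map_zpow, hl, hdv, mul_zpow, mul_zpow, ← zpow_mul, ← zpow_mul,
      ← zpow_mul, ← zpow_mul] at h2
    have h3 : c₁ ^ (i - i * (t * t)) * v₁ ^ (l * i + t * k - k * (t * t)) = 1 := by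
      rw [zpow_sub, zpow_sub, zpow_add, mul_mul_mul_comm, ← mul_inv, ← mul_assoc, h2,
        mul_inv_cancel]
    obtain ⟨hi, hk⟩ := hindep _ _ h3
    have hi2 : (p : ℤ) ∣ i := by
      rw [show i - i * (t * t) = i * (-(t * t - 1)) by ring] at hi
      exact (hpZ.dvd_or_dvd hi).resolve_right fun h => ht2 (dvd_neg.1 h)
    have hk2 : (p : ℤ) ∣ k := by
      have h4 := dvd_sub hk (Dvd.dvd.mul_left hi2 l)
      rw [show l * i + t * k - k * (t * t) - l * i = k * (t * (1 - t)) by ring] at h4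
      refine (hpZ.dvd_or_dvd h4).resolve_right fun h5 => ?_
      rcases hpZ.dvd_or_dvd h5 with h6 | h6
      · exact ht0 h6
      · exact ht 1 (by simp) (by rwa [pow_one, ← dvd_neg, neg_sub])
    obtain ⟨i', rfl⟩ := hi2
    obtain ⟨k', rfl⟩ := hk2
    rw [← hw, zpow_mul, zpow_mul, zpow_natCast, zpow_natCast, hexp, hexp, one_zpow, one_zpow,
      one_mul, map_one]
  have hQexp : ∀ q : normalizerIn S E ⧸ Φ₀, q ^ p = 1 := fun q => by
    obtain ⟨w, i, rfl⟩ := hqdec q
    rw [hmulp, ← zpow_natCast, ← zpow_mul, mul_comm, zpow_mul, zpow_natCast, hxp, one_zpow]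
  have hv : ⁅j e₁, x⁆ = j v₁ := by
    rw [hv₁, map_mul, map_inv, ← hxj, commutatorElement_def]
    group
  have hxE : x ∉ j.range := by rw [hxdef, hEmem]; exact hn₀E
  have hrange : j.range =
      Subgroup.zpowers (j c₁) ⊔ Subgroup.zpowers (j v₁) ⊔ Subgroup.zpowers (j e₁) := by
    rw [MonoidHom.range_eq_map, ← hVtop, Subgroup.map_sup, Subgroup.map_sup, MonoidHom.map_zpowers,
      MonoidHom.map_zpowers, MonoidHom.map_zpowers]
  have hc₁' : j c₁ ∉ Subgroup.zpowers (j v₁) := by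
    rw [← MonoidHom.map_zpowers, Subgroup.mem_map_iff_mem hjinj]; exact hc₁v
  have he₁' : j e₁ ∉ Subgroup.zpowers (j c₁) ⊔ Subgroup.zpowers (j v₁) := by
    rw [← MonoidHom.map_zpowers, ← MonoidHom.map_zpowers, ← Subgroup.map_sup,
      Subgroup.mem_map_iff_mem hjinj]
    exact he₁k
  have hPl : Plane p (j e₁) x (j c₁) (j v₁) j.range :=
    { exp := hQexp
      cZ := hcen c₁ hc₁k
      vZ := hcen v₁ hzv
      hv := hv
      hE := hrange
      hx := hxE
      he := he₁'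
      hc := hc₁'
      v1 := fun h => hv1 ((injective_iff_map_eq_one j).1 hjinj v₁ h)
      card := hQc }
  -- `Φ(E)` is normal in `N⟨g⟩`
  obtain ⟨hTS, hTn, hTi⟩ := step_facts hS hNS g hg hgp
  have := finite_le hTS
  let incl := Subgroup.inclusion
    (le_sup_left : normalizerIn S E ≤ normalizerIn S E ⊔ Subgroup.zpowers (g : Ω))
  have hincl_inj : Function.Injective incl := Subgroup.inclusion_injective _
  have hsec : SecLE p ↥(normalizerIn S E ⊔ Subgroup.zpowers (g : Ω)) :=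
    (secLE_of_sectional hsr).of_injective _ (Subgroup.inclusion_injective hTS)
  obtain ⟨eE, heE⟩ := hπs e₁
  obtain ⟨cE, hcE⟩ := hπs c₁
  obtain ⟨E', hE'⟩ : ∃ W, W = (Subgroup.inclusion hEN).range.map incl := ⟨_, rfl⟩
  obtain ⟨Φ', hΦ'⟩ : ∃ W, W = Φ₀.map incl := ⟨_, rfl⟩
  have hmemΦ : ∀ m, incl m ∈ Φ' ↔ π₀ m = 1 := fun m => by
    rw [hΦ', Subgroup.mem_map_iff_mem hincl_inj, hπ₀1]
  have hmemE : ∀ m, incl m ∈ E' ↔ π₀ m ∈ j.range := fun m => by
    rw [hE', Subgroup.mem_map_iff_mem hincl_inj, hEmem]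
    exact ⟨by rintro ⟨u, rfl⟩; exact u.2, fun h => ⟨⟨m, h⟩, Subtype.ext rfl⟩⟩
  have hΦ'n : Φ'.Normal := by
    refine transvect_normal (hS.to_le hTS) (N := incl.range) (E := E')
      (e := incl (Subgroup.inclusion hEN eE)) (x := incl n₀)
      (c := incl (Subgroup.inclusion hEN cE)) ?_
    refine
      { hN := hTn
        hEN := by rw [hE']; rintro _ ⟨m, -, rfl⟩; exact ⟨m, rfl⟩
        hΦE := ?_
        hΦN := ?_
        hΦc := ?_
        hΦp := ?_
        rank := hsec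
        hgen := ?_
        he := (hmemE _).2 ⟨_, hjv eE⟩
        hc := (hmemE _).2 ⟨_, hjv cE⟩
        hx := ⟨n₀, rfl⟩
        hxE := fun h => hxE (hxdef ▸ (hmemE _).1 h)
        hv := ?_
        hv1 := ?_
        hcx := ?_
        hvx := ?_
        hcv := ?_
        hecv := ?_
        gen := ?_ }
    · rw [hΦ', hE', hΦ₀]
      exact Subgroup.map_mono (Subgroup.map_le_range _ _)
    · rintro _ ⟨m, rfl⟩ u hu
      rw [hΦ'] at hu
      obtain ⟨f, hf, rfl⟩ := hu
      rw [← map_inv, ← map_mul, ← map_mul, hmemΦ, map_mul, map_mul, map_inv, (hπ₀1 f).2 hf, mul_one,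
        mul_inv_cancel]
    · intro u hu u' hu'
      rw [hE'] at hu hu'
      obtain ⟨_, ⟨f, rfl⟩, rfl⟩ := hu
      obtain ⟨_, ⟨f', rfl⟩, rfl⟩ := hu'
      rw [← map_commutatorElement, hmemΦ, map_commutatorElement,
        commutatorElement_eq_one_iff_mul_comm, ← hjv, ← hjv, ← map_mul j, ← map_mul j, mul_comm]
    · rintro _ ⟨m, rfl⟩
      rw [← map_pow, hmemΦ, map_pow, hQexp]
    · intro Y _ h1 h2
      have hsub : frattini E ≤ Y.comap (incl.comp (Subgroup.inclusion hEN)) := by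
        have hc : commutator E ≤ Y.comap (incl.comp (Subgroup.inclusion hEN)) := by
          rw [_root_.commutator_def, Subgroup.commutator_le]
          intro u _ u' _
          rw [Subgroup.mem_comap, map_commutatorElement]
          exact h1 _ ((hmemE _).2 ⟨_, hjv u⟩) _ ((hmemE _).2 ⟨_, hjv u'⟩)
        haveI : (Y.comap (incl.comp (Subgroup.inclusion hEN))).Normal := ⟨fun u hu w => by
          rw [show w * u * w⁻¹ = ⁅w, u⁆ * u by rw [commutatorElement_def]; group]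
          exact mul_mem (hc (Subgroup.commutator_mem_commutator trivial trivial)) hu⟩
        exact PGroups.frattini_le_of_elementary (p := p) hc fun u => by
          rw [Subgroup.mem_comap, map_pow]
          exact h2 _ ((hmemE _).2 ⟨_, hjv u⟩)
      rw [hΦ', hΦ₀, Subgroup.map_map]
      exact Subgroup.map_le_iff_le_comap.2 hsub
    · rw [← map_commutatorElement, hmemE, map_commutatorElement, ← hjv, heE, ← hxdef, hv]
      exact ⟨_, rfl⟩
    · rw [← map_commutatorElement, hmemΦ, map_commutatorElement, ← hjv, heE, ← hxdef, hv]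
      exact hPl.v1
    · rw [← map_commutatorElement, hmemΦ, map_commutatorElement, ← hjv, hcE, ← hxdef,
        commutatorElement_eq_one_iff_mul_comm]
      exact (Subgroup.mem_center_iff.1 (hcen c₁ hc₁k) x).symm
    · rw [← map_commutatorElement, ← map_commutatorElement, hmemΦ, map_commutatorElement,
        map_commutatorElement, ← hjv, heE, ← hxdef, hv, commutatorElement_eq_one_iff_mul_comm]
      exact (Subgroup.mem_center_iff.1 (hcen v₁ hzv) x).symm
    · rw [← map_commutatorElement, ← MonoidHom.map_zpowers incl, hΦ', ← Subgroup.map_sup,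
        Subgroup.mem_map_iff_mem hincl_inj]
      intro h
      have h' := Subgroup.mem_map_of_mem π₀ h
      rw [Subgroup.map_sup, MonoidHom.map_zpowers, map_commutatorElement, ← hjv, ← hjv, heE, hcE,
        ← hxdef, hv, (Subgroup.map_eq_bot_iff _).2 (QuotientGroup.ker_mk' Φ₀).ge, sup_bot_eq] at h'
      exact hc₁' h'
    · rw [← map_commutatorElement, ← MonoidHom.map_zpowers incl, ← MonoidHom.map_zpowers incl, hΦ',
        ← Subgroup.map_sup, ← Subgroup.map_sup, Subgroup.mem_map_iff_mem hincl_inj]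
      intro h
      have h' := Subgroup.mem_map_of_mem π₀ h
      rw [Subgroup.map_sup, Subgroup.map_sup, MonoidHom.map_zpowers, MonoidHom.map_zpowers,
        map_commutatorElement, ← hjv, ← hjv, heE, hcE, ← hxdef, hv,
        (Subgroup.map_eq_bot_iff _).2 (QuotientGroup.ker_mk' Φ₀).ge, sup_bot_eq] at h'
      exact he₁' h'
    · have htop : Subgroup.closure
          ({Subgroup.inclusion hEN eE, n₀, Subgroup.inclusion hEN cE} : Set _) ⊔ Φ₀ = ⊤ := by
        obtain ⟨W, hW⟩ : ∃ W, W = Subgroup.closure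
          ({Subgroup.inclusion hEN eE, n₀, Subgroup.inclusion hEN cE} : Set _) := ⟨_, rfl⟩
        rw [← hW]
        have h3 : W.map π₀ = ⊤ := by
          rw [eq_top_iff]
          intro q _
          obtain ⟨w, i, rfl⟩ := hqdec q
          have he' : j e₁ ∈ W.map π₀ := ⟨_, hW ▸ Subgroup.subset_closure (by simp),
            (hjv eE).symm.trans (by rw [heE])⟩
          have hc' : j c₁ ∈ W.map π₀ := ⟨_, hW ▸ Subgroup.subset_closure (by simp),
            (hjv cE).symm.trans (by rw [hcE])⟩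
          have hx' : x ∈ W.map π₀ := ⟨_, hW ▸ Subgroup.subset_closure (by simp), hxdef.symm⟩
          have hv' : j v₁ ∈ W.map π₀ := by
            rw [← hv, commutatorElement_def]
            exact mul_mem (mul_mem (mul_mem he' hx') (inv_mem he')) (inv_mem hx')
          refine mul_mem ?_ (zpow_mem hx' i)
          exact (sup_le (sup_le (Subgroup.zpowers_le.2 hc') (Subgroup.zpowers_le.2 hv'))
            (Subgroup.zpowers_le.2 he') : _ ≤ _) (hrange.le ⟨w, rfl⟩)
        rw [eq_top_iff]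
        intro m _
        have h4 : m ∈ (W.map π₀).comap π₀ := h3.ge (Subgroup.mem_top _)
        rwa [Subgroup.comap_map_eq, QuotientGroup.ker_mk'] at h4
      rw [MonoidHom.range_eq_map, ← htop, Subgroup.map_sup, MonoidHom.map_closure,
        Set.image_insert_eq, Set.image_pair, ← hΦ']
  -- the element moving `E`
  have hγA : conjAut g ∈ A := by
    rw [hA]
    refine ⟨conjAut_mem_autGroup hNS g,
      Subgroup.eq_of_le_of_card_ge ?_ (Subgroup.card_map_of_injective (conjAut g).injective).ge⟩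
    rintro _ ⟨f, hf, rfl⟩
    rw [← Subgroup.mem_map_iff_mem hincl_inj, ← hΦ']
    have hf' : incl f ∈ Φ' := hΦ'.symm ▸ Subgroup.mem_map_of_mem incl hf
    have := hΦ'n.conj_mem _ hf' ⟨g, Subgroup.mem_sup_right (Subgroup.mem_zpowers _)⟩
    convert this using 1
    exact Subtype.ext rfl
  obtain ⟨γ, hγdef⟩ : ∃ γ : A, γ = ⟨conjAut g, hγA⟩ := ⟨_, rfl⟩
  obtain ⟨I, hI⟩ : ∃ I, I = (Inn (normalizerIn S E)).subgroupOf A := ⟨_, rfl⟩
  have hinnA : ∀ m : normalizerIn S E, MulAut.conj m ∈ A := fun m => by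
    rw [hA]
    refine ⟨inn_le_autGroup hNS ⟨m, rfl⟩,
      Subgroup.eq_of_le_of_card_ge ?_ (Subgroup.card_map_of_injective (MulAut.conj m).injective).ge⟩
    rintro _ ⟨f, hf, rfl⟩
    exact (inferInstance : Φ₀.Normal).conj_mem f hf m
  have hδconj : ∀ m (hm : MulAut.conj m ∈ A), δ ⟨MulAut.conj m, hm⟩ = MulAut.conj (π₀ m) :=
    fun m hm => MulEquiv.ext fun q => by
      obtain ⟨f, rfl⟩ := hπ₀s q
      rw [hδ, MulAut.conj_apply, MulAut.conj_apply, map_mul, map_mul, map_inv]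
  have hIconj : ∀ ι ∈ I, ∃ n, δ ι = MulAut.conj n := fun ι hι => by
    rw [hI, Subgroup.mem_subgroupOf] at hι
    obtain ⟨m, hm⟩ := hι
    refine ⟨π₀ m, ?_⟩
    rw [show ι = ⟨MulAut.conj m, hm ▸ ι.2⟩ from Subtype.ext hm.symm, hδconj]
  have hconj : ∀ n, ∃ ι ∈ I, δ ι = MulAut.conj n := fun n => by
    obtain ⟨m, rfl⟩ := hπ₀s n
    exact ⟨⟨_, hinnA m⟩, by rw [hI, Subgroup.mem_subgroupOf]; exact ⟨m, rfl⟩, hδconj m _⟩
  have hinn : ∀ β : A, (∀ u ∈ j.range, δ β u ∈ j.range) →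
      (∃ k : ℕ, ∀ u ∈ j.range, (δ β ^ p ^ k) u = u) → β ∈ I := by
    intro β hβ hk
    obtain ⟨k, hk⟩ := hk
    have hβF : (β : MulAut (normalizerIn S E)) ∈ F.autGroup (normalizerIn S E) := (hA.le β.2).1
    have hβE : ∀ u : E, (((β : MulAut (normalizerIn S E)) (Subgroup.inclusion hEN u) :
        normalizerIn S E) : Ω) ∈ E := fun u => by
      rw [← hEmem, ← hδ]; exact hβ _ ⟨_, hjv u⟩
    let f : E →* E := (((normalizerIn S E).subtype.comp
      ((β : MulAut (normalizerIn S E)).toMonoidHom)).comp (Subgroup.inclusion hEN)).codRestrict E hβE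
    let b : MulAut E := MulEquiv.ofBijective f (Finite.injective_iff_bijective.1 fun u u' h =>
      Subgroup.inclusion_injective hEN ((β : MulAut (normalizerIn S E)).injective
        (Subtype.ext (congrArg (fun q : E => (q : Ω)) h))))
    have hb : b ∈ F.autGroup E := (mem_autGroup_iff hES).2
      (hom_congr (restrict_mem ((mem_autGroup_iff hNS).1 hβF) hEN) fun _ => rfl)
    let b' : F.autGroup E := ⟨b, hb⟩
    have hbj : ∀ w, j (L b' w) = δ β (j w) := fun w => by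
      obtain ⟨u, rfl⟩ := hπs w
      rw [hjv, hδ]
      exact congrArg π₀ (Subtype.ext rfl)
    have hbp : L b' ^ p ^ k = 1 := by
      have h : ∀ (n : ℕ) w, j ((L b' ^ n) w) = (δ β ^ n) (j w) := by
        intro n
        induction n with
        | zero => intro w; rfl
        | succ n ih => intro w; rw [pow_succ', pow_succ', MulAut.mul_apply, MulAut.mul_apply, hbj, ih]
      exact MulEquiv.ext fun w => hjinj (by rw [h, hk _ ⟨w, rfl⟩]; rfl)
    have hbz : b' * z * b'⁻¹ = zc ((β : MulAut (normalizerIn S E)) n₀) := by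
      rw [mul_inv_eq_iff_eq_mul, hz]
      refine Subtype.ext (MulEquiv.ext fun u => Subtype.ext ?_)
      show ((β : MulAut (normalizerIn S E))
          (n₀ * Subgroup.inclusion hEN u * n₀⁻¹) : Ω) = _
      rw [map_mul, map_mul, map_inv]
      rfl
    obtain ⟨U, hU⟩ : ∃ U, U = Subgroup.zpowers (L b') ⊔ Subgroup.zpowers (L z) := ⟨_, rfl⟩
    have hnorm : Subgroup.zpowers (L b') ≤
        Subgroup.normalizer (Subgroup.zpowers (L z) : Set (MulAut (E ⧸ frattini E))) := by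
      rw [Subgroup.zpowers_le]
      have hmap : (Subgroup.zpowers (L z)).map (MulAut.conj (L b')).toMonoidHom =
          Subgroup.zpowers (L z) := by
        refine Subgroup.eq_of_le_of_card_ge ?_
          (Subgroup.card_map_of_injective (MulAut.conj (L b')).injective).ge
        rw [MonoidHom.map_zpowers, Subgroup.zpowers_le]
        show L b' * L z * (L b')⁻¹ ∈ _
        rw [← map_inv, ← map_mul, ← map_mul, hbz]
        exact hLm _
      refine Subgroup.mem_normalizer_iff.2 fun w => ⟨fun hw => ?_, fun hw => ?_⟩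
      · exact hmap.le ⟨w, hw, rfl⟩
      · obtain ⟨w', hw', hww⟩ := hmap.ge hw
        rwa [← show w' = w from (MulAut.conj (L b')).injective hww]
    have hbU := hUle U (hU ▸ sup_le (Subgroup.zpowers_le.2 ⟨_, rfl⟩) (Subgroup.zpowers_le.2 ⟨_, rfl⟩))
      (hU ▸ IsPGroup.to_sup_of_normal_right'
        (fun ⟨q, hq⟩ => ⟨k, Subtype.ext (by
          obtain ⟨i, rfl⟩ := Subgroup.mem_zpowers_iff.1 hq
          show (L b' ^ i) ^ p ^ k = 1
          rw [← zpow_natCast, ← zpow_mul, mul_comm, zpow_mul, zpow_natCast, hbp, one_zpow])⟩)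
        (IsPGroup.of_card (n := 1) (by rw [hzcard, pow_one])) hnorm)
      (hU ▸ Subgroup.mem_sup_right (Subgroup.mem_zpowers _))
    obtain ⟨i, hi⟩ := Subgroup.mem_zpowers_iff.1
      (hbU ▸ (hU ▸ Subgroup.mem_sup_left (Subgroup.mem_zpowers (L b')) : L b' ∈ U))
    have h1 : L ((zc (n₀ ^ i))⁻¹ * b') = 1 := by
      rw [map_mul, map_inv, hzz, map_zpow, ← hz, hi, inv_mul_cancel]
    obtain ⟨u, hu⟩ := outAut_ker hS hE h1
    obtain ⟨m, hm⟩ : ∃ m, m = n₀ ^ i * Subgroup.inclusion hEN u := ⟨_, rfl⟩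
    have hbm : b' = zc m := by
      rw [hm, hzc, show zc (Subgroup.inclusion hEN u) = (zc (n₀ ^ i))⁻¹ * b' from
        Subtype.ext ((hincl u).trans hu), mul_inv_cancel_left]
    have hres : ∀ q : normalizerIn S E, (q : Ω) ∈ E →
        ((MulAut.conj m)⁻¹ * (β : MulAut (normalizerIn S E))) q = q := by
      intro q hq
      rw [MulAut.mul_apply]
      apply (MulAut.conj m).injective
      rw [MulAut.apply_inv_self]
      have h2 : b ⟨q, hq⟩ = conjAut m ⟨q, hq⟩ := congrArg (fun σ => (σ : F.autGroup E).1 ⟨q, hq⟩) hbm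
      exact Subtype.ext (congrArg (fun w : E => (w : Ω)) h2)
    obtain ⟨z', -, -, hz'⟩ := stable_aut_inner hS hF hE.1 hEN hNS inf_le_right
      (mul_mem (inv_mem (inn_le_autGroup hNS ⟨m, rfl⟩)) hβF) hres
    rw [hI, Subgroup.mem_subgroupOf]
    refine ⟨m * z', ?_⟩
    rw [map_mul, show MulAut.conj z' = (MulAut.conj m)⁻¹ * (β : MulAut (normalizerIn S E)) from
      MulEquiv.ext fun q => (hz' q).symm, mul_inv_cancel_left]
  have hαe : δ α (j e₁) * (j e₁ ^ s)⁻¹ ∈ Subgroup.zpowers (j c₁) ⊔ Subgroup.zpowers (j v₁) := by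
    rw [hαj, hd1, map_zpow, mul_inv_cancel]; exact one_mem _
  have hαc : δ α (j c₁) * (j c₁)⁻¹ ∈ Subgroup.zpowers (j v₁) := by
    rw [hαj, hl, map_mul, map_zpow,
      Subgroup.mem_center_iff.1 (Subgroup.zpow_mem _ (hcen v₁ hzv) l) (j c₁), mul_inv_cancel_right]
    exact zpow_mem (Subgroup.mem_zpowers _) l
  have hαv : δ α (j v₁) = j v₁ ^ t := by rw [hαj, hdv, map_zpow]
  have hαE : ∀ u ∈ j.range, δ α u ∈ j.range := by
    rintro _ ⟨w, rfl⟩; exact ⟨_, (hαj w).symm⟩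
  have hαx : δ α x * (x ^ (t * t))⁻¹ ∈ j.range := by
    rw [hw₀, mul_inv_cancel_right]; exact ⟨_, rfl⟩
  have hγp : ∃ k : ℕ, δ γ ^ p ^ k = 1 := by
    obtain ⟨k, hk⟩ := conjAut_pow_eq_one hS g
    refine ⟨k, ?_⟩
    rw [← map_pow, show γ ^ p ^ k = 1 from Subtype.ext (by
      rw [SubgroupClass.coe_pow, hγdef]; exact hk), map_one]
  have hγE : ∃ u ∈ j.range, δ γ u ∉ j.range := by
    obtain ⟨u, hu⟩ := exists_moved hES g.2.1 hg
    refine ⟨π₀ (Subgroup.inclusion hEN u), ⟨_, hjv u⟩, fun h => hu ?_⟩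
    rw [hδ, hEmem, hγdef] at h
    exact h
  obtain ⟨n₁, hn₁⟩ := plane_main δ I hIconj hPl hp5 hinn hconj hts ht hαe hαc hαv hαE hαx hγp hγE
  obtain ⟨m₁, hm₁⟩ := hπ₀s n₁
  obtain ⟨g', hg'⟩ : ∃ g' : normalizerIn S (normalizerIn S E),
      g' = ⟨m₁, le_normalizerIn hNS m₁.2⟩ * g := ⟨_, rfl⟩
  have hconjS : ∀ m : normalizerIn S E,
      conjAut (⟨m, le_normalizerIn hNS m.2⟩ : normalizerIn S (normalizerIn S E)) = MulAut.conj m :=
    fun m => MulEquiv.ext fun q => Subtype.ext rfl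
  obtain ⟨γ', hγ'⟩ : ∃ γ' : A, γ' = ⟨_, hinnA m₁⟩ * γ := ⟨_, rfl⟩
  have hγ'g : (γ' : MulAut (normalizerIn S E)) = conjAut g' := by
    rw [hγ', hg', conjAut_mul, hconjS, Subgroup.coe_mul, hγdef]
  obtain ⟨X, hXc, hZX, hXcomm, hXfix, hX2, μ, hμ, ι, hι, hαγ, hnX⟩ :=
    hn₁ γ' (by rw [hγ', map_mul, hδconj, hm₁])
  rw [hI, Subgroup.mem_subgroupOf] at hι
  obtain ⟨m₂, hm₂⟩ := hι
  have hm₂X : π₀ m₂ ∈ X := hnX _ (by
    rw [show ι = ⟨MulAut.conj m₂, hm₂ ▸ ι.2⟩ from Subtype.ext hm₂.symm, hδconj])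
  have hgh2 : α₀ * conjAut g' =
      conjAut (⟨m₂, le_normalizerIn hNS m₂.2⟩ * g' ^ μ : normalizerIn S (normalizerIn S E)) * α₀ := by
    have h := congrArg Subtype.val (mul_inv_eq_iff_eq_mul.1 hαγ)
    rw [Subgroup.coe_mul, Subgroup.coe_mul, Subgroup.coe_mul, SubgroupClass.coe_pow, hγ'g, ← hm₂,
      hαdef] at h
    rw [conjAut_mul, conjAut_npow, hconjS]
    exact h
  obtain ⟨χ, hχ, hχx, r₁, hr₁⟩ := centric_extend hS hF
    (isCentric_mono hE.1 hEN hNS) hα₀F g' _ hgh2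
  -- the correction is central
  have hr₁Z : π₀ r₁ ∈ Subgroup.center (normalizerIn S E ⧸ Φ₀) := by
    refine Subgroup.mem_center_iff.2 fun q => ?_
    obtain ⟨m, rfl⟩ := hπ₀s q
    rw [← map_mul, ← map_mul]
    congr 1
    obtain ⟨q, hq⟩ := ((conjAut (⟨m₂, le_normalizerIn hNS m₂.2⟩ * g' ^ μ :
      normalizerIn S (normalizerIn S E))) * α₀).surjective m
    rw [← hgh2] at hq
    have h1 : ((conjAut g' q : normalizerIn S E) : Ω) = (g' : Ω) * q * (g' : Ω)⁻¹ := rfl
    have h2 : χ (Subgroup.inclusion le_sup_left (conjAut g' q)) =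
        (r₁ : Ω) * (⟨m₂, le_normalizerIn hNS m₂.2⟩ * g' ^ μ : normalizerIn S (normalizerIn S E)) *
          (α₀ q : Ω) * ((r₁ : Ω) *
            (⟨m₂, le_normalizerIn hNS m₂.2⟩ * g' ^ μ : normalizerIn S (normalizerIn S E)))⁻¹ := by
      rw [← hr₁, ← hχx, ← map_inv, ← map_mul, ← map_mul]
      rfl
    rw [hχx] at h2
    have h3 := congrArg Subtype.val hq
    rw [MulAut.mul_apply] at h3
    rw [h3] at h2
    have h4 := congrArg (fun σ : MulAut (normalizerIn S E) => ((σ q : normalizerIn S E) : Ω)) hgh2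
    rw [MulAut.mul_apply, MulAut.mul_apply, conjAut_apply, h3] at h4
    refine Subtype.ext ?_
    show (m : Ω) * r₁ = r₁ * m
    rw [h4] at h2 ⊢
    conv_lhs => rw [h2]
    simp [mul_assoc]
  -- the `p`th power of the new element
  have hg'T : (g' : Ω) ∈ normalizerIn S E ⊔ Subgroup.zpowers (g : Ω) := by
    rw [hg']; exact Subgroup.mul_mem_sup m₁.2 (Subgroup.mem_zpowers _)
  have hg'N : (g' : Ω) ∉ normalizerIn S E := fun h => hg (by
    rw [hg'] at h
    have := mul_mem (inv_mem m₁.2) h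
    simpa using this)
  have hg'p : (g' : Ω) ^ p ∈ normalizerIn S E := by
    haveI := hTn
    have h : (QuotientGroup.mk' incl.range ⟨g', hg'T⟩) ^ p = 1 := by
      rw [← hTi, Subgroup.index_eq_card, pow_card_eq_one']
    rw [← map_pow, QuotientGroup.mk'_apply, QuotientGroup.eq_one_iff] at h
    obtain ⟨m, hm⟩ := h
    have h' : (m : Ω) = (g' : Ω) ^ p := congrArg Subtype.val hm
    exact h' ▸ m.2
  obtain ⟨q, hq⟩ : ∃ q : normalizerIn S E, q = ⟨(g' : Ω) ^ p, hg'p⟩ := ⟨_, rfl⟩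
  have hqc : π₀ q ∈ Subgroup.center (normalizerIn S E ⧸ Φ₀) := by
    refine Subgroup.mem_center_iff.2 fun w => ?_
    have h1 : γ' ^ p = ⟨MulAut.conj q, hinnA q⟩ := by
      refine Subtype.ext ?_
      rw [SubgroupClass.coe_pow, hγ'g, ← conjAut_npow]
      show conjAut (g' ^ p) = MulAut.conj q
      rw [← hconjS]
      exact congrArg conjAut (Subtype.ext (by rw [hq]; simp))
    have h2 : δ γ' ^ p = MulAut.conj (π₀ q) := by rw [← map_pow, h1, hδconj]
    rw [(hX2 1).1] at h2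
    have h3 := DFunLike.congr_fun h2 w
    rw [MulAut.one_apply, MulAut.conj_apply, eq_mul_inv_iff_mul_eq] at h3
    exact h3
  obtain ⟨i, k, l', hqe, hαq⟩ := (hX2 (π₀ q)).2 hqc
  -- the quotient `N⟨g⟩ / Φ(E)`
  haveI := hΦ'n
  let π' := QuotientGroup.mk' Φ'
  let θ : (normalizerIn S E ⧸ Φ₀) →* _ ⧸ Φ' :=
    QuotientGroup.map Φ₀ Φ' incl (Subgroup.map_le_iff_le_comap.1 hΦ'.ge)
  have hθv : ∀ m, θ (π₀ m) = π' (incl m) := fun m => rfl
  have hθinj : Function.Injective θ := (injective_iff_map_eq_one θ).2 fun w hw => by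
    obtain ⟨m, rfl⟩ := hπ₀s w
    rw [hθv] at hw
    rw [← hmemΦ]
    exact (QuotientGroup.eq_one_iff _).1 hw
  obtain ⟨G, hG⟩ : ∃ G, G = π' ⟨g', hg'T⟩ := ⟨_, rfl⟩
  have hGθ : ∀ w, G * θ w * G⁻¹ = θ (δ γ' w) := fun w => by
    obtain ⟨m, rfl⟩ := hπ₀s w
    rw [hδ, hγ'g, hθv, hθv, hG, ← map_inv, ← map_mul, ← map_mul]
    exact congrArg π' (Subtype.ext rfl)
  have hGX : ∀ w ∈ X, G * θ w = θ w * G := fun w hw => by
    have h := hGθ w
    rw [hXfix w hw] at h
    exact mul_inv_eq_iff_eq_mul.1 h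
  have hGp : G ^ p = θ (π₀ q) := by
    rw [hθv, hG, ← map_pow, hq]
    exact congrArg π' (Subtype.ext (by simp [incl]))
  have hαq2 : θ (π₀ q) ^ μ = θ (δ α (π₀ q)) := by
    obtain ⟨w, hwdef⟩ : ∃ w, w = π₀ (r₁ * m₂) := ⟨_, rfl⟩
    have hwX : w ∈ X := by rw [hwdef, map_mul]; exact mul_mem (hZX hr₁Z) hm₂X
    have h1 : θ (π₀ (α₀ q)) = (θ w * G ^ μ) ^ p := by
      have h2 : (α₀ q : Ω) = ((r₁ : Ω) * ((m₂ : Ω) * (g' : Ω) ^ μ)) ^ p := by
        rw [← hχx, show ((r₁ : Ω) * ((m₂ : Ω) * (g' : Ω) ^ μ)) =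
          (r₁ : Ω) * ((⟨m₂, le_normalizerIn hNS m₂.2⟩ * g' ^ μ :
            normalizerIn S (normalizerIn S E)) : Ω) by simp, ← hr₁, ← map_pow]
        exact congrArg χ (Subtype.ext (by rw [hq]; rfl))
      rw [hθv, hwdef, hθv, hG, ← map_pow, ← map_mul, ← map_pow]
      refine congrArg π' (Subtype.ext ?_)
      show (α₀ q : Ω) = _
      rw [h2]
      simp [incl, mul_assoc]
    have hcomm : Commute (θ w) (G ^ μ) :=
      (show Commute (θ w) G from (hGX w hwX).symm).pow_right μ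
    rw [hcomm.mul_pow, ← map_pow, hQexp, map_one, one_mul, ← pow_mul, mul_comm, pow_mul, hGp] at h1
    rw [← h1, hδ, hαdef]
  rw [← map_pow] at hαq2
  have hq1 : π₀ q = 1 := by
    have h1 := hθinj hαq2
    have e : ∀ a b : ℤ, j c₁ ^ a * j v₁ ^ b = j (c₁ ^ a * v₁ ^ b) := fun a b => by
      rw [map_mul, map_zpow, map_zpow]
    rw [hαq, hqe, e, e, ← map_pow] at h1
    have h2 := hjinj h1
    rw [mul_pow, ← zpow_natCast, ← zpow_natCast, ← zpow_mul, ← zpow_mul] at h2
    have h3 : c₁ ^ (i * μ - i) * v₁ ^ (k * μ - (l' * i + t * k)) = 1 := by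
      rw [zpow_sub, zpow_sub, mul_mul_mul_comm, ← mul_inv, h2, mul_inv_cancel]
    obtain ⟨ha', hb'⟩ := hindep _ _ h3
    have hi : (p : ℤ) ∣ i := by
      have h4 := dvd_sub ha' (Dvd.dvd.mul_left hμ i)
      rw [show i * μ - i - i * ((μ : ℤ) - t ^ 3) = i * (t ^ 3 - 1) by ring] at h4
      exact (hpZ.dvd_or_dvd h4).resolve_right (ht 3 (by simp))
    have hk : (p : ℤ) ∣ k := by
      have h4 := dvd_add (dvd_sub hb' (Dvd.dvd.mul_left hμ k)) (Dvd.dvd.mul_left hi l')
      rw [show k * μ - (l' * i + t * k) - k * ((μ : ℤ) - t ^ 3) + l' * i = k * (t * (t * t - 1))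
        by ring] at h4
      refine (hpZ.dvd_or_dvd h4).resolve_right fun h5 => ?_
      exact (hpZ.dvd_or_dvd h5).elim ht0 ht2
    obtain ⟨i', rfl⟩ := hi
    obtain ⟨k', rfl⟩ := hk
    rw [hqe, zpow_mul, zpow_mul, zpow_natCast, zpow_natCast, hQexp, hQexp, one_zpow, one_zpow,
      one_mul]
  -- an elementary section of order `p ^ 4`
  obtain ⟨B, hB⟩ : ∃ B, B = Subgroup.closure (θ '' X ∪ {G}) := ⟨_, rfl⟩
  have hcomm : ∀ a ∈ θ '' X ∪ {G}, ∀ b ∈ θ '' X ∪ {G}, a * b = b * a := by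
    rintro _ (⟨a, ha, rfl⟩ | rfl) _ (⟨b, hb, rfl⟩ | rfl)
    · rw [← map_mul, ← map_mul, hXcomm a ha b hb]
    · exact (hGX a ha).symm
    · exact hGX b hb
    · rfl
  haveI hBc : IsMulCommutative B := hB ▸ Subgroup.isMulCommutative_closure hcomm
  have hBexp : ∀ a ∈ B, a ^ p = 1 := by
    intro a ha
    rw [hB] at ha
    induction ha using Subgroup.closure_induction with
    | mem a ha =>
      rcases ha with ⟨w, -, rfl⟩ | rfl
      · rw [← map_pow, hQexp, map_one]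
      · rw [hGp, hq1, map_one]
    | one => exact one_pow p
    | mul a b ha hb iha ihb =>
      have ha'' : a ∈ B := hB.symm ▸ ha
      have hb'' : b ∈ B := hB.symm ▸ hb
      rw [(show Commute a b from
        congrArg Subtype.val (hBc.is_comm.comm ⟨a, ha''⟩ ⟨b, hb''⟩)).mul_pow,
        iha, ihb, one_mul]
    | inv a ha iha => rw [inv_pow, iha, inv_one]
  have hle' : X.map θ ≤ B := by
    rintro _ ⟨w, hw, rfl⟩
    rw [hB]
    exact Subgroup.subset_closure (Or.inl ⟨w, hw, rfl⟩)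
  have hBX : X.map θ = B := by
    refine Subgroup.eq_of_le_of_card_ge hle' ?_
    rw [Subgroup.card_map_of_injective hθinj, hXc]
    refine (SecLE.quotient Φ' hsec B ⊥ bot_le (fun a _ b hb => by rw [Subgroup.mem_bot] at hb; simp [hb])
      (fun a ha b hb => by
        rw [Subgroup.mem_bot, commutatorElement_eq_one_iff_mul_comm]
        exact congrArg Subtype.val (hBc.is_comm.comm ⟨a, ha⟩ ⟨b, hb⟩))
      (fun a ha => by rw [Subgroup.mem_bot]; exact hBexp a ha)).trans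
      (by rw [Subgroup.card_bot, mul_one])
  obtain ⟨w, -, hw⟩ : G ∈ X.map θ := hBX ▸ hB ▸ Subgroup.subset_closure (Or.inr rfl)
  obtain ⟨m, rfl⟩ := hπ₀s w
  rw [hθv, hG] at hw
  have h := QuotientGroup.eq.1 hw
  rw [hΦ'] at h
  obtain ⟨f, -, hf⟩ := h
  refine hg'N ?_
  have h' : (g' : Ω) = ((m * f : normalizerIn S E) : Ω) := by
    have h'' := congrArg (fun w : ↥(normalizerIn S E ⊔ Subgroup.zpowers (g : Ω)) => (w : Ω)) hf
    simp [incl] at h''
    simp [h'']
  rw [h']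
  exact (m * f).2

/-- Three-generated essential subgroups are normal. -/
theorem essential_normal (hS : IsPGroup p S) (hsr : SectionalPRankLE p 3 ↥S) (hF : F.IsSaturated p)
    (hE : F.IsEssential p E) (hp5 : 5 ≤ p) (hrk : (frattini E).index = p ^ 3) :
    S ≤ Subgroup.normalizer (E : Set Ω) := by
  by_cases h : normalizerIn S E = S
  · exact h.ge.trans inf_le_right
  obtain ⟨g, hg, hgp⟩ := CfsgLib.Fusion.exists_step hS (normalizerIn_le E) h
  exact (false_of_quadratic hS hsr hF hE hp5 hrk g hg hgp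
    fun n e => quadratic_all hS hsr hF hE hp5 hrk g hg hgp n e).elim

end CfsgLib.Fusion.RankThree
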