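import Cfsg.Agent.Lib.Fusion.OddFix
import Cfsg.Agent.Lib.Fusion.NormArgument
import Cfsg.Agent.Lib.Fusion.CenterPowers

/-!
# For odd `p` a normal subsystem with `C_S(E) ≤ T` has `C_S(T) ≤ T`

An element of `C_S(T)`, adjusted by an element of `Z(T)`, is fixed by the lifts at `J(T)` and at `T`.
Being fixed passes down to all subgroups centric in `T`: through `J(R)` when `J(N_T(R)) ≤ R`, and by
the norm argument otherwise.
-/

set_option autoImplicit false

namespace CfsgLib.Fusion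

open Cfsg Cfsg.FusionSystem

universe u

variable {Ω : Type u} [Group Ω] {S T : Subgroup Ω} {F : FusionSystem S} {E : FusionSystem T}
  {p : ℕ}

/-- The automorphisms in `E` of `R` extend fixing `Y`. -/
def GoodAut (F : FusionSystem S) (E : FusionSystem T) (Y R : Subgroup Ω) : Prop :=
  ∀ a ∈ E.autGroup R, FixExt F Y R (R.subtype.comp a.toMonoidHom)

/-- Roots of order prime to `p` in a `p`-group are unique. -/
theorem eq_of_pow_eq_of_coprime {G : Type*} [Group G] {k : ℕ} (hk : k.Coprime p) {a b : G} {e : ℕ}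
    (ha : a ^ p ^ e = 1) (hb : b ^ p ^ e = 1) (h : a ^ k = b ^ k) : a = b := by
  have h1 := Nat.gcd_eq_gcd_ab k (p ^ e)
  rw [Nat.Coprime.gcd_eq_one (hk.pow_right e), Nat.cast_one] at h1
  rw [← zpow_one a, ← zpow_one b, h1, zpow_add, zpow_add, zpow_mul, zpow_mul, zpow_mul, zpow_mul,
    zpow_natCast, zpow_natCast, zpow_natCast, zpow_natCast, ha, hb, h]

variable [Fact p.Prime] [Finite S]

/-- Maps between subgroups of order at least `N₀` extend. -/
theorem fixExt_of_good (hS : IsPGroup p S) (hE : E.IsNormalIn F p) {Y : Subgroup Ω}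
    (hYC : Y ≤ centralizerIn S T) (N₀ : ℕ) (htop : GoodAut F E Y T)
    (hgood : ∀ P : Subgroup Ω, TCentric F T P → N₀ < Nat.card (normalizerIn T P) →
      GoodAut F E Y P) :
    ∀ (P : Subgroup Ω), N₀ ≤ Nat.card P → ∀ φ ∈ E.Hom P, FixExt F Y P φ := by
  obtain ⟨⟨hEs, hF, hEi⟩, -⟩ := hE
  have hT := hEi.2.1
  have := finite_le hT.1
  have hTp : IsPGroup p T := hS.to_le hT.1
  have hYS : Y ≤ S := hYC.trans (centralizerIn_le T)
  let EY : FusionSystem T :=
    { Hom := fun P => {φ | φ ∈ E.Hom P ∧ (N₀ ≤ Nat.card P → FixExt F Y P φ)}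
      le_of_mem := fun h => E.le_of_mem h.1
      injective_of_mem := fun h => E.injective_of_mem h.1
      conj_mem := fun {P g} hP hg => ⟨E.conj_mem hP hg, fun _ => ⟨conjHom (P ⊔ Y) g,
        F.conj_mem (sup_le (hP.trans hT.1) hYS) (hT.1 hg), fun x => rfl, fun y => by
          show g * (y : Ω) * g⁻¹ = y
          rw [(mem_centralizerIn.1 (hYC y.2)).2 g hg, mul_inv_cancel_right]⟩⟩
      comp_mem := fun {P Q φ ψ} hφ hψ h => by
        refine ⟨E.comp_mem hφ.1 hψ.1 h, fun hN => ?_⟩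
        have := finite_le ((E.le_of_mem hψ.1).1.trans hT.1)
        have hPQ : Nat.card P ≤ Nat.card Q := Nat.card_le_card_of_injective
          (fun x => (⟨φ x, h x⟩ : Q))
          fun x y hxy => E.injective_of_mem hφ.1 (congrArg Subtype.val hxy :)
        obtain ⟨a, ha, haP, haY⟩ := hφ.2 hN
        obtain ⟨b, hb, hbQ, hbY⟩ := hψ.2 (hN.trans hPQ)
        have hv : ∀ k, a k ∈ Q ⊔ Y := fun k => range_le_of_gens
          (fun x => Subgroup.mem_sup_left (by rw [haP]; exact h x))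
          (fun y => Subgroup.mem_sup_right (by rw [haY]; exact y.2)) ⟨k, rfl⟩
        exact ⟨_, F.comp_mem ha hb hv,
          fun x => (congrArg b (Subtype.ext (haP x))).trans (hbQ ⟨φ x, h x⟩),
          fun y => (congrArg b (Subtype.ext (haY y))).trans (hbY y)⟩
      inv_mem := fun {P φ} hφ => by
        obtain ⟨χ, hχ, hχv⟩ := E.inv_mem hφ.1
        refine ⟨χ, ⟨hχ, fun hN => ?_⟩, hχv⟩
        rw [← Nat.card_congr (MonoidHom.ofInjective (E.injective_of_mem hφ.1)).toEquiv] at hN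
        obtain ⟨a, ha, haP, haY⟩ := hφ.2 hN
        have hle : φ.range ⊔ Y ≤ a.range := sup_le
          (fun _ ⟨x, hx⟩ => ⟨Subgroup.inclusion le_sup_left x, (haP x).trans hx⟩)
          (fun y hy => ⟨Subgroup.inclusion le_sup_right ⟨y, hy⟩, haY ⟨y, hy⟩⟩)
        obtain ⟨ι, hι, -, hιl, -⟩ := exists_inv ha rfl
        refine ⟨_, restrict_mem hι hle, ?_, fun y =>
          (congrArg ι (Subtype.ext (haY y).symm)).trans
            (hιl (Subgroup.inclusion le_sup_right y) ⟨_, rfl⟩)⟩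
        rintro ⟨_, x, rfl⟩
        exact (congrArg ι (Subtype.ext (haP x).symm)).trans
          ((hιl (Subgroup.inclusion le_sup_left x) ⟨_, rfl⟩).trans (hχv x).symm) }
  suffices h : E ≤ EY from fun P hN φ hφ => (h P hφ).2 hN
  refine alperin_gen hTp hEs EY ?_ ?_
  · intro a ha
    exact (mem_autGroup_iff le_rfl).2 ⟨(mem_autGroup_iff le_rfl).1 ha, fun _ => htop a ha⟩
  intro P hPT hess _ a ha
  refine Subgroup.mem_sup_left ((mem_autGroup_iff hPT.le).2
    ⟨(mem_autGroup_iff hPT.le).1 ha, fun hN => ?_⟩)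
  refine hgood P (tCentric_of_centric hEi hess.1) (hN.trans_lt ?_) a ha
  exact card_lt_card_of_lt (S := S) ((normalizerIn_le P).trans hT.1) (lt_normalizerIn hTp hPT)

/-- At `T`. -/
theorem good_top (hS : IsPGroup p S) (hE : E.IsNormalIn F p) {Y : Subgroup Ω}
    (hYC : Y ≤ centralizerIn S T) (hTS : T ≤ S)
    (hfix : ∀ c ∈ Y, FixAt p F hTS (E.autGroup T) c) : GoodAut F E Y T := by
  obtain ⟨⟨hEs, hF, hEi⟩, hext⟩ := hE
  have hT := hEi.2.1
  have := finite_le hT.1
  have hTp : IsPGroup p T := hS.to_le hT.1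
  have hYS : Y ≤ S := hYC.trans (centralizerIn_le T)
  have := finite_mulAut_of_le (S := S) hT.1
  have hsyl := (IsSaturated.fullyAutomized hTp hEs (isFullyNormalized_self (F := E))).2
  suffices h : E.autGroup T ≤ fixGroup F Y hYS hT.1 from h
  refine le_of_sylow_of_coprime hsyl ?_ ?_
  · intro a ha
    obtain ⟨t, ht, htv⟩ := mem_autInducedBy_iff.1 ha
    exact ⟨conjHom (T ⊔ Y) t, F.conj_mem (sup_le hT.1 hYS) (hT.1 ht),
      fun x => (htv x).symm, fun y => by
        show t * (y : Ω) * t⁻¹ = y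
        rw [(mem_centralizerIn.1 (hYC y.2)).2 t ht, mul_inv_cancel_right]⟩
  · rintro a ha ⟨n, hn, hcop⟩
    obtain ⟨β, hβ, hβv, hβz⟩ := hext a ha
    have hl : Liftable F T a := ⟨β, ⟨hβ, fun r hr => (hβv ⟨r, hr⟩).symm ▸ (a ⟨r, hr⟩).2,
      fun c hc => (hβz c hc).1⟩, fun r hr => hβv ⟨r, hr⟩⟩
    obtain ⟨x, hx, hord, hxa⟩ := Liftable.exists_pPrime hT.1 hl hn hcop
    refine ⟨_, restrict_mem ((mem_autGroup_iff (sup_centralizerIn_le_S hT.1)).1 hx.1)
      (sup_le le_sup_left (hYC.trans le_sup_right)), fun r => hxa r r.2, fun y => ?_⟩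
    exact congrArg Subtype.val
      (hfix y y.2 x ⟨hx, a, ha, hxa⟩ hord ⟨y, Subgroup.mem_sup_right (hYC y.2)⟩ rfl)

theorem autInducedBy_le_pGen (hTp : IsPGroup p T) {R : Subgroup Ω} (hRT : R ≤ T) :
    autInducedBy T R ≤ pGen p E R := fun b hb => Subgroup.subset_closure
  ⟨autInducedBy_le_autGroup hRT hb, by
    obtain ⟨k, hk⟩ := isPGroup_autInducedBy (P := R) hTp ⟨b, hb⟩
    exact ⟨k, congrArg Subtype.val hk⟩⟩

/-- At a fully normalized `R < T`. -/
theorem good_of_fixAt (hS : IsPGroup p S) (hE : E.IsNormalIn F p) {Y : Subgroup Ω}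
    (hYC : Y ≤ centralizerIn S T) {R : Subgroup Ω} (hlt : R < T) (hR : F.IsFullyNormalized R)
    (hRc : centralizerIn T R ≤ R) (hfix : ∀ c ∈ Y, FixAt p F hR.1 (pGen p E R) c)
    (hN : ∀ φ ∈ E.Hom (normalizerIn T R), FixExt F Y (normalizerIn T R) φ) :
    GoodAut F E Y R := by
  obtain ⟨⟨hEs, hF, hEi⟩, -⟩ := hE
  have hsub := hEi.1
  have hT := hEi.2.1
  have hRT := hlt.le
  have := finite_le hT.1
  have := finite_mulAut_of_le (S := S) hR.1
  have hTp : IsPGroup p T := hS.to_le hT.1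
  have hYS : Y ≤ S := hYC.trans (centralizerIn_le T)
  have hRfn := fullyNormalized_of_ambient hS hF hT hsub hR hRT
  have hsyl := (IsSaturated.fullyAutomized hTp hEs hRfn).2
  have hP : autInducedBy T R ≤ E.autGroup R := autInducedBy_le_autGroup hRT
  have hPA : autInducedBy T R ≤ pGen p E R := autInducedBy_le_pGen hTp hRT
  have hYR : Y ≤ centralizerIn S R := hYC.trans (centralizerIn_antitone hRT)
  have hsylA := IsSylowIn.of_le hsyl hP (pGen_le R) hPA
  have hL : pGen p E R ≤ fixGroup F Y hYS hR.1 := by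
    refine le_of_sylow_of_coprime hsylA ?_ ?_
    · intro a ha
      obtain ⟨t, ht, htv⟩ := mem_autInducedBy_iff.1 ha
      exact ⟨conjHom (R ⊔ Y) t, F.conj_mem (sup_le hR.1 hYS) (hT.1 ht),
        fun x => (htv x).symm, fun y => by
          show t * (y : Ω) * t⁻¹ = y
          rw [(mem_centralizerIn.1 (hYC y.2)).2 t ht, mul_inv_cancel_right]⟩
    · rintro a ha ⟨n, hn, hcop⟩
      obtain ⟨x, hx, hord, hxa⟩ := Liftable.exists_pPrime hR.1
        (pGen_le_liftGroup hS hF hEs hEi hRT hR hRc ha).2 hn hcop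
      refine ⟨_, restrict_mem ((mem_autGroup_iff (sup_centralizerIn_le_S hR.1)).1 hx.1)
        (sup_le le_sup_left (hYR.trans le_sup_right)), fun r => hxa r r.2, fun y => ?_⟩
      exact congrArg Subtype.val
        (hfix y y.2 x ⟨hx, a, ha, hxa⟩ hord ⟨y, Subgroup.mem_sup_right (hYR y.2)⟩ rfl)
  intro a ha
  -- Frattini
  have hXL : (autInducedBy T R).map (MulAut.conj a).toMonoidHom ≤ pGen p E R := by
    rintro _ ⟨b, hb, rfl⟩
    refine Subgroup.subset_closure ⟨mul_mem (mul_mem ha (hP hb)) (inv_mem ha), ?_⟩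
    obtain ⟨k, hk⟩ := isPGroup_autInducedBy (P := R) hTp ⟨b, hb⟩
    refine ⟨k, ?_⟩
    show (MulAut.conj a b) ^ p ^ k = 1
    rw [← map_pow, show b ^ p ^ k = 1 from congrArg Subtype.val hk, map_one]
  have : Finite (pGen p E R) := inferInstance
  obtain ⟨k, hk, hkv⟩ :=
    hsylA.exists_conj_mem hXL ((isPGroup_autInducedBy (P := R) hTp).map _)
  have hn : k * a ∈ E.autGroup R := mul_mem (pGen_le R hk) ha
  have hnorm : ∀ b ∈ autInducedBy T R, k * a * b * (k * a)⁻¹ ∈ autInducedBy T R := by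
    intro b hb
    have := hkv _ (Subgroup.mem_map_of_mem _ hb)
    simp only [MulEquiv.coe_toMonoidHom, MulAut.conj_apply] at this
    rwa [show k * a * b * (k * a)⁻¹ = k * (a * b * a⁻¹) * k⁻¹ by group]
  have he : IsoIn E ((k * a : MulAut R) : R ≃* R) := (mem_autGroup_iff_isoIn hRT).1 hn
  have hQ : normalizerIn T R ≤ extender T R (isoHom ((k * a : MulAut R) : R ≃* R)) := by
    intro t ht
    obtain ⟨h, hh, hhv⟩ := mem_autInducedBy_iff.1 (hnorm _ (conjAut_mem ⟨t, ht⟩))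
    refine mem_extender_iff.2 ⟨ht.1, ht.2, h, hh, fun x hx => ?_⟩
    have h1 := hhv ((k * a) x)
    rw [← MulAut.mul_apply, inv_mul_cancel_right, MulAut.mul_apply] at h1
    exact h1
  obtain ⟨φ, hφ, hφv⟩ := exists_extension
    (IsSaturated.receptive hTp hEs (IsSaturated.fullyCentralized hTp hEs hRfn)) he
    (le_normalizerIn hRT) hQ
  obtain ⟨ψ, hψ, hψQ, hψY⟩ := hN φ hφ
  have hka : k * a ∈ fixGroup F Y hYS hR.1 :=
    ⟨_, restrict_mem hψ (sup_le_sup_right (le_normalizerIn hRT) Y),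
      fun x => (hψQ (Subgroup.inclusion (le_normalizerIn hRT) x)).trans (hφv x),
      fun y => hψY y⟩
  have h := Subgroup.mul_mem _ (Subgroup.inv_mem _ (hL hk)) hka
  rw [inv_mul_cancel_left] at h
  exact h

/-- When `J(N_T(R)) ≤ R` and `J(R) = J(T)`. -/
theorem fixAt_of_top_thompsonA (hS : IsPGroup p S) (hE : E.IsNormalIn F p) {R : Subgroup Ω}
    (hRT : R ≤ T) (hR : F.IsFullyNormalized R)
    (hJ : F.IsFullyNormalized (thompsonSubgroupAOf T))
    (heq : thompsonSubgroupAOf R = thompsonSubgroupAOf T) {c : Ω} (hc : c ∈ centralizerIn S T)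
    (hfix : FixAt p F hJ.1 (pGen p E (thompsonSubgroupAOf T)) c) :
    FixAt p F hR.1 (pGen p E R) c := by
  rintro x ⟨hx, d, hd, hxd⟩ ⟨n, hn, hcop⟩ y rfl
  have hT := hE.1.2.2.2.1
  refine fix_of_sub hS hE (K := thompsonSubgroupAOf T) (heq ▸ thompsonAOf_le R) hRT hJ ?_
    (fun a r hr => ?_) ?_ le_sup_left (sup_centralizerIn_le_S hR.1) hx.1 hn hcop hd hxd y
    (centralizerIn_antitone hRT hc) (hx.2.2 y (centralizerIn_antitone hRT hc)) hfix
  · intro z hz
    exact mem_thompsonA_of_centralizes hT.1 hz.1 (mem_centralizerIn.1 hz).2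
  · rw [← heq] at hr ⊢
    exact thompsonA_aut a r hr
  · rw [← heq]
    exact center_le_thompsonA hR.1

/-- When `J(N_T(R)) ≤ R` and `J(R) ≠ J(T)`. -/
theorem fixAt_of_thompsonA_ne (hS : IsPGroup p S) (hE : E.IsNormalIn F p) {Y : Subgroup Ω}
    (hYC : Y ≤ centralizerIn S T)
    (hinv : ∀ β ∈ F.autGroup (T ⊔ centralizerIn S T), ∀ y : ↥(T ⊔ centralizerIn S T),
      (y : Ω) ∈ Y → ((β y : _) : Ω) ∈ Y)
    {R : Subgroup Ω} (hRT : R ≤ T) (hR : F.IsFullyNormalized R)
    (hJ : thompsonSubgroupAOf (normalizerIn T R) ≤ R)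
    (hne : thompsonSubgroupAOf R ≠ thompsonSubgroupAOf T)
    (hgen : ∀ (P : Subgroup Ω), Nat.card (normalizerIn T R) ≤ Nat.card P →
      ∀ φ ∈ E.Hom P, FixExt F Y P φ)
    (hbig : ∀ P : Subgroup Ω, TCentric F T P →
      Nat.card (normalizerIn T R) < Nat.card (normalizerIn T P) → GoodAut F E Y P)
    {c : Ω} (hc : c ∈ Y) : FixAt p F hR.1 (pGen p E R) c := by
  have hE' := hE
  obtain ⟨⟨hEs, hF, hEi⟩, -⟩ := hE'
  have hT := hEi.2.1
  obtain ⟨hKc, hKbig⟩ := thompsonA_step hS hF hT hR hRT hJ hne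
  rintro x ⟨hx, d, hd, hxd⟩ ⟨n, hn, hcop⟩ y rfl
  set K := thompsonSubgroupAOf R with hK
  have hKT : K ≤ T := hKc.1
  have hKS : K ≤ S := hKT.trans hT.1
  have hKR : K ≤ R := thompsonAOf_le R
  have hWS : R ⊔ centralizerIn S R ≤ S := sup_centralizerIn_le_S hR.1
  obtain ⟨K', hKK', hK'⟩ := exists_fullyNormalized (F := F) hKS
  obtain ⟨f, hf, -, himg⟩ := exists_normalizer_map hS (IsSaturated.fullyAutomized hS hF hK')
    (IsSaturated.receptive hS hF (IsSaturated.fullyCentralized hS hF hK')) hKK'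
  have hWN : R ⊔ centralizerIn S R ≤ normalizerIn S K :=
    sup_le (fun r hr => ⟨hR.1 hr, normalizer_le_normalizer_thompsonA R (Subgroup.le_normalizer hr)⟩)
      fun z hz => ⟨hz.1, Subgroup.mem_normalizer_iff.2 fun w => by
        constructor
        · intro hw
          rw [← (mem_centralizerIn.1 hz).2 w (hKR hw), mul_inv_cancel_right]
          exact hw
        · intro hw
          have h1 := (mem_centralizerIn.1 hz).2 _ (hKR hw)
          have h2 : z * w * z⁻¹ = w := by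
            have := congrArg (fun v => z⁻¹ * v * 1) h1
            simpa [mul_assoc] using this.symm
          rwa [h2] at hw⟩
  obtain ⟨eW, heW, heWv⟩ := exists_iso (restrict_mem hf hWN)
    (range_restrict f hWN : (f.comp (Subgroup.inclusion hWN)).range =
      img f (R ⊔ centralizerIn S R))
  have hRN : R ≤ normalizerIn S K := le_sup_left.trans hWN
  obtain ⟨eR, heR, heRv⟩ := exists_iso (restrict_mem hf hRN)
    (range_restrict f hRN : (f.comp (Subgroup.inclusion hRN)).range = img f R)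
  have hR'T : img f R ≤ T := by
    rintro _ ⟨z, hz, rfl⟩
    exact StronglyClosed.apply_mem hT hf (hRT hz)
  have hR'W : img f R ≤ img f (R ⊔ centralizerIn S R) := img_mono f le_sup_left
  have hJ' : thompsonSubgroupAOf (img f R) = K' := by
    rw [thompsonA_img_eq hf hRN, ← hK, himg]
  have hK'c : TCentric F T K' := hKc.conj hT hKK'
  have hyC : (y : Ω) ∈ centralizerIn S R := centralizerIn_antitone hRT (hYC hc)
  have hyT : (y : Ω) ∈ centralizerIn S T := hYC hc
  -- the image of `c`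
  have hres : ∀ (r : Ω) (hr : r ∈ img f R),
      ((MulAut.congr eW x ⟨r, hR'W hr⟩ : img f (R ⊔ centralizerIn S R)) : Ω) =
        ((MulAut.congr eR d ⟨r, hr⟩ : img f R) : Ω) := by
    intro r hr
    obtain ⟨z, hz⟩ := eR.surjective ⟨r, hr⟩
    have h1 : (⟨r, hR'W hr⟩ : img f (R ⊔ centralizerIn S R)) =
        eW ⟨z, le_sup_left (b := centralizerIn S R) z.2⟩ :=
      Subtype.ext (((congrArg Subtype.val hz).symm.trans (heRv z)).trans
        (heWv ⟨z, le_sup_left (b := centralizerIn S R) z.2⟩).symm)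
    rw [h1, show MulAut.congr eW x (eW ⟨z, le_sup_left (b := centralizerIn S R) z.2⟩) =
      eW (x ⟨z, le_sup_left (b := centralizerIn S R) z.2⟩) by simp [MulAut.congr], ← hz,
      show MulAut.congr eR d (eR z) = eR (d z) by simp [MulAut.congr], heWv, heRv]
    exact congrArg f (Subtype.ext (hxd z z.2))
  have hpow : MulAut.congr eW x ^ n = 1 := by rw [← map_pow, hn, map_one]
  have hcongr : MulAut.congr eW x (eW y) = eW (x y) := by simp [MulAut.congr]
  have hy'C : ((eW y : img f (R ⊔ centralizerIn S R)) : Ω) ∈ centralizerIn S (img f R) := by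
    refine mem_centralizerIn.2 ⟨heW.le_right (eW y).2, ?_⟩
    rintro _ ⟨z, hz, rfl⟩
    rw [heWv]
    show f z * f (Subgroup.inclusion hWN y) = f (Subgroup.inclusion hWN y) * f z
    rw [← map_mul, ← map_mul]
    exact congrArg f (Subtype.ext ((mem_centralizerIn.1 hyC).2 _ hz))
  have hy'R : (((eW y)⁻¹ * MulAut.congr eW x (eW y) : img f (R ⊔ centralizerIn S R)) : Ω) ∈
      img f R := by
    rw [hcongr, ← map_inv, ← map_mul, heWv]
    exact ⟨_, hx.2.2 y hyC, rfl⟩
  have hfix := fix_of_sub hS hE (K := K') (hJ' ▸ thompsonAOf_le _) hR'T hK'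
    (hK'c.2 K' (isConj_refl hK'.1))
    (fun a r hr => by rw [← hJ'] at hr ⊢; exact thompsonA_aut a r hr)
    (by rw [← hJ']; exact center_le_thompsonA (hR'T.trans hT.1)) hR'W heW.le_right
    (heW.congr_autGroup.le ⟨x, hx.1, rfl⟩) hpow hcop (pGen_congr hEi hRT heR hd) hres (eW y)
    hy'C hy'R ?_
  · exact eW.injective (hcongr.symm.trans hfix)
  -- being fixed at `K'`
  rintro z ⟨hz, b, hb, hzb⟩ hord w hw
  have hfc := IsSaturated.fullyCentralized hS hF hK'
  obtain ⟨hle, -⟩ : normalizerIn T K ≤ normalizerIn S K ∧ True :=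
    ⟨fun g hg => ⟨hT.1 hg.1, hg.2⟩, trivial⟩
  obtain ⟨α, hα, φ₀, hφ₀, hv₀⟩ := hEi.2.2.2 (normalizerIn T K) (normalizerIn_le K) _
    (restrict_mem hf hle)
  have hNcard : Nat.card (normalizerIn T R) ≤ Nat.card (normalizerIn T K) := hKbig.le
  obtain ⟨g₀, hg₀, hg₀N, hg₀Y⟩ := hgen _ hNcard φ₀ hφ₀
  obtain ⟨κ, hκ, hκT, -⟩ := exists_lift hS hF
    (IsSaturated.fullyCentralized hS hF (fullyNormalized_closed hT)) hα
  have hTC := sup_centralizerIn_le_S (S := S) hT.1
  have hKN : K ≤ normalizerIn T K := le_normalizerIn hKT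
  have hg₀v : ∀ k, g₀ k ∈ T ⊔ centralizerIn S T := fun k => range_le_of_gens
    (fun v => Subgroup.mem_sup_left (by rw [hg₀N]; exact hom_apply_mem hφ₀ v))
    (fun v => Subgroup.mem_sup_right (by rw [hg₀Y]; exact hYC v.2)) ⟨k, rfl⟩
  have hg := restrict_mem (F.comp_mem hg₀ ((mem_autGroup_iff hTC).1 hκ) hg₀v)
    (sup_le_sup hKN (Subgroup.zpowers_le.2 hc))
  obtain ⟨g, hgdef⟩ : ∃ g, g = ((((T ⊔ centralizerIn S T).subtype.comp κ.toMonoidHom).comp
      (g₀.codRestrict _ hg₀v)).comp (Subgroup.inclusion (sup_le_sup hKN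
        (Subgroup.zpowers_le.2 hc)))) := ⟨_, rfl⟩
  rw [← hgdef] at hg
  have hgK : ∀ v : K, g (Subgroup.inclusion le_sup_left v) =
      f (Subgroup.inclusion (hKR.trans hRN) v) := by
    intro v
    rw [hgdef]
    show ((κ ⟨g₀ (Subgroup.inclusion le_sup_left (Subgroup.inclusion hKN v)), _⟩ : _) : Ω) = _
    have h1 := hv₀ (Subgroup.inclusion hKN v) (hom_apply_mem hφ₀ _)
    refine Eq.trans ?_ h1.symm
    refine Eq.trans ?_ (hκT _ (hom_apply_mem hφ₀ _))
    exact congrArg (fun k : ↥(T ⊔ centralizerIn S T) => ((κ k : _) : Ω))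
      (Subtype.ext (hg₀N _))
  obtain ⟨yT, hyTv⟩ : ∃ yT : ↥(T ⊔ centralizerIn S T), (yT : Ω) = y :=
    ⟨⟨y, Subgroup.mem_sup_right hyT⟩, rfl⟩
  let yK : ↥(K ⊔ Subgroup.zpowers (y : Ω)) :=
    ⟨y, Subgroup.mem_sup_right (Subgroup.mem_zpowers _)⟩
  have hgy : g yK = ((κ yT : _) : Ω) := by
    rw [hgdef]
    show ((κ ⟨g₀ (Subgroup.inclusion _ yK), _⟩ : _) : Ω) = _
    refine congrArg (fun k : ↥(T ⊔ centralizerIn S T) => ((κ k : _) : Ω)) (Subtype.ext ?_)
    exact (hg₀Y ⟨y, hc⟩).trans hyTv.symm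
  have hc1Y : g yK ∈ Y := by rw [hgy]; exact hinv κ hκ yT (hyTv.symm ▸ hc)
  have hc1C : g yK ∈ centralizerIn S K' := centralizerIn_antitone hK'c.1 (hYC hc1Y)
  obtain ⟨w₁, hw₁⟩ : ∃ w₁ : ↥(K' ⊔ centralizerIn S K'), (w₁ : Ω) = g yK :=
    ⟨⟨_, Subgroup.mem_sup_right hc1C⟩, rfl⟩
  have hzw₁ : z w₁ = w₁ := by
    obtain ⟨ψ, hψ, hψK, hψY⟩ := hbig K' hK'c (hKbig.trans_le
      (card_normalizerIn_le hS hF hT hK' hKK')) b (pGen_le K' hb)
    exact fix_of_fixExt hS hF hfc hz hord hψ le_sup_left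
      (fun r hr => (hψK ⟨r, hr⟩).trans (hzb r hr).symm) w₁ (hw₁.symm ▸ hc1C)
      (Subgroup.mem_sup_right (hw₁.symm ▸ hc1Y))
      ((congrArg ψ (Subtype.ext hw₁)).trans ((hψY ⟨_, hc1Y⟩).trans hw₁.symm))
  -- `f` and `g` differ by a focal element
  obtain ⟨ι, hι, hιr, hιl, -⟩ := exists_inv hg rfl
  have hK0 : K ⊔ Subgroup.zpowers (y : Ω) ≤ normalizerIn S K :=
    sup_le (hKR.trans hRN) (Subgroup.zpowers_le.2 (hWN y.2))
  have hιm : ∀ k, ι k ∈ normalizerIn S K := fun k => hK0 (hιr.le ⟨k, rfl⟩)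
  have hχ := F.comp_mem hι hf hιm
  have hK'g : K' ≤ g.range := by
    rw [← himg]
    rintro _ ⟨v, hv, rfl⟩
    exact ⟨Subgroup.inclusion le_sup_left ⟨v, hv⟩, hgK ⟨v, hv⟩⟩
  have hχfix : ∀ r : g.range, (r : Ω) ∈ K' → (f.comp (ι.codRestrict _ hιm)) r = r := by
    intro r hr
    obtain ⟨v, hv, hvr⟩ := mem_img.1 (himg.ge hr)
    have h2 : g (Subgroup.inclusion le_sup_left ⟨v, hv⟩) = r := (hgK ⟨v, hv⟩).trans hvr
    have h3 : ι r = v := by
      rw [show r = ⟨_, ⟨Subgroup.inclusion le_sup_left ⟨v, hv⟩, rfl⟩⟩ from Subtype.ext h2.symm]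
      exact hιl _ _
    exact (congrArg f (Subtype.ext h3)).trans hvr
  have hshift := shift_mem_centFocal hχ hK'g hχfix ⟨g yK, yK, rfl⟩ hc1C
  have hχy : (f.comp (ι.codRestrict _ hιm)) ⟨g yK, yK, rfl⟩ = (w : Ω) := by
    rw [hw, heWv]
    exact congrArg f (Subtype.ext (hιl yK ⟨yK, rfl⟩))
  rw [hχy] at hshift
  have h4 : z (w₁⁻¹ * w) = w₁⁻¹ * w := hz.fix_centFocal hS hF hfc hord _ (by
    rw [Subgroup.coe_mul, Subgroup.coe_inv, hw₁]
    exact hshift)
  rw [map_mul, map_inv, hzw₁] at h4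
  exact mul_left_cancel h4

/-- When `J(N_T(R)) ≰ R`: the norm argument. -/
theorem fixAt_of_quadratic (hp2 : p ≠ 2) (hS : IsPGroup p S) (hE : E.IsNormalIn F p)
    {Y : Subgroup Ω} (hYC : Y ≤ centralizerIn S T) {R : Subgroup Ω} (hRT : R ≤ T)
    (hR : F.IsFullyNormalized R) (hc : TCentric F T R)
    (hJ : ¬ thompsonSubgroupAOf (normalizerIn T R) ≤ R)
    (hup : ∀ Q : Subgroup Ω, TCentric F T Q →
      Nat.card (normalizerIn T R) ≤ Nat.card (normalizerIn T Q) → Nat.card R < Nat.card Q →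
        GoodAut F E Y Q)
    {c : Ω} (hcY : c ∈ Y) : FixAt p F hR.1 (pGen p E R) c := by
  classical
  have hE' := hE
  obtain ⟨⟨hEs, hF, hEi⟩, -⟩ := hE'
  have hT := hEi.2.1
  have := finite_le hT.1
  have := finite_le hR.1
  have := finite_mulAut_of_le (S := S) hR.1
  have hTp : IsPGroup p T := hS.to_le hT.1
  have hRc := hc.2 R (isConj_refl hR.1)
  have hfc := IsSaturated.fullyCentralized hS hF hR
  have hNS : normalizerIn T R ≤ S := (normalizerIn_le R).trans hT.1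
  have hRfn := fullyNormalized_of_ambient hS hF hT hEi.1 hR hRT
  have hPA : autInducedBy T R ≤ pGen p E R := autInducedBy_le_pGen hTp hRT
  have hsylA := IsSylowIn.of_le (IsSaturated.fullyAutomized hTp hEs hRfn).2
    (autInducedBy_le_autGroup hRT) (pGen_le R) hPA
  have hlift : ∀ a ∈ pGen p E R, Liftable F R a := fun a ha =>
    (pGen_le_liftGroup hS hF hEs hEi hRT hR hRc ha).2
  have hcR : c ∈ centralizerIn S R := centralizerIn_antitone hRT (hYC hcY)
  obtain ⟨k, hk, v, hvM, hvN, hvx⟩ := lift_average hS hF hT hRT hR hRc (pGen p E R) hPA hsylA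
    hlift (hYC hcY) (R ⊓ Subgroup.centralizer (R : Set Ω)) le_rfl
    (fun x hx y hy => ⟨hx.1.2.1 y hy.1, (hx.1.apply_centralizer hR.1 y
      (mem_centralizerIn.2 ⟨hR.1 hy.1, fun r hr => Subgroup.mem_centralizer_iff.1 hy.2 r hr⟩)).2⟩)
    (fun x hx y hy => by
      have hyC : (y : Ω) ∈ centralizerIn S R := hy.symm ▸ hcR
      exact ⟨hx.1.2.2 y hyC,
        (mul_mem (Subgroup.inv_mem _ hyC) (hx.1.apply_centralizer hR.1 y hyC)).2⟩)
  -- the action on `Z(R)`
  have hchar : ∀ a ∈ pGen p E R, ∀ z ∈ Subgroup.center R, (a : MulAut R) z ∈ Subgroup.center R := by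
    intro a _ z hz
    rw [Subgroup.mem_center_iff] at hz ⊢
    intro r
    rw [← MulAut.apply_inv_self R a r, ← map_mul, ← map_mul, hz]
  letI : CommGroup (Subgroup.center R) :=
    { (inferInstance : Group (Subgroup.center R)) with
      mul_comm := fun a b => Subtype.ext ((Subgroup.mem_center_iff.1 b.2) a) }
  set σ : pGen p E R →* MulAut (Subgroup.center R) :=
    subAct (pGen p E R) (Subgroup.center R) hchar with hσ
  let vZ : Subgroup.center R := ⟨⟨v, hvM.1⟩, Subgroup.mem_center_iff.2 fun r =>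
    Subtype.ext (Subgroup.mem_centralizer_iff.1 hvM.2 r r.2)⟩
  obtain ⟨P, hP⟩ := hsylA
  let cN : normalizerIn T R →* pGen p E R :=
    MonoidHom.mk' (fun g => ⟨conjAut g, hPA (conjAut_mem g)⟩) fun g h =>
      Subtype.ext (MulEquiv.ext fun r => Subtype.ext (by
        show ((g * h : normalizerIn T R) : Ω) * (r : Ω) * ((g * h : normalizerIn T R) : Ω)⁻¹ =
          (g : Ω) * ((h : Ω) * (r : Ω) * (h : Ω)⁻¹) * (g : Ω)⁻¹
        rw [Subgroup.coe_mul]
        group))
  have hcNP : ∀ g, cN g ∈ (P : Subgroup (pGen p E R)) := fun g => hP.ge (conjAut_mem g)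
  set W : Subgroup (pGen p E R) :=
    Subgroup.closure ((P : Set (pGen p E R)) ∩ quadElts σ) with hW
  have hPW : (P : Subgroup (pGen p E R)) ≤ Subgroup.normalizer (W : Set (pGen p E R)) := by
    refine Subgroup.le_normalizer_iff.2 fun g hg o ho => ?_
    have hle : W ≤ W.comap (MulAut.conj g).toMonoidHom := by
      rw [hW]
      refine (Subgroup.closure_le _).2 fun o ho => ?_
      exact Subgroup.subset_closure ⟨Subgroup.mul_mem _ (Subgroup.mul_mem _ hg ho.1)
        (Subgroup.inv_mem _ hg), conj_mem_quadElts ho.2 g⟩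
    exact hle ho
  have hWP : W ≤ P := (Subgroup.closure_le _).2 fun _ h => h.1
  have hRN := le_normalizerIn hRT
  set Qs : Subgroup Ω := (W.comap cN).map (normalizerIn T R).subtype with hQs
  have hRQ : R ≤ Qs := by
    intro r hr
    refine ⟨⟨r, hRN hr⟩, Subgroup.subset_closure ⟨hcNP _, fun m => ?_⟩, rfl⟩
    have htriv : ∀ m : Subgroup.center R, σ (cN ⟨r, hRN hr⟩) m = m := fun m => by
      refine Subtype.ext (Subtype.ext ?_)
      show r * ((m : R) : Ω) * r⁻¹ = ((m : R) : Ω)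
      have h := congrArg Subtype.val (Subgroup.mem_center_iff.1 m.2 ⟨r, hr⟩)
      simp only [Subgroup.coe_mul] at h
      rw [h, mul_inv_cancel_right]
    rw [htriv, htriv]
  have hQN : Qs ≤ normalizerIn T R := Subgroup.map_subtype_le _
  have hQT : Qs ≤ T := hQN.trans (normalizerIn_le R)
  have hlt : R < Qs := by
    refine lt_of_le_of_ne hRQ fun he => ?_
    obtain ⟨t, htN, htR, hquad⟩ : ∃ t ∈ normalizerIn T R, t ∉ R ∧
        ∀ m ∈ centerOf R, t * (t * m * t⁻¹ * m⁻¹) * t⁻¹ = t * m * t⁻¹ * m⁻¹ := by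
      by_cases hJc : thompsonSubgroupAOf (normalizerIn T R) ≤
          Subgroup.centralizer (centerOf R : Set Ω)
      · obtain ⟨t, ht, htR⟩ := SetLike.not_le_iff_exists.1 hJ
        refine ⟨t, thompsonAOf_le _ ht, htR, fun m hm => ?_⟩
        have h1 : t * m * t⁻¹ = m := by
          rw [← Subgroup.mem_centralizer_iff.1 (hJc ht) m hm, mul_inv_cancel_right]
        rw [h1, mul_inv_cancel, mul_one, mul_inv_cancel]
      · obtain ⟨t, htN, htC, -, hq⟩ := exists_quadratic hS hNS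
          (inf_le_left.trans hRN) (fun g hg => by
            refine Subgroup.mem_normalizer_iff.2 fun m => ?_
            have key : ∀ g ∈ Subgroup.normalizer (R : Set Ω), ∀ m ∈ centerOf R,
                g * m * g⁻¹ ∈ centerOf R := by
              intro g hg m hm
              refine ⟨conj_mem_of_mem_normalizer hg hm.1,
                Subgroup.mem_centralizer_iff.2 fun r hr => ?_⟩
              have h1 := Subgroup.mem_centralizer_iff.1 hm.2 _
                (conj_mem_of_mem_normalizer (Subgroup.inv_mem _ hg) hr)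
              rw [inv_inv] at h1
              calc r * (g * m * g⁻¹) = g * (g⁻¹ * r * g * m) * g⁻¹ := by group
                _ = g * (m * (g⁻¹ * r * g)) * g⁻¹ := by rw [h1]
                _ = g * m * g⁻¹ * r := by group
            exact ⟨key g hg.2 m, fun h => by
              have := key g⁻¹ (Subgroup.inv_mem _ hg.2) _ h
              rwa [show g⁻¹ * (g * m * g⁻¹) * g⁻¹⁻¹ = m by group] at this⟩)
          (fun a ha b hb => centerOf_comm hb ha.1) hJc
        exact ⟨t, htN, fun h => htC (Subgroup.mem_centralizer_iff.2 fun m hm =>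
          (centerOf_comm hm h).symm), hq⟩
    refine htR (he.ge ⟨⟨t, htN⟩, Subgroup.subset_closure ⟨hcNP _, fun m => ?_⟩, rfl⟩)
    refine Subtype.ext (Subtype.ext ?_)
    have h := hquad _ (show ((m : R) : Ω) ∈ centerOf R from ⟨(m : R).2,
      Subgroup.mem_centralizer_iff.2 fun r hr => congrArg Subtype.val
        (Subgroup.mem_center_iff.1 m.2 ⟨r, hr⟩)⟩)
    simpa [div_eq_mul_inv, hσ, cN, subAct, mul_assoc] using h
  have hQc : TCentric F T Qs := hc.mono hRQ hQT
  have hQbig : Nat.card (normalizerIn T R) ≤ Nat.card (normalizerIn T Qs) := by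
    have := finite_le ((normalizerIn_le (S := T) Qs).trans hT.1)
    refine Subgroup.card_le_of_le (le_inf (normalizerIn_le R) ?_)
    refine Subgroup.le_normalizer_iff.2 ?_
    rintro g hg _ ⟨q, hq, rfl⟩
    refine ⟨⟨g, hg⟩ * q * ⟨g, hg⟩⁻¹, ?_, rfl⟩
    rw [Subgroup.coe_comap, Set.mem_preimage, SetLike.mem_coe, map_mul, map_mul, map_inv]
    exact (Subgroup.mem_normalizer_iff.1 (hPW (hcNP _)) _).1 hq
  have hQcard : Nat.card R < Nat.card Qs := card_lt_card_of_lt (hQT.trans hT.1) hlt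
  have hYR : Y ≤ centralizerIn S R := hYC.trans (centralizerIn_antitone hRT)
  -- elements of order prime to `p` normalizing `W` fix `c`
  have hkey : ∀ a ∈ Subgroup.normalizer (W : Set (pGen p E R)),
      (∃ n : ℕ, a ^ n = 1 ∧ n.Coprime p) → σ a vZ = vZ := by
    rintro a ha ⟨n, hn, hcop⟩
    have hn' : (a : MulAut R) ^ n = 1 := by rw [← SubgroupClass.coe_pow, hn]; rfl
    obtain ⟨x, hx, hord, hxa⟩ := Liftable.exists_pPrime hR.1 (hlift _ a.2) hn' hcop
    have he : IsoIn E ((a : MulAut R) : R ≃* R) :=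
      (mem_autGroup_iff_isoIn hRT).1 (pGen_le R a.2)
    have hconj : ∀ (g : normalizerIn T R), cN g ∈ W → ∀ r : R,
        ((((a * cN g * a⁻¹ : pGen p E R) : MulAut R) ((a : MulAut R) r) : R) : Ω) =
          (((a : MulAut R) (conjAut g r) : R) : Ω) := by
      intro g _ r
      show (((a : MulAut R) (conjAut g ((a : MulAut R)⁻¹ ((a : MulAut R) r))) : R) : Ω) = _
      rw [MulAut.inv_apply_self]
    have hext : Qs ≤ extender T R (isoHom ((a : MulAut R) : R ≃* R)) := by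
      rintro _ ⟨g, hg, rfl⟩
      obtain ⟨h, hh, hhv⟩ := mem_autInducedBy_iff.1
        (Subgroup.mem_subgroupOf.1 (hP.le (hWP ((Subgroup.mem_normalizer_iff.1 ha _).1 hg))))
      refine mem_extender_iff.2 ⟨g.2.1, g.2.2, h, hh, fun r hr => ?_⟩
      exact (hconj g hg r).symm.trans (hhv ((a : MulAut R) r))
    obtain ⟨φ, hφ, hφv⟩ := exists_extension
      (IsSaturated.receptive hTp hEs (IsSaturated.fullyCentralized hTp hEs hRfn)) he hRQ hext
    have hmem : ∀ g : Qs, φ g ∈ Qs := by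
      rintro ⟨_, g, hg, rfl⟩
      have hconjv : ∀ r : R,
          (((((a * cN g * a⁻¹ : pGen p E R)) : MulAut R) r : R) : Ω) =
            φ ⟨g, g, hg, rfl⟩ * (r : Ω) * (φ ⟨g, g, hg, rfl⟩)⁻¹ := by
        intro r
        obtain ⟨r, rfl⟩ := (a : MulAut R).surjective r
        rw [hconj g hg r,
          show (((a : MulAut R) (conjAut g r) : R) : Ω) = φ (Subgroup.inclusion hRQ (conjAut g r))
            from (hφv _).symm,
          show (((a : MulAut R) r : R) : Ω) = φ (Subgroup.inclusion hRQ r) from (hφv r).symm,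
          ← map_inv, ← map_mul, ← map_mul]
        rfl
      have hN' : φ ⟨g, g, hg, rfl⟩ ∈ normalizerIn T R :=
        ⟨hom_apply_mem hφ _, mem_normalizer_of_conj_eq _ hconjv⟩
      refine ⟨⟨_, hN'⟩, ?_, rfl⟩
      show cN ⟨_, hN'⟩ ∈ W
      rw [show cN ⟨_, hN'⟩ = a * cN g * a⁻¹ from
          Subtype.ext (MulEquiv.ext fun r => Subtype.ext (hconjv r).symm)]
      exact (Subgroup.mem_normalizer_iff.1 ha _).1 hg
    have := finite_le (hQT.trans hT.1)
    obtain ⟨φe, hφe, hφev⟩ := exists_iso hφ (Subgroup.eq_of_le_of_card_ge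
      (fun _ ⟨g, hg⟩ => hg ▸ hmem g)
      (le_of_eq (Nat.card_congr (MonoidHom.ofInjective (E.injective_of_mem hφ)).toEquiv)))
    obtain ⟨ψ, hψ, hψQ, hψY⟩ := hup Qs hQc hQbig hQcard φe
      ((mem_autGroup_iff_isoIn hQT).2 hφe)
    obtain ⟨c₀, hc₀⟩ : ∃ c₀ : ↥(R ⊔ centralizerIn S R), (c₀ : Ω) = c :=
      ⟨⟨c, Subgroup.mem_sup_right hcR⟩, rfl⟩
    have hxc : x c₀ = c₀ := fix_of_fixExt hS hF hfc hx hord hψ (hRQ.trans le_sup_left)
      (fun r hr => ((hψQ ⟨r, hRQ hr⟩).trans ((hφev _).trans (hφv ⟨r, hr⟩))).trans (hxa r hr).symm)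
      c₀ (hc₀.symm ▸ hcR) (Subgroup.mem_sup_right (hc₀.symm ▸ hcY))
      ((congrArg ψ (Subtype.ext hc₀)).trans ((hψY ⟨c, hcY⟩).trans hc₀.symm))
    obtain ⟨v₀, hv₀⟩ : ∃ v₀ : ↥(R ⊔ centralizerIn S R), (v₀ : Ω) = v :=
      ⟨⟨v, Subgroup.mem_sup_left hvM.1⟩, rfl⟩
    have h1 := hvx x ⟨hx, a, a.2, hxa⟩ hord (c₀ ^ k * v₀)
      (by rw [Subgroup.coe_mul, SubgroupClass.coe_pow, hc₀, hv₀])
    rw [map_mul, map_pow, hxc] at h1
    refine Subtype.ext (Subtype.ext ?_)
    show (((a : MulAut R) ⟨v, hvM.1⟩ : R) : Ω) = v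
    rw [← hxa v hvM.1,
      show (⟨v, le_sup_left (b := centralizerIn S R) hvM.1⟩ : ↥(R ⊔ centralizerIn S R)) = v₀ from
        Subtype.ext hv₀.symm, mul_left_cancel h1, hv₀]
  have hfixP : ∀ g ∈ (P : Subgroup (pGen p E R)), σ g vZ = vZ := by
    intro g hg
    obtain ⟨t, ht, htv⟩ := mem_autInducedBy_iff.1 (Subgroup.mem_subgroupOf.1 (hP.le hg))
    refine Subtype.ext (Subtype.ext ?_)
    show (((g : MulAut R) ⟨v, hvM.1⟩ : R) : Ω) = v
    rw [htv]
    show t * v * t⁻¹ = v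
    rw [hvN t ⟨ht, mem_normalizer_of_conj_eq _ htv⟩, mul_inv_cancel_right]
  let St : Subgroup (pGen p E R) :=
    { carrier := {g | σ g vZ = vZ}
      one_mem' := by simp
      mul_mem' := fun {g h} hg hh => by
        show σ (g * h) vZ = vZ
        rw [map_mul, MulAut.mul_apply, hh, hg]
      inv_mem' := fun {g} hg => by
        show σ g⁻¹ vZ = vZ
        conv_lhs => rw [← (hg : σ g vZ = vZ)]
        rw [map_inv, MulAut.inv_apply_self] }
  have hNfix : Subgroup.normalizer (W : Set (pGen p E R)) ≤ St :=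
    le_of_sylow_of_coprime ⟨P.subtype hPW, rfl⟩ (fun g hg => hfixP g hg) hkey
  have hMp : IsPGroup p (Subgroup.center R) :=
    (hS.to_le hR.1).to_subgroup _
  have hall := fixed_of_quadratic hp2 σ hMp P vZ hfixP hNfix
  rintro x ⟨hx, a, ha, hxa⟩ hord y rfl
  obtain ⟨v₀, hv₀⟩ : ∃ v₀ : ↥(R ⊔ centralizerIn S R), (v₀ : Ω) = v :=
    ⟨⟨v, Subgroup.mem_sup_left hvM.1⟩, rfl⟩
  have hxv : x v₀ = v₀ := by
    refine Subtype.ext ?_
    rw [show v₀ = ⟨v, le_sup_left (b := centralizerIn S R) hvM.1⟩ from Subtype.ext hv₀,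
      hxa v hvM.1]
    exact congrArg (fun z : Subgroup.center R => ((z : R) : Ω)) (hall ⟨a, ha⟩)
  have h1 := hvx x ⟨hx, a, ha, hxa⟩ hord (y ^ k * v₀)
    (by rw [Subgroup.coe_mul, SubgroupClass.coe_pow, hv₀])
  rw [map_mul, map_pow, hxv] at h1
  have hyk : (x y) ^ k = y ^ k := mul_right_cancel h1
  obtain ⟨e, he⟩ := (hS.to_le (sup_centralizerIn_le_S hR.1)) y
  have hxe : (x y) ^ p ^ e = 1 := by rw [← map_pow, he, map_one]
  exact eq_of_pow_eq_of_coprime hk hxe he hyk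

end CfsgLib.Fusion
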