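import Cfsg.Agent.Lib.Fusion.OddCentralizer

/-!
# `C_S(T) ≤ T` for odd `p` when `C_S(E) ≤ T`
-/

set_option autoImplicit false

namespace CfsgLib.Fusion

open Cfsg Cfsg.FusionSystem

universe u

variable {Ω : Type u} [Group Ω] {S T : Subgroup Ω} {F : FusionSystem S} {E : FusionSystem T}
  {p : ℕ} [Fact p.Prime] [Finite S]

/-- Being fixed at `J(T)` and at `T` propagates: `E` centralizes `Y`. -/
theorem centBy_of_fixAt (hp2 : p ≠ 2) (hS : IsPGroup p S) (hE : E.IsNormalIn F p)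
    {Y : Subgroup Ω} (hYC : Y ≤ centralizerIn S T)
    (hinv : ∀ β ∈ F.autGroup (T ⊔ centralizerIn S T), ∀ y : ↥(T ⊔ centralizerIn S T),
      (y : Ω) ∈ Y → ((β y : _) : Ω) ∈ Y)
    (hJ : F.IsFullyNormalized (thompsonSubgroupAOf T)) (hTS : T ≤ S)
    (hfixJ : ∀ c ∈ Y, FixAt p F hJ.1 (pGen p E (thompsonSubgroupAOf T)) c)
    (hfixT : ∀ c ∈ Y, FixAt p F hTS (E.autGroup T) c) : CentBy F E Y := by
  have hE' := hE
  obtain ⟨⟨hEs, hF, hEi⟩, -⟩ := hE'
  have hsub := hEi.1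
  have hT := hEi.2.1
  have := finite_le hT.1
  have htop := good_top hS hE hYC hTS hfixT
  suffices h : ∀ n : ℕ, ∀ R : Subgroup Ω, Nat.card T - Nat.card (normalizerIn T R) ≤ n →
      TCentric F T R → GoodAut F E Y R by
    refine ⟨hYC, fun P φ hφ => mem_centralizerHom_of_fixExt hsub hT.1 hYC hφ ?_⟩
    exact fixExt_of_good hS hE hYC 0 htop (fun Q hQ _ => h _ Q le_rfl hQ) P (Nat.zero_le _) φ hφ
  intro n
  induction n using Nat.strong_induction_on with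
  | _ n IH =>
  intro R hn hRc
  suffices h : ∀ m : ℕ, ∀ R : Subgroup Ω, Nat.card T - Nat.card R ≤ m →
      Nat.card T - Nat.card (normalizerIn T R) ≤ n → TCentric F T R → GoodAut F E Y R from
    h _ R le_rfl hn hRc
  intro m
  induction m using Nat.strong_induction_on with
  | _ m IH2 =>
  intro R hm hn hRc
  rcases eq_or_lt_of_le hRc.1 with hRT | hlt
  · subst hRT
    exact htop
  have hcardle : ∀ Q : Subgroup Ω, Q ≤ T → Nat.card Q ≤ Nat.card T :=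
    fun Q hQ => Subgroup.card_le_of_le hQ
  have hbig : ∀ P : Subgroup Ω, TCentric F T P →
      Nat.card (normalizerIn T R) < Nat.card (normalizerIn T P) → GoodAut F E Y P := by
    intro P hP hlt'
    refine IH (Nat.card T - Nat.card (normalizerIn T P)) ?_ P le_rfl hP
    have := hcardle _ (normalizerIn_le (S := T) P)
    omega
  have hgen := fixExt_of_good hS hE hYC (Nat.card (normalizerIn T R)) htop hbig
  obtain ⟨R', hRR', hR'⟩ := exists_fullyNormalized (F := F) (hlt.le.trans hT.1)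
  have hR'c := hRc.conj hT hRR'
  have hNle := card_normalizerIn_le hS hF hT hR' hRR'
  have hcard : Nat.card R = Nat.card R' := isConj_card hRR'
  refine fixExt_transport hS hE hYC hinv hlt.le hRR' hR' (hgen _ le_rfl) ?_
  rcases hNle.lt_or_eq with hlt' | heq
  · exact hbig R' hR'c hlt'
  have hlt'' : R' < T := lt_of_le_of_ne hR'c.1 fun h => hlt.ne
    (Subgroup.eq_of_le_of_card_ge hlt.le (by rw [hcard, h]))
  refine good_of_fixAt hS hE hYC hlt'' hR' (hR'c.2 R' (isConj_refl hR'.1)) (fun c hc => ?_)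
    (hgen _ heq.le)
  by_cases hJR : thompsonSubgroupAOf (normalizerIn T R') ≤ R'
  · by_cases hJe : thompsonSubgroupAOf R' = thompsonSubgroupAOf T
    · exact fixAt_of_top_thompsonA hS hE hR'c.1 hR' hJ hJe (hYC hc) (hfixJ c hc)
    · exact fixAt_of_thompsonA_ne hS hE hYC hinv hR'c.1 hR' hJR hJe
        (fun P hP => hgen P (heq.le.trans hP)) (fun P hP hP' => hbig P hP (heq ▸ hP')) hc
  · refine fixAt_of_quadratic hp2 hS hE hYC hR'c.1 hR' hR'c hJR (fun Q hQ hQN hQR => ?_) hc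
    refine IH2 (Nat.card T - Nat.card Q) ?_ Q le_rfl ?_ hQ
    · have := hcardle _ hQ.1
      omega
    · omega

/-- The elements of `C_S(T)` fixed by the lifts at `R`. -/
def fixedBy (p : ℕ) (F : FusionSystem S) (T : Subgroup Ω) {R : Subgroup Ω} (hR : R ≤ S)
    (hRT : R ≤ T) (A : Subgroup (MulAut R)) : Subgroup Ω where
  carrier := {c | c ∈ centralizerIn S T ∧ FixAt p F hR A c}
  one_mem' := ⟨one_mem _, fun x _ _ y hy => by
    rw [show y = 1 from Subtype.ext hy, map_one]⟩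
  mul_mem' := by
    rintro a b ⟨ha, ha'⟩ ⟨hb, hb'⟩
    refine ⟨mul_mem ha hb, fun x hx hord y hy => ?_⟩
    have hanti := centralizerIn_antitone (S := S) hRT
    rw [show y = ⟨a, Subgroup.mem_sup_right (hanti ha)⟩ * ⟨b, Subgroup.mem_sup_right (hanti hb)⟩ from
      Subtype.ext hy, map_mul, ha' x hx hord _ rfl, hb' x hx hord _ rfl]
  inv_mem' := by
    rintro a ⟨ha, ha'⟩
    refine ⟨Subgroup.inv_mem _ ha, fun x hx hord y hy => ?_⟩
    have hanti := centralizerIn_antitone (S := S) hRT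
    rw [show y = (⟨a, Subgroup.mem_sup_right (hanti ha)⟩)⁻¹ from Subtype.ext hy, map_inv,
      ha' x hx hord _ rfl]

omit [Fact p.Prime] in
/-- A preserved subgroup is preserved by the inverse. -/
theorem pres_inv {W : Subgroup Ω} (hW : W ≤ S) {κ : MulAut W} {U : Set Ω}
    (h : ∀ r : W, (r : Ω) ∈ U → ((κ r : W) : Ω) ∈ U) (r : W) (hr : (r : Ω) ∈ U) :
    ((κ⁻¹ r : W) : Ω) ∈ U := by
  have := finite_mulAut_of_le (S := S) hW
  obtain ⟨n, hn⟩ := mem_powers_iff_mem_zpowers.2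
    (Subgroup.inv_mem _ (Subgroup.mem_zpowers κ))
  rw [← show κ ^ n = κ⁻¹ from hn]
  clear hn
  induction n generalizing r with
  | zero => exact hr
  | succ n ih => rw [pow_succ, MulAut.mul_apply]; exact ih _ (h r hr)

/-- `Aut_F(T C_S(T))` permutes the fixed elements. -/
theorem fixedBy_invariant (hS : IsPGroup p S) (hF : F.IsSaturated p) (hT : F.StronglyClosed T)
    {R : Subgroup Ω} (hRT : R ≤ T) (hR : F.IsFullyNormalized R) (A : Subgroup (MulAut R))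
    (hA : ∀ e : R ≃* R, IsoIn F e → ∀ a ∈ A, MulAut.congr e a ∈ A)
    {β : MulAut ↥(T ⊔ centralizerIn S T)} (hβ : β ∈ F.autGroup (T ⊔ centralizerIn S T))
    (hβR : ∀ y : ↥(T ⊔ centralizerIn S T), (y : Ω) ∈ R → ((β y : _) : Ω) ∈ R)
    (y : ↥(T ⊔ centralizerIn S T)) (hy : (y : Ω) ∈ fixedBy p F T hR.1 hRT A) :
    ((β y : _) : Ω) ∈ fixedBy p F T hR.1 hRT A := by
  have hTC := sup_centralizerIn_le_S (S := S) hT.1
  have hfc := IsSaturated.fullyCentralized hS hF hR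
  have hWS := sup_centralizerIn_le_S (S := S) hR.1
  have hβT : ∀ z : ↥(T ⊔ centralizerIn S T), (z : Ω) ∈ T → ((β z : _) : Ω) ∈ T := fun z hz =>
    StronglyClosed.apply_mem hT ((mem_autGroup_iff hTC).1 hβ) hz
  have hβC : ((β y : _) : Ω) ∈ centralizerIn S T := by
    refine mem_centralizerIn.2 ⟨hTC (β y).2, fun t ht => ?_⟩
    have h1 := pres_inv hTC hβT ⟨t, Subgroup.mem_sup_left ht⟩ ht
    have h2 : β⁻¹ ⟨t, Subgroup.mem_sup_left ht⟩ * y = y * β⁻¹ ⟨t, Subgroup.mem_sup_left ht⟩ :=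
      Subtype.ext ((mem_centralizerIn.1 hy.1).2 _ h1)
    have h3 := congrArg (fun z : ↥(T ⊔ centralizerIn S T) => (z : Ω)) (congrArg β h2)
    simp only [map_mul, MulAut.apply_inv_self, Subgroup.coe_mul] at h3
    exact h3
  refine ⟨hβC, ?_⟩
  rintro x ⟨hx, a, ha, hxa⟩ ⟨n, hn, hcop⟩ z hz
  obtain ⟨b, hb, hbv⟩ := exists_restrict_aut hTC (hRT.trans le_sup_left) hβ hβR
  obtain ⟨κ, hκ, hκR, hκC⟩ := exists_lift hS hF hfc hb
  have hκp : ∀ r : ↥(R ⊔ centralizerIn S R), (r : Ω) ∈ R → ((κ r : _) : Ω) ∈ R := fun r hr => by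
    rw [show r = ⟨(r : Ω), le_sup_left (b := centralizerIn S R) hr⟩ from rfl, hκR _ hr]
    exact (b ⟨r, hr⟩).2
  have hbv' : ∀ r : R, κ⁻¹ ⟨((b r : R) : Ω), le_sup_left (b := centralizerIn S R) (b r).2⟩ =
      ⟨(r : Ω), le_sup_left (b := centralizerIn S R) r.2⟩ := by
    intro r
    rw [show (⟨((b r : R) : Ω), le_sup_left (b := centralizerIn S R) (b r).2⟩ :
      ↥(R ⊔ centralizerIn S R)) = κ ⟨(r : Ω), le_sup_left (b := centralizerIn S R) r.2⟩ from
      Subtype.ext (hκR r r.2).symm, MulAut.inv_apply_self]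
  -- transport `x` by `κ`
  have hx' : κ⁻¹ * x * κ ∈ liftIn F hR.1 A := by
    refine ⟨⟨mul_mem (mul_mem (inv_mem hκ) hx.1) hκ, fun r hr => ?_, fun c hc => ?_⟩,
      MulAut.congr (b : R ≃* R).symm a,
      hA _ ((mem_autGroup_iff_isoIn hR.1).1 hb).symm a ha, fun r hr => ?_⟩
    · exact pres_inv hWS hκp _ (hx.2.1 _ (hκp r hr))
    · rw [show c⁻¹ * (κ⁻¹ * x * κ) c = κ⁻¹ ((κ c)⁻¹ * x (κ c)) by
        rw [map_mul, map_inv, MulAut.inv_apply_self]; rfl]
      exact pres_inv hWS hκp _ (hx.2.2 _ (hκC c hc))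
    · show ((κ⁻¹ (x (κ ⟨r, _⟩)) : _) : Ω) = _
      have h1 := hbv' ((b : R ≃* R).symm (a (b ⟨r, hr⟩)))
      simp only [MulEquiv.apply_symm_apply] at h1
      rw [show κ ⟨r, le_sup_left (b := centralizerIn S R) hr⟩ =
          ⟨((b ⟨r, hr⟩ : R) : Ω), le_sup_left (b := centralizerIn S R) (b ⟨r, hr⟩).2⟩ from
          Subtype.ext (hκR r hr),
        show x ⟨((b ⟨r, hr⟩ : R) : Ω), le_sup_left (b := centralizerIn S R) (b ⟨r, hr⟩).2⟩ =
          ⟨((a (b ⟨r, hr⟩) : R) : Ω), le_sup_left (b := centralizerIn S R) (a (b ⟨r, hr⟩)).2⟩ from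
          Subtype.ext (hxa _ (b ⟨r, hr⟩).2), h1]
      simp [MulAut.congr]
  have hord' : ∃ m : ℕ, (κ⁻¹ * x * κ) ^ m = 1 ∧ m.Coprime p := by
    refine ⟨n, ?_, hcop⟩
    have h := conj_pow (a := κ⁻¹) (b := x) (i := n)
    rw [inv_inv] at h
    rw [h, hn, mul_one, inv_mul_cancel]
  have hyR : (y : Ω) ∈ centralizerIn S R := centralizerIn_antitone hRT hy.1
  obtain ⟨w, hw⟩ : ∃ w : ↥(R ⊔ centralizerIn S R), (w : Ω) = y :=
    ⟨⟨y, Subgroup.mem_sup_right hyR⟩, rfl⟩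
  have hxw := hy.2 _ hx' hord' w hw
  -- `κ` and `β` differ by a focal element
  have hL : R ⊔ Subgroup.zpowers (y : Ω) ≤ T ⊔ centralizerIn S T :=
    sup_le (hRT.trans le_sup_left) (Subgroup.zpowers_le.2 y.2)
  have hβh := restrict_mem ((mem_autGroup_iff hTC).1 hβ) hL
  have hβW : ∀ k, (((T ⊔ centralizerIn S T).subtype.comp β.toMonoidHom).comp
      (Subgroup.inclusion hL)) k ∈ R ⊔ centralizerIn S R := fun k => range_le_of_gens
    (fun r => Subgroup.mem_sup_left (hβR _ r.2))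
    (fun v => by
      obtain ⟨i, hi⟩ := Subgroup.mem_zpowers_iff.1 v.2
      show ((β (Subgroup.inclusion hL (Subgroup.inclusion le_sup_right v)) : _) : Ω) ∈ _
      rw [show Subgroup.inclusion hL (Subgroup.inclusion le_sup_right v) = y ^ i from
        Subtype.ext (by simpa using hi.symm), map_zpow, Subgroup.coe_zpow]
      exact Subgroup.zpow_mem _ (Subgroup.mem_sup_right (centralizerIn_antitone hRT hβC)) i)
    ⟨k, rfl⟩
  have hχ := F.comp_mem hβh ((mem_autGroup_iff hWS).1 (inv_mem hκ)) hβW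
  have hzv : κ⁻¹ z = κ⁻¹ ⟨_, hβW ⟨y, Subgroup.mem_sup_right (Subgroup.mem_zpowers _)⟩⟩ :=
    congrArg _ (Subtype.ext hz)
  have hshift := shift_mem_centFocal hχ le_sup_left (fun r hr => by
      show ((κ⁻¹ ⟨((β (Subgroup.inclusion hL r) : _) : Ω), _⟩ : _) : Ω) = r
      have h := hbv' ⟨r, hr⟩
      refine Eq.trans ?_ (congrArg (fun v : ↥(R ⊔ centralizerIn S R) => (v : Ω)) h)
      exact congrArg (fun v : ↥(R ⊔ centralizerIn S R) => ((κ⁻¹ v : _) : Ω))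
        (Subtype.ext (hbv _ hr)))
    ⟨y, Subgroup.mem_sup_right (Subgroup.mem_zpowers _)⟩ hyR
  have hfix : (κ⁻¹ * x * κ) (w⁻¹ * κ⁻¹ z) = w⁻¹ * κ⁻¹ z := hx'.1.fix_centFocal hS hF hfc hord' _ (by
    rw [Subgroup.coe_mul, Subgroup.coe_inv, hw, hzv]
    exact hshift)
  rw [map_mul, map_inv, hxw, mul_right_inj] at hfix
  simp only [MulAut.mul_apply, MulAut.apply_inv_self] at hfix
  exact κ⁻¹.injective hfix

/-- The fixed elements, up to powers prime to `p` and the centre of `T`. -/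
theorem centralizerIn_le_of_odd (hp2 : p ≠ 2) (hS : IsPGroup p S) (hE : E.IsNormalIn F p)
    (hCE : centOf F E ≤ T) : centralizerIn S T ≤ T := by
  have hE' := hE
  obtain ⟨⟨hEs, hF, hEi⟩, hext⟩ := hE'
  have hT := hEi.2.1
  have := finite_le hT.1
  have := finite_mulAut_of_le (S := S) hT.1
  have hTp : IsPGroup p T := hS.to_le hT.1
  set J := thompsonSubgroupAOf T with hJdef
  have hJT : J ≤ T := thompsonAOf_le T
  have hJn : S ≤ Subgroup.normalizer (J : Set Ω) :=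
    (StronglyClosed.normal_in hT).trans (normalizer_le_normalizer_thompsonA T)
  have hJ : F.IsFullyNormalized J := by
    refine ⟨hJT.trans hT.1, fun Q hQ => ?_⟩
    rw [show normalizerIn S J = S from le_antisymm (normalizerIn_le J) (le_inf le_rfl hJn)]
    exact Subgroup.card_le_of_le (normalizerIn_le Q)
  have hJc : centralizerIn T J ≤ J := fun z hz =>
    mem_thompsonA_of_centralizes hT.1 hz.1 (mem_centralizerIn.1 hz).2
  have hTC := sup_centralizerIn_le_S (S := S) hT.1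
  have hTn : F.IsFullyNormalized T := fullyNormalized_closed hT
  have hβT : ∀ β ∈ F.autGroup (T ⊔ centralizerIn S T), ∀ z : ↥(T ⊔ centralizerIn S T),
      (z : Ω) ∈ T → (((β : MulAut ↥(T ⊔ centralizerIn S T)) z : _) : Ω) ∈ T := fun β hβ z hz =>
    StronglyClosed.apply_mem hT ((mem_autGroup_iff hTC).1 hβ) hz
  have hβJ : ∀ β ∈ F.autGroup (T ⊔ centralizerIn S T), ∀ z : ↥(T ⊔ centralizerIn S T),
      (z : Ω) ∈ J → (((β : MulAut ↥(T ⊔ centralizerIn S T)) z : _) : Ω) ∈ J := by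
    intro β hβ z hz
    obtain ⟨a, -, hav⟩ := exists_restrict_aut hTC le_sup_left hβ (hβT β hβ)
    rw [show z = ⟨(z : Ω), le_sup_left (b := centralizerIn S T) (hJT hz)⟩ from rfl,
      hav _ (hJT hz)]
    exact thompsonA_aut a _ hz
  set YJ := fixedBy p F T hJ.1 hJT (pGen p E J) with hYJ
  set YT := fixedBy p F T hTn.1 le_rfl (E.autGroup T) with hYT
  have hinvJ : ∀ β ∈ F.autGroup (T ⊔ centralizerIn S T), ∀ y : ↥(T ⊔ centralizerIn S T),
      (y : Ω) ∈ YJ → (((β : MulAut ↥(T ⊔ centralizerIn S T)) y : _) : Ω) ∈ YJ :=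
    fun β hβ => fixedBy_invariant hS hF hT hJT hJ _
      (fun e he a ha => pGen_congr hEi hJT he ha) hβ (hβJ β hβ)
  have hinvT : ∀ β ∈ F.autGroup (T ⊔ centralizerIn S T), ∀ y : ↥(T ⊔ centralizerIn S T),
      (y : Ω) ∈ YT → (((β : MulAut ↥(T ⊔ centralizerIn S T)) y : _) : Ω) ∈ YT :=
    fun β hβ => fixedBy_invariant hS hF hT le_rfl hTn _
      (fun e he a ha => invariant_congr hEi le_rfl he ha) hβ (hβT β hβ)
  have hY : YJ ⊓ YT ≤ T := (le_sSup (show YJ ⊓ YT ∈ {Y | CentBy F E Y} from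
    centBy_of_fixAt hp2 hS hE (fun z hz => hz.1.1)
      (fun β hβ y hy => ⟨hinvJ β hβ y hy.1, hinvT β hβ y hy.2⟩) hJ hTn.1
      (fun c hc => hc.1.2) (fun c hc => hc.2.2))).trans hCE
  intro c hc
  -- at `J(T)`
  have := finite_mulAut_of_le (S := S) hJ.1
  have hJsyl := IsSylowIn.of_le (IsSaturated.fullyAutomized hTp hEs
      (fullyNormalized_of_ambient hS hF hT hEi.1 hJ hJT)).2
    (autInducedBy_le_autGroup hJT) (pGen_le J) (autInducedBy_le_pGen hTp hJT)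
  obtain ⟨k₁, hk₁, v₁, hv₁, hv₁N, hv₁x⟩ := lift_average hS hF hT hJT hJ hJc (pGen p E J)
    (autInducedBy_le_pGen hTp hJT) hJsyl
    (fun a ha => (pGen_le_liftGroup hS hF hEs hEi hJT hJ hJc ha).2) hc
    (J ⊓ Subgroup.centralizer (J : Set Ω)) le_rfl
    (fun x hx y hy => ⟨hx.1.2.1 y hy.1, (hx.1.apply_centralizer hJ.1 y
      (mem_centralizerIn.2 ⟨hJ.1 hy.1, fun r hr => Subgroup.mem_centralizer_iff.1 hy.2 r hr⟩)).2⟩)
    (fun x hx y hy => by
      have hyC : (y : Ω) ∈ centralizerIn S J := hy.symm ▸ centralizerIn_antitone hJT hc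
      exact ⟨hx.1.2.2 y hyC,
        (mul_mem (Subgroup.inv_mem _ hyC) (hx.1.apply_centralizer hJ.1 y hyC)).2⟩)
  have hv₁C : v₁ ∈ centralizerIn S T := mem_centralizerIn.2 ⟨hJ.1 hv₁.1, fun t ht =>
    hv₁N t ⟨ht, hJn (hT.1 ht)⟩⟩
  have hc₁ : c ^ k₁ * v₁ ∈ YJ :=
    ⟨mul_mem (Subgroup.pow_mem _ hc _) hv₁C, fun x hx hord y hy => hv₁x x hx hord y hy⟩
  -- at `T`
  obtain ⟨k₂, hk₂, v₂, hv₂, -, hv₂x⟩ := lift_average hS hF hT le_rfl hTn (centralizerIn_le T)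
    (E.autGroup T) (autInducedBy_le_autGroup le_rfl)
    (IsSaturated.fullyAutomized hTp hEs (isFullyNormalized_self (F := E))).2
    (fun a ha => by
      obtain ⟨β, hβ, hβv, hβz⟩ := hext a ha
      exact ⟨β, ⟨hβ, fun r hr => (hβv ⟨r, hr⟩).symm ▸ (a ⟨r, hr⟩).2,
        fun z hz => (hβz z hz).1⟩, fun r hr => hβv ⟨r, hr⟩⟩)
    hc₁.1 (T ⊓ YJ) (fun z hz => ⟨hz.1, (mem_centralizerIn.1 hz.2.1).2⟩)
    (fun x hx y hy => ⟨hx.1.2.1 y hy.1, hinvJ x hx.1.1 y hy.2⟩)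
    (fun x hx y hy => ⟨hx.1.2.2 y (hy.symm ▸ hc₁.1),
      mul_mem (Subgroup.inv_mem _ (hy.symm ▸ hc₁ : (y : Ω) ∈ YJ))
        (hinvJ x hx.1.1 y (hy.symm ▸ hc₁))⟩)
  have hc₂ : (c ^ k₁ * v₁) ^ k₂ * v₂ ∈ YJ ⊓ YT :=
    ⟨mul_mem (Subgroup.pow_mem _ hc₁ _) hv₂.2,
      mul_mem (Subgroup.pow_mem _ hc₁.1 _) hv₂.2.1,
      fun x hx hord y hy => hv₂x x hx hord y hy⟩
  have h1 := hY hc₂
  have hcomm : Commute (c ^ k₁) v₁ :=
    Commute.pow_left (Commute.symm (show Commute v₁ c from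
      (mem_centralizerIn.1 hc).2 v₁ (hJT hv₁.1))) k₁
  have h2 : (c ^ k₁ * v₁) ^ k₂ ∈ T := (Subgroup.mul_mem_cancel_right T hv₂.1).1 h1
  rw [hcomm.mul_pow, Subgroup.mul_mem_cancel_right T (Subgroup.pow_mem _ (hJT hv₁.1) _),
    ← pow_mul] at h2
  obtain ⟨e, he⟩ := hS ⟨c, hc.1⟩
  have hce : c ^ p ^ e = 1 := congrArg Subtype.val he
  obtain ⟨l, hl⟩ := exists_pow_eq_self_of_coprime (n := k₁ * k₂) (x := c)
    (Nat.Coprime.coprime_dvd_right (orderOf_dvd_of_pow_eq_one hce) ((hk₁.mul_left hk₂).pow_right e))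
  rw [← hl]
  exact Subgroup.pow_mem _ h2 l

end CfsgLib.Fusion
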