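import Cfsg.Agent.Lib.Fusion.NormalCentralizerClosed
import Cfsg.Agent.Lib.Fusion.LiftAverage
import Cfsg.Agent.Lib.Fusion.JTools

/-!
# Elements fixed by the lifts at a subgroup

Tools to push being fixed from `J(R)` to `R`.
-/

set_option autoImplicit false

namespace CfsgLib.Fusion

open Cfsg Cfsg.FusionSystem
open scoped Pointwise

universe u

variable {Ω : Type u} [Group Ω] {S T : Subgroup Ω} {F : FusionSystem S} {E : FusionSystem T}
  {p : ℕ}

/-- Automorphisms of `R` preserve `J(R)`. -/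
theorem thompsonA_aut {R : Subgroup Ω} (a : MulAut R) (r : R)
    (hr : (r : Ω) ∈ thompsonSubgroupAOf R) : ((a r : R) : Ω) ∈ thompsonSubgroupAOf R := by
  have h := thompsonA_img (φ := R.subtype.comp a.toMonoidHom)
    (fun x y h => a.injective (Subtype.ext h)) (le_refl R)
  have himg : img (R.subtype.comp a.toMonoidHom) R = R := by
    ext y
    refine ⟨?_, fun hy => ⟨a⁻¹ ⟨y, hy⟩, (a⁻¹ ⟨y, hy⟩).2, ?_⟩⟩
    · rintro ⟨x, -, rfl⟩
      exact (a x).2
    · show ((a (a⁻¹ ⟨y, hy⟩) : R) : Ω) = y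
      rw [MulAut.apply_inv_self]
  rw [himg] at h
  rw [h]
  exact ⟨r, hr, rfl⟩

/-- What normalizes `U` normalizes `J(U)`. -/
theorem normalizer_le_normalizer_thompsonA (U : Subgroup Ω) :
    Subgroup.normalizer (U : Set Ω) ≤ Subgroup.normalizer (thompsonSubgroupAOf U : Set Ω) := by
  have key : ∀ g ∈ Subgroup.normalizer (U : Set Ω), ∀ x ∈ thompsonSubgroupAOf U,
      g * x * g⁻¹ ∈ thompsonSubgroupAOf U := fun g hg x hx =>
    thompsonA_aut (U.normalizerMonoidHom ⟨g, hg⟩) ⟨x, thompsonAOf_le U hx⟩ hx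
  exact Subgroup.le_normalizer_iff.2 key

/-- The maps of `F` carry `J`. -/
theorem thompsonA_img_eq {P U : Subgroup Ω} {φ : P →* Ω} (hφ : φ ∈ F.Hom P) (hU : U ≤ P) :
    thompsonSubgroupAOf (img φ U) = img φ (thompsonSubgroupAOf U) :=
  thompsonA_img (F.injective_of_mem hφ) hU

/-- An automorphism in `pGen` restricts into `pGen` of an invariant subgroup. -/
theorem exists_restrict_pGen [Finite T] {R K : Subgroup Ω} (hKR : K ≤ R) (hRT : R ≤ T)
    (hchar : ∀ a : MulAut R, ∀ r : R, (r : Ω) ∈ K → ((a r : R) : Ω) ∈ K) {d : MulAut R}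
    (hd : d ∈ pGen p E R) :
    ∃ b ∈ pGen p E K, ∀ (r : Ω) (hr : r ∈ K),
      ((d ⟨r, hKR hr⟩ : R) : Ω) = ((b ⟨r, hr⟩ : K) : Ω) := by
  induction hd using Subgroup.closure_induction with
  | mem a ha =>
    obtain ⟨ha, k, hk⟩ := ha
    obtain ⟨b, hb, hbv⟩ := exists_restrict_aut hRT hKR ha (hchar a)
    refine ⟨b, Subgroup.subset_closure ⟨hb, k, ?_⟩, hbv⟩
    have hp : ∀ m : ℕ, ∀ (r : Ω) (hr : r ∈ K),
        (((a ^ m) ⟨r, hKR hr⟩ : R) : Ω) = (((b ^ m) ⟨r, hr⟩ : K) : Ω) := by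
      intro m
      induction m with
      | zero => exact fun r hr => rfl
      | succ m ih =>
        intro r hr
        rw [pow_succ, pow_succ, MulAut.mul_apply, MulAut.mul_apply,
          show a ⟨r, hKR hr⟩ = ⟨((b ⟨r, hr⟩ : K) : Ω), hKR (b ⟨r, hr⟩).2⟩ from
            Subtype.ext (hbv r hr), ih _ (b ⟨r, hr⟩).2]
    refine MulEquiv.ext fun r => Subtype.ext ?_
    rw [← hp (p ^ k) r r.2, hk]
    rfl
  | one => exact ⟨1, one_mem _, fun r hr => rfl⟩
  | mul a a' _ _ iha iha' =>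
    obtain ⟨b, hb, hbv⟩ := iha
    obtain ⟨b', hb', hbv'⟩ := iha'
    refine ⟨b * b', mul_mem hb hb', fun r hr => ?_⟩
    show ((a (a' ⟨r, _⟩) : R) : Ω) = _
    rw [show a' ⟨r, hKR hr⟩ = ⟨((b' ⟨r, hr⟩ : K) : Ω), hKR (b' ⟨r, hr⟩).2⟩ from
      Subtype.ext (hbv' r hr), hbv _ (b' ⟨r, hr⟩).2]
    rfl
  | inv a _ iha =>
    obtain ⟨b, hb, hbv⟩ := iha
    refine ⟨b⁻¹, inv_mem hb, fun r hr => ?_⟩
    have h1 : a ⟨((b⁻¹ ⟨r, hr⟩ : K) : Ω), hKR (b⁻¹ ⟨r, hr⟩).2⟩ = ⟨r, hKR hr⟩ :=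
      Subtype.ext (by rw [hbv _ (b⁻¹ ⟨r, hr⟩).2, Subtype.coe_eta, MulAut.apply_inv_self])
    rw [← h1, MulAut.inv_apply_self]

/-- `c` is fixed by the lifts of order prime to `p` of the members of `A`. -/
def FixAt [Finite S] (p : ℕ) (F : FusionSystem S) {R : Subgroup Ω} (hR : R ≤ S)
    (A : Subgroup (MulAut R)) (c : Ω) : Prop :=
  ∀ x ∈ liftIn F hR A, (∃ n : ℕ, x ^ n = 1 ∧ n.Coprime p) →
    ∀ y : ↥(R ⊔ centralizerIn S R), (y : Ω) = c → x y = y

variable [Fact p.Prime] [Finite S]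

/-- An element fixed by a map agreeing on `R` with a lift of order prime to `p` is fixed by the
lift. -/
theorem fix_of_fixExt (hS : IsPGroup p S) (hF : F.IsSaturated p) {R : Subgroup Ω}
    (hR : F.IsFullyCentralized R) {x : MulAut ↥(R ⊔ centralizerIn S R)} (hx : TrivAut F R x)
    (hord : ∃ n : ℕ, x ^ n = 1 ∧ n.Coprime p) {K : Subgroup Ω} {ψ : K →* Ω} (hψ : ψ ∈ F.Hom K)
    (hRK : R ≤ K)
    (hag : ∀ (r : Ω) (hr : r ∈ R),
      ψ ⟨r, hRK hr⟩ = ((x ⟨r, le_sup_left (b := centralizerIn S R) hr⟩ : _) : Ω))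
    (y : ↥(R ⊔ centralizerIn S R)) (hy : (y : Ω) ∈ centralizerIn S R) (hyK : (y : Ω) ∈ K)
    (hψy : ψ ⟨y, hyK⟩ = y) : x y = y := by
  have hv := hx.fix_of_agree hS hF hR hord hψ hRK hag y (y⁻¹ * x y) hy hyK (hx.2.2 y hy)
    (by rw [hψy, ← Subgroup.coe_mul, mul_inv_cancel_left])
  have h1 := eq_one_of_shift_fixed hS (sup_centralizerIn_le_S hR.1) hord
    (w := y) (u := y⁻¹ * x y) (mul_inv_cancel_left _ _).symm hv
  exact (inv_mul_eq_one.1 h1).symm

/-- Being fixed at an invariant subgroup `K` of `R` passes to `R`. -/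
theorem fix_of_sub (hS : IsPGroup p S) (hE : E.IsNormalIn F p) {K R W : Subgroup Ω} (hKR : K ≤ R)
    (hRT : R ≤ T) (hK : F.IsFullyNormalized K) (hKc : centralizerIn T K ≤ K)
    (hchar : ∀ a : MulAut R, ∀ r : R, (r : Ω) ∈ K → ((a r : R) : Ω) ∈ K)
    (hZ : R ⊓ Subgroup.centralizer (R : Set Ω) ≤ K) (hRW : R ≤ W) (hWS : W ≤ S) {x : MulAut W}
    (hx : x ∈ F.autGroup W) {n : ℕ} (hn : x ^ n = 1) (hcop : n.Coprime p) {d : MulAut R}
    (hd : d ∈ pGen p E R)
    (hxd : ∀ (r : Ω) (hr : r ∈ R), ((x ⟨r, hRW hr⟩ : W) : Ω) = ((d ⟨r, hr⟩ : R) : Ω))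
    (c : W) (hc : (c : Ω) ∈ centralizerIn S R) (hcR : ((c⁻¹ * x c : W) : Ω) ∈ R)
    (hfixK : FixAt p F hK.1 (pGen p E K) (c : Ω)) : x c = c := by
  have hE' := hE
  obtain ⟨⟨hEs, hF, hEi⟩, -⟩ := hE'
  have := finite_le hEi.2.1.1
  obtain ⟨b, hb, hbv⟩ := exists_restrict_pGen hKR hRT hchar hd
  have hbn : b ^ n = 1 := by
    have hp : ∀ m : ℕ, ∀ (r : Ω) (hr : r ∈ K),
        (((x ^ m) ⟨r, hRW (hKR hr)⟩ : W) : Ω) = (((b ^ m) ⟨r, hr⟩ : K) : Ω) := by
      intro m
      induction m with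
      | zero => exact fun r hr => rfl
      | succ m ih =>
        intro r hr
        rw [pow_succ, pow_succ, MulAut.mul_apply, MulAut.mul_apply,
          show x ⟨r, hRW (hKR hr)⟩ = ⟨((b ⟨r, hr⟩ : K) : Ω), hRW (hKR (b ⟨r, hr⟩).2)⟩ from
            Subtype.ext ((hxd r (hKR hr)).trans (hbv r hr)), ih _ (b ⟨r, hr⟩).2]
    refine MulEquiv.ext fun r => Subtype.ext ?_
    rw [← hp n r r.2, hn]
    rfl
  obtain ⟨y, hy, hord, hyb⟩ := Liftable.exists_pPrime hK.1
    (pGen_le_liftGroup hS hF hEs hEi (hKR.trans hRT) hK hKc hb).2 hbn hcop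
  have hfc := IsSaturated.fullyCentralized hS hF hK
  have hcK : (c : Ω) ∈ centralizerIn S K := centralizerIn_antitone hKR hc
  obtain ⟨y₀, hy₀⟩ : ∃ y₀ : ↥(K ⊔ centralizerIn S K), (y₀ : Ω) = c :=
    ⟨⟨c, Subgroup.mem_sup_right hcK⟩, rfl⟩
  have hyy : y y₀ = y₀ := hfixK y ⟨hy, b, hb, hyb⟩ hord y₀ hy₀
  -- the displacement is central in `R`
  set u : W := c⁻¹ * x c with hu
  have hxc : ((x c : W) : Ω) ∈ centralizerIn S R := by
    refine mem_centralizerIn.2 ⟨hWS (x c).2, fun r hr => ?_⟩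
    have h1 : x ⟨((d⁻¹ ⟨r, hr⟩ : R) : Ω), hRW (d⁻¹ ⟨r, hr⟩).2⟩ = ⟨r, hRW hr⟩ :=
      Subtype.ext (by rw [hxd _ (d⁻¹ ⟨r, hr⟩).2, Subtype.coe_eta, MulAut.apply_inv_self])
    have h2 : (⟨((d⁻¹ ⟨r, hr⟩ : R) : Ω), hRW (d⁻¹ ⟨r, hr⟩).2⟩ : W) * c =
        c * ⟨((d⁻¹ ⟨r, hr⟩ : R) : Ω), hRW (d⁻¹ ⟨r, hr⟩).2⟩ :=
      Subtype.ext ((mem_centralizerIn.1 hc).2 _ (d⁻¹ ⟨r, hr⟩).2)
    have h3 := congrArg (fun z : W => (z : Ω)) (congrArg x h2)
    simp only [map_mul, h1, Subgroup.coe_mul] at h3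
    exact h3
  have huK : (u : Ω) ∈ K := hZ ⟨hcR, (mul_mem (Subgroup.inv_mem _ hc) hxc).2⟩
  have huinv : ((u⁻¹ : W) : Ω) ∈ K := K.inv_mem huK
  have hv : ((y ⟨((u⁻¹ : W) : Ω), le_sup_left (b := centralizerIn S K) huinv⟩ : _) : Ω) =
      ((u⁻¹ : W) : Ω) := by
    refine congrArg Subtype.val (hy.fix_of_agree hS hF hfc hord
      (ψ := W.subtype.comp x.toMonoidHom) ((mem_autGroup_iff hWS).1 hx) (hKR.trans hRW)
      (fun r hr => ((hxd r (hKR hr)).trans (hbv r hr)).trans (hyb r hr).symm) y₀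
      ⟨((u⁻¹ : W) : Ω), le_sup_left (b := centralizerIn S K) huinv⟩
      (hy₀.symm ▸ hcK) (hy₀.symm ▸ c.2) huinv ?_)
    rw [hyy]
    refine hy₀.trans ?_
    show (c : Ω) = ((x ⟨(y₀ : Ω), hy₀.symm ▸ c.2⟩ : W) : Ω) * ((u⁻¹ : W) : Ω)
    rw [show (⟨(y₀ : Ω), hy₀.symm ▸ c.2⟩ : W) = c from Subtype.ext hy₀, ← Subgroup.coe_mul, hu,
      mul_inv_rev, inv_inv, mul_inv_cancel_left]
  have hfix : x u⁻¹ = u⁻¹ := by
    refine Subtype.ext ?_
    exact (((hxd ((u⁻¹ : W) : Ω) (hKR huinv)).trans (hbv _ huinv)).trans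
      (hyb _ huinv).symm).trans hv
  have hfix' : x u = u := by
    rw [map_inv] at hfix
    exact inv_inj.1 hfix
  have h1 := eq_one_of_shift_fixed hS hWS ⟨n, hn, hcop⟩ (w := c) (u := u)
    (by rw [hu, mul_inv_cancel_left]) hfix'
  exact (inv_mul_eq_one.1 h1).symm

/-- Centricity inside `T` is checked at a fully centralized conjugate. -/
theorem tCentric_of_fullyCentralized (hS : IsPGroup p S) (hF : F.IsSaturated p)
    (hT : F.StronglyClosed T) {K : Subgroup Ω} (hKT : K ≤ T) (hK : F.IsFullyCentralized K)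
    (key : centralizerIn T K ≤ K) : TCentric F T K := by
  refine ⟨hKT, fun Q' hQ' y hy => ?_⟩
  obtain ⟨e, he⟩ := isConj_iff.1 (isConj_symm hQ')
  obtain ⟨ψ, hψ, hag⟩ := exists_extension (IsSaturated.receptive hS hF hK) he le_sup_left
    (sup_le_extender he)
  have hyC : y ∈ centralizerIn S Q' := ⟨hT.1 hy.1, hy.2⟩
  set y' : ↥(Q' ⊔ centralizerIn S Q') := ⟨y, Subgroup.mem_sup_right hyC⟩ with hy'
  have h1 : ψ y' ∈ centralizerIn T K := by
    refine ⟨?_, (extension_mem_centralizerIn hψ le_sup_left hag y' hyC).2⟩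
    exact StronglyClosed.apply_mem hT hψ hy.1
  have h2 := key h1
  have h3 := hag (e.symm ⟨_, h2⟩)
  rw [MulEquiv.apply_symm_apply] at h3
  have h4 := F.injective_of_mem hψ h3
  rw [show y = ((e.symm ⟨_, h2⟩ : Q') : Ω) from (congrArg Subtype.val h4).symm]
  exact SetLike.coe_mem _

/-- A fully normalized subgroup has the largest normalizer in `T` among its conjugates. -/
theorem card_normalizerIn_le (hS : IsPGroup p S) (hF : F.IsSaturated p)
    (hT : F.StronglyClosed T) {Q R : Subgroup Ω} (hR : F.IsFullyNormalized R)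
    (hQ : F.IsConj Q R) : Nat.card (normalizerIn T Q) ≤ Nat.card (normalizerIn T R) := by
  obtain ⟨f, hf, hfN, -⟩ := exists_normalizer_map hS (IsSaturated.fullyAutomized hS hF hR)
    (IsSaturated.receptive hS hF (IsSaturated.fullyCentralized hS hF hR)) hQ
  have hle : normalizerIn T Q ≤ normalizerIn S Q := fun x hx => ⟨hT.1 hx.1, hx.2⟩
  have hmem : ∀ x : normalizerIn T Q, f (Subgroup.inclusion hle x) ∈ normalizerIn T R := fun x =>
    ⟨StronglyClosed.apply_mem hT hf x.2.1, (hfN _).2⟩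
  have := finite_le ((normalizerIn_le (S := T) R).trans hT.1)
  refine Nat.card_le_card_of_injective (fun x => (⟨_, hmem x⟩ : normalizerIn T R)) fun a b h => ?_
  exact Subgroup.inclusion_injective hle (F.injective_of_mem hf (congrArg Subtype.val h :))

omit [Fact p.Prime] in
/-- The normalizer of a subgroup grows strictly. -/
theorem card_lt_card_of_lt {P Q : Subgroup Ω} (hQ : Q ≤ S) (h : P < Q) :
    Nat.card P < Nat.card Q := by
  have := finite_le hQ
  refine lt_of_le_of_ne (Subgroup.card_le_of_le h.le) fun he => h.ne ?_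
  exact Subgroup.eq_of_le_of_card_ge h.le he.ge

/-- When `J(N_T(R)) ≤ R` is not `J(T)`, `J(R)` is centric in `T` and has a bigger normalizer. -/
theorem thompsonA_step (hS : IsPGroup p S) (hF : F.IsSaturated p) (hT : F.StronglyClosed T)
    {R : Subgroup Ω} (hR : F.IsFullyNormalized R) (hRT : R ≤ T)
    (hJ : thompsonSubgroupAOf (normalizerIn T R) ≤ R)
    (hne : thompsonSubgroupAOf R ≠ thompsonSubgroupAOf T) :
    TCentric F T (thompsonSubgroupAOf R) ∧
      Nat.card (normalizerIn T R) < Nat.card (normalizerIn T (thompsonSubgroupAOf R)) := by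
  have := finite_le hT.1
  have hTp : IsPGroup p T := hS.to_le hT.1
  have hNS : normalizerIn T R ≤ S := (normalizerIn_le R).trans hT.1
  have hJeq : thompsonSubgroupAOf R = thompsonSubgroupAOf (normalizerIn T R) :=
    thompsonA_eq_of_le (le_normalizerIn hRT) hNS hJ
  have hKT : thompsonSubgroupAOf R ≤ T := (thompsonAOf_le R).trans hRT
  have hKS := hKT.trans hT.1
  have hlt : normalizerIn T R < T := lt_of_le_of_ne (normalizerIn_le R) fun h =>
    hne (by rw [hJeq, h])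
  refine ⟨?_, ?_⟩
  · obtain ⟨K', hKK', hK'⟩ := exists_fullyNormalized (F := F) hKS
    obtain ⟨f, hf, -, himg⟩ := exists_normalizer_map hS (IsSaturated.fullyAutomized hS hF hK')
      (IsSaturated.receptive hS hF (IsSaturated.fullyCentralized hS hF hK')) hKK'
    have hNK : normalizerIn T R ≤ normalizerIn S (thompsonSubgroupAOf R) := fun g hg =>
      ⟨hT.1 hg.1, by
        rw [hJeq]
        exact normalizer_le_normalizer_thompsonA _ (Subgroup.le_normalizer hg)⟩
    have hRK : R ≤ normalizerIn S (thompsonSubgroupAOf R) := (le_normalizerIn hRT).trans hNK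
    have hR'T : img f R ≤ T := by
      rintro _ ⟨z, hz, rfl⟩
      exact StronglyClosed.apply_mem hT hf (hRT hz)
    have hle : img f (normalizerIn T R) ≤ normalizerIn T (img f R) := by
      rintro _ ⟨z, hz, rfl⟩
      refine ⟨StronglyClosed.apply_mem hT hf hz.1, ?_⟩
      have key : ∀ w : normalizerIn S (thompsonSubgroupAOf R),
          (w : Ω) ∈ Subgroup.normalizer (R : Set Ω) → ∀ y ∈ img f R,
            f w * y * (f w)⁻¹ ∈ img f R := by
        rintro w hw _ ⟨r, hr, rfl⟩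
        refine ⟨w * r * w⁻¹, ?_, by rw [map_mul, map_mul, map_inv]⟩
        exact (conj_mem_of_mem_normalizer hw hr : (w : Ω) * r * (w : Ω)⁻¹ ∈ R)
      refine Subgroup.mem_normalizer_iff.2 fun y => ⟨key z hz.2 y, fun h => ?_⟩
      have h1 := key z⁻¹ (Subgroup.inv_mem _ hz.2) _ h
      rw [map_inv] at h1
      simpa [mul_assoc] using h1
    have := finite_le ((normalizerIn_le (S := T) (img f R)).trans hT.1)
    have heq : img f (normalizerIn T R) = normalizerIn T (img f R) := by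
      refine Subgroup.eq_of_le_of_card_ge hle ?_
      rw [card_img (F.injective_of_mem hf) hNK]
      exact card_normalizerIn_le hS hF hT hR (isConj_symm (isConj_img hf hRK))
    have hJ' : thompsonSubgroupAOf (normalizerIn T (img f R)) = K' := by
      rw [← heq, thompsonA_img_eq hf hNK, ← hJeq, himg]
    have hK'R : K' ≤ img f R := by
      rw [← himg]; exact img_mono f (thompsonAOf_le R)
    refine (tCentric_of_fullyCentralized hS hF hT ((hK'R.trans hR'T))
      (IsSaturated.fullyCentralized hS hF hK') ?_).conj hT (isConj_symm hKK')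
    have hmem : ∀ z ∈ centralizerIn T K', z ∈ normalizerIn T (img f R) → z ∈ K' := by
      intro z hz hzN
      rw [← hJ']
      exact mem_thompsonA_of_centralizes ((normalizerIn_le _).trans hT.1) hzN fun y hy =>
        (mem_centralizerIn.1 hz).2 y (hJ' ▸ hy)
    by_contra hnot
    have hnR : ¬ centralizerIn T K' ≤ img f R := fun h => hnot fun z hz =>
      hmem z hz ⟨hz.1, Subgroup.le_normalizer (h hz)⟩
    have hn : img f R ≤ Subgroup.normalizer (centralizerIn T K' : Set Ω) := by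
      have hK'n : img f R ≤ Subgroup.normalizer (K' : Set Ω) := by
        rw [← himg, ← thompsonA_img_eq hf hRK]
        exact Subgroup.le_normalizer.trans (normalizer_le_normalizer_thompsonA _)
      refine Subgroup.le_normalizer_iff.2 fun g hg z hz => mem_centralizerIn.2
        ⟨T.mul_mem (T.mul_mem (hR'T hg) hz.1) (T.inv_mem (hR'T hg)), fun k hk => ?_⟩
      have h1 := (mem_centralizerIn.1 hz).2 _
        (conj_mem_of_mem_normalizer (hK'n (Subgroup.inv_mem _ hg)) hk)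
      rw [inv_inv] at h1
      calc k * (g * z * g⁻¹) = g * (g⁻¹ * k * g * z) * g⁻¹ := by group
        _ = g * (z * (g⁻¹ * k * g)) * g⁻¹ := by rw [h1]
        _ = g * z * g⁻¹ * k := by group
    have hMT : img f R ⊔ centralizerIn T K' ≤ T := sup_le hR'T (centralizerIn_le K')
    have := finite_le (hMT.trans hT.1)
    obtain ⟨g, hg, hgR⟩ := exists_mem_normalizerIn_not_mem (p := p) (hTp.to_le hMT)
      (left_lt_sup.2 hnR)
    have hgm : g ∈ (img f R : Set Ω) * (centralizerIn T K' : Set Ω) := by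
      rw [← Subgroup.coe_mul_of_left_le_normalizer_right _ _ hn]
      exact hg.1
    obtain ⟨r, hr, z, hz, rfl⟩ := hgm
    refine hgR ((img f R).mul_mem hr (hK'R (hmem z hz ⟨hz.1, ?_⟩)))
    have := mul_mem (inv_mem (Subgroup.le_normalizer hr)) hg.2
    simpa using this
  · have h1 := lt_normalizerIn (p := p) hTp hlt
    refine (card_lt_card_of_lt ((normalizerIn_le _).trans hT.1) h1).trans_le ?_
    have := finite_le ((normalizerIn_le (S := T) (thompsonSubgroupAOf R)).trans hT.1)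
    refine Subgroup.card_le_of_le fun g hg => ⟨hg.1, ?_⟩
    rw [hJeq]
    exact normalizer_le_normalizer_thompsonA _ hg.2

end CfsgLib.Fusion
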