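import Cfsg.Agent.Lib.Fusion.OmegaSevenHom

/-!
# The `2`-fusion system of `Ω₇(q)`, `q ≡ ± 3 (mod 8)`
-/

set_option autoImplicit false

namespace CfsgLib.Fusion.OmegaSeven

open Cfsg CfsgLib.Sporadic CfsgLib.Classical.Quad CfsgLib.Known.OmegaCriterion

variable {F : Type*} [Field F] [Fintype F] {u w : F} (huw : u * u + w * w = -1) (h2 : (2 : F) ≠ 0)
include huw h2

theorem frameN_coe (a : Fin 7) : frameN u w (a : ℕ) = frame u w a := by
  rw [frameN]
  congr 1
  exact Fin.ext (Nat.mod_eq_of_lt a.2)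

theorem base_flip (i : Fin 6) :
    ∃ σ ∈ monomial u w, Rep σ (baseList.getD i pone) := by
  have hchk : ∀ i : Fin 6, (okPerm (baseList.getD i pone) && forallLt 24 (fun n =>
      Nat.beq (pget (baseList.getD i pone) n)
      (if n < 7 then (fun c => if c = (i : ℕ) ∨ c = i + 1 then c + 7 else c) n else if n < 14 then
        (if (fun c => if c = (i : ℕ) ∨ c = i + 1 then c + 7 else c) (n - 7) < 7 then
          (fun c => if c = (i : ℕ) ∨ c = i + 1 then c + 7 else c) (n - 7) + 7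
        else (fun c => if c = (i : ℕ) ∨ c = i + 1 then c + 7 else c) (n - 7) - 7) else n))) = true := by
    decide +kernel
  have hi6 := i.2
  obtain ⟨a, ha⟩ : ∃ a : Fin 7, (a : ℕ) = i := ⟨⟨i, by omega⟩, rfl⟩
  obtain ⟨b, hb⟩ : ∃ b : Fin 7, (b : ℕ) = i + 1 := ⟨⟨i + 1, by omega⟩, rfl⟩
  have hab : a ≠ b := fun h => by rw [h] at ha; omega
  have hmem : (Classical.Quad.refl (q_frame_ne huw h2 a) * Classical.Quad.refl (q_frame_ne huw h2 b) : OQ (qOdd 3 F)) ∈
      commutator (OQ (qOdd 3 F)) :=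
    refl_pair_mem huw h2 _ _ (by rw [q_frame huw, q_frame huw, sqc_mul_self])
  have hact : ∀ c < 7, ((Classical.Quad.refl (q_frame_ne huw h2 a) * Classical.Quad.refl (q_frame_ne huw h2 b) : OQ (qOdd 3 F)) : (Idx → F) ≃ₗ[F] (Idx → F))
      (frameN u w c) = vecN u w ((fun c => if c = (i : ℕ) ∨ c = i + 1 then c + 7 else c) c) := by
    intro c hc
    beta_reduce
    obtain ⟨c, rfl⟩ : ∃ c' : Fin 7, c = c' := ⟨⟨c, hc⟩, rfl⟩
    show (Classical.Quad.refl (q_frame_ne huw h2 a) : (Idx → F) ≃ₗ[F] (Idx → F))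
      (((Classical.Quad.refl (q_frame_ne huw h2 b) : OQ (qOdd 3 F)) : (Idx → F) ≃ₗ[F] (Idx → F)) (frameN u w c)) = _
    rw [frameN_coe huw h2, refl_frame_apply huw h2 b c]
    have hca : c = a ↔ (c : ℕ) = i := by rw [Fin.ext_iff, ha]
    have hcb : c = b ↔ (c : ℕ) = i + 1 := by rw [Fin.ext_iff, hb]
    by_cases h : (c : ℕ) = i ∨ (c : ℕ) = i + 1
    · have hv : vecN u w ((c : ℕ) + 7) = -frame u w c := by
        rw [vecN, if_neg (by omega), if_pos (by omega), Nat.add_sub_cancel, frameN_coe huw h2]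
      rw [if_pos h, hv]
      rcases h with h | h
      · rw [if_neg (fun e => hab ((hca.2 h).symm.trans e)), refl_frame_apply huw h2 a c, if_pos (hca.2 h)]
      · rw [if_pos (hcb.2 h), map_neg, refl_frame_apply huw h2 a c,
          if_neg (fun e => hab (e.symm.trans (hcb.2 h)))]
    · have hv : vecN u w (c : ℕ) = frame u w c := by rw [vecN, if_pos c.2, frameN_coe huw h2]
      rw [if_neg h, hv, if_neg (fun e => h (Or.inr (hcb.1 e))),
        refl_frame_apply huw h2 a c, if_neg (fun e => h (Or.inl (hca.1 e)))]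
  obtain ⟨σ, hσ, hi⟩ := exists_induces (u := u) (w := w) (p := baseList.getD i pone)
    (fun c => if c = (i : ℕ) ∨ c = i + 1 then c + 7 else c)
    (Classical.Quad.refl (q_frame_ne huw h2 a) * Classical.Quad.refl (q_frame_ne huw h2 b)) (hchk i)
    (fun c hc => by split_ifs with h <;> omega) hact
  exact ⟨σ, ⟨_, hmem, hi⟩, hσ⟩

theorem base_cycle (i : Fin 5) :
    ∃ σ ∈ monomial u w, Rep σ (baseList.getD (6 + i) pone) := by
  have hchk : ∀ i : Fin 5, (okPerm (baseList.getD (6 + i) pone) && forallLt 24 (fun n =>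
      Nat.beq (pget (baseList.getD (6 + i) pone) n)
      (if n < 7 then (fun c => if c = (i : ℕ) ∨ c = i + 1 then c + 1 else if c = i + 2 then i else c) n
       else if n < 14 then
        (if (fun c => if c = (i : ℕ) ∨ c = i + 1 then c + 1 else if c = i + 2 then i else c) (n - 7) < 7 then
          (fun c => if c = (i : ℕ) ∨ c = i + 1 then c + 1 else if c = i + 2 then i else c) (n - 7) + 7
        else (fun c => if c = (i : ℕ) ∨ c = i + 1 then c + 1 else if c = i + 2 then i else c) (n - 7) - 7)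
       else n))) = true := by
    decide +kernel
  have hi5 := i.2
  obtain ⟨a, ha⟩ : ∃ a : Fin 7, (a : ℕ) = i := ⟨⟨i, by omega⟩, rfl⟩
  obtain ⟨b, hb⟩ : ∃ b : Fin 7, (b : ℕ) = i + 1 := ⟨⟨i + 1, by omega⟩, rfl⟩
  obtain ⟨d, hd⟩ : ∃ d : Fin 7, (d : ℕ) = i + 2 := ⟨⟨i + 2, by omega⟩, rfl⟩
  have hab : a ≠ b := fun h => by rw [h] at ha; omega
  have hbd : b ≠ d := fun h => by rw [h] at hb; omega
  have hmem : (Classical.Quad.refl (q_frame_sub_ne huw h2 hab) * Classical.Quad.refl (q_frame_sub_ne huw h2 hbd) : OQ (qOdd 3 F)) ∈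
      commutator (OQ (qOdd 3 F)) :=
    refl_pair_mem huw h2 _ _ (by rw [q_frame_sub huw h2 hab, q_frame_sub huw h2 hbd, sqc_mul_self])
  have hact : ∀ c < 7, ((Classical.Quad.refl (q_frame_sub_ne huw h2 hab) * Classical.Quad.refl (q_frame_sub_ne huw h2 hbd) : OQ (qOdd 3 F)) : (Idx → F) ≃ₗ[F] (Idx → F))
      (frameN u w c) = vecN u w ((fun c => if c = (i : ℕ) ∨ c = i + 1 then c + 1 else if c = i + 2 then i else c) c) := by
    intro c hc
    beta_reduce
    obtain ⟨c, rfl⟩ : ∃ c' : Fin 7, c = c' := ⟨⟨c, hc⟩, rfl⟩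
    show (Classical.Quad.refl (q_frame_sub_ne huw h2 hab) : (Idx → F) ≃ₗ[F] (Idx → F))
      (((Classical.Quad.refl (q_frame_sub_ne huw h2 hbd) : OQ (qOdd 3 F)) : (Idx → F) ≃ₗ[F] (Idx → F)) (frameN u w c)) = _
    rw [frameN_coe huw h2, refl_sub_apply huw h2 hbd c, refl_sub_apply huw h2 hab]
    have hlt : ((Equiv.swap a b (Equiv.swap b d c) : Fin 7) : ℕ) =
        if (c : ℕ) = i ∨ (c : ℕ) = i + 1 then (c : ℕ) + 1 else if (c : ℕ) = i + 2 then (i : ℕ) else c := by
      simp only [Equiv.swap_apply_def, Fin.ext_iff]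
      split_ifs <;> omega
    rw [vecN, ← hlt, if_pos (Fin.is_lt _), frameN_coe huw h2]
  obtain ⟨σ, hσ, hi⟩ := exists_induces (u := u) (w := w) (p := baseList.getD (6 + i) pone)
    (fun c => if c = (i : ℕ) ∨ c = i + 1 then c + 1 else if c = i + 2 then i else c)
    (Classical.Quad.refl (q_frame_sub_ne huw h2 hab) * Classical.Quad.refl (q_frame_sub_ne huw h2 hbd)) (hchk i)
    (fun c hc => by split_ifs with h h' <;> omega) hact
  exact ⟨σ, ⟨_, hmem, hi⟩, hσ⟩

theorem base_mem (p : ℕ) (hp : p ∈ baseList) : ∃ σ ∈ monomial u w, Rep σ p := by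
  obtain ⟨n, hn, rfl⟩ := List.mem_iff_getElem.1 hp
  rw [← List.getD_eq_getElem _ pone hn]
  have hlen : baseList.length = 11 := rfl
  rcases Nat.lt_or_ge n 6 with h | h
  · exact base_flip huw h2 ⟨n, h⟩
  · obtain ⟨σ, hσ⟩ := base_cycle huw h2 (⟨n - 6, by omega⟩ : Fin 5)
    refine ⟨σ, hσ.1, ?_⟩
    have := hσ.2
    rwa [show 6 + (n - 6) = n by omega] at this

/-- A half-integral reflection carries a double sign change to a signed double transposition. -/
theorem bridge {g h : OQ (qOdd 3 F)} {σ τ : Equiv.Perm GolayPt} (hσ : Rep σ bxO7) (hτ : Rep τ bvO7)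
    (hg : Induces u w σ g) (hh : Induces u w τ h) :
    ∃ c ∈ commutator (OQ (qOdd 3 F)), c * g * c⁻¹ = h := by
  set s : Idx → F := frame u w 0 + frame u w 1 + frame u w 2 + frame u w 3 with hs
  have hps : ∀ c : Fin 7, QuadraticMap.polar (qOdd 3 F) (frame u w c) s =
      if (c : ℕ) < 4 then -2 else 0 := by
    intro c
    simp only [hs, polar_add_right', polar_frame huw]
    fin_cases c <;> simp
  have hqs : qOdd 3 F s = -4 := by
    have h1 : QuadraticMap.polar (qOdd 3 F) s s = -8 := by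
      conv_lhs => arg 2; rw [hs]
      simp only [polar_add_left', hps]
      norm_num
    rw [polar_self'] at h1
    refine mul_left_cancel₀ h2 ?_
    rw [h1]; norm_num
  have h4 : (4 : F) ≠ 0 := by
    have := mul_ne_zero h2 h2
    norm_num at this ⊢
    exact this
  have hqs0 : qOdd 3 F s ≠ 0 := by rw [hqs]; exact neg_ne_zero.2 h4
  have hmem : (Classical.Quad.refl hqs0 * refl (q_frame_ne huw h2 4) : OQ (qOdd 3 F)) ∈ commutator (OQ (qOdd 3 F)) := by
    refine refl_pair_mem huw h2 _ _ ?_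
    rw [hqs, q_frame huw, ← sqc_mul (neg_ne_zero.2 h4) (by simp),
      show (-4 : F) * -1 = 2 * 2 by norm_num, sqc_mul h2 h2, sqc_mul_self]
  refine ⟨_, hmem, ?_⟩
  rw [mul_inv_eq_iff_eq_mul]
  refine oq_ext huw h2 fun a => ?_
  have himg : ∀ {ρ : Equiv.Perm GolayPt} {k : OQ (qOdd 3 F)} {p : ℕ}, Rep ρ p → Induces u w ρ k →
      ∀ c : Fin 7, (k : (Idx → F) ≃ₗ[F] (Idx → F)) (frame u w c) = vecN u w (pget p c) := by
    intro ρ k p hρ hk c
    have hx : ix (pt (c : ℕ)) = c := ix_pt (by omega)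
    have := hk.2 (pt (c : ℕ))
    rw [vec, vec, ← hρ (pt (c : ℕ)), hx] at this
    rwa [vecN, if_pos c.2, frameN_coe huw h2] at this
  have hσ' := himg hσ hg
  have hτ' := himg hτ hh
  have hfl : ∀ c : Fin 7, pget bxO7 c = if (c : ℕ) = 0 ∨ (c : ℕ) = 1 then (c : ℕ) + 7 else c := by
    decide +kernel
  have htr : ∀ c : Fin 7, pget bvO7 c = ![1, 0, 10, 9, 4, 5, 6] c := by decide +kernel
  have hrs : ∀ c : Fin 7, ((Classical.Quad.refl hqs0 * refl (q_frame_ne huw h2 4) : OQ (qOdd 3 F)) :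
      (Idx → F) ≃ₗ[F] (Idx → F)) (frame u w c) =
      if c = 4 then -frame u w c else if (c : ℕ) < 4 then frame u w c - (2⁻¹ : F) • s else frame u w c := by
    intro c
    show ((Classical.Quad.refl hqs0 : OQ (qOdd 3 F)) : (Idx → F) ≃ₗ[F] (Idx → F))
      (((Classical.Quad.refl (q_frame_ne huw h2 4) : OQ (qOdd 3 F)) : (Idx → F) ≃ₗ[F] (Idx → F)) (frame u w c)) = _
    rw [refl_frame_apply huw h2 4 c]
    split_ifs with hc hc'
    · rw [map_neg, refl_apply, hps, if_neg (by rw [hc]; decide), mul_zero, zero_smul, sub_zero]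
    · rw [refl_apply, hps, if_pos hc', hqs]
      congr 2
      field_simp
      ring
    · rw [refl_apply, hps, if_neg hc', mul_zero, zero_smul, sub_zero]
  have hgv : ∀ c : Fin 7, (g : (Idx → F) ≃ₗ[F] (Idx → F)) (frame u w c) =
      if c = 0 ∨ c = 1 then -frame u w c else frame u w c := fun c => by
    rw [hσ', hfl]
    fin_cases c <;> rfl
  have hhv : ∀ c : Fin 7, (h : (Idx → F) ≃ₗ[F] (Idx → F)) (frame u w c) =
      ![frame u w 1, frame u w 0, -frame u w 3, -frame u w 2, frame u w 4, frame u w 5, frame u w 6] c :=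
    fun c => by
      rw [hτ', htr]
      fin_cases c <;> rfl
  have hhs : (h : (Idx → F) ≃ₗ[F] (Idx → F)) s =
      frame u w 1 + frame u w 0 - frame u w 3 - frame u w 2 := by
    rw [hs, map_add, map_add, map_add, hhv, hhv, hhv, hhv]
    simp [sub_eq_add_neg]
  show ((Classical.Quad.refl hqs0 * Classical.Quad.refl (q_frame_ne huw h2 4) : OQ (qOdd 3 F)) :
        (Idx → F) ≃ₗ[F] (Idx → F))
      ((g : (Idx → F) ≃ₗ[F] (Idx → F)) (frame u w a)) =
    (h : (Idx → F) ≃ₗ[F] (Idx → F))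
      (((Classical.Quad.refl hqs0 * Classical.Quad.refl (q_frame_ne huw h2 4) : OQ (qOdd 3 F)) :
        (Idx → F) ≃ₗ[F] (Idx → F)) (frame u w a))
  generalize hrr : ((Classical.Quad.refl hqs0 * Classical.Quad.refl (q_frame_ne huw h2 4) :
    OQ (qOdd 3 F)) : (Idx → F) ≃ₗ[F] (Idx → F)) = r at hrs ⊢
  rw [hgv, hrs a]
  fin_cases a <;> simp [hrs, hhv, hhs] <;> simp [hs] <;> match_scalars <;>
    (first | ring1 | (field_simp; ring1))

omit huw in
theorem card_omega_two_part {q : ℕ} (hF : Fintype.card F = q) (hq : q % 8 = 3 ∨ q % 8 = 5) :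
    ∃ m, Odd m ∧ Nat.card (commutator (OQ (qOdd 3 F))) = 2 ^ 9 * m := by
  classical
  have hodd : Odd q := by rw [Nat.odd_iff]; omega
  have hQ := qOdd_nondeg (F := F) h2 3
  have hno : ¬ (negIsom hQ ∈ commutator (OQ (qOdd 3 F)) ∧ (2 : F) ≠ 0) := by
    rintro ⟨h, -⟩
    rw [negIsom_mem_iff hQ] at h
    obtain ⟨g, hg, hval⟩ := h
    have hle := Omega_le_squares hQ (hex_of_two_ne_zero h2) hg
    have hdet : g ∈ Cfsg.specialIsometryGroup F (⇑(qOdd 3 F)) :=
      (Subgroup.closure_le _).2 (by rintro _ ⟨x, hx, rfl⟩; exact mul_mem hx hx) hle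
    have h3 := congrArg (fun u : Fˣ => (u : F)) (show Matrix.GeneralLinearGroup.det
      (g : Matrix.GeneralLinearGroup Idx F) = 1 from hdet)
    simp only [Matrix.GeneralLinearGroup.val_det_apply, hval, Matrix.det_neg, Matrix.det_one,
      Units.val_one, Fintype.card_sum, Fintype.card_unit, Fintype.card_fin, mul_one] at h3
    rw [Odd.neg_one_pow ⟨3, by ring⟩] at h3
    exact h2 (by linear_combination -h3)
  have hc : Nat.card (Subgroup.center (commutator (OQ (qOdd 3 F)))) = 1 := by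
    rw [card_center_Omega hQ (by rw [Module.finrank_pi]; decide) False (iff_of_false id hno),
      if_neg not_false]
  have hcard := card_POmega_odd hF hodd 3 le_rfl
  rw [← coe_qOdd, Nat.card_congr (pOmegaEquiv (qOdd 3 F)).toEquiv] at hcard
  have hOm := Subgroup.card_eq_card_quotient_mul_card_subgroup
    (Subgroup.center (commutator (OQ (qOdd 3 F))))
  rw [hc, mul_one] at hOm
  rw [← hOm] at hcard
  simp only [Finset.prod_range_succ, Finset.prod_range_zero, one_mul] at hcard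
  obtain ⟨a, ha, hao⟩ : ∃ a, q ^ 2 - 1 = 8 * a ∧ Odd a := by
    refine ⟨(q ^ 2 - 1) / 8, ?_⟩
    obtain ⟨k, rfl | rfl⟩ : ∃ k, q = 8 * k + 3 ∨ q = 8 * k + 5 := ⟨q / 8, by omega⟩
    · have e : (8 * k + 3) ^ 2 - 1 = 8 * (8 * k * k + 6 * k + 1) :=
        Nat.sub_eq_of_eq_add (by ring)
      rw [e, Nat.mul_div_cancel_left _ (by norm_num)]
      exact ⟨rfl, ⟨4 * k * k + 3 * k, by ring⟩⟩
    · have e : (8 * k + 5) ^ 2 - 1 = 8 * (8 * k * k + 10 * k + 3) :=
        Nat.sub_eq_of_eq_add (by ring)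
      rw [e, Nat.mul_div_cancel_left _ (by norm_num)]
      exact ⟨rfl, ⟨4 * k * k + 5 * k + 1, by ring⟩⟩
  have h1 : 1 ≤ q ^ 2 := Nat.one_le_pow _ _ (by omega)
  obtain ⟨r, hr, hro⟩ : ∃ r, q ^ 2 + 1 = 2 * r ∧ Odd r := ⟨4 * a + 1, by omega, ⟨2 * a, by ring⟩⟩
  obtain ⟨j, hj⟩ : ∃ j, q ^ 2 = 2 * j + 1 := ⟨4 * a, by omega⟩
  have e4 : q ^ 4 - 1 = 16 * (a * r) := by
    have : q ^ 4 - 1 = (q ^ 2 + 1) * (q ^ 2 - 1) := by
      rw [← Nat.sq_sub_sq, show (q ^ 2) ^ 2 = q ^ 4 by ring, one_pow]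
    rw [this, hr, ha]; ring
  have e6 : q ^ 6 - 1 = 8 * (a * (q ^ 4 + q ^ 2 + 1)) := by
    refine Nat.sub_eq_of_eq_add ?_
    have h8 : q ^ 2 = 8 * a + 1 := by omega
    calc q ^ 6 = (q ^ 2) ^ 3 := by ring
      _ = _ := by rw [show q ^ 4 = (q ^ 2) ^ 2 by ring, h8]; ring
  refine ⟨q ^ 9 * (a * (a * r) * (a * (q ^ 4 + q ^ 2 + 1))), ?_, ?_⟩
  · refine Odd.mul (Odd.pow hodd) (Odd.mul (Odd.mul hao (Odd.mul hao hro)) (Odd.mul hao ?_))
    exact ⟨2 * j * j + 3 * j + 1, by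
      rw [show q ^ 4 = (q ^ 2) ^ 2 by ring, hj]; ring⟩
  · norm_num at hcard
    rw [ha, e4, e6] at hcard
    linarith

omit huw in
/-- The fusion data of any group isomorphic to `Ω₇(q)`. -/
theorem fusion_data {q : ℕ} (hF : Fintype.card F = q) (hq : q % 8 = 3 ∨ q % 8 = 5) {G : Type*}
    [Group G] [Finite G] (e : commutator (OQ (qOdd 3 F)) ≃* G) (S : Sylow 2 G) :
    (groupFusionSystem (S : Subgroup G)).autGroup (S : Subgroup G) = Inn ↥(S : Subgroup G) ∧
      (∀ T : Subgroup G, (groupFusionSystem (S : Subgroup G)).StronglyClosed T →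
        T = ⊥ ∨ T = (S : Subgroup G)) ∧
      (groupFusionSystem (S : Subgroup G)).IsSimple 2 := by
  obtain ⟨u, w, huw⟩ := CfsgLib.Classical.Dickson.exists_sq_add_sq_eq_neg_one (F := F)
  obtain ⟨φ, hφ, hind⟩ := exists_monomialHom huw h2
  obtain ⟨m, hm, hc⟩ := card_omega_two_part h2 hF hq
  refine Cert.data_of_chkU (inO7_sound (base_mem huw h2)) chkO7 keysO7_eq
    (e.toMonoidHom.comp φ) (e.injective.comp hφ) (fun a b ha hb => ?_) (m := m)
    (by rw [← Nat.card_congr e.toEquiv, hc]) hm S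
  obtain ⟨c, hc, hcab⟩ := bridge huw h2 ha hb (hind a) (hind b)
  refine ⟨e ⟨c, hc⟩, ?_⟩
  show e ⟨c, hc⟩ * e (φ a) * (e ⟨c, hc⟩)⁻¹ = e (φ b)
  rw [← map_inv, ← map_mul, ← map_mul]
  exact congrArg e (Subtype.ext hcab)

end CfsgLib.Fusion.OmegaSeven
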