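import Cfsg.Agent.Lib.Fusion.OmegaSevenData

/-!
# The certificate for the monomial subgroup of `Ω₇(q)` checks
-/

set_option autoImplicit false

namespace CfsgLib.Fusion.OmegaSeven

open Cfsg CfsgLib.Sporadic

/-- The packed value of a word in the basic elements. -/
noncomputable def wordVal (w : List ℕ) : ℕ :=
  Cert.wordProd (w.map fun a => baseList.getD a pone)

noncomputable def inO7 (p : ℕ) : Bool :=
  List.rec false (fun w _ ih => Nat.beq (wordVal w) p || ih) wordList

theorem inO7_sound {M : Subgroup (Equiv.Perm GolayPt)} (hb : ∀ p ∈ baseList, ∃ σ ∈ M, Rep σ p)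
    (p : ℕ) (h : inO7 p = true) : ∃ σ ∈ M, Rep σ p := by
  unfold inO7 at h
  generalize wordList = W at h
  induction W with
  | nil => exact absurd h Bool.false_ne_true
  | cons w W ih =>
    have h' : (Nat.beq (wordVal w) p || List.rec false (fun w _ ih => Nat.beq (wordVal w) p || ih) W) = true := h
    rw [Bool.or_eq_true] at h'
    rcases h' with h' | h'
    · rw [← Nat.eq_of_beq_eq_true h']
      refine Cert.rep_wordProd _ fun q hq => ?_
      obtain ⟨a, -, rfl⟩ := List.mem_map.1 hq
      by_cases ha : a < baseList.length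
      · rw [List.getD_eq_getElem _ _ ha]
        exact hb _ (List.getElem_mem _)
      · rw [List.getD_eq_default _ _ (by omega)]
        exact ⟨1, one_mem M, Rep.one⟩
    · exact ih h'

set_option maxRecDepth 20000 in
theorem keysO7_eq : keysO7 = (Cert.elems gO7 9).map (Cert.ikey (Cert.elems gO7 9)) := by
  decide +kernel

theorem chkO7 : Cert.chkU inO7 gO7 keysO7 9 conjsO7 stepsO7 bxO7 bvO7 zsO7 = true := by
  decide +kernel

end CfsgLib.Fusion.OmegaSeven
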