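import Cfsg.Agent.Lib.Known.OmegaCriterion
import Cfsg.Agent.Lib.Classical.Quad.StandardForms
import Cfsg.Agent.Lib.Classical.Dickson.PlatonicIff

/-!
# An orthogonal frame of seven vectors of norm `-1` for the standard form of `Ω₇(q)`
-/

set_option autoImplicit false

namespace CfsgLib.Fusion.OmegaSeven

open CfsgLib.Classical.Quad CfsgLib.Known.OmegaCriterion
open QuadraticMap (polar polarBilin)

abbrev Idx : Type := Unit ⊕ (Fin 3 ⊕ Fin 3)

variable {F : Type*} [Field F]

/-- The frame, for `u ^ 2 + w ^ 2 = -1`. -/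
def frame (u w : F) (a : Fin 7) : Idx → F :=
  Sum.elim (fun _ => ![0, 0, 0, 0, 0, u, -w] a)
    (Sum.elim (![![1, 0, 0], ![0, 1, 0], ![0, 0, 1], ![u, w, 0], ![-w, u, 0], ![0, 0, w], ![0, 0, u]] a)
      (![![-1, 0, 0], ![0, -1, 0], ![0, 0, -1], ![u, w, 0], ![-w, u, 0], ![0, 0, w], ![0, 0, u]] a))

theorem polar_qOdd_three (v w : Idx → F) :
    polar (qOdd 3 F) v w = 2 * v (.inl ()) * w (.inl ()) +
      ((v (.inr (.inl 0)) * w (.inr (.inr 0)) + w (.inr (.inl 0)) * v (.inr (.inr 0))) +
        (v (.inr (.inl 1)) * w (.inr (.inr 1)) + w (.inr (.inl 1)) * v (.inr (.inr 1))) +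
        (v (.inr (.inl 2)) * w (.inr (.inr 2)) + w (.inr (.inl 2)) * v (.inr (.inr 2)))) := by
  rw [polar_qOdd, polar_qPlus, Fin.sum_univ_three]
  rfl

theorem qOdd_three_apply (v : Idx → F) :
    qOdd 3 F v = v (.inl ()) ^ 2 + (v (.inr (.inl 0)) * v (.inr (.inr 0)) +
      v (.inr (.inl 1)) * v (.inr (.inr 1)) + v (.inr (.inl 2)) * v (.inr (.inr 2))) := by
  rw [coe_qOdd, Cfsg.quadFormOdd, Fin.sum_univ_three]

variable {u w : F}

theorem q_frame (huw : u * u + w * w = -1) (a : Fin 7) : qOdd 3 F (frame u w a) = -1 := by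
  rw [qOdd_three_apply]
  fin_cases a <;> simp [frame] <;> linear_combination huw

theorem polar_frame (huw : u * u + w * w = -1) (a b : Fin 7) :
    polar (qOdd 3 F) (frame u w a) (frame u w b) = if a = b then -2 else 0 := by
  rw [polar_qOdd_three]
  fin_cases a <;> fin_cases b <;> simp [frame] <;>
    (first | ring1 | linear_combination 2 * huw)

section Norm

variable (huw : u * u + w * w = -1) (h2 : (2 : F) ≠ 0)
include huw h2

theorem polar_sum_frame (c : Fin 7 → F) (b : Fin 7) :
    polar (qOdd 3 F) (∑ a, c a • frame u w a) (frame u w b) = -2 * c b := by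
  have h : (polarBilin (qOdd 3 F)) (∑ a, c a • frame u w a) (frame u w b) = -2 * c b := by
    rw [map_sum, LinearMap.sum_apply, Finset.sum_eq_single b]
    · rw [map_smul, LinearMap.smul_apply, QuadraticMap.polarBilin_apply_apply, polar_frame huw,
        if_pos rfl, smul_eq_mul, mul_comm]
    · intro a _ hab
      rw [map_smul, LinearMap.smul_apply, QuadraticMap.polarBilin_apply_apply, polar_frame huw,
        if_neg hab, smul_zero]
    · exact fun h => absurd (Finset.mem_univ b) h
  exact h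

theorem linearIndependent_frame : LinearIndependent F (frame u w) := by
  rw [Fintype.linearIndependent_iff]
  intro c hc b
  have h := polar_sum_frame huw h2 c b
  rw [hc] at h
  have h0 : polar (qOdd 3 F) (0 : Idx → F) (frame u w b) = 0 := by
    rw [polar_qOdd_three]; simp
  rw [h0] at h
  exact (mul_eq_zero.1 h.symm).resolve_left (neg_ne_zero.2 h2)

/-- The frame as a basis. -/
noncomputable def frameBasis : Module.Basis (Fin 7) F (Idx → F) :=
  basisOfLinearIndependentOfCardEqFinrank (linearIndependent_frame huw h2)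
    (by rw [Module.finrank_pi]; rfl)

theorem frameBasis_apply (a : Fin 7) : frameBasis huw h2 a = frame u w a := by
  simp [frameBasis]

theorem oq_ext {g g' : OQ (qOdd 3 F)}
    (h : ∀ a, (g : (Idx → F) ≃ₗ[F] (Idx → F)) (frame u w a) =
      (g' : (Idx → F) ≃ₗ[F] (Idx → F)) (frame u w a)) : g = g' := by
  refine Subtype.ext ?_
  refine (frameBasis huw h2).ext' fun a => ?_
  rw [frameBasis_apply]
  exact h a

theorem frame_ne_zero (a : Fin 7) : frame u w a ≠ 0 :=
  (linearIndependent_frame huw h2).ne_zero a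

theorem q_frame_ne (a : Fin 7) : qOdd 3 F (frame u w a) ≠ 0 := by
  rw [q_frame huw]
  simp

theorem q_frame_sub {a b : Fin 7} (hab : a ≠ b) : qOdd 3 F (frame u w a - frame u w b) = -2 := by
  rw [show frame u w a - frame u w b = frame u w a + (-1 : F) • frame u w b by simp [sub_eq_add_neg],
    apply_add, apply_smul, polar_smul_right', polar_frame huw, if_neg hab, q_frame huw, q_frame huw]
  ring

theorem refl_frame_apply (a b : Fin 7) :
    ((refl (q_frame_ne huw h2 a) : OQ (qOdd 3 F)) : (Idx → F) ≃ₗ[F] (Idx → F)) (frame u w b) =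
      if b = a then -frame u w b else frame u w b := by
  rw [refl_apply, q_frame huw, polar_frame huw]
  split_ifs with h
  · subst h
    rw [show ((-1 : F))⁻¹ * -2 = 2 by norm_num, two_smul]
    abel
  · simp

theorem q_frame_sub_ne {a b : Fin 7} (hab : a ≠ b) : qOdd 3 F (frame u w a - frame u w b) ≠ 0 := by
  rw [q_frame_sub huw h2 hab]
  exact neg_ne_zero.2 h2

theorem refl_sub_apply {a b : Fin 7} (hab : a ≠ b) (c : Fin 7) :
    ((refl (q_frame_sub_ne huw h2 hab) : OQ (qOdd 3 F)) : (Idx → F) ≃ₗ[F] (Idx → F))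
      (frame u w c) = frame u w (Equiv.swap a b c) := by
  rw [refl_apply, q_frame_sub huw h2 hab,
    show frame u w a - frame u w b = frame u w a + (-1 : F) • frame u w b by simp [sub_eq_add_neg],
    polar_add_right', polar_smul_right', polar_frame huw, polar_frame huw]
  rcases eq_or_ne c a with rfl | hca
  · rw [Equiv.swap_apply_left, if_pos rfl, if_neg hab, mul_zero, add_zero,
      inv_mul_cancel₀ (neg_ne_zero.2 h2), one_smul, neg_smul, one_smul]
    abel
  rcases eq_or_ne c b with rfl | hcb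
  · rw [Equiv.swap_apply_right, if_pos rfl, if_neg hca,
      show (-2 : F)⁻¹ * (0 + -1 * -2) = -1 by
        rw [zero_add, show (-1 : F) * -2 = -(-2) by ring, mul_neg, inv_mul_cancel₀ (neg_ne_zero.2 h2)]]
    simp
  · rw [Equiv.swap_apply_of_ne_of_ne hca hcb, if_neg hca, if_neg hcb]
    simp

theorem refl_pair_mem [Finite F] {x y : Idx → F} (hx : qOdd 3 F x ≠ 0) (hy : qOdd 3 F y ≠ 0)
    (hs : sqc (qOdd 3 F x) * sqc (qOdd 3 F y) = 1) :
    (refl hx * refl hy : OQ (qOdd 3 F)) ∈ commutator (OQ (qOdd 3 F)) := by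
  have hQ := qOdd_nondeg (F := F) h2 3
  rw [mem_commutator_iff hQ (reflGroup_pi_eq_top hQ (hex_of_two_ne_zero h2))]
  exact ⟨by rw [par_refl_mul hQ, par_refl hQ]; decide, by rw [spinor_refl_mul hQ, spinor_refl hQ, hs]⟩

end Norm

end CfsgLib.Fusion.OmegaSeven
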