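import Cfsg.Agent.Lib.Fusion.OmegaSevenFrame
import Cfsg.Agent.Lib.Fusion.OmegaSevenCheck
import Cfsg.Agent.Lib.Classical.Quad.POmega

/-!
# The signed permutations `2^6 : A₇` inside `Ω₇(q)`
-/

set_option autoImplicit false

namespace CfsgLib.Fusion.OmegaSeven

open Cfsg CfsgLib.Sporadic CfsgLib.Classical.Quad CfsgLib.Known.OmegaCriterion

variable {F : Type*} [Field F] {u w : F}

/-- The frame by number. -/
def frameN (u w : F) (n : ℕ) : Idx → F := frame u w ⟨n % 7, Nat.mod_lt _ (by norm_num)⟩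

/-- The signed frame vector of a numbered point. -/
def vecN (u w : F) (n : ℕ) : Idx → F :=
  if n < 7 then frameN u w n else if n < 14 then -frameN u w (n - 7) else 0

/-- The signed frame vector of a point. -/
def vec (u w : F) (x : GolayPt) : Idx → F := vecN u w (ix x)

/-- `σ` fixes the unused points and is induced by `g`. -/
def Induces (u w : F) (σ : Equiv.Perm GolayPt) (g : OQ (qOdd 3 F)) : Prop :=
  (∀ x, 14 ≤ ix x → σ x = x) ∧ ∀ x, (g : (Idx → F) ≃ₗ[F] (Idx → F)) (vec u w x) = vec u w (σ x)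

variable (huw : u * u + w * w = -1) (h2 : (2 : F) ≠ 0)
include huw h2

theorem vecN_eq_iff {m n : ℕ} (hm : m < 14) (hn : n < 14) (h : vecN u w m = vecN u w n) : m = n := by
  have hli := linearIndependent_frame huw h2
  have key : ∀ a b : Fin 7, ∀ s t : F, s ≠ 0 → s • frame u w a = t • frame u w b → a = b ∧ s = t := by
    intro a b s t hs e
    by_contra hne
    rcases eq_or_ne a b with rfl | hab
    · exact hne ⟨rfl, smul_left_injective F (hli.ne_zero a) e⟩
    · have h := congrArg (fun z => QuadraticMap.polar (qOdd 3 F) z (frame u w a)) e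
      simp only [polar_smul_left', polar_frame huw, if_true, if_neg hab.symm, mul_zero] at h
      exact hs ((mul_eq_zero.1 h).resolve_right (neg_ne_zero.2 h2))
  have form : ∀ n < 14, vecN u w n = (if n < 7 then (1 : F) else -1) • frameN u w (n % 7) := by
    intro n hn
    unfold vecN
    split_ifs with h7
    · rw [one_smul, Nat.mod_eq_of_lt h7]
    · rw [neg_smul, one_smul, show n % 7 = n - 7 by omega]
  rw [form m hm, form n hn] at h
  have h1 : (if m < 7 then (1 : F) else -1) ≠ 0 := by split_ifs <;> simp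
  obtain ⟨e1, e2⟩ := key _ _ _ _ h1 h
  have e1' : m % 7 = n % 7 := by simpa [Nat.mod_mod] using congrArg Fin.val e1
  have hne : (1 : F) ≠ -1 := fun e => h2 (by linear_combination e)
  split_ifs at e2 with a b b
  · omega
  · exact absurd e2 hne
  · exact absurd e2.symm hne
  · omega

theorem induces_unique {σ : Equiv.Perm GolayPt} {g g' : OQ (qOdd 3 F)} (h : Induces u w σ g)
    (h' : Induces u w σ g') : g = g' := by
  refine oq_ext huw h2 fun a => ?_
  have hx : vec u w (pt a) = frame u w a := by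
    rw [vec, ix_pt (by omega), vecN, if_pos a.2, frameN]
    congr 1
    exact Fin.ext (Nat.mod_eq_of_lt a.2)
  rw [← hx, h.2, h'.2]

omit huw h2 in
theorem induces_one : Induces u w 1 (1 : OQ (qOdd 3 F)) := ⟨fun _ _ => rfl, fun _ => rfl⟩

omit huw h2 in
theorem Induces.mul {σ τ : Equiv.Perm GolayPt} {g h : OQ (qOdd 3 F)} (hg : Induces u w σ g)
    (hh : Induces u w τ h) : Induces u w (σ * τ) (g * h) := by
  refine ⟨fun x hx => ?_, fun x => ?_⟩
  · rw [Equiv.Perm.mul_apply, hh.1 x hx, hg.1 x hx]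
  · show (g : (Idx → F) ≃ₗ[F] (Idx → F)) ((h : (Idx → F) ≃ₗ[F] (Idx → F)) (vec u w x)) = _
    rw [hh.2, hg.2, Equiv.Perm.mul_apply]

omit huw h2 in
theorem Induces.inv {σ : Equiv.Perm GolayPt} {g : OQ (qOdd 3 F)} (hg : Induces u w σ g) :
    Induces u w σ⁻¹ g⁻¹ := by
  refine ⟨fun x hx => ?_, fun x => ?_⟩
  · conv_lhs => rw [← hg.1 x hx]
    exact σ.symm_apply_apply x
  · have := hg.2 (σ⁻¹ x)
    rw [show σ (σ⁻¹ x) = x from σ.apply_symm_apply x] at this
    rw [← this]
    exact (g : (Idx → F) ≃ₗ[F] (Idx → F)).symm_apply_apply _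

omit huw h2 in
/-- The signed permutations induced by `Ω`. -/
def monomial (u w : F) : Subgroup (Equiv.Perm GolayPt) where
  carrier := {σ | ∃ g ∈ commutator (OQ (qOdd 3 F)), Induces u w σ g}
  one_mem' := ⟨1, one_mem _, induces_one⟩
  mul_mem' := fun ⟨g, hg, hg'⟩ ⟨h, hh, hh'⟩ => ⟨g * h, mul_mem hg hh, hg'.mul hh'⟩
  inv_mem' := fun ⟨g, hg, hg'⟩ => ⟨g⁻¹, inv_mem hg, hg'.inv⟩

theorem exists_monomialHom :
    ∃ φ : monomial u w →* commutator (OQ (qOdd 3 F)), Function.Injective φ ∧
      ∀ σ : monomial u w, Induces u w (σ : Equiv.Perm GolayPt) (φ σ : OQ (qOdd 3 F)) := by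
  have h : ∀ σ : monomial u w, ∃ g : commutator (OQ (qOdd 3 F)), Induces u w (σ : Equiv.Perm GolayPt) g :=
    fun σ => let ⟨g, hg, hg'⟩ := σ.2; ⟨⟨g, hg⟩, hg'⟩
  choose f hf using h
  refine ⟨MonoidHom.mk' f fun σ τ => Subtype.ext (induces_unique huw h2 (hf _) ((hf σ).mul (hf τ))),
    fun σ τ e => ?_, hf⟩
  refine Subtype.ext (Equiv.ext fun x => ?_)
  have e' : f σ = f τ := e
  rcases Nat.lt_or_ge (ix x) 14 with hx | hx
  · have hσx : ix ((σ : Equiv.Perm GolayPt) x) < 14 := by
      by_contra hc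
      have := (hf σ).1 _ (not_lt.1 hc)
      rw [(σ : Equiv.Perm GolayPt).injective this] at hc
      exact hc hx
    have hτx : ix ((τ : Equiv.Perm GolayPt) x) < 14 := by
      by_contra hc
      have := (hf τ).1 _ (not_lt.1 hc)
      rw [(τ : Equiv.Perm GolayPt).injective this] at hc
      exact hc hx
    refine ix_injective (vecN_eq_iff huw h2 hσx hτx ?_)
    show vec u w _ = vec u w _
    rw [← (hf σ).2, ← (hf τ).2, e']
  · rw [(hf σ).1 x hx, (hf τ).1 x hx]

omit huw h2 in
/-- A packed signed permutation of the frame, read from seven values. -/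
theorem exists_induces {p : ℕ} (π : ℕ → ℕ) (g : OQ (qOdd 3 F))
    (hp : (okPerm p && forallLt 24 (fun i => Nat.beq (pget p i)
      (if i < 7 then π i else if i < 14 then (if π (i - 7) < 7 then π (i - 7) + 7 else π (i - 7) - 7)
        else i))) = true)
    (hπ : ∀ c < 7, π c < 14)
    (hg : ∀ c < 7, (g : (Idx → F) ≃ₗ[F] (Idx → F)) (frameN u w c) = vecN u w (π c)) :
    ∃ σ, Rep σ p ∧ Induces u w σ g := by
  rw [Bool.and_eq_true, forallLt_iff] at hp
  obtain ⟨σ, hσ⟩ := exists_rep hp.1
  have hval : ∀ x, ix (σ x) = (if ix x < 7 then π (ix x) else if ix x < 14 then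
      (if π (ix x - 7) < 7 then π (ix x - 7) + 7 else π (ix x - 7) - 7) else ix x) := fun x => by
    rw [← hσ x]
    exact Nat.eq_of_beq_eq_true (hp.2 _ (ix_lt x))
  refine ⟨σ, hσ, fun x hx => ix_injective ?_, fun x => ?_⟩
  · rw [hval, if_neg (by omega), if_neg (by omega)]
  · rw [vec, vec, hval]
    rcases Nat.lt_or_ge (ix x) 7 with h7 | h7
    · rw [if_pos h7, vecN, if_pos h7, hg _ h7]
    rcases Nat.lt_or_ge (ix x) 14 with h14 | h14
    · have hlt := hπ (ix x - 7) (by omega)
      rw [if_neg (by omega), if_pos h14]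
      conv_lhs => rw [vecN, if_neg (by omega), if_pos h14, map_neg, hg _ (by omega)]
      unfold vecN
      rcases Nat.lt_or_ge (π (ix x - 7)) 7 with hb | hb
      · simp only [if_pos hb]
        rw [if_neg (by omega), if_pos (by omega), Nat.add_sub_cancel]
      · simp only [if_neg (Nat.not_lt.2 hb)]
        rw [if_pos hlt, if_pos (by omega), neg_neg]
    · rw [if_neg (by omega), if_neg (by omega)]
      conv_lhs => rw [vecN, if_neg (by omega), if_neg (by omega), map_zero]
      rw [vecN, if_neg (by omega), if_neg (by omega)]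

end CfsgLib.Fusion.OmegaSeven
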