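import Cfsg.Agent.Lib.Fusion.Centric

/-!
Systems omitting the non-extendable automorphisms of one conjugacy class.
-/

set_option autoImplicit false

namespace CfsgLib.Fusion

open Cfsg Cfsg.FusionSystem

variable {Ω : Type*} [Group Ω] {S : Subgroup Ω} {F : FusionSystem S} {p : ℕ}

/-- An isomorphism onto `R` that extends to a map defined on the normalizer of its source. -/
def Transporter (F : FusionSystem S) {A R : Subgroup Ω} (a : A ≃* R) : Prop :=
  IsoIn F a ∧ ∃ ψ ∈ F.Hom (normalizerIn S A),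
    ∀ (x : A) (hx : (x : Ω) ∈ normalizerIn S A), ψ ⟨x, hx⟩ = (a x : Ω)

/-- A map with source conjugate to `R` that is, read on `R`, a product of extendable automorphisms. -/
def GoodMap (F : FusionSystem S) (R : Subgroup Ω) {P : Subgroup Ω} (φ : P →* Ω) : Prop :=
  ∀ (a : P ≃* R) (B : Subgroup Ω) (b : B ≃* R) (α : MulAut R), Transporter F a → Transporter F b →
    φ.range = B → (∀ x : P, ∃ hx : φ x ∈ B, α (a x) = b ⟨φ x, hx⟩) → α ∈ extGroup F R

theorem exists_transporter [Fact p.Prime] [Finite S] (hS : IsPGroup p S) (hF : F.IsSaturated p)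
    {A R : Subgroup Ω} (hR : F.IsFullyNormalized R) (hA : F.IsConj A R) :
    ∃ a : A ≃* R, Transporter F a := by
  obtain ⟨f, hf, -, himg⟩ := exists_normalizer_map hS (IsSaturated.fullyAutomized hS hF hR)
    (IsSaturated.receptive hS hF (IsSaturated.fullyCentralized hS hF hR)) hA
  have hAS := isConj_le_left hA
  obtain ⟨a, ha, hav⟩ := exists_iso (P := A) (Q := R)
    (restrict_mem hf (le_normalizerIn hAS)) (by rw [range_restrict, himg])
  exact ⟨a, ha, f, hf, fun x hx => (hav x).symm⟩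

theorem transporter_refl {R : Subgroup Ω} (hR : R ≤ S) : Transporter F (MulEquiv.refl R) :=
  ⟨isoIn_refl hR, _, incl_mem (normalizerIn_le R), fun _ _ => rfl⟩

/-- Restrictions of maps with larger sources are good. -/
theorem goodMap_restrict [Fact p.Prime] [Finite S] (hS : IsPGroup p S) {R P Q : Subgroup Ω}
    (hPQ : P < Q) {φ : P →* Ω} {ψ : Q →* Ω} (hψ : ψ ∈ F.Hom Q)
    (hag : ∀ x : P, ψ (Subgroup.inclusion hPQ.le x) = φ x) : GoodMap F R φ := by
  intro a B b α ha hb hB hα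
  obtain ⟨haI, f, hf, hfa⟩ := ha
  obtain ⟨hbI, f', hf', hfb⟩ := hb
  have hQS := hom_le hψ
  have := finite_le hQS
  obtain ⟨g, hg, hgP⟩ :=
    exists_mem_normalizerIn_not_mem (R := Q) (hR := hS.to_le hQS) (hP := hPQ)
  set M := normalizerIn Q P with hM
  have hPM : P ≤ M := le_normalizerIn hPQ.le
  have hMN : M ≤ normalizerIn S P := fun z hz => ⟨hQS hz.1, hz.2⟩
  set ψM := ψ.comp (Subgroup.inclusion (inf_le_left : M ≤ Q)) with hψMdef
  have hψM : ψM ∈ F.Hom M := restrict_mem hψ _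
  have hmem : ∀ z : M, ψM z ∈ normalizerIn S B := by
    intro z
    refine ⟨hom_apply_mem hψM z, ?_⟩
    have hfwd : ∀ y ∈ B, ∀ z : M, ψM z * y * (ψM z)⁻¹ ∈ B := by
      intro y hy z
      rw [← hB] at hy ⊢
      obtain ⟨x, rfl⟩ := hy
      refine ⟨⟨(z : Ω) * x * (z : Ω)⁻¹, conj_mem_of_mem_normalizer z.2.2 x.2⟩, ?_⟩
      rw [← hag, ← hag]
      show ψ _ = ψ _ * ψ _ * (ψ _)⁻¹
      rw [← map_inv, ← map_mul, ← map_mul]
      rfl
    have := finite_le hbI.le_left
    show ψM z ∈ Subgroup.normalizer (B : Set Ω)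
    rw [Subgroup.mem_normalizer_iff_map_conj_eq]
    refine Subgroup.eq_of_le_of_card_ge ?_ ?_
    · rintro _ ⟨y, hy, rfl⟩
      simpa using hfwd y hy z
    · rw [Subgroup.card_map_of_injective (MulAut.conj (ψM z)).injective]
  set L := (f.comp (Subgroup.inclusion hMN)).range with hL
  obtain ⟨h, hh, hhrange, hhv, -⟩ := exists_inv (restrict_mem hf hMN) hL.symm
  have hRL : R < L := by
    refine lt_of_le_of_ne ?_ ?_
    · intro y hy
      refine ⟨Subgroup.inclusion hPM (a.symm ⟨y, hy⟩), ?_⟩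
      have := hfa (a.symm ⟨y, hy⟩) (hMN (hPM (a.symm ⟨y, hy⟩).2))
      rw [MulEquiv.apply_symm_apply] at this
      exact this
    · intro e
      have hg' : f ⟨g, hMN hg⟩ ∈ R := e.ge ⟨⟨g, hg⟩, rfl⟩
      have := hfa (a.symm ⟨_, hg'⟩) (hMN (hPM (a.symm ⟨_, hg'⟩).2))
      rw [MulEquiv.apply_symm_apply] at this
      have h2 := congrArg Subtype.val (F.injective_of_mem hf this)
      exact hgP ((show ((a.symm ⟨_, hg'⟩ : P) : Ω) = g from h2) ▸ (a.symm ⟨_, hg'⟩).2)
  have hh' : ∀ y : L, h y ∈ M := fun y => hhrange.le (MonoidHom.mem_range.2 ⟨y, rfl⟩)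
  have hc : (ψM.comp (h.codRestrict M hh')) ∈ F.Hom L := F.comp_mem hh hψM hh'
  refine Subgroup.subset_closure
    ⟨L, hRL, f'.comp ((ψM.comp (h.codRestrict M hh')).codRestrict _ fun y => hmem _),
      F.comp_mem hc hf' _, fun y => ?_⟩
  obtain ⟨x, rfl⟩ := a.surjective y
  obtain ⟨hx, hαx⟩ := hα x
  have h1 := hfa x (hMN (hPM x.2))
  have h2 : h (Subgroup.inclusion hRL.le (a x)) = (x : Ω) := by
    have e : (Subgroup.inclusion hRL.le (a x) : L) =
        ⟨(f.comp (Subgroup.inclusion hMN)) (Subgroup.inclusion hPM x), MonoidHom.mem_range.2 ⟨_, rfl⟩⟩ :=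
      Subtype.ext h1.symm
    rw [e]
    exact hhv _ _
  have h3 : ψM (Subgroup.inclusion hPM x) = φ x := (hag x)
  have hxN : φ x ∈ normalizerIn S B := le_normalizerIn hbI.le_left hx
  rw [hαx, ← hfb ⟨φ x, hx⟩ hxN]
  show f' ⟨ψM ⟨h (Subgroup.inclusion hRL.le (a x)), _⟩, _⟩ = _
  congr 1
  refine Subtype.ext ?_
  show ψM ⟨h (Subgroup.inclusion hRL.le (a x)), _⟩ = φ x
  rw [← h3]
  congr 1
  exact Subtype.ext h2

/-- All maps of `F`, except that on the class of `R` only the good ones are kept. -/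
def omitSystem [Fact p.Prime] [Finite S] (hS : IsPGroup p S) (hF : F.IsSaturated p)
    {R : Subgroup Ω} (hR : F.IsFullyNormalized R) (hRS : R < S) : FusionSystem S where
  Hom P := {φ | φ ∈ F.Hom P ∧ (F.IsConj P R → GoodMap F R φ)}
  le_of_mem h := F.le_of_mem h.1
  injective_of_mem h := F.injective_of_mem h.1
  conj_mem {P g} hP hg := ⟨F.conj_mem hP hg, fun hPR => by
    have hlt : P < S := lt_of_le_of_ne hP fun e => by
      subst e
      exact hRS.ne (Subgroup.eq_of_le_of_card_ge hR.1 (isConj_card hPR).le)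
    exact goodMap_restrict hS hlt (F.conj_mem le_rfl hg) fun x => rfl⟩
  comp_mem := by
    rintro P Q φ ψ ⟨hφ, hgφ⟩ ⟨hψ, hgψ⟩ h
    refine ⟨F.comp_mem hφ hψ h, fun hPR => ?_⟩
    intro a C c α ha hc hC hα
    have hmid : F.IsConj φ.range R := isConj_trans (isConj_symm ⟨φ, hφ, rfl⟩) hPR
    obtain ⟨b, hb⟩ := exists_transporter hS hF hR hmid
    set d := toIso φ (F.injective_of_mem hφ) rfl with hd
    set β : MulAut R := a.symm.trans (d.trans b) with hβ
    have hβE : β ∈ extGroup F R := hgφ hPR a φ.range b β ha hb rfl fun x =>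
      ⟨⟨x, rfl⟩, by rw [hβ]; simp [hd]; rfl⟩
    have hrest : α * β⁻¹ ∈ extGroup F R := by
      have hrle : φ.range ≤ Q := by
        rintro _ ⟨x, rfl⟩
        exact h x
      have hgood : GoodMap F R (ψ.comp (Subgroup.inclusion hrle)) := by
        rcases eq_or_lt_of_le hrle with e | e
        · subst e
          intro a' B' b' α' ha' hb' hB' hα'
          refine hgψ hmid a' B' b' α' ha' hb' ?_ hα'
          rw [← hB']
          ext y
          exact ⟨fun ⟨x, hx⟩ => ⟨x, hx⟩, fun ⟨x, hx⟩ => ⟨x, hx⟩⟩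
        · exact goodMap_restrict hS e hψ fun x => rfl
      refine hgood b C c _ hb hc ?_ ?_
      · rw [← hC]
        ext y
        constructor
        · rintro ⟨⟨_, x, rfl⟩, rfl⟩
          exact ⟨x, rfl⟩
        · rintro ⟨x, rfl⟩
          exact ⟨⟨φ x, x, rfl⟩, rfl⟩
      · rintro ⟨_, x, rfl⟩
        obtain ⟨hx, hxv⟩ := hα x
        refine ⟨hx, ?_⟩
        have : β⁻¹ (b ⟨φ x, MonoidHom.mem_range.2 ⟨x, rfl⟩⟩) = a x := by
          apply β.injective
          rw [MulAut.apply_inv_self, hβ]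
          simp [hd]
          rfl
        rw [MulAut.mul_apply, this]
        exact hxv
    simpa using Subgroup.mul_mem _ hrest hβE
  inv_mem := by
    rintro P φ ⟨hφ, hgφ⟩
    obtain ⟨χ, hχ, hχr, hχv, -⟩ := exists_inv hφ rfl
    refine ⟨χ, ⟨hχ, fun hPR => ?_⟩, fun x => hχv x _⟩
    intro a C c α ha hc hC hα
    rw [hχr] at hC
    subst hC
    have hPR' : F.IsConj P R := isConj_trans ⟨φ, hφ, rfl⟩ hPR
    have := hgφ hPR' c φ.range a α⁻¹ hc ha rfl fun x => ⟨⟨x, rfl⟩, by
      apply α.injective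
      rw [MulAut.apply_inv_self]
      obtain ⟨hx, hxv⟩ := hα ⟨φ x, MonoidHom.mem_range.2 ⟨x, rfl⟩⟩
      rw [hxv]
      congr 1
      exact Subtype.ext (hχv x _).symm⟩
    simpa using Subgroup.inv_mem _ this

theorem omitSystem_autGroup_le [Fact p.Prime] [Finite S] (hS : IsPGroup p S) (hF : F.IsSaturated p)
    {R : Subgroup Ω} (hR : F.IsFullyNormalized R) (hRS : R < S) {P : Subgroup Ω}
    (hP : ¬ F.IsConj P R) : F.autGroup P ≤ (omitSystem hS hF hR hRS).autGroup P := by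
  intro α hα
  by_cases hPS : P ≤ S
  · exact (mem_autGroup_iff hPS).2 ⟨(mem_autGroup_iff hPS).1 hα, fun h => absurd h hP⟩
  · rw [autGroup_eq_bot hPS, Subgroup.mem_bot] at hα
    rw [hα]
    exact one_mem _

theorem autGroup_le_extGroup_of_le_omit [Fact p.Prime] [Finite S] (hS : IsPGroup p S)
    (hF : F.IsSaturated p) {R : Subgroup Ω} (hR : F.IsFullyNormalized R) (hRS : R < S)
    (hle : F ≤ omitSystem hS hF hR hRS) : F.autGroup R ≤ extGroup F R := by
  intro α hα
  have h := (hle R ((mem_autGroup_iff hR.1).1 hα)).2 (isConj_refl hR.1)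
  exact h (MulEquiv.refl R) R (MulEquiv.refl R) α (transporter_refl hR.1) (transporter_refl hR.1)
    (isoHom_range (α : R ≃* R)) fun x => ⟨(α x).2, rfl⟩

/-- All maps of `F`, except that on `S` only the inner automorphisms are kept. -/
def omitTop [Finite S] (F : FusionSystem S) : FusionSystem S where
  Hom P := {φ | φ ∈ F.Hom P ∧ (P = S → ∃ g ∈ S, ∀ x : P, φ x = g * (x : Ω) * g⁻¹)}
  le_of_mem h := F.le_of_mem h.1
  injective_of_mem h := F.injective_of_mem h.1
  conj_mem {P g} hP hg := ⟨F.conj_mem hP hg, fun _ => ⟨g, hg, fun _ => rfl⟩⟩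
  comp_mem := by
    rintro P Q φ ψ ⟨hφ, hgφ⟩ ⟨hψ, hgψ⟩ h
    refine ⟨F.comp_mem hφ hψ h, fun hP => ?_⟩
    obtain ⟨g, hg, hgv⟩ := hgφ hP
    have hQ : Q = S := by
      refine le_antisymm (hom_le hψ) fun y hy => ?_
      have hy' : g⁻¹ * y * g ∈ P := by
        rw [hP]
        exact S.mul_mem (S.mul_mem (S.inv_mem hg) hy) hg
      have := h ⟨_, hy'⟩
      rw [hgv] at this
      simpa [mul_assoc] using this
    obtain ⟨k, hk, hkv⟩ := hgψ hQ
    refine ⟨k * g, S.mul_mem hk hg, fun x => ?_⟩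
    show ψ ⟨φ x, h x⟩ = _
    rw [hkv]
    show k * φ x * k⁻¹ = _
    rw [hgv]
    group
  inv_mem := by
    rintro P φ ⟨hφ, hgφ⟩
    obtain ⟨χ, hχ, -, hχv, hχv'⟩ := exists_inv hφ rfl
    refine ⟨χ, ⟨hχ, fun hr => ?_⟩, fun x => hχv x _⟩
    have hP : P = S := by
      have := finite_le (hom_le hφ)
      refine Subgroup.eq_of_le_of_card_ge (hom_le hφ) (le_of_eq ?_)
      rw [show Nat.card S = Nat.card φ.range by rw [hr]]
      exact (Nat.card_congr (MonoidHom.ofInjective (F.injective_of_mem hφ)).toEquiv).symm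
    obtain ⟨g, hg, hgv⟩ := hgφ hP
    refine ⟨g⁻¹, S.inv_mem hg, fun y => ?_⟩
    obtain ⟨hy, hyv⟩ := hχv' y
    rw [hgv] at hyv
    rw [← hyv]
    group

end CfsgLib.Fusion
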