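import Cfsg.Agent.Lib.Fusion.ChainExtend
import Cfsg.Agent.Lib.Fusion.EssentialFourth
import Cfsg.Agent.Lib.Fusion.Focal
import Cfsg.Agent.Lib.Fusion.AlperinGen
import Cfsg.Agent.Lib.Fusion.AbelianIndexP
import Cfsg.Agent.Lib.LocalEvenB.SmallEssential.Main

/-!
# Saturated fusion systems over groups of order `p⁵`: a fixed class modulo the derived subgroup
-/

set_option autoImplicit false

namespace CfsgLib.Fusion.OrderFive

open Cfsg Cfsg.FusionSystem CfsgLib.Fusion CfsgLib.Fusion.TransvAut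
open scoped commutatorElement

variable {Ω : Type*} [Group Ω] {S : Subgroup Ω} [Finite S] {F : FusionSystem S} {p : ℕ}
  [hp : Fact p.Prime]

/-- A homomorphism invariant under `Aut_F(S)` that sees a class fixed modulo `S'`. -/
theorem exists_invariant_hom (hS : IsPGroup p S) (hF : F.IsSaturated p) {u : S}
    (hu : u ∉ commutator S) (hfix : ∀ τ ∈ F.autGroup S, τ u * u⁻¹ ∈ commutator S) :
    ∃ θ : S →* Abelianization S, θ u ≠ 1 ∧ F.autGroup S ≤ presHom θ le_rfl := by
  classical
  have := finite_mulAut_of_le (S := S) le_rfl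
  haveI hN : (innIn F S).Normal := inn_subgroupOf_normal F
  haveI : Fintype (F.autGroup S ⧸ innIn F S) := Fintype.ofFinite _
  let θ : S →* Abelianization S :=
    ∏ q : F.autGroup S ⧸ innIn F S, Abelianization.of.comp (q.out : MulAut S).toMonoidHom
  have hθ : ∀ s, θ s = ∏ q : F.autGroup S ⧸ innIn F S, Abelianization.of ((q.out : MulAut S) s) :=
    fun s => by simp [θ, MonoidHom.finsetProd_apply]
  have hcongr : ∀ a b : F.autGroup S, (QuotientGroup.mk a : F.autGroup S ⧸ innIn F S) = QuotientGroup.mk b →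
      ∀ s, Abelianization.of ((a : MulAut S) s) = Abelianization.of ((b : MulAut S) s) := by
    intro a b h s
    obtain ⟨i, hi, rfl⟩ : ∃ i ∈ innIn F S, a * i = b :=
      ⟨a⁻¹ * b, QuotientGroup.eq.1 h, mul_inv_cancel_left a b⟩
    obtain ⟨r, hr⟩ := (hi : (i : MulAut S) ∈ Inn S)
    rw [Subgroup.coe_mul, MulAut.mul_apply, show (i : MulAut S) = MulAut.conj r from hr.symm,
      MulAut.conj_apply, map_mul, map_mul, map_mul,
      map_mul, map_inv, map_inv, mul_comm (Abelianization.of _), mul_assoc, mul_inv_cancel, mul_one]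
  refine ⟨θ, ?_, fun τ hτ x => ?_⟩
  · rw [hθ, show (∏ q : F.autGroup S ⧸ innIn F S, Abelianization.of ((q.out : MulAut S) u)) =
      Abelianization.of u ^ Fintype.card (F.autGroup S ⧸ innIn F S) from ?_]
    · intro h
      obtain ⟨k, hk⟩ := hS u
      have hcop : Nat.Coprime (p ^ k) (Fintype.card (F.autGroup S ⧸ innIn F S)) := by
        refine Nat.Coprime.pow_left _ (hp.out.coprime_iff_not_dvd.2 fun hd => ?_)
        obtain ⟨R, hR⟩ := IsSaturated.top_autGroup_sylow hS hF
        refine R.not_dvd_index ?_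
        rw [hR, Subgroup.index_eq_card, Nat.card_eq_fintype_card]
        exact hd
      have hpk : Abelianization.of u ^ p ^ k = 1 := by rw [← map_pow, hk, map_one]
      exact hu ((QuotientGroup.eq_one_iff u).1 (orderOf_eq_one_iff.1 (Nat.eq_one_of_dvd_coprimes hcop
        (orderOf_dvd_of_pow_eq_one hpk) (orderOf_dvd_of_pow_eq_one h))))
    · rw [Finset.prod_congr rfl (g := fun _ => Abelianization.of u) fun q _ => ?_, Finset.prod_const,
        Finset.card_univ]
      rw [← mul_inv_eq_one, ← map_inv, ← map_mul]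
      exact (QuotientGroup.eq_one_iff _).2 (hfix _ q.out.2)
  · show θ (τ x) = θ x
    rw [hθ, hθ]
    refine Finset.prod_equiv (Equiv.mulRight (QuotientGroup.mk (⟨τ, hτ⟩ : F.autGroup S) :
      F.autGroup S ⧸ innIn F S)) (by simp) fun q _ => ?_
    show Abelianization.of (((q.out * ⟨τ, hτ⟩ : F.autGroup S) : MulAut S) x) = _
    refine hcongr _ _ ?_ x
    rw [Equiv.coe_mulRight, QuotientGroup.mk_mul, QuotientGroup.out_eq', QuotientGroup.out_eq']

/-- An abelian essential subgroup of order `p³` is elementary abelian. -/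
theorem essential_cube_elementary (hS : IsPGroup p S) (hF : F.IsSaturated p) {P : Subgroup Ω}
    (hP : F.IsEssential p P) (hcard : Nat.card P = p ^ 3) (hab : IsMulCommutative P) :
    IsElementaryAbelian p P := by
  have := finite_le hP.1.1
  have hp' := hp.out
  refine ⟨hab, fun x hx => ?_⟩
  let f : P →* P :=
    { toFun := fun x => x ^ p
      map_one' := one_pow p
      map_mul' := fun a b => (show Commute a b from hab.is_comm.comm a b).mul_pow p }
  have hmul : Nat.card f.range * Nat.card f.ker = p ^ 3 := by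
    rw [← hcard, f.ker.card_eq_card_quotient_mul_card_subgroup,
      Nat.card_congr (QuotientGroup.quotientKerEquivRange f).toEquiv]
  obtain ⟨k, hk3, hk⟩ := (Nat.dvd_prime_pow hp').1 (hcard ▸ Subgroup.card_subgroup_dvd_card f.ker)
  have hr : Nat.card f.range = p ^ (3 - k) := by
    rw [hk, show p ^ 3 = p ^ (3 - k) * p ^ k by rw [← pow_add, Nat.sub_add_cancel hk3]] at hmul
    exact Nat.eq_of_mul_eq_mul_right (pow_pos hp'.pos k) hmul
  have hk0 : k ≠ 0 := fun h0 => by
    obtain ⟨y, hy⟩ := exists_prime_orderOf_dvd_card' (G := P) p (hcard ▸ dvd_pow_self p three_ne_zero)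
    have hker : y ∈ f.ker := by show y ^ p = 1; rw [← hy, pow_orderOf_eq_one]
    rw [h0, pow_zero] at hk
    rw [Subgroup.eq_bot_of_card_eq _ hk, Subgroup.mem_bot] at hker
    rw [hker, orderOf_one] at hy
    exact hp'.one_lt.ne hy
  obtain rfl : k = 3 := by
    by_contra h3
    rcases (show k = 1 ∨ k = 2 by omega) with rfl | rfl
    · -- cyclic
      have : ∃ y : P, y ^ p ^ 2 ≠ 1 := by
        by_contra h
        push Not at h
        have hle : f.range ≤ f.ker := by
          rintro _ ⟨y, rfl⟩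
          show (y ^ p) ^ p = 1
          rw [← pow_mul, ← pow_two, h]
        have := Subgroup.card_le_of_le hle
        rw [hr, hk] at this
        have := (Nat.pow_le_pow_iff_right hp'.one_lt).1 this
        omega
      obtain ⟨y, hy⟩ := this
      refine essential_not_cyclic hS hF hP (isCyclic_of_orderOf_eq_card y ?_)
      obtain ⟨e, he, ho⟩ := (Nat.dvd_prime_pow hp').1 (hcard ▸ orderOf_dvd_natCard y)
      rw [ho, hcard, show e = 3 by
        by_contra h
        exact hy (orderOf_dvd_iff_pow_eq_one.1 (ho ▸ pow_dvd_pow p (by omega)))]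
    · refine essential_no_flag hS hF hP hcard f.range f.ker ?_ (by rw [hr]; norm_num) hk ?_ ?_
      · rintro _ ⟨y, rfl⟩
        show (y ^ p) ^ p = 1
        have : (f y) ^ Nat.card f.range = 1 :=
          congrArg Subtype.val (pow_card_eq_one' (x := (⟨f y, y, rfl⟩ : f.range)))
        rw [hr] at this
        simpa [f] using this
      · rintro σ _ ⟨y, rfl⟩
        exact ⟨σ y, (map_pow σ y p).symm⟩
      · intro σ e he
        show σ e ^ p = 1
        rw [← map_pow, show e ^ p = 1 from he, map_one]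
  have htop : f.ker = ⊤ := Subgroup.eq_top_of_card_eq _ (by rw [hk, hcard])
  exact congrArg Subtype.val (htop.ge (Subgroup.mem_top ⟨x, hx⟩))

/-- Some element induces a transvection on a self-centralizing elementary subgroup of order `p³`. -/
theorem exists_transvection_five (hS : IsPGroup p S) (hcard5 : Nat.card S = p ^ 5) {P : Subgroup Ω}
    (hPS : P ≤ S) (hcard : Nat.card P = p ^ 3) (hel : IsElementaryAbelian p P)
    (hC : centralizerIn S P ≤ P) :
    ∃ y ∈ normalizerIn S P, y ∉ P ∧ ∃ a₀ ∈ P, y * a₀ * y⁻¹ = a₀ ∧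
      ∀ x ∈ P, ⁅y, x⁆ ∈ Subgroup.zpowers a₀ := by
  classical
  have hp' := hp.out
  have := finite_le hPS
  have hPlt : P < S := lt_of_le_of_ne hPS fun h => by
    rw [h, hcard5] at hcard
    have := Nat.pow_right_injective hp'.two_le hcard
    omega
  have hcomm : ∀ a ∈ P, ∀ b ∈ P, a * b = b * a := fun a ha b hb =>
    congrArg Subtype.val (hel.1.is_comm.comm (⟨a, ha⟩ : P) ⟨b, hb⟩)
  -- an element centralizing a subgroup of index `p` of `P`
  suffices h : ∃ y ∈ normalizerIn S P, y ∉ P ∧ ∃ R : Subgroup Ω, R ≤ P ∧ p ^ 2 ≤ Nat.card R ∧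
      ∀ r ∈ R, y * r = r * y by
    obtain ⟨y, hy, hyP, R, hRP, hRc, hyR⟩ := h
    obtain ⟨x₀, hx₀, hx₀R⟩ : ∃ x₀ ∈ P, x₀ ∉ R := by
      by_contra hc
      push Not at hc
      refine hyP (hC (mem_centralizerIn.2 ⟨hy.1, fun b hb => (hyR b (hc b hb)).symm⟩))
    have := finite_le (hRP.trans hPS)
    have hR2 : Nat.card R = p ^ 2 := by
      obtain ⟨k, hk, hkc⟩ := (Nat.dvd_prime_pow hp').1 (hcard ▸ Subgroup.card_dvd_of_le hRP)
      rw [hkc] at hRc ⊢
      have := (Nat.pow_le_pow_iff_right hp'.one_lt).1 hRc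
      rw [show k = 2 from le_antisymm (by
        by_contra h3
        have : k = 3 := by omega
        subst this
        exact hx₀R (Subgroup.eq_of_le_of_card_ge hRP (by rw [hkc, hcard]) ▸ hx₀)) this]
    have hxp : x₀ ^ p ∈ R := by rw [hel.2 _ hx₀]; exact one_mem _
    obtain ⟨hcs, hdec⟩ := card_sup_zpowers_of_pow_mem (Z := R) (x := x₀)
      (fun c hc => hcomm c (hRP hc) x₀ hx₀) hxp hx₀R
    have hsup : R ⊔ Subgroup.zpowers x₀ = P := Subgroup.eq_of_le_of_card_ge
      (sup_le hRP (Subgroup.zpowers_le.2 hx₀)) (by rw [hcs, hR2, hcard, pow_succ' p 2])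
    set a₀ := ⁅y, x₀⁆ with ha₀
    have hc0 : ∀ b ∈ P, ⁅y, b⁆ ∈ P := fun b hb => by
      rw [commutatorElement_def]
      exact P.mul_mem (conj_mem_of_mem_normalizer hy.2 hb) (P.inv_mem hb)
    have himg : ∀ b ∈ P, ⁅y, b⁆ ∈ Subgroup.zpowers a₀ := by
      intro b hb
      obtain ⟨c, hc, j, rfl⟩ := hdec b (hsup.ge hb)
      refine Subgroup.mem_zpowers_iff.2 ⟨j, ?_⟩
      have e1 : y * c * y⁻¹ = c := mul_inv_eq_iff_eq_mul.2 (hyR c hc)
      have e2 : y * x₀ * y⁻¹ = a₀ * x₀ := by rw [ha₀, commutatorElement_def]; group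
      rw [commutatorElement_def, show y * (c * x₀ ^ j) * y⁻¹ = (y * c * y⁻¹) * (y * x₀ * y⁻¹) ^ j by
        rw [conj_pow]; group, e1, e2, (show Commute a₀ x₀ from hcomm _ (hc0 _ hx₀) _ hx₀).mul_pow,
        zpow_natCast, mul_inv_rev, show c * (a₀ ^ j * x₀ ^ j) * ((x₀ ^ j)⁻¹ * c⁻¹) = c * a₀ ^ j * c⁻¹ by group,
        hcomm c (hRP hc) _ (P.pow_mem (hc0 _ hx₀) j), mul_inv_cancel_right]
    refine ⟨y, hy, hyP, a₀, hc0 _ hx₀, ?_, himg⟩
    rcases eq_or_ne a₀ 1 with h1 | h1
    · rw [h1, mul_one, mul_inv_cancel]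
    obtain ⟨k, hk⟩ := hS ⟨y, hy.1⟩
    refine SmallEssential.conj_eq_of_mem_zpowers (p := p) (k := k)
      (orderOf_eq_prime (hel.2 _ (hc0 _ hx₀)) h1) (congrArg Subtype.val hk) ?_
    obtain ⟨i, hi⟩ := Subgroup.mem_zpowers_iff.1 (himg a₀ (hc0 _ hx₀))
    refine Subgroup.mem_zpowers_iff.2 ⟨i + 1, ?_⟩
    rw [zpow_add_one, hi, commutatorElement_def]
    group
  by_cases hnorm : normalizerIn S P = S
  · -- `P` is normal in `S`
    have hPn : (P.subgroupOf S).Normal := ⟨fun x hx g => by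
      have := conj_mem_of_mem_normalizer ((hnorm.ge g.2).2) hx
      exact this⟩
    haveI := hS.isNilpotent
    set P' := P.subgroupOf S with hP'
    have hP'c : Nat.card P' = p ^ 3 := by
      rw [Nat.card_congr (Subgroup.subgroupOfEquivOfLe hPS).toEquiv, hcard]
    -- a central element of order `p`
    obtain ⟨c, hcP, hcZ, hc1⟩ : ∃ c ∈ P', c ∈ Subgroup.center S ∧ c ≠ 1 := by
      have hne : P' ≠ ⊥ := fun h => by
        rw [h, Subgroup.card_bot] at hP'c
        exact (Nat.one_lt_pow three_ne_zero hp'.one_lt).ne hP'c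
      haveI : Nontrivial S := Finite.one_lt_card_iff_nontrivial.1
        (hcard5 ▸ Nat.one_lt_pow (by norm_num) hp'.one_lt)
      haveI := hS.center_nontrivial
      obtain ⟨c, hc⟩ := exists_ne (1 : Subgroup.center S)
      exact ⟨c, hC (mem_centralizerIn.2 ⟨(c : S).2, fun b hb =>
        congrArg Subtype.val (Subgroup.mem_center_iff.1 c.2 ⟨b, hPS hb⟩)⟩), c.2,
        fun e => hc (Subtype.ext e)⟩
    have hcp : c ^ p = 1 := Subtype.ext (hel.2 _ hcP)
    set Z₀ := Subgroup.zpowers c with hZ₀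
    have hZcard : Nat.card Z₀ = p := by rw [Nat.card_zpowers, orderOf_eq_prime hcp hc1]
    haveI : Z₀.Normal := ⟨fun x hx g => by
      obtain ⟨i, rfl⟩ := Subgroup.mem_zpowers_iff.1 hx
      have hcz := (Subgroup.center S).zpow_mem hcZ i
      rw [Subgroup.mem_center_iff.1 hcz g, mul_inv_cancel_right]
      exact Subgroup.zpow_mem _ (Subgroup.mem_zpowers c) i⟩
    set q := QuotientGroup.mk' Z₀ with hq
    have hqp : IsPGroup p (S ⧸ Z₀) := hS.to_quotient _
    haveI : (P'.map q).Normal := hPn.map q (QuotientGroup.mk'_surjective _)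
    obtain ⟨b', hb', hbZ, hb1⟩ : ∃ b' ∈ P'.map q, b' ∈ Subgroup.center (S ⧸ Z₀) ∧ b' ≠ 1 := by
      have hne : P'.map q ≠ ⊥ := fun h => by
        rw [Subgroup.map_eq_bot_iff, hq, QuotientGroup.ker_mk'] at h
        have := Subgroup.card_le_of_le h
        rw [hP'c, hZcard] at this
        exact absurd this (not_le.2 (lt_self_pow₀ hp'.one_lt (by norm_num)))
      haveI := hqp.isNilpotent
      obtain ⟨b', hb1⟩ := (Subgroup.ne_bot_iff_exists_ne_one).1
        (PGroups.inf_center_ne_bot hqp hne : P'.map q ⊓ Subgroup.center (S ⧸ Z₀) ≠ ⊥)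
      exact ⟨b', b'.2.1, b'.2.2, fun e => hb1 (Subtype.ext e)⟩
    obtain ⟨b, hbP, rfl⟩ := hb'
    have hbc : ∀ g : S, ∃ i : ℕ, g * b * g⁻¹ = c ^ i * b := fun g => by
      have h1 := Subgroup.mem_center_iff.1 hbZ (q g)
      rw [← map_mul, ← map_mul, ← mul_inv_eq_one, ← map_inv, ← map_mul] at h1
      obtain ⟨i, hi⟩ := mem_powers_iff_mem_zpowers.2 ((QuotientGroup.eq_one_iff _).1 h1)
      refine ⟨i, ?_⟩
      simp only at hi
      rw [hi]
      group
    let R : Subgroup S := Subgroup.zpowers c ⊔ Subgroup.zpowers b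
    have hRP : R ≤ P' := sup_le (Subgroup.zpowers_le.2 hcP) (Subgroup.zpowers_le.2 hbP)
    have hRc : p ^ 2 ≤ Nat.card R := by
      have hlt : Nat.card Z₀ < Nat.card R := by
        refine lt_of_le_of_ne (Subgroup.card_le_of_le le_sup_left) fun h => hb1 ?_
        refine (QuotientGroup.eq_one_iff b).2 ?_
        rw [Subgroup.eq_of_le_of_card_ge (le_sup_left : Z₀ ≤ R) h.ge]
        exact Subgroup.mem_sup_right (Subgroup.mem_zpowers b)
      obtain ⟨k, -, hk⟩ := (Nat.dvd_prime_pow hp').1 (hP'c ▸ Subgroup.card_dvd_of_le hRP)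
      rw [hZcard, hk] at hlt
      rw [hk]
      exact Nat.pow_le_pow_right hp'.pos ((Nat.pow_lt_pow_iff_right hp'.one_lt).1 (by rwa [pow_one]))
    -- the centralizer of `b` is not inside `P`
    have hZc : Z₀ ≤ Subgroup.center S := Subgroup.zpowers_le.2 hcZ
    have hbm : ∀ g : S, g * b * g⁻¹ * b⁻¹ ∈ Z₀ := fun g => by
      obtain ⟨i, hi⟩ := hbc g
      rw [hi, mul_inv_cancel_right]
      exact Subgroup.pow_mem _ (Subgroup.mem_zpowers c) i
    let f : S →* Z₀ := MonoidHom.mk' (fun g => ⟨g * b * g⁻¹ * b⁻¹, hbm g⟩) fun g g' => Subtype.ext (by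
      show g * g' * b * (g * g')⁻¹ * b⁻¹ = g * b * g⁻¹ * b⁻¹ * (g' * b * g'⁻¹ * b⁻¹)
      have h1 := Subgroup.mem_center_iff.1 (hZc (hbm g')) (g * b * g⁻¹ * b⁻¹)
      have h2 := Subgroup.mem_center_iff.1 (hZc (hbm g')) g
      rw [h1]
      calc g * g' * b * (g * g')⁻¹ * b⁻¹ = g * (g' * b * g'⁻¹ * b⁻¹) * b * g⁻¹ * b⁻¹ := by group
        _ = (g' * b * g'⁻¹ * b⁻¹) * g * b * g⁻¹ * b⁻¹ := by rw [h2]
        _ = _ := by group)
    obtain ⟨y, hy, hyP⟩ : ∃ y : S, y * b = b * y ∧ (y : Ω) ∉ P := by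
      by_contra h
      push Not at h
      have hk : f.ker ≤ P' := fun g hg => h g (by
        have h1 : g * b * g⁻¹ * b⁻¹ = 1 := congrArg Subtype.val (MonoidHom.mem_ker.1 hg)
        rwa [mul_inv_eq_one, mul_inv_eq_iff_eq_mul] at h1)
      have h1 := f.ker.card_eq_card_quotient_mul_card_subgroup
      rw [Nat.card_congr (QuotientGroup.quotientKerEquivRange f).toEquiv, hcard5] at h1
      have h2 : p ^ 5 ≤ p * p ^ 3 := h1.le.trans (Nat.mul_le_mul
        ((Subgroup.card_le_card_group f.range).trans hZcard.le)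
        ((Subgroup.card_le_of_le hk).trans hP'c.le))
      rw [← pow_succ'] at h2
      have := (Nat.pow_le_pow_iff_right hp'.one_lt).1 h2
      omega
    refine ⟨y, hnorm.ge y.2, hyP, R.map S.subtype, ?_, ?_, ?_⟩
    · rintro _ ⟨r, hr, rfl⟩; exact hRP hr
    · rwa [Subgroup.card_map_of_injective S.subtype_injective]
    · rintro _ ⟨r, hr, rfl⟩
      have hle : R ≤ Subgroup.centralizer {y} := sup_le
        (Subgroup.zpowers_le.2 (Subgroup.mem_centralizer_singleton_iff.2 (Subgroup.mem_center_iff.1 hcZ y).symm))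
        (Subgroup.zpowers_le.2 (Subgroup.mem_centralizer_singleton_iff.2 hy.symm))
      exact congrArg Subtype.val (Subgroup.mem_centralizer_singleton_iff.1 (hle hr)).symm
  · -- `P` is not normal in `S`
    set N := normalizerIn S P with hN
    have := finite_le (normalizerIn_le (S := S) P)
    have hPN : P < N := lt_normalizerIn hS hPlt
    have hNS : N < S := lt_of_le_of_ne (normalizerIn_le P) hnorm
    have hcardlt : ∀ {A B : Subgroup Ω}, A < B → B ≤ S → Nat.card A < Nat.card B := fun {A B} h hB => by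
      have := finite_le hB
      exact lt_of_le_of_ne (Subgroup.card_le_of_le h.le) fun e =>
        h.ne (Subgroup.eq_of_le_of_card_ge h.le e.ge)
    have hNc : Nat.card N = p ^ 4 := by
      obtain ⟨k, -, hk⟩ := (Nat.dvd_prime_pow hp').1 (hcard5 ▸ Subgroup.card_dvd_of_le hNS.le)
      have h1 := hcardlt hPN hNS.le
      have h2 := hcardlt hNS le_rfl
      rw [hcard, hk] at h1
      rw [hk, hcard5] at h2
      rw [hk]
      have := (Nat.pow_lt_pow_iff_right hp'.one_lt).1 h1
      have := (Nat.pow_lt_pow_iff_right hp'.one_lt).1 h2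
      congr 1
      omega
    obtain ⟨h, hh, hhN⟩ := exists_mem_normalizerIn_not_mem hS hNS
    set Q := P.map (MulAut.conj h).toMonoidHom with hQ
    have hQN : Q ≤ N := by
      rintro _ ⟨u, hu, rfl⟩
      exact conj_mem_of_mem_normalizer hh.2 (le_normalizerIn hPS hu)
    have hQc : Nat.card Q = p ^ 3 := by
      rw [hQ, Subgroup.card_map_of_injective (MulAut.conj h).injective, hcard]
    have hQP : Q ≠ P := fun e => hhN ⟨hh.1, by
      show h ∈ Subgroup.normalizer (P : Set Ω)
      rw [Subgroup.mem_normalizer_iff_map_conj_eq]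
      exact e⟩
    obtain ⟨y, hyQ, hyP⟩ : ∃ y ∈ Q, y ∉ P := by
      by_contra hc
      push Not at hc
      exact hQP (Subgroup.eq_of_le_of_card_ge hc (by rw [hcard, hQc]))
    refine ⟨y, hQN hyQ, hyP, Q ⊓ P, inf_le_right, ?_, fun r hr => ?_⟩
    · have h1 : Q.relIndex N = p := by
        have := Subgroup.card_mul_index (Q.subgroupOf N)
        rw [Nat.card_congr (Subgroup.subgroupOfEquivOfLe hQN).toEquiv, hQc, hNc, pow_succ p 3] at this
        exact Nat.eq_of_mul_eq_mul_left (pow_pos hp'.pos 3) this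
      have h2 : Q.relIndex P ≤ p :=
        h1 ▸ Subgroup.relIndex_le_of_le_right hPN.le (by rw [h1]; exact hp'.ne_zero)
      have h3 := Subgroup.card_mul_index ((Q ⊓ P).subgroupOf P)
      rw [Nat.card_congr (Subgroup.subgroupOfEquivOfLe (inf_le_right : Q ⊓ P ≤ P)).toEquiv,
        show ((Q ⊓ P).subgroupOf P).index = (Q ⊓ P).relIndex P from rfl, Subgroup.inf_relIndex_right,
        hcard] at h3
      have h4 : p ^ 3 ≤ Nat.card (Q ⊓ P : Subgroup Ω) * p := h3 ▸ Nat.mul_le_mul_left _ h2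
      rw [pow_succ p 2] at h4
      exact Nat.le_of_mul_le_mul_right h4 hp'.pos
    · obtain ⟨u, hu, rfl⟩ := hyQ
      obtain ⟨v, hv, rfl⟩ := hr.1
      rw [← map_mul, ← map_mul, hcomm u hu v hv]

end CfsgLib.Fusion.OrderFive
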