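import Cfsg.Agent.Lib.Fusion.OrderFive

/-!
# Order `p⁵`: helpers for extending automorphisms
-/

set_option autoImplicit false

namespace CfsgLib.Fusion.OrderFive

open Cfsg Cfsg.FusionSystem CfsgLib.Fusion CfsgLib.Fusion.TransvAut

variable {Ω : Type*} [Group Ω] {S : Subgroup Ω} [Finite S] {F : FusionSystem S} {p : ℕ}
  [hp : Fact p.Prime]

omit hp in
/-- Inside `S` the normalizer is that of the pull-back. -/
theorem mem_normalizerIn_iff {P : Subgroup Ω} (hPS : P ≤ S) (s : S) :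
    (s : Ω) ∈ normalizerIn S P ↔ ∀ x : S, x ∈ P.subgroupOf S → s * x * s⁻¹ ∈ P.subgroupOf S := by
  refine ⟨fun h x hx => ?_, fun h => ⟨s.2, ?_⟩⟩
  · have h1 := conj_mem_of_mem_normalizer (P := P) h.2 (hx : (x : Ω) ∈ P)
    exact h1
  show (s : Ω) ∈ Subgroup.normalizer (P : Set Ω)
  have hle : (P.subgroupOf S).map (MulAut.conj s).toMonoidHom ≤ P.subgroupOf S := by
    rintro _ ⟨x, hx, rfl⟩; exact h x hx
  have heq := Subgroup.eq_of_le_of_card_ge hle
    (Subgroup.card_map_of_injective (MulAut.conj s).injective).ge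
  rw [Subgroup.mem_normalizer_iff]
  intro x
  refine ⟨fun hx => h ⟨x, hPS hx⟩ hx, fun hx => ?_⟩
  obtain ⟨y, hy, hyx⟩ := heq.ge (show (⟨(s : Ω) * x * (s : Ω)⁻¹, hPS hx⟩ : S) ∈ P.subgroupOf S from hx)
  have h1 : (s : Ω) * (y : Ω) * (s : Ω)⁻¹ = (s : Ω) * x * (s : Ω)⁻¹ := congrArg Subtype.val hyx
  rw [← mul_left_cancel (mul_right_cancel h1)]
  exact hy

omit hp in
/-- A subgroup with `N_S(P) = S` is fully normalized. -/
theorem fullyNormalized_of_normalizer_eq {P : Subgroup Ω} (hPS : P ≤ S) (hN : normalizerIn S P = S) :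
    F.IsFullyNormalized P :=
  ⟨hPS, fun Q _ => (Subgroup.card_le_of_le (normalizerIn_le Q)).trans (le_of_eq (by rw [hN]))⟩

/-- Extension over an element whose image induces the conjugated action. -/
theorem extend_over (hS : IsPGroup p S) (hF : F.IsSaturated p) {E : Subgroup Ω} (hc : F.IsCentric E)
    {d : MulAut E} (hd : d ∈ F.autGroup E) (g : normalizerIn S E) (n : ℤ)
    (hgn : d * conjAut g = conjAut g ^ n * d) {R : Subgroup Ω}
    (hR : R = E ⊔ Subgroup.zpowers (g : Ω)) (hgR : (g : Ω) ∈ R) :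
    ∃ ψ ∈ F.autGroup R, (∀ (e : E) (he : (e : Ω) ∈ R), ((ψ ⟨e, he⟩ : R) : Ω) = (d e : Ω)) ∧
      ∃ r : E, ((ψ ⟨g, hgR⟩ : R) : Ω) = (r : Ω) * (g : Ω) ^ n := by
  subst hR
  rw [← conjAut_zpow] at hgn
  obtain ⟨ψ, hψ, hψe, r, hψg⟩ := centric_extend hS hF hc hd g (g ^ n) hgn
  have hRS : E ⊔ Subgroup.zpowers (g : Ω) ≤ S := sup_le hc.1 (Subgroup.zpowers_le.2 g.2.1)
  have := finite_le hRS
  have hmem : ∀ x, ψ x ∈ E ⊔ Subgroup.zpowers (g : Ω) := by
    intro x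
    have hle : E ⊔ Subgroup.zpowers (g : Ω) ≤
        ((E ⊔ Subgroup.zpowers (g : Ω)).comap ψ).map (E ⊔ Subgroup.zpowers (g : Ω)).subtype := by
      refine sup_le (fun e he => ?_) (Subgroup.zpowers_le.2 ?_)
      · refine ⟨⟨e, Subgroup.mem_sup_left he⟩, ?_, rfl⟩
        show ψ (Subgroup.inclusion (le_sup_left : E ≤ E ⊔ Subgroup.zpowers (g : Ω)) ⟨e, he⟩) ∈
          E ⊔ Subgroup.zpowers (g : Ω)
        rw [hψe]
        exact Subgroup.mem_sup_left (d _).2
      · refine ⟨⟨g, Subgroup.mem_sup_right (Subgroup.mem_zpowers _)⟩, ?_, rfl⟩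
        show ψ ⟨(g : Ω), Subgroup.mem_sup_right (Subgroup.mem_zpowers _)⟩ ∈
          E ⊔ Subgroup.zpowers (g : Ω)
        rw [hψg, SubgroupClass.coe_zpow]
        exact Subgroup.mul_mem _ (Subgroup.mem_sup_left r.2)
          (Subgroup.mem_sup_right (Subgroup.zpow_mem _ (Subgroup.mem_zpowers _) _))
    obtain ⟨y, hy, hyx⟩ := hle x.2
    exact Subtype.ext hyx ▸ hy
  have hinj : Function.Injective (ψ.codRestrict _ hmem) := fun a b hab =>
    F.injective_of_mem hψ (congrArg Subtype.val hab)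
  refine ⟨MulEquiv.ofBijective _ ⟨hinj, Finite.injective_iff_surjective.1 hinj⟩,
    (mem_autGroup_iff hRS).2 (hom_congr hψ fun x => rfl), fun e he => hψe e, r, ?_⟩
  show ψ ⟨g, hgR⟩ = _
  rw [hψg, SubgroupClass.coe_zpow]

end CfsgLib.Fusion.OrderFive
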