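import Cfsg.Agent.Lib.Fusion.OrderFiveFocal
import Cfsg.Agent.Lib.Fusion.OrderFiveExtend

/-!
# Order `p⁵`: the frame around an elementary abelian essential subgroup of order `p³`
-/

set_option autoImplicit false

namespace CfsgLib.Fusion.OrderFive

open Cfsg Cfsg.FusionSystem CfsgLib.Fusion CfsgLib.Fusion.TransvAut
open scoped commutatorElement

variable {Ω : Type*} [Group Ω] {S : Subgroup Ω} [Finite S] {F : FusionSystem S} {p : ℕ}
  [hp : Fact p.Prime]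

/-- The elements around an elementary abelian essential subgroup of order `p³`. -/
structure Cube (E : Subgroup Ω) (p : ℕ) (N Z : Subgroup S) (a w e c g : S) : Prop where
  hN : ∀ n : S, n ∈ N ↔ (n : Ω) ∈ normalizerIn S E
  hNn : N.Normal
  hZn : Z.Normal
  cardN : Nat.card N = p ^ 4
  cardZ : Nat.card Z = p ^ 2
  hg : g ∉ N
  cent : ∀ z ∈ Z, ∀ n ∈ N, Commute z n
  aC : a ∈ Subgroup.center S
  aZ : a ∈ Z
  wZ : w ∈ Z
  Zdec : ∀ z ∈ Z, ∃ i j : ℤ, z = a ^ i * w ^ j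
  heE : (e : Ω) ∈ E
  ZE : ∀ z ∈ Z, (z : Ω) ∈ E
  Edec : ∀ x : S, (x : Ω) ∈ E → ∃ z ∈ Z, ∃ j : ℤ, x = z * e ^ j
  cN : c ∈ N
  Ndec : ∀ n ∈ N, ∃ z ∈ Z, ∃ j i : ℤ, n = z * e ^ j * c ^ i
  hc : ⁅g, e⁆ = c
  ha : ⁅c, e⁆ = a
  comm : ∀ n ∈ N, ∀ m ∈ N, ⁅n, m⁆ ∈ Subgroup.zpowers a
  a_pow : ∀ i : ℤ, a ^ i = 1 → (p : ℤ) ∣ i
  a_p : a ^ p = 1
  w_pow : ∀ i : ℤ, w ^ i ∈ Subgroup.zpowers a → (p : ℤ) ∣ i
  w_p : w ^ p = 1
  c_pow : ∀ i : ℤ, ((c ^ i : S) : Ω) ∈ E → (p : ℤ) ∣ i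
  e_p : e ^ p = 1
  hgw : ⁅g, w⁆ ∈ Subgroup.zpowers a
  hgc : ⁅g, c⁆ ∈ Z

set_option maxHeartbeats 1000000 in
/-- Existence of the frame. -/
theorem exists_cube (hS : IsPGroup p S) (hF : F.IsSaturated p) (hcard : Nat.card S = p ^ 5)
    {E : Subgroup Ω} (hE : F.IsEssential p E) (hEc : Nat.card E = p ^ 3) (hel : IsElementaryAbelian p E) :
    ∃ (N Z : Subgroup S) (a w e c g : S), Cube E p N Z a w e c g := by
  classical
  have hp' := hp.out
  have hES := hE.1.1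
  have := finite_le hES
  have hC : centralizerIn S E ≤ E := hE.1.2 E (isConj_refl hES)
  obtain ⟨y₀, hy₀, hy₀E, a₀, ha₀, hya, hyc⟩ := exists_transvection_five hS hcard hES hEc hel hC
  obtain ⟨a', e', w', hB⟩ := SmallEssential.exists_base hS hF hE hEc hel hC hy₀ hy₀E ha₀ hya hyc
  have hNc0 : Nat.card (normalizerIn S E) = p * Nat.card E := by rw [hB.card, hEc, ← pow_succ']
  set N := (normalizerIn S E).subgroupOf S with hNdef
  set E' := E.subgroupOf S with hE'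
  obtain ⟨a₁, ha₁⟩ : ∃ x : S, (x : Ω) = a' := ⟨⟨a', hES hB.ha⟩, rfl⟩
  obtain ⟨e, he⟩ : ∃ x : S, (x : Ω) = e' := ⟨⟨e', hES hB.he⟩, rfl⟩
  obtain ⟨w, hw⟩ : ∃ x : S, (x : Ω) = w' := ⟨⟨w', hES hB.hw⟩, rfl⟩
  obtain ⟨y, hy⟩ : ∃ x : S, (x : Ω) = y₀ := ⟨⟨y₀, hB.hy.1⟩, rfl⟩
  have haE : a₁ ∈ E' := Subgroup.mem_subgroupOf.2 (ha₁ ▸ hB.ha)
  have heE : e ∈ E' := Subgroup.mem_subgroupOf.2 (he ▸ hB.he)
  have hwE : w ∈ E' := Subgroup.mem_subgroupOf.2 (hw ▸ hB.hw)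
  have hyN : y ∈ N := Subgroup.mem_subgroupOf.2 (hy ▸ hB.hy)
  have hEN : E' ≤ N := fun x hx => le_normalizerIn hES hx
  have hNconj : ∀ n ∈ N, ∀ x ∈ E', n * x * n⁻¹ ∈ E' := fun n hn x hx =>
    (mem_normalizerIn_iff hES n).1 hn x hx
  have hcommE : ∀ x ∈ E', ∀ x' ∈ E', Commute x x' := fun x hx x' hx' => Subtype.ext
    (congrArg Subtype.val (hel.1.is_comm.comm (⟨x, hx⟩ : E) ⟨x', hx'⟩) : (x : Ω) * x' = x' * x)
  have hexpE : ∀ x ∈ E', x ^ p = 1 := fun x hx => Subtype.ext (hel.2 _ hx)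
  have hgen : ∀ x ∈ E', ∃ i j k : ℤ, x = a₁ ^ i * e ^ j * w ^ k := fun x hx => by
    obtain ⟨i, j, k, h⟩ := hB.gen x hx
    refine ⟨i, j, k, Subtype.ext ?_⟩
    push_cast
    rw [ha₁, he, hw]
    exact h
  have hind : ∀ i j k : ℤ, a₁ ^ i * e ^ j * w ^ k = 1 → (p : ℤ) ∣ i ∧ (p : ℤ) ∣ j ∧ (p : ℤ) ∣ k :=
    fun i j k h => hB.indep i j k (by
      have h1 := congrArg Subtype.val h
      push_cast at h1
      rwa [ha₁, he, hw] at h1)
  have hya₁ : Commute y a₁ := Subtype.ext (by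
    push_cast
    rw [hy, ha₁]
    exact mul_inv_eq_iff_eq_mul.1 hB.hya)
  have hyw : Commute y w := Subtype.ext (by
    push_cast
    rw [hy, hw]
    exact mul_inv_eq_iff_eq_mul.1 hB.hyw)
  have hye : y * e * y⁻¹ = a₁ * e := Subtype.ext (by
    push_cast
    rw [hy, ha₁, he]
    exact hB.hye)
  have hyE : y ∉ E' := fun h => hy₀E (hy ▸ h)
  have hNc : Nat.card N = p ^ 4 := by
    rw [hNdef, Nat.card_congr (Subgroup.subgroupOfEquivOfLe (normalizerIn_le E)).toEquiv, hB.card]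
  haveI hNn : N.Normal := Subgroup.normal_of_index_eq_minFac_card (by
    have := Subgroup.card_mul_index N
    rw [hNc, hcard, pow_succ p 4] at this
    rw [Nat.eq_of_mul_eq_mul_left (pow_pos hp'.pos 4) this, hcard, Nat.Prime.pow_minFac hp']
    norm_num)
  -- `n = (element of E) * y ^ i`
  have hpow : ∀ {u : S}, u ∈ N → u ∉ E' → ∀ n ∈ N, ∃ i : ℕ, ∃ x ∈ E', n = x * u ^ i := by
    intro u hu huE n hn
    obtain ⟨i, hi⟩ := SmallEssential.exists_pow_mul hES hNc0 (g := (⟨u, hu⟩ : normalizerIn S E)) huE ⟨n, hn⟩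
    have hx : (u ^ i)⁻¹ * n ∈ E' := Subgroup.mem_subgroupOf.2 (by
      push_cast
      push_cast at hi
      exact hi)
    refine ⟨i, u ^ i * ((u ^ i)⁻¹ * n) * (u ^ i)⁻¹, hNconj _ (pow_mem hu i) _ hx, ?_⟩
    group
  -- the centre `Z` of `N`
  have hcent : ∀ {z : S}, z ∈ E' → Commute y z → ∀ n ∈ N, Commute z n := fun {z} hz hyz n hn => by
    obtain ⟨i, x, hx, rfl⟩ := hpow hyN hyE n hn
    exact (hcommE z hz x hx).mul_right (hyz.symm.pow_right i)
  set Z := Subgroup.zpowers a₁ ⊔ Subgroup.zpowers w with hZdef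
  have hZcent : ∀ z ∈ Z, ∀ n ∈ N, Commute z n := by
    have hle : Z ≤ Subgroup.centralizer (N : Set S) :=
      sup_le (Subgroup.zpowers_le.2 (Subgroup.mem_centralizer_iff.2 fun n hn => (hcent haE hya₁ n hn).symm))
        (Subgroup.zpowers_le.2 (Subgroup.mem_centralizer_iff.2 fun n hn => (hcent hwE hyw n hn).symm))
    exact fun z hz n hn => (Subgroup.mem_centralizer_iff.1 (hle hz) n hn).symm
  have hZE : Z ≤ E' := sup_le (Subgroup.zpowers_le.2 haE) (Subgroup.zpowers_le.2 hwE)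
  have hZN : Z ≤ N := hZE.trans hEN
  have ha₁1 : a₁ ≠ 1 := fun h => by
    have := (hind 1 0 0 (by simp [h])).1
    exact hp'.one_lt.ne' (Nat.dvd_one.1 (by exact_mod_cast this))
  have ha₁o : Nat.card (Subgroup.zpowers a₁) = p := by
    rw [Nat.card_zpowers, orderOf_eq_prime (hexpE _ haE) ha₁1]
  have hwA : w ∉ Subgroup.zpowers a₁ := fun h => by
    obtain ⟨i, hi⟩ := Subgroup.mem_zpowers_iff.1 h
    have := (hind i 0 (-1) (by rw [hi, zpow_zero, mul_one, zpow_neg_one, mul_inv_cancel])).2.2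
    rw [Int.dvd_neg] at this
    exact hp'.one_lt.ne' (Nat.dvd_one.1 (by exact_mod_cast this))
  obtain ⟨hZcard0, hZdec0⟩ := card_sup_zpowers_of_pow_mem (Z := Subgroup.zpowers a₁) (x := w)
    (fun v hv => (hcommE v (Subgroup.zpowers_le.2 haE hv) w hwE).eq)
    (by rw [hexpE _ hwE]; exact one_mem _) hwA
  have hZc : Nat.card Z = p ^ 2 := by rw [hZdef, hZcard0, ha₁o, pow_two]
  have hZchar : ∀ n ∈ N, (∀ m ∈ N, Commute n m) → n ∈ Z := by
    intro n hn hcomm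
    have hnE : n ∈ E' := hC (mem_centralizerIn.2 ⟨n.2, fun x hx =>
      (congrArg Subtype.val (hcomm ⟨x, hES hx⟩ (hEN hx)).eq).symm⟩)
    obtain ⟨i, j, k, rfl⟩ := hgen n hnE
    have h1 : y * (a₁ ^ i * e ^ j * w ^ k) * y⁻¹ = a₁ ^ i * e ^ j * w ^ k := by
      rw [← (hcomm y hyN).eq, mul_inv_cancel_right]
    rw [show y * (a₁ ^ i * e ^ j * w ^ k) * y⁻¹ = (y * a₁ ^ i * y⁻¹) * (y * e * y⁻¹) ^ j * (y * w ^ k * y⁻¹) by
      rw [conj_zpow]; group, (hya₁.zpow_right i).eq, mul_inv_cancel_right, (hyw.zpow_right k).eq,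
      mul_inv_cancel_right, hye, (hcommE _ haE _ heE).mul_zpow, mul_left_inj, mul_right_inj,
      mul_eq_right] at h1
    obtain ⟨q, hq⟩ := (hind j 0 0 (by rw [h1]; simp)).1
    rw [hq, zpow_mul, zpow_natCast, hexpE _ heE, one_zpow, mul_one]
    exact Subgroup.mul_mem_sup (Subgroup.zpow_mem _ (Subgroup.mem_zpowers _) i)
      (Subgroup.zpow_mem _ (Subgroup.mem_zpowers _) k)
  haveI hZn : Z.Normal := ⟨fun z hz s => hZchar _ (hNn.conj_mem z (hZN hz) s) fun m hm => by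
    have h := (hZcent z hz _ (hNn.conj_mem m hm s⁻¹)).eq
    rw [inv_inv] at h
    show s * z * s⁻¹ * m = m * (s * z * s⁻¹)
    calc s * z * s⁻¹ * m = s * (z * (s⁻¹ * m * s)) * s⁻¹ := by group
      _ = s * (s⁻¹ * m * s * z) * s⁻¹ := by rw [h]
      _ = m * (s * z * s⁻¹) := by group⟩
  have hEdec : ∀ x ∈ E', ∃ z ∈ Z, ∃ j : ℤ, x = z * e ^ j := fun x hx => by
    obtain ⟨i, j, k, rfl⟩ := hgen x hx
    refine ⟨a₁ ^ i * w ^ k, Subgroup.mul_mem_sup (Subgroup.zpow_mem _ (Subgroup.mem_zpowers _) i)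
      (Subgroup.zpow_mem _ (Subgroup.mem_zpowers _) k), j, ?_⟩
    rw [mul_assoc, (hcommE _ (E'.zpow_mem heE j) _ (E'.zpow_mem hwE k)).eq, mul_assoc]
  -- `g` and `c`
  obtain ⟨g, hg⟩ : ∃ g : S, g ∉ N := by
    by_contra h
    push Not at h
    have : Nat.card N = p ^ 5 := by rw [(Subgroup.eq_top_iff' N).2 h, Subgroup.card_top, hcard]
    rw [hNc] at this
    have := Nat.pow_right_injective hp'.two_le this
    omega
  obtain ⟨c, hc⟩ : ∃ c, ⁅g, e⁆ = c := ⟨_, rfl⟩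
  have hcN : c ∈ N := by
    rw [← hc, commutatorElement_def]
    exact N.mul_mem (hNn.conj_mem e (hEN heE) g) (N.inv_mem (hEN heE))
  have hcE : c ∉ E' := fun h => hg ((mem_normalizerIn_iff hES g).2 fun x hx => by
    obtain ⟨z, hz, j, rfl⟩ := hEdec x hx
    rw [show g * (z * e ^ j) * g⁻¹ = (g * z * g⁻¹) * (g * e * g⁻¹) ^ j by rw [conj_zpow]; group,
      show g * e * g⁻¹ = c * e by rw [← hc, commutatorElement_def]; group]
    exact E'.mul_mem (hZE (hZn.conj_mem z hz g)) (E'.zpow_mem (E'.mul_mem h heE) j))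
  have hcp : c ^ p ∈ E' := by
    have h := SmallEssential.pow_p_mem hES hNc0 (⟨c, hcN⟩ : normalizerIn S E)
    refine Subgroup.mem_subgroupOf.2 ?_
    push_cast at h ⊢
    exact h
  -- commutators
  have hce : ⁅c, e⁆ ≠ 1 := fun h => hcE (hC (mem_centralizerIn.2 ⟨c.2, fun x hx => by
    obtain ⟨z, hz, j, hzj⟩ := hEdec ⟨x, hES hx⟩ hx
    have h1 : Commute c (⟨x, hES hx⟩ : S) := by
      rw [hzj]
      exact (hZcent z hz c hcN).symm.mul_right
        ((commutatorElement_eq_one_iff_commute.1 h).zpow_right j)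
    exact (congrArg Subtype.val h1.eq).symm⟩))
  have hnaN : ¬ IsMulCommutative N := fun h => hce (commutatorElement_eq_one_iff_commute.2
    (congrArg Subtype.val (h.is_comm.comm (⟨c, hcN⟩ : N) ⟨e, hEN heE⟩)))
  have hcN2 : Nat.card (Subgroup.center N) = p ^ 2 := by
    rw [← hZc, ← Subgroup.card_map_of_injective N.subtype_injective]
    refine congrArg (fun H : Subgroup S => Nat.card H) ?_
    ext z
    constructor
    · rintro ⟨u, hu, rfl⟩
      exact hZchar _ u.2 fun m hm => (congrArg Subtype.val (Subgroup.mem_center_iff.1 hu ⟨m, hm⟩)).symm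
    · intro hz
      exact ⟨⟨z, hZN hz⟩, Subgroup.mem_center_iff.2 fun m => Subtype.ext (hZcent z hz _ m.2).eq.symm, rfl⟩
  obtain ⟨hc1, -, hpowN⟩ := card_commutator_of_center hNc hnaN hcN2
  set K := ⁅N, N⁆ with hK
  have hKc : Nat.card K = p := by
    rw [hK, ← Subgroup.map_subtype_commutator, Subgroup.card_map_of_injective N.subtype_injective, hc1]
  have hKN : K ≤ N := Subgroup.commutator_le.2 fun n hn m hm => by
    rw [commutatorElement_def]
    exact N.mul_mem (N.mul_mem (N.mul_mem hn hm) (N.inv_mem hn)) (N.inv_mem hm)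
  obtain ⟨a, ha⟩ : ∃ a, ⁅c, e⁆ = a := ⟨_, rfl⟩
  have haK : a ∈ K := ha ▸ Subgroup.commutator_mem_commutator hcN (hEN heE)
  have ha₁K : a₁ ∈ K := by
    have : ⁅y, e⁆ = a₁ := by rw [commutatorElement_def, hye, mul_inv_cancel_right]
    exact this ▸ Subgroup.commutator_mem_commutator hyN (hEN heE)
  have haz : Subgroup.zpowers a = K := by
    refine Subgroup.eq_of_le_of_card_ge (Subgroup.zpowers_le.2 haK) ?_
    rw [hKc, Nat.card_zpowers]
    have h1 := congrArg Subtype.val (pow_card_eq_one' (x := (⟨a, haK⟩ : K)))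
    rw [hKc] at h1
    rw [orderOf_eq_prime (h1 : a ^ p = 1) (ha ▸ hce)]
  have haz₁ : Subgroup.zpowers a₁ = K :=
    Subgroup.eq_of_le_of_card_ge (Subgroup.zpowers_le.2 ha₁K) (by rw [hKc, ha₁o])
  haveI : K.Normal := by rw [hK]; infer_instance
  have haC : a ∈ Subgroup.center S := by
    have hne : K ≠ ⊥ := fun h => by
      rw [h, Subgroup.card_bot] at hKc
      exact hp'.one_lt.ne hKc
    obtain ⟨⟨v, hvK, hvC⟩, hv1⟩ :=
      Subgroup.ne_bot_iff_exists_ne_one.1 (PGroups.inf_center_ne_bot hS hne)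
    have hvK' : Subgroup.zpowers v = K := by
      refine Subgroup.eq_of_le_of_card_ge (Subgroup.zpowers_le.2 hvK) ?_
      rw [hKc, Nat.card_zpowers]
      have h1 := congrArg Subtype.val (pow_card_eq_one' (x := (⟨v, hvK⟩ : K)))
      rw [hKc] at h1
      rw [orderOf_eq_prime (h1 : v ^ p = 1) fun e => hv1 (Subtype.ext e)]
    exact Subgroup.zpowers_le.2 hvC (hvK'.ge haK)
  have haZ : a ∈ Z := hZchar a (hKN haK) fun m _ => (Subgroup.mem_center_iff.1 haC m).symm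
  have hap : a ^ p = 1 := hexpE a (hZE haZ)
  haveI hAn : (Subgroup.zpowers a).Normal := by rw [haz]; infer_instance
  -- the fixed sections
  obtain ⟨k, hk⟩ := hS g
  have hgk : (MulAut.conj g : MulAut S) ^ p ^ k = 1 := by rw [← map_pow, hk, map_one]
  have hsec : ∀ {D T : Subgroup S}, D ≤ T → D.Normal → T.Normal → Nat.card T = p * Nat.card D →
      ∀ v ∈ T, ⁅g, v⁆ ∈ D := by
    intro D T hDT hDn hTn hidx v hv
    haveI := hDn
    have h := fix_section hDT hidx (σ := MulAut.conj g) (fun u hu => hTn.conj_mem u hu g)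
      (fun u hu => hDn.conj_mem u hu g) hgk hv
    rw [MulAut.conj_apply] at h
    have h2 := hDn.conj_mem _ h v
    rwa [show v * (v⁻¹ * (g * v * g⁻¹)) * v⁻¹ = ⁅g, v⁆ by rw [commutatorElement_def]; group] at h2
  have hgw : ⁅g, w⁆ ∈ Subgroup.zpowers a := hsec (Subgroup.zpowers_le.2 haZ) hAn hZn
    (by rw [hZc, haz, hKc, pow_two]) w (Subgroup.mem_sup_right (Subgroup.mem_zpowers w))
  -- `Z ⊔ ⟨c⟩` is normal
  have hcZ : c ∉ Z := fun h => hcE (hZE h)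
  set q := QuotientGroup.mk' Z with hq
  haveI : (N.map q).Normal := hNn.map q (QuotientGroup.mk'_surjective Z)
  have hNq : N.map q ≠ ⊥ := fun h => by
    rw [Subgroup.map_eq_bot_iff, hq, QuotientGroup.ker_mk'] at h
    exact hcZ (h hcN)
  obtain ⟨⟨b', hbN, hbC⟩, hb1⟩ :=
    Subgroup.ne_bot_iff_exists_ne_one.1 (PGroups.inf_center_ne_bot (hS.to_quotient Z) hNq)
  obtain ⟨b, hb, rfl⟩ := hbN
  have hbZ : b ∉ Z := fun h => hb1 (Subtype.ext ((QuotientGroup.eq_one_iff b).2 h))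
  have hbp : b ^ p ∈ Z := hZchar _ (N.pow_mem hb p) fun m hm =>
    (congrArg Subtype.val (Subgroup.mem_center_iff.1 (hpowN ⟨b, hb⟩) ⟨m, hm⟩)).symm
  obtain ⟨hTc, hTdec⟩ := card_sup_zpowers_of_pow_mem (Z := Z) (x := b)
    (fun v hv => (hZcent v hv b hb).eq) hbp hbZ
  set T := Z ⊔ Subgroup.zpowers b with hT
  have hTN : T ≤ N := sup_le hZN (Subgroup.zpowers_le.2 hb)
  have hTn : T.Normal := ⟨fun v hv s => by
    obtain ⟨z, hz, j, rfl⟩ := hTdec v hv
    have hbs : s * b * s⁻¹ ∈ T := by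
      have h1 := Subgroup.mem_center_iff.1 hbC (q s)
      rw [← map_mul, ← map_mul, ← mul_inv_eq_one, ← map_inv, ← map_mul] at h1
      have h2 : s * b * (b * s)⁻¹ ∈ Z := (QuotientGroup.eq_one_iff _).1 h1
      rw [show s * b * s⁻¹ = s * b * (b * s)⁻¹ * b by group]
      exact Subgroup.mul_mem_sup h2 (Subgroup.mem_zpowers b)
    rw [show s * (z * b ^ j) * s⁻¹ = (s * z * s⁻¹) * (s * b * s⁻¹) ^ j by rw [conj_pow]; group]
    exact T.mul_mem (Subgroup.mem_sup_left (hZn.conj_mem z hz s)) (T.pow_mem hbs j)⟩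
  have hcT : c ∈ T := hc ▸ hsec hTN hTn hNn (by rw [hNc, hTc, hZc, ← pow_succ', ← pow_succ']) e (hEN heE)
  have hgc : ⁅g, c⁆ ∈ Z := hsec le_sup_left hZn hTn hTc c hcT
  refine ⟨N, Z, a, w, e, c, g, fun n => Iff.rfl, hNn, hZn, hNc, hZc, hg, hZcent, haC, haZ,
    Subgroup.mem_sup_right (Subgroup.mem_zpowers w), ?_, heE, fun z hz => hZE hz, hEdec, hcN, ?_, hc, ha,
    fun n hn m hm => haz.ge (Subgroup.commutator_mem_commutator hn hm), ?_, hap, ?_,
    hexpE w hwE, ?_, hexpE e heE, hgw, hgc⟩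
  · intro z hz
    obtain ⟨v, hv, j, rfl⟩ := hZdec0 z hz
    obtain ⟨i, rfl⟩ := Subgroup.mem_zpowers_iff.1 ((haz.trans haz₁.symm).ge hv)
    exact ⟨i, j, by rw [zpow_natCast]⟩
  · intro n hn
    obtain ⟨i, x, hx, rfl⟩ := hpow hcN hcE n hn
    obtain ⟨z, hz, j, rfl⟩ := hEdec x hx
    exact ⟨z, hz, j, i, by rw [zpow_natCast]⟩
  · intro i hi
    rw [← orderOf_eq_prime hap (ha ▸ hce)]
    exact orderOf_dvd_iff_zpow_eq_one.2 hi
  · intro i hi
    rw [haz, ← haz₁] at hi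
    obtain ⟨l, hl⟩ := Subgroup.mem_zpowers_iff.1 hi
    exact (hind (-l) 0 i (by rw [zpow_neg, zpow_zero, mul_one, hl, inv_mul_cancel])).2.2
  · intro i hi
    by_contra hd
    obtain ⟨u, v, huv⟩ := (Nat.prime_iff_prime_int.1 hp').coprime_iff_not_dvd.2 hd
    refine hcE ?_
    rw [← zpow_one c, ← huv, zpow_add, zpow_mul', zpow_mul', zpow_natCast]
    exact E'.mul_mem (E'.zpow_mem hcp u) (E'.zpow_mem (Subgroup.mem_subgroupOf.2 hi) v)

end CfsgLib.Fusion.OrderFive
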