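import Cfsg.Agent.Lib.Fusion.OrderFiveCubeTorus

/-!
# Order `p⁵`: an elementary abelian essential subgroup of order `p³` gives an abelian maximal subgroup
-/

set_option autoImplicit false

namespace CfsgLib.Fusion.OrderFive

open Cfsg Cfsg.FusionSystem CfsgLib.Fusion CfsgLib.Fusion.TransvAut CfsgLib.Fusion.MaxClassFive
open scoped commutatorElement

variable {Ω : Type*} [Group Ω] {S : Subgroup Ω} [Finite S] {F : FusionSystem S} {p : ℕ}
  [hp : Fact p.Prime] {E : Subgroup Ω} {N Z : Subgroup S} {a w e c g : S}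

omit [Finite S] hp in
theorem Cube.mem_zpowers_center (H : Cube E p N Z a w e c g) {x : S} (hx : x ∈ Subgroup.zpowers a) :
    x ∈ Subgroup.center S :=
  Subgroup.zpowers_le.2 H.aC hx

omit [Finite S] hp in
theorem Cube.normal_a (H : Cube E p N Z a w e c g) : (Subgroup.zpowers a).Normal :=
  ⟨fun x hx s => by
    rw [Subgroup.mem_center_iff.1 (H.mem_zpowers_center hx) s, mul_inv_cancel_right]
    exact hx⟩

/-- `w` is central modulo `⟨a⟩`. -/
theorem Cube.w_comm (H : Cube E p N Z a w e c g) (hcard : Nat.card S = p ^ 5) (s : S) :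
    ⁅w, s⁆ ∈ Subgroup.zpowers a := by
  obtain ⟨n, hn, i, rfl⟩ := H.top_dec hcard s
  have h1 : ⁅w, g⁆ ∈ Subgroup.zpowers a := by
    rw [← commutatorElement_inv]; exact Subgroup.inv_mem _ H.hgw
  have h2 := comm_zpow_zpow (H.mem_zpowers_center h1) 1 i
  rw [zpow_one, one_mul] at h2
  rw [comm_mul_right (by rw [h2]; exact Subgroup.zpow_mem _ (H.mem_zpowers_center h1) i), h2,
    commutatorElement_eq_one_iff_commute.2 (H.cent w H.wZ n hn), one_mul]
  exact Subgroup.zpow_mem _ h1 i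

/-- `c` is central modulo `Z`. -/
theorem Cube.c_comm (H : Cube E p N Z a w e c g) (hcard : Nat.card S = p ^ 5) (s : S) :
    ⁅c, s⁆ ∈ Z := by
  haveI := H.hZn
  obtain ⟨n, hn, i, rfl⟩ := H.top_dec hcard s
  rw [← QuotientGroup.eq_one_iff, ← QuotientGroup.mk'_apply, map_commutatorElement, map_mul, map_zpow,
    commutatorElement_eq_one_iff_commute]
  refine (H.q_c_comm n hn).mul_right (Commute.zpow_right ?_ i)
  rw [← commutatorElement_eq_one_iff_commute, ← commutatorElement_inv, inv_eq_one,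
    ← QuotientGroup.mk'_apply Z c, ← map_commutatorElement]
  exact (QuotientGroup.eq_one_iff _).2 H.hgc

set_option maxHeartbeats 800000 in
/-- The weights on `S` of a diagonal automorphism. -/
theorem Cube.weights (hS : IsPGroup p S) (hF : F.IsSaturated p) (hcard : Nat.card S = p ^ 5)
    (hE : F.IsEssential p E) (hEc : Nat.card E = p ^ 3) (hel : IsElementaryAbelian p E)
    (H : Cube E p N Z a w e c g) {t u : ℤ} (htu : (p : ℤ) ∣ t * u - 1) :
    ∃ k η : ℤ, (p : ℤ) ∣ t * t * k - t ∧ (p : ℤ) ∣ η * k - t * t ∧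
      (∀ γ : ℤ, ⁅g, w⁆ = a ^ γ → (p : ℤ) ∣ γ * η - γ * t) ∧
      ∀ ν : ℤ, ⁅g, c⁆ * (w ^ ν)⁻¹ ∈ Subgroup.zpowers a → (p : ℤ) ∣ ν * (η * (t * t)) - ν := by
  classical
  obtain ⟨τ, hτa, hτw, hτe, hτc, -⟩ := H.exists_aut hS hF hcard hE hEc hel htu
  have hES := hE.1.1
  have heN := H.eN hES
  obtain ⟨z₁, hz₁, k, hk⟩ := H.Edec _ hτe
  obtain ⟨z₂, hz₂, hz₂'⟩ : ∃ z ∈ Z, τ c = z * c ^ (t * t) := ⟨_, hτc, by rw [inv_mul_cancel_right]⟩
  obtain ⟨n, hn, η, hη⟩ := H.top_dec hcard (τ g)
  obtain ⟨i, hi⟩ := Subgroup.mem_zpowers_iff.1 hτw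
  have hi' : τ w = a ^ i * w := by rw [hi, inv_mul_cancel_right]
  have hzN : ∀ {z m : S}, z ∈ Z → m ∈ N → ⁅z, m⁆ = 1 ∧ ⁅m, z⁆ = 1 := fun {z m} hz hm =>
    ⟨commutatorElement_eq_one_iff_commute.2 (H.cent z hz m hm),
      commutatorElement_eq_one_iff_commute.2 (H.cent z hz m hm).symm⟩
  refine ⟨k, η, ?_, ?_, fun γ hγ => ?_, fun ν hν => ?_⟩
  · -- `τ a`
    have h1 : ⁅c ^ (t * t), e ^ k⁆ = a ^ (t * t * k) := by
      rw [comm_zpow_zpow (by rw [H.ha]; exact H.aC), H.ha]
    have h := congrArg τ H.ha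
    rw [map_commutatorElement, hk, hz₂', hτa, comm_mul_left (by
        rw [comm_mul_right (by rw [h1]; exact Subgroup.zpow_mem _ H.aC _),
          (hzN hz₁ (N.zpow_mem H.cN _)).2, one_mul, h1]
        exact Subgroup.zpow_mem _ H.aC _),
      (hzN hz₂ (N.mul_mem (H.ZN hES hz₁) (N.zpow_mem heN k))).1, one_mul,
      comm_mul_right (by rw [h1]; exact Subgroup.zpow_mem _ H.aC _), (hzN hz₁ (N.zpow_mem H.cN _)).2,
      one_mul, h1] at h
    exact H.a_pow _ (by rw [zpow_sub, h, mul_inv_cancel])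
  · -- `τ c` modulo `Z`
    haveI := H.hZn
    set q := QuotientGroup.mk' Z with hq
    have hcC : q c ∈ Subgroup.center (S ⧸ Z) := Subgroup.mem_center_iff.2 fun v => by
      obtain ⟨v, rfl⟩ := QuotientGroup.mk'_surjective Z v
      refine (commutatorElement_eq_one_iff_commute.1 ?_).symm
      rw [← map_commutatorElement]
      exact (QuotientGroup.eq_one_iff _).2 (H.c_comm hcard v)
    have hge : ⁅q g, q e⁆ = q c := by rw [← map_commutatorElement, H.hc]
    have hZ1 : ∀ {z : S}, z ∈ Z → q z = 1 := fun hz => (QuotientGroup.eq_one_iff _).2 hz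
    have hne : ⁅q n, q e ^ k⁆ = 1 := by
      rw [← map_zpow, ← map_commutatorElement]
      exact hZ1 (H.aZle (H.comm n hn _ (N.zpow_mem heN k)))
    have h := congrArg (fun x => q (τ x)) H.hc
    simp only [map_commutatorElement, hη, hk, hz₂', map_mul, map_zpow, hZ1 hz₁, hZ1 hz₂, one_mul] at h
    rw [comm_mul_left (by rw [comm_zpow_zpow (hge ▸ hcC), hge]; exact Subgroup.zpow_mem _ hcC _), hne,
      one_mul, comm_zpow_zpow (hge ▸ hcC), hge] at h
    refine H.c_pow _ (H.ZE _ ?_)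
    rw [← QuotientGroup.eq_one_iff, ← QuotientGroup.mk'_apply, map_zpow, zpow_sub, h, mul_inv_cancel]
  · -- `[g, w]`
    have h1 : ⁅g ^ η, w⁆ = a ^ (γ * η) := by
      rw [comm_zpow_left (by rw [hγ]; exact Subgroup.zpow_mem _ H.aC _), hγ, ← zpow_mul]
    have h2 : ⁅n * g ^ η, w⁆ = a ^ (γ * η) := by
      rw [comm_mul_left (by rw [h1]; exact Subgroup.zpow_mem _ H.aC _), (hzN H.wZ hn).2, one_mul, h1]
    have h := congrArg τ hγ
    rw [map_commutatorElement, map_zpow, hτa, hi', hη, comm_mul_right (by rw [h2]; exact Subgroup.zpow_mem _ H.aC _),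
      (comm_eq_one_of_center (Subgroup.zpow_mem _ H.aC i)).2, one_mul, h2, ← zpow_mul] at h
    exact H.a_pow _ (by rw [mul_comm γ t, zpow_sub, h, mul_inv_cancel])
  · -- `[g, c]` modulo `⟨a⟩`
    haveI := H.normal_a
    set q := QuotientGroup.mk' (Subgroup.zpowers a) with hq
    have hwC : q w ∈ Subgroup.center (S ⧸ Subgroup.zpowers a) := Subgroup.mem_center_iff.2 fun v => by
      obtain ⟨v, rfl⟩ := QuotientGroup.mk'_surjective (Subgroup.zpowers a) v
      refine (commutatorElement_eq_one_iff_commute.1 ?_).symm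
      rw [← map_commutatorElement]
      exact (QuotientGroup.eq_one_iff _).2 (H.w_comm hcard v)
    have ha1 : q a = 1 := (QuotientGroup.eq_one_iff _).2 (Subgroup.mem_zpowers a)
    have hgc : ⁅q g, q c⁆ = q w ^ ν := by
      rw [← map_commutatorElement, ← map_zpow, ← mul_inv_eq_one, ← map_inv, ← map_mul]
      exact (QuotientGroup.eq_one_iff _).2 hν
    have hzC : q z₂ ∈ Subgroup.center (S ⧸ Subgroup.zpowers a) := by
      obtain ⟨i, j, rfl⟩ := H.Zdec z₂ hz₂
      rw [map_mul, map_zpow, map_zpow, ha1, one_zpow, one_mul]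
      exact Subgroup.zpow_mem _ hwC j
    have hnc : ⁅q n, q c ^ (t * t)⁆ = 1 := by
      rw [← map_zpow, ← map_commutatorElement]
      exact (QuotientGroup.eq_one_iff _).2 (H.comm n hn _ (N.zpow_mem H.cN _))
    have hgcC : ⁅q g, q c⁆ ∈ Subgroup.center (S ⧸ Subgroup.zpowers a) := by
      rw [hgc]; exact Subgroup.zpow_mem _ hwC ν
    obtain ⟨l, hl⟩ := Subgroup.mem_zpowers_iff.1 hν
    have h := congrArg (fun x => q (τ x)) hl
    simp only [map_mul, map_inv, map_zpow, map_commutatorElement, hτa, hi', hη, hz₂', ha1, one_zpow,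
      one_mul] at h
    rw [eq_comm, mul_inv_eq_one, comm_mul_right (a := q n * q g ^ η) (b := q z₂) (by
        rw [comm_mul_left (by rw [comm_zpow_zpow hgcC]; exact Subgroup.zpow_mem _ hgcC _), hnc, one_mul,
          comm_zpow_zpow hgcC]
        exact Subgroup.zpow_mem _ hgcC _),
      (comm_eq_one_of_center hzC).2, one_mul,
      comm_mul_left (by rw [comm_zpow_zpow hgcC]; exact Subgroup.zpow_mem _ hgcC _), hnc, one_mul,
      comm_zpow_zpow hgcC, hgc, ← zpow_mul] at h
    refine H.w_pow _ ((QuotientGroup.eq_one_iff _).1 ?_)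
    rw [← QuotientGroup.mk'_apply, map_zpow, zpow_sub, h, mul_inv_cancel]

omit [Finite S] hp in
/-- Changing `g` by a power of `e`. -/
theorem Cube.shift (H : Cube E p N Z a w e c g) (hES : E ≤ S) {μ : ℤ} (hμ : ⁅g, c⁆ = a ^ μ) :
    Cube E p N Z a w e c (g * e ^ μ) ∧ ⁅g * e ^ μ, c⁆ = 1 := by
  have heN := H.eN hES
  have h1 : ⁅e ^ μ, c⁆ = a ^ (-μ) := by
    have hec : ⁅e, c⁆ = a⁻¹ := by rw [← commutatorElement_inv, H.ha]
    rw [comm_zpow_left (by rw [hec]; exact Subgroup.inv_mem _ H.aC), hec, inv_zpow, zpow_neg]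
  have h2 : ⁅e ^ μ, w⁆ = 1 :=
    commutatorElement_eq_one_iff_commute.2 ((H.cent w H.wZ e heN).symm.zpow_left μ)
  have h3 : ⁅e ^ μ, e⁆ = 1 := commutatorElement_eq_one_iff_commute.2 ((Commute.refl e).zpow_left μ)
  have hgc : ⁅g * e ^ μ, c⁆ = 1 := by
    rw [comm_mul_left (by rw [h1]; exact Subgroup.zpow_mem _ H.aC _), h1, hμ, ← zpow_add, add_neg_cancel,
      zpow_zero]
  refine ⟨{ H with
    hg := fun h => H.hg ((N.mul_mem_cancel_right (N.zpow_mem heN μ)).1 h)
    hc := by rw [comm_mul_left (by rw [h3]; exact one_mem _), h3, mul_one, H.hc]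
    hgw := by rw [comm_mul_left (by rw [h2]; exact one_mem _), h2, mul_one]; exact H.hgw
    hgc := by rw [hgc]; exact one_mem _ }, hgc⟩

theorem zmod_cube_fix : ∀ l n k u m : ZMod 3, l ≠ 0 → l = n * k → l = m * u → m = n * u → k = 1 := by
  decide

set_option maxHeartbeats 1000000 in
/-- When `p = 3` and `[g, w] ≠ 1` every automorphism of `S` fixes the class of `w`. -/
theorem Cube.fix_three (hcard : Nat.card S = p ^ 5) (h3 : p = 3) (hES : E ≤ S)
    (H : Cube E p N Z a w e c g) (hcp : ((c ^ p : S) : Ω) ∈ E) {γ : ℤ} (hγ : ⁅g, w⁆ = a ^ γ)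
    (hγ0 : ¬ (p : ℤ) ∣ γ) (hgc : ⁅g, c⁆ = 1) :
    Nat.card (commutator S) = p ^ 2 ∧ w ∉ commutator S ∧ ∀ τ : MulAut S, τ w * w⁻¹ ∈ commutator S := by
  classical
  have hp' := hp.out
  haveI := H.hZn
  have hAn := H.normal_a
  have heN := H.eN hES
  have haC : ∀ i : ℤ, a ^ i ∈ Subgroup.center S := fun i => Subgroup.zpow_mem _ H.aC i
  have hgcC : Commute g c := commutatorElement_eq_one_iff_commute.1 hgc
  have hzN : ∀ {z m : S}, z ∈ Z → m ∈ N → Commute z m := fun hz hm => H.cent _ hz _ hm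
  -- `c ^ p ∈ ⟨a⟩`
  have hcpa : c ^ p ∈ Subgroup.zpowers a := by
    obtain ⟨i, j, hij⟩ := H.Zdec _ (H.c_p hES hcp)
    have h1 : ⁅g, a ^ i * w ^ j⁆ = 1 :=
      commutatorElement_eq_one_iff_commute.2 (hij ▸ hgcC.pow_right p)
    have h2 := comm_zpow_zpow (a := g) (b := w) (by rw [hγ]; exact haC γ) 1 j
    rw [zpow_one, one_mul, hγ, ← zpow_mul] at h2
    rw [comm_mul_right (by rw [h2]; exact haC _), (comm_eq_one_of_center (haC i)).2, one_mul, h2] at h1
    obtain ⟨q, rfl⟩ := ((Nat.prime_iff_prime_int.1 hp').dvd_mul.1 (H.a_pow _ h1)).resolve_left hγ0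
    rw [hij, zpow_mul, zpow_natCast, H.w_p, one_zpow, mul_one]
    exact Subgroup.zpow_mem _ (Subgroup.mem_zpowers a) i
  have hcA : ∀ {j : ℤ}, (p : ℤ) ∣ j → c ^ j ∈ Subgroup.zpowers a := fun {j} ⟨q, hq⟩ => by
    rw [hq, zpow_mul, zpow_natCast]; exact Subgroup.zpow_mem _ hcpa q
  have hca : c ∉ Subgroup.zpowers a := fun h => by
    have := H.c_pow 1 (by rw [zpow_one]; exact H.ZE c (H.aZle h))
    exact hp'.one_lt.ne' (Nat.dvd_one.1 (by exact_mod_cast this))
  -- `X = ⟨a, c⟩` is the derived subgroup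
  set X := Subgroup.zpowers a ⊔ Subgroup.zpowers c with hX
  obtain ⟨hXc0, hXdec⟩ := card_sup_zpowers_of_pow_mem (Z := Subgroup.zpowers a) (x := c)
    (fun v hv => (Subgroup.mem_center_iff.1 (H.mem_zpowers_center hv) c).symm) hcpa hca
  set q := QuotientGroup.mk' (Subgroup.zpowers a) with hq
  have hwC : q w ∈ Subgroup.center (S ⧸ Subgroup.zpowers a) := Subgroup.mem_center_iff.2 fun v => by
    obtain ⟨v, rfl⟩ := QuotientGroup.mk'_surjective (Subgroup.zpowers a) v
    refine (commutatorElement_eq_one_iff_commute.1 ?_).symm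
    rw [← map_commutatorElement]
    exact (QuotientGroup.eq_one_iff _).2 (H.w_comm hcard v)
  have hcC : q c ∈ Subgroup.center (S ⧸ Subgroup.zpowers a) := Subgroup.mem_center_iff.2 fun v => by
    obtain ⟨v, rfl⟩ := QuotientGroup.mk'_surjective (Subgroup.zpowers a) v
    obtain ⟨n, hn, i, rfl⟩ := H.top_dec hcard v
    rw [map_mul, map_zpow]
    refine (Commute.mul_left ?_ ((hgcC.map q).zpow_left i)).eq
    rw [← commutatorElement_eq_one_iff_commute, ← map_commutatorElement]
    exact (QuotientGroup.eq_one_iff _).2 (H.comm n hn c H.cN)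
  haveI hXn : X.Normal := ⟨fun v hv s => by
    obtain ⟨z, hz, j, rfl⟩ := hXdec v hv
    have h1 : s * c * (c * s)⁻¹ ∈ Subgroup.zpowers a := by
      rw [← QuotientGroup.eq_one_iff, ← QuotientGroup.mk'_apply, map_mul, map_mul, map_inv, map_mul,
        Subgroup.mem_center_iff.1 hcC (q s), mul_inv_cancel]
    rw [show s * (z * c ^ j) * s⁻¹ = (s * z * s⁻¹) * (s * c * (c * s)⁻¹ * c) ^ j by
      rw [show s * c * (c * s)⁻¹ * c = s * c * s⁻¹ by group, conj_pow]; group]
    exact X.mul_mem (Subgroup.mem_sup_left (hAn.conj_mem z hz s))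
      (X.pow_mem (Subgroup.mul_mem_sup h1 (Subgroup.mem_zpowers c)) j)⟩
  have hXle : X ≤ commutator S := sup_le
    (Subgroup.zpowers_le.2 (H.ha ▸ Subgroup.commutator_mem_commutator (Subgroup.mem_top _) (Subgroup.mem_top _)))
    (Subgroup.zpowers_le.2 (H.hc ▸ Subgroup.commutator_mem_commutator (Subgroup.mem_top _) (Subgroup.mem_top _)))
  have hleX : commutator S ≤ X := by
    set r := QuotientGroup.mk' X with hr
    have hAX : ∀ v ∈ Subgroup.zpowers a, r v = 1 := fun v hv =>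
      (QuotientGroup.eq_one_iff _).2 (Subgroup.mem_sup_left hv)
    have hcX : r c = 1 := (QuotientGroup.eq_one_iff _).2 (Subgroup.mem_sup_right (Subgroup.mem_zpowers c))
    have hNN : ∀ n ∈ N, ∀ m ∈ N, Commute (r n) (r m) := fun n hn m hm => by
      rw [← commutatorElement_eq_one_iff_commute, ← map_commutatorElement]
      exact hAX _ (H.comm n hn m hm)
    have hgN : ∀ n ∈ N, Commute (r g) (r n) := fun n hn => by
      obtain ⟨z, hz, j, i, rfl⟩ := H.Ndec n hn
      obtain ⟨i', j', rfl⟩ := H.Zdec z hz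
      have hge : Commute (r g) (r e) := by
        rw [← commutatorElement_eq_one_iff_commute, ← map_commutatorElement, H.hc, hcX]
      have hgw : Commute (r g) (r w) := by
        rw [← commutatorElement_eq_one_iff_commute, ← map_commutatorElement]
        exact hAX _ H.hgw
      rw [map_mul, map_mul, map_mul, map_zpow, map_zpow, map_zpow, map_zpow, hcX,
        hAX a (Subgroup.mem_zpowers a), one_zpow, one_zpow, one_mul, mul_one]
      exact (hgw.zpow_right j').mul_right (hge.zpow_right j)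
    rw [commutator_def, Subgroup.commutator_le]
    intro s _ s' _
    obtain ⟨n, hn, i, rfl⟩ := H.top_dec hcard s
    obtain ⟨m, hm, j, rfl⟩ := H.top_dec hcard s'
    rw [← QuotientGroup.eq_one_iff, ← QuotientGroup.mk'_apply, map_commutatorElement,
      commutatorElement_eq_one_iff_commute, map_mul, map_mul, map_zpow, map_zpow]
    exact ((hNN n hn m hm).mul_right ((hgN n hn).symm.zpow_right j)).mul_left
      (((hgN m hm).zpow_left i).mul_right ((Commute.refl (r g)).zpow_zpow i j))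
  have hXeq : commutator S = X := le_antisymm hleX hXle
  have ha1 : a ≠ 1 := fun h => by
    have := H.a_pow 1 (by rw [zpow_one, h])
    exact hp'.one_lt.ne' (Nat.dvd_one.1 (by exact_mod_cast this))
  have hXc : Nat.card X = p ^ 2 := by
    rw [hX, hXc0, Nat.card_zpowers, orderOf_eq_prime H.a_p ha1, pow_two]
  have hwX : w ∉ X := fun h => by
    obtain ⟨z, hz, j, hzj⟩ := hXdec w h
    have hj : ((c ^ (j : ℤ) : S) : Ω) ∈ E := by
      refine H.ZE _ ?_
      rw [zpow_natCast, show c ^ j = z⁻¹ * w by rw [hzj, inv_mul_cancel_left]]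
      exact Z.mul_mem (Z.inv_mem (H.aZle hz)) H.wZ
    have h1 := H.w_pow 1 (by
      rw [zpow_one, hzj, ← zpow_natCast]
      exact Subgroup.mul_mem _ hz (hcA (H.c_pow _ hj)))
    exact hp'.one_lt.ne' (Nat.dvd_one.1 (by exact_mod_cast h1))
  rw [hXeq]
  refine ⟨hXc, hwX, fun τ => ?_⟩
  -- `τ a`
  have hindexc : ∀ i : ℤ, q c ^ i = 1 → (p : ℤ) ∣ i := fun i hi => by
    rw [← map_zpow] at hi
    exact H.c_pow i (H.ZE _ (H.aZle ((QuotientGroup.eq_one_iff _).1 hi)))
  have hge : ⁅q g, q e⁆ = q c := by rw [← map_commutatorElement, H.hc]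
  have hgeC : ⁅q g, q e⁆ ∈ Subgroup.center (S ⧸ Subgroup.zpowers a) := by rw [hge]; exact hcC
  have hin : ∀ x : S, (∀ y, ⁅x, y⁆ ∈ Subgroup.zpowers a) → x ∈ Z ⊔ Subgroup.zpowers c := by
    intro x hx
    obtain ⟨n, hn, i, rfl⟩ := H.top_dec hcard x
    have h1 : ⁅q n * q g ^ i, q e⁆ = 1 := by
      rw [← map_zpow, ← map_mul, ← map_commutatorElement]
      exact (QuotientGroup.eq_one_iff _).2 (hx e)
    have hne : ⁅q n, q e⁆ = 1 := by
      rw [← map_commutatorElement]
      exact (QuotientGroup.eq_one_iff _).2 (H.comm n hn e heN)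
    rw [comm_mul_left (by rw [comm_zpow_left hgeC]; exact Subgroup.zpow_mem _ hgeC i), hne, one_mul,
      comm_zpow_left hgeC, hge] at h1
    obtain ⟨l, rfl⟩ := hindexc i h1
    have hxN : n * g ^ ((p : ℤ) * l) ∈ N := by
      refine N.mul_mem hn ?_
      rw [zpow_mul, zpow_natCast]
      refine N.zpow_mem ?_ l
      haveI := H.hNn
      have h := N.pow_index_mem g
      have hidx := N.card_mul_index
      rw [H.cardN, hcard, pow_succ p 4] at hidx
      rwa [Nat.eq_of_mul_eq_mul_left (pow_pos hp'.pos 4) hidx] at h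
    obtain ⟨z, hz, k, j, hzkj⟩ := H.Ndec _ hxN
    have hxg : ⁅q (z * e ^ k * c ^ j), q g⁆ = 1 := by
      rw [← map_commutatorElement, ← hzkj]
      exact (QuotientGroup.eq_one_iff _).2 (hx g)
    have hzC : q z ∈ Subgroup.center (S ⧸ Subgroup.zpowers a) := by
      obtain ⟨i', j', rfl⟩ := H.Zdec z hz
      rw [map_mul, map_zpow, map_zpow, show q a = 1 from (QuotientGroup.eq_one_iff _).2 (Subgroup.mem_zpowers a),
        one_zpow, one_mul]
      exact Subgroup.zpow_mem _ hwC j'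
    rw [map_mul, map_mul, map_zpow, map_zpow, commutatorElement_eq_one_iff_commute] at hxg
    have h2 : Commute (q e ^ k) (q g) := by
      have h := ((Commute.zpow_left (Subgroup.mem_center_iff.1 hcC (q g)).symm j).inv_left)
      have h' := hxg.mul_left h
      rw [mul_inv_cancel_right] at h'
      have h'' := (show Commute (q z) (q g) from (Subgroup.mem_center_iff.1 hzC (q g)).symm).inv_left.mul_left h'
      rwa [inv_mul_cancel_left] at h''
    have h3 : ⁅q g, q e ^ k⁆ = 1 := commutatorElement_eq_one_iff_commute.2 h2.symm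
    have h4 := comm_zpow_zpow hgeC 1 k
    rw [zpow_one, h3, hge, one_mul] at h4
    obtain ⟨m, rfl⟩ := hindexc k h4.symm
    rw [hzkj, zpow_mul, zpow_natCast, H.e_p, one_zpow, mul_one]
    exact Subgroup.mul_mem_sup hz (Subgroup.zpow_mem _ (Subgroup.mem_zpowers c) j)
  have hcen : ∀ x ∈ Subgroup.center S, x ∈ Subgroup.zpowers a := by
    intro x hx
    have hxC := hin x fun y => by rw [(comm_eq_one_of_center hx).1]; exact one_mem _
    obtain ⟨z, hz, j, rfl⟩ := (card_sup_zpowers_of_pow_mem (Z := Z) (x := c)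
      (fun v hv => (hzN hv H.cN).eq) (H.c_p hES hcp) (fun h => hp'.one_lt.ne' (Nat.dvd_one.1 (by
        exact_mod_cast H.c_pow 1 (by rw [zpow_one]; exact H.ZE c h))))).2 x hxC
    have hj : (p : ℤ) ∣ j := by
      refine H.a_pow _ ?_
      have h1 := (comm_eq_one_of_center (b := e) hx).1
      rw [← zpow_natCast] at h1
      rw [comm_mul_left (by rw [comm_zpow_left (by rw [H.ha]; exact H.aC), H.ha]; exact haC _),
        commutatorElement_eq_one_iff_commute.2 (hzN hz heN), one_mul,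
        comm_zpow_left (by rw [H.ha]; exact H.aC), H.ha] at h1
      exact h1
    obtain ⟨i, l, rfl⟩ := H.Zdec z hz
    obtain ⟨v, hv⟩ := Subgroup.mem_zpowers_iff.1 (hcA hj)
    rw [← zpow_natCast] at hx ⊢
    rw [← hv] at hx ⊢
    have hl : (p : ℤ) ∣ l := by
      have h1 := (comm_eq_one_of_center (b := g) hx).2
      have h2 := comm_zpow_zpow (a := g) (b := w) (by rw [hγ]; exact haC γ) 1 l
      rw [zpow_one, one_mul, hγ, ← zpow_mul] at h2
      rw [comm_mul_right (by rw [(comm_eq_one_of_center (haC v)).2]; exact one_mem _),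
        (comm_eq_one_of_center (haC v)).2, mul_one, comm_mul_right (by rw [h2]; exact haC _),
        (comm_eq_one_of_center (haC i)).2, one_mul, h2] at h1
      exact ((Nat.prime_iff_prime_int.1 hp').dvd_mul.1 (H.a_pow _ h1)).resolve_left hγ0
    obtain ⟨m, rfl⟩ := hl
    rw [zpow_mul w, zpow_natCast, H.w_p, one_zpow, mul_one]
    exact Subgroup.mul_mem _ (Subgroup.zpow_mem _ (Subgroup.mem_zpowers a) i)
      (Subgroup.zpow_mem _ (Subgroup.mem_zpowers a) v)
  have hτcen : ∀ (σ : MulAut S), ∀ x ∈ Subgroup.zpowers a, σ x ∈ Subgroup.zpowers a := fun σ x hx =>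
    hcen _ (Subgroup.characteristic_iff_le_comap.1 inferInstance σ (H.mem_zpowers_center hx))
  obtain ⟨lam, hlam⟩ := Subgroup.mem_zpowers_iff.1 (hτcen τ a (Subgroup.mem_zpowers a))
  have hlam0 : ¬ (p : ℤ) ∣ lam := fun ⟨l, hl⟩ => ha1 (τ.injective (by
    rw [← hlam, hl, zpow_mul, zpow_natCast, H.a_p, one_zpow, map_one]))
  -- `τ w`, `τ c`, `τ g`, `τ e`
  have hτw := hin (τ w) fun y => by
    have h := hτcen τ _ (H.w_comm hcard (τ⁻¹ y))
    rwa [map_commutatorElement, MulAut.apply_inv_self] at h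
  obtain ⟨zw, hzw, jw, hjw⟩ := (card_sup_zpowers_of_pow_mem (Z := Z) (x := c)
    (fun v hv => (hzN hv H.cN).eq) (H.c_p hES hcp) (fun h => hca (by
      have h1 := H.c_pow 1 (by rw [zpow_one]; exact H.ZE c h)
      exact absurd (Nat.dvd_one.1 (by exact_mod_cast h1)) hp'.one_lt.ne'))).2 _ hτw
  obtain ⟨iw, k, rfl⟩ := H.Zdec zw hzw
  have hτX : ∀ x ∈ X, τ x ∈ X := fun x hx => by
    rw [← hXeq] at hx ⊢
    exact Subgroup.characteristic_iff_le_comap.1 inferInstance τ hx
  obtain ⟨zc, hzc, m, hm⟩ := hXdec _ (hτX c (Subgroup.mem_sup_right (Subgroup.mem_zpowers c)))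
  obtain ⟨ic, rfl⟩ := Subgroup.mem_zpowers_iff.1 hzc
  have hm0 : ¬ (p : ℤ) ∣ (m : ℤ) := fun hd => hca (by
    have h := hτcen τ⁻¹ _ (show τ c ∈ Subgroup.zpowers a by
      rw [hm, ← zpow_natCast]
      exact Subgroup.mul_mem _ (Subgroup.zpow_mem _ (Subgroup.mem_zpowers a) ic) (hcA hd))
    rwa [MulAut.inv_apply_self] at h)
  obtain ⟨n, hn, η, hη⟩ := H.top_dec hcard (τ g)
  obtain ⟨n', hn', v, hv⟩ := H.top_dec hcard (τ e)
  obtain ⟨ze, hze, u, je, rfl⟩ := H.Ndec n' hn'
  have hgcm : Commute (τ g) (c ^ (m : ℤ)) := by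
    have h := (show Commute (τ g) (τ c) from hgcC.map τ)
    rw [hm, ← zpow_natCast] at h
    have h2 := (show Commute (τ g) (a ^ ic) from Subgroup.mem_center_iff.1 (haC ic) (τ g)).inv_right.mul_right h
    rwa [inv_mul_cancel_left] at h2
  have hτgc : Commute (τ g) c := by
    obtain ⟨r, r', hr⟩ := (Nat.prime_iff_prime_int.1 hp').coprime_iff_not_dvd.2 hm0
    have h : c = (c ^ p) ^ r * (c ^ (m : ℤ)) ^ r' := by
      rw [← zpow_natCast c p, ← zpow_mul, ← zpow_mul, ← zpow_add, mul_comm (p : ℤ) r, mul_comm (m : ℤ) r',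
        hr, zpow_one]
    rw [h]
    exact (show Commute (τ g) ((c ^ p) ^ r) from Subgroup.mem_center_iff.1
      (H.mem_zpowers_center (Subgroup.zpow_mem _ hcpa r)) (τ g)).mul_right (hgcm.zpow_right r')
  obtain ⟨zn, hzn, kn, jn, rfl⟩ := H.Ndec n hn
  have hkn : (p : ℤ) ∣ kn := by
    refine H.a_pow _ ?_
    rw [hη] at hτgc
    have h := hτgc.mul_left ((hgcC.zpow_left η).inv_left)
    rw [mul_inv_cancel_right] at h
    have h' := h.mul_left (((Commute.refl c).zpow_left jn).inv_left)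
    rw [mul_inv_cancel_right] at h'
    have h'' := (hzN hzn H.cN).inv_left.mul_left h'
    rw [inv_mul_cancel_left] at h''
    have h2 := comm_zpow_zpow (a := c) (b := e) (by rw [H.ha]; exact H.aC) 1 kn
    rw [zpow_one, one_mul, H.ha, commutatorElement_eq_one_iff_commute.2 h''.symm] at h2
    exact h2.symm
  obtain ⟨qn, rfl⟩ := hkn
  rw [show e ^ ((p : ℤ) * qn) = 1 by rw [zpow_mul, zpow_natCast, H.e_p, one_zpow], mul_one] at hη hn
  -- `[τ g, τ w]`
  have e1 : (p : ℤ) ∣ γ * (η * k) - γ * lam := by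
    have hc2 : Commute (zn * c ^ jn * g ^ η) (c ^ (jw : ℤ)) :=
      (((hzN hzn H.cN).mul_left ((Commute.refl c).zpow_left jn)).mul_left (hgcC.zpow_left η)).zpow_right _
    have hgw' : ⁅g ^ η, w ^ k⁆ = a ^ (γ * (η * k)) := by
      rw [comm_zpow_zpow (by rw [hγ]; exact haC γ), hγ, ← zpow_mul]
    have hn2 : ⁅zn * c ^ jn, w ^ k⁆ = 1 := commutatorElement_eq_one_iff_commute.2
      (hzN (Z.zpow_mem H.wZ k) hn).symm
    have h1 : ⁅zn * c ^ jn * g ^ η, a ^ iw * w ^ k⁆ = a ^ (γ * (η * k)) := by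
      have hb : ⁅zn * c ^ jn * g ^ η, w ^ k⁆ = a ^ (γ * (η * k)) := by
        rw [comm_mul_left (by rw [hgw']; exact haC _), hn2, one_mul, hgw']
      rw [comm_mul_right (by rw [hb]; exact haC _), (comm_eq_one_of_center (haC iw)).2, one_mul, hb]
    have h := congrArg τ hγ
    rw [map_commutatorElement, map_zpow, ← hlam, hη, hjw, ← zpow_natCast,
      comm_mul_right (by rw [commutatorElement_eq_one_iff_commute.2 hc2]; exact one_mem _),
      commutatorElement_eq_one_iff_commute.2 hc2, mul_one, h1, ← zpow_mul] at h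
    exact H.a_pow _ (by rw [mul_comm γ lam, zpow_sub, h, mul_inv_cancel])
  -- `[τ c, τ e]`
  have e2 : (p : ℤ) ∣ m * u - lam := by
    have hcg : Commute (c ^ (m : ℤ)) (g ^ v) := (hgcC.symm.zpow_zpow _ _)
    have hce' : ⁅c ^ (m : ℤ), e ^ u⁆ = a ^ ((m : ℤ) * u) := by
      rw [comm_zpow_zpow (by rw [H.ha]; exact H.aC), H.ha]
    have h1 : ⁅c ^ (m : ℤ), ze * e ^ u * c ^ je * g ^ v⁆ = a ^ ((m : ℤ) * u) := by
      rw [comm_mul_right (by rw [commutatorElement_eq_one_iff_commute.2 hcg]; exact one_mem _),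
        commutatorElement_eq_one_iff_commute.2 hcg, mul_one,
        comm_mul_right (by rw [commutatorElement_eq_one_iff_commute.2 ((Commute.refl c).zpow_zpow _ _)]; exact one_mem _),
        commutatorElement_eq_one_iff_commute.2 ((Commute.refl c).zpow_zpow _ _), mul_one,
        comm_mul_right (by rw [hce']; exact haC _),
        commutatorElement_eq_one_iff_commute.2 ((hzN hze H.cN).symm.zpow_left _), one_mul, hce']
    have h := congrArg τ H.ha
    rw [map_commutatorElement, ← hlam, hm, hv, ← zpow_natCast, comm_mul_left (by rw [h1]; exact haC _),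
      (comm_eq_one_of_center (haC ic)).1, one_mul, h1] at h
    exact H.a_pow _ (by rw [zpow_sub, h, mul_inv_cancel])
  -- `[τ g, τ e]` modulo `⟨a⟩`
  have e3 : (p : ℤ) ∣ η * u - m := by
    have hZC : ∀ z ∈ Z, q z ∈ Subgroup.center (S ⧸ Subgroup.zpowers a) := fun z hz => by
      obtain ⟨i', j', rfl⟩ := H.Zdec z hz
      rw [map_mul, map_zpow, map_zpow, show q a = 1 from (QuotientGroup.eq_one_iff _).2 (Subgroup.mem_zpowers a),
        one_zpow, one_mul]
      exact Subgroup.zpow_mem _ hwC j'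
    have hA : q zn * q c ^ jn ∈ Subgroup.center (S ⧸ Subgroup.zpowers a) :=
      Subgroup.mul_mem _ (hZC zn hzn) (Subgroup.zpow_mem _ hcC jn)
    have hB : ⁅q g ^ η, q ze * q e ^ u * q c ^ je * q g ^ v⁆ = q c ^ (η * u) := by
      rw [comm_mul_right (by rw [commutatorElement_eq_one_iff_commute.2 ((Commute.refl _).zpow_zpow _ _)]; exact one_mem _),
        commutatorElement_eq_one_iff_commute.2 ((Commute.refl _).zpow_zpow _ _), mul_one,
        comm_mul_right (by rw [(comm_eq_one_of_center (Subgroup.zpow_mem _ hcC je)).2]; exact one_mem _),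
        (comm_eq_one_of_center (Subgroup.zpow_mem _ hcC je)).2, mul_one,
        comm_mul_right (by rw [comm_zpow_zpow hgeC]; exact Subgroup.zpow_mem _ hgeC _),
        (comm_eq_one_of_center (hZC ze hze)).2, one_mul, comm_zpow_zpow hgeC, hge]
    have h := congrArg (fun x => q (τ x)) H.hc
    simp only [map_commutatorElement, hη, hv, hm, map_mul, map_zpow, map_pow,
      show q a = 1 from (QuotientGroup.eq_one_iff _).2 (Subgroup.mem_zpowers a), one_zpow, one_mul] at h
    rw [comm_mul_left (by rw [hB]; exact Subgroup.zpow_mem _ hcC _), (comm_eq_one_of_center hA).1, one_mul,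
      hB, ← zpow_natCast] at h
    exact hindexc _ (by rw [zpow_sub, h, mul_inv_cancel])
  -- `k ≡ 1`
  subst h3
  have hk : ((k : ℤ) : ZMod 3) = 1 := by
    rw [← ZMod.intCast_zmod_eq_zero_iff_dvd] at e1 e2 e3 hlam0 hγ0
    push_cast at e1 e2 e3
    refine zmod_cube_fix _ _ _ _ _ hlam0 ?_ (sub_eq_zero.1 e2).symm (sub_eq_zero.1 e3).symm
    exact (mul_left_cancel₀ hγ0 (sub_eq_zero.1 e1)).symm
  obtain ⟨r, hr⟩ : (3 : ℤ) ∣ k - 1 := by
    rw [show (3 : ℤ) = ((3 : ℕ) : ℤ) from rfl, ← ZMod.intCast_zmod_eq_zero_iff_dvd, Int.cast_sub, hk,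
      Int.cast_one, sub_self]
  have hwk : w ^ k = w := by
    rw [show k = 1 + ((3 : ℕ) : ℤ) * r by push_cast; linarith, zpow_add, zpow_one, zpow_mul, zpow_natCast,
      H.w_p, one_zpow, mul_one]
  rw [hjw, hwk, mul_assoc (a ^ iw), (hzN H.wZ (N.pow_mem H.cN jw)).eq, mul_assoc, mul_inv_cancel_right]
  exact X.mul_mem (Subgroup.mem_sup_left (Subgroup.zpow_mem _ (Subgroup.mem_zpowers a) iw))
    (Subgroup.mem_sup_right (Subgroup.pow_mem _ (Subgroup.mem_zpowers c) jw))

set_option maxHeartbeats 800000 in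
/-- An elementary abelian essential subgroup of order `p³` forces an abelian maximal subgroup. -/
theorem cube_false (hS : IsPGroup p S) (hF : F.IsSaturated p) (hhyp : F.hyperfocalSubgroup p = S)
    (hp2 : p ≠ 2) (hcard : Nat.card S = p ^ 5)
    (hno : ¬ ∃ A : Subgroup Ω, A ≤ S ∧ IsMulCommutative A ∧ (A.subgroupOf S).index = p)
    (hE : F.IsEssential p E) (hEc : Nat.card E = p ^ 3) (hel : IsElementaryAbelian p E) : False := by
  classical
  have hp' := hp.out
  have hES := hE.1.1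
  obtain ⟨N, Z, a, w, e, c, g₀, H₀⟩ := exists_cube hS hF hcard hE hEc hel
  have h20 : ((2 : ℤ) : ZMod p) ≠ 0 := by
    rw [Ne, ZMod.intCast_zmod_eq_zero_iff_dvd]
    intro h
    exact hp2 ((Nat.prime_dvd_prime_iff_eq hp' Nat.prime_two).1 (by exact_mod_cast h))
  -- `ν = 0`
  obtain ⟨i, ν, hν⟩ := H₀.Zdec _ H₀.hgc
  have hν0 : (p : ℤ) ∣ ν := by
    obtain ⟨k, η, h1, h2, -, h4⟩ := H₀.weights hS hF hcard hE hEc hel (t := -1) (u := -1) (by norm_num)
    have h5 := h4 ν (by rw [hν, mul_inv_cancel_right]; exact Subgroup.zpow_mem _ (Subgroup.mem_zpowers a) i)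
    rw [← ZMod.intCast_zmod_eq_zero_iff_dvd] at h1 h2 h5 ⊢
    push_cast at h1 h2 h5 h20
    have h6 : (2 : ZMod p) * ν = 0 := by linear_combination -h5 - (ν : ZMod p) * h2 + (ν : ZMod p) * η * h1
    exact (mul_eq_zero.1 h6).resolve_left h20
  obtain ⟨qν, rfl⟩ := hν0
  rw [zpow_mul w, zpow_natCast, H₀.w_p, one_zpow, mul_one] at hν
  obtain ⟨H, hgc⟩ := H₀.shift hES hν
  set g := g₀ * e ^ i
  obtain ⟨γ, hγ⟩ := Subgroup.mem_zpowers_iff.1 H.hgw
  by_cases hγ0 : (p : ℤ) ∣ γ
  · -- `⟨a, w, c, g⟩` is abelian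
    obtain ⟨q, rfl⟩ := hγ0
    rw [zpow_mul, zpow_natCast, H.a_p, one_zpow] at hγ
    have haw : ∀ x : S, Commute a x := fun x => (Subgroup.mem_center_iff.1 H.aC x).symm
    set A := Subgroup.closure ({a, w, c, g} : Set S) with hA
    have hgw : Commute g w := commutatorElement_eq_one_iff_commute.1 hγ.symm
    have hgc' : Commute g c := commutatorElement_eq_one_iff_commute.1 hgc
    have hwc : Commute w c := H.cent w H.wZ c H.cN
    haveI hAc : IsMulCommutative A := Subgroup.isMulCommutative_closure (by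
      intro x hx y hy
      simp only [Set.mem_insert_iff, Set.mem_singleton_iff] at hx hy
      rcases hx with rfl | rfl | rfl | rfl <;> rcases hy with rfl | rfl | rfl | rfl
      all_goals first
        | exact (haw _).eq
        | exact (haw _).symm.eq
        | exact rfl
        | exact hgw.eq
        | exact hgw.symm.eq
        | exact hgc'.eq
        | exact hgc'.symm.eq
        | exact hwc.eq
        | exact hwc.symm.eq)
    have hmem : ∀ v ∈ ({a, w, c, g} : Set S), v ∈ A := fun v hv => Subgroup.subset_closure hv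
    have haA : a ∈ A := hmem a (by simp)
    have hwA : w ∈ A := hmem w (by simp)
    have hcA : c ∈ A := hmem c (by simp)
    have hZA : Z ≤ A := fun z hz => by
      obtain ⟨i', j', rfl⟩ := H.Zdec z hz
      exact A.mul_mem (A.zpow_mem haA i') (A.zpow_mem hwA j')
    have hne : A ≠ ⊤ := fun h => by
      have h1 : Commute c e := congrArg Subtype.val
        (hAc.is_comm.comm (⟨c, hcA⟩ : A) ⟨e, h ▸ Subgroup.mem_top e⟩)
      have h2 := H.a_pow 1 (by rw [zpow_one, ← H.ha]; exact commutatorElement_eq_one_iff_commute.2 h1)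
      exact hp'.one_lt.ne' (Nat.dvd_one.1 (by exact_mod_cast h2))
    -- its order is at least `p⁴`
    have hcZ : c ∉ Z := fun h => by
      have h2 := H.c_pow 1 (by rw [zpow_one]; exact H.ZE c h)
      exact hp'.one_lt.ne' (Nat.dvd_one.1 (by exact_mod_cast h2))
    have hcp : ((c ^ p : S) : Ω) ∈ E := by
      have hNc0 : Nat.card (normalizerIn S E) = p * Nat.card E := by
        rw [hEc, ← pow_succ', ← H.cardN,
          ← Nat.card_congr (Subgroup.subgroupOfEquivOfLe (normalizerIn_le E)).toEquiv]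
        refine congrArg (fun X : Subgroup S => Nat.card X) ?_
        ext n
        exact (H.hN n).symm
      have := finite_le hES
      have h := SmallEssential.pow_p_mem hES hNc0 (⟨c, (H.hN c).1 H.cN⟩ : normalizerIn S E)
      push_cast at h ⊢
      exact h
    obtain ⟨hCc, -⟩ := card_sup_zpowers_of_pow_mem (Z := Z) (x := c)
      (fun v hv => (H.cent v hv c H.cN).eq) (H.c_p hES hcp) hcZ
    have hlt : Nat.card (Z ⊔ Subgroup.zpowers c : Subgroup S) < Nat.card A :=
      lt_of_le_of_ne (Subgroup.card_le_of_le (sup_le hZA (Subgroup.zpowers_le.2 hcA))) fun h => H.hg (by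
        have hgA : g ∈ A := hmem g (by simp)
        rw [← Subgroup.eq_of_le_of_card_ge (sup_le hZA (Subgroup.zpowers_le.2 hcA)) h.ge] at hgA
        exact (sup_le (fun z hz => H.ZN hES hz) (Subgroup.zpowers_le.2 H.cN) : Z ⊔ Subgroup.zpowers c ≤ N) hgA)
    rw [hCc, H.cardZ, ← pow_succ'] at hlt
    obtain ⟨k, hk5, hk⟩ := (Nat.dvd_prime_pow hp').1 (hcard ▸ Subgroup.card_subgroup_dvd_card A)
    rw [hk] at hlt
    have := (Nat.pow_lt_pow_iff_right hp'.one_lt).1 hlt
    have hk4 : k = 4 := by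
      have : k ≠ 5 := fun h => hne (Subgroup.eq_top_of_card_eq _ (by rw [hk, h, hcard]))
      omega
    have hidx : A.index = p := by
      have h := A.card_mul_index
      rw [hk, hk4, hcard, pow_succ p 4] at h
      exact Nat.eq_of_mul_eq_mul_left (pow_pos hp'.pos 4) h
    refine hno ⟨A.map S.subtype, ?_, ?_, ?_⟩
    · rintro _ ⟨x, -, rfl⟩; exact x.2
    · refine ⟨⟨fun u v => Subtype.ext ?_⟩⟩
      obtain ⟨x, hx, hxu⟩ := u.2
      obtain ⟨y, hy, hyv⟩ := v.2
      show (u : Ω) * (v : Ω) = (v : Ω) * (u : Ω)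
      rw [← hxu, ← hyv, ← map_mul, ← map_mul]
      exact congrArg S.subtype (congrArg Subtype.val (hAc.is_comm.comm (⟨x, hx⟩ : A) ⟨y, hy⟩))
    · rw [Subgroup.subgroupOf, Subgroup.comap_map_eq_self_of_injective S.subtype_injective, hidx]
  · by_cases h3 : p = 3
    · have hcp : ((c ^ p : S) : Ω) ∈ E := by
        have hNc0 : Nat.card (normalizerIn S E) = p * Nat.card E := by
          rw [hEc, ← pow_succ', ← H.cardN,
            ← Nat.card_congr (Subgroup.subgroupOfEquivOfLe (normalizerIn_le E)).toEquiv]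
          refine congrArg (fun X : Subgroup S => Nat.card X) ?_
          ext n
          exact (H.hN n).symm
        have := finite_le hES
        have h := SmallEssential.pow_p_mem hES hNc0 (⟨c, (H.hN c).1 H.cN⟩ : normalizerIn S E)
        push_cast at h ⊢
        exact h
      obtain ⟨hd, hw, hfix⟩ := H.fix_three hcard h3 hES hcp hγ.symm hγ0 hgc
      exact no_fixed_class hS hF hhyp hp2 hcard hno (Or.inl hd) hw fun τ _ => hfix τ
    · haveI : NeZero p := ⟨hp'.ne_zero⟩
      obtain ⟨k, η, h1, h2, h3', -⟩ := H.weights hS hF hcard hE hEc hel (t := 2)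
        (u := ((((2 : ℤ) : ZMod p)⁻¹).val : ℤ)) (by
          rw [← ZMod.intCast_zmod_eq_zero_iff_dvd, Int.cast_sub, Int.cast_mul, Int.cast_one,
            Int.cast_natCast, ZMod.natCast_zmod_val, mul_inv_cancel₀ h20, sub_self])
      have h4 := h3' γ hγ.symm
      rw [← ZMod.intCast_zmod_eq_zero_iff_dvd] at h1 h2 h4 hγ0
      push_cast at h1 h2 h4 h20
      have h5 : (2 : ZMod p) * ((2 : ZMod p) * (3 * γ)) = 0 := by
        linear_combination -(4 * (γ : ZMod p)) * h2 + (η * γ : ZMod p) * h1 + 2 * h4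
      have h30 : (3 : ZMod p) ≠ 0 := by
        rw [show (3 : ZMod p) = ((3 : ℕ) : ZMod p) by norm_num, Ne, ZMod.natCast_eq_zero_iff]
        exact fun h => h3 ((Nat.prime_dvd_prime_iff_eq hp' Nat.prime_three).1 h)
      exact hγ0 ((mul_eq_zero.1 ((mul_eq_zero.1 ((mul_eq_zero.1 h5).resolve_left h20)).resolve_left h20)).resolve_left h30)

end CfsgLib.Fusion.OrderFive
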