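import Cfsg.Agent.Lib.Fusion.OrderFiveCube
import Cfsg.Agent.Lib.Fusion.MaxClassFive

/-!
# Order `p⁵`: diagonal automorphisms of `S` from an elementary abelian essential subgroup
-/

set_option autoImplicit false

namespace CfsgLib.Fusion.OrderFive

open Cfsg Cfsg.FusionSystem CfsgLib.Fusion CfsgLib.Fusion.TransvAut CfsgLib.Fusion.MaxClassFive
open scoped commutatorElement

variable {Ω : Type*} [Group Ω] {S : Subgroup Ω} [Finite S] {F : FusionSystem S} {p : ℕ}
  [hp : Fact p.Prime] {E : Subgroup Ω} {N Z : Subgroup S} {a w e c g : S}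

omit [Finite S] hp in
theorem Cube.aZle (H : Cube E p N Z a w e c g) : Subgroup.zpowers a ≤ Z :=
  Subgroup.zpowers_le.2 H.aZ

omit [Finite S] hp in
theorem Cube.eN (H : Cube E p N Z a w e c g) (hES : E ≤ S) : e ∈ N :=
  (H.hN e).2 (le_normalizerIn hES H.heE)

omit [Finite S] hp in
theorem Cube.ZN (H : Cube E p N Z a w e c g) (hES : E ≤ S) {z : S} (hz : z ∈ Z) : z ∈ N :=
  (H.hN z).2 (le_normalizerIn hES (H.ZE z hz))

omit [Finite S] hp in
/-- In `S / Z` the image of `c` is central. -/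
theorem Cube.q_c_comm (H : Cube E p N Z a w e c g) [Z.Normal] :
    ∀ n ∈ N, Commute ((c : S) : S ⧸ Z) (n : S ⧸ Z) := fun n hn => by
  rw [← commutatorElement_eq_one_iff_commute, ← QuotientGroup.mk'_apply, ← QuotientGroup.mk'_apply,
    ← map_commutatorElement]
  exact (QuotientGroup.eq_one_iff _).2 (H.aZle (H.comm c H.cN n hn))

/-- Every element of `S` is `n g ^ i`. -/
theorem Cube.top_dec (H : Cube E p N Z a w e c g) (hcard : Nat.card S = p ^ 5) (s : S) :
    ∃ n ∈ N, ∃ i : ℤ, s = n * g ^ i := by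
  haveI := H.hNn
  have htop : N ⊔ Subgroup.zpowers g = ⊤ := by
    obtain ⟨k, hk5, hk⟩ := (Nat.dvd_prime_pow hp.out).1
      (hcard ▸ Subgroup.card_subgroup_dvd_card (N ⊔ Subgroup.zpowers g))
    have hlt : Nat.card N < Nat.card (N ⊔ Subgroup.zpowers g : Subgroup S) :=
      lt_of_le_of_ne (Subgroup.card_le_of_le le_sup_left) fun h => H.hg (by
        rw [Subgroup.eq_of_le_of_card_ge (le_sup_left : N ≤ N ⊔ Subgroup.zpowers g) h.ge]
        exact Subgroup.mem_sup_right (Subgroup.mem_zpowers g))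
    rw [H.cardN, hk] at hlt
    have := (Nat.pow_lt_pow_iff_right hp.out.one_lt).1 hlt
    exact Subgroup.eq_top_of_card_eq _ (by rw [hk, hcard, show k = 5 by omega])
  obtain ⟨n, hn, v, hv, rfl⟩ := Subgroup.mem_sup_of_normal_left.1 (htop.ge (Subgroup.mem_top s))
  obtain ⟨i, rfl⟩ := Subgroup.mem_zpowers_iff.1 hv
  exact ⟨n, hn, i, rfl⟩

omit [Finite S] in
/-- `c ^ p ∈ Z`. -/
theorem Cube.c_p (H : Cube E p N Z a w e c g) (hES : E ≤ S) (hcp : ((c ^ p : S) : Ω) ∈ E) : c ^ p ∈ Z := by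
  obtain ⟨z, hz, j, hzj⟩ := H.Edec _ hcp
  have h1 : Commute c (z * e ^ j) := hzj ▸ (Commute.refl c).pow_right p
  have h2 : ⁅c, e ^ j⁆ = 1 := commutatorElement_eq_one_iff_commute.2 (by
    have h3 := (H.cent z hz c H.cN).symm.inv_right.mul_right h1
    rwa [inv_mul_cancel_left] at h3)
  have h3 := comm_zpow_zpow (a := c) (b := e) (by rw [H.ha]; exact H.aC) 1 j
  rw [zpow_one, h2, H.ha, one_mul] at h3
  obtain ⟨q, rfl⟩ := H.a_pow j h3.symm
  rw [hzj, zpow_mul, zpow_natCast, H.e_p, one_zpow, mul_one]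
  exact hz

omit [Finite S] in
/-- The centre of `N` is `Z`. -/
theorem Cube.central_mem (H : Cube E p N Z a w e c g) (hES : E ≤ S) (hcp : ((c ^ p : S) : Ω) ∈ E) {n : S}
    (hn : n ∈ N) (hnc : ∀ m ∈ N, Commute n m) : n ∈ Z := by
  obtain ⟨z, hz, j, i, rfl⟩ := H.Ndec n hn
  have hce : ⁅c, e⁆ ∈ Subgroup.center S := by rw [H.ha]; exact H.aC
  have hzc := H.cent z hz
  have hj : (p : ℤ) ∣ j := by
    refine H.a_pow j ?_
    have h1 : Commute c (z * e ^ j * c ^ i) := (hnc c H.cN).symm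
    have h2 := ((hzc c H.cN).symm.inv_right.mul_right (h1.mul_right ((Commute.refl c).zpow_right i).inv_right))
    rw [mul_inv_cancel_right, inv_mul_cancel_left, ← commutatorElement_eq_one_iff_commute] at h2
    have h3 := comm_zpow_zpow hce 1 j
    rw [zpow_one, h2, H.ha, one_mul] at h3
    exact h3.symm
  obtain ⟨q, rfl⟩ := hj
  rw [show e ^ ((p : ℤ) * q) = 1 by rw [zpow_mul, zpow_natCast, H.e_p, one_zpow], mul_one] at hnc ⊢
  have hi : (p : ℤ) ∣ i := by
    refine H.a_pow i ?_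
    have h2 := (hzc e (H.eN hES)).inv_left.mul_left (hnc e (H.eN hES))
    rw [inv_mul_cancel_left, ← commutatorElement_eq_one_iff_commute, comm_zpow_left hce, H.ha] at h2
    exact h2
  obtain ⟨r, rfl⟩ := hi
  rw [zpow_mul, zpow_natCast]
  exact Z.mul_mem hz (Z.zpow_mem (H.c_p hES hcp) r)

set_option maxHeartbeats 1000000 in
/-- An automorphism of `S` with the weights of a diagonal automorphism of `E`. -/
theorem Cube.exists_aut (hS : IsPGroup p S) (hF : F.IsSaturated p) (hcard : Nat.card S = p ^ 5)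
    (hE : F.IsEssential p E) (hEc : Nat.card E = p ^ 3) (hel : IsElementaryAbelian p E)
    (H : Cube E p N Z a w e c g) {t u : ℤ} (htu : (p : ℤ) ∣ t * u - 1) :
    ∃ τ : MulAut S, τ a = a ^ t ∧ τ w * w⁻¹ ∈ Subgroup.zpowers a ∧ ((τ e : S) : Ω) ∈ E ∧
      τ c * (c ^ (t * t))⁻¹ ∈ Z ∧ (∀ z ∈ Z, τ z ∈ Z) := by
  classical
  have hp' := hp.out
  haveI := H.hZn
  have hES := hE.1.1
  have := finite_le hES
  set R := normalizerIn S E with hRdef
  have hRS : R ≤ S := normalizerIn_le E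
  have := finite_le hRS
  have hRc : Nat.card R = p ^ 4 := by
    rw [← H.cardN, ← Nat.card_congr (Subgroup.subgroupOfEquivOfLe hRS).toEquiv]
    refine congrArg (fun X : Subgroup S => Nat.card X) ?_
    ext n
    exact (H.hN n).symm
  have hcp : ((c ^ p : S) : Ω) ∈ E := by
    have h := SmallEssential.pow_p_mem hES (by rw [← hRdef, hRc, hEc, ← pow_succ'])
      (⟨c, (H.hN c).1 H.cN⟩ : normalizerIn S E)
    push_cast at h ⊢
    exact h
  set cn : normalizerIn S E := ⟨c, (H.hN c).1 H.cN⟩ with hcn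
  have hcE : (cn : Ω) ∉ E := fun h => by
    have := H.c_pow 1 (by rw [zpow_one]; exact h)
    exact hp'.one_lt.ne' (Nat.dvd_one.1 (by exact_mod_cast this))
  have hce : ⁅c, e⁆ ∈ Subgroup.center S := by rw [H.ha]; exact H.aC
  have hcz : ∀ z ∈ Z, ∀ j : ℤ, c * (z * e ^ j) * c⁻¹ * (z * e ^ j)⁻¹ = a ^ j := fun z hz j => by
    have h3 := comm_zpow_zpow hce 1 j
    rw [zpow_one, H.ha, one_mul, commutatorElement_def] at h3
    rw [show c * (z * e ^ j) * c⁻¹ * (z * e ^ j)⁻¹ = (c * z * c⁻¹) * (c * e ^ j * c⁻¹ * (e ^ j)⁻¹) * z⁻¹ by group,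
      (H.cent z hz c H.cN).symm.eq, mul_inv_cancel_right, h3,
      (Subgroup.mem_center_iff.1 (Subgroup.zpow_mem _ H.aC j) z), mul_inv_cancel_right]
  set a' : E := ⟨a, H.ZE a H.aZ⟩ with ha'
  have himg : ∀ x : E, ∃ i : ℤ, conjAut cn x * x⁻¹ = a' ^ i := by
    intro x
    obtain ⟨z, hz, j, hzj⟩ := H.Edec ⟨x, hES x.2⟩ x.2
    refine ⟨j, Subtype.ext ?_⟩
    have h := congrArg Subtype.val (hcz z hz j)
    rw [← hzj] at h
    rw [SubgroupClass.coe_zpow]
    push_cast at h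
    exact h
  have hT : ∀ g' : normalizerIn S E, ∃ i : ℤ, conjAut g' = conjAut cn ^ i := by
    intro g'
    obtain ⟨z, hz, j, i, hn⟩ := H.Ndec ⟨g', g'.2.1⟩ ((H.hN _).2 g'.2)
    refine ⟨i, ?_⟩
    set m : normalizerIn S E := g' * (cn ^ i)⁻¹ with hm
    have hmE : (m : Ω) ∈ E := by
      have h1 : (⟨g', g'.2.1⟩ : S) * (c ^ i)⁻¹ = z * e ^ j := by rw [hn, mul_inv_cancel_right]
      have h2 := congrArg Subtype.val h1
      push_cast at h2
      rw [hm]
      push_cast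
      rw [h2]
      exact E.mul_mem (H.ZE z hz) (E.zpow_mem H.heE j)
    have hm1 : conjAut m = 1 := MulEquiv.ext fun x => Subtype.ext (by
      rw [conjAut_apply, MulAut.one_apply,
        congrArg Subtype.val (hel.1.is_comm.comm (⟨m, hmE⟩ : E) x) |> fun h => (show (m : Ω) * x = x * m from h),
        mul_inv_cancel_right])
    rw [show g' = m * cn ^ i by rw [hm, inv_mul_cancel_right], ← conjHomAut_eq, map_mul, map_zpow,
      conjHomAut_eq, conjHomAut_eq, hm1, one_mul]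
  obtain ⟨d, hd, hda, hdc, hdfix⟩ := exists_torus hS hF hE hel cn hcE a' himg hT htu
  -- `R = E⟨c⟩`
  have hR : R = E ⊔ Subgroup.zpowers (cn : Ω) := by
    refine le_antisymm (fun r hr => ?_) (sup_le (le_normalizerIn hES) (Subgroup.zpowers_le.2 cn.2))
    obtain ⟨z, hz, j, i, hn⟩ := H.Ndec ⟨r, hr.1⟩ ((H.hN _).2 hr)
    have h2 := congrArg Subtype.val hn
    push_cast at h2
    rw [show r = (z : Ω) * (e : Ω) ^ j * (c : Ω) ^ i from h2]
    exact Subgroup.mul_mem_sup (E.mul_mem (H.ZE z hz) (E.zpow_mem H.heE j))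
      (Subgroup.zpow_mem _ (Subgroup.mem_zpowers _) i)
  have hcR : (cn : Ω) ∈ R := cn.2
  obtain ⟨ψ, hψ, hψe, r₀, hψc⟩ := extend_over hS hF hE.1 hd cn (t * t) hdc hR hcR
  -- the chain
  set C := Z ⊔ Subgroup.zpowers c with hC
  have hcZ : c ∉ Z := fun h => hcE (H.ZE c h)
  obtain ⟨hCc0, hCdec⟩ := card_sup_zpowers_of_pow_mem (Z := Z) (x := c)
    (fun z hz => (H.cent z hz c H.cN).eq) (H.c_p hES hcp) hcZ
  have hCc : Nat.card C = p ^ 3 := by rw [hC, hCc0, H.cardZ, ← pow_succ']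
  have hCN : C ≤ N := sup_le (fun z hz => H.ZN hES hz) (Subgroup.zpowers_le.2 H.cN)
  have hqc : ∀ s : S, Commute (c : S ⧸ Z) (s : S ⧸ Z) := fun s => by
    obtain ⟨n, hn, i, rfl⟩ := H.top_dec hcard s
    rw [QuotientGroup.mk_mul, QuotientGroup.mk_zpow]
    refine (H.q_c_comm n hn).mul_right (Commute.zpow_right ?_ i)
    rw [← commutatorElement_eq_one_iff_commute, ← commutatorElement_inv, inv_eq_one,
      ← QuotientGroup.mk'_apply, ← QuotientGroup.mk'_apply, ← map_commutatorElement]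
    exact (QuotientGroup.eq_one_iff _).2 H.hgc
  have hCn : ∀ s v : S, v ∈ C → s * v * s⁻¹ ∈ C := fun s v hv => by
    obtain ⟨z, hz, j, rfl⟩ := hCdec v hv
    have h1 : s * c * s⁻¹ * c⁻¹ ∈ Z := by
      rw [← QuotientGroup.eq_one_iff, QuotientGroup.mk_mul, QuotientGroup.mk_mul, QuotientGroup.mk_mul,
        QuotientGroup.mk_inv, QuotientGroup.mk_inv, ← (hqc s).eq, mul_inv_cancel_right, mul_inv_cancel]
    rw [show s * (z * c ^ j) * s⁻¹ = (s * z * s⁻¹) * (s * c * s⁻¹ * c⁻¹ * c) ^ j by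
      rw [inv_mul_cancel_right, conj_pow]; group]
    exact C.mul_mem (Subgroup.mem_sup_left (H.hZn.conj_mem z hz s))
      (C.pow_mem (Subgroup.mul_mem_sup h1 (Subgroup.mem_zpowers c)) j)
  set ι := Subgroup.inclusion hRS with hι
  have hιN : ∀ r : R, ι r ∈ N := fun r => (H.hN _).2 r.2
  have hNR : ∀ {v : S}, v ∈ N → (v : Ω) ∈ R := fun hv => (H.hN _).1 hv
  set D₁ := (Subgroup.zpowers a).comap ι with hD₁
  set D₂ := Z.comap ι with hD₂
  set D₃ := C.comap ι with hD₃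
  have hz1 : ∀ σ : MulAut R, ∀ x ∈ D₁, σ x ∈ D₁ := by
    intro σ x hx
    obtain ⟨i, hi⟩ := Subgroup.mem_zpowers_iff.1 (hx : ι x ∈ Subgroup.zpowers a)
    have he' : x = ⁅(⟨c, hNR H.cN⟩ : R), ⟨e, hNR (H.eN hES)⟩⁆ ^ i :=
      Subgroup.inclusion_injective hRS (by
        rw [map_zpow, map_commutatorElement]
        show ι x = ⁅c, e⁆ ^ i
        rw [H.ha]; exact hi.symm)
    show ι (σ x) ∈ Subgroup.zpowers a
    rw [he', map_zpow, map_zpow, map_commutatorElement, map_commutatorElement]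
    exact Subgroup.zpow_mem _ (H.comm _ (hιN _) _ (hιN _)) i
  have hz2 : ∀ σ : MulAut R, ∀ x ∈ D₂, σ x ∈ D₂ := by
    intro σ x hx
    refine H.central_mem hES hcp (hιN _) fun m hm => ?_
    have h1 : Commute x (σ⁻¹ ⟨m, hNR hm⟩) := Subgroup.inclusion_injective hRS (by
      rw [map_mul, map_mul]
      exact (H.cent _ hx _ (hιN _)).eq)
    have h2 := congrArg (fun y => ι (σ y)) h1.eq
    simp only [map_mul, MulAut.apply_inv_self] at h2
    exact h2
  have hz3 : ∀ σ ∈ F.autGroup R, ∀ x ∈ D₃, σ x ∈ D₃ := by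
    intro σ hσ
    suffices hs : ι (σ ⟨c, hNR H.cN⟩) ∈ C by
      intro x hx
      obtain ⟨z, hz, j, hzj⟩ := hCdec _ (hx : ι x ∈ C)
      have he' : x = (⟨z, hNR (H.ZN hES hz)⟩ : R) * (⟨c, hNR H.cN⟩ : R) ^ j :=
        Subgroup.inclusion_injective hRS (by rw [map_mul, map_pow]; exact hzj)
      show ι (σ x) ∈ C
      rw [he', map_mul, map_mul, map_pow, map_pow]
      exact C.mul_mem (Subgroup.mem_sup_left (hz2 σ _ (show ι ⟨z, _⟩ ∈ Z from hz))) (C.pow_mem hs j)
    obtain ⟨z, hz, k, j, hzkj⟩ := H.Ndec _ (hιN (σ ⟨c, hNR H.cN⟩))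
    by_cases hk : (p : ℤ) ∣ k
    · obtain ⟨q, rfl⟩ := hk
      rw [hzkj, zpow_mul, zpow_natCast, H.e_p, one_zpow, mul_one]
      exact Subgroup.mul_mem_sup hz (Subgroup.zpow_mem _ (Subgroup.mem_zpowers c) j)
    exfalso
    obtain ⟨q, k', hqk⟩ := (Nat.prime_iff_prime_int.1 hp').coprime_iff_not_dvd.2 hk
    obtain ⟨h, hh⟩ : ∃ h, g ^ (k' * j) = h := ⟨_, rfl⟩
    -- the image of `c` lies in `E ^ h`
    have hin : h⁻¹ * (z * e ^ k * c ^ j) * h ∈ E.subgroupOf S := by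
      have hge : ⁅(g : S ⧸ Z), (e : S ⧸ Z)⁆ = (c : S ⧸ Z) := by
        rw [← QuotientGroup.mk'_apply, ← QuotientGroup.mk'_apply, ← map_commutatorElement, H.hc]
        rfl
      have hcen : (c : S ⧸ Z) ∈ Subgroup.center (S ⧸ Z) := Subgroup.mem_center_iff.2 fun v => by
        obtain ⟨v, rfl⟩ := QuotientGroup.mk'_surjective Z v
        exact (hqc v).symm.eq
      have hcpq : (c : S ⧸ Z) ^ p = 1 := by
        rw [← QuotientGroup.mk_pow]; exact (QuotientGroup.eq_one_iff _).2 (H.c_p hES hcp)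
      have h1 : ⁅(g : S ⧸ Z) ^ (k' * j), (e : S ⧸ Z) ^ k⁆ = (c : S ⧸ Z) ^ j := by
        rw [comm_zpow_zpow (hge ▸ hcen), hge,
          show k' * j * k = j + (p : ℤ) * (-(q * j)) by linear_combination j * hqk, zpow_add, zpow_mul,
          zpow_natCast, hcpq, one_zpow, mul_one]
      have h2 : (h * e ^ k * h⁻¹)⁻¹ * (z * e ^ k * c ^ j) ∈ Z := by
        have h4 : (h : S ⧸ Z) * (e : S ⧸ Z) ^ k * (h : S ⧸ Z)⁻¹ = (e : S ⧸ Z) ^ k * (c : S ⧸ Z) ^ j := by
          rw [Subgroup.mem_center_iff.1 (zpow_mem hcen j) ((e : S ⧸ Z) ^ k), ← h1, ← hh,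
            QuotientGroup.mk_zpow, commutatorElement_def]
          group
        rw [← QuotientGroup.eq_one_iff]
        simp only [QuotientGroup.mk_mul, QuotientGroup.mk_inv, QuotientGroup.mk_zpow,
          (QuotientGroup.eq_one_iff z).2 hz, one_mul]
        rw [h4, inv_mul_cancel]
      have h3 := (E.subgroupOf S).mul_mem ((E.subgroupOf S).zpow_mem (Subgroup.mem_subgroupOf.2 H.heE) k)
        (Subgroup.mem_subgroupOf.2 (H.ZE _ (H.hZn.conj_mem _ h2 h⁻¹)))
      rw [inv_inv] at h3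
      convert h3 using 1
      group
    set T := C.map S.subtype with hT'
    have hTR : T ≤ R := by rintro _ ⟨v, hv, rfl⟩; exact hNR (hCN hv)
    have hTc : Nat.card T = p ^ 3 := by
      rw [hT', Subgroup.card_map_of_injective S.subtype_injective, hCc]
    have hσhom := (mem_autGroup_iff hRS).1 hσ
    set Q := img (R.subtype.comp σ.toMonoidHom) T with hQ
    have hTQ : F.IsConj T Q := isConj_img hσhom hTR
    set K := E.map (MulAut.conj (h : Ω)).toMonoidHom with hK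
    have hKc : Nat.card K = p ^ 3 := by
      rw [hK, Subgroup.card_map_of_injective (MulAut.conj (h : Ω)).injective, hEc]
    have hEK : F.IsConj E K := by
      obtain ⟨eh, heh, -⟩ := exists_iso (P := E) (Q := K) (F.conj_mem hES h.2) (by
        ext y
        constructor
        · rintro ⟨x, rfl⟩; exact ⟨x, x.2, rfl⟩
        · rintro ⟨x, hx, rfl⟩; exact ⟨⟨x, hx⟩, rfl⟩)
      exact heh.isConj
    have hKS : K ≤ S := isConj_le_right hEK
    have hKfin := finite_le hKS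
    have hQK : Q = K := by
      refine Subgroup.eq_of_le_of_card_ge ?_ (by rw [hKc, ← hTc, isConj_card hTQ])
      have hmemK : ∀ v : S, h⁻¹ * v * h ∈ E.subgroupOf S → (v : Ω) ∈ K := fun v hv =>
        ⟨_, hv, by simp [mul_assoc]⟩
      rintro _ ⟨y, ⟨v, hv, hvy⟩, rfl⟩
      obtain ⟨z', hz', i, rfl⟩ := hCdec v hv
      have hy : y = (⟨z', hNR (H.ZN hES hz')⟩ : R) * (⟨c, hNR H.cN⟩ : R) ^ i :=
        Subtype.ext hvy.symm
      have hmem : ι (σ y) ∈ (E.subgroupOf S).map (MulAut.conj h).toMonoidHom := by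
        have hzz : ι (σ ⟨z', hNR (H.ZN hES hz')⟩) ∈ Z :=
          hz2 σ _ (show ι ⟨z', hNR (H.ZN hES hz')⟩ ∈ Z from hz')
        rw [hy, map_mul, map_mul, map_pow, map_pow]
        refine Subgroup.mul_mem _ ⟨_, Subgroup.mem_subgroupOf.2 (H.ZE _ (H.hZn.conj_mem _ hzz h⁻¹)), ?_⟩
          (Subgroup.pow_mem _ ?_ i)
        · simp [mul_assoc]
        · rw [hzkj]
          exact ⟨_, hin, by simp [mul_assoc]⟩
      obtain ⟨x, hx, hxy⟩ := hmem
      exact ⟨x, hx, congrArg Subtype.val hxy⟩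
    have hET : F.IsConj E T := isConj_trans hEK (hQK ▸ isConj_symm hTQ)
    have hle := hE.2.1.2 T hET
    have hNT : normalizerIn S T = S := le_antisymm (normalizerIn_le T) fun s hs => by
      refine (mem_normalizerIn_iff (hTR.trans hRS) ⟨s, hs⟩).2 fun v hv => ?_
      obtain ⟨v', hv', hvv⟩ := hv
      obtain rfl : v' = v := Subtype.ext hvv
      exact ⟨_, hCn _ _ hv', rfl⟩
    rw [hNT, hcard, ← hRdef, hRc] at hle
    have := (Nat.pow_le_pow_iff_right hp'.one_lt).1 hle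
    omega
  have hRn : normalizerIn S R = S := by
    refine le_antisymm (normalizerIn_le R) fun s hs => ?_
    refine (mem_normalizerIn_iff hRS ⟨s, hs⟩).2 fun v hv => ?_
    exact Subgroup.mem_subgroupOf.2 (hNR (H.hNn.conj_mem v ((H.hN v).2 hv) _))
  have hcomap : ∀ X : Subgroup S, X ≤ N → Nat.card (X.comap ι) = Nat.card X := by
    intro X hX
    rw [← Subgroup.card_map_of_injective (Subgroup.inclusion_injective hRS), Subgroup.map_comap_eq,
      inf_of_le_right]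
    exact fun v hv => ⟨⟨v, hNR (hX hv)⟩, rfl⟩
  have hAN : Subgroup.zpowers a ≤ N := Subgroup.zpowers_le.2 (H.ZN hES H.aZ)
  have hc1 : Nat.card D₁ = p := by
    rw [hD₁, hcomap _ hAN, Nat.card_zpowers]
    refine orderOf_eq_prime H.a_p fun h => ?_
    have := H.a_pow 1 (by rw [zpow_one, h])
    exact hp'.one_lt.ne' (Nat.dvd_one.1 (by exact_mod_cast this))
  have hc2 : Nat.card D₂ = p ^ 2 := by rw [hD₂, hcomap _ fun z hz => H.ZN hES hz, H.cardZ]
  have hc3 : Nat.card D₃ = p ^ 3 := by rw [hD₃, hcomap _ hCN, hCc]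
  let Dc : ℕ → Subgroup R
    | 0 => ⊥
    | 1 => D₁
    | 2 => D₂
    | 3 => D₃
    | _ => ⊤
  obtain ⟨ψ₂, -, hψ₂v⟩ := extend_of_chain hS hF (fullyNormalized_of_normalizer_eq hRS hRn) 4 Dc rfl rfl
    (fun i hi => by
      interval_cases i
      · exact bot_le
      · exact Subgroup.comap_mono H.aZle
      · exact Subgroup.comap_mono le_sup_left
      · exact le_top)
    (fun i hi => by
      interval_cases i
      · show Nat.card D₁ = p * Nat.card (⊥ : Subgroup R)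
        rw [hc1, Subgroup.card_bot, mul_one]
      · show Nat.card D₂ = p * Nat.card D₁
        rw [hc1, hc2, pow_two]
      · show Nat.card D₃ = p * Nat.card D₂
        rw [hc2, hc3, ← pow_succ']
      · show Nat.card (⊤ : Subgroup R) = p * Nat.card D₃
        rw [Subgroup.card_top, hRc, hc3, ← pow_succ'])
    (fun i hi => by
      interval_cases i
      · intro σ _ x hx
        rw [show Dc 0 = ⊥ from rfl, Subgroup.mem_bot] at hx ⊢
        rw [hx, map_one]
      · exact fun σ _ => hz1 σ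
      · exact fun σ _ => hz2 σ
      · exact hz3
      · exact fun σ _ x _ => Subgroup.mem_top _)
    hψ
  let eS : normalizerIn S R ≃* S := MulEquiv.subgroupCongr hRn
  refine ⟨(eS.symm.trans ψ₂).trans eS, ?_⟩
  have hval : ∀ (v : S) (hvR : (v : Ω) ∈ R),
      ((((eS.symm.trans ψ₂).trans eS) v : S) : Ω) = ((ψ ⟨v, hvR⟩ : R) : Ω) := fun v hvR =>
    congrArg (fun y : normalizerIn S R => (y : Ω)) (hψ₂v ⟨v, hvR⟩)
  set τ := (eS.symm.trans ψ₂).trans eS
  have hvalι : ∀ (v : S) (hv : v ∈ N), τ v = ι (ψ ⟨v, hNR hv⟩) := fun v hv => Subtype.ext (hval v (hNR hv))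
  have hτE : ∀ x : E, ((τ ⟨x, hES x.2⟩ : S) : Ω) = (d x : Ω) := fun x => by
    rw [hval ⟨x, hES x.2⟩ (le_normalizerIn hES x.2)]
    exact hψe x _
  have hτZ : ∀ z ∈ Z, τ z ∈ Z := fun z hz => by
    rw [hvalι z (H.ZN hES hz)]
    exact hz2 ψ _ (show ι ⟨z, _⟩ ∈ Z from hz)
  refine ⟨?_, ?_, ?_, ?_, hτZ⟩
  · refine Subtype.ext ((hτE a').trans ?_)
    rw [hda, SubgroupClass.coe_zpow, SubgroupClass.coe_zpow]
  · obtain ⟨i, hi⟩ := hdfix ⟨w, H.ZE w H.wZ⟩ (Subtype.ext (by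
      show (c : Ω) * w * (c : Ω)⁻¹ = w
      have h := congrArg Subtype.val (H.cent w H.wZ c H.cN).eq
      push_cast at h
      rw [← h, mul_inv_cancel_right]))
    refine Subgroup.mem_zpowers_iff.2 ⟨i, Subtype.ext ?_⟩
    have h := congrArg Subtype.val hi
    push_cast at h ⊢
    rw [show ((τ w : S) : Ω) = (d ⟨w, H.ZE w H.wZ⟩ : Ω) from hτE ⟨w, H.ZE w H.wZ⟩]
    exact h.symm
  · rw [show ((τ e : S) : Ω) = (d ⟨e, H.heE⟩ : Ω) from hτE ⟨e, H.heE⟩]
    exact (d _).2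
  · have h1 : τ c ∈ C := by
      rw [hvalι c H.cN]
      exact hz3 ψ hψ _ (show ι ⟨c, _⟩ ∈ C from Subgroup.mem_sup_right (Subgroup.mem_zpowers c))
    obtain ⟨z, hz, i, hzi⟩ := hCdec _ (C.mul_mem h1 (C.inv_mem (C.zpow_mem
      (Subgroup.mem_sup_right (Subgroup.mem_zpowers c)) (t * t))))
    have hE' : ((τ c * (c ^ (t * t))⁻¹ : S) : Ω) ∈ E := by
      push_cast
      rw [hval c (hNR H.cN)]
      rw [show ((ψ ⟨c, hNR H.cN⟩ : R) : Ω) = (r₀ : Ω) * (c : Ω) ^ (t * t) from hψc, mul_inv_cancel_right]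
      exact r₀.2
    rw [hzi] at hE' ⊢
    push_cast at hE'
    have h2 : ((c ^ (i : ℤ) : S) : Ω) ∈ E := by
      push_cast
      rw [zpow_natCast]
      exact (E.mul_mem_cancel_left (H.ZE z hz)).1 hE'
    obtain ⟨q, hq⟩ := H.c_pow _ h2
    rw [← zpow_natCast, hq, zpow_mul, zpow_natCast]
    exact Z.mul_mem hz (Z.zpow_mem (H.c_p hES hcp) q)

end CfsgLib.Fusion.OrderFive
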