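import Cfsg.Agent.Lib.Fusion.OrderFive

/-!
# Order `p⁵`: no class modulo `S'` is fixed by all automorphisms in a residual-free system
-/

set_option autoImplicit false

namespace CfsgLib.Fusion.OrderFive

open Cfsg Cfsg.FusionSystem CfsgLib.Fusion CfsgLib.Fusion.TransvAut
open scoped commutatorElement

variable {Ω : Type*} [Group Ω] {S : Subgroup Ω} [Finite S] {F : FusionSystem S} {p : ℕ}
  [hp : Fact p.Prime]

/-- An element of `N_S(P)` acting trivially on `P` modulo a characteristic subgroup whose stabilizer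
is a `p`-group lies in the essential subgroup `P`. -/
theorem exists_moved (hS : IsPGroup p S) {P : Subgroup Ω} (hP : F.IsEssential p P) (D : Subgroup P)
    (hDinv : ∀ σ : MulAut P, ∀ x ∈ D, σ x ∈ D)
    (hDfix : ∀ σ : MulAut P, (∀ x, σ x * x⁻¹ ∈ D) → ∀ x ∈ D, σ x = x)
    (g : normalizerIn S P) (hg : (g : Ω) ∉ P) : ∃ x, conjAut g x * x⁻¹ ∉ D := by
  by_contra hc
  push Not at hc
  have hPS := hP.1.1
  have := finite_le hPS
  have := finite_mulAut_of_le (S := S) hPS
  let K : Subgroup (F.autGroup P) :=
    { carrier := {σ | ∀ x, (σ : MulAut P) x * x⁻¹ ∈ D}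
      one_mem' := fun x => by simp
      mul_mem' := fun {a b} ha hb x => by
        show (a : MulAut P) ((b : MulAut P) x) * x⁻¹ ∈ D
        have := D.mul_mem (ha ((b : MulAut P) x)) (hb x)
        simpa [mul_assoc] using this
      inv_mem' := fun {a} ha x => by
        show (a : MulAut P)⁻¹ x * x⁻¹ ∈ D
        have := D.inv_mem (ha ((a : MulAut P)⁻¹ x))
        simpa using this }
  have hKn : K.Normal := ⟨fun a ha b x => by
    show (b : MulAut P) ((a : MulAut P) ((b : MulAut P)⁻¹ x)) * x⁻¹ ∈ D
    have := hDinv (b : MulAut P) _ (ha ((b : MulAut P)⁻¹ x))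
    simpa using this⟩
  obtain ⟨d, hd⟩ := (hS.to_le hPS).exists_card_eq
  have hKp : IsPGroup p K := fun σ => ⟨d, by
    refine Subtype.ext (Subtype.ext (MulEquiv.ext fun x => ?_))
    have hσ : ∀ y, ((σ : F.autGroup P) : MulAut P) y * y⁻¹ ∈ D := σ.2
    have hm : x⁻¹ * ((σ : F.autGroup P) : MulAut P) x ∈ D := by
      have h := hσ x⁻¹
      rw [map_inv, inv_inv] at h
      have := D.inv_mem h
      simpa using this
    exact PGroups.Transvections.pow_fix (v := x⁻¹ * ((σ : F.autGroup P) : MulAut P) x)
      (by rw [mul_inv_cancel_left]) (hDfix _ hσ _ hm) (by rw [← hd]; exact pow_card_eq_one')⟩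
  exact hg (mem_of_conjAut_inn hP.1 g ((isRadical_iff_le hS hPS).1 (IsEssential.isRadical hS hP)
    (Core.le_pCore hKp
      (show (⟨conjAut g, autInducedBy_le_autGroup hPS (conjAut_mem g)⟩ : F.autGroup P) ∈ K from hc))))

/-- Facts on a nonabelian subgroup of order `p⁴` with a centre of order `p²`. -/
theorem card_commutator_of_center {H : Type*} [Group H] [Finite H] (hc : Nat.card H = p ^ 4)
    (hna : ¬ IsMulCommutative H) (hk : Nat.card (Subgroup.center H) = p ^ 2) :
    Nat.card (commutator H) = p ∧ commutator H ≤ Subgroup.center H ∧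
      ∀ x : H, x ^ p ∈ Subgroup.center H := by
  classical
  set Z := Subgroup.center H with hZ
  have hq : Nat.card (H ⧸ Z) = p ^ 2 := by
    have h := Z.card_eq_card_quotient_mul_card_subgroup
    rw [hc, hk, show p ^ 4 = p ^ 2 * p ^ 2 by rw [← pow_add]] at h
    exact (Nat.eq_of_mul_eq_mul_right (pow_pos hp.out.pos 2) h).symm
  have hqc := (IsPGroup.isMulCommutative_of_card_eq_prime_sq hq).is_comm.comm
  have hle : commutator H ≤ Z := by
    rw [commutator_def, Subgroup.commutator_le]
    intro a _ b _
    rw [← QuotientGroup.eq_one_iff, ← QuotientGroup.mk'_apply, map_commutatorElement,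
      commutatorElement_eq_one_iff_mul_comm]
    exact hqc _ _
  have hpow : ∀ x : H, x ^ p ∈ Z := by
    intro x
    rw [← QuotientGroup.eq_one_iff, QuotientGroup.mk_pow]
    by_contra hx
    obtain ⟨e, he, ho⟩ := (Nat.dvd_prime_pow hp.out).1 (hq ▸ orderOf_dvd_natCard (x : H ⧸ Z))
    interval_cases e
    · exact hx (orderOf_dvd_iff_pow_eq_one.1 (by rw [ho, pow_zero]; exact one_dvd _))
    · exact hx (orderOf_dvd_iff_pow_eq_one.1 (by rw [ho, pow_one]))
    · haveI : IsCyclic (H ⧸ Z) := isCyclic_of_orderOf_eq_card (x : H ⧸ Z) (by rw [ho, hq])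
      exact hna ⟨⟨commutative_of_cyclic_center_quotient (QuotientGroup.mk' Z)
        (by rw [QuotientGroup.ker_mk'])⟩⟩
  refine ⟨?_, hle, hpow⟩
  obtain ⟨a, ha⟩ : ∃ a, a ∉ Z := by
    by_contra h
    push Not at h
    exact hna ⟨⟨fun a b => (Subgroup.mem_center_iff.1 (h a) b).symm⟩⟩
  set A := Z ⊔ Subgroup.zpowers a with hA
  obtain ⟨hAc, hAdec⟩ := card_sup_zpowers_of_pow_mem (Z := Z) (x := a)
    (fun c hc' => (Subgroup.mem_center_iff.1 hc' a).symm) (hpow a) ha
  obtain ⟨b, hb⟩ : ∃ b, b ∉ A := by
    by_contra h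
    push Not at h
    have : Nat.card A = p ^ 4 := by rw [(Subgroup.eq_top_iff' A).2 h, Subgroup.card_top, hc]
    rw [hAc, hk, ← pow_succ'] at this
    have := Nat.pow_right_injective hp.out.two_le this
    omega
  have hgen : Subgroup.closure ({a, b} ∪ (Z : Set H)) = ⊤ := by
    set T := Subgroup.closure ({a, b} ∪ (Z : Set H)) with hT
    have hAT : A ≤ T := sup_le (fun z hz => Subgroup.subset_closure (Or.inr hz))
      (Subgroup.zpowers_le.2 (Subgroup.subset_closure (Or.inl (Or.inl rfl))))
    obtain ⟨k, hk4, hkc⟩ := (Nat.dvd_prime_pow hp.out).1 (hc ▸ Subgroup.card_subgroup_dvd_card T)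
    have hlt : Nat.card A < Nat.card T := lt_of_le_of_ne (Subgroup.card_le_of_le hAT) fun e =>
      hb (Subgroup.eq_of_le_of_card_ge hAT e.ge ▸ Subgroup.subset_closure (Or.inl (Or.inr rfl)))
    rw [hAc, hk, ← pow_succ', hkc] at hlt
    have := (Nat.pow_lt_pow_iff_right hp.out.one_lt).1 hlt
    exact Subgroup.eq_top_of_card_eq _ (by rw [hkc, hc, show k = 4 by omega])
  have hcc : ⁅a, b⁆ ∈ Z := hle (Subgroup.commutator_mem_commutator (Subgroup.mem_top _) (Subgroup.mem_top _))
  have hcp : ⁅a, b⁆ ^ p = 1 := by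
    have h1 : b * a * b⁻¹ = ⁅a, b⁆⁻¹ * a := by rw [commutatorElement_def]; group
    have h2 : b * a ^ p * b⁻¹ = a ^ p := by
      rw [Subgroup.mem_center_iff.1 (hpow a) b, mul_inv_cancel_right]
    rw [← conj_pow, h1, (show Commute ⁅a, b⁆⁻¹ a from
      (Subgroup.mem_center_iff.1 (inv_mem hcc) a).symm).mul_pow, mul_eq_right, inv_pow, inv_eq_one] at h2
    exact h2
  have hcomm : commutator H ≤ Subgroup.zpowers ⁅a, b⁆ := by
    rw [commutator_def]
    refine SmallEssential.comm_le_of_gens (s := {a, b} ∪ (Z : Set H)) (fun x _ => Subgroup.mem_top x)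
      (fun x _ => hgen ▸ Subgroup.mem_top x) (fun t _ x hx => ?_) ?_
    · rw [Subgroup.mem_center_iff.1 ((Subgroup.zpowers_le.2 hcc) hx) t, mul_inv_cancel_right]
      exact hx
    · intro x hx y hy
      have hz : ∀ w v : H, w ∈ Z → ⁅w, v⁆ = 1 ∧ ⁅v, w⁆ = 1 := fun w v hw =>
        ⟨commutatorElement_eq_one_iff_mul_comm.2 (Subgroup.mem_center_iff.1 hw v).symm,
          commutatorElement_eq_one_iff_mul_comm.2 (Subgroup.mem_center_iff.1 hw v)⟩
      rcases hx with hx | hx
      · rcases hy with hy | hy
        · rcases hx with rfl | rfl <;> rcases hy with rfl | rfl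
          · rw [commutatorElement_self]; exact one_mem _
          · exact Subgroup.mem_zpowers _
          · have h := inv_mem (Subgroup.mem_zpowers ⁅y, x⁆)
            rwa [commutatorElement_inv] at h
          · rw [commutatorElement_self]; exact one_mem _
        · rw [(hz y x hy).2]; exact one_mem _
      · rw [(hz x y hx).1]; exact one_mem _
  have hle2 : Nat.card (commutator H) ≤ p := (Subgroup.card_le_of_le hcomm).trans (by
    rw [Nat.card_zpowers]; exact Nat.le_of_dvd hp.out.pos (orderOf_dvd_of_pow_eq_one hcp))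
  obtain ⟨k, -, hkc⟩ := (Nat.dvd_prime_pow hp.out).1 (hc ▸ Subgroup.card_subgroup_dvd_card (commutator H))
  rcases eq_or_ne k 0 with rfl | hk0
  · rw [pow_zero] at hkc
    refine absurd ⟨⟨fun x y => commutatorElement_eq_one_iff_mul_comm.1 ?_⟩⟩ hna
    rw [← Subgroup.mem_bot, ← Subgroup.eq_bot_of_card_eq _ hkc]
    exact Subgroup.commutator_mem_commutator (Subgroup.mem_top x) (Subgroup.mem_top y)
  · rw [hkc] at hle2 ⊢
    nth_rw 2 [← pow_one p] at hle2
    rw [show k = 1 by have := (Nat.pow_le_pow_iff_right hp.out.one_lt).1 hle2; omega, pow_one]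

/-- An automorphism trivial modulo a central subgroup fixes the commutators. -/
theorem fix_commutator {P : Subgroup Ω} (σ : MulAut P) (D : Subgroup P) (hD : D ≤ Subgroup.center P)
    (hσ : ∀ x, σ x * x⁻¹ ∈ D) : ∀ x ∈ commutator P, σ x = x := by
  intro x hx
  rw [commutator_eq_closure] at hx
  induction hx using Subgroup.closure_induction with
  | mem y hy =>
    obtain ⟨a, b, rfl⟩ := hy
    have hu := fun w => Subgroup.mem_center_iff.1 (hD (hσ a)) w
    have hv := fun w => Subgroup.mem_center_iff.1 (hD (hσ b)) w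
    rw [map_commutatorElement, show σ a = σ a * a⁻¹ * a by rw [inv_mul_cancel_right],
      show σ b = σ b * b⁻¹ * b by rw [inv_mul_cancel_right]]
    generalize σ a * a⁻¹ = u at hu
    generalize σ b * b⁻¹ = v at hv
    rw [commutatorElement_def, commutatorElement_def]
    calc u * a * (v * b) * (u * a)⁻¹ * (v * b)⁻¹
        = u * (a * v) * b * a⁻¹ * u⁻¹ * b⁻¹ * v⁻¹ := by group
      _ = u * v * (a * b * a⁻¹) * u⁻¹ * b⁻¹ * v⁻¹ := by rw [hv a]; group
      _ = (v * (a * b * a⁻¹)) * u * u⁻¹ * b⁻¹ * v⁻¹ := by rw [hu (v * (a * b * a⁻¹))]; group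
      _ = v * (a * b * a⁻¹ * b⁻¹) * v⁻¹ := by group
      _ = _ := by rw [← hv (a * b * a⁻¹ * b⁻¹), mul_inv_cancel_right]
  | one => exact map_one σ
  | mul y z _ _ hy hz => rw [map_mul, hy, hz]
  | inv y _ hy => rw [map_inv, hy]

set_option maxHeartbeats 1000000 in
/-- No class modulo `S'` outside it is fixed by `Aut_F(S)`. -/
theorem no_fixed_class (hS : IsPGroup p S) (hF : F.IsSaturated p) (hhyp : F.hyperfocalSubgroup p = S)
    (hp2 : p ≠ 2) (hcard : Nat.card S = p ^ 5)
    (hno : ¬ ∃ A : Subgroup Ω, A ≤ S ∧ IsMulCommutative A ∧ (A.subgroupOf S).index = p)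
    (hd : Nat.card (commutator S) = p ^ 2 ∨ (Nat.card (commutator S) = p ^ 3 ∧
      ∀ Z : Subgroup S, Z.Normal → Nat.card Z = p ^ 2 → Z ≤ commutator S))
    {u : S} (hu : u ∉ commutator S) (hfix : ∀ τ ∈ F.autGroup S, τ u * u⁻¹ ∈ commutator S) : False := by
  classical
  have hp' := hp.out
  obtain ⟨θ, hθu, hθS⟩ := exists_invariant_hom hS hF hu hfix
  have hA : ∀ y : Abelianization S, y * y = 1 → y = 1 := fun y hy => by
    obtain ⟨y, rfl⟩ := QuotientGroup.mk'_surjective (commutator S) y
    have hd1 := orderOf_dvd_of_pow_eq_one (show (QuotientGroup.mk' (commutator S) y) ^ 2 = 1 by rwa [pow_two])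
    obtain ⟨k, hk⟩ := hS y
    have hd2 := orderOf_dvd_of_pow_eq_one
      (show (QuotientGroup.mk' (commutator S) y) ^ p ^ k = 1 by rw [← map_pow, hk, map_one])
    exact orderOf_eq_one_iff.1 (Nat.eq_one_of_dvd_coprimes
      (((Nat.coprime_primes hp' Nat.prime_two).2 hp2).pow_left k) hd2 hd1)
  have hd' : ⁅S, S⁆ ≤ (θ.ker).map S.subtype := by
    rw [← Subgroup.map_subtype_commutator]
    exact Subgroup.map_mono (Abelianization.commutator_subset_ker θ)
  have hK : ∀ {x y : Ω} (hx : x ∈ S) (hy : y ∈ S), θ ⟨x, hx⟩ = θ ⟨y, hy⟩ ↔ x⁻¹ * y ∈ θ.ker.map S.subtype := by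
    intro x y hx hy
    constructor
    · intro h
      exact ⟨(⟨x, hx⟩ : S)⁻¹ * ⟨y, hy⟩, by
        rw [SetLike.mem_coe, MonoidHom.mem_ker, map_mul, map_inv, h, inv_mul_cancel], rfl⟩
    · rintro ⟨s, hs, hsv⟩
      have hsv' : s = (⟨x, hx⟩ : S)⁻¹ * ⟨y, hy⟩ := Subtype.ext hsv
      rw [SetLike.mem_coe, MonoidHom.mem_ker, hsv', map_mul, map_inv, inv_mul_eq_one] at hs
      exact hs
  have hauto : ∀ {P : Subgroup Ω} (hPS : P ≤ S) {α : MulAut P}, α ∈ F.autGroup P →
      α ∈ presHom θ hPS → α ∈ (cosetSystem F _ hd').autGroup P := fun {P} hPS {α} hα h =>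
    (mem_autGroup_iff hPS).2 ⟨(mem_autGroup_iff hPS).1 hα, fun x =>
      (hK (hPS x.2) (hPS (α x).2)).1 (h x).symm⟩
  have hle : F ≤ cosetSystem F (θ.ker.map S.subtype) hd' := by
    refine alperin_gen hS hF _ (fun α hα => hauto le_rfl hα (hθS hα)) fun P hPlt hP hupQ => ?_
    have hPS := hP.1.1
    have := finite_le hPS
    have := finite_mulAut_of_le (S := S) hPS
    have hext : extGroup F P ≤ presHom θ hPS := by
      refine (Subgroup.closure_le _).2 ?_
      rintro β ⟨Q, hPQ, ψ, hψ, hψβ⟩ x
      have := finite_le (hom_le hψ)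
      have hcl : Nat.card P < Nat.card Q :=
        lt_of_le_of_ne (Subgroup.card_le_of_le hPQ.le) fun e =>
          hPQ.ne (Subgroup.eq_of_le_of_card_ge hPQ.le e.ge)
      have h1 := (hupQ Q hcl hψ).2 (Subgroup.inclusion hPQ.le x)
      rw [hψβ x] at h1
      exact ((hK (hPS x.2) (hPS (β x).2)).2 h1).symm
    refine le_sup_of_le_left fun α hα => hauto hPS hα ?_
    suffices h : F.autGroup P ≤ presHom θ hPS from h hα
    obtain ⟨g, hg, hgP⟩ := exists_mem_normalizerIn_not_mem hS hPlt
    set gN : normalizerIn S P := ⟨g, hg⟩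
    obtain ⟨k, hk5, hk⟩ := (Nat.dvd_prime_pow hp').1 (hcard ▸ Subgroup.card_dvd_of_le hPS)
    have hk5' : k ≠ 5 := fun e => hPlt.ne (Subgroup.eq_of_le_of_card_ge hPS (by rw [hcard, hk, e]))
    have hC : centralizerIn S P ≤ P := hP.1.2 P (isConj_refl hPS)
    have hθD : ∀ D : Subgroup P, (∀ x ∈ D, (Subgroup.inclusion hPS x : S) ∈ commutator S) →
        ∀ x ∈ D, θ (Subgroup.inclusion hPS x) = 1 := fun D hD x hx =>
      MonoidHom.mem_ker.1 (Abelianization.commutator_subset_ker θ (hD x hx))
    have hDcomm : ∀ x ∈ commutator P, (Subgroup.inclusion hPS x : S) ∈ commutator S := fun x hx => by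
      have h := Subgroup.mem_map_of_mem (Subgroup.inclusion hPS) hx
      rw [commutator_def, Subgroup.map_commutator] at h
      rw [commutator_def]
      exact Subgroup.commutator_mono le_top le_top h
    have hbot : ∀ (σ : MulAut P), ∀ x ∈ (⊥ : Subgroup P), σ x ∈ (⊥ : Subgroup P) := fun σ x hx => by
      rw [Subgroup.mem_bot] at hx ⊢; rw [hx, map_one]
    have hbotne : IsElementaryAbelian p P → ∃ x, conjAut gN x * x⁻¹ ∉ (⊥ : Subgroup P) := fun _ => by
      by_contra h
      push Not at h
      refine hgP (hC (mem_centralizerIn.2 ⟨hg.1, fun x hx => ?_⟩))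
      have h1 := congrArg Subtype.val (mul_inv_eq_one.1 (Subgroup.mem_bot.1 (h ⟨x, hx⟩)))
      exact (mul_inv_eq_iff_eq_mul.1 (h1 : g * x * g⁻¹ = x)).symm
    rcases (show k = 0 ∨ k = 1 ∨ k = 2 ∨ k = 3 ∨ k = 4 by omega) with rfl | rfl | rfl | rfl | rfl
    · rw [pow_zero] at hk
      haveI : Subsingleton P := (Nat.card_eq_one_iff_unique.1 hk).1
      exact absurd isCyclic_of_subsingleton (essential_not_cyclic hS hF hP)
    · exact absurd (isCyclic_of_prime_card (by rw [hk, pow_one])) (essential_not_cyclic hS hF hP)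
    · -- order `p²`
      have hel : IsElementaryAbelian p P := ⟨IsPGroup.isMulCommutative_of_card_eq_prime_sq hk, fun x hx => by
        obtain ⟨e, he, ho⟩ := (Nat.dvd_prime_pow hp').1 (hk ▸ orderOf_dvd_natCard (⟨x, hx⟩ : P))
        rcases (show e ≤ 1 ∨ e = 2 by omega) with h | h
        · exact congrArg Subtype.val (orderOf_dvd_iff_pow_eq_one.1
            (ho ▸ (pow_dvd_pow p h).trans (by rw [pow_one])) : (⟨x, hx⟩ : P) ^ p = 1)
        · exact absurd (isCyclic_of_orderOf_eq_card (⟨x, hx⟩ : P) (by rw [ho, h, hk]))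
            (essential_not_cyclic hS hF hP)⟩
      refine coset_of_quotient hS hF hA θ hP hext ⊥ hbot (fun x y => ?_) (fun x => ?_)
        (fun x hx => by rw [Subgroup.mem_bot.1 hx, map_one, map_one]) gN (hbotne hel) (Or.inl ?_)
      · rw [Subgroup.mem_bot, mul_inv_eq_one]; exact hel.1.is_comm.comm x y
      · exact Subtype.ext (hel.2 _ x.2)
      · rw [← hk]; exact Nat.card_congr QuotientGroup.quotientBot.toEquiv
    · -- order `p³`
      by_cases hab : IsMulCommutative P
      · have hel := essential_cube_elementary hS hF hP hk hab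
        obtain ⟨y, hy, hyP, a₀, ha₀, hya, hyc⟩ := exists_transvection_five hS hcard hPS hk hel hC
        obtain ⟨a, e, w, hB⟩ := SmallEssential.exists_base hS hF hP hk hel hC hy hyP ha₀ hya hyc
        have hN : Nat.card (normalizerIn S P) = p * Nat.card P := by rw [hB.card, hk, ← pow_succ']
        refine coset_of_quotient hS hF hA θ hP hext ⊥ hbot (fun x y => ?_) (fun x => ?_)
          (fun x hx => by rw [Subgroup.mem_bot.1 hx, map_one, map_one]) ⟨y, hy⟩ ?_ (Or.inr ⟨?_, ?_⟩)
        · rw [Subgroup.mem_bot, mul_inv_eq_one]; exact hel.1.is_comm.comm x y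
        · exact Subtype.ext (hel.2 _ x.2)
        · by_contra h
          push Not at h
          refine hyP (hC (mem_centralizerIn.2 ⟨hy.1, fun x hx => ?_⟩))
          have h1 := congrArg Subtype.val (mul_inv_eq_one.1 (Subgroup.mem_bot.1 (h ⟨x, hx⟩)))
          exact (mul_inv_eq_iff_eq_mul.1 (h1 : y * x * y⁻¹ = x)).symm
        · refine ⟨⟨a₀, ha₀⟩, fun x => ?_⟩
          obtain ⟨i, hi⟩ := Subgroup.mem_zpowers_iff.1 (hyc x x.2)
          refine ⟨i, Subgroup.mem_bot.2 (mul_inv_eq_one.2 (Subtype.ext ?_))⟩
          rw [Subgroup.coe_zpow, hi, commutatorElement_def]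
          rfl
        · intro g'
          obtain ⟨i, hi⟩ := SmallEssential.exists_pow_mul hPS hN (g := (⟨y, hy⟩ : normalizerIn S P)) hyP g'
          refine ⟨(i : ℤ), fun x => Subgroup.mem_bot.2 (mul_inv_eq_one.2 ?_)⟩
          set m : normalizerIn S P := ((⟨y, hy⟩ : normalizerIn S P) ^ i)⁻¹ * g' with hm
          have hm1 : conjAut m = 1 := MulEquiv.ext fun z => Subtype.ext (by
            rw [conjAut_apply, MulAut.one_apply,
              congrArg Subtype.val (hel.1.is_comm.comm (⟨m, hi⟩ : P) z) |> fun e => (show (m : Ω) * z = z * m from e),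
              mul_inv_cancel_right])
          have hg' : g' = (⟨y, hy⟩ : normalizerIn S P) ^ i * m := by rw [hm, mul_inv_cancel_left]
          rw [hg', ← conjHomAut_eq, map_mul, map_pow, conjHomAut_eq, conjHomAut_eq, hm1, mul_one, zpow_natCast]
      · haveI := hab
        obtain ⟨j, hj0, hj⟩ := IsPGroup.card_center_eq_prime_pow hk (by norm_num)
        have hquot := PGroups.sq_le_index_center (IsPGroup.of_card hk) hab
        have hj1 : j = 1 := by
          have h := Nat.mul_le_mul_left (Nat.card (Subgroup.center P)) hquot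
          rw [(Subgroup.center P).card_mul_index, hk, hj, ← pow_add] at h
          have := (Nat.pow_le_pow_iff_right hp'.one_lt).1 h
          omega
        subst hj1
        set D := Subgroup.center P
        have hqc : Nat.card (P ⧸ D) = p ^ 2 := by
          have h := D.card_eq_card_quotient_mul_card_subgroup
          rw [hk, hj, pow_succ p 2, pow_one] at h
          exact (Nat.eq_of_mul_eq_mul_right hp'.pos h).symm
        have hDcom : commutator P = D := by
          have hle1 : commutator P ≤ D := by
            rw [commutator_def, Subgroup.commutator_le]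
            intro x _ y _
            rw [← QuotientGroup.eq_one_iff, ← QuotientGroup.mk'_apply, map_commutatorElement,
              commutatorElement_eq_one_iff_mul_comm]
            exact (IsPGroup.isMulCommutative_of_card_eq_prime_sq hqc).is_comm.comm _ _
          rcases (Nat.dvd_prime hp').1 ((pow_one p).subst (motive := fun t => Nat.card (commutator P) ∣ t)
            (hj ▸ Subgroup.card_dvd_of_le hle1)) with h1 | h1
          · refine absurd ⟨⟨fun x y => commutatorElement_eq_one_iff_mul_comm.1 ?_⟩⟩ hab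
            rw [← Subgroup.mem_bot, ← Subgroup.eq_bot_of_card_eq _ h1]
            exact Subgroup.commutator_mem_commutator (Subgroup.mem_top x) (Subgroup.mem_top y)
          · exact Subgroup.eq_of_le_of_card_ge hle1 (by rw [h1, hj, pow_one])
        have hDinv : ∀ σ : MulAut P, ∀ x ∈ D, σ x ∈ D := PGroups.OrderFourth.inv_center
        refine coset_of_quotient hS hF hA θ hP hext D hDinv (fun x y => ?_) (fun x => ?_)
          (hθD D (fun x hx => hDcomm x (hDcom ▸ hx))) gN (exists_moved hS hP D hDinv (fun σ hσ => ?_) gN hgP)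
          (Or.inl hqc)
        · rw [← hDcom, mul_inv_rev, ← mul_assoc]
          exact Subgroup.commutator_mem_commutator (Subgroup.mem_top x) (Subgroup.mem_top y)
        · rw [← QuotientGroup.eq_one_iff, QuotientGroup.mk_pow]
          by_contra hx
          obtain ⟨e, he, ho⟩ := (Nat.dvd_prime_pow hp').1 (hqc ▸ orderOf_dvd_natCard (x : P ⧸ D))
          rcases (show e ≤ 1 ∨ e = 2 by omega) with h | h
          · exact hx (orderOf_dvd_iff_pow_eq_one.1 (ho ▸ (pow_dvd_pow p h).trans (by rw [pow_one])))
          · haveI : IsCyclic (P ⧸ D) := isCyclic_of_orderOf_eq_card (x : P ⧸ D) (by rw [ho, h, hqc])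
            exact hab ⟨⟨commutative_of_cyclic_center_quotient (QuotientGroup.mk' D)
              (by rw [QuotientGroup.ker_mk'])⟩⟩
        · rw [← hDcom]
          exact fix_commutator σ D le_rfl hσ
    · -- order `p⁴`
      have hna : ¬ IsMulCommutative P := fun h => hno ⟨P, hPS, h, by
        have := Subgroup.card_mul_index (P.subgroupOf S)
        rw [Nat.card_congr (Subgroup.subgroupOfEquivOfLe hPS).toEquiv, hk, hcard, pow_succ p 4] at this
        exact Nat.eq_of_mul_eq_mul_left (pow_pos hp'.pos 4) this⟩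
      have hz2 : Nat.card (Subgroup.center P) = p ^ 2 := by
        obtain ⟨j, hj0, hj⟩ := IsPGroup.card_center_eq_prime_pow hk (by norm_num)
        have h := Nat.mul_le_mul_left (Nat.card (Subgroup.center P))
          (PGroups.sq_le_index_center (IsPGroup.of_card hk) hna)
        rw [(Subgroup.center P).card_mul_index, hk, hj, ← pow_add] at h
        have := (Nat.pow_le_pow_iff_right hp'.one_lt).1 h
        rcases (show j = 1 ∨ j = 2 by omega) with rfl | rfl
        · exact absurd (PGroups.OrderFourth.flag_of_center_prime hk hna (by rw [hj, pow_one]))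
            (essential_no_flag_four hS hF hP hk)
        · exact hj
      obtain ⟨hc1, hcle, hcpow⟩ := card_commutator_of_center hk hna hz2
      have hPn : (P.subgroupOf S).Normal := Subgroup.normal_of_index_eq_minFac_card (by
        have := Subgroup.card_mul_index (P.subgroupOf S)
        rw [Nat.card_congr (Subgroup.subgroupOfEquivOfLe hPS).toEquiv, hk, hcard, pow_succ p 4] at this
        rw [Nat.eq_of_mul_eq_mul_left (pow_pos hp'.pos 4) this, hcard, Nat.Prime.pow_minFac hp']
        norm_num)
      have hNS : normalizerIn S P = S := le_antisymm (normalizerIn_le P) fun s hs => ⟨hs, by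
        show s ∈ Subgroup.normalizer (P : Set Ω)
        rw [Subgroup.mem_normalizer_iff]
        exact fun x => ⟨fun hx => hPn.conj_mem (⟨x, hPS hx⟩ : S) hx ⟨s, hs⟩, fun hx => by
          have h := hPn.conj_mem (⟨s * x * s⁻¹, hPS hx⟩ : S) hx (⟨s, hs⟩ : S)⁻¹
          rw [Subgroup.mem_subgroupOf] at h
          simpa [mul_assoc] using h⟩⟩
      have hN : Nat.card (normalizerIn S P) = p * Nat.card P := by rw [hNS, hcard, hk, ← pow_succ']
      have hcx : ∀ (n : normalizerIn S P) (x : P), (Subgroup.inclusion hPS (conjAut n x * x⁻¹) : S) ∈ commutator S :=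
        fun n x => by
          rw [show (Subgroup.inclusion hPS (conjAut n x * x⁻¹) : S) =
            ⁅(⟨n, n.2.1⟩ : S), ⟨x, hPS x.2⟩⁆ from Subtype.ext (by simp [commutatorElement_def])]
          exact Subgroup.commutator_mem_commutator (Subgroup.mem_top _) (Subgroup.mem_top _)
      rcases hd with hd2 | ⟨hd3, hdZ⟩
      · -- `P / P'`
        set D := commutator P with hD
        have hDinv : ∀ σ : MulAut P, ∀ x ∈ D, σ x ∈ D := fun σ x hx =>
          Subgroup.characteristic_iff_le_comap.1 inferInstance σ hx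
        have hexp : ∀ x : P, x ^ p ∈ D := by
          rcases essential_fourth hS hF hP hk with h | ⟨⟨e⟩⟩ | ⟨-, ⟨e⟩⟩ | ⟨-, X, _, _, hX, -, hXp, ⟨e⟩⟩ |
            ⟨h, -⟩ | ⟨-, hexp2, hcyc, -⟩
          · exact absurd h.1 hna
          · exact absurd ⟨⟨fun x y => e.injective (by rw [map_mul, map_mul, mul_comm])⟩⟩ hna
          · exact absurd ⟨⟨fun x y => e.injective (by rw [map_mul, map_mul, mul_comm])⟩⟩ hna
          · intro x
            have : x ^ p = 1 := e.injective (by
              rw [map_pow, map_one]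
              refine Prod.ext (hXp _) ?_
              show (e x).2 ^ p = 1
              apply Multiplicative.toAdd.injective
              rw [toAdd_pow, toAdd_one, nsmul_eq_mul, CharP.cast_eq_zero, zero_mul])
            rw [this]; exact one_mem _
          · exact absurd h hp2
          · intro x
            have h1 : (x ^ p) ^ p = 1 := by
              rw [← pow_mul, ← pow_two]; exact Subtype.ext (hexp2 _ x.2)
            haveI := hcyc
            obtain ⟨c, hc⟩ : ∃ c ∈ D, c ≠ 1 := by
              by_contra h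
              push Not at h
              exact hp'.one_lt.ne (by rw [← hc1, (Subgroup.eq_bot_iff_forall D).2 h, Subgroup.card_bot])
            -- both lie in the subgroup of order `p` of the cyclic centre
            set Z := Subgroup.center P
            let K : Subgroup Z :=
              { carrier := {z | z ^ p = 1}
                one_mem' := one_pow p
                mul_mem' := fun {a b} (ha : a ^ p = 1) (hb : b ^ p = 1) => by
                  show (a * b) ^ p = 1
                  rw [(show Commute a b from Subtype.ext (Subgroup.mem_center_iff.1 b.2 (a : P))).mul_pow,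
                    ha, hb, one_mul]
                inv_mem' := fun {a} (ha : a ^ p = 1) => by
                  show (a⁻¹) ^ p = 1
                  rw [inv_pow, ha, inv_one] }
            have hKc : Nat.card K ≤ p := by
              haveI : Fintype Z := Fintype.ofFinite Z
              calc Nat.card K = (Finset.univ.filter fun z : Z => z ^ p = 1).card := by
                    rw [Nat.card_eq_fintype_card, Fintype.card_subtype]
                    congr 1
                    exact Finset.ext fun z => by simp [K]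
                _ ≤ p := IsCyclic.card_pow_eq_one_le hp'.pos
            have hDK : D.subgroupOf Z ≤ K := fun z hz => Subtype.ext (by
              have := congrArg Subtype.val (pow_card_eq_one' (x := (⟨(z : P), hz⟩ : D)))
              rw [hc1] at this
              simpa using this)
            have heq : D.subgroupOf Z = K := Subgroup.eq_of_le_of_card_ge hDK (by
              rw [Nat.card_congr (Subgroup.subgroupOfEquivOfLe hcle).toEquiv, hc1]; exact hKc)
            exact heq.ge (show (⟨x ^ p, hcpow x⟩ : Z) ∈ K from Subtype.ext h1)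
        obtain ⟨x₀, hx₀⟩ := exists_moved hS hP D hDinv (fun σ hσ => fix_commutator σ D hcle hσ) gN hgP
        refine coset_of_quotient hS hF hA θ hP hext D hDinv (fun x y => ?_) hexp
          (hθD D hDcomm) gN ⟨x₀, hx₀⟩ (Or.inr ⟨?_, ?_⟩)
        · rw [mul_inv_rev, ← mul_assoc]
          exact Subgroup.commutator_mem_commutator (Subgroup.mem_top x) (Subgroup.mem_top y)
        · set a₀ := conjAut gN x₀ * x₀⁻¹ with ha₀
          refine ⟨a₀, fun x => ?_⟩
          set S' := (commutator S).comap (Subgroup.inclusion hPS) with hS'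
          set W := D ⊔ Subgroup.zpowers a₀ with hW
          have hDS' : D ≤ S' := fun d hd => hDcomm d hd
          have hWS' : W ≤ S' := sup_le hDS' (Subgroup.zpowers_le.2 (hcx gN x₀))
          have hS'c : Nat.card S' ≤ p ^ 2 := by
            rw [← hd2, ← Subgroup.card_map_of_injective (Subgroup.inclusion_injective hPS)]
            exact Subgroup.card_le_of_le (Subgroup.map_comap_le _ _)
          have hWc : p ^ 2 ≤ Nat.card W := by
            obtain ⟨e, -, he⟩ := (Nat.dvd_prime_pow hp').1 (hk ▸ Subgroup.card_subgroup_dvd_card W)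
            have hlt : Nat.card D < Nat.card W :=
              lt_of_le_of_ne (Subgroup.card_le_of_le le_sup_left) fun h => hx₀ (by
                rw [Subgroup.eq_of_le_of_card_ge (le_sup_left : D ≤ W) h.ge]
                exact Subgroup.mem_sup_right (Subgroup.mem_zpowers _))
            rw [hc1, he] at hlt
            rw [he]
            exact Nat.pow_le_pow_right hp'.pos ((Nat.pow_lt_pow_iff_right hp'.one_lt).1 (by rwa [pow_one]))
          have heq : W = S' := Subgroup.eq_of_le_of_card_ge hWS' (hS'c.trans hWc)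
          haveI : D.Normal := inferInstance
          obtain ⟨d, hd, v, hv, hdv⟩ := Subgroup.mem_sup_of_normal_left.1
            (heq.ge (show conjAut gN x * x⁻¹ ∈ S' from hcx gN x))
          obtain ⟨i, rfl⟩ := Subgroup.mem_zpowers_iff.1 hv
          refine ⟨i, ?_⟩
          rw [← hdv, mul_inv_cancel_right]
          exact hd
        · intro g'
          obtain ⟨i, hi⟩ := SmallEssential.exists_pow_mul hPS hN (g := gN) hgP g'
          refine ⟨(i : ℤ), fun x => ?_⟩
          set m : normalizerIn S P := (gN ^ i)⁻¹ * g' with hm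
          have hg' : g' = gN ^ i * m := by rw [hm, mul_inv_cancel_left]
          have h1 : conjAut m x * x⁻¹ ∈ D := by
            rw [show conjAut m x * x⁻¹ = ⁅(⟨m, hi⟩ : P), x⁆ from Subtype.ext (by simp [commutatorElement_def])]
            exact Subgroup.commutator_mem_commutator (Subgroup.mem_top _) (Subgroup.mem_top _)
          rw [hg', ← conjHomAut_eq, map_mul, map_pow, conjHomAut_eq, conjHomAut_eq, zpow_natCast,
            MulAut.mul_apply, ← map_inv, ← map_mul]
          exact hDinv _ _ h1
      · -- `P / Z(P)`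
        set D := Subgroup.center P with hD
        have hDinv : ∀ σ : MulAut P, ∀ x ∈ D, σ x ∈ D := PGroups.OrderFourth.inv_center
        set Z' := D.map (Subgroup.inclusion hPS) with hZ'
        haveI hZn : Z'.Normal := ⟨fun z hz s => by
          obtain ⟨d, hd, rfl⟩ := hz
          refine ⟨conjAut (⟨s, hNS.ge s.2⟩ : normalizerIn S P) d, hDinv _ _ hd, Subtype.ext ?_⟩
          simp⟩
        have hZc : Nat.card Z' = p ^ 2 := by
          rw [hZ', Subgroup.card_map_of_injective (Subgroup.inclusion_injective hPS), hz2]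
        have hDS : ∀ x ∈ D, (Subgroup.inclusion hPS x : S) ∈ commutator S := fun x hx =>
          hdZ Z' hZn hZc ⟨x, hx, rfl⟩
        have hqc : Nat.card (P ⧸ D) = p ^ 2 := by
          have h := D.card_eq_card_quotient_mul_card_subgroup
          rw [hk, hz2, show p ^ 4 = p ^ 2 * p ^ 2 by rw [← pow_add]] at h
          exact (Nat.eq_of_mul_eq_mul_right (pow_pos hp'.pos 2) h).symm
        have hab : ∀ x y : P, x * y * (y * x)⁻¹ ∈ D := fun x y => by
          rw [mul_inv_rev, ← mul_assoc]
          exact hcle (Subgroup.commutator_mem_commutator (Subgroup.mem_top x) (Subgroup.mem_top y))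
        refine coset_of_quotient hS hF hA θ hP hext D hDinv hab hcpow (hθD D hDS) gN ?_ (Or.inl hqc)
        by_contra hc
        push Not at hc
        -- then `S / Z(P)` is abelian
        have hcomm : commutator S ≤ Z' := by
          rw [commutator_def]
          refine SmallEssential.comm_le_of_gens (s := insert (⟨g, hg.1⟩ : S) (P.subgroupOf S : Set S))
            (fun x _ => Subgroup.mem_top x) (fun x _ => ?_) (fun t _ x hx => hZn.conj_mem x hx t) ?_
          · obtain ⟨i, hi⟩ := SmallEssential.exists_pow_mul hPS hN (g := gN) hgP ⟨x, hNS.ge x.2⟩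
            rw [show x = (⟨g, hg.1⟩ : S) ^ i * ((⟨g, hg.1⟩ : S) ^ i)⁻¹ * x by rw [mul_inv_cancel, one_mul],
              mul_assoc]
            exact Subgroup.mul_mem _ (Subgroup.pow_mem _ (Subgroup.subset_closure (Set.mem_insert _ _)) i)
              (Subgroup.subset_closure (Set.mem_insert_of_mem _ hi))
          · have hgx : ∀ y : S, y ∈ P.subgroupOf S → ⁅(⟨g, hg.1⟩ : S), y⁆ ∈ Z' := fun y hy =>
              ⟨_, hc ⟨y, hy⟩, Subtype.ext (by simp [commutatorElement_def, gN])⟩
            rintro a (rfl | ha) b (rfl | hb)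
            · rw [commutatorElement_self]; exact one_mem _
            · exact hgx b hb
            · rw [← commutatorElement_inv]; exact inv_mem (hgx a ha)
            · exact ⟨_, hab ⟨a, ha⟩ ⟨b, hb⟩, Subtype.ext (by simp [commutatorElement_def, mul_assoc])⟩
        have := Subgroup.card_le_of_le hcomm
        rw [hd3, hZc] at this
        have := (Nat.pow_le_pow_iff_right hp'.one_lt).1 this
        omega
  have hfoc : F.focalSubgroup ≤ θ.ker.map S.subtype := by
    rw [FusionSystem.focalSubgroup, Subgroup.closure_le]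
    rintro _ ⟨P, φ, x, hφ, rfl⟩
    exact (hle P hφ).2 x
  have hSK : S ≤ θ.ker.map S.subtype := by
    refine le_trans ?_ hfoc
    rw [focal_eq_hyperfocal_sup hS hF, hhyp]
    exact le_sup_left
  obtain ⟨s, hs, hsu⟩ := hSK u.2
  exact hθu (by rw [← Subtype.ext hsu]; exact MonoidHom.mem_ker.1 hs)

end CfsgLib.Fusion.OrderFive
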