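import Cfsg.Agent.Lib.Fusion.OrderFivePearlTorus
import Cfsg.Agent.Lib.Fusion.OrderFiveCubeFalse
import Cfsg.Agent.Lib.Fusion.CenterIndexSquareOdd

/-!
# Core-free residual-free systems over groups of order `p⁵` have an abelian maximal subgroup
-/

set_option autoImplicit false

namespace CfsgLib.Fusion.OrderFive

open Cfsg Cfsg.FusionSystem CfsgLib.Fusion CfsgLib.Fusion.TransvAut CfsgLib.Fusion.MaxClassFive
open CfsgLib.ClassSizes.MaxClass CfsgLib.PGroups.MaxClassRank
open scoped commutatorElement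

variable {Ω : Type*} [Group Ω] {S : Subgroup Ω} [Finite S] {F : FusionSystem S} {p : ℕ}
  [hp : Fact p.Prime]

local notation "L" => Subgroup.lowerCentralSeries (⊤ : Subgroup S)

/-- A group of order `p³` has class at most two. -/
theorem comm_central_of_cube {Q : Type*} [Group Q] [Finite Q] (hQ : Nat.card Q = p ^ 3) (a b : Q) :
    ⁅a, b⁆ ∈ Subgroup.center Q := by
  by_cases hab : IsMulCommutative Q
  · rw [commutatorElement_eq_one_iff_mul_comm.2 (hab.is_comm.comm a b)]
    exact one_mem _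
  obtain ⟨j, hj0, hj⟩ := IsPGroup.card_center_eq_prime_pow hQ (by norm_num)
  have h := Nat.mul_le_mul_left (Nat.card (Subgroup.center Q))
    (PGroups.sq_le_index_center (IsPGroup.of_card hQ) hab)
  rw [(Subgroup.center Q).card_mul_index, hQ, hj, ← pow_add] at h
  have := (Nat.pow_le_pow_iff_right hp.out.one_lt).1 h
  have hj1 : j = 1 := by omega
  subst hj1
  have hq : Nat.card (Q ⧸ Subgroup.center Q) = p ^ 2 := by
    have h := (Subgroup.center Q).card_eq_card_quotient_mul_card_subgroup
    rw [hQ, hj, pow_succ p 2, pow_one] at h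
    exact (Nat.eq_of_mul_eq_mul_right hp.out.pos h).symm
  rw [← QuotientGroup.eq_one_iff, ← QuotientGroup.mk'_apply, map_commutatorElement,
    commutatorElement_eq_one_iff_mul_comm]
  exact (IsPGroup.isMulCommutative_of_card_eq_prime_sq hq).is_comm.comm _ _

/-- In maximal class of order `p⁵` normal subgroups of order `p²` lie in the derived subgroup. -/
theorem normal_sq_le_commutator (D : Data S p 5) (Z₀ : Subgroup S) [Z₀.Normal]
    (hZ : Nat.card Z₀ = p ^ 2) : Z₀ ≤ commutator S := by
  have hq : Nat.card (S ⧸ Z₀) = p ^ 3 := by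
    have h := Z₀.card_eq_card_quotient_mul_card_subgroup
    rw [D.hcard, hZ, show p ^ 5 = p ^ 3 * p ^ 2 by rw [← pow_add]] at h
    exact (Nat.eq_of_mul_eq_mul_right (pow_pos hp.out.pos 2) h).symm
  have hle : L 2 ≤ Z₀ := by
    rw [show (2 : ℕ) = 1 + 1 from rfl, Subgroup.lowerCentralSeries_succ _ 1, Subgroup.commutator_le]
    intro u hu v _
    rw [← QuotientGroup.eq_one_iff, ← QuotientGroup.mk'_apply, map_commutatorElement,
      commutatorElement_eq_one_iff_mul_comm]
    have hu' : QuotientGroup.mk' Z₀ u ∈ Subgroup.center (S ⧸ Z₀) := by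
      have hL1 : L 1 ≤ (Subgroup.center (S ⧸ Z₀)).comap (QuotientGroup.mk' Z₀) := by
        rw [Subgroup.top_lowerCentralSeries_one, commutator_def, Subgroup.commutator_le]
        intro a _ b _
        rw [Subgroup.mem_comap, map_commutatorElement]
        exact comm_central_of_cube hq _ _
      exact hL1 hu
    exact (Subgroup.mem_center_iff.1 hu' _).symm
  have heq : L 2 = Z₀ := Subgroup.eq_of_le_of_card_ge hle (by rw [hZ, L_card D (by omega) (by omega)])
  rw [← heq]
  refine (Subgroup.lowerCentralSeries_antitone _ (show 1 ≤ 2 by omega)).trans ?_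
  rw [Subgroup.top_lowerCentralSeries_one]

set_option maxHeartbeats 800000 in
/-- The main statement. -/
theorem exists_abelian_index (hS : IsPGroup p S) (hF : F.IsSaturated p) (hp2 : p ≠ 2) (hp7 : p ≠ 7)
    (hcard : Nat.card S = p ^ 5) (hcore : F.core = ⊥) (hhyp : F.hyperfocalSubgroup p = S) :
    ∃ A : Subgroup Ω, A ≤ S ∧ IsMulCommutative A ∧ (A.subgroupOf S).index = p := by
  classical
  by_contra hno
  have hp' := hp.out
  have hout : ∀ A : Subgroup S, A.index = p → (∀ a ∈ A, ∀ b ∈ A, a * b = b * a) → False := by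
    intro A hA hab
    refine hno ⟨A.map S.subtype, ?_, ⟨⟨fun u v => Subtype.ext ?_⟩⟩, ?_⟩
    · rintro _ ⟨x, -, rfl⟩; exact x.2
    · obtain ⟨x, hx, hxu⟩ := u.2
      obtain ⟨y, hy, hyv⟩ := v.2
      show (u : Ω) * (v : Ω) = (v : Ω) * (u : Ω)
      rw [← hxu, ← hyv, ← map_mul, ← map_mul]
      exact congrArg S.subtype (hab x hx y hy)
    · rw [Subgroup.subgroupOf, Subgroup.comap_map_eq_self_of_injective S.subtype_injective, hA]
  haveI : Nontrivial S := Finite.one_lt_card_iff_nontrivial.1
    (hcard ▸ Nat.one_lt_pow (by norm_num) hp'.one_lt)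
  haveI := hS.center_nontrivial
  obtain ⟨⟨z₀, hz₀⟩, hz₀1⟩ := exists_ne (1 : Subgroup.center S)
  -- the centre is not normal in `F`
  have hnot : ¬ ∀ P : Subgroup Ω, (P = S ∨ F.IsEssential p P) → centerOf S ≤ P ∧
      ∀ α ∈ F.autGroup P, ((centerOf S).subgroupOf P).map α.toMonoidHom = (centerOf S).subgroupOf P := by
    intro h
    have hle := le_core (isNormal_of_invariant hS hF h) ((mem_centerOf_iff z₀).2 hz₀)
    rw [hcore, Subgroup.mem_bot] at hle
    exact hz₀1 (Subtype.ext (Subtype.ext hle))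
  refine hnot fun P hP => ?_
  -- `Z(S)` inside `P`
  have hkey : ∀ (hPS : P ≤ S) (hle : centerOf S ≤ P) (X : Subgroup P),
      (∀ σ : MulAut P, ∀ x ∈ X, σ x ∈ X) → (centerOf S).subgroupOf P = X →
      centerOf S ≤ P ∧ ∀ α ∈ F.autGroup P,
        ((centerOf S).subgroupOf P).map α.toMonoidHom = (centerOf S).subgroupOf P := by
    intro hPS hle X hX heq
    refine ⟨hle, fun α _ => map_subgroupOf_eq hPS ?_⟩
    rw [heq]
    rintro _ ⟨x, hx, rfl⟩
    exact hX α x hx
  rcases hP with rfl | hP
  · refine hkey le_rfl (centerOf_le P) (Subgroup.center P) PGroups.OrderFourth.inv_center ?_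
    ext x
    exact mem_centerOf_iff x
  have hPS := hP.1.1
  have := finite_le hPS
  have hC : centralizerIn S P ≤ P := hP.1.2 P (isConj_refl hPS)
  have hZcomm : ∀ {x : Ω}, x ∈ centerOf S → ∀ y ∈ S, y * x = x * y := fun {x} hx y hy =>
    congrArg Subtype.val (Subgroup.mem_center_iff.1 ((mem_centerOf_iff ⟨x, centerOf_le S hx⟩).1 hx) ⟨y, hy⟩)
  have hZP : centerOf S ≤ P := fun x hx =>
    hC (mem_centralizerIn.2 ⟨centerOf_le S hx, fun y hy => hZcomm hx y (hPS hy)⟩)
  set Z' := (centerOf S).subgroupOf P with hZ'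
  have hZ'le : Z' ≤ Subgroup.center P := fun x hx =>
    Subgroup.mem_center_iff.2 fun y => Subtype.ext (hZcomm hx y (hPS y.2))
  have hZ'c : Nat.card Z' = Nat.card (Subgroup.center S) := by
    rw [hZ', Nat.card_congr (Subgroup.subgroupOfEquivOfLe hZP).toEquiv,
      ← Nat.card_congr (Subgroup.subgroupOfEquivOfLe (centerOf_le S)).toEquiv]
    refine congrArg (fun X : Subgroup S => Nat.card X) ?_
    ext x
    exact mem_centerOf_iff x
  have hZ'1 : Nat.card Z' ≠ 1 := by
    rw [hZ'c]
    exact (Finite.one_lt_card (α := Subgroup.center S)).ne'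
  obtain ⟨k, hk5, hk⟩ := (Nat.dvd_prime_pow hp').1 (hcard ▸ Subgroup.card_dvd_of_le hPS)
  have hk5' : k ≠ 5 := fun e =>
    isEssential_ne_self hS hF hP (Subgroup.eq_of_le_of_card_ge hPS (by rw [hcard, hk, e]))
  rcases (show k = 0 ∨ k = 1 ∨ k = 2 ∨ k = 3 ∨ k = 4 by omega) with rfl | rfl | rfl | rfl | rfl
  · rw [pow_zero] at hk
    haveI : Subsingleton P := (Nat.card_eq_one_iff_unique.1 hk).1
    exact absurd isCyclic_of_subsingleton (essential_not_cyclic hS hF hP)
  · exact absurd (isCyclic_of_prime_card (by rw [hk, pow_one])) (essential_not_cyclic hS hF hP)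
  · -- a pearl
    exfalso
    have hel : IsElementaryAbelian p P := ⟨IsPGroup.isMulCommutative_of_card_eq_prime_sq hk, fun x hx => by
      obtain ⟨e, he, ho⟩ := (Nat.dvd_prime_pow hp').1 (hk ▸ orderOf_dvd_natCard (⟨x, hx⟩ : P))
      rcases (show e ≤ 1 ∨ e = 2 by omega) with h | h
      · exact congrArg Subtype.val (orderOf_dvd_iff_pow_eq_one.1
          (ho ▸ (pow_dvd_pow p h).trans (by rw [pow_one])) : (⟨x, hx⟩ : P) ^ p = 1)
      · exact absurd (isCyclic_of_orderOf_eq_card (⟨x, hx⟩ : P) (by rw [ho, h, hk]))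
          (essential_not_cyclic hS hF hP)⟩
    by_cases h3 : p = 3
    · obtain ⟨D, hgens⟩ := exists_gens hS hcard (lcs_three_ne_bot hS hcard hPS hk hC)
      obtain ⟨x, hx⟩ : ∃ x : S, x ∉ twoStep (S := S) 1 := by
        by_contra hc
        push Not at hc
        exact D.twoStep_ne_top (j := 1) (by omega) ((Subgroup.eq_top_iff' _).2 hc)
      obtain ⟨s₁, H⟩ := hgens x hx
      by_cases h1 : ⁅s₁, ⁅s₁, x⁆⁆ = 1
      · exact hout _ H.idx (H.abelian h1)
      · have hL1 : L 1 = commutator S := by rw [Subgroup.top_lowerCentralSeries_one]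
        refine no_fixed_class hS hF hhyp hp2 hcard hno (Or.inr ⟨?_, fun Z₀ hn hZ₀ => ?_⟩)
          (u := s₁) (hL1 ▸ H.hs₁') fun τ _ => Gens_fix_three H h3 h1 τ
        · rw [← hL1, L_card D le_rfl (by omega)]
        · haveI := hn
          exact normal_sq_le_commutator D Z₀ hZ₀
    · obtain ⟨A, hA, hab⟩ := pearl_abelian hS hF h3 hp7 hp2 hcard hP hk hel
      exact hout A hA hab
  · -- order `p³`
    by_cases hab : IsMulCommutative P
    · exact (cube_false hS hF hhyp hp2 hcard hno hP hk (essential_cube_elementary hS hF hP hk hab)).elim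
    obtain ⟨j, hj0, hj⟩ := IsPGroup.card_center_eq_prime_pow hk (by norm_num)
    have h := Nat.mul_le_mul_left (Nat.card (Subgroup.center P))
      (PGroups.sq_le_index_center (IsPGroup.of_card hk) hab)
    rw [(Subgroup.center P).card_mul_index, hk, hj, ← pow_add] at h
    have := (Nat.pow_le_pow_iff_right hp'.one_lt).1 h
    refine hkey hPS hZP (Subgroup.center P) PGroups.OrderFourth.inv_center
      (Subgroup.eq_of_le_of_card_ge hZ'le ?_)
    obtain ⟨i, hi, hiZ⟩ := (Nat.dvd_prime_pow hp').1 (hj ▸ Subgroup.card_dvd_of_le hZ'le)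
    rw [hj, hiZ]
    have : i ≠ 0 := fun h0 => hZ'1 (by rw [hiZ, h0, pow_zero])
    exact Nat.pow_le_pow_right hp'.pos (by omega)
  · -- order `p⁴`
    have hidx : (P.subgroupOf S).index = p := by
      have := Subgroup.card_mul_index (P.subgroupOf S)
      rw [Nat.card_congr (Subgroup.subgroupOfEquivOfLe hPS).toEquiv, hk, hcard, pow_succ p 4] at this
      exact Nat.eq_of_mul_eq_mul_left (pow_pos hp'.pos 4) this
    have hna : ¬ IsMulCommutative P := fun h => hno ⟨P, hPS, h, hidx⟩
    obtain ⟨j, hj0, hj⟩ := IsPGroup.card_center_eq_prime_pow hk (by norm_num)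
    have h := Nat.mul_le_mul_left (Nat.card (Subgroup.center P))
      (PGroups.sq_le_index_center (IsPGroup.of_card hk) hna)
    rw [(Subgroup.center P).card_mul_index, hk, hj, ← pow_add] at h
    have := (Nat.pow_le_pow_iff_right hp'.one_lt).1 h
    obtain ⟨i, hi, hiZ⟩ := (Nat.dvd_prime_pow hp').1 (hj ▸ Subgroup.card_dvd_of_le hZ'le)
    have hi0 : i ≠ 0 := fun h0 => hZ'1 (by rw [hiZ, h0, pow_zero])
    by_cases hij : i = j
    · exact hkey hPS hZP (Subgroup.center P) PGroups.OrderFourth.inv_center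
        (Subgroup.eq_of_le_of_card_ge hZ'le (by rw [hj, hiZ, hij]))
    obtain ⟨rfl, rfl⟩ : i = 1 ∧ j = 2 := by omega
    obtain ⟨hc1, -, -⟩ := card_commutator_of_center hk hna hj
    refine hkey hPS hZP (commutator P)
      (fun σ x hx => Subgroup.characteristic_iff_le_comap.1 inferInstance σ hx) ?_
    haveI hPn : (P.subgroupOf S).Normal := Subgroup.normal_of_index_eq_minFac_card (by
      rw [hidx, hcard, Nat.Prime.pow_minFac hp']
      norm_num)
    set K := ⁅P.subgroupOf S, P.subgroupOf S⁆ with hK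
    haveI : K.Normal := by rw [hK]; infer_instance
    have hKmap : K.map S.subtype = (commutator P).map P.subtype := by
      rw [hK, Subgroup.map_commutator, Subgroup.map_subgroupOf_eq_of_le hPS, Subgroup.map_subtype_commutator]
    have hKc : Nat.card K = p := by
      rw [← Subgroup.card_map_of_injective S.subtype_injective, hKmap,
        Subgroup.card_map_of_injective P.subtype_injective, hc1]
    have hKne : K ≠ ⊥ := fun h => by
      rw [h, Subgroup.card_bot] at hKc
      exact hp'.one_lt.ne hKc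
    have hKC : K ≤ Subgroup.center S := by
      obtain ⟨⟨v, hvK, hvC⟩, hv1⟩ :=
        Subgroup.ne_bot_iff_exists_ne_one.1 (PGroups.inf_center_ne_bot hS hKne)
      have hvK' : Subgroup.zpowers v = K := by
        refine Subgroup.eq_of_le_of_card_ge (Subgroup.zpowers_le.2 hvK) ?_
        rw [hKc, Nat.card_zpowers]
        have h1 := congrArg Subtype.val (pow_card_eq_one' (x := (⟨v, hvK⟩ : K)))
        rw [hKc] at h1
        rw [orderOf_eq_prime (h1 : v ^ p = 1) fun e => hv1 (Subtype.ext e)]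
      exact hvK' ▸ Subgroup.zpowers_le.2 hvC
    refine (Subgroup.eq_of_le_of_card_ge (fun x hx => ?_) (by rw [hc1, hiZ, pow_one])).symm
    have h1 : (x : Ω) ∈ K.map S.subtype := by rw [hKmap]; exact ⟨x, hx, rfl⟩
    obtain ⟨v, hv, hvx⟩ := h1
    show (x : Ω) ∈ centerOf S
    rw [← hvx]
    exact (mem_centerOf_iff v).2 (hKC hv)

end CfsgLib.Fusion.OrderFive
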