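import Cfsg.Agent.Lib.Fusion.OrderFive
import Cfsg.Agent.Lib.Fusion.MaxClassFive

/-!
# Order `p⁵`: pearls force maximal class and, for `p ≠ 3, 7`, an abelian maximal subgroup
-/

set_option autoImplicit false

namespace CfsgLib.Fusion.OrderFive

open Cfsg Cfsg.FusionSystem CfsgLib.Fusion CfsgLib.Fusion.TransvAut CfsgLib.Fusion.MaxClassFive
open CfsgLib.ClassSizes.MaxClass CfsgLib.PGroups.MaxClassRank
open scoped commutatorElement

variable {Ω : Type*} [Group Ω] {S : Subgroup Ω} [Finite S] {F : FusionSystem S} {p : ℕ}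
  [hp : Fact p.Prime]

local notation "L" => Subgroup.lowerCentralSeries (⊤ : Subgroup S)

theorem zmod_three_weight : ∀ a b c : ZMod 3, ¬a = 0 → ¬b * c = 0 → a * (b * c) * (b - c ^ 2) = 0 →
    b - 1 = 0 := by decide

/-- A self-centralizing subgroup of order `p²` forces maximal class. -/
theorem lcs_three_ne_bot (hS : IsPGroup p S) (hcard : Nat.card S = p ^ 5) {E : Subgroup Ω} (hES : E ≤ S)
    (hE : Nat.card E = p ^ 2) (hC : centralizerIn S E ≤ E) :
    Subgroup.lowerCentralSeries S (5 - 2) ≠ ⊥ := by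
  classical
  have hp' := hp.out
  set E' := E.subgroupOf S with hE'
  have hE'c : Nat.card E' = p ^ 2 := by
    rw [Nat.card_congr (Subgroup.subgroupOfEquivOfLe hES).toEquiv, hE]
  have hcen : ∀ {g : S}, (∀ e ∈ E', e * g = g * e) → g ∈ E' := fun {g} hg =>
    hC (mem_centralizerIn.2 ⟨g.2, fun e he => congrArg Subtype.val (hg ⟨e, hES he⟩ he)⟩)
  have hZE : Subgroup.center S ≤ E' := fun c hc => hcen fun e _ => Subgroup.mem_center_iff.1 hc e
  have hEne : E' ≠ ⊤ := fun h => by
    rw [h, Subgroup.card_top, hcard] at hE'c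
    have := Nat.pow_right_injective hp'.two_le hE'c
    omega
  haveI : Nontrivial S := Finite.one_lt_card_iff_nontrivial.1
    (hcard ▸ Nat.one_lt_pow (by norm_num) hp'.one_lt)
  have hZc : Nat.card (Subgroup.center S) = p := by
    obtain ⟨k, hk2, hk⟩ := (Nat.dvd_prime_pow hp').1 (hE'c ▸ Subgroup.card_dvd_of_le hZE)
    rcases (show k = 0 ∨ k = 1 ∨ k = 2 by omega) with rfl | rfl | rfl
    · haveI := hS.center_nontrivial
      have := (Finite.one_lt_card (α := Subgroup.center S))
      rw [hk, pow_zero] at this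
      omega
    · rw [hk, pow_one]
    · refine absurd ((Subgroup.eq_top_iff' _).2 fun g => hcen fun e he => ?_) hEne
      have : e ∈ Subgroup.center S := (Subgroup.eq_of_le_of_card_ge hZE (by rw [hk, hE'c])).ge he
      exact (Subgroup.mem_center_iff.1 this g).symm
  obtain ⟨x, hxE, hxZ⟩ : ∃ x ∈ E', x ∉ Subgroup.center S := by
    by_contra h
    push Not at h
    have := Subgroup.card_le_of_le (fun y hy => h y hy : E' ≤ Subgroup.center S)
    rw [hE'c, hZc] at this
    exact absurd this (not_le.2 (lt_self_pow₀ hp'.one_lt (by norm_num)))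
  have hEc := (IsPGroup.isMulCommutative_of_card_eq_prime_sq hE'c).is_comm.comm
  -- `E = ⟨x, Z⟩`
  have hgenE : Subgroup.zpowers x ⊔ Subgroup.center S = E' := by
    refine Subgroup.eq_of_le_of_card_ge (sup_le (Subgroup.zpowers_le.2 hxE) hZE) ?_
    obtain ⟨k, -, hk⟩ := (Nat.dvd_prime_pow hp').1
      (hcard ▸ Subgroup.card_subgroup_dvd_card (Subgroup.zpowers x ⊔ Subgroup.center S))
    have hlt : Nat.card (Subgroup.center S) <
        Nat.card (Subgroup.zpowers x ⊔ Subgroup.center S : Subgroup S) :=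
      lt_of_le_of_ne (Subgroup.card_le_of_le le_sup_right) fun h => hxZ (by
        rw [Subgroup.eq_of_le_of_card_ge (le_sup_right : Subgroup.center S ≤
          Subgroup.zpowers x ⊔ Subgroup.center S) h.ge]
        exact Subgroup.mem_sup_left (Subgroup.mem_zpowers x))
    rw [hZc, hk] at hlt
    rw [hE'c, hk]
    exact Nat.pow_le_pow_right hp'.pos ((Nat.pow_lt_pow_iff_right hp'.one_lt).1 (by rwa [pow_one]))
  have hCx : Subgroup.centralizer {x} ≤ E' := fun g hg => hcen fun e he => by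
    have hle : E' ≤ Subgroup.centralizer {g} := hgenE ▸ sup_le
      (Subgroup.zpowers_le.2 (Subgroup.mem_centralizer_singleton_iff.2
        (Subgroup.mem_centralizer_singleton_iff.1 hg).symm))
      (fun c hc => Subgroup.mem_centralizer_singleton_iff.2 (Subgroup.mem_center_iff.1 hc g).symm)
    exact Subgroup.mem_centralizer_singleton_iff.1 (hle he)
  -- the class of `x`
  have hS' : p ^ 3 ≤ Nat.card (commutator S) := by
    let f : S ⧸ Subgroup.centralizer {x} → commutator S := fun q =>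
      ⟨⁅q.out, x⁆, Subgroup.commutator_mem_commutator (Subgroup.mem_top _) (Subgroup.mem_top _)⟩
    have hf : Function.Injective f := fun a b hab => by
      have h : ⁅a.out, x⁆ = ⁅b.out, x⁆ := congrArg Subtype.val hab
      rw [commutatorElement_def, commutatorElement_def, mul_left_inj] at h
      rw [← a.out_eq, ← b.out_eq]
      refine QuotientGroup.eq.2 (Subgroup.mem_centralizer_singleton_iff.2 ?_)
      calc a.out⁻¹ * b.out * x = a.out⁻¹ * (b.out * x * b.out⁻¹) * b.out := by group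
        _ = a.out⁻¹ * (a.out * x * a.out⁻¹) * b.out := by rw [h]
        _ = x * (a.out⁻¹ * b.out) := by group
    have h1 := Nat.card_le_card_of_injective f hf
    have h2 := (Subgroup.centralizer {x}).card_eq_card_quotient_mul_card_subgroup
    rw [hcard] at h2
    have h3 : p ^ 3 * p ^ 2 ≤ Nat.card (commutator S) * p ^ 2 := by
      rw [← pow_add]
      exact h2.le.trans (Nat.mul_le_mul h1 ((Subgroup.card_le_of_le hCx).trans hE'c.le))
    exact Nat.le_of_mul_le_mul_right h3 (pow_pos hp'.pos 2)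
  intro hbot
  have h3 : L 3 = ⊥ := by
    rw [← map_lcs_subtype S 3, Subgroup.map_eq_bot_iff_of_injective _ S.subtype_injective] at hbot
    exact hbot
  haveI := hS.isNilpotent
  set L1 := commutator S with hL1
  set L2 := L 2 with hL2
  have hL1e : L 1 = L1 := by rw [Subgroup.top_lowerCentralSeries_one]
  have hL2c : Nat.card L2 ≤ p := by
    refine (Subgroup.card_le_of_le (fun l hl => Subgroup.mem_center_iff.2 fun g => ?_)).trans hZc.le
    have : ⁅l, g⁆ ∈ L 3 := by
      rw [Subgroup.lowerCentralSeries_succ _ 2]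
      exact Subgroup.commutator_mem_commutator hl (Subgroup.mem_top g)
    rw [h3, Subgroup.mem_bot, commutatorElement_eq_one_iff_mul_comm] at this
    exact this.symm
  have hcyc : ¬ IsCyclic (S ⧸ L1) := fun hcy => by
    obtain ⟨q, hq⟩ := hcy
    obtain ⟨a, rfl⟩ := QuotientGroup.mk'_surjective L1 q
    have htop : Subgroup.zpowers a = ⊤ := by
      refine frattini_nongenerating ((Subgroup.eq_top_iff' _).2 fun g => ?_)
      obtain ⟨i, hi⟩ := Subgroup.mem_zpowers_iff.1 (hq (QuotientGroup.mk' L1 g))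
      rw [show g = a ^ i * ((a ^ i)⁻¹ * g) by rw [mul_inv_cancel_left]]
      refine Subgroup.mul_mem_sup (Subgroup.zpow_mem _ (Subgroup.mem_zpowers a) i)
        (PGroups.commutator_le_frattini' hS ?_)
      rw [← hL1, ← QuotientGroup.eq_one_iff, ← QuotientGroup.mk'_apply, map_mul, map_inv, map_zpow, hi,
        inv_mul_cancel]
    have hcomm : ∀ g h : S, g * h = h * g := fun g h => by
      obtain ⟨i, rfl⟩ := Subgroup.mem_zpowers_iff.1 (htop.ge (Subgroup.mem_top g))
      obtain ⟨j, rfl⟩ := Subgroup.mem_zpowers_iff.1 (htop.ge (Subgroup.mem_top h))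
      rw [← zpow_add, add_comm, zpow_add]
    exact hxZ (Subgroup.mem_center_iff.2 fun g => hcomm g x)
  -- `S / S'` has order `p²` and exponent `p`
  obtain ⟨k, hk5, hk⟩ := (Nat.dvd_prime_pow hp').1 (hcard ▸ Subgroup.card_subgroup_dvd_card L1)
  have hk3 : 3 ≤ k := (Nat.pow_le_pow_iff_right hp'.one_lt).1 (hk ▸ hS')
  have hq : Nat.card (S ⧸ L1) = p ^ (5 - k) := by
    have h := L1.card_eq_card_quotient_mul_card_subgroup
    rw [hcard, hk, show p ^ 5 = p ^ (5 - k) * p ^ k by rw [← pow_add, Nat.sub_add_cancel hk5]] at h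
    exact (Nat.eq_of_mul_eq_mul_right (pow_pos hp'.pos k) h).symm
  obtain rfl : k = 3 := by
    by_contra h
    refine hcyc ?_
    rcases (show k = 4 ∨ k = 5 by omega) with rfl | rfl
    · exact isCyclic_of_prime_card (p := p) (by rw [hq]; norm_num)
    · haveI : Subsingleton (S ⧸ L1) := (Nat.card_eq_one_iff_unique.1 (by rw [hq]; norm_num)).1
      exact isCyclic_of_subsingleton
  rw [show 5 - 3 = 2 from rfl] at hq
  have hexp : ∀ g : S, g ^ p ∈ L1 := fun g => by
    rw [← QuotientGroup.eq_one_iff, QuotientGroup.mk_pow]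
    by_contra hx
    obtain ⟨e, he, ho⟩ := (Nat.dvd_prime_pow hp').1 (hq ▸ orderOf_dvd_natCard (g : S ⧸ L1))
    rcases (show e ≤ 1 ∨ e = 2 by omega) with h | h
    · exact hx (orderOf_dvd_iff_pow_eq_one.1 (ho ▸ (pow_dvd_pow p h).trans (by rw [pow_one])))
    · exact hcyc (isCyclic_of_orderOf_eq_card (g : S ⧸ L1) (by rw [ho, h, hq]))
  obtain ⟨a, ha⟩ : ∃ a, a ∉ L1 := by
    by_contra h
    push Not at h
    rw [(Subgroup.eq_top_iff' L1).2 h, Subgroup.card_top, hcard] at hk
    have := Nat.pow_right_injective hp'.two_le hk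
    omega
  set Ma := L1 ⊔ Subgroup.zpowers a with hMa
  haveI : L1.Normal := by rw [hL1]; infer_instance
  have hMac : Nat.card Ma ≤ p ^ 4 := by
    haveI := Fintype.ofFinite S
    let f : L1 × Fin p → S := fun q => (q.1 : S) * a ^ (q.2 : ℕ)
    have hsub : (Ma : Set S) ⊆ Set.range f := fun g hg => by
      obtain ⟨l, hl, y, hy, rfl⟩ := Subgroup.mem_sup_of_normal_left.1 hg
      obtain ⟨i, hi⟩ := (isOfFinOrder_of_finite a).mem_powers_iff_mem_zpowers.2 hy
      simp only at hi
      refine ⟨(⟨l * (a ^ p) ^ (i / p), L1.mul_mem hl (L1.pow_mem (hexp a) _)⟩,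
        ⟨i % p, Nat.mod_lt _ hp'.pos⟩), ?_⟩
      show l * (a ^ p) ^ (i / p) * a ^ (i % p) = l * y
      rw [mul_assoc, ← pow_mul, ← pow_add, Nat.div_add_mod, hi]
    refine (Nat.card_mono (Set.finite_range f) hsub).trans ((Finite.card_range_le f).trans ?_)
    rw [Nat.card_prod, hk, Nat.card_fin, ← pow_succ]
  obtain ⟨b, hb⟩ : ∃ b, b ∉ Ma := by
    by_contra h
    push Not at h
    rw [(Subgroup.eq_top_iff' Ma).2 h, Subgroup.card_top, hcard] at hMac
    have := (Nat.pow_le_pow_iff_right hp'.one_lt).1 hMac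
    omega
  have hgen : ∀ g : S, g ∈ Subgroup.closure (insert a (insert b (L1 : Set S))) := by
    intro g
    set T := Subgroup.closure (insert a (insert b (L1 : Set S))) with hT
    have hle : Ma ≤ T := sup_le (fun l hl => Subgroup.subset_closure
      (Set.mem_insert_of_mem _ (Set.mem_insert_of_mem _ hl)))
      (Subgroup.zpowers_le.2 (Subgroup.subset_closure (Set.mem_insert _ _)))
    have h1 : Nat.card L1 < Nat.card Ma := lt_of_le_of_ne (Subgroup.card_le_of_le le_sup_left) fun h =>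
      ha (by rw [Subgroup.eq_of_le_of_card_ge (le_sup_left : L1 ≤ Ma) h.ge]
             exact Subgroup.mem_sup_right (Subgroup.mem_zpowers a))
    have h2 : Nat.card Ma < Nat.card T := lt_of_le_of_ne (Subgroup.card_le_of_le hle) fun h =>
      hb (by rw [Subgroup.eq_of_le_of_card_ge hle h.ge]
             exact Subgroup.subset_closure (Set.mem_insert_of_mem _ (Set.mem_insert _ _)))
    obtain ⟨e₁, -, he₁⟩ := (Nat.dvd_prime_pow hp').1 (hcard ▸ Subgroup.card_subgroup_dvd_card Ma)
    obtain ⟨e₂, he₂', he₂⟩ := (Nat.dvd_prime_pow hp').1 (hcard ▸ Subgroup.card_subgroup_dvd_card T)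
    rw [hk, he₁] at h1
    rw [he₁, he₂] at h2
    have := (Nat.pow_lt_pow_iff_right hp'.one_lt).1 h1
    have := (Nat.pow_lt_pow_iff_right hp'.one_lt).1 h2
    rw [Subgroup.eq_top_of_card_eq T (by rw [he₂, hcard, show e₂ = 5 by omega])]
    trivial
  set c := ⁅a, b⁆ with hc
  have hr : ∀ l ∈ L1, ∀ g : S, ⁅l, g⁆ ∈ L2 := fun l hl g => by
    rw [hL2, Subgroup.lowerCentralSeries_succ _ 1, hL1e]
    exact Subgroup.commutator_mem_commutator hl (Subgroup.mem_top g)
  have hcL1 : c ∈ L1 := Subgroup.commutator_mem_commutator (Subgroup.mem_top _) (Subgroup.mem_top _)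
  set q₂ := QuotientGroup.mk' L2 with hq₂
  have hc2 : ∀ u ∈ L1, q₂ u ∈ Subgroup.center (S ⧸ L2) := fun u hu => Subgroup.mem_center_iff.2 fun g => by
    obtain ⟨g, rfl⟩ := QuotientGroup.mk'_surjective L2 g
    exact (commutatorElement_eq_one_iff_mul_comm.1
      (by rw [← map_commutatorElement]; exact (QuotientGroup.eq_one_iff _).2 (hr u hu g))).symm
  have hcp : (q₂ c) ^ p = 1 := by
    rw [hc, map_commutatorElement, ← zpow_natCast,
      ← comm_zpow_left (by rw [← map_commutatorElement]; exact hc2 _ hcL1), zpow_natCast, ← map_pow,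
      (comm_eq_one_of_center (hc2 _ (hexp a))).1]
  have hle : L1 ≤ (Subgroup.zpowers (q₂ c)).comap q₂ := by
    rw [hL1, commutator_def]
    refine SmallEssential.comm_le_of_gens (s := insert a (insert b (L1 : Set S)))
      (fun y _ => Subgroup.mem_top y) (fun y _ => hgen y) (fun t _ y hy => ?_) ?_
    · obtain ⟨i, hi⟩ := Subgroup.mem_zpowers_iff.1 (Subgroup.mem_comap.1 hy)
      refine Subgroup.mem_comap.2 (Subgroup.mem_zpowers_iff.2 ⟨i, ?_⟩)
      rw [map_mul, map_mul, map_inv, ← hi, Subgroup.mem_center_iff.1 (Subgroup.zpow_mem _ (hc2 _ hcL1) i),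
        mul_inv_cancel_right]
    · have hcc : c ∈ (Subgroup.zpowers (q₂ c)).comap q₂ := Subgroup.mem_zpowers _
      have hl2 : ∀ l : S, l ∈ L2 → l ∈ (Subgroup.zpowers (q₂ c)).comap q₂ := fun l hl => by
        rw [Subgroup.mem_comap, (show q₂ l = 1 from (QuotientGroup.eq_one_iff l).2 hl)]
        exact one_mem _
      have hsw : ∀ u v : S, ⁅u, v⁆ ∈ (Subgroup.zpowers (q₂ c)).comap q₂ →
          ⁅v, u⁆ ∈ (Subgroup.zpowers (q₂ c)).comap q₂ := fun u v h => by
        rw [← commutatorElement_inv]; exact inv_mem h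
      rintro u (rfl | rfl | hu) v (rfl | rfl | hv)
      · rw [commutatorElement_self]; exact one_mem _
      · exact hcc
      · exact hsw _ _ (hl2 _ (hr _ hv _))
      · exact hsw _ _ hcc
      · rw [commutatorElement_self]; exact one_mem _
      · exact hsw _ _ (hl2 _ (hr _ hv _))
      · exact hl2 _ (hr _ hu _)
      · exact hl2 _ (hr _ hu _)
      · exact hl2 _ (hr _ hu _)
  let f : L2 × Fin p → S := fun q => (q.1 : S) * c ^ (q.2 : ℕ)
  have hcov : (L1 : Set S) ⊆ Set.range f := fun y hy => by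
    obtain ⟨i, hi⟩ := (isOfFinOrder_of_finite (q₂ c)).mem_powers_iff_mem_zpowers.2
      (Subgroup.mem_comap.1 (hle hy))
    simp only at hi
    refine ⟨(⟨y * (c ^ (i % p))⁻¹, ?_⟩, ⟨i % p, Nat.mod_lt _ hp'.pos⟩), inv_mul_cancel_right _ _⟩
    rw [← QuotientGroup.eq_one_iff, ← QuotientGroup.mk'_apply, ← hq₂, map_mul, map_inv, map_pow, ← hi,
      ← pow_eq_pow_mod _ hcp, mul_inv_cancel]
  have hle1 := (Nat.card_mono (Set.finite_range f) hcov).trans (Finite.card_range_le f)
  rw [Nat.card_prod, Nat.card_fin] at hle1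
  have hL1c : Nat.card L1 = Nat.card (L1 : Set S) := rfl
  rw [← hL1c, hk] at hle1
  have h32 : p ^ 3 ≤ p ^ 2 := hle1.trans (by rw [pow_two]; exact Nat.mul_le_mul_right p hL2c)
  have := (Nat.pow_le_pow_iff_right hp'.one_lt).1 h32
  omega

set_option maxHeartbeats 1000000 in
/-- In maximal class of order `p⁵` generators exist. -/
theorem exists_gens (hS : IsPGroup p S) (hcard : Nat.card S = p ^ 5)
    (hmax : Subgroup.lowerCentralSeries S (5 - 2) ≠ ⊥) :
    Data S p 5 ∧ ∀ x : S, x ∉ twoStep (S := S) 1 → ∃ s₁, Gens S p (twoStep 1) x s₁ := by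
  have D := maxClassData hS hcard (by norm_num) hmax
  refine ⟨D, fun x hx => ?_⟩
  have hidx := maxClass_twoStep_index D (j := 1) le_rfl (by norm_num)
  obtain ⟨s₁, hs₁, hs₁'⟩ : ∃ s₁ ∈ twoStep (S := S) 1, s₁ ∉ L 1 := by
    by_contra h
    push Not at h
    have h1 := Subgroup.card_mul_index (twoStep (S := S) 1)
    rw [hidx, hcard, pow_succ p 4] at h1
    have h2 := Subgroup.card_le_of_le (fun y hy => h y hy : twoStep (S := S) 1 ≤ L 1)
    rw [Nat.eq_of_mul_eq_mul_right hp.out.pos h1, L_card D le_rfl (by norm_num)] at h2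
    have := (Nat.pow_le_pow_iff_right hp.out.one_lt).1 h2
    omega
  exact ⟨s₁, D, hidx, rfl, hx, hs₁, hs₁'⟩

/-- For `p = 3` some class outside `S'` is fixed by all automorphisms unless `A` is abelian. -/
theorem Gens_fix_three {A : Subgroup S} {x s₁ : S} (H : Gens S p A x s₁) (h3 : p = 3)
    (hne : ⁅s₁, ⁅s₁, x⁆⁆ ≠ 1) (τ : MulAut S) : τ s₁ * s₁⁻¹ ∈ commutator S := by
  obtain ⟨γ, hγ⟩ := H.comm_s
  obtain ⟨k, m, h1, -, -, hdvd, hkm⟩ := H.aut hγ τ
  have hL1e : L 1 = commutator S := by rw [Subgroup.top_lowerCentralSeries_one]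
  have hγ0 : ¬ (p : ℤ) ∣ γ := fun ⟨q, hq⟩ => hne (by
    rw [hγ, hq, zpow_mul, zpow_natCast]
    have h := pow_card_eq_one' (x := (⟨_, H.z_mem⟩ : L 3))
    rw [L_card H.data (by omega) (by omega), show 4 - 3 = 1 from rfl, pow_one] at h
    rw [show ⁅⁅⁅s₁, x⁆, x⁆, x⁆ ^ p = 1 from congrArg Subtype.val h, one_zpow])
  subst h3
  have hk : (3 : ℤ) ∣ k - 1 := by
    rw [← ZMod.intCast_zmod_eq_zero_iff_dvd] at hdvd hγ0 hkm
    rw [show ((3 : ℤ)) = ((3 : ℕ) : ℤ) from rfl, ← ZMod.intCast_zmod_eq_zero_iff_dvd]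
    push_cast at hdvd hγ0 hkm ⊢
    exact zmod_three_weight _ _ _ hγ0 hkm hdvd
  obtain ⟨q, hq⟩ := hk
  rw [← hL1e]
  have hA3 : s₁ ^ (3 : ℕ) ∈ L 1 := by
    have hc : Nat.card ((L 1).subgroupOf A) = 3 ^ 3 := by
      rw [Nat.card_congr (Subgroup.subgroupOfEquivOfLe H.L_le).toEquiv, L_card H.data le_rfl (by norm_num)]
    have hAc := Subgroup.card_mul_index A
    rw [H.idx, H.data.hcard, pow_succ 3 4] at hAc
    have hi := Subgroup.card_mul_index ((L 1).subgroupOf A)
    rw [hc, Nat.eq_of_mul_eq_mul_right (by norm_num) hAc, pow_succ 3 3] at hi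
    haveI := H.normal
    have h := Subgroup.pow_index_mem ((L 1).subgroupOf A) ⟨s₁, H.hs₁⟩
    rw [Nat.eq_of_mul_eq_mul_left (by norm_num) hi] at h
    exact h
  have h2 : s₁ ^ (k - 1) ∈ L 1 := by
    rw [hq, zpow_mul, show (3 : ℤ) = ((3 : ℕ) : ℤ) from rfl, zpow_natCast]
    exact zpow_mem hA3 q
  have h3 := mul_mem h1 h2
  rwa [zpow_sub, zpow_one, ← mul_assoc, inv_mul_cancel_right] at h3

end CfsgLib.Fusion.OrderFive
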