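import Cfsg.Agent.Lib.Fusion.OrderFivePearl
import Cfsg.Agent.Lib.Fusion.OrderFiveExtend

/-!
# Order `p⁵`, `p ≠ 3, 7`: a pearl forces an abelian maximal subgroup
-/

set_option autoImplicit false

namespace CfsgLib.Fusion.OrderFive

open Cfsg Cfsg.FusionSystem CfsgLib.Fusion CfsgLib.Fusion.TransvAut CfsgLib.Fusion.MaxClassFive
open CfsgLib.ClassSizes.MaxClass CfsgLib.PGroups.MaxClassRank
open scoped commutatorElement

variable {Ω : Type*} [Group Ω] {S : Subgroup Ω} [Finite S] {F : FusionSystem S} {p : ℕ}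
  [hp : Fact p.Prime]

local notation "L" => Subgroup.lowerCentralSeries (⊤ : Subgroup S)

theorem zmod_weights {p : ℕ} [Fact p.Prime] {γ k m t s : ZMod p} (hts : t * s = 1)
    (h1 : k * m ^ 3 = t) (h2 : k * m ^ 2 = t * t) (h3 : γ * (k * m) * (k - m ^ 2) = 0) :
    γ = 0 ∨ t ^ 6 = 1 := by
  have ht : t ≠ 0 := left_ne_zero_of_mul_eq_one hts
  have hkm : k * m ≠ 0 := by
    intro h0
    exact ht (by rw [← h1, show k * m ^ 3 = k * m * m ^ 2 by ring1, h0, zero_mul])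
  have hm : t * m = 1 := by
    refine mul_left_cancel₀ ht ?_
    rw [mul_one]
    calc t * (t * m) = k * m ^ 2 * m := by rw [h2]; ring1
      _ = t := by rw [← h1]; ring1
  rcases mul_eq_zero.1 h3 with h | h
  · exact Or.inl ((mul_eq_zero.1 h).resolve_right hkm)
  · refine Or.inr ?_
    rw [sub_eq_zero] at h
    calc t ^ 6 = (t * t) * t ^ 4 := by ring1
      _ = m ^ 4 * t ^ 4 := by rw [← h2, h]; ring1
      _ = (t * m) ^ 4 := by ring1
      _ = 1 := by rw [hm, one_pow]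

theorem weights_two {p : ℕ} [Fact p.Prime] (hp3 : p ≠ 3) (hp7 : p ≠ 7) :
    ((2 : ℤ) : ZMod p) ^ 6 ≠ 1 := by
  intro h
  have hp' := (Fact.out : p.Prime)
  rw [← Int.cast_pow, ← Int.cast_one (R := ZMod p), ZMod.intCast_eq_intCast_iff_dvd_sub] at h
  have h2 : p ∣ 3 ^ 2 * 7 := by
    have h' : (p : ℤ) ∣ ((3 ^ 2 * 7 : ℕ) : ℤ) := by
      have := dvd_neg.2 h
      norm_num at this ⊢
      exact this
    exact_mod_cast h'
  rcases hp'.dvd_mul.1 h2 with h | h
  · exact hp3 ((Nat.prime_dvd_prime_iff_eq hp' Nat.prime_three).1 (hp'.dvd_of_dvd_pow h))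
  · exact hp7 ((Nat.prime_dvd_prime_iff_eq hp' (by norm_num)).1 h)

set_option maxHeartbeats 2000000 in
/-- An automorphism of `S` with the weights of a diagonal automorphism of a pearl. -/
theorem pearl_aut (hS : IsPGroup p S) (hF : F.IsSaturated p) (hcard : Nat.card S = p ^ 5)
    {E : Subgroup Ω} (hE : F.IsEssential p E) (hEc : Nat.card E = p ^ 2)
    (hel : IsElementaryAbelian p E) {x s₁ : S} (hxE : (x : Ω) ∈ E)
    (H : Gens S p (twoStep 1) x s₁) (hzE : ((⁅⁅⁅s₁, x⁆, x⁆, x⁆ : S) : Ω) ∈ E)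
    {t u : ℤ} (htu : (p : ℤ) ∣ t * u - 1) :
    ∃ τ : MulAut S, τ ⁅⁅⁅s₁, x⁆, x⁆, x⁆ = ⁅⁅⁅s₁, x⁆, x⁆, x⁆ ^ t ∧
      τ ⁅⁅s₁, x⁆, x⁆ * (⁅⁅s₁, x⁆, x⁆ ^ (t * t))⁻¹ ∈ L 3 := by
  classical
  have hp' := hp.out
  have D := H.data
  set A := twoStep (S := S) 1 with hAdef
  set s₂ := ⁅s₁, x⁆ with hs₂
  set s₃ := ⁅s₂, x⁆ with hs₃
  set z := ⁅s₃, x⁆ with hz
  have hES := hE.1.1
  have := finite_le hES
  have hxp : x ^ p = 1 := Subtype.ext (hel.2 _ hxE)
  have hxA : x ∉ A := H.hxA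
  have hxL : ∀ {i : ℤ}, x ^ i ∈ A → (p : ℤ) ∣ i := fun {i} hi => by
    by_contra hd
    obtain ⟨a, b, hab⟩ := (Nat.prime_iff_prime_int.1 hp').coprime_iff_not_dvd.2 hd
    refine hxA ?_
    rw [← zpow_one x, ← hab, zpow_add, zpow_mul', zpow_mul', zpow_natCast, hxp, one_zpow, one_mul]
    exact zpow_mem hi b
  have hx0 : ∀ {i : ℤ}, (p : ℤ) ∣ i → x ^ i = 1 := fun {i} ⟨q, hq⟩ => by
    rw [hq, zpow_mul, zpow_natCast, hxp, one_zpow]
  have hL3E : ∀ w ∈ L 3, (w : Ω) ∈ E := fun w hw => by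
    have hz4 : z ∉ L 4 := fun h' => H.z_not_one (by rwa [L_four D, Subgroup.mem_bot] at h')
    have h := D.cover (j := 3) (by omega) H.z_mem hz4 hw
    rw [show 3 + 1 = 4 from rfl, L_four D, sup_bot_eq] at h
    obtain ⟨i, rfl⟩ := Subgroup.mem_zpowers_iff.1 h
    rw [SubgroupClass.coe_zpow]
    exact E.zpow_mem hzE i
  have hL2 : ∀ {w : S}, w ∈ L 2 → ∃ j : ℤ, ∃ w' ∈ L 3, w = s₃ ^ j * w' := fun {w} hw => by
    obtain ⟨u, hu, w', hw', rfl⟩ :=
      Subgroup.mem_sup_of_normal_right.1 (D.cover (j := 2) (by omega) H.s₃_mem H.s₃_not_mem hw)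
    obtain ⟨j, rfl⟩ := Subgroup.mem_zpowers_iff.1 hu
    exact ⟨j, w', hw', rfl⟩
  -- the decomposition of `E`
  have hEdec : ∀ e : S, (e : Ω) ∈ E → ∃ w ∈ L 3, ∃ i : ℤ, e = w * x ^ i := by
    intro e he
    set E' := E.subgroupOf S
    have hsub : L 3 ⊔ Subgroup.zpowers x ≤ E' :=
      sup_le (fun w hw => hL3E w hw) (Subgroup.zpowers_le.2 hxE)
    have heq : L 3 ⊔ Subgroup.zpowers x = E' := by
      refine Subgroup.eq_of_le_of_card_ge hsub ?_
      rw [Nat.card_congr (Subgroup.subgroupOfEquivOfLe hES).toEquiv, hEc]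
      obtain ⟨k, -, hk⟩ := (Nat.dvd_prime_pow hp').1
        (hcard ▸ Subgroup.card_subgroup_dvd_card (L 3 ⊔ Subgroup.zpowers x))
      have hlt : Nat.card (L 3) < Nat.card (L 3 ⊔ Subgroup.zpowers x : Subgroup S) :=
        lt_of_le_of_ne (Subgroup.card_le_of_le le_sup_left) fun h => hxA (H.L_le
          (Subgroup.lowerCentralSeries_antitone _ (by omega : 1 ≤ 3) (by
            rw [Subgroup.eq_of_le_of_card_ge (le_sup_left : L 3 ≤ L 3 ⊔ Subgroup.zpowers x) h.ge]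
            exact Subgroup.mem_sup_right (Subgroup.mem_zpowers x))))
      rw [L_card D (by omega) (by omega), hk, show 4 - 3 = 1 from rfl] at hlt
      rw [hk]
      exact Nat.pow_le_pow_right hp'.pos ((Nat.pow_lt_pow_iff_right hp'.one_lt).1 hlt)
    obtain ⟨w, hw, y, hy, rfl⟩ := Subgroup.mem_sup_of_normal_left.1 (heq.ge he)
    obtain ⟨i, rfl⟩ := Subgroup.mem_zpowers_iff.1 hy
    exact ⟨w, hw, i, rfl⟩
  have hEL2 : ∀ e : S, (e : Ω) ∈ E → e ∈ L 2 → e ∈ L 3 := fun e he he2 => by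
    obtain ⟨w, hw, i, rfl⟩ := hEdec e he
    have h1 : x ^ i ∈ A := H.L_le (Subgroup.lowerCentralSeries_antitone _ (by omega : 1 ≤ 2)
      ((Subgroup.mul_mem_cancel_left _ (Subgroup.lowerCentralSeries_antitone _ (by omega) hw)).1 he2))
    rw [hx0 (hxL h1), mul_one]
    exact hw
  -- `g = s₃` normalizes `E`
  have hs3x : ∀ i : ℤ, ⁅s₃, x ^ i⁆ = z ^ i := fun i => by
    have h := comm_zpow_zpow (a := s₃) (b := x) (H.L3_center H.z_mem) 1 i
    rwa [zpow_one, one_mul] at h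
  have hgN : (s₃ : Ω) ∈ normalizerIn S E := by
    refine (mem_normalizerIn_iff hES s₃).2 fun e he => ?_
    obtain ⟨w, hw, i, rfl⟩ := hEdec e he
    rw [show s₃ * (w * x ^ i) * s₃⁻¹ = (s₃ * w * s₃⁻¹) * ⁅s₃, x ^ i⁆ * x ^ i by
      rw [commutatorElement_def]; group, hs3x, Subgroup.mem_center_iff.1 (H.L3_center hw) s₃,
      mul_inv_cancel_right]
    exact (E.subgroupOf S).mul_mem ((E.subgroupOf S).mul_mem (hL3E w hw)
      ((E.subgroupOf S).zpow_mem hzE i)) ((E.subgroupOf S).zpow_mem hxE i)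
  set g : normalizerIn S E := ⟨s₃, hgN⟩ with hg
  have hgE : (g : Ω) ∉ E := fun h => H.s₃_not_mem (hEL2 s₃ h H.s₃_mem)
  have hne : conjAut g ≠ 1 := fun h => hgE (mem_of_conjAut_inn hE.1 g (by rw [h]; exact one_mem _))
  have himg : ∀ e : E, ∃ i : ℤ, conjAut g e * e⁻¹ = (⟨z, hzE⟩ : E) ^ i := by
    intro e
    obtain ⟨w, hw, i, hwi⟩ := hEdec ⟨e, hES e.2⟩ e.2
    refine ⟨i, Subtype.ext ?_⟩
    have h1 : s₃ * (⟨e, hES e.2⟩ : S) * s₃⁻¹ * (⟨e, hES e.2⟩ : S)⁻¹ = z ^ i := by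
      rw [hwi, show s₃ * (w * x ^ i) * s₃⁻¹ * (w * x ^ i)⁻¹ =
        (s₃ * w * s₃⁻¹) * ⁅s₃, x ^ i⁆ * w⁻¹ by rw [commutatorElement_def]; group, hs3x,
        Subgroup.mem_center_iff.1 (H.L3_center hw) s₃, mul_inv_cancel_right,
        ← Subgroup.mem_center_iff.1 (H.L3_center hw) (z ^ i), mul_inv_cancel_right]
    have h2 := congrArg Subtype.val h1
    rw [Subgroup.coe_zpow, ← SubgroupClass.coe_zpow]
    exact h2
  obtain ⟨d, hd, hdz, hdg, -⟩ := exists_torus hS hF hE hel g hgE ⟨z, hzE⟩ himg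
    (conjAut_mem_zpowers_of_sq hS hES hEc hel g hne) htu
  -- the subgroup `R = ⟨x⟩ L₂`
  set R := E ⊔ Subgroup.zpowers (g : Ω) with hR
  have hgR : (g : Ω) ∈ R := Subgroup.mem_sup_right (Subgroup.mem_zpowers _)
  have hRS : R ≤ S := sup_le hES (Subgroup.zpowers_le.2 s₃.2)
  have := finite_le hRS
  set R' := R.subgroupOf S with hR'
  have hxR : x ∈ R' := Subgroup.mem_sup_left hxE
  have hL2R : L 2 ≤ R' := fun w hw => by
    obtain ⟨j, w', hw', rfl⟩ := hL2 hw
    exact R'.mul_mem (R'.zpow_mem hgR j) (Subgroup.mem_sup_left (hL3E w' hw'))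
  have hRdec : ∀ r ∈ R', ∃ l ∈ L 2, ∃ i : ℤ, r = l * x ^ i := by
    intro r hr
    have hle : R' ≤ L 2 ⊔ Subgroup.zpowers x := by
      intro y hy
      have hle0 : R ≤ (L 2 ⊔ Subgroup.zpowers x).map S.subtype := by
        refine sup_le (fun e he => ?_) (Subgroup.zpowers_le.2 ⟨s₃, Subgroup.mem_sup_left H.s₃_mem, rfl⟩)
        obtain ⟨w, hw, i, hwi⟩ := hEdec ⟨e, hES he⟩ he
        refine ⟨⟨e, hES he⟩, ?_, rfl⟩
        rw [hwi]
        exact Subgroup.mul_mem_sup (Subgroup.lowerCentralSeries_antitone _ (by omega) hw)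
          (Subgroup.zpow_mem _ (Subgroup.mem_zpowers x) i)
      obtain ⟨y', hy', hyy⟩ := hle0 hy
      exact Subtype.ext hyy ▸ hy'
    obtain ⟨l, hl, y, hy, rfl⟩ := Subgroup.mem_sup_of_normal_left.1 (hle hr)
    obtain ⟨i, rfl⟩ := Subgroup.mem_zpowers_iff.1 hy
    exact ⟨l, hl, i, rfl⟩
  set q₃ := QuotientGroup.mk' (L 3) with hq₃
  have hc3 : ∀ u ∈ L 2, q₃ u ∈ Subgroup.center (S ⧸ L 3) := fun u hu => Subgroup.mem_center_iff.2 fun g => by
    obtain ⟨g, rfl⟩ := QuotientGroup.mk'_surjective (L 3) g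
    exact (central_mod hu g).symm
  have hRcomm : ∀ r ∈ R', ∀ r' ∈ R', ⁅r, r'⁆ ∈ L 3 := by
    intro r hr r' hr'
    obtain ⟨l, hl, i, rfl⟩ := hRdec r hr
    obtain ⟨l', hl', j, rfl⟩ := hRdec r' hr'
    rw [← QuotientGroup.eq_one_iff, ← QuotientGroup.mk'_apply, map_commutatorElement,
      commutatorElement_eq_one_iff_commute, map_mul, map_mul, map_zpow, map_zpow]
    have h : ∀ {u : S}, u ∈ L 2 → ∀ v, Commute (q₃ u) v := fun hu v => (Subgroup.mem_center_iff.1 (hc3 _ hu) v).symm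
    exact (h hl _).mul_left (((h hl' _).symm).mul_right ((Commute.refl (q₃ x)).zpow_zpow i j))
  obtain ⟨ψ, hψ, hψe, r₀, hψg⟩ := extend_over hS hF hE.1 hd g (t * t) hdg hR hgR
  -- `N_S(R)` and full normalization
  have hL1ab : ∀ a ∈ L 1, ∀ b ∈ L 2, Commute a b := fun a ha b hb =>
    commutatorElement_eq_one_iff_commute.1 (H.comm_A_L2 (H.L_le ha) hb)
  set N := normalizerIn S R with hN
  have hL1N : ∀ l ∈ L 1, (l : Ω) ∈ N := fun l hl => by
    refine (mem_normalizerIn_iff hRS l).2 fun r hr => ?_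
    obtain ⟨m, hm, i, rfl⟩ := hRdec r hr
    have h1 : l * (m * x ^ i) * l⁻¹ = (l * m * l⁻¹) * ⁅l, x ^ i⁆ * x ^ i := by
      rw [commutatorElement_def]; group
    rw [h1]
    exact R'.mul_mem (R'.mul_mem (hL2R ((inferInstance : (L 2).Normal).conj_mem m hm l))
      (hL2R (L_comm 1 0 hl (Subgroup.mem_top _)))) (R'.zpow_mem hxR i)
  have hxN : (x : Ω) ∈ N := le_normalizerIn hRS hxR
  have hL1c : Nat.card (L 1) = p ^ 3 := L_card D le_rfl (by omega)
  have hR'c : Nat.card R' ≤ p ^ 3 := by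
    let f : L 2 × Fin p → S := fun q => (q.1 : S) * x ^ (q.2 : ℕ)
    have hsub : (R' : Set S) ⊆ Set.range f := fun r hr => by
      obtain ⟨l, hl, i, rfl⟩ := hRdec r hr
      haveI : NeZero p := ⟨hp'.ne_zero⟩
      refine ⟨(⟨l, hl⟩, ⟨(i : ZMod p).val, ZMod.val_lt _⟩), ?_⟩
      show l * x ^ (i : ZMod p).val = l * x ^ i
      congr 1
      rw [← zpow_natCast, ← mul_inv_eq_one, ← zpow_sub]
      exact hx0 ((ZMod.intCast_zmod_eq_zero_iff_dvd _ p).1 (by simp))
    refine (Nat.card_mono (Set.finite_range f) hsub).trans ((Finite.card_range_le f).trans ?_)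
    rw [Nat.card_prod, Nat.card_fin, L_card D (by omega) (by omega), ← pow_succ]
  have hnoN : ∀ {Q : Subgroup Ω}, Q ≤ S → normalizerIn S Q = S → Nat.card Q ≤ p ^ 3 →
      Nat.card Q = Nat.card R → Q.subgroupOf S = L 1 := by
    intro Q hQS hQ hQc hQR
    have hQn : (Q.subgroupOf S).Normal := ⟨fun w hw v =>
      (mem_normalizerIn_iff hQS v).1 (hQ.ge v.2) w hw⟩
    have hR3 : p ^ 3 ≤ Nat.card R := by
      rw [← Nat.card_congr (Subgroup.subgroupOfEquivOfLe hRS).toEquiv, ← hR']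
      obtain ⟨k, -, hk⟩ := (Nat.dvd_prime_pow hp').1 (hcard ▸ Subgroup.card_subgroup_dvd_card R')
      have hlt : Nat.card (L 2) < Nat.card R' := lt_of_le_of_ne (Subgroup.card_le_of_le hL2R) fun h =>
        hxA (H.L_le (Subgroup.lowerCentralSeries_antitone _ (by omega : 1 ≤ 2)
          ((Subgroup.eq_of_le_of_card_ge hL2R h.ge).ge hxR)))
      rw [L_card D (by omega) (by omega), hk, show 4 - 2 = 2 from rfl] at hlt
      rw [hk]
      exact Nat.pow_le_pow_right hp'.pos ((Nat.pow_lt_pow_iff_right hp'.one_lt).1 hlt)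
    have hQ3 : Nat.card (Q.subgroupOf S) = p ^ 3 := by
      rw [Nat.card_congr (Subgroup.subgroupOfEquivOfLe hQS).toEquiv]
      exact le_antisymm hQc (hQR ▸ hR3)
    have hle : L 1 ≤ Q.subgroupOf S := by
      have hq : Nat.card (S ⧸ Q.subgroupOf S) = p ^ 2 := by
        have h := (Q.subgroupOf S).card_eq_card_quotient_mul_card_subgroup
        rw [hcard, hQ3, show p ^ 5 = p ^ 2 * p ^ 3 by rw [← pow_add]] at h
        exact (Nat.eq_of_mul_eq_mul_right (pow_pos hp'.pos 3) h).symm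
      rw [Subgroup.top_lowerCentralSeries_one, commutator_def, Subgroup.commutator_le]
      intro a _ b _
      rw [← QuotientGroup.eq_one_iff, ← QuotientGroup.mk'_apply, map_commutatorElement,
        commutatorElement_eq_one_iff_mul_comm]
      exact (IsPGroup.isMulCommutative_of_card_eq_prime_sq hq).is_comm.comm _ _
    exact (Subgroup.eq_of_le_of_card_ge hle (by rw [hQ3, hL1c])).symm
  have hRc : Nat.card R ≤ p ^ 3 := by
    rw [← Nat.card_congr (Subgroup.subgroupOfEquivOfLe hRS).toEquiv]; exact hR'c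
  have hNS : N ≠ S := fun h => by
    have := hnoN hRS h hRc rfl
    exact hxA (H.L_le (this.le hxR))
  have := finite_le (normalizerIn_le (S := S) R)
  have hNc : Nat.card N = p ^ 4 ∧ (N.subgroupOf S) = L 1 ⊔ Subgroup.zpowers x := by
    have hle : L 1 ⊔ Subgroup.zpowers x ≤ N.subgroupOf S :=
      sup_le (fun l hl => hL1N l hl) (Subgroup.zpowers_le.2 hxN)
    obtain ⟨k, hk5, hk⟩ := (Nat.dvd_prime_pow hp').1 (hcard ▸ Subgroup.card_subgroup_dvd_card (N.subgroupOf S))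
    obtain ⟨k', -, hk'⟩ := (Nat.dvd_prime_pow hp').1
      (hcard ▸ Subgroup.card_subgroup_dvd_card (L 1 ⊔ Subgroup.zpowers x))
    have h1 : Nat.card (L 1) < Nat.card (L 1 ⊔ Subgroup.zpowers x : Subgroup S) :=
      lt_of_le_of_ne (Subgroup.card_le_of_le le_sup_left) fun h => hxA (H.L_le (by
        rw [Subgroup.eq_of_le_of_card_ge (le_sup_left : L 1 ≤ L 1 ⊔ Subgroup.zpowers x) h.ge]
        exact Subgroup.mem_sup_right (Subgroup.mem_zpowers x)))
    have h2 := Subgroup.card_le_of_le hle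
    rw [hL1c, hk'] at h1
    rw [hk', hk] at h2
    have h1' := (Nat.pow_lt_pow_iff_right hp'.one_lt).1 h1
    have h2' := (Nat.pow_le_pow_iff_right hp'.one_lt).1 h2
    have hk4 : k ≠ 5 := fun h => hNS (le_antisymm (normalizerIn_le R) fun s hs => by
      exact (Subgroup.eq_top_of_card_eq _ (by rw [hk, h, hcard]) :
        N.subgroupOf S = ⊤).ge (Subgroup.mem_top ⟨s, hs⟩))
    refine ⟨?_, (Subgroup.eq_of_le_of_card_ge hle (by rw [hk, hk', show k = k' by omega])).symm⟩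
    rw [← Nat.card_congr (Subgroup.subgroupOfEquivOfLe (normalizerIn_le R)).toEquiv, hk,
      show k = 4 by omega]
  have hRn : F.IsFullyNormalized R := by
    refine ⟨hRS, fun Q hQ => ?_⟩
    by_contra hlt
    rw [← hN, hNc.1, not_le] at hlt
    have hQS := isConj_le_right hQ
    have := finite_le hQS
    have := finite_le (normalizerIn_le (S := S) Q)
    obtain ⟨k, hk5, hk⟩ := (Nat.dvd_prime_pow hp').1
      (hcard ▸ Subgroup.card_dvd_of_le (normalizerIn_le (S := S) Q))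
    rw [hk] at hlt
    have := (Nat.pow_lt_pow_iff_right hp'.one_lt).1 hlt
    have hQS' : normalizerIn S Q = S :=
      Subgroup.eq_of_le_of_card_ge (normalizerIn_le Q) (by rw [hk, hcard, show k = 5 by omega])
    have hQ1 := hnoN hQS hQS' ((isConj_card hQ).symm.le.trans hRc) (isConj_card hQ).symm
    obtain ⟨e, -⟩ := isConj_iff.1 hQ
    -- `R` would be abelian
    have hcomm : ∀ a b : S, a ∈ L 1 → b ∈ L 1 → a * b = b * a := by
      intro a b ha hb
      obtain ⟨a', ha', a'', ha'', rfl⟩ :=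
        Subgroup.mem_sup_of_normal_right.1 (D.cover le_rfl H.s₂_mem H.s₂_not_mem ha)
      obtain ⟨b', hb', b'', hb'', rfl⟩ :=
        Subgroup.mem_sup_of_normal_right.1 (D.cover le_rfl H.s₂_mem H.s₂_not_mem hb)
      obtain ⟨i, rfl⟩ := Subgroup.mem_zpowers_iff.1 ha'
      obtain ⟨j, rfl⟩ := Subgroup.mem_zpowers_iff.1 hb'
      have h2 := fun k : ℤ => Subgroup.zpow_mem _ H.s₂_mem k
      exact ((Commute.mul_right ((Commute.refl _).zpow_zpow i j) (hL1ab _ (h2 i) _ hb'')).mul_left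
        (Commute.mul_right (hL1ab _ (h2 j) _ ha'').symm
          (hL1ab _ (Subgroup.lowerCentralSeries_antitone _ (by omega) ha'') _ hb''))).eq
    have hab : (⟨s₃, hgR⟩ : R) * ⟨x, hxR⟩ = ⟨x, hxR⟩ * ⟨s₃, hgR⟩ := by
      refine e.injective ?_
      rw [map_mul, map_mul]
      refine Subtype.ext ?_
      have h0 := congrArg Subtype.val (hcomm ⟨_, hQS (e ⟨s₃, hgR⟩).2⟩ ⟨_, hQS (e ⟨x, hxR⟩).2⟩
        (hQ1.le (e ⟨s₃, hgR⟩).2) (hQ1.le (e ⟨x, hxR⟩).2))
      exact h0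
    refine H.z_not_one (commutatorElement_eq_one_iff_mul_comm.2 (Subtype.ext ?_))
    have h0 := congrArg Subtype.val hab
    exact h0
  -- the chain in `R`
  set ι := Subgroup.inclusion hRS with hι
  have hιR : ∀ r : R, ι r ∈ R' := fun r => r.2
  set D₁ := (L 3).comap ι with hD₁
  set D₂ := (L 2).comap ι with hD₂
  have hz1 : ∀ σ : MulAut R, ∀ e ∈ D₁, σ e ∈ D₁ := by
    intro σ e he
    have hz4 : z ∉ L 4 := fun h' => H.z_not_one (by rwa [L_four D, Subgroup.mem_bot] at h')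
    have h := D.cover (j := 3) (by omega) H.z_mem hz4 (he : ι e ∈ L 3)
    rw [show 3 + 1 = 4 from rfl, L_four D, sup_bot_eq] at h
    obtain ⟨i, hi⟩ := Subgroup.mem_zpowers_iff.1 h
    have he' : e = ⁅(⟨s₃, hgR⟩ : R), ⟨x, hxR⟩⁆ ^ i :=
      Subgroup.inclusion_injective hRS (by rw [map_zpow, map_commutatorElement]; exact hi.symm)
    show ι (σ e) ∈ L 3
    rw [he', map_zpow, map_zpow, map_commutatorElement, map_commutatorElement]
    exact Subgroup.zpow_mem _ (hRcomm _ (hιR _) _ (hιR _)) i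
  have hz2 : ∀ σ ∈ F.autGroup R, ∀ e ∈ D₂, σ e ∈ D₂ := by
    intro σ hσ
    suffices hs : ι (σ ⟨s₃, hgR⟩) ∈ L 2 by
      intro e he
      obtain ⟨j, w', hw', hjw⟩ := hL2 (he : ι e ∈ L 2)
      have hwR : (w' : Ω) ∈ R := Subgroup.mem_sup_left (hL3E w' hw')
      have he' : e = (⟨s₃, hgR⟩ : R) ^ j * ⟨w', hwR⟩ :=
        Subgroup.inclusion_injective hRS (by rw [map_mul, map_zpow]; exact hjw)
      show ι (σ e) ∈ L 2
      rw [he', map_mul, map_mul, map_zpow, map_zpow]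
      exact Subgroup.mul_mem _ (Subgroup.zpow_mem _ hs j)
        (Subgroup.lowerCentralSeries_antitone _ (show 2 ≤ 3 by omega) (hz1 σ _ (show ι ⟨w', hwR⟩ ∈ L 3 from hw')))
    obtain ⟨l, hl, i, hli⟩ := hRdec _ (hιR (σ ⟨s₃, hgR⟩))
    by_cases hi : (p : ℤ) ∣ i
    · rw [hli, hx0 hi, mul_one]; exact hl
    exfalso
    obtain ⟨c, i', hci⟩ := (Nat.prime_iff_prime_int.1 hp').coprime_iff_not_dvd.2 hi
    obtain ⟨j, w', hw', rfl⟩ := hL2 hl
    set h := s₂ ^ (j * i') with hh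
    -- the conjugate of `x ^ i` by `h`
    have hconj : h * x ^ i * h⁻¹ * (s₃ ^ j * w' * x ^ i)⁻¹ ∈ L 3 := by
      have h1 : q₃ s₂ ^ (j * i') * q₃ x * (q₃ s₂ ^ (j * i'))⁻¹ = q₃ s₃ ^ (j * i') * q₃ x := by
        rw [show q₃ s₂ ^ (j * i') * q₃ x * (q₃ s₂ ^ (j * i'))⁻¹ = ⁅q₃ s₂ ^ (j * i'), q₃ x⁆ * q₃ x by
          rw [commutatorElement_def]; group, comm_zpow_left (by rw [← map_commutatorElement]; exact hc3 _ H.s₃_mem),
          ← map_commutatorElement]
      rw [← QuotientGroup.eq_one_iff, ← QuotientGroup.mk'_apply, map_mul, map_inv, mul_inv_eq_one,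
        map_mul, map_mul, map_mul, map_mul, map_inv, map_zpow, map_zpow, ← conj_zpow, h1,
        (show Commute (q₃ s₃ ^ (j * i')) (q₃ x) from (Commute.zpow_left
          (Subgroup.mem_center_iff.1 (hc3 _ H.s₃_mem) (q₃ x)).symm _)).mul_zpow, ← zpow_mul]
      have hw1 : q₃ w' = 1 := (QuotientGroup.eq_one_iff _).2 hw'
      rw [hw1, mul_one]
      congr 1
      have hsp : q₃ s₃ ^ (p : ℤ) = 1 := by
        rw [← map_zpow, zpow_natCast]
        refine (QuotientGroup.eq_one_iff _).2 ?_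
        have hc := L_card D (j := 2) (by omega) (by omega)
        have hidx : ((L 3).subgroupOf (L 2)).index = p := by
          have := Subgroup.card_mul_index ((L 3).subgroupOf (L 2))
          rw [Nat.card_congr (Subgroup.subgroupOfEquivOfLe
            (Subgroup.lowerCentralSeries_antitone _ (by omega : 2 ≤ 3))).toEquiv,
            L_card D (by omega) (by omega), hc, show 4 - 3 = 1 from rfl, show 4 - 2 = 2 from rfl,
            pow_succ p 1] at this
          exact Nat.eq_of_mul_eq_mul_left (pow_pos hp'.pos 1) this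
        have h := Subgroup.pow_index_mem ((L 3).subgroupOf (L 2)) ⟨s₃, H.s₃_mem⟩
        rw [hidx] at h
        exact h
      rw [show j * i' * i = j + (p : ℤ) * (-(j * c)) by linear_combination j * hci, zpow_add, zpow_mul,
        hsp, one_zpow, mul_one, map_zpow]
    -- so `E` is conjugate to `L₂`
    set T := (L 2).map S.subtype with hT
    have hTR : T ≤ R := by rintro _ ⟨w, hw, rfl⟩; exact hL2R hw
    have hTc : Nat.card T = p ^ 2 := by
      rw [hT, Subgroup.card_map_of_injective S.subtype_injective, L_card D (by omega) (by omega)]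
    have hσhom := (mem_autGroup_iff hRS).1 hσ
    set Q := img (R.subtype.comp σ.toMonoidHom) T with hQ
    have hTQ : F.IsConj T Q := isConj_img hσhom hTR
    set K := E.map (MulAut.conj (h : Ω)).toMonoidHom with hK
    have hKc : Nat.card K = p ^ 2 := by
      rw [hK, Subgroup.card_map_of_injective (MulAut.conj (h : Ω)).injective, hEc]
    have hEK : F.IsConj E K := by
      obtain ⟨eh, heh, -⟩ := exists_iso (P := E) (Q := K) (F.conj_mem hES h.2) (by
        ext y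
        constructor
        · rintro ⟨e, rfl⟩; exact ⟨e, e.2, rfl⟩
        · rintro ⟨e, he, rfl⟩; exact ⟨⟨e, he⟩, rfl⟩)
      exact heh.isConj
    have hQS : Q ≤ S := isConj_le_right hTQ
    have hQfin := finite_le hQS
    have hKQ : K = Q := by
      refine Subgroup.eq_of_le_of_card_ge ?_ (by rw [hKc, ← hTc, isConj_card hTQ])
      have hsR : ((σ ⟨s₃, hgR⟩ : R) : Ω) ∈ Q := ⟨⟨s₃, hgR⟩, ⟨s₃, H.s₃_mem, rfl⟩, rfl⟩
      have hL3Q : ∀ w ∈ L 3, (w : Ω) ∈ Q := fun w hw => by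
        have hwR : (w : Ω) ∈ R := Subgroup.mem_sup_left (hL3E w hw)
        refine ⟨σ⁻¹ ⟨w, hwR⟩, ?_, ?_⟩
        · have := hz1 σ⁻¹ _ (show ι ⟨w, hwR⟩ ∈ L 3 from hw)
          exact ⟨_, Subgroup.lowerCentralSeries_antitone _ (by omega : 2 ≤ 3) this, rfl⟩
        · show ((σ (σ⁻¹ ⟨w, hwR⟩) : R) : Ω) = w
          rw [MulAut.apply_inv_self]
      have hxi : ((h * x ^ i * h⁻¹ : S) : Ω) ∈ Q := by
        have h1 := Q.mul_mem (hL3Q _ hconj) hsR
        rw [show ((σ ⟨s₃, hgR⟩ : R) : Ω) = ((s₃ ^ j * w' * x ^ i : S) : Ω) from congrArg Subtype.val hli,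
          ← Subgroup.coe_mul, inv_mul_cancel_right] at h1
        exact h1
      have hxQ : ((h * x * h⁻¹ : S) : Ω) ∈ Q := by
        have h1 : h * x * h⁻¹ = (h * x ^ i * h⁻¹) ^ i' := by
          rw [conj_zpow, ← zpow_mul, show i * i' = 1 + (p : ℤ) * (-c) by linear_combination hci,
            zpow_add, zpow_one, hx0 (Dvd.intro _ rfl), mul_one]
        rw [h1, SubgroupClass.coe_zpow]
        exact Q.zpow_mem hxi i'
      rintro _ ⟨e, he, rfl⟩
      obtain ⟨w, hw, k, hwk⟩ := hEdec ⟨e, hES he⟩ he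
      have h2 : h * (⟨e, hES he⟩ : S) * h⁻¹ = w * (h * x * h⁻¹) ^ k := by
        rw [hwk, conj_zpow, show h * (w * x ^ k) * h⁻¹ = (h * w * h⁻¹) * (h * x ^ k * h⁻¹) by group,
          Subgroup.mem_center_iff.1 (H.L3_center hw) h, mul_inv_cancel_right]
      have h3 : ((w * (h * x * h⁻¹) ^ k : S) : Ω) ∈ Q := by
        rw [Subgroup.coe_mul, SubgroupClass.coe_zpow]
        exact Q.mul_mem (hL3Q w hw) (Q.zpow_mem hxQ k)
      rw [← h2] at h3
      exact h3
    have hET : F.IsConj E T := isConj_trans hEK (hKQ ▸ isConj_symm hTQ)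
    have hCT := hE.1.2 T hET
    have hle : A ≤ L 2 := fun a ha => by
      obtain ⟨b, hb, hba⟩ := hCT (mem_centralizerIn.2 ⟨a.2, fun w hw => by
        obtain ⟨w, hw, rfl⟩ := hw
        exact (congrArg Subtype.val
          (commutatorElement_eq_one_iff_mul_comm.1 (H.comm_A_L2 ha hw))).symm⟩ : (a : Ω) ∈ centralizerIn S T)
      exact Subtype.ext hba ▸ hb
    have h1 := Subgroup.card_le_of_le (H.L_le.trans hle)
    rw [hL1c, L_card D (by omega) (by omega), show 4 - 2 = 2 from rfl] at h1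
    have := (Nat.pow_le_pow_iff_right hp'.one_lt).1 h1
    omega
  have hcard3 : Nat.card R = p ^ 3 := by
    refine le_antisymm hRc ?_
    rw [← Nat.card_congr (Subgroup.subgroupOfEquivOfLe hRS).toEquiv, ← hR']
    obtain ⟨k, -, hk⟩ := (Nat.dvd_prime_pow hp').1 (hcard ▸ Subgroup.card_subgroup_dvd_card R')
    have hlt : Nat.card (L 2) < Nat.card R' := lt_of_le_of_ne (Subgroup.card_le_of_le hL2R) fun h =>
      hxA (H.L_le (Subgroup.lowerCentralSeries_antitone _ (by omega : 1 ≤ 2)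
        ((Subgroup.eq_of_le_of_card_ge hL2R h.ge).ge hxR)))
    rw [L_card D (by omega) (by omega), hk, show 4 - 2 = 2 from rfl] at hlt
    rw [hk]
    exact Nat.pow_le_pow_right hp'.pos ((Nat.pow_lt_pow_iff_right hp'.one_lt).1 hlt)
  have hcomap : ∀ j, 1 ≤ j → L j ≤ R' → j ≤ 4 → Nat.card ((L j).comap ι) = p ^ (4 - j) := by
    intro j hj hjR hj4
    rw [← L_card D hj hj4, ← Subgroup.card_map_of_injective (Subgroup.inclusion_injective hRS),
      Subgroup.map_comap_eq, inf_of_le_right]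
    intro w hw
    exact ⟨⟨w, hjR hw⟩, rfl⟩
  have hL3R : L 3 ≤ R' := (Subgroup.lowerCentralSeries_antitone _ (by omega)).trans hL2R
  let Dc : ℕ → Subgroup R
    | 0 => ⊥
    | 1 => D₁
    | 2 => D₂
    | _ => ⊤
  have hc1 : Nat.card D₁ = p := by rw [hD₁, hcomap 3 (by omega) hL3R (by omega), show 4 - 3 = 1 from rfl, pow_one]
  have hc2 : Nat.card D₂ = p ^ 2 := by rw [hD₂, hcomap 2 (by omega) hL2R (by omega)]
  obtain ⟨ψ₂, hψ₂, hψ₂v⟩ := extend_of_chain hS hF hRn 3 Dc rfl rfl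
    (fun i hi => by
      interval_cases i
      · exact bot_le
      · exact Subgroup.comap_mono (Subgroup.lowerCentralSeries_antitone _ (show 2 ≤ 3 by omega))
      · exact le_top)
    (fun i hi => by
      interval_cases i
      · simp [Dc, hc1]
      · show Nat.card D₂ = p * Nat.card D₁
        rw [hc1, hc2, pow_two]
      · show Nat.card (⊤ : Subgroup R) = p * Nat.card D₂
        rw [Subgroup.card_top, hcard3, hc2, ← pow_succ'])
    (fun i hi => by
      interval_cases i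
      · intro σ _ e he
        rw [show Dc 0 = ⊥ from rfl, Subgroup.mem_bot] at he ⊢
        rw [he, map_one]
      · exact fun σ _ => hz1 σ
      · exact hz2
      · exact fun σ _ e _ => Subgroup.mem_top _)
    hψ
  -- `N` is normal
  have hNn : normalizerIn S N = S := by
    refine le_antisymm (normalizerIn_le N) fun s hs => ?_
    refine (mem_normalizerIn_iff (normalizerIn_le R) ⟨s, hs⟩).2 fun w hw => ?_
    haveI : ((N.subgroupOf S)).Normal := Subgroup.normal_of_index_eq_minFac_card (by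
      have := Subgroup.card_mul_index (N.subgroupOf S)
      rw [Nat.card_congr (Subgroup.subgroupOfEquivOfLe (normalizerIn_le R)).toEquiv, hNc.1, hcard,
        pow_succ p 4] at this
      rw [Nat.eq_of_mul_eq_mul_left (pow_pos hp'.pos 4) this, hcard, Nat.Prime.pow_minFac hp']
      norm_num)
    exact (inferInstance : (N.subgroupOf S).Normal).conj_mem w hw _
  have hNS' : N ≤ S := normalizerIn_le R
  set κ := Subgroup.inclusion hNS' with hκ
  have hκN : ∀ n : N, κ n ∈ N.subgroupOf S := fun n => n.2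
  have hNdec : ∀ w ∈ N.subgroupOf S, ∃ l ∈ L 1, ∃ i : ℤ, w = l * x ^ i := fun w hw => by
    obtain ⟨l, hl, y, hy, rfl⟩ := Subgroup.mem_sup_of_normal_left.1 (hNc.2.le hw)
    obtain ⟨i, rfl⟩ := Subgroup.mem_zpowers_iff.1 hy
    exact ⟨l, hl, i, rfl⟩
  have hNL2 : ∀ u ∈ N.subgroupOf S, ∀ v ∈ N.subgroupOf S, ⁅u, v⁆ ∈ L 2 := by
    intro u hu v hv
    obtain ⟨l, hl, i, rfl⟩ := hNdec u hu
    obtain ⟨l', hl', j, rfl⟩ := hNdec v hv
    have h : ∀ {w : S}, w ∈ L 1 → ∀ g : S, Commute (w : S ⧸ L 2) (g : S ⧸ L 2) := fun hw g => central_mod hw g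
    refine mk_commute_iff.2 ?_
    rw [QuotientGroup.mk_mul, QuotientGroup.mk_mul, QuotientGroup.mk_zpow, QuotientGroup.mk_zpow]
    exact ((h hl l').mul_right ((h hl x).zpow_right j)).mul_left
      (((h hl' x).symm.zpow_left i).mul_right ((Commute.refl _).zpow_zpow i j))
  have hs2N : (s₂ : Ω) ∈ N := hL1N s₂ H.s₂_mem
  have hs3N : (s₃ : Ω) ∈ N := le_normalizerIn hRS hgR
  have hkey : ∀ σ : MulAut N, κ (σ ⟨s₃, hs3N⟩) ∈ L 2 := fun σ => by
    rw [show (⟨s₃, hs3N⟩ : N) = ⁅(⟨s₂, hs2N⟩ : N), ⟨x, hxN⟩⁆ from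
      Subgroup.inclusion_injective hNS' (by rw [map_commutatorElement]; rfl), map_commutatorElement,
      map_commutatorElement]
    exact hNL2 _ (hκN _) _ (hκN _)
  set M₁ := (L 3).comap κ with hM₁
  set M₂ := (L 2).comap κ with hM₂
  set M₃ := (L 1).comap κ with hM₃
  have hm1 : ∀ σ : MulAut N, ∀ e ∈ M₁, σ e ∈ M₁ := fun σ e he => by
    have hz4 : z ∉ L 4 := fun h' => H.z_not_one (by rwa [L_four D, Subgroup.mem_bot] at h')
    have h := D.cover (j := 3) (by omega) H.z_mem hz4 (he : κ e ∈ L 3)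
    rw [show 3 + 1 = 4 from rfl, L_four D, sup_bot_eq] at h
    obtain ⟨i, hi⟩ := Subgroup.mem_zpowers_iff.1 h
    have he' : e = ⁅(⟨s₃, hs3N⟩ : N), ⟨x, hxN⟩⁆ ^ i :=
      Subgroup.inclusion_injective hNS' (by rw [map_zpow, map_commutatorElement]; exact hi.symm)
    show κ (σ e) ∈ L 3
    rw [he', map_zpow, map_zpow, map_commutatorElement, map_commutatorElement]
    exact Subgroup.zpow_mem _ (L_comm 2 0 (hkey σ) (Subgroup.mem_top _)) i
  have hm2 : ∀ σ : MulAut N, ∀ e ∈ M₂, σ e ∈ M₂ := fun σ e he => by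
    obtain ⟨j, w', hw', hjw⟩ := hL2 (he : κ e ∈ L 2)
    have hwN : (w' : Ω) ∈ N := le_normalizerIn hRS (hL3R hw')
    have he' : e = (⟨s₃, hs3N⟩ : N) ^ j * ⟨w', hwN⟩ :=
      Subgroup.inclusion_injective hNS' (by rw [map_mul, map_zpow]; exact hjw)
    show κ (σ e) ∈ L 2
    rw [he', map_mul, map_mul, map_zpow, map_zpow]
    exact Subgroup.mul_mem _ (Subgroup.zpow_mem _ (hkey σ) j)
      (Subgroup.lowerCentralSeries_antitone _ (show 2 ≤ 3 by omega) (hm1 σ _ (show κ ⟨w', hwN⟩ ∈ L 3 from hw')))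
  have hm3 : ∀ σ : MulAut N, ∀ e ∈ M₃, σ e ∈ M₃ := fun σ e he => by
    obtain ⟨l, hl, i, hli⟩ := hNdec _ (hκN (σ e))
    show κ (σ e) ∈ L 1
    suffices hi : (p : ℤ) ∣ i by rw [hli, hx0 hi, mul_one]; exact hl
    set w : N := σ⁻¹ ⟨s₃, hs3N⟩ with hw
    have hw2 : κ w ∈ L 2 := hkey σ⁻¹
    have h0 : e * w = w * e := Subgroup.inclusion_injective hNS' (by
      rw [map_mul, map_mul]; exact (hL1ab _ he _ hw2).eq)
    have h1 := congrArg (fun y => κ (σ y)) h0
    simp only [map_mul, hw, MulAut.apply_inv_self] at h1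
    rw [hli] at h1
    have hs3 : κ ⟨s₃, hs3N⟩ = s₃ := rfl
    rw [hs3] at h1
    have h2 : Commute (x ^ i) s₃ := by
      have := (show Commute (l * x ^ i) s₃ from h1)
      have h3 := Commute.mul_left (hL1ab l hl s₃ H.s₃_mem).inv_left this
      rwa [inv_mul_cancel_left] at h3
    refine H.z_pow ?_
    rw [← hs3x i]
    exact commutatorElement_eq_one_iff_commute.2 h2.symm
  have hcomap2 : ∀ j, 1 ≤ j → j ≤ 4 → Nat.card ((L j).comap κ) = p ^ (4 - j) := by
    intro j hj hj4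
    rw [← L_card D hj hj4, ← Subgroup.card_map_of_injective (Subgroup.inclusion_injective hNS'),
      Subgroup.map_comap_eq, inf_of_le_right]
    intro w hw
    exact ⟨⟨w, hL1N w (Subgroup.lowerCentralSeries_antitone _ hj hw)⟩, rfl⟩
  let Mc : ℕ → Subgroup N
    | 0 => ⊥
    | 1 => M₁
    | 2 => M₂
    | 3 => M₃
    | _ => ⊤
  obtain ⟨ψ₃, -, hψ₃v⟩ := extend_of_chain hS hF (fullyNormalized_of_normalizer_eq hNS' hNn) 4 Mc rfl rfl
    (fun i hi => by
      interval_cases i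
      · exact bot_le
      · exact Subgroup.comap_mono (Subgroup.lowerCentralSeries_antitone _ (show 2 ≤ 3 by omega))
      · exact Subgroup.comap_mono (Subgroup.lowerCentralSeries_antitone _ (show 1 ≤ 2 by omega))
      · exact le_top)
    (fun i hi => by
      interval_cases i
      · show Nat.card M₁ = p * Nat.card (⊥ : Subgroup N)
        rw [hM₁, hcomap2 _ (by omega) (by omega), Subgroup.card_bot, mul_one, show 4 - 3 = 1 from rfl,
          pow_one]
      · show Nat.card M₂ = p * Nat.card M₁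
        rw [hM₁, hM₂, hcomap2 _ (by omega) (by omega), hcomap2 _ (by omega) (by omega), show 4 - 3 = 1 from rfl,
          show 4 - 2 = 1 + 1 from rfl, pow_succ', pow_one]
      · show Nat.card M₃ = p * Nat.card M₂
        rw [hM₂, hM₃, hcomap2 _ (by omega) (by omega), hcomap2 _ (by omega) (by omega), show 4 - 2 = 2 from rfl,
          show 4 - 1 = 2 + 1 from rfl, pow_succ']
      · show Nat.card (⊤ : Subgroup N) = p * Nat.card M₃
        rw [Subgroup.card_top, hNc.1, hM₃, hcomap2 _ (by omega) (by omega), show 4 - 1 = 3 from rfl, ← pow_succ'])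
    (fun i hi => by
      interval_cases i
      · intro σ _ e he
        rw [show Mc 0 = ⊥ from rfl, Subgroup.mem_bot] at he ⊢
        rw [he, map_one]
      · exact fun σ _ => hm1 σ
      · exact fun σ _ => hm2 σ
      · exact fun σ _ => hm3 σ
      · exact fun σ _ e _ => Subgroup.mem_top _)
    hψ₂
  -- down to `S`
  let eS : normalizerIn S N ≃* S := MulEquiv.subgroupCongr hNn
  refine ⟨(eS.symm.trans ψ₃).trans eS, ?_⟩
  have hval : ∀ (w : S) (hwR : (w : Ω) ∈ R),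
      ((((eS.symm.trans ψ₃).trans eS) w : S) : Ω) = ((ψ ⟨w, hwR⟩ : R) : Ω) := by
    intro w hwR
    have h1 := congrArg (fun y : normalizerIn S N => (y : Ω)) (hψ₃v ⟨w, le_normalizerIn hRS hwR⟩)
    have h2 := congrArg (fun y : N => (y : Ω)) (hψ₂v ⟨w, hwR⟩)
    exact h1.trans h2
  refine ⟨?_, ?_⟩
  · refine Subtype.ext ?_
    rw [hval z (Subgroup.mem_sup_left hzE), hψe ⟨z, hzE⟩ (Subgroup.mem_sup_left hzE), hdz,
      SubgroupClass.coe_zpow, SubgroupClass.coe_zpow]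
  · set τ := (eS.symm.trans ψ₃).trans eS
    have hτ2 : τ s₃ ∈ L 2 := Subgroup.characteristic_iff_le_comap.1 inferInstance τ H.s₃_mem
    refine hEL2 _ ?_ (Subgroup.mul_mem _ hτ2 (Subgroup.inv_mem _ (Subgroup.zpow_mem _ H.s₃_mem _)))
    rw [Subgroup.coe_mul, InvMemClass.coe_inv, SubgroupClass.coe_zpow, hval s₃ hgR, hψg,
      mul_inv_cancel_right]
    exact r₀.2

/-- For `p ≠ 3, 7` a pearl forces the two-step centralizer to be abelian. -/
theorem pearl_abelian (hS : IsPGroup p S) (hF : F.IsSaturated p) (hp3 : p ≠ 3) (hp7 : p ≠ 7) (hp2 : p ≠ 2)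
    (hcard : Nat.card S = p ^ 5) {E : Subgroup Ω} (hE : F.IsEssential p E) (hEc : Nat.card E = p ^ 2)
    (hel : IsElementaryAbelian p E) :
    ∃ A : Subgroup S, A.index = p ∧ ∀ a ∈ A, ∀ b ∈ A, a * b = b * a := by
  classical
  have hp' := hp.out
  have hES := hE.1.1
  have hC : centralizerIn S E ≤ E := hE.1.2 E (isConj_refl hES)
  obtain ⟨D, hgens⟩ := exists_gens hS hcard (lcs_three_ne_bot hS hcard hES hEc hC)
  set A := twoStep (S := S) 1
  -- an element of `E` outside `A`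
  obtain ⟨x, hxE, hxA⟩ : ∃ x : S, (x : Ω) ∈ E ∧ x ∉ A := by
    by_contra h
    push Not at h
    obtain ⟨x₁, hx₁, hx₁'⟩ := SetLike.exists_of_lt (D.lt (j := 2) (by omega) (by omega))
    have hle : L 2 ≤ E.subgroupOf S := by
      intro l hl
      refine hC (mem_centralizerIn.2 ⟨l.2, fun e he => ?_⟩)
      have he' : (⟨e, hES he⟩ : S) ∈ A := h ⟨e, hES he⟩ he
      obtain ⟨x₀, hx₀⟩ : ∃ x₀ : S, x₀ ∉ A := by
        by_contra hc
        push Not at hc
        exact D.twoStep_ne_top (j := 1) (by omega) ((Subgroup.eq_top_iff' _).2 hc)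
      obtain ⟨s₁, H⟩ := hgens x₀ hx₀
      exact congrArg Subtype.val (commutatorElement_eq_one_iff_mul_comm.1 (H.comm_A_L2 he' hl))
    have hEL : E.subgroupOf S = L 2 := (Subgroup.eq_of_le_of_card_ge hle (by
      rw [Nat.card_congr (Subgroup.subgroupOfEquivOfLe hES).toEquiv, hEc, L_card D (by omega) (by omega)])).symm
    have hle1 : L 1 ≤ E.subgroupOf S := fun l hl => hC (mem_centralizerIn.2 ⟨l.2, fun e he => by
      have he2 : (⟨e, hES he⟩ : S) ∈ L 2 := hEL.le (show (⟨e, hES he⟩ : S) ∈ E.subgroupOf S from he)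
      have h12 : ⁅l, (⟨e, hES he⟩ : S)⁆ = 1 := by
        have := L_comm 1 2 hl he2
        rwa [show 1 + 2 + 1 = 4 from rfl, L_four D, Subgroup.mem_bot] at this
      exact (congrArg Subtype.val (commutatorElement_eq_one_iff_mul_comm.1 h12)).symm⟩)
    have := Subgroup.card_le_of_le (hle1.trans hEL.le)
    rw [L_card D le_rfl (by omega), L_card D (by omega) (by omega)] at this
    have := (Nat.pow_le_pow_iff_right hp'.one_lt).1 this
    omega
  obtain ⟨s₁, H⟩ := hgens x hxA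
  refine ⟨A, H.idx, H.abelian ?_⟩
  obtain ⟨γ, hγ⟩ := H.comm_s
  have hzE : ((⁅⁅⁅s₁, x⁆, x⁆, x⁆ : S) : Ω) ∈ E := hC (mem_centralizerIn.2 ⟨(_ : S).2, fun e he =>
    congrArg Subtype.val (Subgroup.mem_center_iff.1 (H.L3_center H.z_mem) ⟨e, hES he⟩)⟩)
  haveI : NeZero p := ⟨hp'.ne_zero⟩
  have htu : (p : ℤ) ∣ (2 : ℤ) * ((((2 : ℤ) : ZMod p)⁻¹).val : ℤ) - 1 := by
    rw [← ZMod.intCast_zmod_eq_zero_iff_dvd, Int.cast_sub, Int.cast_mul, Int.cast_one, Int.cast_natCast,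
      ZMod.natCast_zmod_val, mul_inv_cancel₀, sub_self]
    rw [Ne, ZMod.intCast_zmod_eq_zero_iff_dvd]
    intro h
    exact hp2 ((Nat.prime_dvd_prime_iff_eq hp' Nat.prime_two).1 (by exact_mod_cast h))
  obtain ⟨τ, hτz, hτs⟩ := pearl_aut hS hF hcard hE hEc hel hxE H hzE htu
  obtain ⟨k, m, -, hs3, hz3, hdvd, -⟩ := H.aut hγ τ
  have h1 : (p : ℤ) ∣ k * m ^ 3 - 2 := H.z_pow (by rw [zpow_sub, ← hz3, hτz, mul_inv_cancel])
  have h2 : (p : ℤ) ∣ k * m ^ 2 - 2 * 2 := L_index D (j := 2) (by omega) (by omega) H.s₃_mem H.s₃_not_mem (by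
    have := Subgroup.mul_mem _ (Subgroup.inv_mem _ hs3) hτs
    rwa [mul_inv_rev, inv_inv, ← mul_assoc, inv_mul_cancel_right, ← zpow_sub] at this)
  rw [← ZMod.intCast_zmod_eq_zero_iff_dvd] at h1 h2 hdvd htu
  push_cast at h1 h2 hdvd htu
  rcases zmod_weights (sub_eq_zero.1 htu) (sub_eq_zero.1 h1) (by linear_combination h2) hdvd with h | h
  · rw [hγ]
    obtain ⟨q, hq⟩ := (ZMod.intCast_zmod_eq_zero_iff_dvd _ p).1 h
    rw [hq, zpow_mul, zpow_natCast]
    have hzp := pow_card_eq_one' (x := (⟨_, H.z_mem⟩ : L 3))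
    rw [L_card D (by omega) (by omega), show 4 - 3 = 1 from rfl, pow_one] at hzp
    rw [show ⁅⁅⁅s₁, x⁆, x⁆, x⁆ ^ p = 1 from congrArg Subtype.val hzp, one_zpow]
  · exact absurd (by push_cast; exact h) (weights_two hp3 hp7)

end CfsgLib.Fusion.OrderFive
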