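import Cfsg.Agent.Lib.Fusion.Biset.Park
import Cfsg.Agent.Lib.Fusion.Biset.Existence

/-!
The transfer of the Park group to a quotient `A` of prime exponent on which the system acts trivially:
on the centralizer of a subgroup of the kernel all of whose conjugates have their centralizers in
the kernel it is trivial.
-/

set_option autoImplicit false

namespace CfsgLib.Fusion

open Cfsg Cfsg.FusionSystem MulAction

universe u

/-- A product of values constant on the orbits of a `p`-group and trivial at the fixed points is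
trivial in exponent `p`. -/
theorem prod_eq_one_of_invariant {P O A : Type*} [Group P] [Finite P] [MulAction P O] [Fintype O]
    [CommGroup A] {p : ℕ} [Fact p.Prime] (hP : IsPGroup p P) (hA : ∀ a : A, a ^ p = 1) (f : O → A)
    (hinv : ∀ (v : P) (o : O), f (v • o) = f o) (hfix : ∀ o, (∀ v : P, v • o = o) → f o = 1) :
    ∏ o, f o = 1 := by
  classical
  have : Fintype (orbitRel.Quotient P O) := Fintype.ofFinite _
  rw [← Finset.prod_fiberwise Finset.univ (fun o : O => (Quotient.mk'' o : orbitRel.Quotient P O)) f]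
  refine Finset.prod_eq_one fun q _ => ?_
  obtain ⟨o₀, rfl⟩ := Quotient.mk''_surjective q
  have hconst : ∀ o ∈ (Finset.univ.filter fun o : O =>
      (Quotient.mk'' o : orbitRel.Quotient P O) = Quotient.mk'' o₀), f o = f o₀ := by
    intro o ho
    obtain ⟨v, hv⟩ := Quotient.exact' (Finset.mem_filter.1 ho).2
    rw [← hv]
    exact hinv v o₀
  rw [Finset.prod_congr rfl hconst, Finset.prod_const]
  have hcard : (Finset.univ.filter fun o : O =>
      (Quotient.mk'' o : orbitRel.Quotient P O) = Quotient.mk'' o₀).card =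
      Nat.card (orbit P o₀) := by
    rw [← Fintype.card_subtype, ← Nat.card_eq_fintype_card]
    exact Nat.card_congr (Equiv.subtypeEquivRight fun o =>
      ⟨fun h => Quotient.exact' h, fun h => Quotient.sound' h⟩)
  rw [hcard]
  obtain ⟨m, hm⟩ := hP.card_orbit o₀
  rw [hm]
  rcases Nat.eq_zero_or_pos m with rfl | hm0
  · rw [pow_zero, pow_one]
    refine hfix o₀ fun v => ?_
    have h1 : Nat.card (orbit P o₀) = 1 := by rw [hm, pow_zero]
    obtain ⟨hs, -⟩ := Nat.card_eq_one_iff_unique.1 h1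
    exact congrArg Subtype.val (hs.elim ⟨v • o₀, mem_orbit _ v⟩ ⟨o₀, mem_orbit_self o₀⟩)
  · rw [← Nat.succ_pred_eq_of_pos hm0, pow_succ', pow_mul, hA, one_pow]

variable {Ω : Type u} [Group Ω] {S : Subgroup Ω} {F : FusionSystem S} {p : ℕ}

/-- A twisted diagonal is determined by the first coordinate. -/
theorem twist_fst_injective {R : Subgroup Ω} {φ : R →* Ω} (hφ : φ ∈ F.Hom R)
    {L : Subgroup (↥S × ↥S)} (hT : IsTwist R φ L) {a b : ↥S × ↥S} (ha : a ∈ L) (hb : b ∈ L)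
    (h : a.1 = b.1) : a = b := by
  obtain ⟨ha', ea⟩ := (hT a).1 ha
  obtain ⟨hb', eb⟩ := (hT b).1 hb
  have h1 := F.injective_of_mem hφ ((ea.trans (congrArg Subtype.val h)).trans eb.symm)
  exact Prod.ext h (Subtype.ext (congrArg Subtype.val h1 :))

/-- A transfer homomorphism detects the kernel. -/
structure DetectingTransfer (F : FusionSystem S) (T : Subgroup Ω) (G : Type u) [Group G]
    (ι : S →* G) (A : Type*) [CommGroup A] (τ : G →* A) : Prop where
  conj : ∀ {P : Subgroup Ω} {φ : P →* Ω} (hφ : φ ∈ F.Hom P), ∃ g : G, ∀ x : P,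
    ι ⟨φ x, hom_apply_mem hφ x⟩ * g = g * ι ⟨x, hom_le hφ x.2⟩
  surj : ∀ a : A, ∃ s : S, τ (ι s) = a
  ker : ∀ s : S, τ (ι s) = 1 ↔ (s : Ω) ∈ T
  centralizer : ∀ (P : Subgroup Ω) (hP : P ≤ S), P ≤ T →
    (∀ P', F.IsConj P P' → centralizerIn S P' ≤ T) →
    ∀ g : G, (∀ v : P, ι ⟨v, hP v.2⟩ * g = g * ι ⟨v, hP v.2⟩) → τ g = 1

/-- A detecting transfer for a quotient of prime order. -/
theorem exists_detectingTransfer [Fact p.Prime] [Finite S] (hS : IsPGroup p S)
    (hF : F.IsSaturated p) {T : Subgroup Ω} {A : Type u} [CommGroup A] [Finite A]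
    (hA : ∀ a : A, a ^ p = 1) (χ : S →* A) (hsurj : Function.Surjective χ)
    (hker : ∀ s : S, χ s = 1 ↔ (s : Ω) ∈ T)
    (hst : ∀ {P : Subgroup Ω} {φ : P →* Ω} (hφ : φ ∈ F.Hom P) (x : P),
      χ ⟨φ x, hom_apply_mem hφ x⟩ = χ ⟨x, hom_le hφ x.2⟩) :
    ∃ (G : Type u) (_ : Group G) (_ : Finite G) (ι : S →* G) (τ : G →* A),
      DetectingTransfer F T G ι A τ := by
  classical
  obtain ⟨X, i, j, hX, n, hn, hpn⟩ := exists_charBiset (F := F) hS hF
  let _ : MulAction S X := rightAct S X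
  have hc : ∀ (g : parkGroup S X) (b : S) (x : X), g • b • x = b • g • x := fun g b x => g.2 b x
  have hfree : ∀ (b : S) (x : X), b • x = x → b = 1 := fun b x h => hX.right_free b x h
  have : Fintype (orbitRel.Quotient S X) := Fintype.ofFinite _
  let τ := FreeTransfer.transferHom (G := parkGroup S X) hfree Quotient.out
    (fun o => o.out_eq') χ hc
  have hcard : Fintype.card (orbitRel.Quotient S X) = n := by
    rw [← Nat.card_eq_fintype_card]
    exact Nat.eq_of_mul_eq_mul_left Nat.card_pos ((card_eq_card_mul_orbits hfree).symm.trans hn)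
  -- the values on `S`
  have hτ : ∀ a : S, τ (parkEmb S X a) = χ a⁻¹ ^ n := by
    intro a
    rw [← hcard]
    refine FreeTransfer.transferHom_eq_pow' hfree _ _ _ hc fun d x c hcx => ?_
    rw [← map_pow] at hcx
    have hb' : ((1, c) : ↥S × ↥S) • x = ((a ^ d, 1) : ↥S × ↥S) • x := hcx
    have hfix : ((a ^ d, c⁻¹) : ↥S × ↥S) • x = x := by
      rw [show ((a ^ d, c⁻¹) : ↥S × ↥S) = ((1, c⁻¹) : ↥S × ↥S) * (a ^ d, 1) by
        rw [Prod.mk_mul_mk, one_mul, mul_one], mul_smul, ← hb', smul_smul, Prod.mk_mul_mk,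
        one_mul, inv_mul_cancel]
      exact one_smul _ x
    obtain ⟨R, φ, hφ, hT⟩ := hX.twisted x
    obtain ⟨hbR, e⟩ := (hT _).1 (mem_stabilizer_iff.2 hfix)
    have h := hst hφ ⟨_, hbR⟩
    rw [show (⟨φ ⟨_, hbR⟩, hom_apply_mem hφ _⟩ : S) = a ^ d from Subtype.ext e] at h
    have h' : χ (a ^ d) = χ c⁻¹ := h
    rw [map_pow, map_inv] at h'
    rw [map_inv, inv_pow, h', inv_inv]
  have hcop : Nat.Coprime p n := (Fact.out : p.Prime).coprime_iff_not_dvd.2 hpn
  have hpowinj : ∀ a : A, a ^ n = 1 → a = 1 := fun a ha =>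
    orderOf_eq_one_iff.1 (Nat.eq_one_of_dvd_coprimes hcop
      (orderOf_dvd_of_pow_eq_one (hA a)) (orderOf_dvd_of_pow_eq_one ha))
  refine ⟨parkGroup S X, inferInstance, inferInstance, parkEmb S X, τ,
    fun hφ => hX.exists_conj hφ, fun a => ?_, fun s => ?_, ?_⟩
  · have hinj : Function.Injective fun b : A => b⁻¹ ^ n := fun b c h => by
      have : (b⁻¹ * c) ^ n = 1 := by
        simp only at h
        rw [mul_pow, h, ← mul_pow, inv_mul_cancel, one_pow]
      exact inv_mul_eq_one.1 (hpowinj _ this)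
    obtain ⟨b, hb⟩ := (Finite.injective_iff_surjective.1 hinj) a
    obtain ⟨s, rfl⟩ := hsurj b
    exact ⟨s, by rw [hτ, map_inv]; exact hb⟩
  · rw [hτ, map_inv, ← hker]
    exact ⟨fun h => inv_eq_one.1 (hpowinj _ h), fun h => by rw [h, inv_one, one_pow]⟩
  intro P hP hPT htight g hg
  have hfinP := finite_le hP
  let ι₁ : ↥P × ↥S →* ↥S × ↥S := (Subgroup.inclusion hP).prodMap (MonoidHom.id S)
  let _ : MulAction (↥P × ↥S) X := MulAction.compHom X ι₁
  let ψ : ↥P × ↥S →* A := χ.comp (MonoidHom.snd P S)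
  have hchiP : ∀ v : P, χ ⟨v, hP v.2⟩ = 1 := fun v => (hker _).2 (hPT v.2)
  -- stabilisers lie in the kernel
  have hstab : ∀ (x : X) (k : ↥P × ↥S), k • x = x → ψ k = 1 := by
    intro x k hk
    obtain ⟨R, φ, hφ, hT⟩ := hX.twisted x
    obtain ⟨hbR, e⟩ := (hT (ι₁ k)).1 (mem_stabilizer_iff.2 hk)
    have h := hst hφ ⟨_, hbR⟩
    rw [show (⟨φ ⟨_, hbR⟩, hom_apply_mem hφ _⟩ : S) = ⟨k.1, hP k.1.2⟩ from Subtype.ext e, hchiP] at h
    exact h.symm
  let Full : X → Prop := fun x => ∀ v : P, ∃ b : S, ((v, b) : ↥P × ↥S) • x = x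
  -- normalisers of full stabilisers lie in the kernel
  have hnorm : ∀ (x : X) (k : ↥P × ↥S), Full x →
      (∀ m : ↥P × ↥S, m • x = x → (k * m * k⁻¹) • x = x) → ψ k = 1 := by
    intro x k hfull hk
    obtain ⟨R, φ, hφ, hT⟩ := hX.twisted x
    have hpart : ∀ v : P, ∃ (b : S) (hb : (b : Ω) ∈ R),
        ((v, b) : ↥P × ↥S) • x = x ∧ φ ⟨b, hb⟩ = (v : Ω) := by
      intro v
      obtain ⟨b, hb⟩ := hfull v
      obtain ⟨hbR, e⟩ := (hT (ι₁ (v, b))).1 (mem_stabilizer_iff.2 hb)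
      exact ⟨b, hbR, hb, e⟩
    obtain ⟨ψ', hψ', -, hl, -⟩ := exists_inv hφ rfl
    have hPR : P ≤ φ.range := fun v hv => by
      obtain ⟨b, hb, -, e⟩ := hpart ⟨v, hv⟩
      exact ⟨⟨b, hb⟩, e⟩
    set ρ := ψ'.comp (Subgroup.inclusion hPR) with hρ
    have hconj : F.IsConj P ρ.range := ⟨ρ, restrict_mem hψ' hPR, rfl⟩
    obtain ⟨b, hb, hbx, hbe⟩ := hpart k.1
    suffices hc : ((b⁻¹ * k.2 : S) : Ω) ∈ centralizerIn S ρ.range by
      have h1 := (hker _).2 (htight _ hconj hc)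
      rw [map_mul, map_inv, inv_mul_eq_one] at h1
      show χ k.2 = 1
      rw [← h1, ← hst hφ ⟨b, hb⟩,
        show (⟨φ ⟨b, hb⟩, hom_apply_mem hφ _⟩ : S) = ⟨k.1, hP k.1.2⟩ from Subtype.ext hbe]
      exact hchiP k.1
    refine mem_centralizerIn.2 ⟨(b⁻¹ * k.2 : S).2, ?_⟩
    rintro y ⟨u, rfl⟩
    obtain ⟨c, hcR, hcx, hce⟩ := hpart u
    have hy : ρ u = (c : Ω) := by
      show ψ' (Subgroup.inclusion hPR u) = (c : Ω)
      rw [show Subgroup.inclusion hPR u = ⟨φ ⟨c, hcR⟩, ⟨⟨c, hcR⟩, rfl⟩⟩ from Subtype.ext hce.symm]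
      exact hl _ _
    have h3 : ι₁ (k * (u, c) * k⁻¹) = ι₁ ((k.1, b) * (u, c) * (k.1, b)⁻¹) := by
      refine twist_fst_injective hφ hT (mem_stabilizer_iff.2 (hk _ hcx))
        (mem_stabilizer_iff.2 ?_) rfl
      show ((k.1, b) * (u, c) * (k.1, b)⁻¹ : ↥P × ↥S) • x = x
      exact (stabilizer (↥P × ↥S) x).mul_mem ((stabilizer (↥P × ↥S) x).mul_mem hbx hcx)
        ((stabilizer (↥P × ↥S) x).inv_mem hbx)
    have h4 : k.2 * c * k.2⁻¹ = b * c * b⁻¹ := congrArg Prod.snd h3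
    have h5 : b⁻¹ * k.2 * c = c * (b⁻¹ * k.2) := by
      calc b⁻¹ * k.2 * c = b⁻¹ * (k.2 * c * k.2⁻¹) * k.2 := by group
        _ = c * (b⁻¹ * k.2) := by rw [h4]; group
    rw [hy]
    exact (congrArg Subtype.val h5).symm
  let Good : X → X → ↥P × ↥S → Prop := fun x y k =>
    stabilizer (↥P × ↥S) (k • y) = stabilizer (↥P × ↥S) x ∧ (Full x ∨ k • y = x)
  have hfullk : ∀ (x : X) (k : ↥P × ↥S), Full x → Full (k • x) := by
    intro x k hx v
    obtain ⟨b, hb⟩ := hx (k.1⁻¹ * v * k.1)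
    refine ⟨k.2 * b * k.2⁻¹, ?_⟩
    have he : ((v, k.2 * b * k.2⁻¹) : ↥P × ↥S) = k * (k.1⁻¹ * v * k.1, b) * k⁻¹ := by
      ext <;> simp [mul_assoc]
    rw [he, mul_smul, mul_smul, inv_smul_smul, hb]
  have hfulle : ∀ x y, stabilizer (↥P × ↥S) x = stabilizer (↥P × ↥S) y → Full x → Full y := by
    intro x y he hx v
    obtain ⟨b, hb⟩ := hx v
    exact ⟨b, mem_stabilizer_iff.1 (he ▸ mem_stabilizer_iff.2 hb)⟩
  have hGood_inv : ∀ x y k, Good x y k → Good y x k⁻¹ := by
    rintro x y k ⟨he, h⟩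
    refine ⟨?_, ?_⟩
    · rw [stabilizer_smul_eq_stabilizer_map_conj, ← he, ← stabilizer_smul_eq_stabilizer_map_conj,
        inv_smul_smul]
    · rcases h with h | h
      · left
        have := hfullk _ k⁻¹ (hfulle _ _ he.symm h)
        rwa [inv_smul_smul] at this
      · right; rw [← h, inv_smul_smul]
  have hGood_trans : ∀ x y z k m, Good x y k → Good y z m → Good x z (k * m) := by
    rintro x y z k m ⟨he, h⟩ ⟨he', h'⟩
    refine ⟨?_, ?_⟩
    · rw [mul_smul, stabilizer_smul_eq_stabilizer_map_conj, he',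
        ← stabilizer_smul_eq_stabilizer_map_conj, he]
    · rcases h' with h' | h'
      · exact Or.inl (hfulle _ _ he (hfullk y k h'))
      · rcases h with h | h
        · exact Or.inl h
        · exact Or.inr (by rw [mul_smul, h', h])
  let rel : Setoid X :=
    { r := fun x y => ∃ k, Good x y k
      iseqv := ⟨fun x => ⟨1, by rw [one_smul], Or.inr (one_smul _ x)⟩,
        fun {x y} ⟨k, hk⟩ => ⟨k⁻¹, hGood_inv x y k hk⟩,
        fun {x y z} ⟨k, hk⟩ ⟨m, hm⟩ => ⟨k * m, hGood_trans x y z k m hk hm⟩⟩ }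
  have hrep : ∀ x : X, ∃ k, Good x (Quotient.out (Quotient.mk rel x)) k := fun x =>
    Setoid.symm (Quotient.mk_out (s := rel) x)
  choose kk hkk using hrep
  let Φ : X → A := fun x => ψ (kk x)
  have hwd : ∀ x k, Good x (Quotient.out (Quotient.mk rel x)) k → ψ k = Φ x := by
    intro x k hk
    set y := Quotient.out (Quotient.mk rel x)
    obtain ⟨he, h⟩ := hGood_trans y x y (kk x)⁻¹ k (hGood_inv _ _ _ (hkk x)) hk
    have h1 : ψ ((kk x)⁻¹ * k) = 1 := by
      rcases h with h | h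
      · refine hnorm y _ h fun m hm => ?_
        refine mem_stabilizer_iff.1 ?_
        rw [← he, stabilizer_smul_eq_stabilizer_map_conj]
        exact ⟨m, mem_stabilizer_iff.2 hm, rfl⟩
      · exact hstab y _ h
    rw [map_mul, map_inv, inv_mul_eq_one] at h1
    exact h1.symm
  have hsmul : ∀ (k : ↥P × ↥S) (x : X), Φ (k • x) = ψ k * Φ x := by
    intro k x
    have hG : Good (k • x) x k := ⟨rfl, Or.inr rfl⟩
    have hmk : Quotient.mk rel (k • x) = Quotient.mk rel x := Quotient.sound ⟨k, hG⟩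
    rw [← map_mul]
    refine (hwd _ _ ?_).symm
    rw [hmk]
    exact hGood_trans _ _ _ _ _ hG (hkk x)
  have hgfix : ∀ (k : ↥P × ↥S) (x : X), (g : Equiv.Perm X) (k • x) = k • (g : Equiv.Perm X) x := by
    intro k x
    show (g : Equiv.Perm X) (((⟨k.1, hP k.1.2⟩, k.2) : ↥S × ↥S) • x) = _
    rw [smul_split]
    have h1 := congrArg (fun w : parkGroup S X => (w : Equiv.Perm X) (((1, k.2) : ↥S × ↥S) • x)) (hg k.1)
    refine h1.symm.trans ?_
    show ((⟨k.1, hP k.1.2⟩, 1) : ↥S × ↥S) • (g : Equiv.Perm X) (((1, k.2) : ↥S × ↥S) • x) =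
      ((⟨k.1, hP k.1.2⟩, k.2) : ↥S × ↥S) • (g : Equiv.Perm X) x
    rw [g.2, ← smul_split]
  let f₀ : X → A := fun x => Φ ((g : Equiv.Perm X) x) / Φ x
  have hf₀ : ∀ (k : ↥P × ↥S) x, f₀ (k • x) = f₀ x := fun k x => by
    show Φ ((g : Equiv.Perm X) (k • x)) / Φ (k • x) = _
    rw [hgfix, hsmul, hsmul, mul_div_mul_left_eq_div]
  have hf₀full : ∀ x, Full x → f₀ x = 1 := by
    intro x hx
    have he : stabilizer (↥P × ↥S) ((g : Equiv.Perm X) x) = stabilizer (↥P × ↥S) x := by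
      ext k
      rw [mem_stabilizer_iff, mem_stabilizer_iff, ← hgfix]
      exact (g : Equiv.Perm X).injective.eq_iff
    have hG : Good ((g : Equiv.Perm X) x) x 1 :=
      ⟨by rw [one_smul, he], Or.inl (hfulle _ _ he.symm hx)⟩
    show Φ ((g : Equiv.Perm X) x) / Φ x = 1
    rw [div_eq_one]
    refine (hwd _ _ ?_).symm
    rw [show Quotient.mk rel ((g : Equiv.Perm X) x) = Quotient.mk rel x from Quotient.sound ⟨1, hG⟩]
    simpa using hGood_trans _ _ _ _ _ hG (hkk x)
  have hS1 : ∀ (b : S) (x : X), b • x = ((1, b) : ↥P × ↥S) • x := fun b x => by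
    show ((1, b) : ↥S × ↥S) • x = ι₁ (1, b) • x
    congr 1
  let O := orbitRel.Quotient S X
  let f : O → A := fun o => f₀ o.out
  have hf : ∀ x, f (Quotient.mk'' x) = f₀ x := by
    intro x
    obtain ⟨b, hb⟩ := Quotient.exact' (Quotient.out_eq' (Quotient.mk'' x : O))
    show f₀ (Quotient.mk'' x : O).out = f₀ x
    rw [← hb]
    show f₀ (b • x) = f₀ x
    rw [hS1, hf₀]
  let _ : MulAction P O :=
    { smul := fun v => FreeTransfer.orbMap (θ := (1 : parkGroup S X →* MulAut S))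
        (fun g b w => FreeTransfer.trivialTwist g b w hc) (parkEmb S X ⟨v, hP v.2⟩)
      one_smul := fun o => by
        show FreeTransfer.orbMap _ (parkEmb S X 1) o = o
        rw [map_one, FreeTransfer.orbMap_one]
      mul_smul := fun a b o => by
        show FreeTransfer.orbMap _ (parkEmb S X (⟨a, hP a.2⟩ * ⟨b, hP b.2⟩)) o = _
        rw [map_mul, FreeTransfer.orbMap_mul]; rfl }
  have hPS1 : ∀ (v : P) (x : X), parkEmb S X ⟨v, hP v.2⟩ • x = ((v, 1) : ↥P × ↥S) • x := fun v x => by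
    show ((⟨v, hP v.2⟩, 1) : ↥S × ↥S) • x = ι₁ (v, 1) • x
    congr 1
  have hprod : ∏ o : O, f o = 1 := by
    refine prod_eq_one_of_invariant (hS.to_le hP) hA f ?_ ?_
    · intro v o
      obtain ⟨x, rfl⟩ := Quotient.mk''_surjective o
      show f (Quotient.mk'' (parkEmb S X ⟨v, hP v.2⟩ • x)) = f (Quotient.mk'' x)
      rw [hf, hf, hPS1, hf₀]
    · intro o ho
      obtain ⟨x, rfl⟩ := Quotient.mk''_surjective o
      rw [hf]
      refine hf₀full x fun v => ?_
      obtain ⟨b, hb⟩ := Quotient.exact' (ho v)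
      have hb' : ((1, b) : ↥P × ↥S) • x = ((v, 1) : ↥P × ↥S) • x := by
        rw [← hS1, ← hPS1]; exact hb
      refine ⟨b⁻¹, ?_⟩
      rw [show ((v, b⁻¹) : ↥P × ↥S) = (1, b⁻¹) * (v, 1) by simp, mul_smul, ← hb', smul_smul,
        show ((1, b⁻¹) : ↥P × ↥S) * (1, b) = 1 by simp, one_smul]
  -- compare with the transfer
  set hθ : ∀ (g : parkGroup S X) (b : S) (w : X),
      g • b • w = (1 : parkGroup S X →* MulAut S) g b • g • w :=
    fun g b w => FreeTransfer.trivialTwist g b w hc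
  set pm : O → O := FreeTransfer.orbMap hθ g
  have hterm : ∀ o : O, χ (FreeTransfer.delta hθ Quotient.out (fun o => o.out_eq') g o) =
      f o * (Φ o.out / Φ (pm o).out) := by
    intro o
    set d := FreeTransfer.delta hθ Quotient.out (fun o : O => o.out_eq') g o
    have h := FreeTransfer.delta_spec hθ Quotient.out (fun o : O => o.out_eq') g o
    have h' : Φ ((g : Equiv.Perm X) o.out) = χ d * Φ (pm o).out := by
      have h2 : (g : Equiv.Perm X) o.out = d • (pm o).out := h.symm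
      rw [h2, hS1, hsmul]
      rfl
    show _ = (Φ ((g : Equiv.Perm X) o.out) / Φ o.out) * _
    rw [h', div_mul_div_cancel, mul_div_cancel_right]
  show τ g = 1
  rw [FreeTransfer.transferHom_apply]
  show ∏ o : O, χ (FreeTransfer.delta hθ Quotient.out (fun o => o.out_eq') g o) = 1
  rw [Finset.prod_congr rfl fun o _ => hterm o, Finset.prod_mul_distrib, hprod, one_mul,
    Finset.prod_div_distrib,
    (FreeTransfer.orbMap_bijective hθ g).prod_comp (fun o : O => Φ o.out), div_self']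

end CfsgLib.Fusion
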