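import Cfsg.Agent.Lib.Classical.Unitary.Order
import Cfsg.Agent.Lib.Fusion.PSLn
import Mathlib.LinearAlgebra.Matrix.Block

/-!
# Root elements of the unitary group of the antidiagonal form

`ei u w z` is `x ↦ x + (u,x) w - (w,x) u + z (u,x) u` for an isotropic `u` orthogonal to `w` with
`z + σ z = -(w,w)`; `ent` gives the matrix, `Tri` the stabilizer of the standard flag and `uni`
its unipotent part.
-/

set_option autoImplicit false
set_option linter.unusedSectionVars false

namespace CfsgLib.Fusion.PSU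

open CfsgLib.Classical CfsgLib.Classical.Herm

variable {n : ℕ} {F : Type*} [Field F] {σ : F →+* F}

/-- The antidiagonal form. -/
def revB (σ : F →+* F) (n : ℕ) : (Fin n → F) →ₛₗ[σ] (Fin n → F) →ₗ[F] F :=
  LinearMap.mk₂'ₛₗ σ (RingHom.id F) (fun x y => ∑ k, σ (x k) * y k.rev)
    (fun x x' y => by simp only [← Finset.sum_add_distrib, Pi.add_apply, map_add, add_mul])
    (fun a x y => by simp only [Pi.smul_apply, smul_eq_mul, Finset.mul_sum, map_mul, mul_assoc])
    (fun x y y' => by simp only [← Finset.sum_add_distrib, Pi.add_apply, mul_add])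
    (fun a x y => by
      simp only [Pi.smul_apply, smul_eq_mul, Finset.mul_sum, RingHom.id_apply]
      exact Finset.sum_congr rfl fun k _ => mul_left_comm _ _ _)

theorem revB_apply (x y : Fin n → F) : revB σ n x y = ∑ k, σ (x k) * y k.rev := rfl

/-- The standard vector. -/
abbrev e (j : Fin n) : Fin n → F := Pi.single j 1

theorem e_apply (j a : Fin n) : (e j : Fin n → F) a = if a = j then 1 else 0 :=
  Pi.single_apply _ _ _

theorem e_self (j : Fin n) : (e j : Fin n → F) j = 1 := Pi.single_eq_same _ _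

theorem e_ne {j a : Fin n} (h : a ≠ j) : (e j : Fin n → F) a = 0 := Pi.single_eq_of_ne h _

theorem B_e_left (i : Fin n) (y : Fin n → F) : revB σ n (e i) y = y i.rev := by
  rw [revB_apply, Finset.sum_eq_single i (fun k _ hk => by simp [hk]) (by simp)]
  simp

theorem B_e_right (x : Fin n → F) (j : Fin n) : revB σ n x (e j) = σ (x j.rev) := by
  rw [revB_apply, Finset.sum_eq_single j.rev (fun k _ hk => ?_) (by simp)]
  · simp
  · rw [e_ne (fun h => hk (by rw [← h, Fin.rev_rev])), mul_zero]

theorem B_e_e (i j : Fin n) : revB σ n (e i) (e j) = if j = i.rev then 1 else 0 := by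
  rw [B_e_left, e_apply]
  exact if_congr eq_comm rfl rfl

variable [hσ : Fact (IsInvol σ)]

theorem invol (a : F) : σ (σ a) = a := hσ.out.invol a

theorem isHerm : IsHerm (revB σ n) where
  invol := hσ.out
  symm x y := by
    rw [revB_apply, revB_apply, map_sum,
      ← Equiv.sum_comp (Fin.revPerm (n := n)) fun k => σ (y k) * x k.rev]
    refine Finset.sum_congr rfl fun k _ => ?_
    rw [map_mul, invol, Fin.revPerm_apply, Fin.rev_rev, mul_comm]
  nondeg x hx := by
    funext k
    have h := hx (e k.rev)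
    rw [B_e_right, Fin.rev_rev] at h
    exact (IsInvol.apply_eq_zero_iff (σ := σ)).1 h

theorem B_symm (x y : Fin n → F) : σ (revB σ n x y) = revB σ n y x := isHerm.symm x y

theorem B_zero_symm {x y : Fin n → F} (h : revB σ n x y = 0) : revB σ n y x = 0 :=
  isHerm.eq_zero_symm h

variable (σ n) in
/-- The isometry group. -/
abbrev U : Subgroup ((Fin n → F) ≃ₗ[F] (Fin n → F)) := HU (revB σ n)

/-- The action. -/
def act (g : U n σ) (x : Fin n → F) : Fin n → F := (g : (Fin n → F) ≃ₗ[F] (Fin n → F)) x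

omit hσ in
theorem ext_act {g h : U n σ} (H : ∀ x, act g x = act h x) : g = h := Subtype.ext (LinearEquiv.ext H)

omit hσ in
theorem act_mul (g h : U n σ) (x : Fin n → F) : act (g * h) x = act g (act h x) := rfl

omit hσ in
theorem act_one (x : Fin n → F) : act (1 : U n σ) x = x := rfl

omit hσ in
theorem act_add (g : U n σ) (x y : Fin n → F) : act g (x + y) = act g x + act g y := map_add _ _ _

omit hσ in
theorem act_sub (g : U n σ) (x y : Fin n → F) : act g (x - y) = act g x - act g y := map_sub _ _ _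

omit hσ in
theorem act_smul (g : U n σ) (a : F) (x : Fin n → F) : act g (a • x) = a • act g x := map_smul _ _ _

omit hσ in
theorem act_zero (g : U n σ) : act g (0 : Fin n → F) = 0 := map_zero _

omit hσ in
theorem act_injective (g : U n σ) : Function.Injective (act g) :=
  (g : (Fin n → F) ≃ₗ[F] (Fin n → F)).injective

omit hσ in
theorem B_act (g : U n σ) (x y : Fin n → F) : revB σ n (act g x) (act g y) = revB σ n x y :=
  HU.map_eq g x y

omit hσ in
theorem act_inv_act (g : U n σ) (x : Fin n → F) : act g⁻¹ (act g x) = x := by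
  rw [← act_mul, inv_mul_cancel, act_one]

omit hσ in
theorem act_act_inv (g : U n σ) (x : Fin n → F) : act g (act g⁻¹ x) = x := by
  rw [← act_mul, mul_inv_cancel, act_one]

omit hσ in
theorem B_act_left (g : U n σ) (x y : Fin n → F) :
    revB σ n (act g x) y = revB σ n x (act g⁻¹ y) := by
  rw [← B_act g x, act_act_inv]

/-! ### the elements -/

/-- The conditions on the data of a root element. -/
structure Ok (σ : F →+* F) (u w : Fin n → F) (z : F) : Prop where
  uu : revB σ n u u = 0
  uw : revB σ n u w = 0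
  tr : z + σ z = -revB σ n w w

variable (σ) in
/-- The underlying linear map. -/
def eiLin (u w : Fin n → F) (z : F) : (Fin n → F) →ₗ[F] (Fin n → F) :=
  LinearMap.id + (revB σ n u).smulRight w - (revB σ n w).smulRight u +
    (z • revB σ n u).smulRight u

omit hσ in
theorem eiLin_apply (u w : Fin n → F) (z : F) (x : Fin n → F) :
    eiLin σ u w z x =
      x + revB σ n u x • w - revB σ n w x • u + (z * revB σ n u x) • u := rfl

theorem Ok.wu {u w : Fin n → F} {z : F} (h : Ok σ u w z) : revB σ n w u = 0 := B_zero_symm h.uw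

theorem eiLin_comp {u w w' : Fin n → F} {z z' : F} (h : Ok σ u w z) (h' : Ok σ u w' z')
    (x : Fin n → F) : eiLin σ u w z (eiLin σ u w' z' x) =
      eiLin σ u (w + w') (z + z' - revB σ n w w') x := by
  simp only [eiLin_apply, map_add, map_sub, map_smul, LinearMap.add_apply, h.uu, h'.uw,
    h.wu]
  module

theorem Ok.inv {u w : Fin n → F} {z : F} (h : Ok σ u w z) : Ok σ u (-w) (σ z) := by
  refine ⟨h.uu, by rw [map_neg, h.uw, neg_zero], ?_⟩
  rw [invol, add_comm, h.tr]
  simp

theorem eiLin_inv {u w : Fin n → F} {z : F} (h : Ok σ u w z) (x : Fin n → F) :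
    eiLin σ u w z (eiLin σ u (-w) (σ z) x) = x := by
  rw [eiLin_comp h h.inv]
  have : z + σ z - revB σ n w (-w) = 0 := by rw [h.tr, map_neg]; ring
  rw [this, add_neg_cancel]
  simp [eiLin_apply]

/-- The linear equivalence. -/
noncomputable def eiEquiv {u w : Fin n → F} {z : F} (h : Ok σ u w z) :
    (Fin n → F) ≃ₗ[F] (Fin n → F) :=
  LinearEquiv.ofLinearMap (eiLin σ u w z) (eiLin σ u (-w) (σ z))
    (LinearMap.ext fun x => eiLin_inv h x)
    (LinearMap.ext fun x => by
      have := eiLin_inv h.inv x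
      rwa [neg_neg, invol] at this)

theorem eiEquiv_mem {u w : Fin n → F} {z : F} (h : Ok σ u w z) :
    eiEquiv h ∈ U n σ := by
  intro x y
  show revB σ n (eiLin σ u w z x) (eiLin σ u w z y) = revB σ n x y
  have e1 : revB σ n x w = σ (revB σ n w x) := (B_symm _ _).symm
  have e2 : revB σ n x u = σ (revB σ n u x) := (B_symm _ _).symm
  simp only [eiLin_apply, map_add, map_sub, map_smul, LinearMap.add_apply, LinearMap.sub_apply,
    smul_left, smul_eq_mul, map_mul, h.uu, h.uw, h.wu, e1, e2]
  linear_combination σ (revB σ n u x) * revB σ n u y * h.tr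

open scoped _root_.Classical in
/-- The element `x ↦ x + (u,x) w - (w,x) u + z (u,x) u`. -/
noncomputable def ei (σ : F →+* F) [Fact (IsInvol σ)] (u w : Fin n → F) (z : F) : U n σ :=
  if h : Ok σ u w z then ⟨eiEquiv h, eiEquiv_mem h⟩ else 1

theorem ei_act {u w : Fin n → F} {z : F} (h : Ok σ u w z) (x : Fin n → F) :
    act (ei σ u w z) x = x + revB σ n u x • w - revB σ n w x • u + (z * revB σ n u x) • u := by
  rw [ei, dif_pos h]
  exact eiLin_apply u w z x

theorem Ok.add {u w w' : Fin n → F} {z z' : F} (h : Ok σ u w z) (h' : Ok σ u w' z') :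
    Ok σ u (w + w') (z + z' - revB σ n w w') := by
  refine ⟨h.uu, by rw [map_add, h.uw, h'.uw, add_zero], ?_⟩
  simp only [map_sub, map_add, LinearMap.add_apply, B_symm]
  linear_combination h.tr + h'.tr

theorem ei_mul {u w w' : Fin n → F} {z z' : F} (h : Ok σ u w z) (h' : Ok σ u w' z') :
    ei σ u w z * ei σ u w' z' = ei σ u (w + w') (z + z' - revB σ n w w') :=
  ext_act fun x => by
    rw [act_mul, ei_act h, ei_act h', ei_act (h.add h'), ← eiLin_apply u w' z', ← eiLin_apply u w z,
      eiLin_comp h h', eiLin_apply]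

theorem Ok.zero {u : Fin n → F} (hu : revB σ n u u = 0) : Ok σ u 0 0 :=
  ⟨hu, map_zero _, by simp⟩

theorem ei_zero {u : Fin n → F} (hu : revB σ n u u = 0) : ei σ u 0 0 = 1 :=
  ext_act fun x => by rw [ei_act (Ok.zero hu), act_one]; simp

theorem ei_inv {u w : Fin n → F} {z : F} (h : Ok σ u w z) :
    (ei σ u w z)⁻¹ = ei σ u (-w) (σ z) := by
  refine inv_eq_of_mul_eq_one_right ?_
  rw [ei_mul h h.inv, add_neg_cancel, show z + σ z - revB σ n w (-w) = 0 by rw [h.tr, map_neg]; ring,
    ei_zero h.uu]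

theorem Ok.conj {u w : Fin n → F} {z : F} (h : Ok σ u w z) (g : U n σ) :
    Ok σ (act g u) (act g w) z :=
  ⟨by rw [B_act, h.uu], by rw [B_act, h.uw], by rw [B_act]; exact h.tr⟩

theorem conj_ei {u w : Fin n → F} {z : F} (h : Ok σ u w z) (g : U n σ) :
    g * ei σ u w z * g⁻¹ = ei σ (act g u) (act g w) z :=
  ext_act fun x => by
    rw [act_mul, act_mul, ei_act h, ei_act (h.conj g), B_act_left, B_act_left]
    simp only [act_add, act_sub, act_smul, act_act_inv]

theorem Ok.smul_u {u w : Fin n → F} {z s : F} (h : Ok σ (s • u) w z) (hs : s ≠ 0) :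
    Ok σ u (σ s • w) (σ s * s * z) := by
  have h1 := h.uu
  have h2 := h.uw
  have hs' : σ s ≠ 0 := fun e => hs ((IsInvol.apply_eq_zero_iff (σ := σ)).1 e)
  rw [smul_left, smul_right] at h1
  rw [smul_left] at h2
  refine ⟨by simpa [hs, hs'] using h1, by rw [smul_right, (mul_eq_zero.1 h2).resolve_left hs',
    mul_zero], ?_⟩
  rw [smul_left, smul_right, map_mul, map_mul, invol]
  linear_combination σ s * s * h.tr

theorem ei_smul_u {u w : Fin n → F} {z s : F} (h : Ok σ (s • u) w z) (hs : s ≠ 0) :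
    ei σ (s • u) w z = ei σ u (σ s • w) (σ s * s * z) :=
  ext_act fun x => by
    rw [ei_act h, ei_act (h.smul_u hs), smul_left, smul_left, invol]
    module

/-- Adding a multiple of `u` to `w`. -/
theorem ei_add_smul {u w : Fin n → F} {z : F} (h : Ok σ u w z) (t : F) :
    Ok σ u (w + t • u) z ∧ ei σ u (w + t • u) z = ei σ u w (z + t - σ t) := by
  have h1 : Ok σ u (w + t • u) z := ⟨h.uu, by simp [h.uu, h.uw], by
    simp [h.uu, h.uw, h.wu, h.tr]⟩
  have h2 : Ok σ u w (z + t - σ t) := ⟨h.uu, h.uw, by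
    rw [map_sub, map_add, invol]; linear_combination h.tr⟩
  refine ⟨h1, ext_act fun x => ?_⟩
  rw [ei_act h1, ei_act h2, add_left, smul_left]
  module

variable {p : ℕ} [Fact p.Prime] [CharP F p]

omit [Fact p.Prime] in
theorem ei_pow {u w : Fin n → F} {z : F} (h : Ok σ u w z) (k : ℕ) :
    ∃ z', Ok σ u ((k : F) • w) z' ∧ ei σ u w z ^ k = ei σ u ((k : F) • w) z' ∧
      (w = 0 → z' = k * z) := by
  induction k with
  | zero => exact ⟨0, by simpa using Ok.zero h.uu, by simp [ei_zero h.uu], fun _ => by simp⟩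
  | succ k ih =>
    obtain ⟨z', h', he, hz⟩ := ih
    refine ⟨z' + z - revB σ n ((k : F) • w) w, ?_, ?_, ?_⟩
    · have := h'.add h
      rwa [show (k : F) • w + w = ((k + 1 : ℕ) : F) • w by push_cast; rw [add_smul, one_smul]] at this
    · rw [pow_succ, he, ei_mul h' h]
      congr 1
      push_cast; rw [add_smul, one_smul]
    · intro h0
      rw [hz h0, h0]
      simp only [smul_zero, map_zero]
      push_cast; ring

omit [Fact p.Prime] in
theorem ei_pow_sq {u w : Fin n → F} {z : F} (h : Ok σ u w z) : ei σ u w z ^ p ^ 2 = 1 := by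
  obtain ⟨z', h', he, -⟩ := ei_pow h p
  rw [pow_two, pow_mul, he]
  rw [CharP.cast_eq_zero, zero_smul] at h' ⊢
  obtain ⟨z'', h'', he', hz⟩ := ei_pow h' p
  rw [he', hz rfl, CharP.cast_eq_zero, zero_mul, zero_smul, ei_zero h.uu]

theorem eq_one_of_pow {c : F} {k : ℕ} (h : c ^ p ^ k = 1) : c = 1 := by
  have h1 : (c - 1) ^ p ^ k = 0 := by rw [sub_pow_char_pow, h, one_pow, sub_self]
  exact sub_eq_zero.1 (eq_zero_of_pow_eq_zero h1)

/-- An element of `p`-power order has determinant one. -/
theorem det_eq_one_of_pow {g : U n σ} {k : ℕ} (hk : g ^ p ^ k = 1) : g ∈ HSU (revB σ n) := by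
  have h : (HU.det (revB σ n) g : F) ^ p ^ k = 1 := by
    rw [← Units.val_pow_eq_pow_val, ← map_pow, hk, map_one, Units.val_one]
  rw [MonoidHom.mem_ker]
  exact Units.ext (eq_one_of_pow (p := p) h)

theorem ei_mem_HSU (p : ℕ) [Fact p.Prime] [CharP F p] (u w : Fin n → F) (z : F) :
    ei σ u w z ∈ HSU (revB σ n) := by
  classical
  by_cases h : Ok σ u w z
  · exact det_eq_one_of_pow (p := p) (ei_pow_sq h)
  · rw [ei, dif_neg h]; exact one_mem _

/-! ### entries and the flag -/

/-- The matrix entries. -/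
def ent (g : U n σ) (a j : Fin n) : F := act g (e j) a

/-- The matrix. -/
def mat (g : U n σ) : Matrix (Fin n) (Fin n) F := Matrix.of (ent g)

omit hσ in
theorem mat_eq (g : U n σ) :
    mat g = LinearMap.toMatrix' ((g : (Fin n → F) ≃ₗ[F] (Fin n → F)) : (Fin n → F) →ₗ[F] (Fin n → F)) := by
  ext a j
  rw [LinearMap.toMatrix'_apply]
  show (g : (Fin n → F) ≃ₗ[F] (Fin n → F)) (Pi.single j 1) a = _
  congr

omit hσ in
theorem act_eq_sum (g : U n σ) (x : Fin n → F) (a : Fin n) :
    act g x a = ∑ j, ent g a j * x j := by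
  conv_lhs => rw [show x = ∑ j, x j • e j from funext fun k => by simp [Finset.sum_apply, Pi.single_apply]]
  show (g : (Fin n → F) ≃ₗ[F] (Fin n → F)) (∑ j, x j • e j) a = _
  rw [map_sum, Finset.sum_apply]
  refine Finset.sum_congr rfl fun j _ => ?_
  rw [map_smul, Pi.smul_apply, smul_eq_mul, mul_comm]
  rfl

omit hσ in
theorem ent_mul (g h : U n σ) (a j : Fin n) : ent (g * h) a j = ∑ l, ent g a l * ent h l j := by
  rw [ent, act_mul, act_eq_sum]; rfl

omit hσ in
theorem mat_mul (g h : U n σ) : mat (g * h) = mat g * mat h := by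
  ext a j
  rw [Matrix.mul_apply]
  exact ent_mul g h a j

omit hσ in
theorem mat_one : mat (1 : U n σ) = 1 := by
  ext a j
  rw [Matrix.one_apply]
  exact e_apply j a

omit hσ in
theorem mat_injective : Function.Injective (mat (σ := σ) (n := n)) := fun g h H => ext_act fun x =>
  funext fun a => by
    rw [act_eq_sum, act_eq_sum]
    exact Finset.sum_congr rfl fun j _ => congrArg (· * x j) (congrFun₂ H a j)

/-- The duality of the entries. -/
theorem ent_inv (g : U n σ) (a j : Fin n) : ent g⁻¹ a j = σ (ent g j.rev a.rev) := by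
  rw [ent, ent, ← B_e_right, B_act_left, B_e_left, Fin.rev_rev]

omit hσ in
theorem det_eq (g : U n σ) : (HU.det (revB σ n) g : F) = (mat g).det := by
  rw [mat_eq, LinearMap.det_toMatrix']
  exact LinearEquiv.coe_det _

/-- `g` stabilizes the flag. -/
def Tri (g : U n σ) : Prop := ∀ a j : Fin n, j < a → ent g a j = 0

omit hσ in
theorem tri_one : Tri (1 : U n σ) := fun a j h => by
  exact e_ne h.ne'

omit hσ in
theorem Tri.upper {g : U n σ} (hg : Tri g) : (mat g).IsUpperTriangular := fun a j h => hg a j h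

omit hσ in
theorem Tri.mul {g h : U n σ} (hg : Tri g) (hh : Tri h) : Tri (g * h) := fun a j hja => by
  rw [ent_mul]
  refine Finset.sum_eq_zero fun l _ => ?_
  rcases lt_or_ge l a with hla | hla
  · rw [hg a l hla, zero_mul]
  · rw [hh l j (hja.trans_le hla), mul_zero]

omit hσ in
theorem Tri.diag_mul {g h : U n σ} (hg : Tri g) (hh : Tri h) (a : Fin n) :
    ent (g * h) a a = ent g a a * ent h a a := by
  rw [ent_mul]
  refine Finset.sum_eq_single a (fun l _ hla => ?_) (by simp)
  rcases lt_or_gt_of_ne hla with h' | h'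
  · rw [hg a l h', zero_mul]
  · rw [hh l a h', mul_zero]

omit hσ in
theorem Tri.pow {g : U n σ} (hg : Tri g) (k : ℕ) :
    Tri (g ^ k) ∧ ∀ a, ent (g ^ k) a a = ent g a a ^ k := by
  induction k with
  | zero => exact ⟨by rw [pow_zero]; exact tri_one, fun a => by simp [ent, act_one]⟩
  | succ k ih =>
    exact ⟨by rw [pow_succ]; exact ih.1.mul hg,
      fun a => by rw [pow_succ, ih.1.diag_mul hg, ih.2, pow_succ]⟩

theorem Tri.inv {g : U n σ} (hg : Tri g) : Tri g⁻¹ := fun a j h => by
  rw [ent_inv, hg _ _ (Fin.rev_lt_rev.2 h), map_zero]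

theorem Tri.diag_rev {g : U n σ} (hg : Tri g) (a : Fin n) :
    σ (ent g a.rev a.rev) * ent g a a = 1 := by
  have h := hg.inv.diag_mul hg a
  rw [inv_mul_cancel, ent_inv] at h
  rw [← h]
  simp [ent, act_one]

theorem Tri.diag_ne {g : U n σ} (hg : Tri g) (a : Fin n) : ent g a a ≠ 0 :=
  right_ne_zero_of_mul_eq_one (hg.diag_rev a)

omit hσ in
theorem Tri.det {g : U n σ} (hg : Tri g) : (HU.det (revB σ n) g : F) = ∏ a, ent g a a := by
  rw [det_eq, Matrix.det_of_isUpperTriangular hg.upper]
  rfl

variable (n σ) in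
/-- The unipotent group of the flag. -/
def uni : Subgroup (U n σ) where
  carrier := {g | Tri g ∧ ∀ a, ent g a a = 1}
  one_mem' := ⟨tri_one, fun a => by simp [ent, act_one]⟩
  mul_mem' := by
    rintro g h ⟨hg, hg'⟩ ⟨hh, hh'⟩
    exact ⟨hg.mul hh, fun a => by rw [hg.diag_mul hh, hg', hh', mul_one]⟩
  inv_mem' := by
    rintro g ⟨hg, hg'⟩
    exact ⟨hg.inv, fun a => by rw [ent_inv, hg', map_one]⟩

omit [CharP F p] [Fact p.Prime] in
theorem conj_mem_uni {g s : U n σ} (hg : Tri g) (hs : s ∈ uni n σ) : g * s * g⁻¹ ∈ uni n σ :=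
  ⟨(hg.mul hs.1).mul hg.inv, fun a => by
    rw [(hg.mul hs.1).diag_mul hg.inv, hg.diag_mul hs.1, hs.2, mul_one, ← hg.diag_mul hg.inv,
      mul_inv_cancel]
    simp [ent, act_one]⟩

theorem isPGroup_uni [Finite F] : IsPGroup p (uni n σ) := by
  have : Fintype F := Fintype.ofFinite F
  let f : uni n σ →* CfsgLib.Known.AutPSL.SL n F :=
    { toFun := fun g => ⟨mat (g : U n σ), by
        rw [Matrix.det_of_isUpperTriangular g.2.1.upper]
        exact Finset.prod_eq_one fun a _ => g.2.2 a⟩
      map_one' := Subtype.ext mat_one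
      map_mul' := fun g h => Subtype.ext (mat_mul _ _) }
  have hle : f.range ≤ CfsgLib.Known.AutPSL.upperUni n F := by
    rintro _ ⟨g, rfl⟩
    exact CfsgLib.Known.AutPSL.mem_upperUni.2 ⟨fun a j h => g.2.1 a j h, fun a => g.2.2 a⟩
  have hinj : Function.Injective f := fun g h H =>
    Subtype.ext (mat_injective (congrArg Subtype.val H))
  exact IsPGroup.of_equiv ((PSLn.isPGroup_upperUni p).to_le hle) (MonoidHom.ofInjective hinj).symm

theorem uni_le_HSU [Finite F] : uni n σ ≤ HSU (revB σ n) := fun g hg => by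
  rw [MonoidHom.mem_ker]
  refine Units.ext ?_
  rw [hg.1.det, Units.val_one]
  exact Finset.prod_eq_one fun a _ => hg.2 a

end CfsgLib.Fusion.PSU
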