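import Cfsg.Agent.Lib.Fusion.SmallSimple

/-!
# Simplicity from normal centric subgroups of a Sylow subgroup
-/

set_option autoImplicit false

namespace CfsgLib.Fusion

open Cfsg Cfsg.FusionSystem

variable {G : Type*} [Group G]

/-- The subgroup generated by the elements of `p`-power order normalizing `R`. -/
def pGenNormalizer (p : ℕ) (R : Subgroup G) : Subgroup G :=
  Subgroup.closure {g : G | g ∈ Subgroup.normalizer (R : Set G) ∧ ∃ k : ℕ, orderOf g = p ^ k}

theorem stronglyClosed_conj_mem {S T : Subgroup G} (hT : (groupFusionSystem S).StronglyClosed T)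
    {x c : G} (hx : x ∈ T) (hc : c * x * c⁻¹ ∈ S) : c * x * c⁻¹ ∈ T := by
  have hxS : Subgroup.zpowers x ≤ S := Subgroup.zpowers_le.2 (hT.1 hx)
  have hmem : conjHom (Subgroup.zpowers x) c ∈ (groupFusionSystem S).Hom (Subgroup.zpowers x) := by
    rw [mem_groupFusion_iff]
    refine ⟨hxS, ?_, c, fun y => rfl⟩
    rintro ⟨y, j, rfl⟩
    show c * x ^ j * c⁻¹ ∈ S
    rw [← conj_zpow]
    exact S.zpow_mem hc j
  exact hT.2 _ (Subgroup.zpowers_le.2 hx) _ hmem ⟨x, Subgroup.mem_zpowers x⟩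

variable [Finite G] {p : ℕ} [Fact p.Prime]

/-- A simplicity criterion: no proper strongly closed subgroup, and the normalizer of `S` is
generated by elements acting as members of `O^{p'}(N(R))` for subgroups `R` normal in `S`
containing the `p`-elements of their centralizers. -/
theorem groupFusion_isSimple_of_radicals (S : Sylow p G) (hne : (S : Subgroup G) ≠ ⊥)
    (hT : ∀ T : Subgroup G, T ≤ (S : Subgroup G) → T ≠ ⊥ →
      (∀ x ∈ T, ∀ c : G, c * x * c⁻¹ ∈ (S : Subgroup G) → c * x * c⁻¹ ∈ T) →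
      T = (S : Subgroup G))
    (Rs : Set (Subgroup G))
    (hRs : ∀ R ∈ Rs, R ≤ (S : Subgroup G) ∧ (S : Subgroup G) ≤ Subgroup.normalizer (R : Set G) ∧
      ∀ c ∈ Subgroup.centralizer (R : Set G), (∃ k : ℕ, c ^ p ^ k = 1) → c ∈ R)
    (hgen : Subgroup.normalizer ((S : Subgroup G) : Set G) ≤ Subgroup.closure
      {n : G | n ∈ Subgroup.normalizer ((S : Subgroup G) : Set G) ∧
        ∃ R ∈ Rs, n ∈ pGenNormalizer p R}) :
    (groupFusionSystem (S : Subgroup G)).IsSimple p := by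
  set F := groupFusionSystem (S : Subgroup G)
  refine groupFusion_isSimple S hne
    (fun T hTc => or_iff_not_imp_left.2 fun hb => hT T hTc.1 hb fun x hx c hc =>
      stronglyClosed_conj_mem hTc hx hc) fun α hα => ?_
  have hgood : ∀ R ∈ Rs, F.IsFullyNormalized R ∧ F.IsCentric R := by
    intro R hR
    obtain ⟨hRS, hSN, hc⟩ := hRs R hR
    refine ⟨⟨hRS, fun Q _ => ?_⟩, hRS, fun Q hQ => ?_⟩
    · rw [show normalizerIn (S : Subgroup G) R = (S : Subgroup G) from
        le_antisymm (normalizerIn_le R) (le_inf le_rfl hSN)]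
      exact Subgroup.card_le_of_le (normalizerIn_le Q)
    obtain ⟨φ, hφ, rfl⟩ := hQ
    obtain ⟨-, -, g, hg⟩ := mem_groupFusion_iff.1 hφ
    intro z hz
    obtain ⟨hzS, hzc⟩ := mem_centralizerIn.1 hz
    obtain ⟨k, hk⟩ := S.isPGroup' ⟨z, hzS⟩
    have hmem : g⁻¹ * z * g ∈ R := by
      refine hc _ (Subgroup.mem_centralizer_iff.2 fun r hr => ?_) ⟨k, ?_⟩
      · have := hzc _ ⟨⟨r, hr⟩, rfl⟩
        rw [hg] at this
        calc r * (g⁻¹ * z * g) = g⁻¹ * (g * r * g⁻¹ * z) * g := by group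
          _ = g⁻¹ * z * g * r := by rw [this]; group
      · have h1 : (g⁻¹ * z * g⁻¹⁻¹) ^ p ^ k = g⁻¹ * z ^ p ^ k * g⁻¹⁻¹ := conj_pow
        rw [inv_inv] at h1
        rw [h1, show z ^ p ^ k = 1 from congrArg Subtype.val hk]
        simp
    exact ⟨⟨_, hmem⟩, (hg _).trans (by simp [mul_assoc])⟩
  set Y := ⨆ (R : Subgroup G) (_ : F.IsFullyNormalized R ∧ F.IsCentric R),
    autInducedBy (pGenNormalizer p R) (S : Subgroup G)
  obtain ⟨n, -, hn⟩ := mem_autInducedBy_iff.1 hα
  let θ := (S : Subgroup G).normalizerMonoidHom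
  have hle : Subgroup.normalizer ((S : Subgroup G) : Set G) ≤
      (Y.comap θ).map (Subgroup.normalizer ((S : Subgroup G) : Set G)).subtype := by
    refine hgen.trans ((Subgroup.closure_le _).2 ?_)
    rintro m ⟨hm, R, hR, hmR⟩
    have h : autInducedBy (pGenNormalizer p R) (S : Subgroup G) ≤ Y :=
      le_iSup₂_of_le R (hgood R hR) le_rfl
    exact ⟨⟨m, hm⟩, h (mem_autInducedBy_iff.2 ⟨m, hmR, fun x => rfl⟩), rfl⟩
  obtain ⟨m, hm, hmn⟩ := hle (mem_normalizer_of_conj_eq α hn)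
  have : θ m = α := MulEquiv.ext fun x => Subtype.ext (by
    rw [hn, ← show (m : G) = n from hmn]
    rfl)
  exact this ▸ hm

end CfsgLib.Fusion
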