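import Cfsg.Agent.Lib.Fusion.PSpElems
import Cfsg.Agent.Lib.Classical.SL2Pair
import Mathlib.FieldTheory.Finite.Basic

/-!
# `Sp(4)` as matrices in blocks along an orthogonal decomposition into two planes

`bl A B C D` is the four by four matrix with the displayed blocks, `dia` the embedding of
`SL(2) × SL(2)`, `wS` the element exchanging the planes and `mix M` the element
`(M, M; M, -M)` for `det M = 1/2`.
-/

set_option autoImplicit false

namespace CfsgLib.Fusion.PSpFour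

open scoped Matrix MatrixGroups
open Matrix CfsgLib.Known.AutPSp

variable {F : Type*} [Field F]

/-- Exchange of the two middle coordinates. -/
def swp : Fin 2 ⊕ Fin 2 → Fin 2 ⊕ Fin 2 :=
  Sum.elim ![Sum.inl 0, Sum.inr 0] ![Sum.inl 1, Sum.inr 1]

theorem swp_swp : ∀ x, swp (swp x) = x := by decide

/-- `swp` as an equivalence. -/
def swpE : Fin 2 ⊕ Fin 2 ≃ Fin 2 ⊕ Fin 2 := ⟨swp, swp, swp_swp, swp_swp⟩

/-- A matrix given by blocks along the two planes. -/
def bl (A B C D : Matrix (Fin 2) (Fin 2) F) : Matrix (Fin 2 ⊕ Fin 2) (Fin 2 ⊕ Fin 2) F :=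
  (fromBlocks A B C D).submatrix swpE swpE

variable {A B C D A' B' C' D' : Matrix (Fin 2) (Fin 2) F}

theorem bl_mul : bl A B C D * bl A' B' C' D' =
    bl (A * A' + B * C') (A * B' + B * D') (C * A' + D * C') (C * B' + D * D') := by
  rw [bl, bl, submatrix_mul_equiv, fromBlocks_multiply, bl]

theorem bl_one : bl (1 : Matrix (Fin 2) (Fin 2) F) 0 0 1 = 1 := by
  rw [bl, fromBlocks_one, submatrix_one_equiv]

theorem bl_inj : bl A B C D = bl A' B' C' D' ↔ A = A' ∧ B = B' ∧ C = C' ∧ D = D' := by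
  refine ⟨fun h => fromBlocks_inj.1 ?_, fun ⟨h1, h2, h3, h4⟩ => by rw [h1, h2, h3, h4]⟩
  have := congrArg (fun M : Matrix (Fin 2 ⊕ Fin 2) (Fin 2 ⊕ Fin 2) F => M.submatrix swpE.symm swpE.symm) h
  simpa [bl] using this

theorem bl_transpose : (bl A B C D)ᵀ = bl Aᵀ Cᵀ Bᵀ Dᵀ := by
  rw [bl, transpose_submatrix, fromBlocks_transpose, bl]

theorem bl_neg : -bl A B C D = bl (-A) (-B) (-C) (-D) := by
  rw [bl, bl, ← fromBlocks_neg]; rfl

theorem exists_bl (M : Matrix (Fin 2 ⊕ Fin 2) (Fin 2 ⊕ Fin 2) F) :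
    ∃ A B C D : Matrix (Fin 2) (Fin 2) F, M = bl A B C D := by
  refine ⟨(M.submatrix swpE.symm swpE.symm).toBlocks₁₁, (M.submatrix swpE.symm swpE.symm).toBlocks₁₂,
    (M.submatrix swpE.symm swpE.symm).toBlocks₂₁, (M.submatrix swpE.symm swpE.symm).toBlocks₂₂, ?_⟩
  rw [bl, fromBlocks_toBlocks]
  simp [Matrix.submatrix_submatrix]

variable (F) in
/-- The standard alternating matrix of a plane. -/
def jm : Matrix (Fin 2) (Fin 2) F := !![0, -1; 1, 0]

theorem J_eq_bl : Matrix.J (Fin 2) F = bl (jm F) 0 0 (jm F) := by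
  ext (i | i) (j | j) <;> fin_cases i <;> fin_cases j <;> simp [Matrix.J, bl, jm, swpE, swp]

theorem mul_jm_transpose (A : Matrix (Fin 2) (Fin 2) F) : A * jm F * Aᵀ = A.det • jm F := by
  ext i j
  fin_cases i <;> fin_cases j <;>
    simp [jm, Matrix.mul_apply, Fin.sum_univ_two, Matrix.det_fin_two] <;> ring

theorem mem_symp_iff : bl A B C D ∈ Matrix.symplecticGroup (Fin 2) F ↔
    A * jm F * Aᵀ + B * jm F * Bᵀ = jm F ∧ A * jm F * Cᵀ + B * jm F * Dᵀ = 0 ∧
      C * jm F * Aᵀ + D * jm F * Bᵀ = 0 ∧ C * jm F * Cᵀ + D * jm F * Dᵀ = jm F := by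
  rw [SymplecticGroup.mem_iff, J_eq_bl, bl_transpose, bl_mul, bl_mul, bl_inj]
  simp only [mul_zero, add_zero, zero_add]

theorem jm_ne : jm F ≠ 0 := fun h => by
  have := congrFun (congrFun h 1) 0
  simp [jm] at this

theorem det_eq_one_of_jm (h : A * jm F * Aᵀ = jm F) : A.det = 1 := by
  rw [mul_jm_transpose] at h
  exact smul_left_injective F jm_ne (h.trans (one_smul F (jm F)).symm)

/-- The block diagonal element. -/
def dia0 (a b : SL(2, F)) : SpM 2 F :=
  ⟨bl a.1 0 0 b.1, mem_symp_iff.2 (by simp [mul_jm_transpose, a.2, b.2])⟩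

/-- The embedding of `SL(2) × SL(2)`. -/
def dia : SL(2, F) × SL(2, F) →* SpM 2 F where
  toFun x := dia0 x.1 x.2
  map_one' := Subtype.ext bl_one
  map_mul' x y := Subtype.ext (by
    show bl _ _ _ _ = bl _ _ _ _ * bl _ _ _ _
    rw [bl_mul]; simp)

theorem dia_val (a b : SL(2, F)) :
    ((dia (a, b) : SpM 2 F) : Matrix (Fin 2 ⊕ Fin 2) (Fin 2 ⊕ Fin 2) F) = bl a.1 0 0 b.1 := rfl

theorem dia_injective : Function.Injective (dia (F := F)) := by
  rintro ⟨a, b⟩ ⟨c, d⟩ h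
  obtain ⟨h1, -, -, h4⟩ := bl_inj.1 (congrArg Subtype.val h)
  exact Prod.ext (Subtype.ext h1) (Subtype.ext h4)

variable (F) in
/-- The element exchanging the planes. -/
def wS : SpM 2 F := ⟨bl 0 1 1 0, mem_symp_iff.2 (by simp)⟩

theorem wS_mul_self : wS F * wS F = 1 :=
  Subtype.ext (by show bl _ _ _ _ * bl _ _ _ _ = _; rw [bl_mul]; simp [bl_one])

theorem wS_inv : (wS F)⁻¹ = wS F := inv_eq_of_mul_eq_one_right wS_mul_self

theorem wS_conj (a b : SL(2, F)) : wS F * dia (a, b) * (wS F)⁻¹ = dia (b, a) :=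
  Subtype.ext (by
    rw [wS_inv]
    show bl _ _ _ _ * bl _ _ _ _ * bl _ _ _ _ = bl _ _ _ _
    rw [bl_mul, bl_mul]; simp)

theorem wS_mul_dia (a b : SL(2, F)) : wS F * dia (a, b) = dia (b, a) * wS F := by
  rw [← wS_conj a b, inv_mul_cancel_right]

theorem dia_ne_dia_mul_wS (a b c d : SL(2, F)) : dia (a, b) ≠ dia (c, d) * wS F := by
  intro h
  have h' : bl (a : Matrix (Fin 2) (Fin 2) F) 0 0 b.1 = bl c.1 0 0 d.1 * bl 0 1 1 0 :=
    congrArg Subtype.val h
  rw [bl_mul, bl_inj] at h'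
  have := congrArg Matrix.det h'.1
  simp at this

/-- `(M, M; M, -M)`. -/
def mix (M : Matrix (Fin 2) (Fin 2) F) (hM : 2 * M.det = 1) : SpM 2 F :=
  ⟨bl M M M (-M), mem_symp_iff.2 (by
    have hj : M.det • jm F + M.det • jm F = jm F := by rw [← add_smul, ← two_mul, hM, one_smul]
    simp only [transpose_neg, mul_neg, neg_mul, neg_neg, add_neg_cancel, mul_jm_transpose, hj,
      and_self])⟩

theorem mix_conj_one_neg (M : Matrix (Fin 2) (Fin 2) F) (hM : 2 * M.det = 1) :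
    mix M hM * dia ((1 : SL(2, F)), -1) * (mix M hM)⁻¹ = wS F := by
  rw [mul_inv_eq_iff_eq_mul]
  refine Subtype.ext ?_
  show bl _ _ _ _ * bl _ _ _ _ = bl _ _ _ _ * bl _ _ _ _
  rw [bl_mul, bl_mul]; simp

theorem mix_conj_wS (M : Matrix (Fin 2) (Fin 2) F) (hM : 2 * M.det = 1) :
    mix M hM * wS F * (mix M hM)⁻¹ = dia ((1 : SL(2, F)), -1) := by
  rw [mul_inv_eq_iff_eq_mul]
  refine Subtype.ext ?_
  show bl _ _ _ _ * bl _ _ _ _ = bl _ _ _ _ * bl _ _ _ _
  rw [bl_mul, bl_mul]; simp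

theorem mix_conj_diag (M : Matrix (Fin 2) (Fin 2) F) (hM : 2 * M.det = 1) {x y : SL(2, F)}
    (h : M * x.1 = y.1 * M) : mix M hM * dia (x, x) * (mix M hM)⁻¹ = dia (y, y) := by
  rw [mul_inv_eq_iff_eq_mul]
  refine Subtype.ext ?_
  show bl _ _ _ _ * bl _ _ _ _ = bl _ _ _ _ * bl _ _ _ _
  rw [bl_mul, bl_mul]; simp [h]

theorem mix_sq (M : Matrix (Fin 2) (Fin 2) F) (hM : 2 * M.det = 1) (h : M * M + M * M = -1) :
    mix M hM * mix M hM = dia ((-1 : SL(2, F)), -1) :=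
  Subtype.ext (by
    show bl _ _ _ _ * bl _ _ _ _ = bl _ _ _ _
    rw [bl_mul]; simp [h])

theorem mix_mul (M N : Matrix (Fin 2) (Fin 2) F) (hM : 2 * M.det = 1) (hN : 2 * N.det = 1)
    {g : SL(2, F)} (h : M * N + M * N = g.1) : mix M hM * mix N hN = dia (g, g) :=
  Subtype.ext (by
    show bl _ _ _ _ * bl _ _ _ _ = bl _ _ _ _
    rw [bl_mul]; simp [h])

/-! ### projective equality and the involution centralizer -/

theorem proj_eq_cases {s t : SpM 2 F} (h : proj 2 F s = proj 2 F t) :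
    t = s ∨ t = dia ((-1 : SL(2, F)), -1) * s := by
  obtain ⟨a, ha, rfl⟩ := PSp.exists_eps (by norm_num) h
  rcases mul_self_eq_one_iff.1 ((pow_two a).symm.trans ha) with rfl | rfl
  · left
    exact ext_act fun x => by rw [act_mul, PSp.eps_act, one_smul]
  · right
    congr 1
    refine Subtype.ext ?_
    show ((-1 : F) • (1 : Matrix (Fin 2 ⊕ Fin 2) (Fin 2 ⊕ Fin 2) F)) = bl _ _ _ _
    rw [neg_one_smul, ← bl_one, bl_neg]; simp

theorem proj_neg : proj 2 F (dia ((-1 : SL(2, F)), -1)) = 1 := by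
  rw [← map_one (proj 2 F)]
  refine proj_eq_of_scalar (a := -1) fun x => ?_
  rw [act_one]
  show x = (-1 : F) • (bl ((-1 : SL(2, F)) : Matrix (Fin 2) (Fin 2) F) 0 0 ((-1 : SL(2, F)) : Matrix (Fin 2) (Fin 2) F) *ᵥ x)
  rw [show bl ((-1 : SL(2, F)) : Matrix (Fin 2) (Fin 2) F) 0 0 ((-1 : SL(2, F)) : Matrix (Fin 2) (Fin 2) F) = -1 by
    rw [← bl_one, bl_neg]; simp]
  simp [Matrix.neg_mulVec]

theorem eq_zero_of_two {M : Matrix (Fin 2) (Fin 2) F} (h2 : (2 : F) ≠ 0) (h : M = -M) : M = 0 := by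
  ext i j
  have := congrFun (congrFun h i) j
  simp only [Matrix.neg_apply] at this
  exact mul_left_cancel₀ h2 (by simp only [Matrix.zero_apply]; linear_combination this)

theorem centralizer_invol (h2 : (2 : F) ≠ 0) {s : SpM 2 F}
    (h : proj 2 F (s * dia ((1 : SL(2, F)), -1)) = proj 2 F (dia ((1 : SL(2, F)), -1) * s)) :
    ∃ a b : SL(2, F), s = dia (a, b) ∨ s = dia (a, b) * wS F := by
  obtain ⟨A, B, C, D, hs⟩ := exists_bl (s : Matrix (Fin 2 ⊕ Fin 2) (Fin 2 ⊕ Fin 2) F)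
  have hm := s.2
  rw [hs, mem_symp_iff] at hm
  rcases proj_eq_cases h with h | h
  · have h' : bl (1 : Matrix (Fin 2) (Fin 2) F) 0 0 (-1) * bl A B C D =
        bl A B C D * bl 1 0 0 (-1) := by
      have := congrArg Subtype.val h
      rw [← hs]; simpa [dia_val] using this
    rw [bl_mul, bl_mul, bl_inj] at h'
    simp only [mul_zero, zero_mul, add_zero, zero_add, one_mul, mul_one, mul_neg, neg_mul] at h'
    have hB : B = 0 := eq_zero_of_two h2 h'.2.1
    have hC : C = 0 := eq_zero_of_two h2 h'.2.2.1.symm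
    subst hB hC
    simp only [zero_mul, mul_zero, add_zero, zero_add, transpose_zero] at hm
    exact ⟨⟨A, det_eq_one_of_jm hm.1⟩, ⟨D, det_eq_one_of_jm hm.2.2.2⟩, Or.inl (Subtype.ext hs)⟩
  · have h' : bl (1 : Matrix (Fin 2) (Fin 2) F) 0 0 (-1) * bl A B C D =
        bl (-1) 0 0 (-1) * (bl A B C D * bl 1 0 0 (-1)) := by
      have := congrArg Subtype.val h
      rw [← hs]; simpa [dia_val] using this
    rw [bl_mul, bl_mul, bl_mul, bl_inj] at h'
    simp only [mul_zero, zero_mul, add_zero, zero_add, one_mul, mul_one, mul_neg, neg_mul, neg_neg, neg_zero] at h'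
    have hA : A = 0 := eq_zero_of_two h2 h'.1
    have hD : D = 0 := eq_zero_of_two h2 h'.2.2.2.symm
    subst hA hD
    simp only [zero_mul, mul_zero, add_zero, zero_add, transpose_zero] at hm
    refine ⟨⟨B, det_eq_one_of_jm hm.1⟩, ⟨C, det_eq_one_of_jm hm.2.2.2⟩, Or.inr (Subtype.ext ?_)⟩
    show (s : Matrix (Fin 2 ⊕ Fin 2) (Fin 2 ⊕ Fin 2) F) = bl B 0 0 C * bl 0 1 1 0
    rw [hs, bl_mul]; simp

/-! ### elements of order four of `SL(2)` -/

theorem entries_of_sq (h2 : (2 : F) ≠ 0) {u : SL(2, F)} (hu : u * u = -1) :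
    (u : Matrix (Fin 2) (Fin 2) F) 1 1 = -(u : Matrix (Fin 2) (Fin 2) F) 0 0 ∧
    (u : Matrix (Fin 2) (Fin 2) F) 0 0 * (u : Matrix (Fin 2) (Fin 2) F) 0 0 +
      (u : Matrix (Fin 2) (Fin 2) F) 0 1 * (u : Matrix (Fin 2) (Fin 2) F) 1 0 = -1 := by
  have hd := u.2
  rw [Matrix.det_fin_two] at hd
  have h : (u : Matrix (Fin 2) (Fin 2) F) * u = -1 := by simpa using congrArg Subtype.val hu
  have h00 := congrFun (congrFun h 0) 0
  have h11 := congrFun (congrFun h 1) 1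
  simp [Matrix.mul_apply, Fin.sum_univ_two] at h00 h11
  set a := (u : Matrix (Fin 2) (Fin 2) F) 0 0
  set b := (u : Matrix (Fin 2) (Fin 2) F) 0 1
  set c := (u : Matrix (Fin 2) (Fin 2) F) 1 0
  set d := (u : Matrix (Fin 2) (Fin 2) F) 1 1
  have h1 : a * (a + d) = 0 := by linear_combination h00 + hd
  have h4 : d * (a + d) = 0 := by linear_combination h11 + hd
  refine ⟨?_, h00⟩
  rcases mul_eq_zero.1 h1 with ha | hadd
  · rcases mul_eq_zero.1 h4 with hd' | hadd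
    · rw [ha, hd', neg_zero]
    · linear_combination hadd
  · linear_combination hadd

variable (F) in
/-- The standard element of order four. -/
def jS : SL(2, F) := ⟨jm F, by simp [jm, Matrix.det_fin_two]⟩

theorem exists_sum_sq [Finite F] (h2 : (2 : F) ≠ 0) (c : F) : ∃ x y : F, x ^ 2 + y ^ 2 = c := by
  classical
  have : Fintype F := Fintype.ofFinite F
  have hodd : ringChar F ≠ 2 := fun h => h2 (by
    have := CharP.cast_eq_zero F (ringChar F)
    rw [h] at this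
    simpa using this)
  obtain ⟨x, y, hxy⟩ := FiniteField.exists_root_sum_quadratic
    (f := Polynomial.X ^ 2) (g := Polynomial.X ^ 2 - Polynomial.C c)
    (Polynomial.degree_X_pow 2) (Polynomial.degree_X_pow_sub_C two_pos c)
    (FiniteField.odd_card_of_char_ne_two hodd)
  refine ⟨x, y, ?_⟩
  simp at hxy
  linear_combination hxy

/-- All elements of order four of `SL(2)` are conjugate. -/
theorem exists_conj_jS [Finite F] (h2 : (2 : F) ≠ 0) {u : SL(2, F)} (hu : u * u = -1) :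
    ∃ X : SL(2, F), X * jS F * X⁻¹ = u := by
  obtain ⟨hd, hab⟩ := entries_of_sq h2 hu
  set a := (u : Matrix (Fin 2) (Fin 2) F) 0 0 with ha
  set b := (u : Matrix (Fin 2) (Fin 2) F) 0 1 with hb
  set c := (u : Matrix (Fin 2) (Fin 2) F) 1 0 with hc
  obtain ⟨x1, x2, hx⟩ : ∃ x1 x2 : F,
      x1 * (c * x1 - a * x2) - x2 * (a * x1 + b * x2) = 1 := by
    by_cases hc0 : c = 0
    · have ha0 : a ≠ 0 := fun h => by rw [h, hc0] at hab; simp at hab
      exact ⟨-(1 + b) / (2 * a), 1, by rw [hc0]; field_simp; ring⟩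
    · obtain ⟨y, z, hyz⟩ := exists_sum_sq h2 c
      refine ⟨(y + a * z) / c, z, ?_⟩
      field_simp
      linear_combination hyz - z ^ 2 * hab
  refine ⟨⟨!![x1, a * x1 + b * x2; x2, c * x1 - a * x2], ?_⟩, mul_inv_eq_iff_eq_mul.2 (Subtype.ext ?_)⟩
  · rw [Matrix.det_fin_two_of]; linear_combination hx
  · show !![x1, a * x1 + b * x2; x2, c * x1 - a * x2] * jm F =
      (u : Matrix (Fin 2) (Fin 2) F) * !![x1, a * x1 + b * x2; x2, c * x1 - a * x2]
    rw [Matrix.eta_fin_two (u : Matrix (Fin 2) (Fin 2) F), ← ha, ← hb, ← hc, hd]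
    ext i j
    fin_cases i <;> fin_cases j <;> simp [jm, Matrix.mul_apply, Fin.sum_univ_two] <;>
      first
      | ring1
      | linear_combination (-x1) * hab
      | linear_combination x1 * hab
      | linear_combination x2 * hab
      | linear_combination (-x2) * hab

/-- Pairs of elements of order four are conjugate to the quarter turn of the two planes. -/
theorem exists_conj_pair [Finite F] (h2 : (2 : F) ≠ 0) {u v : SL(2, F)} (hu : u * u = -1)
    (hv : v * v = -1) : ∃ g : SpM 2 F, g * dia (u, v) * g⁻¹ = dia ((-1 : SL(2, F)), 1) * wS F := by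
  obtain ⟨X, hX⟩ : ∃ X : SL(2, F), X * v * X⁻¹ = -u := by
    obtain ⟨X1, h1⟩ := exists_conj_jS h2 hv
    obtain ⟨X2, h2'⟩ := exists_conj_jS h2 (u := -u) (by rw [neg_mul_neg, hu])
    refine ⟨X2 * X1⁻¹, ?_⟩
    rw [← h1, ← h2']; group
  obtain ⟨hud, hab⟩ := entries_of_sq h2 hu
  let P : Matrix (Fin 2) (Fin 2) F := !![(2 : F)⁻¹, 0; 0, 1]
  have hP : P.det = (2 : F)⁻¹ := by simp [P, Matrix.det_fin_two]
  have hR : (P * X.1).det = (2 : F)⁻¹ := by rw [Matrix.det_mul, hP, X.2, mul_one]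
  have hXv : X.1 * v.1 = -(u.1 * X.1) := by
    have := congrArg Subtype.val (show X * v = -u * X by rw [← hX, inv_mul_cancel_right])
    simpa using this
  have huu : u.1 * u.1 = -1 := by simpa using congrArg Subtype.val hu
  have hvv : v.1 * v.1 = -1 := by simpa using congrArg Subtype.val hv
  have hsum : P * jm F * Pᵀ + P * X.1 * jm F * (P * X.1)ᵀ = jm F := by
    rw [mul_jm_transpose, mul_jm_transpose, hP, hR, ← add_smul,
      show (2 : F)⁻¹ + 2⁻¹ = 1 by field_simp; norm_num, one_smul]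
  have hsum' : P * u.1 * jm F * (P * u.1)ᵀ + P * X.1 * v.1 * jm F * (P * X.1 * v.1)ᵀ = jm F := by
    rw [mul_jm_transpose, mul_jm_transpose, Matrix.det_mul, hP, u.2, Matrix.det_mul, hR, v.2,
      mul_one, ← add_smul, show (2 : F)⁻¹ + 2⁻¹ = 1 by field_simp; norm_num, one_smul]
  have hju : ∀ w : SL(2, F), w.1 * w.1 = -1 → jm F * w.1ᵀ = -(w.1 * jm F) := by
    intro w hw
    have h := mul_jm_transpose w.1
    rw [w.2, one_smul] at h
    calc jm F * w.1ᵀ = -((w.1 * w.1) * (jm F * w.1ᵀ)) := by rw [hw]; simp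
      _ = -(w.1 * (w.1 * jm F * w.1ᵀ)) := by noncomm_ring
      _ = _ := by rw [h]
  have hkey : P * u.1 * jm F * Pᵀ + P * X.1 * v.1 * jm F * (P * X.1)ᵀ = 0 := by
    have hjm : X.1 * jm F * X.1ᵀ = jm F := by rw [mul_jm_transpose, X.2, one_smul]
    calc P * u.1 * jm F * Pᵀ + P * X.1 * v.1 * jm F * (P * X.1)ᵀ
        = P * u.1 * jm F * Pᵀ + P * (X.1 * v.1) * jm F * X.1ᵀ * Pᵀ := by
          rw [Matrix.transpose_mul]; noncomm_ring
      _ = P * u.1 * jm F * Pᵀ - P * u.1 * (X.1 * jm F * X.1ᵀ) * Pᵀ := by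
          rw [hXv]; noncomm_ring
      _ = 0 := by rw [hjm]; exact sub_self _
  have hmem : bl P (P * X.1) (-(P * u.1)) (-(P * X.1 * v.1)) ∈ Matrix.symplecticGroup (Fin 2) F := by
    refine mem_symp_iff.2 ⟨hsum, ?_, ?_, ?_⟩
    · calc P * jm F * (-(P * u.1))ᵀ + P * X.1 * jm F * (-(P * X.1 * v.1))ᵀ
          = -(P * (jm F * u.1ᵀ) * Pᵀ + P * X.1 * (jm F * v.1ᵀ) * (P * X.1)ᵀ) := by
            simp only [Matrix.transpose_neg, Matrix.transpose_mul]; noncomm_ring
        _ = P * u.1 * jm F * Pᵀ + P * X.1 * v.1 * jm F * (P * X.1)ᵀ := by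
            rw [hju u huu, hju v hvv]; noncomm_ring
        _ = 0 := hkey
    · calc -(P * u.1) * jm F * Pᵀ + -(P * X.1 * v.1) * jm F * (P * X.1)ᵀ
          = -(P * u.1 * jm F * Pᵀ + P * X.1 * v.1 * jm F * (P * X.1)ᵀ) := by noncomm_ring
        _ = 0 := by rw [hkey, neg_zero]
    · simpa only [Matrix.transpose_neg, neg_mul, mul_neg, neg_neg] using hsum'
  refine ⟨⟨_, hmem⟩, mul_inv_eq_iff_eq_mul.2 (Subtype.ext ?_)⟩
  show bl P (P * X.1) (-(P * u.1)) (-(P * X.1 * v.1)) * bl u.1 0 0 v.1 =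
    bl ((-1 : SL(2, F)) : Matrix (Fin 2) (Fin 2) F) 0 0 ((1 : SL(2, F)) : Matrix (Fin 2) (Fin 2) F) *
      bl 0 1 1 0 * bl P (P * X.1) (-(P * u.1)) (-(P * X.1 * v.1))
  rw [bl_mul, bl_mul, bl_mul, bl_inj]
  simp [Matrix.mul_assoc, huu, hvv]

end CfsgLib.Fusion.PSpFour
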