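import Cfsg.Agent.Lib.Fusion.PSpFourElems
import Cfsg.Agent.Lib.Fusion.RadicalConj
import Cfsg.Agent.Lib.Classical.Symplectic.Matrix
import Cfsg.Agent.Lib.Classical.SL2Structure
import Cfsg.Agent.Lib.PGroups.Basic
import Cfsg.Agent.S0261
import Cfsg.Agent.S2431

/-!
# The 2-fusion system of `PSp(4, q)`, `q` odd, is simple
-/

set_option autoImplicit false

namespace CfsgLib.Fusion.PSpFour

open scoped Matrix MatrixGroups
open Matrix CfsgLib.Known.AutPSp

theorem mem_normalizer_of_forward {G : Type*} [Group G] [Finite G] {K : Subgroup G} {g : G}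
    (h : ∀ x ∈ K, g * x * g⁻¹ ∈ K) : g ∈ Subgroup.normalizer (K : Set G) := by
  have hmap : K.map (MulAut.conj g).toMonoidHom = K :=
    Subgroup.eq_of_le_of_card_ge (by rintro _ ⟨x, hx, rfl⟩; exact h x hx)
      (Subgroup.card_map_of_injective (f := (MulAut.conj g).toMonoidHom) (MulAut.conj g).injective).ge
  refine Subgroup.mem_normalizer_iff.2 fun x => ⟨h x, fun hx => ?_⟩
  obtain ⟨y, hy, hye⟩ := hmap.ge hx
  exact mul_left_cancel (mul_right_cancel hye) ▸ hy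

theorem mem_normalizer_closure_of {G : Type*} [Group G] [Finite G] {s : Set G} {g : G}
    (h : ∀ x ∈ s, g * x * g⁻¹ ∈ Subgroup.closure s) :
    g ∈ Subgroup.normalizer (Subgroup.closure s : Set G) :=
  mem_normalizer_of_forward fun _ hx =>
    (Subgroup.closure_le ((Subgroup.closure s).comap (MulAut.conj g).toMonoidHom)).2 h hx

theorem eq_of_index_three {G : Type*} [Group G] [Finite G] {Q K N : Subgroup G} (h1 : Q ≤ K)
    (h2 : K ≤ N) (hN : Nat.card N = 3 * Nat.card Q) : K = Q ∨ K = N := by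
  obtain ⟨r, hr⟩ := Subgroup.card_dvd_of_le h1
  obtain ⟨t, ht⟩ := Subgroup.card_dvd_of_le h2
  rw [hN, hr, mul_comm 3, mul_assoc] at ht
  have h3 : r * t = 3 := (Nat.eq_of_mul_eq_mul_left Nat.card_pos ht).symm
  rcases (Nat.dvd_prime Nat.prime_three).1 ⟨t, h3.symm⟩ with rfl | rfl
  · exact Or.inl (Subgroup.eq_of_le_of_card_ge h1 (by rw [hr, mul_one])).symm
  · exact Or.inr (Subgroup.eq_of_le_of_card_ge h2 (by rw [hN, hr, mul_comm]))

variable {F : Type*} [Field F]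

theorem tracefree_sq {X : Matrix (Fin 2) (Fin 2) F} (h : X 1 1 = -X 0 0) :
    X * X = -X.det • 1 := by
  ext i j
  fin_cases i <;> fin_cases j <;>
    simp [Matrix.mul_apply, Fin.sum_univ_two, Matrix.det_fin_two, h] <;> ring

theorem half_half {X : Matrix (Fin 2) (Fin 2) F} (h2 : (2 : F) ≠ 0) :
    (2 : F)⁻¹ • X + (2 : F)⁻¹ • X = X := by
  rw [← add_smul, show (2 : F)⁻¹ + 2⁻¹ = 1 by field_simp; norm_num, one_smul]

/-- For anticommuting square roots `x`, `y` of `-1`, the facts about `(x - y) / 2`. -/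
theorem reflection (h2 : (2 : F) ≠ 0) {x y : SL(2, F)} (hx : x * x = -1) (hy : y * y = -1)
    (hxy : y * x = -(x * y)) :
    2 * ((2 : F)⁻¹ • ((x : Matrix (Fin 2) (Fin 2) F) - y.1)).det = 1 ∧
      (2 : F)⁻¹ • ((x : Matrix (Fin 2) (Fin 2) F) - y.1) * ((2 : F)⁻¹ • (x.1 - y.1)) +
        (2 : F)⁻¹ • ((x : Matrix (Fin 2) (Fin 2) F) - y.1) * ((2 : F)⁻¹ • (x.1 - y.1)) = -1 ∧
      (2 : F)⁻¹ • ((x : Matrix (Fin 2) (Fin 2) F) - y.1) * x.1 =
        (-y).1 * ((2 : F)⁻¹ • (x.1 - y.1)) ∧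
      (2 : F)⁻¹ • ((x : Matrix (Fin 2) (Fin 2) F) - y.1) * y.1 =
        (-x).1 * ((2 : F)⁻¹ • (x.1 - y.1)) := by
  have hx' : x.1 * x.1 = -1 := by simpa using congrArg Subtype.val hx
  have hy' : y.1 * y.1 = -1 := by simpa using congrArg Subtype.val hy
  have hxy' : y.1 * x.1 = -(x.1 * y.1) := by simpa using congrArg Subtype.val hxy
  have hsq : (x.1 - y.1) * (x.1 - y.1) = -1 + -1 := by
    rw [sub_mul, mul_sub, mul_sub, hx', hy', hxy']; abel
  have htr : (x.1 - y.1) 1 1 = -(x.1 - y.1) 0 0 := by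
    simp only [Matrix.sub_apply, (entries_of_sq h2 hx).1, (entries_of_sq h2 hy).1]; ring
  have hdet : (x.1 - y.1).det = 2 := by
    have h := congrFun (congrFun ((tracefree_sq htr).symm.trans hsq) 0) 0
    simp at h
    linear_combination -h
  refine ⟨?_, ?_, ?_, ?_⟩
  · rw [Matrix.det_smul, Fintype.card_fin, hdet]; field_simp
  · rw [smul_mul_assoc, mul_smul_comm, hsq, smul_smul, ← smul_add,
      show (-1 + -1 : Matrix (Fin 2) (Fin 2) F) + (-1 + -1) = (4 : F) • (-1) by module, smul_smul,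
      show (2 : F)⁻¹ * 2⁻¹ * 4 = 1 by field_simp; norm_num, one_smul]
  · simp only [Matrix.SpecialLinearGroup.coe_neg, smul_mul_assoc, mul_smul_comm, sub_mul, mul_sub,
      neg_mul, hx', hy', hxy']
    congr 1; abel
  · simp only [Matrix.SpecialLinearGroup.coe_neg, smul_mul_assoc, mul_smul_comm, sub_mul, mul_sub,
      neg_mul, hx', hy', hxy']
    congr 1; abel

variable [Fintype F]

/-- What the proof uses of a Sylow 2-subgroup `Q` of `SL(2)`. -/
structure QData (Q : Subgroup SL(2, F)) : Prop where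
  neg_mem : (-1 : SL(2, F)) ∈ Q
  exists_sq : ∃ u ∈ Q, u * u = -1
  gen : ∀ W : Subgroup SL(2, F),
    (∀ u ∈ Q, ∀ v ∈ Q, u * u = -1 → v * v = -1 → u * v ∈ W) → Q ≤ W
  cent : ∀ a, (∀ c ∈ Q, a * c = c * a) → a = 1 ∨ a = -1

theorem quat_word : ∀ v : QuaternionGroup 2, ∃ i : Fin 4, v = QuaternionGroup.a 1 ^ (i : ℕ) ∨
    v = QuaternionGroup.a 1 ^ (i : ℕ) * QuaternionGroup.xa 0 := by decide

theorem quat_fix : ∀ v : QuaternionGroup 2,
    (v * QuaternionGroup.a 1 * v⁻¹ = QuaternionGroup.a 1 ∨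
      v * QuaternionGroup.a 1 * v⁻¹ = QuaternionGroup.a 2 * QuaternionGroup.a 1) ∧
    (v * QuaternionGroup.xa 0 * v⁻¹ = QuaternionGroup.xa 0 ∨
      v * QuaternionGroup.xa 0 * v⁻¹ = QuaternionGroup.a 2 * QuaternionGroup.xa 0) := by decide

theorem quat_inv : ∀ v : QuaternionGroup 2, v⁻¹ = v ∨ v⁻¹ = QuaternionGroup.a 2 * v := by decide

theorem quat_image_neg (h2 : (2 : F) ≠ 0) {n : ℕ} [NeZero n] (f : QuaternionGroup n →* SL(2, F))
    (hf : Function.Injective f) : f (QuaternionGroup.a n) = -1 := by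
  refine CfsgLib.Classical.Two.eq_neg_one_of_orderOf_two h2 ?_
  rw [orderOf_injective f hf, orderOf_eq_prime_iff]
  refine ⟨?_, fun h => ?_⟩
  · rw [pow_two, QuaternionGroup.a_mul_a, ← Nat.cast_add, ← two_mul, ZMod.natCast_self]; rfl
  · have h' : (n : ZMod (2 * n)) = 0 := by
      rw [QuaternionGroup.one_def] at h; exact QuaternionGroup.a.inj h
    rw [ZMod.natCast_eq_zero_iff] at h'
    have := Nat.le_of_dvd (NeZero.pos n) h'
    have := NeZero.pos n
    omega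

theorem qData (hodd : Odd (Fintype.card F)) (h2 : (2 : F) ≠ 0) (Q : Sylow 2 SL(2, F)) :
    QData (Q : Subgroup SL(2, F)) := by
  obtain ⟨k, hk, ⟨e⟩⟩ := Cfsg.Agent.S0261.result hodd Q
  obtain ⟨l, rfl⟩ : ∃ l, k = l + 1 := ⟨k - 1, by omega⟩
  let f : QuaternionGroup (2 ^ (l + 1)) →* SL(2, F) :=
    (Q : Subgroup SL(2, F)).subtype.comp e.symm.toMonoidHom
  have hf : Function.Injective f := (Subgroup.subtype_injective _).comp e.symm.injective
  have hmem : ∀ v, f v ∈ (Q : Subgroup SL(2, F)) := fun v => (e.symm v).2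
  have hsur : ∀ x ∈ (Q : Subgroup SL(2, F)), ∃ v, f v = x := fun x hx => ⟨e ⟨x, hx⟩, by simp [f]⟩
  have hneg := quat_image_neg h2 f hf
  have hh : ((2 ^ l : ℕ) : ZMod (2 * (2 ^ (l + 1) : ℕ))) + ((2 ^ l : ℕ) : ZMod (2 * (2 ^ (l + 1) : ℕ))) = ((2 ^ (l + 1) : ℕ) : ZMod (2 * (2 ^ (l + 1) : ℕ))) := by
    rw [← Nat.cast_add, ← mul_two, ← pow_succ]
  have hxa : ∀ i, f (QuaternionGroup.xa i) * f (QuaternionGroup.xa i) = -1 := fun i => by
    rw [← map_mul, QuaternionGroup.xa_mul_xa, add_sub_cancel_right, hneg]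
  have ha : f (QuaternionGroup.a ((2 ^ l : ℕ) : ZMod (2 * (2 ^ (l + 1) : ℕ)))) *
      f (QuaternionGroup.a ((2 ^ l : ℕ) : ZMod (2 * (2 ^ (l + 1) : ℕ)))) = -1 := by
    rw [← map_mul, QuaternionGroup.a_mul_a, hh, hneg]
  refine ⟨hneg ▸ hmem _, ⟨_, hmem _, ha⟩, fun W hW x hx => ?_, fun a hac => ?_⟩
  · obtain ⟨v, rfl⟩ := hsur x hx
    rcases v with i | i
    · have := hW _ (hmem (QuaternionGroup.xa 0)) _ (hmem (QuaternionGroup.xa (i - (2 ^ (l + 1) : ℕ)))) (hxa _) (hxa _)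
      rwa [← map_mul, QuaternionGroup.xa_mul_xa, sub_zero, add_sub_cancel] at this
    · have := hW _ (hmem (QuaternionGroup.a ((2 ^ l : ℕ) : ZMod (2 * (2 ^ (l + 1) : ℕ))))) _
        (hmem (QuaternionGroup.xa (i + ((2 ^ l : ℕ) : ZMod (2 * (2 ^ (l + 1) : ℕ)))))) ha (hxa _)
      rwa [← map_mul, QuaternionGroup.a_mul_xa, add_sub_cancel_right] at this
  · refine CfsgLib.Classical.SL2Pair.mem_center_cases ?_
    rw [← (Cfsg.Agent.S2431.result hodd Q).1, Subgroup.mem_centralizer_iff]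
    exact fun c hc => (hac c hc).symm

theorem dia_conj (a b c d : SL(2, F)) :
    dia (a, b) * dia (c, d) * (dia (a, b))⁻¹ = dia (a * c * a⁻¹, b * d * b⁻¹) := by
  rw [← map_inv, ← map_mul, ← map_mul]; rfl

theorem dia_conj_wS (a b : SL(2, F)) :
    dia (a, b) * wS F * (dia (a, b))⁻¹ = dia (a * b⁻¹, b * a⁻¹) * wS F := by
  rw [← map_inv]
  show dia (a, b) * wS F * dia (a⁻¹, b⁻¹) = _
  rw [mul_assoc, wS_mul_dia, ← mul_assoc, ← map_mul]; rfl

/-- The preimage in `Sp(4)` of the Sylow subgroup. -/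
def wr (Q : Subgroup SL(2, F)) : Subgroup (SpM 2 F) where
  carrier := {s | ∃ a ∈ Q, ∃ b ∈ Q, s = dia (a, b) ∨ s = dia (a, b) * wS F}
  one_mem' := ⟨1, Q.one_mem, 1, Q.one_mem, Or.inl (map_one dia).symm⟩
  mul_mem' := by
    rintro _ _ ⟨a, ha, b, hb, rfl | rfl⟩ ⟨c, hc, d, hd, rfl | rfl⟩
    · exact ⟨_, Q.mul_mem ha hc, _, Q.mul_mem hb hd, Or.inl (by rw [← map_mul]; rfl)⟩
    · exact ⟨_, Q.mul_mem ha hc, _, Q.mul_mem hb hd, Or.inr (by rw [← mul_assoc, ← map_mul]; rfl)⟩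
    · refine ⟨_, Q.mul_mem ha hd, _, Q.mul_mem hb hc, Or.inr ?_⟩
      rw [mul_assoc, wS_mul_dia, ← mul_assoc, ← map_mul]; rfl
    · refine ⟨_, Q.mul_mem ha hd, _, Q.mul_mem hb hc, Or.inl ?_⟩
      rw [mul_assoc, ← mul_assoc (wS F), wS_mul_dia, mul_assoc, wS_mul_self, mul_one, ← map_mul]; rfl
  inv_mem' := by
    rintro _ ⟨a, ha, b, hb, rfl | rfl⟩
    · exact ⟨_, Q.inv_mem ha, _, Q.inv_mem hb, Or.inl (by rw [← map_inv]; rfl)⟩
    · refine ⟨_, Q.inv_mem hb, _, Q.inv_mem ha, Or.inr ?_⟩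
      rw [_root_.mul_inv_rev, wS_inv, ← map_inv]
      show wS F * dia (a⁻¹, b⁻¹) = _
      rw [wS_mul_dia]

theorem mem_wr_dia {Q : Subgroup SL(2, F)} {a b : SL(2, F)} :
    dia (a, b) ∈ wr Q ↔ a ∈ Q ∧ b ∈ Q := by
  refine ⟨?_, fun h => ⟨a, h.1, b, h.2, Or.inl rfl⟩⟩
  rintro ⟨c, hc, d, hd, h | h⟩
  · obtain ⟨rfl, rfl⟩ := Prod.ext_iff.1 (dia_injective h)
    exact ⟨hc, hd⟩
  · exact absurd h (dia_ne_dia_mul_wS _ _ _ _)

theorem mem_wr_dia_wS {Q : Subgroup SL(2, F)} {a b : SL(2, F)} :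
    dia (a, b) * wS F ∈ wr Q ↔ a ∈ Q ∧ b ∈ Q := by
  refine ⟨?_, fun h => ⟨a, h.1, b, h.2, Or.inr rfl⟩⟩
  rintro ⟨c, hc, d, hd, h | h⟩
  · exact absurd h.symm (dia_ne_dia_mul_wS _ _ _ _)
  · obtain ⟨rfl, rfl⟩ := Prod.ext_iff.1 (dia_injective (mul_right_cancel h))
    exact ⟨hc, hd⟩

theorem wS_mem_wr (Q : Subgroup SL(2, F)) : wS F ∈ wr Q :=
  ⟨1, Q.one_mem, 1, Q.one_mem, Or.inr (by rw [show dia ((1 : SL(2, F)), 1) = 1 from map_one dia, one_mul])⟩

theorem card_wr (Q : Subgroup SL(2, F)) : Nat.card (wr Q) = 2 * (Nat.card Q * Nat.card Q) := by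
  rw [← Nat.card_prod]
  refine Eq.trans ?_ (show Nat.card (Bool × (Q × Q)) = 2 * Nat.card (Q × Q) by simp)
  refine (Nat.card_congr (Equiv.ofBijective (fun x : Bool × (Q × Q) => (⟨if x.1 then
    dia ((x.2.1 : SL(2, F)), (x.2.2 : SL(2, F))) * wS F else dia ((x.2.1 : SL(2, F)), (x.2.2 : SL(2, F))), by
      split_ifs
      · exact mem_wr_dia_wS.2 ⟨x.2.1.2, x.2.2.2⟩
      · exact mem_wr_dia.2 ⟨x.2.1.2, x.2.2.2⟩⟩ : wr Q)) ⟨?_, ?_⟩)).symm
  · rintro ⟨i, ⟨a, ha⟩, ⟨b, hb⟩⟩ ⟨j, ⟨c, hc⟩, ⟨d, hd⟩⟩ h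
    have h' := congrArg Subtype.val h
    cases i <;> cases j <;> simp only [Bool.false_eq_true, if_false, if_true] at h'
    · obtain ⟨rfl, rfl⟩ := Prod.ext_iff.1 (dia_injective h'); rfl
    · exact absurd h' (dia_ne_dia_mul_wS _ _ _ _)
    · exact absurd h'.symm (dia_ne_dia_mul_wS _ _ _ _)
    · obtain ⟨rfl, rfl⟩ := Prod.ext_iff.1 (dia_injective (mul_right_cancel h')); rfl
  · rintro ⟨_, a, ha, b, hb, rfl | rfl⟩
    · exact ⟨(false, ⟨a, ha⟩, ⟨b, hb⟩), Subtype.ext (by simp)⟩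
    · exact ⟨(true, ⟨a, ha⟩, ⟨b, hb⟩), Subtype.ext (by simp)⟩

theorem odd_card_of (hodd : Fintype.card F % 2 = 1) : Odd (Fintype.card F) := Nat.odd_iff.2 hodd

theorem exists_sylow_wr (hodd : Odd (Fintype.card F)) (Q : Sylow 2 SL(2, F)) :
    ∃ S : Sylow 2 (SpM 2 F), (S : Subgroup (SpM 2 F)) = wr (Q : Subgroup SL(2, F)) := by
  have : Fact (Nat.Prime 2) := ⟨Nat.prime_two⟩
  have : Finite (SpM 2 F) := Subtype.finite
  set v := (Nat.card SL(2, F)).factorization 2 with hv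
  have hQ : Nat.card (Q : Subgroup SL(2, F)) = 2 ^ v := Q.card_eq_multiplicity
  have hH : Nat.card (wr (Q : Subgroup SL(2, F))) = 2 ^ (2 * v + 1) := by
    rw [card_wr, hQ]; ring
  obtain ⟨S, hS⟩ := (IsPGroup.of_card hH).exists_le_sylow
  refine ⟨S, (Subgroup.eq_of_le_of_card_ge hS (le_of_eq ?_)).symm⟩
  rw [hH, Sylow.card_eq_multiplicity]
  congr 1
  set q := Fintype.card F with hq
  obtain ⟨r, hr⟩ := hodd
  have h : Nat.card (SpM 2 F) =
      Nat.card SL(2, F) * Nat.card SL(2, F) * (q ^ 2 * (q ^ 2 + 1)) := by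
    rw [CfsgLib.Classical.Symp.card_symplecticGroup, CfsgLib.Classical.SL2Pair.card_SL_two]
    simp only [Finset.prod_range_succ, Finset.prod_range_zero, one_mul, ← hq, zero_add, mul_one,
      Nat.reduceMul, Nat.reduceAdd]
    have e : q ^ 4 - 1 = (q ^ 2 - 1) * (q ^ 2 + 1) := by
      rw [mul_comm, ← Nat.sq_sub_sq, one_pow, ← pow_mul]
    rw [e]; ring
  have hne : q ^ 2 * (q ^ 2 + 1) = 2 * (q ^ 2 * (2 * (r ^ 2 + r) + 1)) := by rw [hr]; ring
  have hoddR : Odd (q ^ 2 * (2 * (r ^ 2 + r) + 1)) :=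
    (Odd.pow ⟨r, hr⟩).mul ⟨r ^ 2 + r, rfl⟩
  rw [h, hne, Nat.factorization_mul (mul_ne_zero Nat.card_pos.ne' Nat.card_pos.ne')
      (mul_ne_zero two_ne_zero hoddR.pos.ne'),
    Nat.factorization_mul Nat.card_pos.ne' Nat.card_pos.ne',
    Nat.factorization_mul two_ne_zero hoddR.pos.ne']
  simp only [Finsupp.coe_add, Pi.add_apply, ← hv, Nat.prime_two.factorization_self,
    Nat.factorization_eq_zero_of_not_dvd hoddR.not_two_dvd_nat]
  omega

theorem sq_of_conj {u a : SL(2, F)} (hu : u * u = -1) : a * u * a⁻¹ * (a * u * a⁻¹) = -1 := by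
  rw [show a * u * a⁻¹ * (a * u * a⁻¹) = a * (u * u) * a⁻¹ by group, hu]
  simp

section Sylow

variable {Q : Subgroup SL(2, F)} (h2 : (2 : F) ≠ 0) (hQ : QData Q)

include hQ in
theorem mem_wr_of_proj {s t : SpM 2 F} (ht : t ∈ wr Q) (h : proj 2 F s = proj 2 F t) : s ∈ wr Q := by
  rcases proj_eq_cases h.symm with rfl | rfl
  · exact ht
  · exact mul_mem (mem_wr_dia.2 ⟨hQ.neg_mem, hQ.neg_mem⟩) ht

include h2 in
omit [Fintype F] in
theorem zinv_ne : proj 2 F (dia ((1 : SL(2, F)), -1)) ≠ 1 := by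
  intro h
  have hn := CfsgLib.Classical.Two.neg_one_ne_one_SL h2
  rw [← map_one (proj 2 F)] at h
  rcases proj_eq_cases h.symm with h' | h'
  · exact hn (congrArg Prod.snd (dia_injective (h'.trans (map_one dia).symm)))
  · rw [mul_one] at h'
    exact hn (congrArg Prod.fst (dia_injective h')).symm

include h2 hQ in
theorem exists_noncomm : ∃ c ∈ Q, c ≠ 1 ∧ c ≠ -1 := by
  obtain ⟨u, hu, huu⟩ := hQ.exists_sq
  refine ⟨u, hu, ?_, ?_⟩ <;> rintro rfl
  · simp at huu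
    exact absurd huu.symm (CfsgLib.Classical.Two.neg_one_ne_one_SL h2)
  · simp at huu
    exact absurd huu.symm (CfsgLib.Classical.Two.neg_one_ne_one_SL h2)

include h2 hQ in
theorem center_cases {s : SpM 2 F} (hs : s ∈ wr Q)
    (hcen : ∀ t ∈ wr Q, proj 2 F (s * t) = proj 2 F (t * s)) :
    proj 2 F s = 1 ∨ proj 2 F s = proj 2 F (dia ((1 : SL(2, F)), -1)) := by
  have hn := CfsgLib.Classical.Two.neg_one_ne_one_SL h2
  have hne : ∀ c : SL(2, F), c ≠ -c := fun c h => hn (mul_left_cancel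
    (a := c) (by rw [mul_neg, mul_one]; exact h.symm))
  obtain ⟨a, ha, b, hb, rfl | rfl⟩ := hs
  · have hca : ∀ c ∈ Q, a * c = c * a ∧ b * c = c * b := by
      intro c hc
      have h1 := hcen (dia (c, 1)) (mem_wr_dia.2 ⟨hc, Q.one_mem⟩)
      have h1' := hcen (dia (1, c)) (mem_wr_dia.2 ⟨Q.one_mem, hc⟩)
      rw [← map_mul, ← map_mul] at h1 h1'
      constructor
      · rcases proj_eq_cases h1 with h | h
        · exact (congrArg Prod.fst (dia_injective h)).symm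
        · rw [← map_mul] at h
          have := congrArg Prod.snd (dia_injective h)
          simp at this
          exact absurd this (hne b)
      · rcases proj_eq_cases h1' with h | h
        · exact (congrArg Prod.snd (dia_injective h)).symm
        · rw [← map_mul] at h
          have := congrArg Prod.fst (dia_injective h)
          simp at this
          exact absurd this (hne a)
    rcases hQ.cent a (fun c hc => (hca c hc).1) with rfl | rfl <;>
      rcases hQ.cent b (fun c hc => (hca c hc).2) with rfl | rfl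
    · exact Or.inl (by rw [show dia ((1 : SL(2, F)), 1) = 1 from map_one dia, map_one])
    · exact Or.inr rfl
    · refine Or.inr ?_
      rw [show dia ((-1 : SL(2, F)), 1) = dia ((-1 : SL(2, F)), -1) * dia ((1 : SL(2, F)), -1) by
        rw [← map_mul]; simp, map_mul, proj_neg, one_mul]
    · exact Or.inl proj_neg
  · exfalso
    obtain ⟨c, hc, hc1, hc2⟩ := exists_noncomm h2 hQ
    have h1 := hcen (dia (c, 1)) (mem_wr_dia.2 ⟨hc, Q.one_mem⟩)
    rw [mul_assoc, wS_mul_dia, ← mul_assoc, ← mul_assoc, ← map_mul, ← map_mul] at h1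
    rcases proj_eq_cases h1 with h | h
    · have := congrArg Prod.snd (dia_injective (mul_right_cancel h))
      simp at this
      exact hc1 this
    · rw [← mul_assoc, ← map_mul] at h
      have := congrArg Prod.snd (dia_injective (mul_right_cancel h))
      simp at this
      refine hc2 ?_
      rw [eq_comm, neg_eq_iff_eq_neg] at this
      exact mul_left_cancel (a := b) (by rw [this, mul_neg, mul_one])

variable {S₀ : Subgroup (Cfsg.PSp 2 F)} (hS₀ : S₀ = (wr Q).map (proj 2 F))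

include h2 hQ hS₀ in
theorem normalizer_eq {x : Cfsg.PSp 2 F} (hx : x ∈ Subgroup.normalizer (S₀ : Set (Cfsg.PSp 2 F))) :
    ∃ g ∈ Subgroup.normalizer (Q : Set SL(2, F)), ∃ t ∈ wr Q, x = proj 2 F (dia (g, g) * t) := by
  subst hS₀
  obtain ⟨s, rfl⟩ := proj_surjective x
  have hz : dia ((1 : SL(2, F)), -1) ∈ wr Q := mem_wr_dia.2 ⟨Q.one_mem, hQ.neg_mem⟩
  have hfwd : ∀ t ∈ wr Q, s * t * s⁻¹ ∈ wr Q := by
    intro t ht
    obtain ⟨u, hu, hue⟩ := (Subgroup.mem_normalizer_iff.1 hx _).1 (Subgroup.mem_map_of_mem _ ht)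
    exact mem_wr_of_proj hQ hu (by rw [map_mul, map_mul, map_inv, hue])
  have hcz : proj 2 F (s * dia ((1 : SL(2, F)), -1) * s⁻¹) =
      proj 2 F (dia ((1 : SL(2, F)), -1)) := by
    refine (center_cases h2 hQ (hfwd _ hz) fun t ht => ?_).resolve_left fun h => zinv_ne h2 ?_
    · have : Finite (SpM 2 F) := Subtype.finite
      obtain ⟨u, hu, rfl⟩ : ∃ u ∈ wr Q, s * u * s⁻¹ = t := by
        have := mem_normalizer_of_forward hfwd
        exact ⟨s⁻¹ * t * s, (Subgroup.mem_normalizer_iff''.1 this _).1 ht, by group⟩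
      obtain ⟨a, ha, b, hb, hu'⟩ := hu
      have : proj 2 F (dia ((1 : SL(2, F)), -1) * u) = proj 2 F (u * dia ((1 : SL(2, F)), -1)) := by
        rcases hu' with rfl | rfl
        · rw [← map_mul dia, ← map_mul dia]; simp
        · rw [mul_assoc (dia (a, b)), wS_mul_dia, ← mul_assoc, ← mul_assoc, ← map_mul dia,
            ← map_mul dia,
            show ((1 : SL(2, F)), (-1 : SL(2, F))) * (a, b) = ((-1 : SL(2, F)), -1) * ((a, b) * (-1, 1)) by simp,
            map_mul dia ((-1 : SL(2, F)), -1), mul_assoc, map_mul (proj 2 F), proj_neg, one_mul]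
      simp only [map_mul, map_inv] at this ⊢
      calc _ = proj 2 F s * (proj 2 F (dia ((1 : SL(2, F)), -1)) * proj 2 F u) * (proj 2 F s)⁻¹ := by group
        _ = _ := by rw [this]; group
    · rw [map_mul, map_mul, map_inv, conj_eq_one_iff] at h
      exact h
  obtain ⟨a, b, hab⟩ := centralizer_invol h2 (s := s) (by
    rw [map_mul, map_mul, map_inv, mul_inv_eq_iff_eq_mul] at hcz
    rw [map_mul, map_mul]; exact hcz)
  obtain ⟨t', ht', hs⟩ : ∃ t' ∈ wr Q, s = dia (a, b) * t' := by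
    rcases hab with rfl | rfl
    · exact ⟨1, one_mem _, (mul_one _).symm⟩
    · exact ⟨wS F, wS_mem_wr Q, rfl⟩
  subst hs
  have hfwd' : ∀ t ∈ wr Q, dia (a, b) * t * (dia (a, b))⁻¹ ∈ wr Q := fun t ht => by
    have := hfwd (t'⁻¹ * t * t') (mul_mem (mul_mem (inv_mem ht') ht) ht')
    rwa [show dia (a, b) * t' * (t'⁻¹ * t * t') * (dia (a, b) * t')⁻¹ =
      dia (a, b) * t * (dia (a, b))⁻¹ by group] at this
  have haN : a ∈ Subgroup.normalizer (Q : Set SL(2, F)) := mem_normalizer_of_forward fun c hc => by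
    have := hfwd' _ (mem_wr_dia.2 ⟨hc, Q.one_mem⟩)
    rw [dia_conj, mem_wr_dia] at this
    exact this.1
  have hw := hfwd' _ (wS_mem_wr Q)
  rw [dia_conj_wS, mem_wr_dia_wS] at hw
  have hb' : a⁻¹ * b ∈ Q := by
    have := (Subgroup.mem_normalizer_iff''.1 haN _).1 (Q.inv_mem hw.1)
    rwa [show a⁻¹ * (a * b⁻¹)⁻¹ * a = a⁻¹ * b by group] at this
  refine ⟨a, haN, dia (1, a⁻¹ * b) * t', mul_mem (mem_wr_dia.2 ⟨Q.one_mem, hb'⟩) ht', ?_⟩
  rw [← mul_assoc, ← map_mul dia]; simp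

include h2 hQ hS₀ in
theorem closed_eq (hS : IsPGroup 2 S₀) (T : Subgroup (Cfsg.PSp 2 F)) (hTS : T ≤ S₀) (hTb : T ≠ ⊥)
    (hTc : ∀ x ∈ T, ∀ c : Cfsg.PSp 2 F, c * x * c⁻¹ ∈ S₀ → c * x * c⁻¹ ∈ T) : T = S₀ := by
  have : Fact (Nat.Prime 2) := ⟨Nat.prime_two⟩
  have : Finite (SpM 2 F) := Subtype.finite
  subst hS₀
  set S₀ := (wr Q).map (proj 2 F)
  have hTn : (T.subgroupOf S₀).Normal :=
    ⟨fun x hx y => hTc x hx y (S₀.mul_mem (S₀.mul_mem y.2 x.2) (S₀.inv_mem y.2))⟩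
  obtain ⟨z, hz, hz1⟩ := (Subgroup.bot_or_exists_ne_one (T.subgroupOf S₀ ⊓
    Subgroup.center S₀)).resolve_left
      (CfsgLib.PGroups.inf_center_ne_bot hS fun h => hTb (le_bot_iff.1 (fun x hx => by
        have : (⟨x, hTS hx⟩ : S₀) ∈ T.subgroupOf S₀ := hx
        rw [h, Subgroup.mem_bot] at this
        exact congrArg Subtype.val this)))
  obtain ⟨u, hu, huz⟩ := z.2
  set T' := T.comap (proj 2 F) ⊓ wr Q
  have hT : ∀ s ∈ T', ∀ g : SpM 2 F, g * s * g⁻¹ ∈ wr Q → g * s * g⁻¹ ∈ T' := by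
    rintro s ⟨hs, -⟩ g hg
    refine ⟨?_, hg⟩
    show proj 2 F (g * s * g⁻¹) ∈ T
    rw [map_mul, map_mul, map_inv]
    exact hTc _ hs _ ⟨_, hg, by rw [map_mul, map_mul, map_inv]⟩
  have hm1 : dia ((-1 : SL(2, F)), -1) ∈ T' :=
    ⟨show proj 2 F _ ∈ T by rw [proj_neg]; exact T.one_mem, mem_wr_dia.2 ⟨hQ.neg_mem, hQ.neg_mem⟩⟩
  have hz0 : dia ((1 : SL(2, F)), -1) ∈ T' := by
    refine ⟨?_, mem_wr_dia.2 ⟨Q.one_mem, hQ.neg_mem⟩⟩
    show proj 2 F _ ∈ T
    rcases center_cases h2 hQ hu (fun t ht => by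
      rw [map_mul, map_mul, huz]
      exact (congrArg Subtype.val (Subgroup.mem_center_iff.1 hz.2 ⟨proj 2 F t, t, ht, rfl⟩)).symm) with h | h
    · exact absurd (Subtype.ext (huz.symm.trans h)) hz1
    · rw [← h, huz]; exact hz.1
  have hw : wS F ∈ T' := by
    let M : Matrix (Fin 2) (Fin 2) F := !![(2 : F)⁻¹, 0; 0, 1]
    have hM : 2 * M.det = 1 := by simp [M, Matrix.det_fin_two, h2]
    have := hT _ hz0 (mix M hM) (by rw [mix_conj_one_neg]; exact wS_mem_wr Q)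
    rwa [mix_conj_one_neg] at this
  have hanti : ∀ x ∈ Q, dia (x, x⁻¹) ∈ T' := by
    intro x hx
    have e : dia (x, (1 : SL(2, F))) * wS F * (dia (x, (1 : SL(2, F))))⁻¹ = dia (x, x⁻¹) * wS F := by
      rw [dia_conj_wS]; simp
    have := hT _ hw (dia (x, 1)) (by rw [e]; exact mem_wr_dia_wS.2 ⟨hx, Q.inv_mem hx⟩)
    rw [e] at this
    exact (T'.mul_mem_cancel_right hw).1 this
  have hW0 : dia ((-1 : SL(2, F)), 1) * wS F ∈ T' := by
    have h3 := T'.mul_mem (T'.mul_mem hm1 hz0) hw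
    rwa [← map_mul, show ((-1 : SL(2, F)), (-1 : SL(2, F))) * (1, -1) = (-1, 1) by simp] at h3
  have hpair : ∀ u ∈ Q, ∀ v ∈ Q, u * u = -1 → v * v = -1 → dia (u, v) ∈ T' := by
    intro u hu v hv huu hvv
    obtain ⟨g, hg⟩ := exists_conj_pair h2 huu hvv
    have e : g⁻¹ * (dia ((-1 : SL(2, F)), 1) * wS F) * g⁻¹⁻¹ = dia (u, v) := by rw [← hg]; group
    have := hT _ hW0 g⁻¹ (by rw [e]; exact mem_wr_dia.2 ⟨hu, hv⟩)
    rwa [e] at this
  have hsec : Q ≤ T'.comap (dia.comp (MonoidHom.inr SL(2, F) SL(2, F))) := by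
    obtain ⟨w, hw', hww⟩ := hQ.exists_sq
    refine hQ.gen _ fun u hu v hv huu hvv => ?_
    show dia ((1 : SL(2, F)), u * v) ∈ T'
    have hwi : w⁻¹ * w⁻¹ = -1 := by rw [← _root_.mul_inv_rev, hww]; simp
    have := T'.mul_mem (hpair w hw' u hu hww huu) (hpair w⁻¹ (Q.inv_mem hw') v hv hwi hvv)
    rwa [← map_mul, Prod.mk_mul_mk, mul_inv_cancel] at this
  have hdia : ∀ a ∈ Q, ∀ b ∈ Q, dia (a, b) ∈ T' := by
    intro a ha b hb
    have := T'.mul_mem (hanti a ha) (hsec (Q.mul_mem ha hb))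
    rw [show (dia.comp (MonoidHom.inr SL(2, F) SL(2, F))) (a * b) = dia ((1 : SL(2, F)), a * b) from rfl,
      ← map_mul, Prod.mk_mul_mk, mul_one, inv_mul_cancel_left] at this
    exact this
  refine le_antisymm hTS ?_
  rintro _ ⟨s, ⟨a, ha, b, hb, rfl | rfl⟩, rfl⟩
  · exact (hdia a ha b hb).1
  · exact (T'.mul_mem (hdia a ha b hb) hw).1

end Sylow

theorem isSimple (hodd : Fintype.card F % 2 = 1) (S : Sylow 2 (Cfsg.PSp 2 F)) :
    (Cfsg.groupFusionSystem (S : Subgroup (Cfsg.PSp 2 F))).IsSimple 2 := by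
  have : Fact (Nat.Prime 2) := ⟨Nat.prime_two⟩
  have : Finite (SpM 2 F) := Subtype.finite
  have ho := odd_card_of hodd
  have h2 : (2 : F) ≠ 0 := Ring.two_ne_zero fun h => by
    have := FiniteField.even_card_iff_char_two.1 h
    omega
  obtain ⟨Q⟩ : Nonempty (Sylow 2 SL(2, F)) := inferInstance
  have hQ := qData ho h2 Q
  set Q₀ := (Q : Subgroup SL(2, F)) with hQ₀
  obtain ⟨P, hP⟩ := exists_sylow_wr ho Q
  obtain ⟨S₀, hS₀'⟩ : ∃ S₀ : Sylow 2 (Cfsg.PSp 2 F),
      (S₀ : Subgroup (Cfsg.PSp 2 F)) = (wr Q₀).map (proj 2 F) :=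
    ⟨P.mapSurjective (f := proj 2 F) proj_surjective, by rw [Sylow.coe_mapSurjective, hP]⟩
  have hzS : proj 2 F (dia ((1 : SL(2, F)), -1)) ∈ (S₀ : Subgroup (Cfsg.PSp 2 F)) :=
    hS₀'.ge ⟨_, mem_wr_dia.2 ⟨Q₀.one_mem, hQ.neg_mem⟩, rfl⟩
  have hne : (S₀ : Subgroup (Cfsg.PSp 2 F)) ≠ ⊥ := fun h => by
    rw [h, Subgroup.mem_bot] at hzS
    exact zinv_ne h2 hzS
  have hT := closed_eq h2 hQ hS₀' S₀.isPGroup'
  obtain ⟨-, hsmall, hbig⟩ := Cfsg.Agent.S2431.result ho Q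
  rcases (show (Fintype.card F % 8 = 1 ∨ Fintype.card F % 8 = 7) ∨
      (Fintype.card F % 8 = 3 ∨ Fintype.card F % 8 = 5) by omega) with h8 | h8
  · refine groupFusion_isSimple_of_data_conj S₀ S hne hT fun n hn => ?_
    obtain ⟨g, hg, t, ht, rfl⟩ := normalizer_eq h2 hQ hS₀' hn
    have hgQ : g ∈ Q₀ := (hsmall h8).le hg
    obtain ⟨a, ha⟩ := S₀.isPGroup' ⟨_, hS₀'.ge ⟨_, mul_mem (mem_wr_dia.2 ⟨hgQ, hgQ⟩) ht, rfl⟩⟩
    refine ⟨a, fun x _ => ?_⟩
    have ha' := congrArg Subtype.val ha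
    simp only [SubgroupClass.coe_pow, Subgroup.coe_one] at ha'
    rw [ha', one_mul, mul_one]
  have hN := hbig h8
  -- the quaternion group of order eight
  obtain ⟨k, hk, ⟨e⟩⟩ := Cfsg.Agent.S0261.result ho Q
  have hcard8 : Nat.card Q₀ = 8 := by
    have hf : (Nat.card SL(2, F)).factorization 2 = 3 := by
      obtain ⟨r, hr⟩ : ∃ r, Fintype.card F = 8 * r + 3 ∨ Fintype.card F = 8 * r + 5 :=
        ⟨Fintype.card F / 8, by omega⟩
      obtain ⟨M, hM, hMe⟩ : ∃ M, Odd M ∧ Fintype.card F * (Fintype.card F ^ 2 - 1) = 2 ^ 3 * M := by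
        rcases hr with hr | hr <;> rw [hr]
        · exact ⟨(8 * r + 3) * (2 * (4 * r ^ 2 + 3 * r) + 1),
            Odd.mul ⟨4 * r + 1, by ring⟩ ⟨_, rfl⟩, by
              rw [show (8 * r + 3) ^ 2 - 1 = 8 * (2 * (4 * r ^ 2 + 3 * r) + 1) from
                Nat.sub_eq_of_eq_add (by ring)]
              ring⟩
        · exact ⟨(8 * r + 5) * (2 * (4 * r ^ 2 + 5 * r + 1) + 1),
            Odd.mul ⟨4 * r + 2, by ring⟩ ⟨_, rfl⟩, by
              rw [show (8 * r + 5) ^ 2 - 1 = 8 * (2 * (4 * r ^ 2 + 5 * r + 1) + 1) from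
                Nat.sub_eq_of_eq_add (by ring)]
              ring⟩
      rw [CfsgLib.Classical.SL2Pair.card_SL_two, hMe,
        Nat.factorization_mul (by norm_num) hM.pos.ne', Nat.prime_two.factorization_pow]
      simp [Nat.factorization_eq_zero_of_not_dvd hM.not_two_dvd_nat]
    rw [hQ₀, Sylow.card_eq_multiplicity, hf]; norm_num
  obtain rfl : k = 1 := by
    have h := Nat.card_congr e.toEquiv
    rw [hcard8, Nat.card_eq_fintype_card (α := QuaternionGroup (2 ^ k)), QuaternionGroup.card] at h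
    have : (2 : ℕ) ^ k = 2 ^ 1 := by omega
    exact Nat.pow_right_injective le_rfl this
  let f : QuaternionGroup 2 →* SL(2, F) := Q₀.subtype.comp e.symm.toMonoidHom
  have hf : Function.Injective f := (Subgroup.subtype_injective _).comp e.symm.injective
  have hfm : ∀ v, f v ∈ Q₀ := fun v => (e.symm v).2
  have hfs : ∀ x ∈ Q₀, ∃ v, f v = x := fun x hx =>
    ⟨(e ⟨x, hx⟩ : QuaternionGroup 2), by
      show ((e.symm (e ⟨x, hx⟩) : Q₀) : SL(2, F)) = x
      rw [e.symm_apply_apply]⟩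
  have hneg : f (QuaternionGroup.a 2) = -1 := quat_image_neg h2 f hf
  set I := f (QuaternionGroup.a 1) with hI
  set Jq := f (QuaternionGroup.xa 0) with hJ
  have hnegmul : ∀ v, f (QuaternionGroup.a 2 * v) = -f v := fun v => by rw [map_mul, hneg, neg_one_mul]
  have hII : I * I = -1 := by rw [hI, ← map_mul]; exact hneg
  have hJJ : Jq * Jq = -1 := by rw [hJ, ← map_mul]; exact hneg
  have hJI : Jq * I = -(I * Jq) := by
    rw [hI, hJ, ← map_mul, ← map_mul, ← hnegmul]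
    exact congrArg f (by decide)
  have hKK : I * Jq * (I * Jq) = -1 := by
    rw [show I * Jq * (I * Jq) = I * (Jq * I) * Jq by group, hJI, mul_neg, ← mul_assoc I I, hII,
      neg_one_mul, neg_neg, hJJ]
  have hKJ : I * Jq * Jq = -(Jq * (I * Jq)) := by
    rw [mul_assoc I Jq Jq, hJJ, ← mul_assoc Jq I, hJI, neg_mul, neg_neg, mul_assoc, hJJ]
  have hgenQ : ∀ W : Subgroup SL(2, F), I ∈ W → Jq ∈ W → Q₀ ≤ W := by
    intro W h1 h3 x hx
    obtain ⟨v, rfl⟩ := hfs x hx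
    have hv := quat_word v
    obtain ⟨i, rfl | rfl⟩ := hv
    · rw [map_pow]; exact W.pow_mem h1 _
    · rw [map_mul, map_pow]; exact W.mul_mem (W.pow_mem h1 _) h3
  have hfix : ∀ a ∈ Q₀, (a * I * a⁻¹ = I ∨ a * I * a⁻¹ = -I) ∧
      (a * Jq * a⁻¹ = Jq ∨ a * Jq * a⁻¹ = -Jq) := by
    intro a ha
    obtain ⟨v, rfl⟩ := hfs a ha
    rw [hI, hJ, ← hnegmul, ← hnegmul, ← map_inv, ← map_mul, ← map_mul, ← map_mul, ← map_mul,
      hf.eq_iff, hf.eq_iff, hf.eq_iff, hf.eq_iff]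
    exact quat_fix v
  obtain ⟨hdM, hMM, hMI, hMJ⟩ := reflection h2 hII hJJ hJI
  obtain ⟨hdN, hNN, hNJ, hNK⟩ := reflection h2 hJJ hKK hKJ
  set M := (2 : F)⁻¹ • (I.1 - Jq.1) with hMdef
  set N := (2 : F)⁻¹ • (Jq.1 - (I * Jq).1) with hNdef
  have hgdet : (M * N + M * N).det = 1 := by
    rw [← two_smul F, Matrix.det_smul, Fintype.card_fin, Matrix.det_mul]
    linear_combination (2 * N.det) * hdM + hdN
  set g : SL(2, F) := ⟨M * N + M * N, hgdet⟩ with hgdef
  have hKI : (I * Jq) * Jq = -I := by rw [mul_assoc, hJJ, mul_neg, mul_one]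
  have hNI : N * I.1 = (-I).1 * N := by
    have e : I.1 = -((I * Jq).1 * Jq.1) := by
      have := congrArg Subtype.val hKI
      simp at this
      rw [Matrix.SpecialLinearGroup.coe_mul, this, neg_neg]
    calc N * I.1 = -(N * (I * Jq).1 * Jq.1) := by
          conv_lhs => rw [e]
          rw [mul_neg, mul_assoc]
      _ = -((-Jq).1 * ((-(I * Jq)).1 * N)) := by rw [hNK, mul_assoc, hNJ]
      _ = (-I).1 * N := by
          rw [← mul_assoc, ← Matrix.SpecialLinearGroup.coe_mul, neg_mul_neg,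
            show Jq * (I * Jq) = -(I * Jq * Jq) by rw [hKJ, neg_neg], hKI, neg_neg]
          simp
  have hgI : g * I * g⁻¹ = Jq := by
    refine mul_inv_eq_iff_eq_mul.2 (Subtype.ext ?_)
    show (M * N + M * N) * I.1 = Jq.1 * (M * N + M * N)
    have e : M * N * I.1 = Jq.1 * (M * N) := by
      rw [mul_assoc, hNI, ← mul_assoc, show M * (-I).1 = -(M * I.1) by simp, hMI]
      simp [mul_assoc]
    rw [add_mul, mul_add, e]
  have hgJ : g * Jq * g⁻¹ = I * Jq := by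
    refine mul_inv_eq_iff_eq_mul.2 (Subtype.ext ?_)
    show (M * N + M * N) * Jq.1 = (I * Jq).1 * (M * N + M * N)
    have e : M * N * Jq.1 = (I * Jq).1 * (M * N) := by
      rw [mul_assoc, hNJ, ← mul_assoc, show M * (-(I * Jq)).1 = -(M * I.1 * Jq.1) by simp [mul_assoc],
        hMI, mul_assoc (-Jq).1 M Jq.1, hMJ, ← mul_assoc, ← mul_assoc,
        ← Matrix.SpecialLinearGroup.coe_mul, neg_mul_neg, hJI]
      simp
    rw [add_mul, mul_add, e]
  have hgN : g ∈ Subgroup.normalizer (Q₀ : Set SL(2, F)) :=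
    mem_normalizer_of_forward fun x hx =>
      hgenQ (Q₀.comap (MulAut.conj g).toMonoidHom)
        (show g * I * g⁻¹ ∈ Q₀ by rw [hgI]; exact hfm _)
        (show g * Jq * g⁻¹ ∈ Q₀ by rw [hgJ]; exact Q₀.mul_mem (hfm _) (hfm _)) hx
  have hgQ : g ∉ Q₀ := fun hg => by
    rcases (hfix g hg).1 with h | h <;> rw [hgI] at h
    · exact absurd (hf h) (by decide)
    · rw [hI, ← hnegmul] at h
      exact absurd (hf h) (by decide)
  have hNeq : Subgroup.normalizer (Q₀ : Set SL(2, F)) = Q₀ ⊔ Subgroup.zpowers g := by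
    rcases eq_of_index_three (le_sup_left : Q₀ ≤ Q₀ ⊔ Subgroup.zpowers g)
      (sup_le Subgroup.le_normalizer (Subgroup.zpowers_le.2 hgN)) hN with h | h
    · exact absurd (h.le (Subgroup.mem_sup_right (Subgroup.mem_zpowers g))) hgQ
    · exact h.symm
  -- the elementary abelian radical
  set gens : Set (SpM 2 F) := {dia (I, I), dia (Jq, Jq), dia ((1 : SL(2, F)), -1), wS F} with hgens
  set E := Subgroup.closure gens with hE
  have hgI' : dia (I, I) ∈ E := Subgroup.subset_closure (by simp [hgens])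
  have hgJ' : dia (Jq, Jq) ∈ E := Subgroup.subset_closure (by simp [hgens])
  have hgz : dia ((1 : SL(2, F)), -1) ∈ E := Subgroup.subset_closure (by simp [hgens])
  have hgw : wS F ∈ E := Subgroup.subset_closure (by simp [hgens])
  have hEd : ∀ x ∈ Q₀, dia (x, x) ∈ E := fun x hx =>
    hgenQ (E.comap (dia.comp ((MonoidHom.id SL(2, F)).prod (MonoidHom.id SL(2, F))))) hgI' hgJ' hx
  have hEd' : ∀ x ∈ Q₀, ∀ y, (y = x ∨ y = -x) → dia (x, y) ∈ E := by
    rintro x hx y (rfl | rfl)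
    · exact hEd _ hx
    · have := E.mul_mem (hEd x hx) hgz
      rwa [← map_mul, Prod.mk_mul_mk, mul_one, mul_neg, mul_one] at this
  have hinv : ∀ x ∈ Q₀, x⁻¹ = x ∨ x⁻¹ = -x := by
    intro x hx
    obtain ⟨v, rfl⟩ := hfs x hx
    rw [← hnegmul, ← map_inv, hf.eq_iff, hf.eq_iff]
    exact quat_inv v
  have hEwr : E ≤ wr Q₀ := by
    rw [hE, Subgroup.closure_le, hgens]
    rintro x (rfl | rfl | rfl | rfl)
    · exact mem_wr_dia.2 ⟨hfm _, hfm _⟩
    · exact mem_wr_dia.2 ⟨hfm _, hfm _⟩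
    · exact mem_wr_dia.2 ⟨Q₀.one_mem, hQ.neg_mem⟩
    · exact wS_mem_wr _
  have hwrN : wr Q₀ ≤ Subgroup.normalizer (E : Set (SpM 2 F)) := by
    have hd : ∀ a ∈ Q₀, ∀ b ∈ Q₀, dia (a, b) ∈ Subgroup.normalizer (E : Set (SpM 2 F)) := by
      intro a ha b hb
      have key : ∀ x ∈ Q₀, (∀ c ∈ Q₀, c * x * c⁻¹ = x ∨ c * x * c⁻¹ = -x) →
          dia (a, b) * dia (x, x) * (dia (a, b))⁻¹ ∈ E := by
        intro x hx hxfix
        rw [dia_conj]
        refine hEd' _ (Q₀.mul_mem (Q₀.mul_mem ha hx) (Q₀.inv_mem ha)) _ ?_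
        rcases hxfix a ha with h1 | h1 <;> rcases hxfix b hb with h3 | h3 <;> simp [h1, h3]
      refine mem_normalizer_closure_of ?_
      rintro x (rfl | rfl | rfl | rfl)
      · exact key I (hfm _) fun c hc => (hfix c hc).1
      · exact key Jq (hfm _) fun c hc => (hfix c hc).2
      · rw [dia_conj]; simpa using hgz
      · rw [dia_conj_wS]
        refine E.mul_mem (hEd' _ (Q₀.mul_mem ha (Q₀.inv_mem hb)) _ ?_) hgw
        rw [show b * a⁻¹ = (a * b⁻¹)⁻¹ by group]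
        exact hinv _ (Q₀.mul_mem ha (Q₀.inv_mem hb))
    rintro _ ⟨a, ha, b, hb, rfl | rfl⟩
    · exact hd a ha b hb
    · exact mul_mem (hd a ha b hb) (Subgroup.le_normalizer hgw)
  set R := E.map (proj 2 F) with hR
  refine groupFusion_isSimple_of_radicals_conj S₀ S hne hT {R} ?_ ?_
  · rintro _ rfl
    refine ⟨hS₀'.symm ▸ Subgroup.map_mono hEwr,
      hS₀'.le.trans ((Subgroup.map_mono hwrN).trans (Subgroup.le_normalizer_map _)), fun c hc _ => ?_⟩
    obtain ⟨s, rfl⟩ := proj_surjective c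
    have hcomm : ∀ x ∈ E, proj 2 F (s * x * s⁻¹) = proj 2 F x := fun x hx => by
      rw [map_mul, map_mul, map_inv, ← Subgroup.mem_centralizer_iff.1 hc _ ⟨x, hx, rfl⟩,
        mul_inv_cancel_right]
    obtain ⟨a, b, hs⟩ := centralizer_invol h2 (s := s) (by
      have := hcomm _ hgz
      rw [map_mul, map_mul, map_inv, mul_inv_eq_iff_eq_mul] at this
      rw [map_mul, map_mul]; exact this)
    have hc1 : ∀ x, s * dia (x, x) * s⁻¹ = dia (a * x * a⁻¹, b * x * b⁻¹) := fun x => by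
      rcases hs with rfl | rfl
      · exact dia_conj _ _ _ _
      · rw [show dia (a, b) * wS F * dia (x, x) * (dia (a, b) * wS F)⁻¹ =
          dia (a, b) * (wS F * dia (x, x) * (wS F)⁻¹) * (dia (a, b))⁻¹ by group, wS_conj, dia_conj]
    have hc2 : s * wS F * s⁻¹ = dia (a * b⁻¹, b * a⁻¹) * wS F := by
      rcases hs with rfl | rfl
      · exact dia_conj_wS _ _
      · rw [show dia (a, b) * wS F * wS F * (dia (a, b) * wS F)⁻¹ =
          dia (a, b) * wS F * (dia (a, b))⁻¹ by group, dia_conj_wS]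
    have hab : b = a ∨ b = -a := by
      have h := hcomm _ hgw
      rw [hc2] at h
      rcases proj_eq_cases h with h' | h'
      · left
        have := dia_injective (mul_right_cancel ((show dia ((1 : SL(2, F)), 1) * wS F = wS F by
          rw [show dia ((1 : SL(2, F)), 1) = 1 from map_one dia, one_mul]).trans h'))
        exact (mul_inv_eq_one.1 (congrArg Prod.fst this).symm).symm
      · right
        rw [← mul_assoc, ← map_mul, Prod.mk_mul_mk] at h'
        have := congrArg Prod.fst (dia_injective (mul_right_cancel ((show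
          dia ((1 : SL(2, F)), 1) * wS F = wS F by
            rw [show dia ((1 : SL(2, F)), 1) = 1 from map_one dia, one_mul]).trans h')))
        simp only [neg_one_mul] at this
        have h' : a * b⁻¹ = -1 := by rw [this, neg_neg]
        rw [mul_inv_eq_iff_eq_mul] at h'
        rw [h', neg_one_mul, neg_neg]
    have hax : ∀ x, x ∈ ({I, Jq} : Set SL(2, F)) → a * x * a⁻¹ = x ∨ a * x * a⁻¹ = -x := by
      intro x hx
      have hxE : dia (x, x) ∈ E := by rcases hx with rfl | rfl; exacts [hgI', hgJ']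
      have h := hcomm _ hxE
      rw [hc1] at h
      rcases proj_eq_cases h with h' | h'
      · exact Or.inl (congrArg Prod.fst (dia_injective h')).symm
      · rw [← map_mul] at h'
        have := congrArg Prod.fst (dia_injective h')
        simp only [Prod.fst_mul, neg_one_mul] at this
        exact Or.inr (neg_eq_iff_eq_neg.1 this.symm)
    have hflip : ∀ x y : SL(2, F), (y * x * y⁻¹ = x ∨ y * x * y⁻¹ = -x) →
        (y⁻¹ * x * y = x ∨ y⁻¹ * x * y = -x) := by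
      rintro x y (h | h)
      · left
        calc y⁻¹ * x * y = y⁻¹ * (y * x * y⁻¹) * y := by rw [h]
          _ = x := by group
      · right
        calc y⁻¹ * x * y = -(y⁻¹ * (y * x * y⁻¹) * y) := by rw [h]; simp
          _ = -x := by congr 1; group
    let K : Subgroup SL(2, F) :=
      { carrier := {y | ∀ x ∈ ({I, Jq} : Set SL(2, F)), y * x * y⁻¹ = x ∨ y * x * y⁻¹ = -x}
        one_mem' := fun x _ => Or.inl (by group)
        mul_mem' := fun {u v} hu hv x hx => by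
          rw [show u * v * x * (u * v)⁻¹ = u * (v * x * v⁻¹) * u⁻¹ by group]
          rcases hv x hx with h | h <;> rw [h]
          · exact hu x hx
          · rcases hu x hx with h' | h'
            · exact Or.inr (by rw [mul_neg, neg_mul, h'])
            · exact Or.inl (by rw [mul_neg, neg_mul, h', neg_neg])
        inv_mem' := fun {u} hu x hx => by rw [inv_inv]; exact hflip x u (hu x hx) }
    have hKN : K ≤ Subgroup.normalizer (Q₀ : Set SL(2, F)) := fun y hy =>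
      mem_normalizer_of_forward fun x hx =>
        hgenQ (Q₀.comap (MulAut.conj y).toMonoidHom)
          (show y * I * y⁻¹ ∈ Q₀ by
            rcases hy I (by simp) with h | h <;> rw [h]
            · exact hfm _
            · rw [← neg_one_mul]; exact Q₀.mul_mem hQ.neg_mem (hfm _))
          (show y * Jq * y⁻¹ ∈ Q₀ by
            rcases hy Jq (by simp) with h | h <;> rw [h]
            · exact hfm _
            · rw [← neg_one_mul]; exact Q₀.mul_mem hQ.neg_mem (hfm _)) hx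
    have haQ : a ∈ Q₀ := by
      rcases eq_of_index_three (Q := Q₀) (K := K) (fun y hy x hx => by
          rcases hx with rfl | rfl
          exacts [(hfix y hy).1, (hfix y hy).2]) hKN hN with h | h
      · exact h ▸ hax
      · exfalso
        have hgK : g ∈ K := by rw [h]; exact hgN
        rcases hgK I (by simp) with h' | h' <;> rw [hgI] at h'
        · exact absurd (hf h') (by decide)
        · rw [hI, ← hnegmul] at h'
          exact absurd (hf h') (by decide)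
    refine ⟨s, ?_, rfl⟩
    rcases hs with rfl | rfl
    · exact hEd' a haQ b hab
    · exact E.mul_mem (hEd' a haQ b hab) hgw
  · intro x hx
    obtain ⟨a, ha, t, ht, rfl⟩ := normalizer_eq h2 hQ hS₀' hx
    set K := Subgroup.closure {n : Cfsg.PSp 2 F |
      n ∈ Subgroup.normalizer ((S₀ : Subgroup (Cfsg.PSp 2 F)) : Set (Cfsg.PSp 2 F)) ∧
        ∃ R' ∈ ({R} : Set (Subgroup (Cfsg.PSp 2 F))), n ∈ pGenNormalizer 2 R'}
    have h2el : ∀ y : Cfsg.PSp 2 F, ∀ j : ℕ, y ^ 2 ^ j = 1 → ∃ i, orderOf y = 2 ^ i := fun y j h => by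
      obtain ⟨i, -, hi⟩ := (Nat.dvd_prime_pow Nat.prime_two).1 (orderOf_dvd_of_pow_eq_one h)
      exact ⟨i, hi⟩
    have hwrK : ∀ u ∈ wr Q₀, proj 2 F u ∈ K := fun u hu => by
      have huS : proj 2 F u ∈ (S₀ : Subgroup (Cfsg.PSp 2 F)) := hS₀'.ge ⟨u, hu, rfl⟩
      obtain ⟨j, hj⟩ := S₀.isPGroup' ⟨_, huS⟩
      exact Subgroup.subset_closure ⟨Subgroup.le_normalizer huS, R, rfl, Subgroup.subset_closure
        ⟨Subgroup.le_normalizer_map _ ⟨u, hwrN hu, rfl⟩, h2el _ j (congrArg Subtype.val hj)⟩⟩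
    have hkmem : ∀ (L : Matrix (Fin 2) (Fin 2) F) (hL : 2 * L.det = 1), L * L + L * L = -1 →
        ∀ (i1 j1 : SL(2, F)), i1 ∈ Q₀ → j1 ∈ Q₀ → L * I.1 = i1.1 * L → L * Jq.1 = j1.1 * L →
          proj 2 F (mix L hL) ∈ pGenNormalizer 2 R := by
      intro L hL hLL i1 j1 hi1 hj1 e1 e2
      refine Subgroup.subset_closure ⟨Subgroup.le_normalizer_map _ ⟨_, ?_, rfl⟩, h2el _ 1 ?_⟩
      · refine mem_normalizer_closure_of ?_
        rintro x (rfl | rfl | rfl | rfl)
        · rw [mix_conj_diag L hL e1]; exact hEd _ hi1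
        · rw [mix_conj_diag L hL e2]; exact hEd _ hj1
        · rw [mix_conj_one_neg]; exact hgw
        · rw [mix_conj_wS]; exact hgz
      · rw [pow_one, pow_two, ← map_mul, mix_sq L hL hLL, proj_neg]
    have hnegQ : ∀ y ∈ Q₀, -y ∈ Q₀ := fun y hy => by
      rw [← neg_one_mul]; exact Q₀.mul_mem hQ.neg_mem hy
    have hgg : proj 2 F (dia (g, g)) ∈ K := by
      refine Subgroup.subset_closure ⟨?_, R, rfl, ?_⟩
      · rw [hS₀']
        refine Subgroup.le_normalizer_map _ ⟨_, mem_normalizer_of_forward ?_, rfl⟩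
        have hc : ∀ y ∈ Q₀, g * y * g⁻¹ ∈ Q₀ := fun y hy =>
          (Subgroup.mem_normalizer_iff.1 hgN y).1 hy
        rintro _ ⟨u, hu, v, hv, rfl | rfl⟩
        · rw [dia_conj]; exact mem_wr_dia.2 ⟨hc u hu, hc v hv⟩
        · rw [show dia (g, g) * (dia (u, v) * wS F) * (dia (g, g))⁻¹ =
            dia (g, g) * dia (u, v) * (dia (g, g))⁻¹ * (dia (g, g) * wS F * (dia (g, g))⁻¹) by group,
            dia_conj, dia_conj_wS, mul_inv_cancel, show dia ((1 : SL(2, F)), 1) = 1 from map_one dia,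
            one_mul]
          exact mem_wr_dia_wS.2 ⟨hc u hu, hc v hv⟩
      · rw [← mix_mul M N hdM hdN (g := g) rfl, map_mul]
        refine mul_mem (hkmem M hdM hMM _ _ (hnegQ _ (hfm _)) (hnegQ _ (hfm _)) hMI hMJ)
          (hkmem N hdN hNN _ _ (hnegQ _ (hfm _)) (hnegQ _ (Q₀.mul_mem (hfm _) (hfm _))) hNI hNJ)
    rw [map_mul]
    refine mul_mem ?_ (hwrK t ht)
    have hle : Subgroup.normalizer (Q₀ : Set SL(2, F)) ≤ K.comap
        ((proj 2 F).comp (dia.comp ((MonoidHom.id SL(2, F)).prod (MonoidHom.id SL(2, F))))) := by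
      rw [hNeq]
      exact sup_le (fun y hy => hwrK _ (mem_wr_dia.2 ⟨hy, hy⟩)) (Subgroup.zpowers_le.2 hgg)
    exact hle ha

end CfsgLib.Fusion.PSpFour
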