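import Cfsg.Agent.Lib.Fusion.LayerClosed
import Cfsg.Agent.Lib.Fusion.CentralProduct
import Cfsg.Agent.Lib.Fusion.NormalCentralizerClosed
import Cfsg.Agent.Lib.Fusion.AlperinGen

/-!
# A closed normal subsystem commutes with a strongly closed subgroup meeting it centrally
-/

set_option autoImplicit false
set_option maxHeartbeats 800000
set_option linter.unusedSectionVars false

namespace CfsgLib.Fusion.Closed

open Cfsg Cfsg.FusionSystem CfsgLib.Fusion
open scoped commutatorElement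

universe u

variable {Ω : Type u} [Group Ω] {S W V : Subgroup Ω} {F : FusionSystem S} {E : FusionSystem W}
  {p : ℕ} [Fact p.Prime] [Finite S]

/-- The automorphisms in `A` displacing into `Z`, which `A` fixes. -/
def shifts {R : Subgroup Ω} (A : Subgroup (MulAut R)) (Z : Subgroup Ω)
    (hfix : ∀ a ∈ A, ∀ z : R, (z : Ω) ∈ Z → a z = z) : Subgroup (MulAut R) where
  carrier := {β | β ∈ A ∧ ∀ x : R, ((x⁻¹ * β x : R) : Ω) ∈ Z}
  one_mem' := ⟨one_mem _, fun x => by rw [MulAut.one_apply, inv_mul_cancel]; exact Z.one_mem⟩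
  mul_mem' := fun {β γ} hβ hγ => ⟨mul_mem hβ.1 hγ.1, fun x => by
    rw [show x⁻¹ * (β * γ) x = (x⁻¹ * γ x) * ((γ x)⁻¹ * β (γ x)) by
      rw [MulAut.mul_apply, ← mul_assoc, mul_inv_cancel_right], Subgroup.coe_mul]
    exact Z.mul_mem (hγ.2 x) (hβ.2 _)⟩
  inv_mem' := fun {β} hβ => ⟨inv_mem hβ.1, fun x => by
    rw [show x⁻¹ * β⁻¹ x = ((β⁻¹ x)⁻¹ * β (β⁻¹ x))⁻¹ by
      rw [MulAut.apply_inv_self, mul_inv_rev, inv_inv], Subgroup.coe_inv]
    exact Z.inv_mem (hβ.2 _)⟩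

theorem isPGroup_shifts {R : Subgroup Ω} [Finite R] (A : Subgroup (MulAut R)) (Z : Subgroup Ω)
    (hfix : ∀ a ∈ A, ∀ z : R, (z : Ω) ∈ Z → a z = z) (hR : IsPGroup p R) :
    IsPGroup p (shifts A Z hfix) := by
  rintro ⟨β, hβA, hβ⟩
  have hpow : ∀ (m : ℕ) (x : R), (β ^ m) x = x * (x⁻¹ * β x) ^ m := by
    intro m
    induction m with
    | zero => exact fun x => by simp
    | succ m ih =>
      intro x
      rw [pow_succ', MulAut.mul_apply, ih, map_mul, map_pow, hfix β hβA _ (hβ x)]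
      conv_rhs => rw [pow_succ', ← mul_assoc, mul_inv_cancel_left]
  obtain ⟨k, hk⟩ : ∃ k : ℕ, ∀ x : R, (x⁻¹ * β x) ^ p ^ k = 1 := by
    obtain ⟨k, hk⟩ := hR.exists_card_eq
    exact ⟨k, fun x => by rw [← hk]; exact pow_card_eq_one'⟩
  exact ⟨k, Subtype.ext (MulEquiv.ext fun x => by
    show (β ^ p ^ k) x = x
    rw [hpow, hk, mul_one])⟩

theorem commElt_mem (hn : E.IsNormalIn F p) (hV : F.StronglyClosed V) {x w : Ω} (hx : x ∈ W)
    (hw : w ∈ V) : ⁅x, w⁆ ∈ W ⊓ V := by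
  have hW := hn.1.2.2.2.1
  rw [commutatorElement_def]
  refine ⟨?_, ?_⟩
  · rw [mul_assoc x w, mul_assoc x (w * x⁻¹)]
    exact W.mul_mem hx (conj_mem_of_mem_normalizer (StronglyClosed.normal_in hW (hV.1 hw))
      (W.inv_mem hx))
  · exact V.mul_mem (conj_mem_of_mem_normalizer (StronglyClosed.normal_in hV (hW.1 hx)) hw)
      (V.inv_mem hw)

theorem central_comm (hU : W ⊓ V ≤ E.center) {u x : Ω} (hu : u ∈ W ⊓ V) (hx : x ∈ W) :
    x * u = u * x := E.center_le_centralizer (hU hu) x hx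

/-- An automorphism of order prime to `p` that lifts preserves the commutators with `V`. -/
theorem pres_of_liftable (hS : IsPGroup p S) (hn : E.IsNormalIn F p) (hV : F.StronglyClosed V)
    (hU : W ⊓ V ≤ E.center) {R : Subgroup Ω} (hRT : R ≤ W) (hR : F.IsFullyNormalized R)
    (hRc : centralizerIn W R ≤ R) (hRr : E.IsRadical p R) {a : MulAut R} (ha : a ∈ E.autGroup R)
    (hlift : Liftable F R a) {n : ℕ} (hn1 : a ^ n = 1) (hcop : n.Coprime p) (x : R) {w : Ω}
    (hw : w ∈ V) : ⁅((a x : R) : Ω), w⁆ = ⁅(x : Ω), w⁆ := by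
  obtain ⟨⟨hEs, hF, hEi⟩, -⟩ := id hn
  have hW := hEi.2.1
  have := finite_le hW.1
  have hWp := hS.to_le hW.1
  have hRS := hR.1
  have := finite_le hRS
  have hwS := hV.1 hw
  have hUR : W ⊓ V ≤ R := fun u hu => hRc (mem_centralizerIn.2
    ⟨hu.1, fun r hr => central_comm hU hu (hRT hr)⟩)
  have hfix : ∀ b ∈ E.autGroup R, ∀ z : R, (z : Ω) ∈ W ⊓ V → b z = z := fun b hb z hz =>
    Subtype.ext (Central.center_fix (hU hz) ((mem_autGroup_iff hRT).1 hb) z.2)
  have hwN : w ∈ Subgroup.normalizer (R : Set Ω) := by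
    have h : ∀ v ∈ V, ∀ r ∈ R, v * r * v⁻¹ ∈ R := fun v hv r hr => by
      rw [show v * r * v⁻¹ = (⁅r, v⁆)⁻¹ * r by rw [commutatorElement_def]; group]
      exact R.mul_mem (R.inv_mem (hUR (commElt_mem hn hV (hRT hr) hv))) hr
    refine Subgroup.mem_normalizer_iff.2 fun r => ⟨h w hw r, fun hr => ?_⟩
    have h1 := h _ (V.inv_mem hw) _ hr
    rwa [inv_inv, ← mul_assoc, ← mul_assoc, inv_mul_cancel, one_mul, inv_mul_cancel_right] at h1
  set c : MulAut R := conjAut (S := S) ⟨w, hwS, hwN⟩ with hc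
  have hcv : ∀ y : R, ((c y : R) : Ω) = w * y * w⁻¹ := fun y => rfl
  have hcF : c ∈ F.autGroup R := autInducedBy_le_autGroup hRS (conjAut_mem _)
  have hcom : ∀ y : R, ((y * (c y)⁻¹ : R) : Ω) = ⁅(y : Ω), w⁆ := fun y => by
    rw [Subgroup.coe_mul, Subgroup.coe_inv, hcv, commutatorElement_def]
    group
  have hcU : ∀ y : R, ((y⁻¹ * c y : R) : Ω) ∈ W ⊓ V := fun y => by
    have h1 := (W ⊓ V).inv_mem (commElt_mem hn hV (hRT (R.inv_mem y.2)) (V.inv_mem hw))
    have h2 := central_comm hU h1 (hRT y.2)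
    rw [show ((y⁻¹ * c y : R) : Ω) = (y : Ω)⁻¹ * (w * y * w⁻¹) from rfl]
    have h3 : (y : Ω)⁻¹ * (w * y * w⁻¹) = ⁅(y : Ω)⁻¹, w⁆ := by rw [commutatorElement_def]; group
    rw [h3]
    exact commElt_mem hn hV (hRT (R.inv_mem y.2)) hw
  set b : MulAut R := a * c * a⁻¹ * c⁻¹ with hb
  have hbE : b ∈ E.autGroup R := by
    rw [hb, mul_assoc, mul_assoc, ← mul_assoc c]
    exact mul_mem ha (invariant_conj_mem hEi hRT (inv_mem ha) hcF)
  have hbU : ∀ y : R, ((y⁻¹ * b y : R) : Ω) ∈ W ⊓ V := fun y => by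
    set z : R := c⁻¹ y
    set t : R := a⁻¹ z
    have hz : c z = y := MulAut.apply_inv_self _ _ _
    have ht : a t = z := MulAut.apply_inv_self _ _ _
    have hby : b y = a (c t) := rfl
    have h1 := hfix a ha _ (hcU t)
    rw [map_mul, map_inv, ht] at h1
    have h2 : y⁻¹ * b y = (z⁻¹ * c z)⁻¹ * (z⁻¹ * a (c t)) := by
      rw [hz, hby, mul_inv_rev, inv_inv, ← mul_assoc, mul_inv_cancel_right]
    rw [h2, h1, Subgroup.coe_mul, Subgroup.coe_inv]
    exact (W ⊓ V).mul_mem ((W ⊓ V).inv_mem (hcU z)) (hcU t)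
  set K := shifts (E.autGroup R) (W ⊓ V) hfix with hK
  have hKp : IsPGroup p K := isPGroup_shifts _ _ _ (hS.to_le hRS)
  obtain ⟨g, hg⟩ : ∃ g : R, MulAut.conj g = b := by
    have hKn : (K.subgroupOf (E.autGroup R)).Normal := ⟨fun β hβ α => by
      refine ⟨mul_mem (mul_mem α.2 β.2) (inv_mem α.2), fun y => ?_⟩
      set z : R := (α : MulAut R)⁻¹ y
      have hz : (α : MulAut R) z = y := MulAut.apply_inv_self _ _ _
      have h1 := hfix _ α.2 _ (hβ.2 z)
      rw [map_mul, map_inv, hz] at h1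
      simp only [Subgroup.coe_subtype] at h1
      show ((y⁻¹ * (α : MulAut R) ((β : MulAut R) z) : R) : Ω) ∈ W ⊓ V
      rw [h1]
      exact hβ.2 z⟩
    have hle : K.subgroupOf (E.autGroup R) ≤ pCore p (E.autGroup R) :=
      Core.le_pCore (hKp.comap_of_injective _ (E.autGroup R).subtype_injective)
    have h1 : b ∈ Inn R := hRr.2 ▸ ⟨⟨b, hbE⟩, hle (⟨hbE, hbU⟩ : b ∈ K), rfl⟩
    exact h1
  have hac : ∀ y : R, a (c y) = g * c (a y) * g⁻¹ := fun y => by
    have h1 := (DFunLike.congr_fun hg (c (a y))).symm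
    rw [MulAut.conj_apply] at h1
    rw [← h1, hb, MulAut.mul_apply, MulAut.mul_apply, MulAut.mul_apply, MulAut.inv_apply_self,
      MulAut.inv_apply_self]
  -- an element of `V` acting on `R` as `g`
  have he : IsoIn F (a : R ≃* R) := (mem_autGroup_iff_isoIn hRS).1
    ((mem_autGroup_iff hRS).2 (hEi.1 R ((mem_autGroup_iff hRT).1 ha)))
  have hext : w ∈ extender S R (isoHom (a : R ≃* R)) := by
    refine mem_extender_iff.2 ⟨hwS, hwN, g * w, S.mul_mem (hRS g.2) hwS, fun y hy => ?_⟩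
    rw [show (⟨w * y * w⁻¹, hy⟩ : R) = c y from Subtype.ext rfl, isoHom_apply, isoHom_apply, hac,
      Subgroup.coe_mul, Subgroup.coe_mul, Subgroup.coe_inv, hcv]
    group
  obtain ⟨ψ, hψ, hψv⟩ := exists_extension
    (IsSaturated.receptive hS hF (IsSaturated.fullyCentralized hS hF hR)) he
    (le_extender hRS fun y => hRS (a y).2) le_rfl
  set W' := ψ ⟨w, hext⟩ with hW'
  have hW'V : W' ∈ V := StronglyClosed.apply_mem hV hψ hw
  have hW'v : ∀ y : R, W' * (a y : Ω) * W'⁻¹ = g * (w * (a y : Ω) * w⁻¹) * (g : Ω)⁻¹ := fun y => by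
    rw [← hcv, hW', ← hψv y, ← map_inv, ← map_mul, ← map_mul]
    have h1 : ψ (Subgroup.inclusion (le_extender hRS fun z => hRS (a z).2) (c y)) = (a (c y) : Ω) :=
      hψv (c y)
    refine (congrArg ψ (Subtype.ext rfl)).trans (h1.trans ?_)
    rw [hac, Subgroup.coe_mul, Subgroup.coe_mul, Subgroup.coe_inv]
  have hv : ∀ r : R, W' * w⁻¹ * (r : Ω) * (W' * w⁻¹)⁻¹ = g * (r : Ω) * (g : Ω)⁻¹ := fun r => by
    have h1 := hW'v (a⁻¹ (c⁻¹ r))
    rw [MulAut.apply_inv_self, ← hcv, MulAut.apply_inv_self] at h1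
    have h2 : w * ((c⁻¹ r : R) : Ω) * w⁻¹ = r := by rw [← hcv, MulAut.apply_inv_self]
    have h3 : ((c⁻¹ r : R) : Ω) = w⁻¹ * r * w := by rw [← h2]; group
    rw [h3] at h1
    rw [← h1]
    group
  set c' : Ω := (g : Ω)⁻¹ * (W' * w⁻¹) with hc'
  have hc'C : c' ∈ centralizerIn S R := mem_centralizerIn.2
    ⟨S.mul_mem (S.inv_mem (hRS g.2)) (S.mul_mem (hV.1 hW'V) (S.inv_mem hwS)), fun r hr => by
      have h1 := hv ⟨r, hr⟩
      calc r * c' = (g : Ω)⁻¹ * ((g : Ω) * r * (g : Ω)⁻¹) * (W' * w⁻¹) := by rw [hc']; group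
        _ = (g : Ω)⁻¹ * (W' * w⁻¹ * r * (W' * w⁻¹)⁻¹) * (W' * w⁻¹) := by rw [h1]
        _ = c' * r := by rw [hc']; group⟩
  obtain ⟨κ, hκ, ⟨m, hm, hmp⟩, hκa⟩ := hlift.exists_pPrime hRS hn1 hcop
  have hMS := sup_centralizerIn_le_S (S := S) hRS
  set G : ↥(R ⊔ centralizerIn S R) := ⟨g, Subgroup.mem_sup_left g.2⟩ with hG
  set C' : ↥(R ⊔ centralizerIn S R) := ⟨c', Subgroup.mem_sup_right hc'C⟩ with hC'
  have hGC : ((G * C' : ↥(R ⊔ centralizerIn S R)) : Ω) = W' * w⁻¹ := mul_inv_cancel_left _ _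
  have hGCV : ((G * C' : ↥(R ⊔ centralizerIn S R)) : Ω) ∈ V :=
    hGC ▸ V.mul_mem hW'V (V.inv_mem hw)
  have hκC : ((κ C' : ↥(R ⊔ centralizerIn S R)) : Ω) ∈ centralizerIn S R :=
    hκ.apply_centralizer hRS C' hc'C
  set v := G * C' with hvdef
  have hu : (((v⁻¹ * κ v : ↥(R ⊔ centralizerIn S R))) : Ω) ∈ W ⊓ V := by
    refine ⟨hRT ?_, ?_⟩
    · have hr : (g : Ω)⁻¹ * (a g : Ω) ∈ R := R.mul_mem (R.inv_mem g.2) (a g).2
      rw [show ((v⁻¹ * κ v : ↥(R ⊔ centralizerIn S R)) : Ω) =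
          ((g : Ω)⁻¹ * (a g : Ω)) * (c'⁻¹ * ((κ C' : ↥(R ⊔ centralizerIn S R)) : Ω)) by
        rw [hvdef, map_mul, mul_inv_rev, Subgroup.coe_mul, Subgroup.coe_mul, Subgroup.coe_mul,
          Subgroup.coe_inv, Subgroup.coe_inv,
          show ((κ G : ↥(R ⊔ centralizerIn S R)) : Ω) = (a g : Ω) from hκa g g.2]
        have hcc := (mem_centralizerIn.1 ((centralizerIn S R).inv_mem hc'C)).2 _ hr
        show c'⁻¹ * (g : Ω)⁻¹ * ((a g : Ω) * _) = _
        calc _ = c'⁻¹ * ((g : Ω)⁻¹ * (a g : Ω)) *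
            ((κ C' : ↥(R ⊔ centralizerIn S R)) : Ω) := by group
          _ = _ := by rw [← hcc]; group]
      exact R.mul_mem hr (hκ.2.2 C' hc'C)
    · rw [Subgroup.coe_mul, Subgroup.coe_inv]
      exact V.mul_mem (V.inv_mem hGCV)
        (StronglyClosed.apply_mem hV ((mem_autGroup_iff hMS).1 hκ.1) hGCV)
  have hκv : κ v = v := by
    have hfu : κ (v⁻¹ * κ v) = v⁻¹ * κ v := Subtype.ext ((hκa _ (hUR hu)).trans
      (congrArg Subtype.val (hfix a ha ⟨_, hUR hu⟩ hu) :))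
    exact (inv_mul_eq_one.1 (eq_one_of_shift_fixed hS hMS ⟨m, hm, hmp⟩
      (mul_inv_cancel_left v _).symm hfu)).symm
  have hcomm : Commute a (MulAut.conj g) := by
    refine MulEquiv.ext fun y => Subtype.ext ?_
    have h1 : (a g : Ω) * ((κ C' : ↥(R ⊔ centralizerIn S R)) : Ω) = (g : Ω) * c' := by
      have h2 := congrArg Subtype.val hκv
      rw [hvdef, map_mul, Subgroup.coe_mul] at h2
      rw [← hκa g g.2]
      exact h2
    have h3 := (mem_centralizerIn.1 hκC).2 _ (a y).2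
    have h4 := (mem_centralizerIn.1 hc'C).2 _ (a y).2
    show ((a (g * y * g⁻¹) : R) : Ω) = ((g * a y * g⁻¹ : R) : Ω)
    rw [map_mul, map_mul, map_inv, Subgroup.coe_mul, Subgroup.coe_mul, Subgroup.coe_mul,
      Subgroup.coe_mul, Subgroup.coe_inv, Subgroup.coe_inv]
    have h5 : (a g : Ω) = (g : Ω) * c' * ((κ C' : ↥(R ⊔ centralizerIn S R)) : Ω)⁻¹ := by
      rw [← h1, mul_inv_cancel_right]
    rw [h5]
    calc _ = (g : Ω) * c' * (((κ C' : ↥(R ⊔ centralizerIn S R)) : Ω)⁻¹ *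
          ((a y : Ω) * ((κ C' : ↥(R ⊔ centralizerIn S R)) : Ω))) * c'⁻¹ * (g : Ω)⁻¹ := by group
      _ = (g : Ω) * (c' * (a y : Ω)) * c'⁻¹ * (g : Ω)⁻¹ := by
        rw [h3, inv_mul_cancel_left]; group
      _ = _ := by rw [← h4]; group
  have hbc : a * c * a⁻¹ = b * c := (inv_mul_cancel_right _ _).symm
  have hpowc : ∀ k : ℕ, a ^ k * c * (a ^ k)⁻¹ = b ^ k * c := by
    intro k
    induction k with
    | zero => simp
    | succ k ih =>
      rw [pow_succ' a, mul_inv_rev,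
        show a * a ^ k * c * ((a ^ k)⁻¹ * a⁻¹) = a * (a ^ k * c * (a ^ k)⁻¹) * a⁻¹ by group, ih,
        ← mul_assoc a, (((hg ▸ hcomm : Commute a b)).pow_right k).eq, mul_assoc (b ^ k) a,
        mul_assoc (b ^ k), hbc, ← mul_assoc, ← pow_succ]
  have hb1 : b = 1 := by
    have h1 : b ^ n = 1 := by
      have h2 := hpowc n
      rw [hn1, one_mul, inv_one, mul_one] at h2
      exact right_eq_mul.1 h2
    obtain ⟨k, hk⟩ := hKp ⟨b, hbE, hbU⟩
    exact orderOf_eq_one_iff.1 (Nat.eq_one_of_dvd_coprimes (Nat.Coprime.pow_left k hcop.symm)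
      (orderOf_dvd_of_pow_eq_one (congrArg Subtype.val hk :)) (orderOf_dvd_of_pow_eq_one h1))
  have hcomac : ∀ y : R, a (c y) = c (a y) := fun y => by
    rw [hac]
    have h2 := DFunLike.congr_fun (hg.trans hb1) (c (a y))
    rwa [MulAut.conj_apply, MulAut.one_apply] at h2
  rw [← hcom, ← hcom, ← hcomac x, ← map_inv, ← map_mul]
  exact (congrArg Subtype.val (hfix a ha _ (by rw [hcom]; exact commElt_mem hn hV (hRT x.2) hw)) :)

/-- A closed normal subsystem commutes with every strongly closed subgroup meeting it centrally. -/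
theorem commutes (hS : IsPGroup p S) (hn : E.IsNormalIn F p) (hE : IsClosed E p)
    (hV : F.StronglyClosed V) (hU : W ⊓ V ≤ E.center) :
    ∀ x ∈ W, ∀ y ∈ V, x * y = y * x := by
  obtain ⟨⟨hEs, hF, hEi⟩, hext⟩ := id hn
  have hT := hEi.2.1
  have := finite_le hT.1
  have hTp := hS.to_le hT.1
  have hcm : ∀ {x y : Ω}, x ∈ W → y ∈ W → ∀ w ∈ V, ⁅x * y, w⁆ = ⁅x, w⁆ * ⁅y, w⁆ := by
    intro x y hx hy w hw
    have hu := commElt_mem hn hV hy hw
    have h1 := central_comm hU hu hx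
    have h2 := central_comm hU hu (commElt_mem hn hV hx hw).1
    rw [show ⁅x * y, w⁆ = x * ⁅y, w⁆ * x⁻¹ * ⁅x, w⁆ by simp only [commutatorElement_def]; group,
      h1, mul_inv_cancel_right, h2]
  let G : FusionSystem W :=
    { Hom := fun P => {φ | φ ∈ E.Hom P ∧ ∀ x : P, ∀ w ∈ V, ⁅φ x, w⁆ = ⁅(x : Ω), w⁆}
      le_of_mem := fun h => E.le_of_mem h.1
      injective_of_mem := fun h => E.injective_of_mem h.1
      conj_mem := fun {P g} hP hg => ⟨E.conj_mem hP hg, fun x w hw => by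
        show ⁅g * (x : Ω) * g⁻¹, w⁆ = _
        rw [hcm (W.mul_mem hg (hP x.2)) (W.inv_mem hg) w hw, hcm hg (hP x.2) w hw,
          central_comm hU (commElt_mem hn hV (hP x.2) hw) (commElt_mem hn hV hg hw).1, mul_assoc,
          ← hcm hg (W.inv_mem hg) w hw, mul_inv_cancel, commutatorElement_one_left, mul_one]⟩
      comp_mem := fun {P Q φ ψ} hφ hψ h => ⟨E.comp_mem hφ.1 hψ.1 h, fun x w hw =>
        (hψ.2 ⟨φ x, h x⟩ w hw).trans (hφ.2 x w hw)⟩
      inv_mem := fun {P φ} hφ => by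
        obtain ⟨χ, hχ, hχv⟩ := E.inv_mem hφ.1
        refine ⟨χ, ⟨hχ, fun y w hw => ?_⟩, hχv⟩
        obtain ⟨_, x, rfl⟩ := y
        exact (congrArg (fun z => ⁅z, w⁆) (hχv x)).trans (hφ.2 x w hw).symm }
  have hGle : ∀ {R : Subgroup Ω} {a : MulAut R}, R ≤ W → a ∈ E.autGroup R →
      (∀ x : R, ∀ w ∈ V, ⁅((a x : R) : Ω), w⁆ = ⁅(x : Ω), w⁆) → a ∈ G.autGroup R :=
    fun {R a} hR ha h => (mem_autGroup_iff hR).2 ⟨(mem_autGroup_iff hR).1 ha, h⟩
  have hGv : ∀ {R : Subgroup Ω} {a : MulAut R}, R ≤ W → a ∈ G.autGroup R →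
      ∀ x : R, ∀ w ∈ V, ⁅((a x : R) : Ω), w⁆ = ⁅(x : Ω), w⁆ :=
    fun {R a} hR ha => ((mem_autGroup_iff hR).1 ha).2
  have hliftG : ∀ R, R ≤ W → ∀ hR : F.IsFullyNormalized R, centralizerIn W R ≤ R →
      E.IsRadical p R → liftGroup F E hR.1 ≤ G.autGroup R := by
    intro R hRT hR hRc hRr
    have := finite_mulAut_of_le (S := S) hR.1
    have hRfn := fullyNormalized_of_ambient hS hF hT hEi.1 hR hRT
    have hsyl := (IsSaturated.fullyAutomized hTp hEs hRfn).2
    have hP : autInducedBy W R ≤ E.autGroup R := autInducedBy_le_autGroup hRT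
    have hPL : autInducedBy W R ≤ liftGroup F E hR.1 := by
      intro a ha
      obtain ⟨t, ht, htv⟩ := mem_autInducedBy_iff.1 ha
      obtain ⟨x, hx, hxv⟩ := trivAut_conjAut hT hRT hRc ⟨ht, mem_normalizer_of_conj_eq a htv⟩
      exact ⟨hP ha, x, hx, fun r hr => (hxv r hr).trans (htv ⟨r, hr⟩).symm⟩
    refine le_of_sylow_of_coprime (IsSylowIn.of_le hsyl hP (fun a ha => ha.1) hPL) ?_ ?_
    · exact autInducedBy_le_autGroup hRT
    · rintro a ⟨haE, hlift⟩ ⟨n, hn1, hcop⟩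
      exact hGle hRT haE fun x w hw =>
        pres_of_liftable hS hn hV hU hRT hR hRc hRr haE hlift hn1 hcop x hw
  suffices h : E ≤ G by
    intro x hx y hy
    let K : Subgroup Ω :=
      { carrier := {z | z ∈ W ∧ ∀ w ∈ V, ⁅z, w⁆ = 1}
        one_mem' := ⟨W.one_mem, fun w _ => commutatorElement_one_left w⟩
        mul_mem' := fun {a b} ha hb => ⟨W.mul_mem ha.1 hb.1, fun w hw => by
          rw [hcm ha.1 hb.1 w hw, ha.2 w hw, hb.2 w hw, mul_one]⟩
        inv_mem' := fun {a} ha => ⟨W.inv_mem ha.1, fun w hw => by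
          have h1 := hcm (W.inv_mem ha.1) ha.1 w hw
          rwa [inv_mul_cancel, commutatorElement_one_left, ha.2 w hw, mul_one, eq_comm] at h1⟩ }
    have hK : W ≤ K := by
      rw [← focal_eq hS hT.1 hE]
      refine (Subgroup.closure_le _).2 ?_
      rintro _ ⟨P, φ, z, hφ, rfl⟩
      have hz := hom_le hφ z.2
      refine ⟨W.mul_mem (W.inv_mem hz) (hom_apply_mem hφ z), fun w hw => ?_⟩
      rw [hcm (W.inv_mem hz) (hom_apply_mem hφ z) w hw, (h P hφ).2 z w hw,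
        ← hcm (W.inv_mem hz) hz w hw, inv_mul_cancel, commutatorElement_one_left]
    exact commutatorElement_eq_one_iff_mul_comm.1 ((hK hx).2 y hy)
  refine alperin_gen hTp hEs G ?_ ?_
  · intro a ha
    have hR := fullyNormalized_closed hT
    refine hliftG W le_rfl hR (centralizerIn_le W) (isRadical_self hTp hEs) ⟨ha, ?_⟩
    obtain ⟨β, hβ, hβv, hβz⟩ := hext a ha
    exact ⟨β, ⟨hβ, fun r hr => (hβv ⟨r, hr⟩).symm ▸ (a ⟨r, hr⟩).2,
      fun c hc => (hβz c hc).1⟩, fun r hr => hβv ⟨r, hr⟩⟩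
  intro P hPT hess hup
  refine fun a ha => Subgroup.mem_sup_left ?_
  obtain ⟨R, hPR, hR⟩ := exists_fullyNormalized (F := F) (hPT.le.trans hT.1)
  obtain ⟨f, hf, hfN, himg⟩ := exists_normalizer_map hS (IsSaturated.fullyAutomized hS hF hR)
    (IsSaturated.receptive hS hF (IsSaturated.fullyCentralized hS hF hR)) hPR
  have hPS : P ≤ S := hPT.le.trans hT.1
  have hPN := le_normalizerIn (S := S) hPS
  obtain ⟨e, he, hev⟩ := exists_iso (restrict_mem hf hPN) (Q := R) (by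
    rw [range_restrict]; exact himg)
  have hRc : centralizerIn W R ≤ R :=
    ((tCentric_of_centric hEi hess.1).conj hT hPR).2 R (isConj_refl hR.1)
  have hRT : R ≤ W := ((tCentric_of_centric hEi hess.1).conj hT hPR).1
  have hRr := invariant_isRadical hEi hPT.le he (IsEssential.isRadical hTp hess)
  have hcard : Nat.card R = Nat.card P := (isConj_card hPR).symm
  -- every automorphism at `R`
  have hall : E.autGroup R ≤ G.autGroup R := by
    intro a ha
    have := finite_mulAut_of_le (S := S) hR.1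
    have hL := hliftG R hRT hR hRc hRr
    have hRfn := fullyNormalized_of_ambient hS hF hT hEi.1 hR hRT
    have hsyl := (IsSaturated.fullyAutomized hTp hEs hRfn).2
    have hP : autInducedBy W R ≤ E.autGroup R := autInducedBy_le_autGroup hRT
    have hPL : autInducedBy W R ≤ liftGroup F E hR.1 := by
      intro b hb
      obtain ⟨t, ht, htv⟩ := mem_autInducedBy_iff.1 hb
      obtain ⟨x, hx, hxv⟩ := trivAut_conjAut hT hRT hRc ⟨ht, mem_normalizer_of_conj_eq b htv⟩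
      exact ⟨hP hb, x, hx, fun r hr => (hxv r hr).trans (htv ⟨r, hr⟩).symm⟩
    have hXL : (autInducedBy W R).map (MulAut.conj a).toMonoidHom ≤ liftGroup F E hR.1 := by
      rintro _ ⟨b, hb, rfl⟩
      have hb' : a * b * a⁻¹ ∈ E.autGroup R := mul_mem (mul_mem ha (hP hb)) (inv_mem ha)
      refine ⟨hb', liftable_of_pPower hS hF hEs hEi hRT hR hRc hb' ?_⟩
      obtain ⟨k, hk⟩ := isPGroup_autInducedBy (P := R) hTp ⟨b, hb⟩
      refine ⟨k, ?_⟩
      show (MulAut.conj a b) ^ p ^ k = 1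
      rw [← map_pow, show b ^ p ^ k = 1 from congrArg Subtype.val hk, map_one]
    obtain ⟨k, hk, hkv⟩ := (IsSylowIn.of_le hsyl hP (fun b hb =>
      (show b ∈ E.autGroup R ∧ Liftable F R b from hb).1) hPL).exists_conj_mem hXL
      ((isPGroup_autInducedBy (P := R) hTp).map _)
    have hka : k * a ∈ E.autGroup R := mul_mem hk.1 ha
    have hnorm : ∀ b ∈ autInducedBy W R, k * a * b * (k * a)⁻¹ ∈ autInducedBy W R := by
      intro b hb
      have := hkv _ (Subgroup.mem_map_of_mem _ hb)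
      simp only [MulEquiv.coe_toMonoidHom, MulAut.conj_apply] at this
      rwa [show k * a * b * (k * a)⁻¹ = k * (a * b * a⁻¹) * k⁻¹ by group]
    have hiso : IsoIn E ((k * a : MulAut R) : R ≃* R) := (mem_autGroup_iff_isoIn hRT).1 hka
    have hQ : normalizerIn W R ≤ extender W R (isoHom ((k * a : MulAut R) : R ≃* R)) := by
      intro t ht
      obtain ⟨h, hh, hhv⟩ := mem_autInducedBy_iff.1 (hnorm _ (conjAut_mem ⟨t, ht⟩))
      refine mem_extender_iff.2 ⟨ht.1, ht.2, h, hh, fun x hx => ?_⟩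
      have h1 := hhv ((k * a) x)
      rw [← MulAut.mul_apply, inv_mul_cancel_right, MulAut.mul_apply] at h1
      exact h1
    obtain ⟨φ, hφ, hφv⟩ := exists_extension
      (IsSaturated.receptive hTp hEs (IsSaturated.fullyCentralized hTp hEs hRfn)) hiso
      (le_normalizerIn hRT) hQ
    have hlt : R < W := lt_of_le_of_ne hRT fun h => by
      subst h
      exact hPT.ne (Subgroup.eq_of_le_of_card_ge hPT.le hcard.le)
    have hbig : Nat.card P < Nat.card (normalizerIn W R) := by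
      have hlt' := lt_normalizerIn hTp hlt
      have := finite_le ((normalizerIn_le (S := W) R).trans hT.1)
      rw [← hcard]
      refine lt_of_le_of_ne (Subgroup.card_le_of_le hlt'.le) fun h => hlt'.ne ?_
      exact Subgroup.eq_of_le_of_card_ge hlt'.le h.ge
    have hkaG : k * a ∈ G.autGroup R := hGle hRT hka fun x w hw => by
      have h1 := (hup _ hbig hφ).2 (Subgroup.inclusion (le_normalizerIn hRT) x) w hw
      rwa [hφv x] at h1
    have := mul_mem (inv_mem (hL hk)) hkaG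
    rwa [inv_mul_cancel_left] at this
  -- back to `P`
  refine hGle hPT.le ha fun x w hw => ?_
  have haR := invariant_congr hEi hPT.le he ha
  have hfw : ∀ (y : P) (hy : w ∈ normalizerIn S P),
      f ⟨(y : Ω) * w * (y : Ω)⁻¹ * w⁻¹, mul_mem (mul_mem (mul_mem (hPN y.2) hy)
        (inv_mem (hPN y.2))) (inv_mem hy)⟩ = ⁅((e y : R) : Ω), f ⟨w, hy⟩⁆ := fun y hy => by
    rw [hev, commutatorElement_def, MonoidHom.comp_apply]
    simp only [← map_inv f, ← map_mul f]
    exact congrArg f (Subtype.ext rfl)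
  have hwN : w ∈ normalizerIn S P := by
    refine ⟨hV.1 hw, ?_⟩
    have hUP : W ⊓ V ≤ P := fun u hu => hess.1.2 P (isConj_refl hPT.le) (mem_centralizerIn.2
      ⟨hu.1, fun r hr => central_comm hU hu (hPT.le hr)⟩)
    have h : ∀ v ∈ V, ∀ r ∈ P, v * r * v⁻¹ ∈ P := fun v hv r hr => by
      rw [show v * r * v⁻¹ = (⁅r, v⁆)⁻¹ * r by rw [commutatorElement_def]; group]
      exact P.mul_mem (P.inv_mem (hUP (commElt_mem hn hV (hPT.le hr) hv))) hr
    refine Subgroup.mem_normalizer_iff.2 fun r => ⟨h w hw r, fun hr => ?_⟩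
    have h1 := h _ (V.inv_mem hw) _ hr
    rwa [inv_inv, ← mul_assoc, ← mul_assoc, inv_mul_cancel, one_mul, inv_mul_cancel_right] at h1
  have hfwV : f ⟨w, hwN⟩ ∈ V := StronglyClosed.apply_mem hV hf hw
  have h1 := hGv hRT (hall haR) (e x) _ hfwV
  rw [show (MulAut.congr e a) (e x) = e (a x) by simp [MulAut.congr], ← hfw _ hwN, ← hfw _ hwN]
    at h1
  exact congrArg Subtype.val (F.injective_of_mem hf h1 :)

end CfsgLib.Fusion.Closed
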