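import Mathlib.GroupTheory.FreeGroup.Reduce
import Mathlib.GroupTheory.FreeGroup.NielsenSchreier
import Mathlib.GroupTheory.SemidirectProduct
import Mathlib.GroupTheory.Coset.Basic
import Mathlib.GroupTheory.Coset.Card
import Mathlib.Algebra.BigOperators.Fin
import Mathlib.Algebra.Order.BigOperators.Group.Finset
import Mathlib.Algebra.GroupWithZero.Action.Defs
import Mathlib.Tactic.Linarith
import Mathlib.Tactic.Ring
import Mathlib.Tactic.Group
import Mathlib.GroupTheory.OrderOfElement

/-!
# Groups of reduced paths

A group `K`, a subgroup `B` and a family of elements `σ i` with subgroups `A i ≤ B`,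
`(σ i)⁻¹ (A i) (σ i) ≤ B`, give a graph on the cosets of `B` with edges the cosets of the `A i`.
The elements of `FreeGroup edges ⋊ K` generated by `B` and the `(edge i, σ i)` have paths as
reduced words; this yields that their finite subgroups are conjugate into `B`.
-/

set_option autoImplicit false

namespace CfsgLib.Fusion.PathGroup

open scoped Classical

universe u

noncomputable section

variable {K : Type u} [Group K] {I : Type u}

/-- The edges. -/
def Edge (A : I → Subgroup K) : Type u := Σ i, K ⧸ A i

instance (A : I → Subgroup K) : MulAction K (Edge A) where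
  smul k e := ⟨e.1, k • e.2⟩
  one_smul := fun ⟨i, q⟩ => congrArg (fun r => (⟨i, r⟩ : Edge A)) (one_smul K q)
  mul_smul := fun k l ⟨i, q⟩ => congrArg (fun r => (⟨i, r⟩ : Edge A)) (mul_smul k l q)

variable (A : I → Subgroup K)

/-- The edge of the coset `k (A i)`. -/
def edge (i : I) (k : K) : Edge A := ⟨i, (k : K ⧸ A i)⟩

theorem smul_edge (i : I) (k l : K) : k • edge A i l = edge A i (k * l) :=
  congrArg (fun r => (⟨i, r⟩ : Edge A)) (MulAction.Quotient.smul_coe (A i) k l)

/-- The action on words. -/
def act : K →* MulAut (FreeGroup (Edge A)) where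
  toFun k := FreeGroup.freeGroupCongr (MulAction.toPerm k)
  map_one' := by
    refine MulEquiv.ext fun x => ?_
    show FreeGroup.map _ x = x
    rw [show ((MulAction.toPerm (1 : K) : Equiv.Perm (Edge A)) : Edge A → Edge A) = id from
      funext fun e => one_smul K e, FreeGroup.map.id]
  map_mul' k l := by
    refine MulEquiv.ext fun x => ?_
    show FreeGroup.map _ x = FreeGroup.map _ (FreeGroup.map _ x)
    rw [FreeGroup.map.comp]
    exact congrArg (fun f => FreeGroup.map f x) (funext fun e => mul_smul k l e)

/-- The action on letters. -/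
def lact (k : K) (x : Edge A × Bool) : Edge A × Bool := (k • x.1, x.2)

theorem isReduced_map (k : K) {L : List (Edge A × Bool)} (h : FreeGroup.IsReduced L) :
    FreeGroup.IsReduced (L.map (lact A k)) := by
  unfold FreeGroup.IsReduced at h ⊢
  rw [List.isChain_map]
  exact h.imp fun a b hab hab' => hab (MulAction.injective k hab')

theorem toWord_act (k : K) (x : FreeGroup (Edge A)) :
    (act A k x).toWord = x.toWord.map (lact A k) := by
  conv_lhs => rw [← FreeGroup.mk_toWord (x := x)]
  show (FreeGroup.map _ (FreeGroup.mk x.toWord)).toWord = _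
  rw [FreeGroup.map.mk, FreeGroup.toWord_mk]
  exact (isReduced_map A k FreeGroup.isReduced_toWord).reduce_eq

theorem act_of (k : K) (e : Edge A) : act A k (FreeGroup.of e) = FreeGroup.of (k • e) :=
  FreeGroup.map.of

/-- The ambient group. -/
abbrev W : Type u := FreeGroup (Edge A) ⋊[act A] K

variable (B : Subgroup K) (σ : I → K)

/-- The conditions on the data. -/
structure Data : Prop where
  le : ∀ i, A i ≤ B
  conj : ∀ i, ∀ a ∈ A i, (σ i)⁻¹ * a * σ i ∈ B

variable {A B σ}

/-- The source of an edge. -/
def src (hd : Data A B σ) : Edge A → K ⧸ B := fun ⟨i, q⟩ =>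
  Quotient.liftOn' q (fun k => (k : K ⧸ B)) fun a b h => by
    rw [QuotientGroup.leftRel_apply] at h
    exact QuotientGroup.eq.2 (hd.le i h)

/-- The target of an edge. -/
def tgt (hd : Data A B σ) : Edge A → K ⧸ B := fun ⟨i, q⟩ =>
  Quotient.liftOn' q (fun k => ((k * σ i : K) : K ⧸ B)) fun a b h => by
    rw [QuotientGroup.leftRel_apply] at h
    refine QuotientGroup.eq.2 ?_
    have := hd.conj i _ h
    simpa [mul_assoc] using this

theorem src_mk (hd : Data A B σ) (i : I) (k : K) :
    src hd (⟨i, (k : K ⧸ A i)⟩ : Edge A) = (k : K ⧸ B) := rfl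

theorem tgt_mk (hd : Data A B σ) (i : I) (k : K) :
    tgt hd (⟨i, (k : K ⧸ A i)⟩ : Edge A) = ((k * σ i : K) : K ⧸ B) := rfl

/-- The start of a letter. -/
def start (hd : Data A B σ) (x : Edge A × Bool) : K ⧸ B := if x.2 then src hd x.1 else tgt hd x.1

/-- The end of a letter. -/
def stop (hd : Data A B σ) (x : Edge A × Bool) : K ⧸ B := start hd (x.1, !x.2)

theorem start_smul (hd : Data A B σ) (k : K) (x : Edge A × Bool) :
    start hd (lact A k x) = k • start hd x := by
  obtain ⟨⟨i, q⟩, b⟩ := x
  obtain ⟨l, rfl⟩ := QuotientGroup.mk_surjective q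
  cases b
  · show (((k * l) * σ i : K) : K ⧸ B) = k • ((l * σ i : K) : K ⧸ B)
    rw [MulAction.Quotient.smul_coe, smul_eq_mul, mul_assoc]
  · rfl

/-- The word is a path from `v` to `w`. -/
def IsPath (hd : Data A B σ) : K ⧸ B → List (Edge A × Bool) → K ⧸ B → Prop
  | v, [], w => v = w
  | v, x :: L, w => start hd x = v ∧ IsPath hd (stop hd x) L w

variable (hd : Data A B σ)

theorem isPath_append {v w : K ⧸ B} {L₁ L₂ : List (Edge A × Bool)} :
    IsPath hd v (L₁ ++ L₂) w ↔ ∃ u, IsPath hd v L₁ u ∧ IsPath hd u L₂ w := by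
  induction L₁ generalizing v with
  | nil => exact ⟨fun h => ⟨v, rfl, h⟩, by rintro ⟨u, h, h'⟩; obtain rfl : v = u := h; exact h'⟩
  | cons x L ih =>
      constructor
      · rintro ⟨h, h'⟩
        obtain ⟨u, h1, h2⟩ := ih.1 h'
        exact ⟨u, ⟨h, h1⟩, h2⟩
      · rintro ⟨u, ⟨h, h1⟩, h2⟩
        exact ⟨h, ih.2 ⟨u, h1, h2⟩⟩

theorem isPath_red {L L' : List (Edge A × Bool)} (h : FreeGroup.Red L L') {v w : K ⧸ B}
    (hp : IsPath hd v L w) : IsPath hd v L' w := by
  induction h with
  | refl => exact hp
  | tail _ hs ih =>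
      cases hs with
      | @not L₁ L₂ x b =>
          obtain ⟨u, h1, h2, -, h3⟩ := (isPath_append hd).1 ih
          refine (isPath_append hd).2 ⟨u, h1, ?_⟩
          rw [show stop hd (x, !b) = u by rw [stop, Bool.not_not]; exact h2] at h3
          exact h3

theorem isPath_reduce {L : List (Edge A × Bool)} {v w : K ⧸ B} (hp : IsPath hd v L w) :
    IsPath hd v (FreeGroup.reduce L) w :=
  isPath_red hd FreeGroup.reduce.red hp

theorem isPath_map (k : K) : ∀ {L : List (Edge A × Bool)} {v w : K ⧸ B}, IsPath hd v L w →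
    IsPath hd (k • v) (L.map (lact A k)) (k • w)
  | [], v, w, h => congrArg (k • ·) h
  | x :: L, v, w, ⟨h, h'⟩ => by
      refine ⟨by rw [start_smul, h], ?_⟩
      rw [show stop hd (lact A k x) = k • stop hd x from start_smul hd k (x.1, !x.2)]
      exact isPath_map k h'

theorem isPath_invRev : ∀ {L : List (Edge A × Bool)} {v w : K ⧸ B}, IsPath hd v L w →
    IsPath hd w (FreeGroup.invRev L) v
  | [], v, w, h => h.symm
  | x :: L, v, w, ⟨h, h'⟩ => by
      have e : FreeGroup.invRev (x :: L) = FreeGroup.invRev L ++ [(x.1, !x.2)] := by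
        simp [FreeGroup.invRev]
      rw [e, isPath_append]
      exact ⟨_, isPath_invRev h', rfl, by rw [stop, Bool.not_not]; exact h⟩

variable (A B σ)

/-- The group of paths. -/
def grp : Subgroup (W A) :=
  Subgroup.closure (Set.range (fun i =>
      (⟨FreeGroup.of (edge A i 1), σ i⟩ : W A)) ∪
    (SemidirectProduct.inr : K →* W A) '' B)

theorem inr_mem_grp {b : K} (hb : b ∈ B) : (SemidirectProduct.inr b : W A) ∈ grp A B σ :=
  Subgroup.subset_closure (Or.inr ⟨b, hb, rfl⟩)

theorem gen_mem_grp (i : I) :
    (⟨FreeGroup.of (edge A i 1), σ i⟩ : W A) ∈ grp A B σ :=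
  Subgroup.subset_closure (Or.inl ⟨i, rfl⟩)

variable {A B σ}

include hd in
theorem isPath_of_mem {g : W A} (hg : g ∈ grp A B σ) :
    IsPath hd ((1 : K) : K ⧸ B) g.left.toWord (g.right : K ⧸ B) := by
  induction hg using Subgroup.closure_induction with
  | mem x hx =>
      rcases hx with ⟨i, rfl⟩ | ⟨b, hb, rfl⟩
      · show IsPath hd _ (FreeGroup.of (⟨i, _⟩ : Edge A)).toWord _
        rw [FreeGroup.toWord_of]
        refine ⟨rfl, ?_⟩
        show ((1 * σ i : K) : K ⧸ B) = (σ i : K ⧸ B)
        rw [one_mul]
      · show IsPath hd _ (1 : FreeGroup (Edge A)).toWord (b : K ⧸ B)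
        rw [FreeGroup.toWord_one]
        exact QuotientGroup.eq.2 (by simpa using hb)
  | one =>
      show IsPath hd _ (1 : FreeGroup (Edge A)).toWord _
      rw [FreeGroup.toWord_one]
      rfl
  | mul g h _ _ ihg ihh =>
      rw [SemidirectProduct.mul_left, SemidirectProduct.mul_right, FreeGroup.toWord_mul, toWord_act]
      refine isPath_reduce hd ((isPath_append hd).2 ⟨_, ihg, ?_⟩)
      have := isPath_map hd g.right ihh
      rw [MulAction.Quotient.smul_coe, MulAction.Quotient.smul_coe, smul_eq_mul, smul_eq_mul,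
        mul_one] at this
      exact this
  | inv g _ ih =>
      rw [SemidirectProduct.inv_left, SemidirectProduct.inv_right, toWord_act, FreeGroup.toWord_inv]
      have := isPath_map hd g.right⁻¹ (isPath_invRev hd ih)
      rw [MulAction.Quotient.smul_coe, MulAction.Quotient.smul_coe, smul_eq_mul, smul_eq_mul,
        mul_one, inv_mul_cancel] at this
      exact this

include hd in
/-- Every path from the base point is the word of an element. -/
theorem exists_mem_of_path : ∀ (L : List (Edge A × Bool)) (v : K ⧸ B),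
    IsPath hd ((1 : K) : K ⧸ B) L v →
      ∃ g ∈ grp A B σ, g.left = FreeGroup.mk L ∧ (g.right : K ⧸ B) = v := by
  intro L
  induction L using List.reverseRecOn with
  | nil => exact fun v h => ⟨1, one_mem _, rfl, h⟩
  | append_singleton L x ih =>
      intro v h
      obtain ⟨u, h1, h2, h3⟩ := (isPath_append hd).1 h
      obtain ⟨g, hg, hgl, hgr⟩ := ih u h1
      obtain ⟨⟨i, q⟩, b⟩ := x
      obtain ⟨k, rfl⟩ := QuotientGroup.mk_surjective q
      cases b
      · -- backwards
        have h2' : ((k * σ i : K) : K ⧸ B) = u := h2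
        have hb : g.right⁻¹ * (k * σ i) ∈ B := QuotientGroup.eq.1 (hgr.trans h2'.symm)
        refine ⟨g * SemidirectProduct.inr (g.right⁻¹ * (k * σ i)) *
          (⟨FreeGroup.of (edge A i 1), σ i⟩ : W A)⁻¹,
          mul_mem (mul_mem hg (inr_mem_grp A B σ hb)) (inv_mem (gen_mem_grp A B σ i)), ?_, ?_⟩
        · rw [SemidirectProduct.mul_left, SemidirectProduct.mul_left, SemidirectProduct.left_inr,
            map_one, mul_one, SemidirectProduct.inv_left, SemidirectProduct.mul_right,
            SemidirectProduct.right_inr, mul_inv_cancel_left, ← MulAut.mul_apply, ← map_mul,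
            mul_inv_cancel_right, map_inv]
          simp only []
          rw [act_of, smul_edge, mul_one, hgl, ← FreeGroup.mul_mk]
          congr 1
        · rw [SemidirectProduct.mul_right, SemidirectProduct.mul_right, SemidirectProduct.right_inr,
            SemidirectProduct.inv_right, mul_inv_cancel_left, mul_inv_cancel_right]
          exact h3
      · have h2' : ((k : K) : K ⧸ B) = u := h2
        have hb : g.right⁻¹ * k ∈ B := QuotientGroup.eq.1 (hgr.trans h2'.symm)
        refine ⟨g * SemidirectProduct.inr (g.right⁻¹ * k) *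
          ⟨FreeGroup.of (edge A i 1), σ i⟩,
          mul_mem (mul_mem hg (inr_mem_grp A B σ hb)) (gen_mem_grp A B σ i), ?_, ?_⟩
        · rw [SemidirectProduct.mul_left, SemidirectProduct.mul_left, SemidirectProduct.left_inr,
            map_one, mul_one, SemidirectProduct.mul_right, SemidirectProduct.right_inr,
            mul_inv_cancel_left]
          simp only []
          rw [act_of, smul_edge, mul_one, hgl, ← FreeGroup.mul_mk]
          rfl
        · rw [SemidirectProduct.mul_right, SemidirectProduct.mul_right, SemidirectProduct.right_inr,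
            mul_inv_cancel_left]
          exact h3

/-! ### Lengths along a reduced word -/

variable {α : Type u}

theorem mul_letter (a : FreeGroup α) (x : α × Bool) :
    ((a * FreeGroup.mk [x]).toWord.length = a.toWord.length + 1 ∧
      (a * FreeGroup.mk [x]).toWord.getLast? = some x) ∨
    (a * FreeGroup.mk [x]).toWord.length + 1 = a.toWord.length := by
  by_cases h : a.toWord.getLast? = some (x.1, !x.2)
  · right
    obtain ⟨L, hL⟩ : ∃ L, a.toWord = L ++ [(x.1, !x.2)] := List.getLast?_eq_some_iff.1 h
    have hLr : FreeGroup.IsReduced L :=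
      (FreeGroup.isReduced_toWord (x := a)).infix (hL ▸ List.infix_append_of_infix_left (by exact List.infix_rfl))
    have he : a * FreeGroup.mk [x] = FreeGroup.mk L := by
      rw [← FreeGroup.mk_toWord (x := a), hL, FreeGroup.mul_mk]
      refine Quot.sound ?_
      have := FreeGroup.Red.Step.not (L₁ := L) (L₂ := []) (x := x.1) (b := !x.2)
      simpa using this
    rw [he, FreeGroup.toWord_mk, hLr.reduce_eq, hL, List.length_append, List.length_singleton]
  · left
    have hr : FreeGroup.IsReduced (a.toWord ++ [x]) := by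
      refine List.isChain_append.2 ⟨FreeGroup.isReduced_toWord, List.isChain_singleton _, ?_⟩
      intro y hy z hz
      obtain rfl : x = z := by simpa using hz
      intro hyx
      by_contra hne
      refine h ?_
      rw [Option.mem_def.1 hy]
      rcases y with ⟨y1, y2⟩
      simp only at hyx hne
      subst hyx
      cases y2 <;> cases hx : x.2 <;> simp_all
    have he : (a * FreeGroup.mk [x]).toWord = a.toWord ++ [x] := by
      conv_lhs => rw [← FreeGroup.mk_toWord (x := a), FreeGroup.mul_mk, FreeGroup.toWord_mk]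
      exact hr.reduce_eq
    rw [he, List.length_append, List.length_singleton, List.getLast?_concat]
    exact ⟨rfl, rfl⟩

theorem length_convex (a : FreeGroup α) (x y : α × Bool) (hxy : x.1 = y.1 → x.2 = y.2) :
    2 * (a * FreeGroup.mk [x]).toWord.length ^ 2 <
      a.toWord.length ^ 2 + (a * FreeGroup.mk [x] * FreeGroup.mk [y]).toWord.length ^ 2 := by
  rcases mul_letter (a * FreeGroup.mk [x]) y with ⟨h2, -⟩ | h2
  · rcases mul_letter a x with ⟨h1, -⟩ | h1
    · rw [h2, h1]; nlinarith
    · rw [h2, ← h1]; nlinarith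
  · rcases mul_letter a x with ⟨h1, hl⟩ | h1
    · -- the letter `y` does not cancel `x`
      exfalso
      set c := a * FreeGroup.mk [x]
      have hr : FreeGroup.IsReduced (c.toWord ++ [y]) := by
        refine List.isChain_append.2 ⟨FreeGroup.isReduced_toWord, List.isChain_singleton _, ?_⟩
        intro z hz w hw
        rw [hl, Option.mem_def, Option.some.injEq] at hz
        obtain rfl : y = w := by simpa using hw
        subst hz
        exact hxy
      have he : (c * FreeGroup.mk [y]).toWord = c.toWord ++ [y] := by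
        conv_lhs => rw [← FreeGroup.mk_toWord (x := c), FreeGroup.mul_mk, FreeGroup.toWord_mk]
        exact hr.reduce_eq
      rw [he, List.length_append, List.length_singleton] at h2
      omega
    · rw [← h1, ← h2]; nlinarith

/-- The exponent sum. -/
def expSum : W A →* Multiplicative ℤ where
  toFun g := FreeGroup.lift (fun _ => Multiplicative.ofAdd 1) g.left
  map_one' := map_one _
  map_mul' g h := by
    rw [SemidirectProduct.mul_left, map_mul]
    congr 1
    show FreeGroup.lift _ (FreeGroup.map _ h.left) = _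
    conv_rhs => rw [← FreeGroup.mk_toWord (x := h.left)]
    conv_lhs => rw [← FreeGroup.mk_toWord (x := h.left), FreeGroup.map.mk]
    rw [FreeGroup.lift_mk, FreeGroup.lift_mk, List.map_map]
    rfl

/-- An element whose word is a single letter has infinite order. -/
theorem not_single {w : W A} (x : Edge A × Bool) (h : w.left.toWord = [x]) (m : ℕ) (hm : 0 < m) :
    w ^ m ≠ 1 := by
  intro hw
  have hs : expSum w =
      if x.2 then Multiplicative.ofAdd 1 else (Multiplicative.ofAdd 1)⁻¹ := by
    show FreeGroup.lift _ w.left = _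
    rw [← FreeGroup.mk_toWord (x := w.left), h, FreeGroup.lift_mk]
    cases hx : x.2 <;> simp [hx]
  have h1 := congrArg (fun u => Multiplicative.toAdd (expSum u)) hw
  simp only [map_pow, map_one, hs, toAdd_pow, toAdd_one] at h1
  cases hx : x.2 <;> simp [hx] at h1 <;> omega

include hd in
set_option maxHeartbeats 1000000 in
/-- Finite subgroups are conjugate into `B`. -/
theorem exists_conj_of_finite (H : Subgroup (W A)) (hH : H ≤ grp A B σ) [Finite H] :
    ∃ g ∈ grp A B σ, ∀ h ∈ H, ∃ b ∈ B, g⁻¹ * h * g = SemidirectProduct.inr b := by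
  have : Fintype H := Fintype.ofFinite H
  let ln : W A → ℕ := fun g => g.left.toWord.length
  let D : W A → ℕ := fun g => ∑ h : H, ln ((h : W A) * g) ^ 2
  have hinv : ∀ (h₀ : H) (g : W A), D ((h₀ : W A) * g) = D g := by
    intro h₀ g
    refine Fintype.sum_equiv (Equiv.mulRight h₀) _ _ fun h => ?_
    rw [Equiv.coe_mulRight, Subgroup.coe_mul, mul_assoc]
  have hex : ∃ n, ∃ g ∈ grp A B σ, D g = n := ⟨_, 1, one_mem _, rfl⟩
  obtain ⟨g, hg, hgn⟩ := Nat.find_spec hex
  have hmin : ∀ g' ∈ grp A B σ, D g ≤ D g' := fun g' hg' =>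
    hgn.le.trans (Nat.find_min' hex ⟨g', hg', rfl⟩)
  refine ⟨g, hg, fun h₀ hh₀ => ?_⟩
  set w := g⁻¹ * h₀ * g with hw
  have hwG : w ∈ grp A B σ := mul_mem (mul_mem (inv_mem hg) (hH hh₀)) hg
  have hpath := isPath_of_mem hd hwG
  set L := w.left.toWord with hL
  -- the prefixes
  have hpre : ∀ j, ∃ p ∈ grp A B σ, p.left = FreeGroup.mk (L.take j) := by
    intro j
    rw [← List.take_append_drop j L] at hpath
    obtain ⟨u, h1, -⟩ := (isPath_append hd).1 hpath
    obtain ⟨p, hp, hpl, -⟩ := exists_mem_of_path hd _ u h1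
    exact ⟨p, hp, hpl⟩
  choose p hp hpl using hpre
  have hln : ∀ (x q : W A), ln (x * q) = (x.left * act A x.right q.left).toWord.length :=
    fun x q => rfl
  let f : H → ℕ → ℕ := fun h j => ln ((h : W A) * g * p j)
  have hf : ∀ h j, f h j = (((h : W A) * g).left *
      FreeGroup.mk ((L.map (lact A ((h : W A) * g).right)).take j)).toWord.length := by
    intro h j
    show ln _ = _
    rw [hln, hpl, ← List.map_take]
    rfl
  set n := L.length with hn
  have hFn : ∑ h : H, f h n ^ 2 = D g := by
    rw [← hinv ⟨h₀, hh₀⟩ g]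
    refine Finset.sum_congr rfl fun h _ => ?_
    show ln _ ^ 2 = ln _ ^ 2
    have e : (h : W A) * ((⟨h₀, hh₀⟩ : H) * g) = (h : W A) * g * w := by
      rw [hw]; group
    rw [e, hln, hln, hpl, hn, List.take_length, hL, FreeGroup.mk_toWord]
  have hF0 : ∑ h : H, f h 0 ^ 2 = D g := by
    refine Finset.sum_congr rfl fun h _ => ?_
    rw [hf]
    show _ = ln _ ^ 2
    rw [List.take_zero, show FreeGroup.mk ([] : List (Edge A × Bool)) = 1 from rfl, mul_one]
  have hFj : ∀ j, D g ≤ ∑ h : H, f h j ^ 2 := fun j => by
    refine le_trans (hmin _ (mul_mem hg (hp j))) (le_of_eq (Finset.sum_congr rfl fun h _ => ?_))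
    show ln _ ^ 2 = ln _ ^ 2
    rw [mul_assoc]
  have hconv : ∀ j, j + 2 ≤ n →
      2 * ∑ h : H, f h (j + 1) ^ 2 < ∑ h : H, f h j ^ 2 + ∑ h : H, f h (j + 2) ^ 2 := by
    intro j hj
    rw [← Finset.sum_add_distrib, Finset.mul_sum]
    refine Finset.sum_lt_sum_of_nonempty ⟨1, Finset.mem_univ _⟩ fun h _ => ?_
    rw [hf, hf, hf]
    set M := L.map (lact A ((h : W A) * g).right) with hM
    have hMr : FreeGroup.IsReduced M := isReduced_map A _ FreeGroup.isReduced_toWord
    have hlen : j + 2 ≤ M.length := by rw [hM, List.length_map]; exact hj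
    have h1 : M.take (j + 1) = M.take j ++ [M[j]] := (List.take_concat_get' M j (by omega)).symm
    have h2 : M.take (j + 2) = M.take (j + 1) ++ [M[j + 1]] :=
      (List.take_concat_get' M (j + 1) (by omega)).symm
    rw [h2, h1]
    simp only [← FreeGroup.mul_mk, ← mul_assoc]
    refine length_convex _ _ _ ?_
    have := List.isChain_iff_getElem.1 hMr j (by omega)
    exact this
  -- the word has at most one letter
  have hn2 : n ≤ 1 := by
    by_contra hcon
    have hmono : ∀ j, 1 ≤ j → j + 1 ≤ n → ∑ h : H, f h j ^ 2 < ∑ h : H, f h (j + 1) ^ 2 := by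
      intro j hj1
      induction j, hj1 using Nat.le_induction with
      | base =>
          intro hj
          have := hconv 0 hj
          have := hFj 1
          have e : (0 : ℕ) + 1 = 1 := rfl
          simp only [e, show (0 : ℕ) + 2 = 2 from rfl] at *
          omega
      | succ j hj1 ih =>
          intro hj
          have := hconv j hj
          have := ih (by omega)
          show _ < ∑ h : H, f h (j + 2) ^ 2
          omega
    have hup : ∀ j, 1 ≤ j → j ≤ n → ∑ h : H, f h 1 ^ 2 ≤ ∑ h : H, f h j ^ 2 := by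
      intro j hj1
      induction j, hj1 using Nat.le_induction with
      | base => exact fun _ => le_rfl
      | succ j hj1 ih => exact fun hj => (ih (by omega)).trans (hmono j hj1 hj).le
    have h1 := hmono (n - 1) (by omega) (by omega)
    have h2 := hup (n - 1) (by omega) (by omega)
    rw [show n - 1 + 1 = n by omega, hFn] at h1
    have := hFj 1
    omega
  -- a single letter has nonzero exponent sum
  have hn0 : L = [] := by
    rcases hLe : L with _ | ⟨x, _ | ⟨y, t⟩⟩
    · rfl
    · exfalso
      obtain ⟨m, hm, hm'⟩ := isOfFinOrder_iff_pow_eq_one.1 (isOfFinOrder_of_finite (⟨h₀, hh₀⟩ : H))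
      refine not_single x (hL.symm.trans hLe) m hm ?_
      have h2 : h₀ ^ m = 1 := congrArg Subtype.val hm'
      rw [hw, show g⁻¹ * h₀ * g = g⁻¹ * h₀ * g⁻¹⁻¹ by rw [inv_inv], conj_pow, h2, mul_one,
        mul_inv_cancel]
    · rw [hn, hLe] at hn2
      simp at hn2
  rw [hn0] at hpath
  refine ⟨w.right, ?_, ?_⟩
  · have : ((1 : K) : K ⧸ B) = (w.right : K ⧸ B) := hpath
    simpa using QuotientGroup.eq.1 this
  · refine SemidirectProduct.ext ?_ rfl
    rw [SemidirectProduct.left_inr]
    exact FreeGroup.toWord_eq_nil_iff.1 hn0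

end

end CfsgLib.Fusion.PathGroup
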