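import Cfsg.Prelude.Def_HallClasses
import Cfsg.Agent.Lib.Char.Exceptional.HallComplement
import Cfsg.Agent.Lib.Techniques.Basic
import Mathlib.GroupTheory.SchurZassenhaus

/-!
Owner: helper14. A π-homogeneous group whose π-subgroups are conjugate into one of them has a normal
π-complement.
-/

set_option autoImplicit false
set_option linter.style.haveILetI false
set_option linter.unusedSectionVars false
set_option maxHeartbeats 800000

namespace CfsgLib.PiHomogeneous

open Subgroup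

universe u

/-- `N(A)/C(A)` is a π-group for every nontrivial π-subgroup `A`. -/
def Homog (π : Set ℕ) (G : Type u) [Group G] : Prop :=
  ∀ A : Subgroup G, A ≠ ⊥ → Cfsg.IsPiSubgroup π A → ∀ p : ℕ, p.Prime →
    p ∣ (centralizer (A : Set G)).relIndex (normalizer (A : Set G)) → p ∈ π

/-- A π-subgroup into which every π-subgroup is conjugate. -/
structure Pkg {G : Type u} [Group G] (π : Set ℕ) (H : Subgroup G) : Prop where
  pi : Cfsg.IsPiSubgroup π H
  conj : ∀ A : Subgroup G, Cfsg.IsPiSubgroup π A → ∃ g : G, ∀ a ∈ A, g * a * g⁻¹ ∈ H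

/-- `h` acts on `D` as `g`. -/
def Acts {G : Type u} [Group G] (g h : G) (D : Subgroup G) : Prop :=
  ∀ d ∈ D, g * d * g⁻¹ = h * d * h⁻¹

/-- The conjugate of a subgroup. -/
def cj {G : Type u} [Group G] (g : G) (A : Subgroup G) : Subgroup G := A.map (MulAut.conj g).toMonoidHom

section Basic

variable {G : Type u} [Group G] {π : Set ℕ}

theorem conj_mem_cj {g a : G} {A : Subgroup G} (ha : a ∈ A) : g * a * g⁻¹ ∈ cj g A := ⟨a, ha, rfl⟩

theorem mem_cj {g y : G} {A : Subgroup G} : y ∈ cj g A ↔ g⁻¹ * y * g ∈ A := by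
  constructor
  · rintro ⟨a, ha, rfl⟩
    show g⁻¹ * (g * a * g⁻¹) * g ∈ A
    rwa [show g⁻¹ * (g * a * g⁻¹) * g = a by group]
  · exact fun h => ⟨_, h, show g * (g⁻¹ * y * g) * g⁻¹ = y by group⟩

theorem cj_le {g : G} {A B : Subgroup G} : cj g A ≤ B ↔ ∀ a ∈ A, g * a * g⁻¹ ∈ B :=
  map_le_iff_le_comap

theorem card_cj (g : G) (A : Subgroup G) : Nat.card (cj g A) = Nat.card A :=
  card_map_of_injective (MulAut.conj g).injective

theorem pi_of_le {A B : Subgroup G} (h : A ≤ B) (hB : Cfsg.IsPiSubgroup π B) :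
    Cfsg.IsPiSubgroup π A :=
  fun p hp hd => hB p hp (hd.trans (card_dvd_of_le h))

theorem pi_of_pGroup [Finite G] {p : ℕ} [hp : Fact p.Prime] (hpπ : p ∈ π) {A : Subgroup G}
    (hA : IsPGroup p A) : Cfsg.IsPiSubgroup π A := fun q hq hd => by
  obtain ⟨k, hk⟩ := hA.exists_card_eq
  rw [hk] at hd
  rwa [(Nat.prime_dvd_prime_iff_eq hq hp.out).mp (hq.dvd_of_dvd_pow hd)]

theorem pi_cj {g : G} {A : Subgroup G} (hA : Cfsg.IsPiSubgroup π A) : Cfsg.IsPiSubgroup π (cj g A) :=
  fun p hp hd => hA p hp (card_cj g A ▸ hd)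

theorem Acts.mul {g g' h h' : G} {D D' : Subgroup G} (h1 : Acts g h D)
    (hD : ∀ d ∈ D, g * d * g⁻¹ ∈ D') (h2 : Acts g' h' D') : Acts (g' * g) (h' * h) D := fun d hd => by
  calc g' * g * d * (g' * g)⁻¹ = g' * (g * d * g⁻¹) * g'⁻¹ := by group
    _ = h' * (g * d * g⁻¹) * h'⁻¹ := h2 _ (hD d hd)
    _ = _ := by rw [h1 d hd]; group

theorem Acts.mem_centralizer {g h : G} {D : Subgroup G} (h1 : Acts g h D) :
    h⁻¹ * g ∈ centralizer (D : Set G) := mem_centralizer_iff.mpr fun d hd => by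
  have e : h⁻¹ * g * d * (h⁻¹ * g)⁻¹ = d := by
    calc h⁻¹ * g * d * (h⁻¹ * g)⁻¹ = h⁻¹ * (g * d * g⁻¹) * h := by group
      _ = d := by rw [h1 d hd]; group
  exact (mul_inv_eq_iff_eq_mul.mp e).symm

theorem acts_of_centralizer {c g : G} {D : Subgroup G} (hc : c ∈ centralizer (D : Set G))
    (hg : g ∈ normalizer (D : Set G)) : Acts (c * g) g D := fun d hd => by
  have h1 := mem_centralizer_iff.mp hc _ ((mem_normalizer_iff.mp hg d).mp hd)
  calc c * g * d * (c * g)⁻¹ = c * (g * d * g⁻¹) * c⁻¹ := by group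
    _ = g * d * g⁻¹ * c * c⁻¹ := by rw [h1]
    _ = _ := by group

theorem conj_mem_centralizer {n c : G} {D : Subgroup G} (hn : n ∈ normalizer (D : Set G))
    (hc : c ∈ centralizer (D : Set G)) : n * c * n⁻¹ ∈ centralizer (D : Set G) :=
  mem_centralizer_iff.mpr fun d hd => by
    have h1 := mem_centralizer_iff.mp hc _ ((mem_normalizer_iff''.mp hn d).mp hd)
    calc d * (n * c * n⁻¹) = n * ((n⁻¹ * d * n) * c) * n⁻¹ := by group
      _ = n * (c * (n⁻¹ * d * n)) * n⁻¹ := by rw [h1]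
      _ = _ := by group

end Basic

/-- **Supplements.** A π-subgroup through a given `p`-subgroup covering a π-quotient. -/
theorem exists_supplement {p : ℕ} (hp : p.Prime) {π : Set ℕ} : ∀ (n : ℕ) (G : Type u) [Group G] [Finite G],
    Nat.card G = n → ∀ O : Subgroup G, O.Normal → (∀ q : ℕ, q.Prime → q ∣ O.index → q ∈ π) →
      ¬ p ∣ Nat.card O → ∀ R : Subgroup G, IsPGroup p R →
        ∃ X : Subgroup G, R ≤ X ∧ Cfsg.IsPiSubgroup π X ∧ O ⊔ X = ⊤ := by
  intro n
  induction n using Nat.strong_induction_on with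
  | _ n ih =>
  intro G _ _ hn O hOn hidx hpO R hR
  haveI := hOn
  haveI : Fact p.Prime := ⟨hp⟩
  by_cases hall : ∀ q : ℕ, q.Prime → q ∣ Nat.card O → q ∈ π
  · refine ⟨⊤, le_top, fun q hq hd => ?_, sup_top_eq O⟩
    rw [Subgroup.card_top, ← O.card_mul_index] at hd
    rcases hq.dvd_mul.mp hd with h | h
    · exact hall q hq h
    · exact hidx q hq h
  push Not at hall
  obtain ⟨q, hq, hqO, hqπ⟩ := hall
  haveI : Fact q.Prime := ⟨hq⟩
  -- a proper supplement to `O`
  obtain ⟨M, hM, hMO⟩ : ∃ M : Subgroup G, M ≠ ⊤ ∧ M ⊔ O = ⊤ := by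
    let Q : Sylow q O := default
    have hFr := Sylow.normalizer_sup_eq_top Q
    by_cases hN : normalizer (((Q : Subgroup O).map O.subtype : Subgroup G) : Set G) = ⊤
    · haveI : ((Q : Subgroup O).map O.subtype).Normal := normalizer_eq_top_iff.mp hN
      have hle : (Q : Subgroup O).map O.subtype ≤ O := map_subtype_le _
      have hcop : (Nat.card ↥((Q : Subgroup O).map O.subtype)).Coprime
          ((Q : Subgroup O).map O.subtype).index := by
        rw [card_map_of_injective O.subtype_injective]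
        obtain ⟨k, hk⟩ := Q.isPGroup'.exists_card_eq
        rw [hk, index_map_subtype]
        refine Nat.Coprime.pow_left _ (hq.coprime_iff_not_dvd.mpr fun hd => ?_)
        rcases hq.dvd_mul.mp hd with h | h
        · exact Q.not_dvd_index h
        · exact hqπ (hidx q hq h)
      obtain ⟨L, hL⟩ := exists_right_complement'_of_coprime hcop
      refine ⟨L, fun e => ?_, ?_⟩
      · have h1 := hL.disjoint
        rw [e, disjoint_top] at h1
        have h2 := card_map_of_injective (K := (Q : Subgroup O)) O.subtype_injective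
        rw [h1, Subgroup.card_bot] at h2
        have h3 := (Q : Subgroup O).card_mul_index
        rw [← h2, one_mul] at h3
        exact Q.not_dvd_index (h3 ▸ hqO)
      · exact top_le_iff.mp (hL.sup_eq_top.ge.trans (sup_le (hle.trans le_sup_right) le_sup_left))
    · exact ⟨_, hN, hFr⟩
  -- it contains a conjugate of `R`
  have hMi : ¬ p ∣ M.index := fun hd => hpO (hd.trans (Dvd.intro (Nat.card ↥(O.subgroupOf M)) (by
    have hr : O.relIndex M = O.index := by
      rw [← Subgroup.relIndex_sup_right M O, hMO, relIndex_top_right]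
    have h1 := (O.subgroupOf M).card_mul_index
    change Nat.card ↥(O.subgroupOf M) * O.relIndex M = Nat.card M at h1
    rw [hr] at h1
    refine Nat.eq_of_mul_eq_mul_right (Nat.pos_of_ne_zero (Subgroup.index_ne_zero_of_finite (H := O))) ?_
    rw [O.card_mul_index, mul_assoc, h1, mul_comm, M.card_mul_index])))
  let RM : Sylow p M := default
  obtain ⟨S, hS⟩ := (RM.isPGroup'.map M.subtype).exists_le_sylow
  obtain ⟨T, hT⟩ := hR.exists_le_sylow
  obtain ⟨g, hg⟩ := MulAction.exists_smul_eq G T S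
  have hSM : (S : Subgroup G) ≤ M := by
    refine le_trans (le_of_eq (eq_of_le_of_card_ge hS ?_).symm) (map_subtype_le _)
    rw [card_map_of_injective M.subtype_injective, Sylow.card_eq_multiplicity, Sylow.card_eq_multiplicity,
      ← M.card_mul_index, Nat.factorization_mul Nat.card_pos.ne' index_ne_zero_of_finite]
    simp [Nat.factorization_eq_zero_of_not_dvd hMi]
  set M' := cj g⁻¹ M with hM'
  have hRM' : R ≤ M' := fun r hr => by
    rw [hM', mem_cj, inv_inv]
    exact hSM (hg ▸ ⟨r, hT hr, rfl⟩)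
  have hM'O : M' ⊔ O = ⊤ := by
    have h1 : (M ⊔ O).map (MulAut.conj g⁻¹).toMonoidHom = ⊤ := by
      rw [hMO]
      exact Subgroup.map_top_of_surjective _ (MulAut.conj g⁻¹).surjective
    rw [Subgroup.map_sup] at h1
    refine top_le_iff.mp (h1.ge.trans (sup_le le_sup_left ?_))
    refine le_trans ?_ le_sup_right
    rintro _ ⟨o, ho, rfl⟩
    exact hOn.conj_mem o ho g⁻¹
  have hM'ne : M' ≠ ⊤ := fun e => hM (eq_top_of_card_eq M (by
    rw [← card_cj g⁻¹ M, ← hM', e, Subgroup.card_top]))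
  have hlt : Nat.card M' < n := by
    rw [← hn]
    exact lt_of_le_of_ne (Subgroup.card_le_card_group _) fun e => hM'ne (eq_top_of_card_eq _ e)
  have hidx' : (O.subgroupOf M').index = O.index := by
    show O.relIndex M' = _
    rw [← Subgroup.relIndex_sup_right M' O, hM'O, relIndex_top_right]
  obtain ⟨X, hRX, hXpi, hX⟩ := ih _ hlt M' rfl (O.subgroupOf M') inferInstance
    (fun r hr hd => hidx r hr (hidx' ▸ hd))
    (fun hd => hpO (hd.trans (by
      rw [← card_map_of_injective (K := O.subgroupOf M') M'.subtype_injective, subgroupOf_map_subtype]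
      exact card_dvd_of_le inf_le_left)))
    (R.subgroupOf M') hR.comap_subtype
  refine ⟨X.map M'.subtype, fun r hr => ⟨⟨r, hRM' hr⟩, hRX hr, rfl⟩, fun r hr hd => hXpi r hr ?_, ?_⟩
  · rwa [card_map_of_injective M'.subtype_injective] at hd
  · refine top_le_iff.mp (hM'O.ge.trans (sup_le ?_ le_sup_left))
    intro m hm
    have h1 : (⟨m, hm⟩ : M') ∈ O.subgroupOf M' ⊔ X := hX ▸ mem_top _
    have h2 := mem_map_of_mem M'.subtype h1
    rw [Subgroup.map_sup, subgroupOf_map_subtype] at h2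
    exact (sup_le_sup_right inf_le_left (X.map M'.subtype)) h2

variable {G : Type u} [Group G] [Finite G] {π : Set ℕ} {H : Subgroup G} {p : ℕ}

/-- A Sylow subgroup of a subgroup. -/
def SylIn (p : ℕ) (R K : Subgroup G) : Prop :=
  R ≤ K ∧ IsPGroup p R ∧ ∀ A ≤ K, IsPGroup p A → ∃ k ∈ K, ∀ a ∈ A, k * a * k⁻¹ ∈ R

theorem exists_sylIn [Fact p.Prime] {A K : Subgroup G} (hA : IsPGroup p A) (hAK : A ≤ K) :
    ∃ R, A ≤ R ∧ SylIn p R K := by
  obtain ⟨P, hP⟩ := (hA.comap_subtype (K := K)).exists_le_sylow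
  refine ⟨(P : Subgroup K).map K.subtype, fun a ha => ⟨⟨a, hAK ha⟩, hP ha, rfl⟩, map_subtype_le _,
    P.isPGroup'.map _, fun B hBK hB => ?_⟩
  obtain ⟨P', hP'⟩ := (hB.comap_subtype (K := K)).exists_le_sylow
  obtain ⟨c, hc⟩ := MulAction.exists_smul_eq K P' P
  refine ⟨c, c.2, fun b hb => ⟨c * ⟨b, hBK hb⟩ * c⁻¹, ?_, rfl⟩⟩
  rw [← hc]
  exact ⟨⟨b, hBK hb⟩, hP' hb, rfl⟩

theorem SylIn.eq_of_le {R K A : Subgroup G} (h : SylIn p R K) (hA : A ≤ K) (hAp : IsPGroup p A)
    (hRA : R ≤ A) : A = R := by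
  obtain ⟨k, -, hk⟩ := h.2.2 A hA hAp
  refine (eq_of_le_of_card_ge hRA ?_).symm
  rw [← card_cj k A]
  exact card_le_of_le (cj_le.mpr hk)

theorem SylIn.conj {R K : Subgroup G} (h : SylIn p R K) (g : G) : SylIn p (cj g R) (cj g K) := by
  refine ⟨map_mono h.1, h.2.1.map _, fun A hA hAp => ?_⟩
  obtain ⟨k, hk, hkA⟩ := h.2.2 (cj g⁻¹ A) (cj_le.mpr fun a ha => by
    have := mem_cj.mp (hA ha); rwa [inv_inv]) (hAp.map _)
  refine ⟨g * k * g⁻¹, conj_mem_cj hk, fun a ha => ?_⟩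
  rw [show g * k * g⁻¹ * a * (g * k * g⁻¹)⁻¹ = g * (k * (g⁻¹ * a * g⁻¹⁻¹) * k⁻¹) * g⁻¹ by group]
  exact conj_mem_cj (hkA _ (conj_mem_cj ha))

/-- Fusion of `D` is controlled by `H`. -/
def Fus (H D : Subgroup G) : Prop :=
  ∀ g : G, (∀ d ∈ D, g * d * g⁻¹ ∈ H) → ∃ h ∈ H, Acts g h D

theorem Pkg.sylow [Fact p.Prime] (hP : Pkg π H) (hpπ : p ∈ π) {R : Subgroup G} (hR : IsPGroup p R)
    (hRH : R ≤ H) {S : Subgroup G} (hS : SylIn p S H) (hSR : R = S) :
    ∀ A : Subgroup G, IsPGroup p A → Nat.card A ≤ Nat.card R := by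
  intro A hA
  obtain ⟨a, ha⟩ := hP.conj A (pi_of_pGroup hpπ hA)
  obtain ⟨k, -, hk⟩ := hS.2.2 (cj a A) (cj_le.mpr ha) (hA.map _)
  rw [hSR, ← card_cj a A, ← card_cj k (cj a A)]
  exact card_le_of_le (cj_le.mpr hk)

/-- A Sylow subgroup of `N(D)` inside `H`, for `D` below which fusion is controlled. -/
theorem exists_sylIn_normalizer [hp : Fact p.Prime] (hP : Pkg π H) (hpπ : p ∈ π) {D : Subgroup G}
    (hD : IsPGroup p D) (hDH : D ≤ H)
    (ih : ∀ R : Subgroup G, R ≤ H → IsPGroup p R → Nat.card D < Nat.card R → Fus H R) :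
    ∃ R, SylIn p R (normalizer (D : Set G)) ∧ R ≤ H ∧ D ≤ R := by
  obtain ⟨S, hDS, hS⟩ := exists_sylIn hD hDH
  by_cases hSD : S ≤ D
  · -- `D` is a Sylow subgroup of `G`
    have hmax := hP.sylow hpπ hD hDH hS (le_antisymm hDS hSD)
    obtain ⟨R, hDR, hR⟩ := exists_sylIn hD (Subgroup.le_normalizer (H := D))
    have : R = D := (eq_of_le_of_card_ge hDR (hmax R hR.2.1)).symm
    exact ⟨R, hR, this ▸ hDH, hDR⟩
  obtain ⟨t, htS, htN, htD⟩ := CfsgLib.Techniques.exists_mem_normalizer_not_mem hS.2.1 hDS hSD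
  have hR0 : IsPGroup p ↥(S ⊓ normalizer (D : Set G)) := hS.2.1.to_le inf_le_left
  have hlt : Nat.card D < Nat.card ↥(S ⊓ normalizer (D : Set G)) := by
    refine lt_of_not_ge fun hge => htD ?_
    rw [eq_of_le_of_card_ge (le_inf hDS Subgroup.le_normalizer) hge]
    exact ⟨htS, htN⟩
  obtain ⟨R1, hR01, hR1⟩ := exists_sylIn hR0 (inf_le_right : S ⊓ normalizer (D : Set G) ≤ _)
  obtain ⟨a, ha⟩ := hP.conj R1 (pi_of_pGroup hpπ hR1.2.1)
  obtain ⟨h, hh, hact⟩ := ih _ ((inf_le_left).trans hS.1) hR0 hlt a fun r hr => ha r (hR01 hr)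
  set b := h⁻¹ * a
  have hbR : b ∈ centralizer ((S ⊓ normalizer (D : Set G) : Subgroup G) : Set G) := hact.mem_centralizer
  have hbD : b ∈ centralizer (D : Set G) := centralizer_le (show (D : Set G) ⊆ _ from
    le_inf hDS Subgroup.le_normalizer) hbR
  have hfix : cj b (normalizer (D : Set G)) = normalizer (D : Set G) := by
    refine eq_of_le_of_card_ge (cj_le.mpr fun n hn => ?_) (card_cj _ _).ge
    exact mul_mem (mul_mem (centralizer_le_normalizer _ hbD) hn) (inv_mem (centralizer_le_normalizer _ hbD))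
  refine ⟨cj b R1, hfix ▸ hR1.conj b, cj_le.mpr fun r hr => ?_, fun d hd => ?_⟩
  · rw [show h⁻¹ * a * r * (h⁻¹ * a)⁻¹ = h⁻¹ * (a * r * a⁻¹) * h by group]
    exact mul_mem (mul_mem (inv_mem hh) (ha r hr)) hh
  · refine ⟨d, hR01 ⟨hDS hd, Subgroup.le_normalizer hd⟩, ?_⟩
    show b * d * b⁻¹ = d
    rw [← mem_centralizer_iff.mp hbD d hd, mul_inv_cancel_right]

/-- Conjugation by elements of `N(D)` is induced inside `H`. -/
theorem acts_of_mem_normalizer [hp : Fact p.Prime] (hhom : Homog π G) (hP : Pkg π H) (hpπ : p ∈ π)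
    {D R : Subgroup G} (hD1 : D ≠ ⊥) (hD : IsPGroup p D) (hDH : D ≤ H)
    (hR : SylIn p R (normalizer (D : Set G))) (hRH : R ≤ H) (hDR : D ≤ R)
    (ih : ∀ R : Subgroup G, R ≤ H → IsPGroup p R → Nat.card D < Nat.card R → Fus H R)
    {n : G} (hn : n ∈ normalizer (D : Set G)) : ∃ h ∈ H, Acts n h D := by
  classical
  set N := normalizer (D : Set G) with hN
  set C := centralizer (D : Set G) with hC
  have hCN : C ≤ N := centralizer_le_normalizer _
  set R0 := R ⊓ C with hR0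
  have hR0p : IsPGroup p R0 := hR.2.1.to_le inf_le_left
  have hR0max : ∀ A ≤ C, IsPGroup p A → Nat.card A ≤ Nat.card R0 := by
    intro A hA hAp
    obtain ⟨k, hk, hkA⟩ := hR.2.2 A (hA.trans hCN) hAp
    rw [← card_cj k A]
    exact card_le_of_le (cj_le.mpr fun a ha => ⟨hkA a ha, conj_mem_centralizer hk (hA ha)⟩)
  obtain ⟨R0', hle, hR0'⟩ := exists_sylIn hR0p (inf_le_right : R0 ≤ C)
  have hR0C : SylIn p R0 C := by
    have e : R0' = R0 := (eq_of_le_of_card_ge hle (hR0max R0' hR0'.1 hR0'.2.1)).symm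
    rwa [e] at hR0'
  by_cases hR0D : ¬ R0 ≤ D
  · -- the larger subgroup `D R₀`
    set D1 := D ⊔ R0 with hD1'
    have hD1R : D1 ≤ R := sup_le hDR inf_le_left
    have hlt : Nat.card D < Nat.card D1 := lt_of_not_ge fun hge =>
      hR0D ((le_sup_right : R0 ≤ D1).trans (eq_of_le_of_card_ge le_sup_left hge).ge)
    obtain ⟨c, hc, hcA⟩ := hR0C.2.2 (cj n R0) (cj_le.mpr fun r hr => conj_mem_centralizer hn hr.2) (hR0p.map _)
    have hcn : c * n ∈ N := mul_mem (hCN hc) hn
    obtain ⟨h, hh, hact⟩ := ih D1 (hD1R.trans hRH) (hR.2.1.to_le hD1R) hlt (c * n) (by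
      intro d hd
      refine hRH (hD1R ?_)
      refine (cj_le.mp (?_ : cj (c * n) D1 ≤ D1)) d hd
      rw [hD1', cj, Subgroup.map_sup]
      refine sup_le (le_sup_of_le_left ?_) (le_sup_of_le_right ?_)
      · exact cj_le.mpr fun d hd => (mem_normalizer_iff.mp hcn d).mp hd
      · refine cj_le.mpr fun r hr => ?_
        rw [show c * n * r * (c * n)⁻¹ = c * (n * r * n⁻¹) * c⁻¹ by group]
        exact hcA _ (conj_mem_cj hr))
    refine ⟨h, hh, fun d hd => ?_⟩
    rw [← hact d (mem_sup_left hd), acts_of_centralizer hc hn d hd]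
  push Not at hR0D
  -- `C = R₀ × O`
  haveI hR0n : (R0.subgroupOf C).Normal := ⟨fun r hr c => by
    have h1 : c * r * c⁻¹ = r := Subtype.ext (by
      show (c : G) * r * (c : G)⁻¹ = r
      have h2 : (r : G) * (c : G) = (c : G) * r := mem_centralizer_iff.mp c.2 (r : G) (hR0D hr)
      rw [← h2, mul_inv_cancel_right])
    rwa [h1]⟩
  have hcard0 : Nat.card ↥(R0.subgroupOf C) = Nat.card R0 :=
    Nat.card_congr (subgroupOfEquivOfLe (inf_le_right : R0 ≤ C)).toEquiv
  have hpidx : ¬ p ∣ (R0.subgroupOf C).index := by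
    intro hd
    let P : Sylow p C := default
    have h1 : Nat.card ↥((P : Subgroup C).map C.subtype) ≤ Nat.card R0 :=
      hR0max _ (map_subtype_le _) (P.isPGroup'.map _)
    rw [card_map_of_injective C.subtype_injective] at h1
    obtain ⟨P', hP'⟩ := (hR0p.comap_subtype (K := C)).exists_le_sylow
    have h2 := Sylow.card_eq_multiplicity P'
    rw [← Sylow.card_eq_multiplicity P] at h2
    have heq : R0.subgroupOf C = P' := eq_of_le_of_card_ge hP' (by
      rw [h2]
      exact h1.trans hcard0.ge)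
    exact P'.not_dvd_index (heq ▸ hd)
  have hcop : (Nat.card ↥(R0.subgroupOf C)).Coprime (R0.subgroupOf C).index := by
    obtain ⟨k, hk⟩ := hR0p.exists_card_eq
    rw [hcard0, hk]
    exact (hp.out.coprime_iff_not_dvd.mpr hpidx).pow_left _
  obtain ⟨L, hL⟩ := exists_right_complement'_of_coprime hcop
  have hLn : L.Normal := ⟨fun l hl c => by
    obtain ⟨⟨r, l'⟩, hc⟩ := hL.2 c
    rw [← hc]
    have hr : ∀ z : C, (r : C) * z = z * r := fun z => Subtype.ext
      (mem_centralizer_iff.mp z.2 _ (hR0D r.2))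
    have e : (r : C) * l' * l * ((r : C) * l')⁻¹ = (l' : C) * l * (l' : C)⁻¹ := by
      have key : ∀ a b d : C, a * b * d * (a * b)⁻¹ = a * (b * d * b⁻¹) * a⁻¹ := fun a b d => by group
      rw [key, hr, mul_inv_cancel_right]
      try rfl
    show (r : C) * l' * l * ((r : C) * l')⁻¹ ∈ L
    rw [e]
    exact mul_mem (mul_mem l'.2 hl) (inv_mem l'.2)⟩
  have hLcard : ¬ p ∣ Nat.card L := by rw [← hL.symm.index_eq_card]; exact hpidx
  have hLmem : ∀ y : C, (orderOf y).Coprime p → y ∈ L := by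
    intro y hy
    refine (QuotientGroup.eq_one_iff y).mp (orderOf_eq_one_iff.mp ?_)
    obtain ⟨k, hk⟩ := hR0p.exists_card_eq
    refine Nat.eq_one_of_dvd_coprimes (hy.pow_right k) (orderOf_map_dvd (QuotientGroup.mk' L) y) ?_
    refine (_root_.orderOf_dvd_natCard _).trans (dvd_of_eq ?_)
    rw [← Subgroup.index_eq_card, hL.index_eq_card, hcard0, hk]
  set O := L.map C.subtype with hO
  have hON : ∀ m ∈ N, ∀ o ∈ O, m * o * m⁻¹ ∈ O := by
    rintro m hm _ ⟨l, hl, rfl⟩
    refine ⟨⟨m * l * m⁻¹, conj_mem_centralizer hm l.2⟩, hLmem _ ?_, rfl⟩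
    rw [← Subgroup.orderOf_coe]
    show (orderOf (m * (l : G) * m⁻¹)).Coprime p
    rw [show m * (l : G) * m⁻¹ = MulAut.conj m (l : G) from rfl, MulEquiv.orderOf_eq, Subgroup.orderOf_coe]
    exact Nat.Coprime.coprime_dvd_left (Subgroup.orderOf_dvd_natCard L hl)
      ((hp.out.coprime_iff_not_dvd.mpr hLcard).symm)
  have hOle : O ≤ N := (map_subtype_le L).trans hCN
  have hOcard : Nat.card O = Nat.card L := card_map_of_injective C.subtype_injective
  have hOi : ∀ q : ℕ, q.Prime → q ∣ (O.subgroupOf N).index → q ∈ π := by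
    intro q hq hd
    have h1 : (O.subgroupOf N).index = L.index * C.relIndex N := by
      show O.relIndex N = _
      rw [← Subgroup.relIndex_mul_relIndex O C N (map_subtype_le L) hCN]
      congr 1
      show (O.subgroupOf C).index = _
      rw [hO, subgroupOf, comap_map_eq_self_of_injective C.subtype_injective]
    rw [h1] at hd
    rcases hq.dvd_mul.mp hd with h | h
    · rw [hL.index_eq_card, hcard0] at h
      exact pi_of_pGroup hpπ hR0p q hq h
    · exact hhom D hD1 (pi_of_pGroup hpπ hD) q hq h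
  obtain ⟨X, hRX, hXpi, hX⟩ := exists_supplement hp.out (Nat.card N) N rfl (O.subgroupOf N)
    ⟨fun o ho m => hON m m.2 o ho⟩ hOi
    (by rw [Nat.card_congr (subgroupOfEquivOfLe hOle).toEquiv, hOcard]; exact hLcard)
    (R.subgroupOf N) hR.2.1.comap_subtype
  obtain ⟨a, ha⟩ := hP.conj (X.map N.subtype) (fun q hq hd => hXpi q hq (by
    rwa [card_map_of_injective N.subtype_injective] at hd))
  have haR : ∀ r ∈ R, a * r * a⁻¹ ∈ H := fun r hr => ha r ⟨⟨r, hR.1 hr⟩, hRX hr, rfl⟩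
  -- adjust `a` to normalise `D`
  obtain ⟨b, hb, hbX⟩ : ∃ b ∈ N, ∀ x ∈ X.map N.subtype, b * x * b⁻¹ ∈ H := by
    have key : ∀ h ∈ H, h * a ∈ N → ∃ b ∈ N, ∀ x ∈ X.map N.subtype, b * x * b⁻¹ ∈ H := fun h hh hha =>
      ⟨h * a, hha, fun x hx => by
        rw [show h * a * x * (h * a)⁻¹ = h * (a * x * a⁻¹) * h⁻¹ by group]
        exact mul_mem (mul_mem hh (ha x hx)) (inv_mem hh)⟩
    by_cases hRD : R ≤ D
    · obtain ⟨S, hDS, hS⟩ := exists_sylIn hD hDH
      have hSeq : S = D := by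
        refine le_antisymm ?_ hDS
        by_contra hne
        obtain ⟨t, htS, htN, htD⟩ := CfsgLib.Techniques.exists_mem_normalizer_not_mem hS.2.1 hDS hne
        have := hR.eq_of_le (inf_le_right : S ⊓ N ≤ N) (hS.2.1.to_le inf_le_left)
          (le_inf (hRD.trans hDS) hR.1)
        exact htD (hRD (this.le ⟨htS, htN⟩))
      obtain ⟨k, hk, hkA⟩ := hS.2.2 (cj a D) (cj_le.mpr fun d hd => haR d (hDR hd)) (hD.map _)
      refine key k hk (?_ : k * a ∈ normalizer (D : Set G))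
      have h1 : cj (k * a) D = D := by
        refine eq_of_le_of_card_ge (cj_le.mpr fun d hd => ?_) (card_cj _ _).ge
        rw [show k * a * d * (k * a)⁻¹ = k * (a * d * a⁻¹) * k⁻¹ by group]
        exact hSeq ▸ hkA _ (conj_mem_cj hd)
      rw [mem_normalizer_iff]
      intro y
      conv_rhs => rw [← h1, mem_cj]
      simp [mul_assoc]
    · have hlt : Nat.card D < Nat.card R := lt_of_not_ge fun hge =>
        hRD (eq_of_le_of_card_ge hDR hge).ge
      obtain ⟨h, hh, hact⟩ := ih R hRH hR.2.1 hlt a haR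
      exact key h⁻¹ (inv_mem hh) (hCN (centralizer_le (show (D : Set G) ⊆ R from hDR) hact.mem_centralizer))
  have h2 : (⟨b⁻¹ * n * b, mul_mem (mul_mem (inv_mem hb) hn) hb⟩ : N) ∈ O.subgroupOf N ⊔ X := hX ▸ mem_top _
  haveI : (O.subgroupOf N).Normal := ⟨fun o ho m => hON m m.2 o ho⟩
  obtain ⟨o, ho, x, hx, hox⟩ := mem_sup_of_normal_left.mp h2
  have hox' : (o : G) * x = b⁻¹ * n * b := congrArg Subtype.val hox
  refine ⟨b * x * b⁻¹, hbX _ ⟨x, hx, rfl⟩, ?_⟩
  have hoC : b * (o : G) * b⁻¹ ∈ C := conj_mem_centralizer hb (map_subtype_le L ho)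
  have hne : b * (x : G) * b⁻¹ ∈ N := mul_mem (mul_mem hb x.2) (inv_mem hb)
  have heq : n = (b * (o : G) * b⁻¹) * (b * x * b⁻¹) := by
    calc n = b * (b⁻¹ * n * b) * b⁻¹ := by group
      _ = b * ((o : G) * x) * b⁻¹ := by rw [hox']
      _ = _ := by group
  rw [heq]
  exact acts_of_centralizer hoC hne

/-- **Fusion of `p`-subgroups.** -/
theorem fus [hp : Fact p.Prime] (hhom : Homog π G) (hP : Pkg π H) :
    ∀ (m : ℕ) (D : Subgroup G), D ≤ H → IsPGroup p D → Nat.card G - Nat.card D = m → Fus H D := by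
  intro m
  induction m using Nat.strong_induction_on with
  | _ m ihm =>
  intro D hDH hD hm g hg
  by_cases hD1 : D = ⊥
  · exact ⟨1, one_mem H, fun d hd => by simp [mem_bot.mp (hD1 ▸ hd)]⟩
  have hpπ : p ∈ π := by
    refine hP.pi p hp.out ?_
    obtain ⟨k, hk⟩ := hD.exists_card_eq
    have hk0 : k ≠ 0 := fun e => hD1 (Subgroup.card_eq_one.mp (by rw [hk, e, pow_zero]))
    exact (dvd_pow_self p hk0).trans (hk.symm.dvd.trans (card_dvd_of_le hDH))
  have ih : ∀ R : Subgroup G, R ≤ H → IsPGroup p R → Nat.card D < Nat.card R → Fus H R :=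
    fun R hRH hR hlt => ihm _ (by have := Subgroup.card_le_card_group R; omega) R hRH hR rfl
  obtain ⟨R, hR, hRH, hDR⟩ := exists_sylIn_normalizer hP hpπ hD hDH ih
  set D' := cj g D with hD'
  have hD'H : D' ≤ H := cj_le.mpr hg
  have hD'1 : D' ≠ ⊥ := fun e => hD1 (Subgroup.card_eq_one.mp (by rw [← card_cj g D, ← hD', e, Subgroup.card_bot]))
  have ih' : ∀ R : Subgroup G, R ≤ H → IsPGroup p R → Nat.card D' < Nat.card R → Fus H R :=
    fun R hRH hR hlt => ih R hRH hR (by rwa [hD', card_cj] at hlt)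
  obtain ⟨R', hR', hR'H, hDR'⟩ := exists_sylIn_normalizer hP hpπ (hD.map _) hD'H ih'
  have hgN : ∀ y ∈ normalizer (D : Set G), g * y * g⁻¹ ∈ normalizer (D' : Set G) := fun y hy => by
    rw [mem_normalizer_iff]
    intro z
    rw [hD', mem_cj, mem_cj, show g⁻¹ * (g * y * g⁻¹ * z * (g * y * g⁻¹)⁻¹) * g =
      y * (g⁻¹ * z * g) * y⁻¹ by group]
    exact mem_normalizer_iff.mp hy _
  obtain ⟨k, hk, hkR⟩ := hR'.2.2 (cj g R) (cj_le.mpr fun r hr => hgN r (hR.1 hr)) (hR.2.1.map _)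
  obtain ⟨h', hh', hact'⟩ := acts_of_mem_normalizer hhom hP hpπ hD'1 (hD.map _) hD'H hR' hR'H hDR' ih' hk
  -- an element of `H` acting as `k g` on `D`
  obtain ⟨h, hh, hact⟩ : ∃ h ∈ H, Acts (k * g) h D := by
    have hkgR : ∀ r ∈ R, k * g * r * (k * g)⁻¹ ∈ H := fun r hr => by
      rw [show k * g * r * (k * g)⁻¹ = k * (g * r * g⁻¹) * k⁻¹ by group]
      exact hR'H (hkR _ (conj_mem_cj hr))
    by_cases hRD : R ≤ D
    · obtain ⟨S, hDS, hS⟩ := exists_sylIn hD hDH
      have hSeq : S = D := by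
        refine le_antisymm ?_ hDS
        by_contra hne
        obtain ⟨t, htS, htN, htD⟩ := CfsgLib.Techniques.exists_mem_normalizer_not_mem hS.2.1 hDS hne
        have := hR.eq_of_le (inf_le_right : S ⊓ normalizer (D : Set G) ≤ _) (hS.2.1.to_le inf_le_left)
          (le_inf (hRD.trans hDS) hR.1)
        exact htD (hRD (this.le ⟨htS, htN⟩))
      obtain ⟨c, hc, hcA⟩ := hS.2.2 (cj (k * g) D) (cj_le.mpr fun d hd => hkgR d (hDR hd)) (hD.map _)
      have hN' : c * (k * g) ∈ normalizer (D : Set G) := by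
        have h1 : cj (c * (k * g)) D = D := by
          refine eq_of_le_of_card_ge (cj_le.mpr fun d hd => ?_) (card_cj _ _).ge
          rw [show c * (k * g) * d * (c * (k * g))⁻¹ = c * (k * g * d * (k * g)⁻¹) * c⁻¹ by group]
          exact hSeq ▸ hcA _ (conj_mem_cj hd)
        rw [mem_normalizer_iff]
        intro y
        conv_rhs => rw [← h1, mem_cj]
        simp [mul_assoc]
      obtain ⟨h0, hh0, hact0⟩ := acts_of_mem_normalizer hhom hP hpπ hD1 hD hDH hR hRH hDR ih hN'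
      refine ⟨c⁻¹ * h0, mul_mem (inv_mem hc) hh0, fun d hd => ?_⟩
      calc k * g * d * (k * g)⁻¹ = c⁻¹ * (c * (k * g) * d * (c * (k * g))⁻¹) * c := by group
        _ = _ := by rw [hact0 d hd]; group
    · obtain ⟨h, hh, hact⟩ := ih R hRH hR.2.1 (lt_of_not_ge fun hge =>
        hRD (eq_of_le_of_card_ge hDR hge).ge) (k * g) hkgR
      exact ⟨h, hh, fun d hd => hact d (hDR hd)⟩
  refine ⟨h'⁻¹ * h, mul_mem (inv_mem hh') hh, fun d hd => ?_⟩
  have h1 := hact' _ (conj_mem_cj hd)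
  calc g * d * g⁻¹ = h'⁻¹ * (h' * (g * d * g⁻¹) * h'⁻¹) * h' := by group
    _ = h'⁻¹ * (k * g * d * (k * g)⁻¹) * h' := by rw [← h1]; group
    _ = _ := by rw [hact d hd]; group

theorem fus' (hp : p.Prime) (hhom : Homog π G) (hP : Pkg π H) {D : Subgroup G} (hDH : D ≤ H)
    (hD : IsPGroup p D) : Fus H D :=
  haveI : Fact p.Prime := ⟨hp⟩
  fus hhom hP _ D hDH hD rfl

end CfsgLib.PiHomogeneous
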