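import Cfsg.Agent.Lib.Fusion.PiHomogeneous

/-!
Owner: helper14. A π-homogeneous group whose π-subgroups are conjugate into one of them has a normal
π-complement: element fusion and the complement.
-/

set_option autoImplicit false
set_option linter.style.haveILetI false
set_option linter.unusedSectionVars false

namespace CfsgLib.PiHomogeneous

open Subgroup

universe u

variable {π : Set ℕ}

theorem Homog.subgroup {G : Type u} [Group G] [Finite G] (h : Homog π G) (K : Subgroup G) :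
    Homog π K := by
  intro A hA hAπ p hp hd
  have hA' : A.map K.subtype ≠ ⊥ := fun e =>
    hA ((Subgroup.map_eq_bot_iff_of_injective _ K.subtype_injective).mp e)
  have hAπ' : Cfsg.IsPiSubgroup π (A.map K.subtype) := fun q hq hd' =>
    hAπ q hq (by rwa [card_map_of_injective K.subtype_injective] at hd')
  refine h _ hA' hAπ' p hp (hd.trans ?_)
  have hC : (centralizer ((A.map K.subtype : Subgroup G) : Set G)).subgroupOf K = centralizer (A : Set K) := by
    ext k
    rw [mem_subgroupOf, mem_centralizer_iff, mem_centralizer_iff]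
    constructor
    · exact fun hk a ha => Subtype.ext (hk a ⟨a, ha, rfl⟩)
    · rintro hk _ ⟨a, ha, rfl⟩
      exact congrArg Subtype.val (hk a ha)
  have hN : ∀ k : K, k ∈ normalizer (A : Set K) → (k : G) ∈ normalizer ((A.map K.subtype : Subgroup G) : Set G) :=
    fun k hk => le_normalizer_map K.subtype ⟨k, hk, rfl⟩
  set C := centralizer ((A.map K.subtype : Subgroup G) : Set G) with hCdef
  set N := normalizer ((A.map K.subtype : Subgroup G) : Set G) with hNdef
  haveI : (C.subgroupOf N).Normal := ⟨fun c hc n => conj_mem_centralizer n.2 hc⟩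
  let f : normalizer (A : Set K) →* N ⧸ C.subgroupOf N :=
    (QuotientGroup.mk' _).comp ((K.subtype.comp (normalizer (A : Set K)).subtype).codRestrict N fun k => hN _ k.2)
  have hker : f.ker = (centralizer (A : Set K)).subgroupOf (normalizer (A : Set K)) := by
    ext k
    rw [MonoidHom.mem_ker, mem_subgroupOf, ← hC, mem_subgroupOf]
    exact (QuotientGroup.eq_one_iff _).trans mem_subgroupOf
  show ((centralizer (A : Set K)).subgroupOf (normalizer (A : Set K))).index ∣ (C.subgroupOf N).index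
  rw [← hker, Subgroup.index_ker, Subgroup.index_eq_card]
  exact Subgroup.card_subgroup_dvd_card _

theorem pi_card_iff {G : Type u} [Group G] {A B : Subgroup G} (h : Nat.card A = Nat.card B)
    (hA : Cfsg.IsPiSubgroup π A) : Cfsg.IsPiSubgroup π B := fun q hq hd => hA q hq (h ▸ hd)

/-- **Fusion of elements.** -/
theorem elem_fusion : ∀ (n : ℕ) (G : Type u) [Group G] [Finite G] (H : Subgroup G),
    Homog π G → Pkg π H → ∀ x ∈ H, orderOf x = n → ∀ g : G, g * x * g⁻¹ ∈ H →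
      ∃ h ∈ H, h * x * h⁻¹ = g * x * g⁻¹ := by
  intro n
  induction n using Nat.strong_induction_on with
  | _ n ih =>
  intro G _ _ H hhom hP x hxH hn g hg
  by_cases hx1 : x = 1
  · exact ⟨1, one_mem H, by simp [hx1]⟩
  have hn1 : n ≠ 1 := fun e => hx1 (orderOf_eq_one_iff.mp (hn.trans e))
  have hn0 : n ≠ 0 := hn ▸ (orderOf_pos x).ne'
  obtain ⟨p, hp, hpn⟩ := Nat.exists_prime_and_dvd hn1
  haveI : Fact p.Prime := ⟨hp⟩
  obtain ⟨e, m, hm, hnm⟩ := Nat.exists_eq_pow_mul_and_not_dvd hn0 p hp.ne_one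
  have he0 : e ≠ 0 := fun e0 => hm (by rwa [hnm, e0, pow_zero, one_mul] at hpn)
  have hm0 : m ≠ 0 := fun e0 => hm (e0 ▸ dvd_zero p)
  have hcop : Nat.Coprime (p ^ e) m := (hp.coprime_iff_not_dvd.mpr hm).pow_left e
  obtain ⟨c, d, hcd⟩ : ∃ c d : ℤ, (p ^ e : ℕ) * c + (m : ℕ) * d = 1 := by
    refine ⟨Nat.gcdA (p ^ e) m, Nat.gcdB (p ^ e) m, ?_⟩
    rw [← Nat.gcd_eq_gcd_ab, hcop.gcd_eq_one]
    norm_num
  set u := x ^ m with hu
  set v := x ^ (p ^ e) with hv
  have hxuv : x = v ^ c * u ^ d := by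
    rw [hv, hu, ← zpow_natCast, ← zpow_natCast, ← zpow_mul, ← zpow_mul, ← zpow_add, hcd, zpow_one]
  have huord : orderOf u = p ^ e := by
    rw [hu, orderOf_pow' x hm0, hn, hnm, Nat.gcd_eq_right (Dvd.intro_left _ rfl),
      Nat.mul_div_cancel _ (Nat.pos_of_ne_zero hm0)]
  have hvord : orderOf v = m := by
    rw [hv, orderOf_pow' x (pow_ne_zero _ hp.ne_zero), hn, hnm, Nat.gcd_eq_right (Dvd.intro _ rfl),
      Nat.mul_div_cancel_left _ (pow_pos hp.pos e)]
  have huH : u ∈ H := pow_mem hxH _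
  have hgu : ∀ y ∈ zpowers u, g * y * g⁻¹ ∈ H := fun y hy => by
    obtain ⟨j, rfl⟩ := mem_zpowers_iff.mp hy
    rw [← conj_zpow, hu, ← conj_pow]
    exact zpow_mem (pow_mem hg _) _
  have hU : IsPGroup p (zpowers u) := IsPGroup.of_card (n := e) (by rw [Nat.card_zpowers, huord])
  obtain ⟨h, hh, hact⟩ := fus' hp hhom hP (zpowers_le.mpr huH) hU g hgu
  set b := h⁻¹ * g with hb
  set C := centralizer ({u} : Set G) with hC
  have hbC : b ∈ C := mem_centralizer_singleton_iff.mpr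
    (mem_centralizer_iff.mp hact.mem_centralizer u (mem_zpowers u)).symm
  have hPC : Pkg π (H.subgroupOf C) := by
    refine ⟨fun q hq hd => hP.pi q hq ?_, fun A hA => ?_⟩
    · rw [← card_map_of_injective (K := H.subgroupOf C) C.subtype_injective, subgroupOf_map_subtype] at hd
      exact hd.trans (card_dvd_of_le inf_le_left)
    have hle : A.map C.subtype ≤ normalizer (zpowers u : Set G) := by
      refine (map_subtype_le A).trans (le_trans (le_of_eq ?_) (centralizer_le_normalizer _))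
      rw [zpowers_eq_closure, centralizer_closure]
    have hpi : Cfsg.IsPiSubgroup π (A.map C.subtype ⊔ zpowers u) := by
      intro q hq hd
      rcases hq.dvd_mul.mp (hd.trans (CfsgLib.Core.card_sup_dvd _ _ hle)) with h1 | h1
      · exact hA q hq (by rwa [card_map_of_injective C.subtype_injective] at h1)
      · rw [Nat.card_zpowers] at h1
        exact hP.pi q hq (h1.trans (Subgroup.orderOf_dvd_natCard H huH))
    obtain ⟨a, ha⟩ := hP.conj _ hpi
    obtain ⟨k, hk, hkact⟩ := fus' hp hhom hP (zpowers_le.mpr huH) hU a fun y hy => ha y (mem_sup_right hy)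
    have hka : k⁻¹ * a ∈ C := mem_centralizer_singleton_iff.mpr
      (mem_centralizer_iff.mp hkact.mem_centralizer u (mem_zpowers u)).symm
    refine ⟨⟨_, hka⟩, fun y hy => mem_subgroupOf.mpr ?_⟩
    show k⁻¹ * a * (y : G) * (k⁻¹ * a)⁻¹ ∈ H
    rw [show k⁻¹ * a * (y : G) * (k⁻¹ * a)⁻¹ = k⁻¹ * (a * y * a⁻¹) * k by group]
    exact mul_mem (mul_mem (inv_mem hk) (ha _ (mem_sup_left ⟨y, hy, rfl⟩))) hk
  have hvC : v ∈ C := mem_centralizer_singleton_iff.mpr (by rw [hv, hu, ← pow_add, ← pow_add, add_comm])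
  have hlt : m < n := by
    rw [hnm]
    exact lt_mul_of_one_lt_left (Nat.pos_of_ne_zero hm0) (Nat.one_lt_pow he0 hp.one_lt)
  have hbv : b * v * b⁻¹ ∈ H := by
    rw [hv, ← conj_pow, hb, show h⁻¹ * g * x * (h⁻¹ * g)⁻¹ = h⁻¹ * (g * x * g⁻¹) * h by group]
    exact pow_mem (mul_mem (mul_mem (inv_mem hh) hg) hh) _
  obtain ⟨k, hk, hkv⟩ := ih m hlt C (H.subgroupOf C) (hhom.subgroup C) hPC ⟨v, hvC⟩
    (mem_subgroupOf.mpr (pow_mem hxH _))
    (by rw [← Subgroup.orderOf_coe]; exact hvord) ⟨b, hbC⟩ (mem_subgroupOf.mpr hbv)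
  have hkv' : (k : G) * v * (k : G)⁻¹ = b * v * b⁻¹ := congrArg Subtype.val hkv
  refine ⟨h * k, mul_mem hh hk, ?_⟩
  have e1 : (k : G) * u * (k : G)⁻¹ = u := by
    rw [mem_centralizer_singleton_iff.mp k.2, mul_inv_cancel_right]
  have e2 : b * u * b⁻¹ = u := by rw [mem_centralizer_singleton_iff.mp hbC, mul_inv_cancel_right]
  have e3 : (k : G) * x * (k : G)⁻¹ = b * x * b⁻¹ := by
    rw [hxuv, show (k : G) * (v ^ c * u ^ d) * (k : G)⁻¹ = (k * v ^ c * (k : G)⁻¹) * (k * u ^ d * (k : G)⁻¹) by group,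
      show b * (v ^ c * u ^ d) * b⁻¹ = (b * v ^ c * b⁻¹) * (b * u ^ d * b⁻¹) by group,
      ← conj_zpow, ← conj_zpow, ← conj_zpow, ← conj_zpow, hkv', e1, e2]
  calc h * (k : G) * x * (h * k)⁻¹ = h * (k * x * (k : G)⁻¹) * h⁻¹ := by group
    _ = _ := by rw [e3, hb]; group

theorem exists_pkg {G : Type u} [Group G] [Finite G] (hD : Cfsg.IsDPiGroup π G) :
    ∃ H : Subgroup G, Pkg π H := by
  have hmax : ∀ A : Subgroup G, Cfsg.IsPiSubgroup π A → ∃ B, A ≤ B ∧ Maximal (Cfsg.IsPiSubgroup π) B := by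
    intro A hA
    obtain ⟨B, hAB, hB⟩ := Set.Finite.exists_le_maximal
      (s := {B : Subgroup G | Cfsg.IsPiSubgroup π B}) (Set.toFinite _) (a := A) hA
    exact ⟨B, hAB, hB⟩
  obtain ⟨H, -, hH⟩ := hmax ⊥ fun p hp hd => absurd (Subgroup.card_bot (G := G) ▸ hd) hp.not_dvd_one
  refine ⟨H, hH.1, fun A hA => ?_⟩
  obtain ⟨B, hAB, hB⟩ := hmax A hA
  obtain ⟨g, rfl⟩ := hD H B hH hB
  refine ⟨g⁻¹, fun a ha => ?_⟩
  obtain ⟨h, hh, rfl⟩ := hAB ha
  show g⁻¹ * (g * h * g⁻¹) * g⁻¹⁻¹ ∈ H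
  rwa [show g⁻¹ * (g * h * g⁻¹) * g⁻¹⁻¹ = h by group]

/-- **The normal π-complement.** -/
theorem pi_prime_closed {G : Type u} [Group G] [Finite G] (hπ : ∀ p ∈ π, p.Prime) (hD : Cfsg.IsDPiGroup π G)
    (hhom : Homog π G) :
    ∃ K : Subgroup G, ∀ x : G, x ∈ K ↔ ∀ p : ℕ, p.Prime → p ∣ orderOf x → p ∉ π := by
  obtain ⟨H, hP⟩ := exists_pkg hD
  have hidx : ∀ p : ℕ, p.Prime → p ∣ H.index → p ∉ π := by
    intro p hp hd hpπ
    haveI : Fact p.Prime := ⟨hp⟩
    let S : Sylow p G := default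
    obtain ⟨g, hg⟩ := hP.conj S (pi_of_pGroup hpπ S.isPGroup')
    have hle : cj g (S : Subgroup G) ≤ H := cj_le.mpr hg
    have h1 := Subgroup.index_dvd_of_le hle
    have h2 : (cj g (S : Subgroup G)).index = (S : Subgroup G).index :=
      Nat.eq_of_mul_eq_mul_left Nat.card_pos (((cj g (S : Subgroup G)).card_mul_index).trans
        ((S : Subgroup G).card_mul_index.symm.trans (by rw [card_cj])))
    exact S.not_dvd_index (h2 ▸ hd.trans h1)
  have hcop : Nat.Coprime (Nat.card H) H.index := Nat.coprime_of_dvd fun p hp h1 h2 =>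
    hidx p hp h2 (hP.pi p hp h1)
  letI := Fintype.ofFinite G
  obtain ⟨K, hKn, hKH, hKd⟩ := CfsgLib.Char.Exceptional.hall_normal_complement (H := H) hcop
    (fun x hx y hy hxy => by
      obtain ⟨g, rfl⟩ := isConj_iff.mp hxy
      exact elem_fusion _ G H hhom hP x hx rfl g hy)
    (fun E p _ _ hdvd => by
      obtain ⟨g, hg⟩ := hP.conj E fun q hq hd => hP.pi q hq (hd.trans hdvd)
      exact ⟨g, cj_le.mpr hg⟩)
  haveI := hKn
  have hcomp : Subgroup.IsComplement' K H := isComplement'_of_disjoint_and_mul_eq_univ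
    (disjoint_iff.mpr hKd) (by rw [← Subgroup.normal_mul, hKH, coe_top])
  refine ⟨K, fun x => ⟨fun hx p hp hd hpπ => ?_, fun hx => ?_⟩⟩
  · have h1 := hd.trans (Subgroup.orderOf_dvd_natCard K hx)
    rw [← hcomp.index_eq_card] at h1
    exact hidx p hp h1 hpπ
  · refine (QuotientGroup.eq_one_iff x).mp (orderOf_eq_one_iff.mp ?_)
    by_contra hne
    obtain ⟨p, hp, hpd⟩ := Nat.exists_prime_and_dvd hne
    refine hx p hp (hpd.trans (orderOf_map_dvd (QuotientGroup.mk' K) x)) (hP.pi p hp ?_)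
    rw [← hcomp.symm.index_eq_card, Subgroup.index_eq_card]
    exact hpd.trans (_root_.orderOf_dvd_natCard _)

end CfsgLib.PiHomogeneous
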