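import Cfsg.Agent.Lib.Fusion.PrimeIndexLeast
import Cfsg.Agent.Lib.Fusion.ClosedCentric

/-!
The value of a character of `Aut_F(T)` trivial on a normal subsystem over `T`, on the maps of `F`
between subgroups of `T`.
-/

set_option autoImplicit false

namespace CfsgLib.Fusion

open Cfsg Cfsg.FusionSystem

variable {Ω : Type*} [Group Ω] {S T : Subgroup Ω} {F : FusionSystem S} {E : FusionSystem T}
  {p : ℕ} {Δ : Type*} [Group Δ] {χ : F.autGroup T →* Δ}

/-- The standing hypotheses on the character. -/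
structure CharData (F : FusionSystem S) (E : FusionSystem T) (p : ℕ)
    (χ : F.autGroup T →* Δ) : Prop where
  normal : E.IsNormalIn F p
  coprime : (Nat.card Δ).Coprime p
  ker : (E.autGroup T).subgroupOf (F.autGroup T) ≤ χ.ker

/-- `φ` is an automorphism of `T` with character value `d` after a map of `E`. -/
def HasVal (E : FusionSystem T) (χ : F.autGroup T →* Δ) {Q : Subgroup Ω} (φ : Q →* Ω) (d : Δ) :
    Prop :=
  ∃ γ : F.autGroup T, ∃ e ∈ E.Hom Q,
    (∀ (x : Q) (h : e x ∈ T), φ x = (((γ : MulAut T) ⟨e x, h⟩ : T) : Ω)) ∧ χ γ = d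

namespace CharData

theorem sub (hd : CharData F E p χ) : E.IsSubsystemOf F := hd.normal.1.2.2.1

theorem closed (hd : CharData F E p χ) : F.StronglyClosed T := hd.normal.1.2.2.2.1

theorem val_mem (hd : CharData F E p χ) {Q : Subgroup Ω} {φ : Q →* Ω} {d : Δ}
    (h : HasVal E χ φ d) : φ ∈ F.Hom Q := by
  obtain ⟨γ, e, he, hv, -⟩ := h
  exact comp_mem' (hd.sub Q he) ((mem_autGroup_iff hd.closed.1).1 γ.2) (hom_apply_mem he)
    fun x => hv x _

theorem val_range (hd : CharData F E p χ) {Q : Subgroup Ω} {φ : Q →* Ω} {d : Δ}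
    (h : HasVal E χ φ d) : φ.range ≤ T := by
  obtain ⟨γ, e, he, hv, -⟩ := h
  rintro _ ⟨x, rfl⟩
  rw [hv x (hom_apply_mem he x)]
  exact SetLike.coe_mem _

/-- Invariance of `E` under `Aut_F(T)`. -/
theorem inv_topConj (hd : CharData F E p χ) {Q : Subgroup Ω} {f : Q →* Ω} (hf : f ∈ E.Hom Q)
    {α : MulAut T} (hα : α ∈ F.autGroup T) {P' : Subgroup Ω} (hP' : P' ≤ T)
    (h1 : ∀ y : P', ((α⁻¹ (Subgroup.inclusion hP' y) : T) : Ω) ∈ Q) (h2 : ∀ x, f x ∈ T) :
    topConj α f hP' h1 h2 ∈ E.Hom P' := by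
  obtain ⟨-, -, hinv, -⟩ := hd.normal.1.2.2
  obtain ⟨χ₀, hχ₀, hv⟩ := hinv Q (hom_le hf) f hf α hα
  have hle : P' ≤ (Q.subgroupOf T).map (T.subtype.comp α.toMonoidHom) := fun y hy =>
    ⟨α⁻¹ ⟨y, hP' hy⟩, h1 ⟨y, hy⟩, congrArg Subtype.val (MulAut.apply_inv_self T α ⟨y, hP' hy⟩)⟩
  refine restrict_mem' hχ₀ hle fun y => ?_
  rw [topConj_apply]
  have h4 : α (⟨((α⁻¹ (Subgroup.inclusion hP' y) : T) : Ω), hom_le hf (h1 y)⟩ : T) =
      Subgroup.inclusion hP' y := MulAut.apply_inv_self T α _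
  have h3 := hv ⟨_, h1 y⟩ (h2 _) (by rw [h4]; exact hle y.2)
  rw [← h3]
  congr 1
  exact Subtype.ext ((congrArg (fun z : T => (z : Ω)) h4).trans rfl)

theorem val_of_mem (_hd : CharData F E p χ) {Q : Subgroup Ω} {φ : Q →* Ω} (hφ : φ ∈ E.Hom Q) :
    HasVal E χ φ 1 :=
  ⟨1, φ, hφ, fun _ _ => rfl, map_one χ⟩

theorem val_aut (_hd : CharData F E p χ) {Q : Subgroup Ω} (hQ : Q ≤ T) {φ : Q →* Ω}
    (γ : F.autGroup T)
    (h : ∀ x : Q, φ x = (((γ : MulAut T) (Subgroup.inclusion hQ x) : T) : Ω)) :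
    HasVal E χ φ (χ γ) :=
  ⟨γ, Q.subtype, incl_mem hQ, fun x _ => h x, rfl⟩

theorem val_exists (hd : CharData F E p χ) {Q : Subgroup Ω} (hQ : Q ≤ T) {φ : Q →* Ω}
    (hφ : φ ∈ F.Hom Q) : ∃ d, HasVal E χ φ d := by
  obtain ⟨α, hα, e, he, hv⟩ := hd.normal.1.2.2.2.2.2 Q hQ φ hφ
  exact ⟨χ ⟨α, hα⟩, ⟨α, hα⟩, e, he, hv, rfl⟩

theorem val_restrict (_hd : CharData F E p χ) {Q R : Subgroup Ω} {φ : Q →* Ω} {d : Δ}
    (h : HasVal E χ φ d) (hR : R ≤ Q) {ψ : R →* Ω} (hψ : ∀ x : R, ψ x = φ ⟨x, hR x.2⟩) :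
    HasVal E χ ψ d := by
  obtain ⟨γ, e, he, hv, hd'⟩ := h
  exact ⟨γ, _, restrict_mem he hR, fun x hx => (hψ x).trans (hv _ hx), hd'⟩

theorem val_comp (hd : CharData F E p χ) {Q R : Subgroup Ω} {φ : Q →* Ω} {ψ : R →* Ω} {d d' : Δ}
    (hφ : HasVal E χ φ d) (hψ : HasVal E χ ψ d') (h : ∀ x, φ x ∈ R) {θ : Q →* Ω}
    (hθ : ∀ x, θ x = ψ ⟨φ x, h x⟩) : HasVal E χ θ (d' * d) := by
  obtain ⟨α, e, he, hev, rfl⟩ := hφ
  obtain ⟨β, f, hf, hfv, rfl⟩ := hψ
  have hαi : ((α : MulAut T))⁻¹ ∈ F.autGroup T := Subgroup.inv_mem _ α.2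
  have h1 : ∀ y : e.range,
      ((((α : MulAut T)⁻¹)⁻¹ (Subgroup.inclusion (hom_range_le he) y) : T) : Ω) ∈ R := by
    rintro ⟨_, x, rfl⟩
    rw [inv_inv]
    exact (hev x (hom_apply_mem he x)) ▸ h x
  have hf' := hd.inv_topConj hf hαi (hom_range_le he) h1 (hom_apply_mem hf)
  refine ⟨β * α, (topConj (α : MulAut T)⁻¹ f (hom_range_le he) h1 (hom_apply_mem hf)).comp
      (e.codRestrict e.range fun x => ⟨x, rfl⟩), E.comp_mem he hf' _, fun x hx => ?_, map_mul χ β α⟩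
  rw [hθ, hfv _ (hom_apply_mem hf _), Subgroup.coe_mul, MulAut.mul_apply]
  congr 2
  refine (MulAut.apply_inv_self T (α : MulAut T) _).symm.trans ?_
  congr 1
  refine Subtype.ext ?_
  show _ = topConj (α : MulAut T)⁻¹ f (hom_range_le he) h1 (hom_apply_mem hf) ⟨e x, ⟨x, rfl⟩⟩
  rw [topConj_apply]
  congr 3
  refine congrArg f (Subtype.ext ?_)
  show φ x = (((((α : MulAut T))⁻¹)⁻¹ ⟨e x, hom_apply_mem he x⟩ : T) : Ω)
  rw [inv_inv]
  exact hev x (hom_apply_mem he x)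

/-- Uniqueness of values on subgroups of a given order follows from triviality there. -/
theorem val_unique_of (hd : CharData F E p χ) {n : ℕ}
    (hU : ∀ (Q : Subgroup Ω) (hQT : Q ≤ T), TCentric F T Q → Nat.card Q = n → ∀ (γ : F.autGroup T),
      ∀ e ∈ E.Hom Q, (∀ x : Q, e x = (((γ : MulAut T) (Subgroup.inclusion hQT x) : T) : Ω)) →
        χ γ = 1)
    {Q : Subgroup Ω} (hQ : TCentric F T Q) (hn : Nat.card Q = n) {φ : Q →* Ω} {d d' : Δ}
    (h : HasVal E χ φ d) (h' : HasVal E χ φ d') : d = d' := by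
  obtain ⟨γ, e, he, hv, rfl⟩ := h
  obtain ⟨γ', e', he', hv', rfl⟩ := h'
  obtain ⟨θ, hθ, -, hθv, hθr⟩ := exists_inv he rfl
  have hθQ : ∀ y, θ y ∈ Q := fun y => (hθr y).1
  have hRT := hom_range_le he
  have h1 : χ (γ'⁻¹ * γ) = 1 := by
    refine hU e.range hRT (hQ.conj hd.closed ⟨e, hd.sub Q he, rfl⟩) ?_ (γ'⁻¹ * γ) _
      (E.comp_mem hθ he' hθQ) ?_
    · rw [← hn]
      exact (Nat.card_congr (MonoidHom.ofInjective (E.injective_of_mem he)).toEquiv).symm
    · rintro ⟨_, x, rfl⟩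
      show e' ⟨θ ⟨e x, _⟩, _⟩ = _
      rw [show (⟨θ ⟨e x, ⟨x, rfl⟩⟩, hθQ _⟩ : Q) = x from Subtype.ext (hθv x _)]
      have h2 : ((γ' : MulAut T)) ⟨e' x, hom_apply_mem he' x⟩ =
          (γ : MulAut T) ⟨e x, hom_apply_mem he x⟩ :=
        Subtype.ext ((hv' x _).symm.trans (hv x _))
      show e' x = ((((γ' : MulAut T))⁻¹ ((γ : MulAut T) ⟨e x, _⟩) : T) : Ω)
      rw [← h2, MulAut.inv_apply_self]
  rw [map_mul, map_inv] at h1
  exact (inv_mul_eq_one.1 h1).symm

/-- Automorphisms of `p`-power order have value one. -/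
theorem val_pow_of [Fact p.Prime] [Finite Δ] (hd : CharData F E p χ) {N : Subgroup Ω}
    (hN : TCentric F T N)
    (huniq : ∀ (φ : N →* Ω) (d d' : Δ), HasVal E χ φ d → HasVal E χ φ d' → d = d')
    {ε : MulAut N} (hε : ε ∈ F.autGroup N) (hk : ∃ k : ℕ, ε ^ p ^ k = 1) :
    HasVal E χ (N.subtype.comp ε.toMonoidHom) 1 := by
  obtain ⟨k, hk⟩ := hk
  have hNS := hN.1.trans hd.closed.1
  obtain ⟨d, hdv⟩ := hd.val_exists hN.1 ((mem_autGroup_iff hNS).1 hε)
  have hpow : ∀ n : ℕ, HasVal E χ (N.subtype.comp (ε ^ n).toMonoidHom) (d ^ n) := by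
    intro n
    induction n with
    | zero =>
      rw [pow_zero, pow_zero]
      exact hd.val_of_mem (hom_congr (incl_mem hN.1) fun _ => rfl)
    | succ n ih =>
      rw [pow_succ' d]
      refine hd.val_comp ih hdv (fun x => ((ε ^ n) x).2) fun x => ?_
      show (((ε ^ (n + 1)) x : N) : Ω) = _
      rw [pow_succ', MulAut.mul_apply]
      rfl
  have h1 := hpow (p ^ k)
  rw [hk] at h1
  have h2 : d ^ p ^ k = 1 :=
    huniq _ _ _ h1 (hd.val_of_mem (hom_congr (incl_mem hN.1) fun _ => rfl))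
  have h3 : d = 1 := by
    rw [← orderOf_eq_one_iff]
    exact Nat.eq_one_of_dvd_coprimes (Nat.Coprime.pow_right k hd.coprime) (orderOf_dvd_natCard d)
      (orderOf_dvd_of_pow_eq_one h2)
  rwa [h3] at hdv

variable [Finite S] [Fact p.Prime] [Finite Δ] (hS : IsPGroup p S) (hd : CharData F E p χ)

include hS hd

/-- The character is trivial on automorphisms agreeing with `E` on a centric subgroup of `T`. -/
theorem val_trivial : ∀ (m : ℕ) (Q : Subgroup Ω) (hQT : Q ≤ T), TCentric F T Q →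
    Nat.card T - Nat.card Q ≤ m → ∀ (γ : F.autGroup T), ∀ e ∈ E.Hom Q,
      (∀ x : Q, e x = (((γ : MulAut T) (Subgroup.inclusion hQT x) : T) : Ω)) → χ γ = 1 := by
  have hF := hd.normal.1.2.1
  have hE := hd.normal.1.1
  have hTS := hd.closed.1
  have := finite_le hTS
  have hTp : IsPGroup p T := hS.to_le hTS
  intro m
  induction m using Nat.strong_induction_on with
  | _ m ihm =>
    intro Q hQT hQ hm γ e he hev
    rcases eq_or_lt_of_le hQT with hQT' | hQT'
    · subst hQT'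
      exact hd.ker (show (γ : MulAut Q) ∈ E.autGroup Q from
        (mem_autGroup_iff le_rfl).2 (hom_congr he fun x => (hev x).symm))
    set N := normalizerIn T Q with hN
    have hlt : Q < N := lt_normalizerIn hTp hQT'
    have hNT : N ≤ T := normalizerIn_le Q
    have hNS := hNT.trans hTS
    have := finite_le hNS
    have hcard : Nat.card Q < Nat.card N :=
      lt_of_le_of_ne (Subgroup.card_le_of_le hlt.le) fun h =>
        hlt.ne (Subgroup.eq_of_le_of_card_ge hlt.le h.ge)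
    have hNc : TCentric F T N := hQ.mono hlt.le hNT
    have hNle : Nat.card N ≤ Nat.card T := Subgroup.card_le_of_le hNT
    have huniq : ∀ (φ : N →* Ω) (d d' : Δ), HasVal E χ φ d → HasVal E χ φ d' → d = d' :=
      fun φ d d' h h' => hd.val_unique_of (n := Nat.card N) (fun Q₁ hQ₁T hc hn γ₁ e₁ he₁ hv₁ =>
        ihm (Nat.card T - Nat.card N) (by omega) Q₁ hQ₁T hc (le_of_eq (by rw [hn])) γ₁ e₁ he₁ hv₁)
        hNc rfl h h'
    -- extending `e`
    set R := e.range with hR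
    obtain ⟨u, hu, huv⟩ := exists_iso he (Q := R) rfl
    have hRc : E.IsCentric R := by
      have hRT := hQ.conj hd.closed ⟨e, hd.sub Q he, rfl⟩
      exact ⟨hRT.1, fun T' ⟨f, hf, hf'⟩ => hRT.2 T' ⟨f, hd.sub R hf, hf'⟩⟩
    obtain ⟨δ, hδ, hag⟩ := exists_extension
      (IsSaturated.receptive hTp hE (fullyCentralized_of_centric hRc)) hu hlt.le fun g hg => by
        refine mem_extender_iff.2 ⟨hg.1, hg.2, (γ : MulAut T) ⟨g, hg.1⟩, SetLike.coe_mem _,
          fun x hx => ?_⟩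
        rw [isoHom_apply, isoHom_apply, huv, huv, hev, hev, ← Subgroup.coe_inv, ← Subgroup.coe_mul,
          ← Subgroup.coe_mul, ← map_inv, ← map_mul, ← map_mul]
        congr 2
    have hγF := (mem_autGroup_iff hTS).1 γ.2
    set γN : N →* Ω := (T.subtype.comp (γ : MulAut T).toMonoidHom).comp (Subgroup.inclusion hNT)
      with hγN
    have hγNF : γN ∈ F.Hom N := restrict_mem hγF hNT
    have himg : img γN Q = R := by
      ext y
      constructor
      · rintro ⟨x, hx, rfl⟩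
        exact ⟨⟨x, hx⟩, hev ⟨x, hx⟩⟩
      · rintro ⟨x, rfl⟩
        exact ⟨Subgroup.inclusion hlt.le x, x.2, (hev x).symm⟩
    -- the image of `δ`
    have hδN : ∀ x, δ x ∈ γN.range := by
      intro x
      have h1 := extension_mem_normalizerIn hδ hlt.le (fun y hy => hy.2) hag x
      set z : T := (γ : MulAut T)⁻¹ ⟨δ x, h1.1⟩ with hz
      have hzN : (z : Ω) ∈ N := by
        refine ⟨z.2, ?_⟩
        have h3 : (T.subtype.comp ((γ : MulAut T)⁻¹).toMonoidHom) ⟨δ x, h1.1⟩ = z := rfl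
        rw [← h3]
        have h4 := img_mem_normalizer (ψ := T.subtype.comp ((γ : MulAut T)⁻¹).toMonoidHom)
          (hom_range_le he) ⟨δ x, h1.1⟩ h1.2
        have h5 : img (T.subtype.comp ((γ : MulAut T)⁻¹).toMonoidHom) e.range = Q := by
          ext y
          constructor
          · rintro ⟨w, ⟨q, hq⟩, rfl⟩
            have h6 : w = (γ : MulAut T) (Subgroup.inclusion hQT q) :=
              Subtype.ext (hq.symm.trans (hev q))
            show (((γ : MulAut T)⁻¹ w : T) : Ω) ∈ Q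
            rw [h6, MulAut.inv_apply_self]
            exact q.2
          · intro hy
            exact ⟨(γ : MulAut T) ⟨y, hQT hy⟩, ⟨⟨y, hy⟩, hev ⟨y, hy⟩⟩,
              congrArg Subtype.val (MulAut.inv_apply_self T (γ : MulAut T) ⟨y, hQT hy⟩)⟩
        rw [h5] at h4
        exact h4
      refine ⟨⟨z, hzN⟩, ?_⟩
      show (((γ : MulAut T) ⟨(z : Ω), _⟩ : T) : Ω) = δ x
      rw [show (⟨(z : Ω), hNT hzN⟩ : T) = z from rfl, hz, MulAut.apply_inv_self]
    obtain ⟨θ, hθ, -, hθv, hθr⟩ := exists_inv hγNF rfl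
    have hθN : ∀ y, θ y ∈ N := fun y => (hθr y).1
    let ε₀ : N →* Ω := θ.comp (δ.codRestrict _ hδN)
    have hε₀ : ε₀ ∈ F.Hom N := comp_mem' (hd.sub N hδ) hθ hδN fun _ => rfl
    have hε₀r : ε₀.range = N := Subgroup.eq_of_le_of_card_ge
      (by rintro _ ⟨x, rfl⟩; exact hθN _)
      (le_of_eq (Nat.card_congr (MonoidHom.ofInjective (F.injective_of_mem hε₀)).toEquiv))
    obtain ⟨ε, hε, hεv⟩ := exists_iso hε₀ hε₀r
    have hδv : ∀ x : N, γN (ε x) = δ x := fun x => by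
      obtain ⟨hy, h⟩ := hθr ⟨δ x, hδN x⟩
      refine Eq.trans ?_ h
      congr 1
      exact Subtype.ext (hεv x)
    have hfix : ∀ x : Q, ε (Subgroup.inclusion hlt.le x) = Subgroup.inclusion hlt.le x := fun x => by
      refine F.injective_of_mem hγNF ?_
      rw [hδv, hag, huv, hev]
      rfl
    have hεA : (ε : MulAut N) ∈ F.autGroup N := (mem_autGroup_iff_isoIn hNS).2 hε
    have hεp : ∃ k : ℕ, (ε : MulAut N) ^ p ^ k = 1 := by
      have := finite_le (hQT.trans hTS)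
      obtain ⟨c, hc⟩ := IsPGroup.iff_card.1 (hTp.to_le hQT)
      refine ⟨c, MulEquiv.ext fun x => ?_⟩
      have hx : ((x⁻¹ * ε x : N) : Ω) ∈ Q := by
        refine hQ.2 Q (isConj_refl (hQT.trans hTS))
          (mem_centralizerIn.2 ⟨hNT (x⁻¹ * ε x).2, fun q hq => ?_⟩)
        have hq' : (x : Ω) * q * (x : Ω)⁻¹ ∈ Q := conj_mem_of_mem_normalizer x.2.2 hq
        have h1 := hfix ⟨_, hq'⟩
        have h2 : Subgroup.inclusion hlt.le ⟨_, hq'⟩ =
            x * Subgroup.inclusion hlt.le ⟨q, hq⟩ * x⁻¹ := Subtype.ext rfl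
        rw [h2, map_mul, map_mul, map_inv, hfix ⟨q, hq⟩] at h1
        have h3 : x⁻¹ * ε x * Subgroup.inclusion hlt.le ⟨q, hq⟩ =
            Subgroup.inclusion hlt.le ⟨q, hq⟩ * (x⁻¹ * ε x) := by
          calc x⁻¹ * ε x * Subgroup.inclusion hlt.le ⟨q, hq⟩
              = x⁻¹ * (ε x * Subgroup.inclusion hlt.le ⟨q, hq⟩ * (ε x)⁻¹) * ε x := by group
            _ = _ := by rw [h1]; group
        exact (congrArg Subtype.val h3).symm
      have h4 : (x⁻¹ * ε x) ^ p ^ c = 1 := Subtype.ext (by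
        have h5 := congrArg Subtype.val (pow_card_eq_one' (x := (⟨_, hx⟩ : Q)))
        rw [hc] at h5
        rw [SubgroupClass.coe_pow] at h5 ⊢
        exact h5)
      have h6 := pow_shift (ε : MulAut N) (mul_inv_cancel_left x _).symm (hfix ⟨_, hx⟩) (p ^ c)
      rw [h4, mul_one] at h6
      exact h6
    have hval1 := hd.val_pow_of hNc huniq hεA hεp
    have hval2 : HasVal E χ γN (χ γ) := hd.val_aut hNT γ fun x => rfl
    have h := huniq _ _ _ (hd.val_comp hval1 hval2 (fun x => (ε x).2) fun x => (hδv x).symm)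
      (hd.val_of_mem hδ)
    simpa using h

theorem val_unique {Q : Subgroup Ω} (hQ : TCentric F T Q) {φ : Q →* Ω} {d d' : Δ}
    (h : HasVal E χ φ d) (h' : HasVal E χ φ d') : d = d' :=
  hd.val_unique_of (n := Nat.card Q)
    (fun Q₁ hQ₁T hc _ γ e he hv => hd.val_trivial hS _ Q₁ hQ₁T hc le_rfl γ e he hv) hQ rfl h h'

/-- Generated maps have value one on `T`. -/
theorem genMap_val {R : Subgroup Ω} {φ : R →* Ω} (hφ : GenMap F p φ) :
    ∀ (Q : Subgroup Ω) (hQR : Q ≤ R), Q ≤ T → HasVal E χ (φ.comp (Subgroup.inclusion hQR)) 1 := by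
  have hF := hd.normal.1.2.1
  induction hφ with
  | incl φ hP hφ =>
      intro Q hQR hQT
      exact hd.val_of_mem (hom_congr (incl_mem hQT) fun x => hφ _)
  | @step U φ hc hr a ha hk hφ hle χ' hχ' ih =>
      intro Q hQR hQT
      have h1 := ih Q hQR hQT
      have hUT : U ⊓ T ≤ U := inf_le_left
      have hTC := tCentric_inf_of_radical hS hF hd.closed hc hr fun he h => isRadical_congr he h
      have haF := (mem_autGroup_iff hc.1).1 ha
      have hfin := finite_le (hUT.trans hc.1)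
      let b₀ : ↥(U ⊓ T) →* Ω := (U.subtype.comp a.toMonoidHom).comp (Subgroup.inclusion hUT)
      have hb₀ : b₀ ∈ F.Hom (U ⊓ T) := restrict_mem haF hUT
      have hr₀ : b₀.range = U ⊓ T := Subgroup.eq_of_le_of_card_ge
        (by
          rintro _ ⟨x, rfl⟩
          exact ⟨(a _).2, hd.closed.2 (U ⊓ T) inf_le_right _ hb₀ x⟩)
        (le_of_eq (Nat.card_congr (MonoidHom.ofInjective (F.injective_of_mem hb₀)).toEquiv))
      obtain ⟨b, hb, hbv⟩ := exists_iso hb₀ hr₀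
      have hbk : ∃ k : ℕ, (b : MulAut ↥(U ⊓ T)) ^ p ^ k = 1 := by
        obtain ⟨k, hk⟩ := hk
        have hpow : ∀ (n : ℕ) (x : ↥(U ⊓ T)),
            ((((b : MulAut ↥(U ⊓ T)) ^ n) x : ↥(U ⊓ T)) : Ω) =
              ((a ^ n) (Subgroup.inclusion hUT x) : U) := by
          intro n
          induction n with
          | zero => intro x; rfl
          | succ n ihn =>
            intro x
            rw [pow_succ', MulAut.mul_apply, pow_succ' a, MulAut.mul_apply, hbv]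
            show ((a _ : U) : Ω) = _
            congr 2
            exact Subtype.ext (ihn x)
        exact ⟨k, MulEquiv.ext fun x => Subtype.ext (by rw [hpow, hk]; rfl)⟩
      have h2 := hd.val_pow_of hTC (fun _ _ _ => hd.val_unique hS hTC)
        ((mem_autGroup_iff_isoIn (hUT.trans hc.1)).2 hb) hbk
      have hmem : ∀ x : Q, φ (Subgroup.inclusion hQR x) ∈ U ⊓ T := fun x =>
        ⟨hle _, hd.val_range h1 ⟨x, rfl⟩⟩
      have h3 := hd.val_comp h1 h2 hmem (θ := χ'.comp (Subgroup.inclusion hQR)) fun x => by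
        refine (hχ' _).trans ?_
        exact (hbv ⟨_, hmem x⟩).symm
      rwa [mul_one] at h3

end CharData

end CfsgLib.Fusion
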