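import Cfsg.Agent.Lib.Fusion.ClosedProduct
import Cfsg.Agent.Lib.Fusion.Alperin
import Cfsg.Agent.Lib.Fusion.NormalCriterion
import Cfsg.Agent.Lib.Fusion.StableNormalizers
import Cfsg.Agent.Lib.Fusion.NormalCentralizerClosed
import Cfsg.Agent.Lib.Fusion.SylowIn
import Cfsg.Agent.Lib.Fusion.CoprimeCriterion

/-!
# Maps between subgroups of a product of two commuting strongly closed subgroups

Every map defined on a subgroup of `T₁T₂` extends to the product of its two projections: at a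
centric radical subgroup `R` the trace on `T₁T₂` is the product of the traces on the factors.
-/

set_option autoImplicit false
set_option maxHeartbeats 800000
set_option linter.unusedSectionVars false

namespace CfsgLib.Fusion.Split

open Cfsg Cfsg.FusionSystem CfsgLib.Fusion
open scoped Pointwise

universe u

variable {Ω : Type u} [Group Ω] {S T₁ T₂ : Subgroup Ω} {F : FusionSystem S} {p : ℕ}

/-- Two commuting strongly closed subgroups. -/
structure Pair (F : FusionSystem S) (T₁ T₂ : Subgroup Ω) : Prop where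
  closed₁ : F.StronglyClosed T₁
  closed₂ : F.StronglyClosed T₂
  comm : ∀ x ∈ T₁, ∀ y ∈ T₂, x * y = y * x

/-- The first projection of the trace of `P` on the product. -/
def comp (T₁ T₂ P : Subgroup Ω) : Subgroup Ω := T₁ ⊓ ((P ⊓ (T₁ ⊔ T₂)) ⊔ T₂)

/-- `P` together with both projections. -/
def hull (T₁ T₂ P : Subgroup Ω) : Subgroup Ω := P ⊔ (comp T₁ T₂ P ⊔ comp T₂ T₁ P)

theorem Pair.swap (h : Pair F T₁ T₂) : Pair F T₂ T₁ :=
  ⟨h.closed₂, h.closed₁, fun x hx y hy => (h.comm y hy x hx).symm⟩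

theorem Pair.le_normalizer (h : Pair F T₁ T₂) : T₁ ≤ Subgroup.normalizer (T₂ : Set Ω) :=
  h.closed₁.1.trans (StronglyClosed.normal_in h.closed₂)

theorem Pair.sup_le (h : Pair F T₁ T₂) : T₁ ⊔ T₂ ≤ S := _root_.sup_le h.closed₁.1 h.closed₂.1

theorem Pair.exists_mul (h : Pair F T₁ T₂) {u : Ω} (hu : u ∈ T₁ ⊔ T₂) :
    ∃ x ∈ T₁, ∃ y ∈ T₂, u = x * y := by
  have h1 : u ∈ (↑(T₁ ⊔ T₂) : Set Ω) := hu
  rw [Subgroup.coe_mul_of_left_le_normalizer_right T₁ T₂ h.le_normalizer] at h1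
  obtain ⟨x, hx, y, hy, rfl⟩ := h1
  exact ⟨x, hx, y, hy, rfl⟩

theorem Pair.mem_comp (h : Pair F T₁ T₂) {P : Subgroup Ω} {x : Ω} :
    x ∈ comp T₁ T₂ P ↔ x ∈ T₁ ∧ ∃ y ∈ T₂, x * y ∈ P := by
  constructor
  · rintro ⟨hx, hx'⟩
    have h1 : x ∈ (↑((P ⊓ (T₁ ⊔ T₂)) ⊔ T₂) : Set Ω) := hx'
    rw [Subgroup.coe_mul_of_left_le_normalizer_right (P ⊓ (T₁ ⊔ T₂)) T₂
      ((inf_le_right.trans h.sup_le).trans (StronglyClosed.normal_in h.closed₂))] at h1
    obtain ⟨u, hu, t, ht, hut⟩ := h1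
    refine ⟨hx, t⁻¹, T₂.inv_mem ht, ?_⟩
    rw [← show u * t = x from hut, mul_inv_cancel_right]
    exact hu.1
  · rintro ⟨hx, y, hy, hxy⟩
    refine ⟨hx, ?_⟩
    rw [← mul_inv_cancel_right x y]
    exact Subgroup.mul_mem _
      (Subgroup.mem_sup_left ⟨hxy, mul_mem (Subgroup.mem_sup_left hx) (Subgroup.mem_sup_right hy)⟩)
      (Subgroup.mem_sup_right (T₂.inv_mem hy))

theorem Pair.comp_le (_h : Pair F T₁ T₂) (P : Subgroup Ω) : comp T₁ T₂ P ≤ T₁ := inf_le_left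

theorem Pair.inf_le_comp (h : Pair F T₁ T₂) (P : Subgroup Ω) : T₁ ⊓ T₂ ≤ comp T₁ T₂ P := fun z hz =>
  h.mem_comp.2 ⟨hz.1, z⁻¹, T₂.inv_mem hz.2, by rw [mul_inv_cancel]; exact P.one_mem⟩

theorem le_hull (P : Subgroup Ω) : P ≤ hull T₁ T₂ P := le_sup_left

theorem comp_le_hull (P : Subgroup Ω) : comp T₁ T₂ P ≤ hull T₁ T₂ P :=
  le_sup_left.trans le_sup_right

theorem comp_swap_le_hull (P : Subgroup Ω) : comp T₂ T₁ P ≤ hull T₁ T₂ P :=
  le_sup_right.trans le_sup_right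

/-- The product is strongly closed. -/
theorem Pair.stronglyClosed [Fact p.Prime] [Finite S] (h : Pair F T₁ T₂) (hS : IsPGroup p S)
    (hF : F.IsSaturated p) : F.StronglyClosed (T₁ ⊔ T₂) :=
  stronglyClosed_sup_of hS hF h.closed₁ h.closed₂.1 fun _ _ hφ _ _ hx =>
    Subgroup.mem_sup_right (StronglyClosed.apply_mem h.closed₂ hφ hx)

theorem Pair.comp_normal (h : Pair F T₁ T₂) {R : Subgroup Ω} (hR : R ≤ S) {r : Ω} (hr : r ∈ R)
    {x : Ω} (hx : x ∈ comp T₁ T₂ R) : r * x * r⁻¹ ∈ comp T₁ T₂ R := by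
  obtain ⟨hx₁, y, hy, hxy⟩ := h.mem_comp.1 hx
  refine h.mem_comp.2 ⟨conj_mem_of_mem_normalizer (StronglyClosed.normal_in h.closed₁ (hR hr)) hx₁,
    r * y * r⁻¹, conj_mem_of_mem_normalizer (StronglyClosed.normal_in h.closed₂ (hR hr)) hy, ?_⟩
  rw [show r * x * r⁻¹ * (r * y * r⁻¹) = r * (x * y) * r⁻¹ by group]
  exact R.mul_mem (R.mul_mem hr hxy) (R.inv_mem hr)

/-- At a centric radical subgroup the projection lies in it. -/
theorem Pair.comp_le_radical [Fact p.Prime] [Finite S] (h : Pair F T₁ T₂) (hS : IsPGroup p S)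
    (hF : F.IsSaturated p) {R : Subgroup Ω} (hc : F.IsCentric R) (hr : F.IsRadical p R) :
    comp T₁ T₂ R ≤ R := by
  classical
  have hRS := hc.1
  have hT := h.stronglyClosed hS hF
  have hcS : comp T₁ T₂ R ≤ S := (h.comp_le R).trans h.closed₁.1
  by_contra hne
  have hMS : R ⊔ comp T₁ T₂ R ≤ S := _root_.sup_le hRS hcS
  have := finite_le hMS
  have := finite_le hRS
  have := finite_mulAut_of_le (S := S) hRS
  obtain ⟨m, hm, hmR⟩ := exists_mem_normalizerIn_not_mem (hS.to_le hMS) (left_lt_sup.2 hne)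
  have hmm : m ∈ (R : Set Ω) * (comp T₁ T₂ R : Set Ω) := by
    rw [← Subgroup.coe_mul_of_left_le_normalizer_right R (comp T₁ T₂ R)
      (Subgroup.le_normalizer_iff.2 fun r hr x hx => h.comp_normal hRS hr hx)]
    exact hm.1
  obtain ⟨r₀, hr₀, g, hg, rfl⟩ := hmm
  have hgR : g ∉ R := fun hh => hmR (R.mul_mem hr₀ hh)
  have hgN : g ∈ Subgroup.normalizer (R : Set Ω) := by
    have := mul_mem (inv_mem (Subgroup.le_normalizer hr₀)) hm.2
    simpa using this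
  have hgS : g ∈ S := hcS hg
  obtain ⟨hg₁, y, hy, hgy⟩ := h.mem_comp.1 hg
  have hinv : ∀ {U : Subgroup Ω}, F.StronglyClosed U → ∀ a ∈ F.autGroup R, ∀ x : R,
      (x : Ω) ∈ U → ((a x : R) : Ω) ∈ U := fun hU a ha x hx =>
    StronglyClosed.apply_mem hU ((mem_autGroup_iff hRS).1 ha) hx
  have hinv' : ∀ a ∈ F.autGroup R, ∀ x : R, (x : Ω) ∈ R ⊓ T₁ ⊔ R ⊓ T₂ →
      ((a x : R) : Ω) ∈ R ⊓ T₁ ⊔ R ⊓ T₂ := by
    intro a ha
    have hle : (R ⊓ T₁ ⊔ R ⊓ T₂).subgroupOf R ≤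
        ((R ⊓ T₁ ⊔ R ⊓ T₂).subgroupOf R).comap a.toMonoidHom := by
      rw [Subgroup.subgroupOf_sup inf_le_left inf_le_left]
      refine _root_.sup_le (fun x hx => Subgroup.mem_sup_left ⟨(a x).2, hinv h.closed₁ a ha x hx.2⟩)
        fun x hx => Subgroup.mem_sup_right ⟨(a x).2, hinv h.closed₂ a ha x hx.2⟩
    exact fun x hx => hle hx
  -- the stabilizer of the series, inner on the traces
  let P : MulAut R → Prop := fun a => a ∈ F.autGroup R ∧
    (∀ x : R, ((x⁻¹ * a x : R) : Ω) ∈ T₁ ⊔ T₂) ∧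
    (∀ x : R, (x : Ω) ∈ T₁ ⊔ T₂ → ((x⁻¹ * a x : R) : Ω) ∈ R ⊓ T₁ ⊔ R ⊓ T₂) ∧
    (∃ r : R, ∀ x : R, (x : Ω) ∈ T₁ → a x = r * x * r⁻¹) ∧
    ∃ r : R, ∀ x : R, (x : Ω) ∈ T₂ → a x = r * x * r⁻¹
  have hmul : ∀ a b, P a → P b → P (a * b) := by
    rintro a b ⟨ha, ha1, ha2, ⟨r, hr⟩, ⟨r', hr'⟩⟩ ⟨hb, hb1, hb2, ⟨s, hs⟩, ⟨s', hs'⟩⟩
    have e : ∀ x : R, x⁻¹ * (a * b) x = x⁻¹ * b x * ((b x)⁻¹ * a (b x)) := fun x => by
      rw [MulAut.mul_apply, mul_assoc, mul_inv_cancel_left]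
    refine ⟨mul_mem ha hb, fun x => ?_, fun x hx => ?_, ⟨r * s, fun x hx => ?_⟩,
      ⟨r' * s', fun x hx => ?_⟩⟩
    · rw [e, Subgroup.coe_mul]
      exact mul_mem (hb1 x) (ha1 _)
    · rw [e, Subgroup.coe_mul]
      exact mul_mem (hb2 x hx) (ha2 _ (hinv hT b hb x hx))
    · rw [MulAut.mul_apply, hr _ (hinv h.closed₁ b hb x hx), hs x hx]
      group
    · rw [MulAut.mul_apply, hr' _ (hinv h.closed₂ b hb x hx), hs' x hx]
      group
  have hone : P 1 := ⟨one_mem _, fun x => by simp, fun x _ => by simp, ⟨1, fun x _ => by simp⟩,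
    ⟨1, fun x _ => by simp⟩⟩
  have hpow : ∀ a, P a → ∀ n : ℕ, P (a ^ n) := by
    intro a ha n
    induction n with
    | zero => rw [pow_zero]; exact hone
    | succ n ih => rw [pow_succ]; exact hmul _ _ ih ha
  let K : Subgroup (MulAut R) :=
    { carrier := {a | P a}
      one_mem' := hone
      mul_mem' := fun {a b} ha hb => hmul a b ha hb
      inv_mem' := fun {a} ha => by
        obtain ⟨n, hn⟩ := mem_powers_iff_mem_zpowers.2
          (Subgroup.inv_mem _ (Subgroup.mem_zpowers a))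
        exact (show a ^ n = a⁻¹ from hn) ▸ hpow a ha n }
  have hKp : IsPGroup p K := by
    refine isPGroup_of_coprime_trivial fun a hac => ?_
    rw [← Subgroup.orderOf_coe] at hac
    refine Subtype.ext ?_
    obtain ⟨haF, ha1, ha2, ⟨r, hr⟩, ⟨r', hr'⟩⟩ := a.2
    have hfix : ∀ {U : Subgroup Ω}, F.StronglyClosed U → ∀ r : R,
        (∀ x : R, (x : Ω) ∈ U → (a : MulAut R) x = r * x * r⁻¹) →
        ∀ x : R, (x : Ω) ∈ U → (a : MulAut R) x = x := by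
      intro U hU r hr x hx
      have hcomp : ∀ n : ℕ, ((a : MulAut R) ^ n) x = r ^ n * x * (r ^ n)⁻¹ := by
        intro n
        induction n with
        | zero => simp
        | succ n ih =>
          rw [pow_succ', MulAut.mul_apply, ih]
          have hmem : ((r ^ n * x * (r ^ n)⁻¹ : R) : Ω) ∈ U := ih ▸
            hinv hU _ (pow_mem haF n) x hx
          rw [hr _ hmem]
          group
      obtain ⟨k, hk⟩ := (hS.to_le hRS) r
      have h1 : ((a : MulAut R) ^ p ^ k) x = x := by rw [hcomp, hk]; simp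
      obtain ⟨j, hj⟩ : ∃ j : ℕ, ((a : MulAut R) ^ p ^ k) ^ j = a := by
        obtain ⟨j, hj⟩ := mem_powers_iff_mem_zpowers.2
          (mem_zpowers_pow_iff.2 ((hac.pow_right k).symm.gcd_eq_one) :
            (a : MulAut R) ∈ Subgroup.zpowers ((a : MulAut R) ^ p ^ k))
        exact ⟨j, hj⟩
      rw [← hj]
      clear hj
      induction j with
      | zero => rfl
      | succ j ih => rw [pow_succ, MulAut.mul_apply, h1, ih]
    have hord : ∃ n : ℕ, (a : MulAut R) ^ n = 1 ∧ n.Coprime p := ⟨_, pow_orderOf_eq_one _, hac⟩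
    have h12 : ∀ x : R, (x : Ω) ∈ R ⊓ T₁ ⊔ R ⊓ T₂ → (a : MulAut R) x = x := by
      have hle : (R ⊓ T₁ ⊔ R ⊓ T₂).subgroupOf R ≤
          (a : MulAut R).toMonoidHom.eqLocus (MonoidHom.id R) := by
        rw [Subgroup.subgroupOf_sup inf_le_left inf_le_left]
        exact _root_.sup_le (fun x hx => hfix h.closed₁ r hr x hx.2)
          fun x hx => hfix h.closed₂ r' hr' x hx.2
      exact fun x hx => hle hx
    have hTfix : ∀ x : R, (x : Ω) ∈ T₁ ⊔ T₂ → (a : MulAut R) x = x := fun x hx =>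
      (inv_mul_eq_one.1 (eq_one_of_shift_fixed hS hRS hord (w := x) (u := x⁻¹ * (a : MulAut R) x)
        (mul_inv_cancel_left x _).symm (h12 _ (ha2 x hx)))).symm
    refine MulEquiv.ext fun x => ?_
    exact (inv_mul_eq_one.1 (eq_one_of_shift_fixed hS hRS hord (w := x)
      (u := x⁻¹ * (a : MulAut R) x) (mul_inv_cancel_left x _).symm (hTfix _ (ha1 x)))).symm
  have hKn : ∀ d ∈ F.autGroup R, ∀ a ∈ K, d * a * d⁻¹ ∈ K := by
    rintro d hd a ⟨ha, ha1, ha2, ⟨r, hr⟩, ⟨r', hr'⟩⟩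
    have e : ∀ x : R, x⁻¹ * (d * a * d⁻¹) x = d ((d⁻¹ x)⁻¹ * a (d⁻¹ x)) := fun x => by
      rw [map_mul, map_inv, MulAut.apply_inv_self]
      rfl
    have hd' := inv_mem hd
    refine ⟨mul_mem (mul_mem hd ha) hd', fun x => ?_, fun x hx => ?_, ⟨d r, fun x hx => ?_⟩,
      ⟨d r', fun x hx => ?_⟩⟩
    · rw [e]
      exact hinv hT d hd _ (ha1 _)
    · rw [e]
      exact hinv' d hd _ (ha2 _ (hinv hT _ hd' x hx))
    · rw [MulAut.mul_apply, MulAut.mul_apply, hr _ (hinv h.closed₁ _ hd' x hx), map_mul, map_mul,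
        map_inv, MulAut.apply_inv_self]
    · rw [MulAut.mul_apply, MulAut.mul_apply, hr' _ (hinv h.closed₂ _ hd' x hx), map_mul, map_mul,
        map_inv, MulAut.apply_inv_self]
  -- conjugation by `g`
  set c : MulAut R := conjAut (S := S) ⟨g, hgS, hgN⟩ with hcdef
  have hcv : ∀ x : R, ((c x : R) : Ω) = g * (x : Ω) * g⁻¹ := fun x => rfl
  have hcK : c ∈ K := by
    refine ⟨autInducedBy_le_autGroup hRS (conjAut_mem _), fun x => ?_, fun x hx => ?_,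
      ⟨⟨g * y, hgy⟩, fun x hx => Subtype.ext ?_⟩, ⟨1, fun x hx => Subtype.ext ?_⟩⟩
    · rw [Subgroup.coe_mul, Subgroup.coe_inv, hcv,
        show (x : Ω)⁻¹ * (g * x * g⁻¹) = (x : Ω)⁻¹ * g * (x : Ω)⁻¹⁻¹ * g⁻¹ by group]
      exact Subgroup.mem_sup_left (T₁.mul_mem
        (conj_mem_of_mem_normalizer (StronglyClosed.normal_in h.closed₁ (S.inv_mem (hRS x.2))) hg₁)
        (T₁.inv_mem hg₁))
    · obtain ⟨a, ha, b, hb, hab⟩ := h.exists_mul hx
      have hm : ((x⁻¹ * c x : R) : Ω) = a⁻¹ * (g * a * g⁻¹) := by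
        rw [Subgroup.coe_mul, Subgroup.coe_inv, hcv, hab]
        have h1 : g * b = b * g := h.comm g hg₁ b hb
        have h2 : a⁻¹ * (g * a * g⁻¹) * b = b * (a⁻¹ * (g * a * g⁻¹)) :=
          h.comm _ (T₁.mul_mem (T₁.inv_mem ha)
            (T₁.mul_mem (T₁.mul_mem hg₁ ha) (T₁.inv_mem hg₁))) b hb
        calc (a * b)⁻¹ * (g * (a * b) * g⁻¹)
            = b⁻¹ * a⁻¹ * g * a * (b * g⁻¹) := by group
          _ = b⁻¹ * a⁻¹ * g * a * (g⁻¹ * b) := by
              rw [(Commute.inv_left (h1 : Commute g b)).eq]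
          _ = b⁻¹ * (a⁻¹ * (g * a * g⁻¹) * b) := by group
          _ = a⁻¹ * (g * a * g⁻¹) := by rw [h2, inv_mul_cancel_left]
      refine Subgroup.mem_sup_left ⟨SetLike.coe_mem _, ?_⟩
      rw [hm]
      exact T₁.mul_mem (T₁.inv_mem ha) (T₁.mul_mem (T₁.mul_mem hg₁ ha) (T₁.inv_mem hg₁))
    · rw [hcv]
      show g * (x : Ω) * g⁻¹ = g * y * (x : Ω) * (g * y)⁻¹
      have h1 : (x : Ω) * y = y * x := h.comm _ hx y hy
      calc g * (x : Ω) * g⁻¹ = g * ((x : Ω) * y) * y⁻¹ * g⁻¹ := by group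
        _ = g * y * (x : Ω) * (g * y)⁻¹ := by rw [h1]; group
    · rw [hcv, h.comm g hg₁ _ hx]
      simp
  have hin : c ∈ Inn R := hr.2 ▸ le_pCoreMap (fun a ha => (ha : P a).1) hKn hKp hcK
  rw [← autInducedBy_self_eq] at hin
  obtain ⟨r, hr, hrv⟩ := mem_autInducedBy_iff.1 hin
  refine hgR ?_
  have h1 : r⁻¹ * g ∈ centralizerIn S R := mem_centralizerIn.2
    ⟨S.mul_mem (S.inv_mem (hRS hr)) hgS, fun x hx => by
      have h2 : g * x * g⁻¹ = r * x * r⁻¹ := hrv ⟨x, hx⟩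
      calc x * (r⁻¹ * g) = r⁻¹ * (r * x * r⁻¹) * g := by group
        _ = r⁻¹ * (g * x * g⁻¹) * g := by rw [h2]
        _ = r⁻¹ * g * x := by group⟩
  have := R.mul_mem hr (hc.2 R (isConj_refl hRS) h1)
  rwa [mul_inv_cancel_left] at this

/-- A map carries projections to projections. -/
theorem Pair.map_comp (h : Pair F T₁ T₂) {P M Q : Subgroup Ω} {φ : P →* Ω} {ψ : M →* Ω}
    (hψ : ψ ∈ F.Hom M) (hPM : P ≤ M) (hcM : comp T₁ T₂ P ≤ M)
    (hag : ∀ x : P, ψ (Subgroup.inclusion hPM x) = φ x) (hQ : ∀ x, φ x ∈ Q)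
    {x : M} (hx : (x : Ω) ∈ comp T₁ T₂ P) : ψ x ∈ comp T₁ T₂ Q := by
  obtain ⟨hx₁, y, hy, hxy⟩ := h.mem_comp.1 hx
  have hyM : y ∈ M := by
    have := M.mul_mem (M.inv_mem (hcM hx)) (hPM hxy)
    rwa [inv_mul_cancel_left] at this
  refine h.mem_comp.2 ⟨StronglyClosed.apply_mem h.closed₁ hψ hx₁, ψ ⟨y, hyM⟩,
    StronglyClosed.apply_mem h.closed₂ hψ hy, ?_⟩
  rw [← map_mul, show x * ⟨y, hyM⟩ = Subgroup.inclusion hPM ⟨(x : Ω) * y, hxy⟩ from rfl, hag]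
  exact hQ _

/-- Extension to both projections. -/
def SplitExt (F : FusionSystem S) (T₁ T₂ : Subgroup Ω) {P : Subgroup Ω} (φ : P →* Ω) : Prop :=
  ∃ ψ ∈ F.Hom (hull T₁ T₂ P), ∀ x : P, ψ (Subgroup.inclusion (le_hull P) x) = φ x

theorem Pair.range_ext_le (h : Pair F T₁ T₂) {P Q : Subgroup Ω} {φ : P →* Ω}
    {ψ : ↥(hull T₁ T₂ P) →* Ω} (hψ : ψ ∈ F.Hom (hull T₁ T₂ P))
    (hag : ∀ x : P, ψ (Subgroup.inclusion (le_hull P) x) = φ x) (hQ : ∀ x, φ x ∈ Q) :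
    ψ.range ≤ hull T₁ T₂ Q := by
  refine range_le_of_gens (fun x => ?_) fun w => ?_
  · exact le_hull Q ((hag x).symm ▸ hQ x)
  · have hw : ((Subgroup.inclusion (le_sup_right (a := P)) w : ↥(hull T₁ T₂ P)) : Ω) ∈
        comp T₁ T₂ P ⊔ comp T₂ T₁ P := w.2
    revert hw
    generalize Subgroup.inclusion (le_sup_right (a := P)) w = v
    intro hv
    have hle : (comp T₁ T₂ P ⊔ comp T₂ T₁ P).subgroupOf (hull T₁ T₂ P) ≤
        (hull T₁ T₂ Q).comap ψ := by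
      rw [Subgroup.subgroupOf_sup (comp_le_hull P) (comp_swap_le_hull P)]
      refine _root_.sup_le (fun z hz => comp_le_hull Q ?_) fun z hz => comp_swap_le_hull Q ?_
      · exact h.map_comp hψ (le_hull P) (comp_le_hull P) hag hQ hz
      · exact h.swap.map_comp hψ (le_hull P) (comp_swap_le_hull P) hag hQ hz
    exact hle hv

theorem Pair.le_range_ext [Fact p.Prime] [Finite S] (h : Pair F T₁ T₂) (hS : IsPGroup p S)
    (hF : F.IsSaturated p) {P : Subgroup Ω} {φ : P →* Ω} (hφ : φ ∈ F.Hom P)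
    {ψ : ↥(hull T₁ T₂ P) →* Ω} (hψ : ψ ∈ F.Hom (hull T₁ T₂ P))
    (hag : ∀ x : P, ψ (Subgroup.inclusion (le_hull P) x) = φ x) :
    hull T₁ T₂ φ.range ≤ ψ.range := by
  have hT := h.stronglyClosed hS hF
  have h0 : T₁ ⊓ T₂ ≤ ψ.range := by
    have hle : T₁ ⊓ T₂ ≤ hull T₁ T₂ P := (h.inf_le_comp P).trans (comp_le_hull P)
    have hcl : F.StronglyClosed (T₁ ⊓ T₂) := ⟨inf_le_left.trans h.closed₁.1,
      fun R hR χ hχ x => ⟨h.closed₁.2 R (hR.trans inf_le_left) χ hχ x,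
        h.closed₂.2 R (hR.trans inf_le_right) χ hχ x⟩⟩
    rw [← (StronglyClosed.weaklyClosed hcl).2 _ (restrict_mem hψ hle)]
    rintro _ ⟨z, rfl⟩
    exact ⟨_, rfl⟩
  have key : ∀ {A B : Subgroup Ω}, Pair F A B → A ⊔ B = T₁ ⊔ T₂ → A ⊓ B = T₁ ⊓ T₂ →
      comp A B P ≤ hull T₁ T₂ P → comp A B φ.range ≤ ψ.range := by
    intro A B hAB hsup hinf hle x' hx'
    obtain ⟨hx₁, y', hy', u, hu⟩ := hAB.mem_comp.1 hx'
    obtain ⟨d, hd, hdv⟩ := exists_iso hφ rfl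
    have huT : (u : Ω) ∈ A ⊔ B := by
      have h1 : ((d.symm ⟨φ u, u, rfl⟩ : P) : Ω) ∈ T₁ ⊔ T₂ := by
        refine StronglyClosed.apply_mem hT hd.symm.mem (x := ⟨φ u, u, rfl⟩) ?_
        show φ u ∈ T₁ ⊔ T₂
        rw [hu, ← hsup]
        exact mul_mem (Subgroup.mem_sup_left hx₁) (Subgroup.mem_sup_right hy')
      rw [show (⟨φ u, u, rfl⟩ : φ.range) = d u from Subtype.ext (hdv u).symm,
        MulEquiv.symm_apply_apply, ← hsup] at h1
      exact h1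
    obtain ⟨x, hx, y, hy, hxy⟩ := hAB.exists_mul huT
    have hxc : x ∈ comp A B P := hAB.mem_comp.2 ⟨hx, y, hy, hxy ▸ u.2⟩
    have hyM : y ∈ hull T₁ T₂ P := by
      have := Subgroup.mul_mem _ (Subgroup.inv_mem _ (hle hxc)) (le_hull (T₁ := T₁) (T₂ := T₂) P u.2)
      rwa [hxy, inv_mul_cancel_left] at this
    have hu' : φ u = ψ ⟨x, hle hxc⟩ * ψ ⟨y, hyM⟩ := by
      rw [← hag, ← map_mul]
      exact congrArg ψ (Subtype.ext hxy)
    have h1 : (ψ ⟨x, hle hxc⟩)⁻¹ * x' = ψ ⟨y, hyM⟩ * y'⁻¹ := by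
      rw [inv_mul_eq_iff_eq_mul, ← mul_assoc, ← hu', hu, mul_inv_cancel_right]
    have h2 : (ψ ⟨x, hle hxc⟩)⁻¹ * x' ∈ A ⊓ B :=
      ⟨A.mul_mem (A.inv_mem (StronglyClosed.apply_mem hAB.closed₁ hψ hx)) hx₁,
        h1 ▸ B.mul_mem (StronglyClosed.apply_mem hAB.closed₂ hψ hy) (B.inv_mem hy')⟩
    have := Subgroup.mul_mem _ (⟨_, rfl⟩ : ψ ⟨x, hle hxc⟩ ∈ ψ.range) (h0 (hinf ▸ h2))
    rwa [mul_inv_cancel_left] at this
  refine _root_.sup_le ?_ (_root_.sup_le (key h rfl rfl (comp_le_hull P))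
    (key h.swap (sup_comm _ _) (inf_comm _ _) (comp_swap_le_hull P)))
  rintro _ ⟨x, rfl⟩
  exact ⟨_, hag x⟩

/-- Every map extends to both projections. -/
theorem Pair.splitExt [Fact p.Prime] [Finite S] (h : Pair F T₁ T₂) (hS : IsPGroup p S)
    (hF : F.IsSaturated p) {P : Subgroup Ω} {φ : P →* Ω} (hφ : φ ∈ F.Hom P) :
    SplitExt F T₁ T₂ φ := by
  have hhull : ∀ {P : Subgroup Ω}, P ≤ S → hull T₁ T₂ P ≤ S := fun hP =>
    _root_.sup_le hP (_root_.sup_le ((h.comp_le _).trans h.closed₁.1)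
      ((h.swap.comp_le _).trans h.closed₂.1))
  let EY : FusionSystem S :=
    { Hom := fun P => {φ | φ ∈ F.Hom P ∧ SplitExt F T₁ T₂ φ}
      le_of_mem := fun h => F.le_of_mem h.1
      injective_of_mem := fun h => F.injective_of_mem h.1
      conj_mem := fun {P g} hP hg => ⟨F.conj_mem hP hg, conjHom _ g,
        F.conj_mem (hhull hP) hg, fun x => rfl⟩
      comp_mem := fun {P Q φ ψ} hφ hψ hm => by
        refine ⟨F.comp_mem hφ.1 hψ.1 hm, ?_⟩
        obtain ⟨a, ha, hav⟩ := hφ.2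
        obtain ⟨b, hb, hbv⟩ := hψ.2
        have hmem : ∀ w, a w ∈ hull T₁ T₂ Q := fun w => h.range_ext_le ha hav hm ⟨w, rfl⟩
        exact ⟨_, F.comp_mem ha hb hmem, fun x =>
          (congrArg b (Subtype.ext (hav x) :
            (⟨a _, hmem _⟩ : ↥(hull T₁ T₂ Q)) = Subgroup.inclusion (le_hull Q) ⟨φ x, hm x⟩)).trans
            (hbv _)⟩
      inv_mem := fun {P φ} hφ => by
        obtain ⟨χ, hχ, hχv⟩ := F.inv_mem hφ.1
        obtain ⟨a, ha, hav⟩ := hφ.2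
        obtain ⟨ι, hι, -, hιl, -⟩ := exists_inv ha rfl
        refine ⟨χ, ⟨hχ, _, restrict_mem hι (h.le_range_ext hS hF hφ.1 ha hav), ?_⟩, hχv⟩
        rintro ⟨_, x, rfl⟩
        exact (congrArg ι (Subtype.ext (hav x).symm)).trans
          ((hιl (Subgroup.inclusion (le_hull P) x) ⟨_, rfl⟩).trans (hχv x).symm) }
  refine (alperin hS hF EY (fun R hR a ha => ?_) P hφ).2
  have hRS : R ≤ S := by
    rcases hR with rfl | hR
    · exact le_rfl
    · exact hR.1.1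
  have hle : hull T₁ T₂ R ≤ R := by
    rcases hR with rfl | hR
    · exact hhull le_rfl
    · have hr := IsEssential.isRadical hS hR
      exact _root_.sup_le le_rfl (_root_.sup_le (h.comp_le_radical hS hF hR.1 hr)
        (h.swap.comp_le_radical hS hF hR.1 hr))
  have haF := (mem_autGroup_iff hRS).1 ha
  exact (mem_autGroup_iff hRS).2 ⟨haF, _, restrict_mem haF hle, fun x => rfl⟩

end CfsgLib.Fusion.Split
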