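import Cfsg.Agent.Lib.Fusion.SectionFree
import Cfsg.Agent.Lib.PLocal.SLTwo.Qd
import Cfsg.Agent.Lib.PLocal.SLTwo.StableCore

/-!
The translations of `Qd(p)` split off.
-/

set_option autoImplicit false

namespace CfsgLib.Fusion

open Cfsg
open CfsgLib.PLocal.SLTwo

variable {p : ℕ} [Fact p.Prime]

/-- The linear maps inside `Qd(p)`. -/
def linearPart : S2 (ZMod p) →* ↥(Cfsg.qd p) where
  toFun x := aff x 0
  map_one' := aff_one
  map_mul' x y := by rw [aff_mul]; simp

theorem eq_one_of_fixes_all {x : S2 (ZMod p)}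
    (h : ∀ u : Fin 2 → ZMod p, Matrix.mulVec x.1 u = u) : x = 1 := by
  have h1 := h ![1, 0]
  have h2 := h ![0, 1]
  refine ext2 ?_ ?_ ?_ ?_
  · simpa [Matrix.mulVec, dotProduct, Fin.sum_univ_two] using congrFun h1 0
  · simpa [Matrix.mulVec, dotProduct, Fin.sum_univ_two] using congrFun h2 0
  · simpa [Matrix.mulVec, dotProduct, Fin.sum_univ_two] using congrFun h1 1
  · simpa [Matrix.mulVec, dotProduct, Fin.sum_univ_two] using congrFun h2 1

theorem eq_translations_of_normal_abelian {W : Subgroup ↥(Cfsg.qd p)} (hn : W.Normal)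
    (hab : ∀ x ∈ W, ∀ y ∈ W, x * y = y * x) (hne : W ≠ ⊥) : W = translations p := by
  -- a nontrivial translation
  obtain ⟨v₀, hv₀, hv₀W⟩ : ∃ v : Fin 2 → ZMod p, v ≠ 0 ∧ aff 1 v ∈ W := by
    obtain ⟨w, hw, hw1⟩ : ∃ w ∈ W, w ≠ 1 := by
      by_contra h
      exact hne ((Subgroup.eq_bot_iff_forall _).2 fun w hw => by
        by_contra hw1; exact h ⟨w, hw, hw1⟩)
    obtain ⟨x, v, rfl⟩ := aff_surjective w
    by_cases hx : x = 1
    · subst hx
      exact ⟨v, fun hv => hw1 (by rw [hv]; exact aff_one), hw⟩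
    obtain ⟨u, hu⟩ : ∃ u : Fin 2 → ZMod p, Matrix.mulVec x.1 u ≠ u := by
      by_contra h
      exact hx (eq_one_of_fixes_all fun u => by by_contra hu; exact h ⟨u, hu⟩)
    refine ⟨Matrix.mulVec x.1 u - u, sub_ne_zero.2 hu, ?_⟩
    have h1 : aff x v * (aff 1 u * (aff x v)⁻¹ * (aff 1 u)⁻¹) ∈ W :=
      W.mul_mem hw (hn.conj_mem _ (W.inv_mem hw) _)
    rw [← mul_assoc, ← mul_assoc, conj_translation, aff_inv, aff_mul] at h1
    simpa [sub_eq_add_neg] using h1
  have hconj : ∀ (g : S2 (ZMod p)) v, aff 1 v ∈ W → aff 1 (Matrix.mulVec g.1 v) ∈ W :=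
    fun g v hv => by
      rw [← conj_translation g 0 v]
      exact hn.conj_mem _ hv _
  have hsub : ∀ v w, aff 1 v ∈ W → aff 1 w ∈ W → aff 1 (v - w) ∈ W := fun v w hv hw => by
    have := W.mul_mem hv (W.inv_mem hw)
    rw [aff_inv, aff_mul] at this
    simpa [sub_eq_add_neg] using this
  obtain ⟨b, hb, hbW⟩ : ∃ b : ZMod p, b ≠ 0 ∧ aff 1 ![b, 0] ∈ W := by
    by_cases h : v₀ 1 = 0
    · refine ⟨v₀ 0, fun h0 => hv₀ (funext fun i => by fin_cases i <;> simp [h0, h]), ?_⟩
      have : (![v₀ 0, 0] : Fin 2 → ZMod p) = v₀ := funext fun i => by fin_cases i <;> simp [h]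
      rwa [this]
    · refine ⟨v₀ 1, h, ?_⟩
      have hU := hsub _ _ (hconj (U 1) v₀ hv₀W) hv₀W
      have : (![v₀ 1, 0] : Fin 2 → ZMod p) = Matrix.mulVec (U (1 : ZMod p)).1 v₀ - v₀ :=
        funext fun i => by
          fin_cases i <;> simp [U, dotProduct, Fin.sum_univ_two]
      rwa [this]
  have hy : ∀ c : ZMod p, aff 1 ![0, c] ∈ W := fun c => by
    have h := hsub _ _ (hconj (Lo (c / b)) _ hbW) hbW
    have : (![0, c] : Fin 2 → ZMod p) = Matrix.mulVec (Lo (c / b)).1 ![b, 0] - ![b, 0] :=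
      funext fun i => by
        fin_cases i <;> simp [Lo, dotProduct, Fin.sum_univ_two, mul_div_cancel₀ c hb]
    rwa [this]
  have hx' : ∀ c : ZMod p, aff 1 ![c, 0] ∈ W := fun c => by
    have h := hsub _ _ (hconj (U (c / b)) _ (hy b)) (hy b)
    have : (![c, 0] : Fin 2 → ZMod p) = Matrix.mulVec (U (c / b)).1 ![0, b] - ![0, b] :=
      funext fun i => by
        fin_cases i <;> simp [U, dotProduct, Fin.sum_univ_two, mul_div_cancel₀ c hb]
    rwa [this]
  have hT : translations p ≤ W := by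
    rintro _ ⟨u, rfl⟩
    have := W.mul_mem (hx' (u 0)) (hy (u 1))
    rw [aff_mul] at this
    convert this using 2
    · simp
    · funext i; fin_cases i <;> simp
  refine le_antisymm (fun w hw => ?_) hT
  obtain ⟨x, v, rfl⟩ := aff_surjective w
  have : x = 1 := eq_one_of_fixes_all fun u => by
    have h := hab _ hw _ (hT ⟨u, rfl⟩)
    rw [← mul_inv_eq_iff_eq_mul, conj_translation] at h
    exact (aff_injective h).2
  subst this
  exact ⟨v, rfl⟩

theorem centralizer_translations :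
    Subgroup.centralizer (translations p : Set ↥(Cfsg.qd p)) ≤ translations p := by
  intro w hw
  obtain ⟨x, v, rfl⟩ := aff_surjective w
  have : x = 1 := eq_one_of_fixes_all fun u => by
    have h := (Subgroup.mem_centralizer_iff.1 hw _ ⟨u, rfl⟩).symm
    rw [← mul_inv_eq_iff_eq_mul, conj_translation] at h
    exact (aff_injective h).2
  subst this
  exact ⟨v, rfl⟩

theorem exists_fixed_point_free_two :
    ∃ j : S2 (ZMod 2), j ^ 3 = 1 ∧ (∀ g : S2 (ZMod 2), g * j * g⁻¹ = j ∨ g * j * g⁻¹ = j * j) ∧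
      ∀ u : Fin 2 → ZMod 2, Matrix.mulVec j.1 u = u → u = 0 :=
  ⟨U 1 * Lo 1, by decide +kernel, by decide +kernel, by decide +kernel⟩

/-- An element of prime order prime to `p` fixing no vector and spanning a normal subgroup. -/
theorem exists_fixed_point_free :
    ∃ r : ℕ, r.Prime ∧ r ≠ p ∧ ∃ j : S2 (ZMod p), j ^ r = 1 ∧
      (∀ g : S2 (ZMod p), g * j * g⁻¹ ∈ Subgroup.zpowers j) ∧
      ∀ u : Fin 2 → ZMod p, Matrix.mulVec j.1 u = u → u = 0 := by
  by_cases hp : p = 2
  · subst hp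
    obtain ⟨j, hj, key, hfix⟩ := exists_fixed_point_free_two
    refine ⟨3, Nat.prime_three, by norm_num, j, hj, fun g => ?_, hfix⟩
    rcases key g with h | h <;> rw [h]
    · exact Subgroup.mem_zpowers _
    · exact mul_mem (Subgroup.mem_zpowers _) (Subgroup.mem_zpowers _)
  · refine ⟨2, Nat.prime_two, Ne.symm hp, -1, neg_one_sq', fun g => ?_, fun u hu => ?_⟩
    · rw [neg_one_central g, mul_inv_cancel_right]
      exact Subgroup.mem_zpowers _
    · have h2 : (2 : ZMod p) ≠ 0 := fun h => by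
        have := (ZMod.natCast_eq_zero_iff 2 p).1 (by simpa using h)
        exact hp ((Nat.prime_dvd_prime_iff_eq Fact.out Nat.prime_two).1 this)
      funext i
      have hi := congrFun hu i
      rw [Matrix.SpecialLinearGroup.coe_neg, Matrix.SpecialLinearGroup.coe_one,
        Matrix.neg_mulVec, Matrix.one_mulVec, Pi.neg_apply, neg_eq_iff_add_eq_zero, ← two_mul] at hi
      exact (mul_eq_zero.1 hi).resolve_left h2

theorem splitTop_qd : SplitTop p ↥(Cfsg.qd p) := by
  intro W hn hab hne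
  obtain rfl := eq_translations_of_normal_abelian hn hab hne
  obtain ⟨r, hr, hrp, j, hj, hjn, hfix⟩ := exists_fixed_point_free (p := p)
  refine ⟨centralizer_translations, linearPart.range, ?_, ?_, r, hr, hrp,
    Subgroup.zpowers (linearPart j), Subgroup.zpowers_le.2 ⟨j, rfl⟩, ?_, ?_, ?_⟩
  · refine (Subgroup.eq_bot_iff_forall _).2 ?_
    rintro _ ⟨⟨x, rfl⟩, v, hv⟩
    obtain ⟨h1, h2⟩ := aff_injective (hv : aff 1 v = aff x 0)
    rw [← h1, map_one]
  · rw [eq_top_iff]
    intro w _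
    obtain ⟨x, v, rfl⟩ := aff_surjective w
    have : aff x v = aff 1 v * linearPart x := by
      show _ = aff 1 v * aff x 0
      rw [aff_mul]; simp
    rw [this]
    exact mul_mem (Subgroup.mem_sup_right ⟨v, rfl⟩) (Subgroup.mem_sup_left ⟨x, rfl⟩)
  · rintro _ ⟨g, rfl⟩
    refine Subgroup.mem_normalizer_iff.2 fun z => ?_
    have key : ∀ g : S2 (ZMod p), ∀ z ∈ Subgroup.zpowers (linearPart j),
        linearPart g * z * (linearPart g)⁻¹ ∈ Subgroup.zpowers (linearPart j) := by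
      intro g z hz
      rw [← MonoidHom.map_zpowers] at hz ⊢
      obtain ⟨k, hk, rfl⟩ := hz
      refine ⟨g * k * g⁻¹, ?_, by simp⟩
      obtain ⟨i, rfl⟩ := Subgroup.mem_zpowers_iff.1 hk
      rw [← conj_zpow]
      exact zpow_mem (hjn g) i
    refine ⟨key g z, fun hz => ?_⟩
    have h := key g⁻¹ _ hz
    simpa [mul_assoc] using h
  · rintro ⟨z, hz⟩
    obtain ⟨i, rfl⟩ := Subgroup.mem_zpowers_iff.1 hz
    refine ⟨1, Subtype.ext ?_⟩
    show (linearPart j ^ i) ^ r ^ 1 = 1
    rw [pow_one, ← zpow_natCast, ← zpow_mul, mul_comm, zpow_mul, zpow_natCast, ← map_pow, hj,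
      map_one, one_zpow]
  · rintro _ ⟨v, rfl⟩ hv
    have h := hv _ (Subgroup.mem_zpowers (linearPart j))
    rw [show linearPart j = aff j 0 from rfl, conj_translation] at h
    show aff 1 v = 1
    rw [hfix v (aff_injective h).2]
    exact aff_one

end CfsgLib.Fusion
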