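import Cfsg.Agent.Lib.Fusion.WeakClosureApps
import Cfsg.Agent.Lib.Fusion.NormalSubgroup

/-!
A functor with the quadratic element condition controls `p`th powers of central elements.
-/

set_option autoImplicit false

namespace CfsgLib.Fusion

open Cfsg Cfsg.FusionSystem
open scoped commutatorElement

universe u

/-- A `p`-element outside a subgroup has a power outside it whose `p`th power is inside. -/
theorem exists_last_power {G : Type*} [Group G] {p : ℕ} [Fact p.Prime] {P Q : Subgroup G}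
    (hP : IsPGroup p P) {g : G} (hgP : g ∈ P) (hg : g ∉ Q) :
    ∃ h ∈ Subgroup.zpowers g, h ∉ Q ∧ h ^ p ∈ Q := by
  obtain ⟨k, hk⟩ := hP ⟨g, hgP⟩
  have hk' : g ^ p ^ k = 1 := congrArg Subtype.val hk
  have hex : ∃ n, g ^ p ^ n ∈ Q := ⟨k, hk' ▸ Q.one_mem⟩
  classical
  have hpos : Nat.find hex ≠ 0 := fun h0 => hg (by simpa [h0] using Nat.find_spec hex)
  obtain ⟨m, hm⟩ := Nat.exists_eq_succ_of_ne_zero hpos
  refine ⟨g ^ p ^ m, Subgroup.pow_mem _ (Subgroup.mem_zpowers g) _,
    Nat.find_min hex (by omega), ?_⟩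
  rw [← pow_mul, ← pow_succ]
  have := Nat.find_spec hex
  rwa [hm] at this

/-- An element quadratic on an abelian subgroup `V`, whose `p`th power centralises `V`,
centralises the `p`th powers of `V`. -/
theorem commute_pow_of_quadratic {G : Type*} [Group G] {V : Subgroup G} [V.Normal]
    (hV : ∀ a ∈ V, ∀ b ∈ V, a * b = b * a) {p : ℕ} {h v : G}
    (hq : ∀ w ∈ V, ⁅⁅w, h⁆, h⁆ = 1) (hp : ∀ w ∈ V, h ^ p * w = w * h ^ p) (hv : v ∈ V) :
    h * v ^ p * h⁻¹ = v ^ p := by
  set w := v⁻¹ * (h * v * h⁻¹) with hw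
  have hwV : w ∈ V := V.mul_mem (V.inv_mem hv) ((inferInstance : V.Normal).conj_mem _ hv h)
  have hwh : Commute w h := by
    have := hq v⁻¹ (V.inv_mem hv)
    rw [commutatorElement_eq_one_iff_mul_comm, commutatorElement_def, inv_inv] at this
    show w * h = h * w
    rw [hw]
    simpa [mul_assoc] using this
  have hn : ∀ n : ℕ, h ^ n * v * (h ^ n)⁻¹ = v * w ^ n := by
    intro n
    induction n with
    | zero => simp
    | succ n ih =>
      calc h ^ (n + 1) * v * (h ^ (n + 1))⁻¹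
          = h * (h ^ n * v * (h ^ n)⁻¹) * h⁻¹ := by rw [pow_succ' h n]; group
        _ = (h * v * h⁻¹) * (h * w ^ n * h⁻¹) := by rw [ih]; group
        _ = v * w * w ^ n := by
            rw [(hwh.symm.pow_right n).eq, mul_inv_cancel_right, hw, mul_inv_cancel_left]
        _ = v * w ^ (n + 1) := by rw [pow_succ', mul_assoc]
  have hw1 : w ^ p = 1 := by
    have := hn p
    rw [hp v hv, mul_inv_cancel_right] at this
    exact mul_left_cancel (this.symm.trans (mul_one v).symm)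
  calc h * v ^ p * h⁻¹ = (h * v * h⁻¹) ^ p := conj_pow.symm
    _ = (v * w) ^ p := by rw [hw, mul_inv_cancel_left]
    _ = v ^ p := by
      rw [(show Commute v w from hV v hv w hwV).mul_pow, hw1, mul_one]

/-- The group theoretic core of the quadratic element condition. -/
theorem fixed_of_quadratic {p : ℕ} [Fact p.Prime] (W : ∀ (Q : Type u) [Group Q], Subgroup Q)
    (hW2 : ∀ (Q R : Type u) [Group Q] [Group R] [Finite Q], IsPGroup p Q → ∀ φ : Q ≃* R,
      (W Q).map φ.toMonoidHom = W R)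
    (hq : ∀ (G : Type u) [Group G] [Finite G] (P : Sylow p G),
      ¬ (((W ↥(P : Subgroup G)).map (P : Subgroup G).subtype : Subgroup G)).Normal →
      ∃ g : G, g ∈ (P : Subgroup G) ∧ g ∉ pCore p G ∧
        ⁅⁅Subgroup.center ↥(pCore p G) |>.map (pCore p G).subtype, Subgroup.zpowers g⁆,
          Subgroup.zpowers g⁆ = ⊥) :
    ∀ (n : ℕ) (G : Type u) [Group G] [Finite G], Nat.card G = n → ∀ (P : Sylow p G) (z : G),
      Subgroup.centralizer ((pCore p G : Subgroup G) : Set G) ≤ pCore p G →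
      z ∈ (P : Subgroup G) → (∀ t ∈ (P : Subgroup G), t * z = z * t) →
      (∀ h ∈ Subgroup.normalizer (functorOf p W (P : Subgroup G) : Set G),
        h * z ^ p * h⁻¹ = z ^ p) →
      ∀ g : G, g * z ^ p * g⁻¹ = z ^ p := by
  intro n
  induction n using Nat.strong_induction_on with
  | _ n ih =>
  intro G _ _ hn P z hcc hzP hzC hfix g
  have hWP : functorOf p W (P : Subgroup G) = (W ↥(P : Subgroup G)).map (P : Subgroup G).subtype :=
    functorOf_eq P.isPGroup'
  by_cases hnorm : (((W ↥(P : Subgroup G)).map (P : Subgroup G).subtype : Subgroup G)).Normal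
  · refine hfix g ?_
    rw [hWP, Subgroup.normalizer_eq_top]
    trivial
  obtain ⟨g₀, hg₀P, hg₀, hquad⟩ := hq G P hnorm
  set Q := pCore p G with hQ
  have hQP : Q ≤ P := Core.pCore_le_sylow P
  set V := Q ⊓ Subgroup.centralizer (Q : Set G) with hV
  have hVQ : ∀ v ∈ V, ∀ q ∈ Q, q * v = v * q := fun v hv q hq' =>
    Subgroup.mem_centralizer_iff.1 hv.2 q hq'
  have hVcomm : ∀ a ∈ V, ∀ b ∈ V, a * b = b * a := fun a ha b hb => hVQ b hb a ha.1
  have hVeq : (Subgroup.center ↥Q).map Q.subtype = V := by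
    ext v
    constructor
    · rintro ⟨c, hc, rfl⟩
      exact ⟨c.2, Subgroup.mem_centralizer_iff.2 fun q hq' =>
        congrArg Subtype.val (Subgroup.mem_center_iff.1 hc ⟨q, hq'⟩)⟩
    · intro hv
      exact ⟨⟨v, hv.1⟩, Subgroup.mem_center_iff.2 fun q => Subtype.ext (hVQ v hv q q.2), rfl⟩
  rw [hVeq] at hquad
  have hzQ : z ∈ Q := hcc (Subgroup.mem_centralizer_iff.2 fun q hq' => hzC q (hQP hq'))
  have hzV : z ∈ V := ⟨hzQ, Subgroup.mem_centralizer_iff.2 fun q hq' => hzC q (hQP hq')⟩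
  obtain ⟨h, hhg, hhQ, hhp⟩ := exists_last_power P.isPGroup' hg₀P hg₀
  have hVn : V.Normal := inferInstance
  have hqh : ∀ w ∈ V, ⁅⁅w, h⁆, h⁆ = 1 := fun w hw => Subgroup.mem_bot.1
    (hquad ▸ Subgroup.commutator_mem_commutator (Subgroup.commutator_mem_commutator hw hhg) hhg)
  set U := (fun v : G => v ^ p) '' (V : Set G) with hU
  set M := Subgroup.centralizer U with hM
  have hMn : M.Normal := by
    refine ⟨fun m hm a => Subgroup.mem_centralizer_iff.2 ?_⟩
    rintro _ ⟨v, hv, rfl⟩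
    have h1 := Subgroup.mem_centralizer_iff.1 hm _ ⟨a⁻¹ * v * a, by
      simpa using hVn.conj_mem v hv a⁻¹, rfl⟩
    have h2 : (a⁻¹ * v * a) ^ p = a⁻¹ * v ^ p * a := by
      simpa using (conj_pow : (a⁻¹ * v * a⁻¹⁻¹) ^ p = a⁻¹ * v ^ p * a⁻¹⁻¹)
    have h3 : (a⁻¹ * v ^ p * a) * m = m * (a⁻¹ * v ^ p * a) := h2 ▸ h1
    calc v ^ p * (a * m * a⁻¹) = a * ((a⁻¹ * v ^ p * a) * m) * a⁻¹ := by group
      _ = (a * m * a⁻¹) * v ^ p := by rw [h3]; group
  have hhM : h ∈ M := by
    refine Subgroup.mem_centralizer_iff.2 ?_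
    rintro _ ⟨v, hv, rfl⟩
    exact (mul_inv_eq_iff_eq_mul.1 (commute_pow_of_quadratic hVcomm hqh
      (fun w hw => hVQ w hw _ hhp) hv)).symm
  set T₁ := (P : Subgroup G) ⊓ M with hT₁
  obtain ⟨R, hR⟩ := isSylowIn_inf_normal P M
  set H := Subgroup.normalizer (T₁ : Set G) with hH
  have hhT₁ : h ∈ T₁ :=
    ⟨Subgroup.zpowers_le.2 hg₀P hhg, hhM⟩
  have hHne : H ≠ ⊤ := fun he => by
    have : T₁.Normal := Subgroup.normalizer_eq_top_iff.1 he
    exact hhQ (Core.le_pCore (P.isPGroup'.to_le inf_le_left) hhT₁)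
  have hPH : (P : Subgroup G) ≤ H := by
    rw [hH, Subgroup.le_normalizer_iff]
    exact fun s hs t ht => ⟨(P : Subgroup G).mul_mem ((P : Subgroup G).mul_mem hs ht.1)
      ((P : Subgroup G).inv_mem hs), hMn.conj_mem t ht.2 s⟩
  have htop : H ⊔ M = ⊤ := by
    have := Sylow.normalizer_sup_eq_top R
    rwa [hR, Subgroup.map_subgroupOf_eq_of_le inf_le_right] at this
  set PH : Sylow p ↥H := P.subtype hPH with hPHdef
  have hlt : Nat.card H < n := hn ▸ lt_of_le_of_ne (Subgroup.card_le_card_group H)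
    fun he => hHne (Subgroup.eq_top_of_card_eq H he)
  have hQH : Q.subgroupOf H ≤ pCore p ↥H :=
    Core.le_pCore ((Core.isPGroup_pCore p G).comap_subtype)
  have hzH : z ∈ H := hPH hzP
  have hH' := ih _ hlt ↥H rfl PH ⟨z, hzH⟩ (fun c hc => hQH (hcc (Subgroup.mem_centralizer_iff.2
    fun q hq' => congrArg Subtype.val
      (Subgroup.mem_centralizer_iff.1 hc ⟨q, hPH (hQP hq')⟩ (hQH hq')) : (c : G) ∈ _)))
    hzP (fun t ht => Subtype.ext (hzC t ht)) ?_
  · have hle : H ⊔ M ≤ Subgroup.centralizer {z ^ p} := by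
      refine sup_le (fun k hk => ?_) (fun m hm => ?_)
      · rw [Subgroup.mem_centralizer_singleton_iff]
        exact mul_inv_eq_iff_eq_mul.1 (congrArg Subtype.val (hH' ⟨k, hk⟩) :)
      · rw [Subgroup.mem_centralizer_singleton_iff]
        exact (Subgroup.mem_centralizer_iff.1 hm _ ⟨z, hzV, rfl⟩).symm
    have := hle (htop.ge (Subgroup.mem_top g))
    rw [Subgroup.mem_centralizer_singleton_iff] at this
    exact mul_inv_eq_iff_eq_mul.2 this
  · intro k hk
    refine Subtype.ext (hfix k ?_)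
    have hmap : (functorOf p W (PH : Subgroup ↥H)).map H.subtype =
        functorOf p W (P : Subgroup G) := by
      rw [functorOf_eq PH.isPGroup', hWP, Subgroup.map_map,
        ← hW2 ↥(P : Subgroup G) ↥(PH : Subgroup ↥H) P.isPGroup'
          (Subgroup.subgroupOfEquivOfLe hPH).symm, Subgroup.map_map]
      rfl
    rw [← hmap]
    exact Subgroup.le_normalizer_map _ ⟨k, hk, rfl⟩

end CfsgLib.Fusion
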