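import Cfsg.Agent.Lib.PGroups.PolyMap
import Cfsg.Agent.Lib.PGroups.Basic
import Cfsg.Agent.Lib.Core.Nilpotent
import Cfsg.Agent.Lib.Techniques.CriticalDegree

/-!
# A three-generated subgroup of index `p` acted on regularly is fixed by the normalizer

`N` is normal of index `p` in `T`, `E` has index `p` in `N`, and `Φ ≤ E` has index `p³` in `E` with `N`
acting on `E / Φ` through a regular unipotent element. If the elementary sections have order at most
`p³` and `Φ` is generated by `[E, Φ]` and `p`th powers, then `T` normalizes `E`.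
-/

set_option autoImplicit false

namespace CfsgLib.Fusion.RankThree

open Subgroup
open scoped commutatorElement

variable {p : ℕ} [hp : Fact p.Prime]

/-- A group of order `p ^ m` with `m ≤ p` has class less than `p`. -/
theorem lcs_bot_of_card {G : Type*} [Group G] [Finite G] {m : ℕ} (hG : Nat.card G = p ^ m)
    (hm : 1 < m) (hmp : m ≤ p) : (⊤ : Subgroup G).lowerCentralSeries (p - 1) = ⊥ := by
  haveI := (IsPGroup.of_card hG).isNilpotent
  exact Subgroup.lowerCentralSeries_eq_bot_iff_nilpotencyClass_le.2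
    ((Core.nilpotencyClass_le_of_card_eq_pow hG hm).trans (by omega))

variable {T : Type*} [Group T] [Finite T]

/-- `(x y)^p = x^p y^p` inside a small subgroup. -/
theorem mul_pow_in {X M : Subgroup T} (hMX : M ≤ X) (hMn : ∀ h ∈ X, ∀ m ∈ M, h * m * h⁻¹ ∈ M)
    {m : ℕ} (hX : Nat.card X = p ^ m) (hm : 1 < m) (hmp : m ≤ p) (hexp : ∀ z ∈ M, z ^ p = 1)
    {x y : T} (hx : x ∈ M) (hy : y ∈ X) : (x * y) ^ p = y ^ p := by
  haveI : (M.subgroupOf X).Normal := ⟨fun z hz h => hMn h h.2 z hz⟩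
  have h := PGroups.mul_pow_prime_of_class_lt hp.out (lcs_bot_of_card hX hm hmp) (M.subgroupOf X)
    (fun z hz => Subtype.ext (hexp z hz)) (x := ⟨x, hMX hx⟩) hx ⟨y, hy⟩
  have h' : (x * y) ^ p = x ^ p * y ^ p := congrArg Subtype.val h
  rw [h', hexp x hx, one_mul]

/-- A subgroup of prime index is maximal. -/
theorem isCoatom_of_prime_index {G : Type*} [Group G] [Finite G] {M : Subgroup G}
    (hM : M.index.Prime) : IsCoatom M := by
  refine ⟨fun h => hM.one_lt.ne (by rw [h, index_top]), fun b hb => ?_⟩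
  rcases (Nat.dvd_prime hM).1 (index_dvd_of_le hb.le) with h | h
  · exact index_eq_one.1 h
  · refine absurd (eq_of_le_of_card_ge hb.le ?_) hb.ne
    have e1 := b.card_mul_index
    rw [h, ← M.card_mul_index] at e1
    exact (Nat.eq_of_mul_eq_mul_right hM.pos e1).le

/-- Adjoining an element with `p`th power inside. -/
theorem card_sup_zpowers {X : Subgroup T} (hXn : X.Normal) {h : T} (hh : h ∉ X) (hhp : h ^ p ∈ X) :
    Nat.card (X ⊔ zpowers h : Subgroup T) = p * Nat.card X := by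
  have hord : orderOf (QuotientGroup.mk' X h) = p := orderOf_eq_prime
    (by rw [← map_pow, QuotientGroup.mk'_apply, QuotientGroup.eq_one_iff]; exact hhp)
    (fun e => hh ((QuotientGroup.eq_one_iff h).1 e))
  have hmap : (X ⊔ zpowers h).map (QuotientGroup.mk' X) = zpowers (QuotientGroup.mk' X h) := by
    rw [Subgroup.map_sup, MonoidHom.map_zpowers,
      (Subgroup.map_eq_bot_iff _).2 (QuotientGroup.ker_mk' X).ge, bot_sup_eq]
  have h1 := relIndex_mul_relIndex ⊥ X (X ⊔ zpowers h) bot_le le_sup_left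
  rw [relIndex_bot_left, relIndex_bot_left] at h1
  have h2 : X.relIndex (X ⊔ zpowers h) = p := by
    rw [← hord, ← Nat.card_zpowers, ← hmap, ← relIndex_ker (X ⊔ zpowers h) (QuotientGroup.mk' X),
      QuotientGroup.ker_mk']
  rw [← h1, h2, mul_comm]

/-- Two commuting generators give an abelian group. -/
theorem comm_of_generators {G : Type*} [Group G] {u v : G} (hgen : closure ({u, v} : Set G) = ⊤)
    (huv : u * v = v * u) (s t : G) : s * t = t * s := by
  have h : ∀ x ∈ ({u, v} : Set G), ∀ y ∈ ({u, v} : Set G), x * y = y * x := by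
    rintro x (rfl | rfl) y (rfl | rfl)
    · rfl
    · exact huv
    · exact huv.symm
    · rfl
  have := (Subgroup.isMulCommutative_closure h).is_comm.comm
    (⟨s, by rw [hgen]; trivial⟩ : closure ({u, v} : Set G)) ⟨t, by rw [hgen]; trivial⟩
  exact congrArg Subtype.val this

/-- The quotient `Q = N / Φ`: an abelian subgroup of index `p` with a regular action. -/
theorem regular_chain {Q : Type*} [Group Q] [Finite Q] (hQc : Nat.card Q = p ^ 4) {A : Subgroup Q}
    [A.Normal] (hAc : Nat.card A = p ^ 3) (hA : ∀ u ∈ A, ∀ v ∈ A, u * v = v * u)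
    (hreg : ∃ u ∈ A, ∃ n : Q, ⁅⁅u, n⁆, n⁆ ≠ 1) :
    Nat.card (⁅A, (⊤ : Subgroup Q)⁆ : Subgroup Q) = p ^ 2 ∧
    ⁅⁅⁅A, (⊤ : Subgroup Q)⁆, (⊤ : Subgroup Q)⁆, (⊤ : Subgroup Q)⁆ = ⊥ ∧
    (∀ s t : Q, ⁅s, t⁆ ∈ ⁅A, (⊤ : Subgroup Q)⁆) ∧
    ∀ e ∈ A, e ∉ ⁅A, (⊤ : Subgroup Q)⁆ → ∀ x ∉ A, ⁅⁅e, x⁆, x⁆ ≠ 1 := by
  have hp' := hp.out
  have hQp : IsPGroup p Q := IsPGroup.of_card hQc
  have hTp : IsPGroup p (⊤ : Subgroup Q) := hQp.to_subgroup _
  have drop : ∀ H : Subgroup Q, H.Normal → H ≠ ⊥ → ⁅H, (⊤ : Subgroup Q)⁆ < H := fun H hH h =>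
    Techniques.commutator_lt_of_isPGroup hTp le_top h hH
  set H1 := ⁅A, (⊤ : Subgroup Q)⁆ with hH1
  set H2 := ⁅H1, (⊤ : Subgroup Q)⁆ with hH2
  have h2ne : H2 ≠ ⊥ := by
    obtain ⟨u, hu, n, hn⟩ := hreg
    intro h
    exact hn (Subgroup.mem_bot.1 (h ▸ commutator_mem_commutator (commutator_mem_commutator hu
      (Subgroup.mem_top n)) (Subgroup.mem_top n)))
  have h1ne : H1 ≠ ⊥ := fun h => h2ne (by rw [hH2, h, commutator_bot_left])
  have hAne : A ≠ ⊥ := fun h => h1ne (by rw [hH1, h, commutator_bot_left])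
  have l1 := drop A inferInstance hAne
  have l2 := drop H1 inferInstance h1ne
  have l3 := drop H2 inferInstance h2ne
  have hcard : ∀ H : Subgroup Q, ∃ i, Nat.card H = p ^ i := fun H =>
    IsPGroup.iff_card.1 (hQp.to_subgroup H)
  have hlt : ∀ {H K : Subgroup Q} {i j : ℕ}, H < K → Nat.card H = p ^ i → Nat.card K = p ^ j →
      i < j := by
    intro H K i j hHK hi hj
    have : Nat.card H < Nat.card K := lt_of_le_of_ne (card_le_of_le hHK.le) fun e =>
      hHK.ne (eq_of_le_of_card_ge hHK.le e.ge)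
    rw [hi, hj] at this
    exact (Nat.pow_lt_pow_iff_right hp'.one_lt).1 this
  obtain ⟨i, hi⟩ := hcard H1
  obtain ⟨j, hj⟩ := hcard H2
  obtain ⟨k, hk⟩ := hcard ⁅H2, (⊤ : Subgroup Q)⁆
  have a1 := hlt l1 hi hAc
  have a2 := hlt l2 hj hi
  have a3 := hlt l3 hk hj
  have hi2 : i = 2 := by omega
  have hbot : ⁅H2, (⊤ : Subgroup Q)⁆ = ⊥ := by
    refine eq_bot_of_card_eq _ ?_
    rw [hk, show k = 0 by omega, pow_zero]
  have hQab : ∀ s t : Q, ⁅s, t⁆ ∈ H1 := by
    intro s t
    have hc : Nat.card (Q ⧸ H1) = p ^ 2 := by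
      have h := H1.card_eq_card_quotient_mul_card_subgroup
      rw [hi, hi2, hQc, show 4 = 2 + 2 by rfl, pow_add] at h
      exact (Nat.eq_of_mul_eq_mul_right (pow_pos hp'.pos 2) h).symm
    haveI := IsPGroup.isMulCommutative_of_card_eq_prime_sq hc
    rw [← QuotientGroup.eq_one_iff]
    show QuotientGroup.mk' H1 ⁅s, t⁆ = 1
    rw [map_commutatorElement, commutatorElement_eq_one_iff_mul_comm]
    exact mul_comm' _ _
  refine ⟨by rw [hi, hi2], hbot, hQab, fun e he he1 x hx h => h2ne ?_⟩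
  have hgen : closure ({e, x} : Set Q) = ⊤ := by
    refine PGroups.closure_eq_top_of_sup_frattini (eq_top_iff.2 ?_)
    have hle : zpowers e ⊔ H1 ⊔ zpowers x ≤ closure ({e, x} : Set Q) ⊔ frattini Q := by
      refine sup_le (sup_le ?_ ?_) ?_
      · exact le_sup_of_le_left (zpowers_le.2 (subset_closure (Or.inl rfl)))
      · refine le_sup_of_le_right (le_trans ?_ (PGroups.commutator_le_frattini' hQp))
        exact commutator_mono le_top le_top
      · exact le_sup_of_le_left (zpowers_le.2 (subset_closure (Or.inr rfl)))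
    refine le_trans ?_ hle
    have hAe : A = zpowers e ⊔ H1 := by
      have hle' : zpowers e ⊔ H1 ≤ A := sup_le (zpowers_le.2 he) (commutator_le_left _ _)
      obtain ⟨l, hl⟩ := hcard (zpowers e ⊔ H1)
      have b1 : i < l := hlt (lt_of_le_of_ne le_sup_right fun h' =>
        he1 (by rw [h']; exact mem_sup_left (mem_zpowers e))) hi hl
      refine (eq_of_le_of_card_ge hle' ?_).symm
      rw [hl, hAc]
      exact Nat.pow_le_pow_right hp'.pos (by omega)
    rw [← hAe]
    obtain ⟨l, hl⟩ := hcard (A ⊔ zpowers x)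
    have b1 : 3 < l := hlt (lt_of_le_of_ne le_sup_left fun h' =>
      hx (by rw [h']; exact mem_sup_right (mem_zpowers x))) hAc hl
    refine (Subgroup.eq_top_of_le_card _ ?_).ge
    rw [hQc, hl]
    exact Nat.pow_le_pow_right hp'.pos b1
  -- `[e, x]` is central
  have hyA : ⁅e, x⁆ ∈ A := commutator_le_left _ _ (commutator_mem_commutator he (mem_top x))
  have hyZ : ⁅e, x⁆ ∈ center Q := by
    have hle : closure ({e, x} : Set Q) ≤ centralizer ({⁅e, x⁆} : Set Q) := by
      rw [closure_le]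
      rintro z (rfl | rfl)
      · exact mem_centralizer_singleton_iff.2 (hA _ he _ hyA)
      · exact mem_centralizer_singleton_iff.2 (commutatorElement_eq_one_iff_mul_comm.1 h).symm
    rw [hgen] at hle
    exact mem_center_iff.2 fun g => mem_centralizer_singleton_iff.1 (hle (mem_top g))
  haveI : (zpowers ⁅e, x⁆).Normal := ⟨fun z hz g => by
    have hzc : z ∈ center Q := zpowers_le.2 hyZ hz
    rw [mem_center_iff.1 hzc g, mul_inv_cancel_right]
    exact hz⟩
  have hcomm : ∀ s t : Q, ⁅s, t⁆ ∈ zpowers ⁅e, x⁆ := fun s t => by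
    rw [← QuotientGroup.eq_one_iff]
    show QuotientGroup.mk' _ ⁅s, t⁆ = 1
    rw [map_commutatorElement, commutatorElement_eq_one_iff_mul_comm]
    refine comm_of_generators (u := QuotientGroup.mk' _ e) (v := QuotientGroup.mk' _ x) ?_ ?_ _ _
    · have h1 := MonoidHom.map_closure (QuotientGroup.mk' (zpowers ⁅e, x⁆)) ({e, x} : Set Q)
      rw [hgen, Subgroup.map_top_of_surjective _ (QuotientGroup.mk'_surjective _),
        Set.image_pair] at h1
      exact h1.symm
    · rw [← commutatorElement_eq_one_iff_mul_comm, ← map_commutatorElement]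
      exact (QuotientGroup.eq_one_iff _).2 (mem_zpowers _)
  refine le_bot_iff.1 (commutator_le.2 fun u hu g _ => ?_)
  have huZ : u ∈ center Q := by
    refine zpowers_le.2 hyZ ?_
    exact (commutator_le.2 fun s _ t _ => hcomm s t) hu
  rw [Subgroup.mem_bot, commutatorElement_eq_one_iff_mul_comm]
  exact (mem_center_iff.1 huZ g).symm

/-- The data of the regular case. -/
structure Regular (p : ℕ) (N E Φ : Subgroup T) : Prop where
  hN : N.Normal
  hEN : E ≤ N
  hΦE : Φ ≤ E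
  hNi : Nat.card N = p * Nat.card E
  hEi : Nat.card E = p ^ 3 * Nat.card Φ
  hΦN : ∀ n ∈ N, ∀ x ∈ Φ, n * x * n⁻¹ ∈ Φ
  hΦc : ∀ a ∈ E, ∀ b ∈ E, ⁅a, b⁆ ∈ Φ
  hΦp : ∀ a ∈ E, a ^ p ∈ Φ
  reg : ∃ e ∈ E, ∃ n ∈ N, ⁅⁅e, n⁆, n⁆ ∉ Φ
  rank : ∀ A B : Subgroup T, B ≤ A → (∀ a ∈ A, ∀ b ∈ B, a * b * a⁻¹ ∈ B) →
    (∀ a ∈ A, ∀ b ∈ A, ⁅a, b⁆ ∈ B) → (∀ a ∈ A, a ^ p ∈ B) → Nat.card A ≤ p ^ 3 * Nat.card B
  hY : ∀ Y : Subgroup T, Y ≤ Φ → (∀ e ∈ E, ∀ y ∈ Φ, ⁅e, y⁆ ∈ Y) → (∀ e ∈ E, e ^ p ∈ Y) → Φ ≤ Y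

set_option maxHeartbeats 1600000 in
/-- The regular case is impossible when `Φ` has trivial core. -/
theorem regular_false (hT : IsPGroup p T) (hp5 : 5 ≤ p) {N E Φ : Subgroup T} (H : Regular p N E Φ)
    (hTN : N.index = p) {g : T} (hgE : ∃ e ∈ E, g * e * g⁻¹ ∉ E)
    (hcore : ∀ x : T, (∀ h : T, h * x * h⁻¹ ∈ Φ) → x = 1) : False := by
  have hp' := hp.out
  have hNn := H.hN
  have hEN := H.hEN
  have hΦE := H.hΦE
  have hΦ' : Φ ≤ N := hΦE.trans hEN
  have hNp : IsPGroup p N := hT.to_subgroup N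
  set Φ' := Φ.subgroupOf N with hΦ'def
  haveI hΦ'n : Φ'.Normal := ⟨fun x hx n => H.hΦN n n.2 x hx⟩
  set E' := E.subgroupOf N with hE'def
  have hE'i : E'.index = p := by
    have h := E'.card_mul_index
    rw [hE'def, Nat.card_congr (subgroupOfEquivOfLe hEN).toEquiv, H.hNi, mul_comm p] at h
    exact Nat.eq_of_mul_eq_mul_left Nat.card_pos h
  haveI hE'n : E'.Normal := normal_of_index_eq_minFac_card (by
    obtain ⟨n, hn⟩ := IsPGroup.iff_card.1 hNp
    rcases Nat.eq_zero_or_pos n with rfl | h0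
    · have := E'.card_mul_index
      rw [hE'i, hn, pow_zero] at this
      exact absurd (Nat.eq_one_of_mul_eq_one_left this) hp'.one_lt.ne'
    · rw [hE'i, hn, Nat.Prime.pow_minFac hp' h0.ne'])
  have hNE : ∀ n ∈ N, ∀ e ∈ E, n * e * n⁻¹ ∈ E := fun n hn e he =>
    hE'n.conj_mem ⟨e, hEN he⟩ he ⟨n, hn⟩
  have hgN : g ∉ N := fun h => by
    obtain ⟨e, he, h'⟩ := hgE
    exact h' (hNE g h e he)
  -- the quotient `N / Φ`
  let π := QuotientGroup.mk' Φ'
  have hπ : ∀ n : N, π n = 1 ↔ (n : T) ∈ Φ := fun n => QuotientGroup.eq_one_iff n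
  set A := E'.map π with hAdef
  haveI : A.Normal := Subgroup.Normal.map hE'n π (QuotientGroup.mk'_surjective Φ')
  have hΦ'c : Nat.card Φ' = Nat.card Φ := Nat.card_congr (subgroupOfEquivOfLe hΦ').toEquiv
  have hQc : Nat.card (N ⧸ Φ') = p ^ 4 := by
    have h := Φ'.card_eq_card_quotient_mul_card_subgroup
    rw [hΦ'c, H.hNi, H.hEi, ← mul_assoc, ← pow_succ'] at h
    exact (Nat.eq_of_mul_eq_mul_right Nat.card_pos h).symm
  have hAc : Nat.card A = p ^ 3 := by
    have h1 : A.index = p := by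
      rw [hAdef, Subgroup.index_map, QuotientGroup.ker_mk',
        sup_of_le_left (fun x hx => hΦE hx : Φ' ≤ E'),
        MonoidHom.range_eq_top.2 (QuotientGroup.mk'_surjective _), index_top, mul_one, hE'i]
    have h := A.card_mul_index
    rw [h1, hQc, pow_succ p 3] at h
    exact Nat.eq_of_mul_eq_mul_right hp'.pos h
  have hAcomm : ∀ u ∈ A, ∀ v ∈ A, u * v = v * u := by
    rintro _ ⟨u, hu, rfl⟩ _ ⟨v, hv, rfl⟩
    rw [← commutatorElement_eq_one_iff_mul_comm, ← map_commutatorElement, hπ]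
    exact H.hΦc _ hu _ hv
  obtain ⟨hH1c, hH3, hQab, hregQ⟩ := regular_chain hQc hAc hAcomm (by
    obtain ⟨e, he, n, hn, h⟩ := H.reg
    refine ⟨π ⟨e, hEN he⟩, ⟨_, he, rfl⟩, π ⟨n, hn⟩, fun h' => h ?_⟩
    rw [← map_commutatorElement, ← map_commutatorElement, hπ] at h'
    exact h')
  set H1 := ⁅A, (⊤ : Subgroup (N ⧸ Φ'))⁆ with hH1
  -- `D = Φ(N)`
  set D' := frattini N with hD'def
  set D := D'.map N.subtype with hDdef
  have hmemD : ∀ n : N, (n : T) ∈ D ↔ n ∈ D' := fun n => by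
    refine ⟨fun ⟨m, hm, e⟩ => ?_, fun h => ⟨n, h, rfl⟩⟩
    rwa [← Subtype.ext (e : (m : T) = n)]
  have hDN : D ≤ N := fun x ⟨m, _, e⟩ => e ▸ m.2
  have hDT : ∀ h : T, ∀ x ∈ D, h * x * h⁻¹ ∈ D := by
    intro h x hx
    obtain ⟨m, hm, rfl⟩ := hx
    exact ⟨MulAut.conjNormal h m, (Subgroup.characteristic_iff_map_eq.1
      (inferInstance : D'.Characteristic) (MulAut.conjNormal h)).le ⟨m, hm, rfl⟩, rfl⟩
  have hD'E : D' ≤ E' := frattini_le_coatom (isCoatom_of_prime_index (hE'i.symm ▸ hp'))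
  have hDE : D ≤ E := by
    rintro x ⟨m, hm, rfl⟩
    exact hD'E hm
  have hΦD : Φ ≤ D := by
    refine le_trans (H.hY (Φ ⊓ D) inf_le_left (fun e he y hy => ?_) (fun e he => ?_)) inf_le_right
    · refine ⟨H.hΦc e he y (hΦE hy), (hmemD ⁅(⟨e, hEN he⟩ : N), ⟨y, hΦ' hy⟩⁆).2 ?_⟩
      exact PGroups.commutator_le_frattini' hNp (commutator_mem_commutator (mem_top _) (mem_top _))
    · exact ⟨H.hΦp e he, (hmemD (⟨e, hEN he⟩ ^ p)).2 (PGroups.pow_mem_frattini hNp _)⟩
  have hND : ∀ u ∈ N, ∀ v ∈ N, ⁅u, v⁆ ∈ D := fun u hu v hv =>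
    (hmemD ⁅(⟨u, hu⟩ : N), ⟨v, hv⟩⁆).2
      (PGroups.commutator_le_frattini' hNp (commutator_mem_commutator (mem_top _) (mem_top _)))
  -- the image of `D` is `H1`
  have hD'H1 : D'.map π = H1 := by
    have hle : H1 ≤ D'.map π := by
      refine le_trans (commutator_mono le_top le_rfl) ?_
      rw [← Subgroup.map_top_of_surjective π (QuotientGroup.mk'_surjective _), ← map_commutator]
      exact Subgroup.map_mono (PGroups.commutator_le_frattini' hNp)
    obtain ⟨l, hl⟩ := IsPGroup.iff_card.1 ((IsPGroup.of_card hQc).to_subgroup (D'.map π))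
    refine (eq_of_le_of_card_ge hle ?_).symm
    rw [hl, hH1c]
    refine Nat.pow_le_pow_right hp'.pos ?_
    by_contra hl2
    -- a subgroup of index at most `p`
    have hidx : (D'.map π).index ∣ p := by
      have h := (D'.map π).card_mul_index
      rw [hl, hQc] at h
      have h4 : p ^ 4 = p ^ 3 * p := pow_succ p 3
      have hd : p ^ 3 * (D'.map π).index ∣ p ^ 3 * p := by
        rw [← h4, ← h]
        exact Nat.mul_dvd_mul_right (pow_dvd_pow p (by omega)) _
      exact Nat.dvd_of_mul_dvd_mul_left (pow_pos hp'.pos 3) hd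
    have hidx' : D'.index ∣ p := by
      rwa [Subgroup.index_map, QuotientGroup.ker_mk',
        sup_of_le_left (fun x hx => (hmemD x).1 (hΦD hx) : Φ' ≤ D'),
        MonoidHom.range_eq_top.2 (QuotientGroup.mk'_surjective _), index_top, mul_one] at hidx
    obtain ⟨e, he, n, hn, hne⟩ := H.reg
    have hcyc : ∃ u : N, closure ({u} : Set N) = ⊤ := by
      rcases (Nat.dvd_prime hp').1 hidx' with h | h
      · refine ⟨1, PGroups.closure_eq_top_of_sup_frattini ?_⟩
        rw [← hD'def, index_eq_one.1 h, sup_top_eq]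
      · obtain ⟨u, hu⟩ : ∃ u, u ∉ D' := by
          by_contra hall
          push Not at hall
          rw [(eq_top_iff' D').2 hall, index_top] at h
          exact hp'.one_lt.ne h
        refine ⟨u, PGroups.closure_eq_top_of_sup_frattini ?_⟩
        have hlt : D' < closure ({u} : Set N) ⊔ D' :=
          right_lt_sup.2 fun h' => hu (h' (subset_closure rfl))
        have hd := index_dvd_of_le hlt.le
        rw [h] at hd
        rcases (Nat.dvd_prime hp').1 hd with h1 | h1
        · exact index_eq_one.1 h1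
        · refine absurd (eq_of_le_of_card_ge hlt.le ?_) hlt.ne
          have e1 := (closure ({u} : Set N) ⊔ D').card_mul_index
          rw [h1, ← D'.card_mul_index, h] at e1
          exact (Nat.eq_of_mul_eq_mul_right hp'.pos e1).le
    obtain ⟨u, hu⟩ := hcyc
    refine hne ?_
    have hcomm : (⟨e, hEN he⟩ : N) * ⟨n, hn⟩ = ⟨n, hn⟩ * ⟨e, hEN he⟩ :=
      comm_of_generators (u := u) (v := u) (by rw [Set.pair_eq_singleton]; exact hu) rfl _ _
    have h1 : ⁅e, n⁆ = 1 :=
      commutatorElement_eq_one_iff_mul_comm.2 (congrArg Subtype.val hcomm)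
    rw [h1, commutatorElement_one_left]
    exact one_mem _
  -- a generator of `E` above `D`
  have hE'D : ∃ e ∈ E, e ∉ D := by
    by_contra h
    push Not at h
    have hle : E' ≤ D' := fun x hx => (hmemD x).1 (h _ hx)
    have h2 := card_le_of_le (Subgroup.map_mono (f := π) hle)
    rw [hD'H1, hH1c, ← hAdef, hAc] at h2
    have := (Nat.pow_le_pow_iff_right hp'.one_lt).1 h2
    omega
  have hconjN : ∀ h : T, ∀ n ∈ N, h * n * h⁻¹ ∈ N := fun h n hn => hNn.conj_mem n hn h
  -- facts for `e ∈ E ∖ D` and `x ∈ N ∖ E`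
  have hchain : ∀ e ∈ E, e ∉ D → ∀ x ∈ N, x ∉ E → ⁅⁅e, x⁆, x⁆ ∉ Φ := by
    intro e he heD x hx hxE h
    refine hregQ (π ⟨e, hEN he⟩) ⟨_, he, rfl⟩ (fun h' => heD ?_) (π ⟨x, hx⟩) (fun h' => hxE ?_) ?_
    · rw [← hD'H1] at h'
      obtain ⟨d, hd, hde⟩ := h'
      have h2 : ((d⁻¹ * ⟨e, hEN he⟩ : N) : T) ∈ Φ := by
        rw [← hπ, map_mul, map_inv, hde, inv_mul_cancel]
      have h3 := D.mul_mem ((hmemD d).2 hd) (hΦD h2)
      simpa using h3
    · obtain ⟨d, hd, hde⟩ := h'
      have h2 : ((d⁻¹ * ⟨x, hx⟩ : N) : T) ∈ Φ := by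
        rw [← hπ, map_mul, map_inv, hde, inv_mul_cancel]
      have h3 := E.mul_mem (hd : (d : T) ∈ E) (hΦE h2)
      simpa using h3
    · rw [← map_commutatorElement, ← map_commutatorElement, hπ]
      exact h
  -- `D` is elementary abelian of order at most `p ^ 3`
  have hDab : ∀ u ∈ D, ∀ v ∈ D, ⁅u, v⁆ = 1 := fun u hu v hv => hcore _ fun h => by
    rw [show h * ⁅u, v⁆ * h⁻¹ = ⁅h * u * h⁻¹, h * v * h⁻¹⁆ from
      map_commutatorElement (MulAut.conj h).toMonoidHom u v]
    exact H.hΦc _ (hDE (hDT h u hu)) _ (hDE (hDT h v hv))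
  have hDcomm : ∀ u ∈ D, ∀ v ∈ D, u * v = v * u := fun u hu v hv =>
    commutatorElement_eq_one_iff_mul_comm.1 (hDab u hu v hv)
  have hDexp : ∀ u ∈ D, u ^ p = 1 := fun u hu => hcore _ fun h => by
    rw [← conj_pow]
    exact H.hΦp _ (hDE (hDT h u hu))
  have hDcard : Nat.card D ≤ p ^ 3 := by
    refine (H.rank D ⊥ bot_le (fun a _ b hb => ?_) (fun a ha b hb => ?_) (fun a ha => ?_)).trans
      (by rw [Subgroup.card_bot, mul_one])
    · rw [Subgroup.mem_bot] at hb
      simp [hb]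
    · rw [Subgroup.mem_bot]; exact hDab a ha b hb
    · rw [Subgroup.mem_bot]; exact hDexp a ha
  -- triple commutators are central in `N`
  have hZ3 : ∀ u ∈ N, ∀ v ∈ N, ∀ w ∈ N, ∀ n ∈ N, n * ⁅⁅u, v⁆, w⁆ = ⁅⁅u, v⁆, w⁆ * n := by
    intro u hu v hv w hw n hn
    refine (commutatorElement_eq_one_iff_mul_comm.1 (hcore _ fun h => ?_)).symm
    have hh : ∀ s t : T, h * ⁅s, t⁆ * h⁻¹ = ⁅h * s * h⁻¹, h * t * h⁻¹⁆ :=
      map_commutatorElement (MulAut.conj h).toMonoidHom
    rw [hh, hh, hh]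
    show ((⁅⁅⁅(⟨_, hconjN h u hu⟩ : N), (⟨_, hconjN h v hv⟩ : N)⁆, (⟨_, hconjN h w hw⟩ : N)⁆,
      (⟨_, hconjN h n hn⟩ : N)⁆ : N) : T) ∈ Φ
    rw [← hπ, map_commutatorElement, map_commutatorElement, map_commutatorElement, ← Subgroup.mem_bot,
      ← hH3]
    exact commutator_mem_commutator (commutator_mem_commutator (hQab _ _) (mem_top _)) (mem_top _)
  -- the elements
  obtain ⟨e, heE, heD⟩ := hE'D
  have heN := hEN heE
  have hgeE : g * e * g⁻¹ ∉ E := by
    intro hge
    obtain ⟨u, hu, hu'⟩ := hgE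
    refine hu' ?_
    have hgen : E = zpowers e ⊔ D := by
      have hle : zpowers e ⊔ D ≤ E := sup_le (zpowers_le.2 heE) hDE
      have hlt : D < zpowers e ⊔ D := lt_of_le_of_ne le_sup_right fun h =>
        heD (h ▸ mem_sup_left (mem_zpowers e))
      obtain ⟨i, hi⟩ := IsPGroup.iff_card.1 (hT.to_subgroup (zpowers e ⊔ D))
      obtain ⟨j, hj⟩ := IsPGroup.iff_card.1 (hT.to_subgroup D)
      have h1 : p ^ j < p ^ i := by
        rw [← hi, ← hj]
        exact lt_of_le_of_ne (card_le_of_le hlt.le) fun h => hlt.ne (eq_of_le_of_card_ge hlt.le h.ge)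
      refine (eq_of_le_of_card_ge hle ?_).symm
      have h2 : Nat.card D = p ^ 2 * Nat.card Φ := by
        have h3 := Subgroup.relIndex_mul_relIndex ⊥ Φ' D' bot_le
          (fun x hx => (hmemD x).1 (hΦD hx))
        rw [relIndex_bot_left, relIndex_bot_left, hΦ'c] at h3
        have h4 : Φ'.relIndex D' = Nat.card (D'.map π) := by
          rw [← relIndex_ker D' π, QuotientGroup.ker_mk']
        rw [h4, hD'H1, hH1c] at h3
        rw [hDdef, card_map_of_injective N.subtype_injective, ← h3, mul_comm]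
      calc Nat.card E = p * Nat.card D := by rw [H.hEi, h2, ← mul_assoc, ← pow_succ']
        _ ≤ Nat.card (zpowers e ⊔ D : Subgroup T) := by
          rw [hi, hj, ← pow_succ']
          exact Nat.pow_le_pow_right hp'.pos
            (Nat.succ_le_of_lt ((Nat.pow_lt_pow_iff_right hp'.one_lt).1 h1))
    have : E.map (MulAut.conj g).toMonoidHom ≤ E := by
      rw [hgen, Subgroup.map_sup, MonoidHom.map_zpowers, ← hgen]
      refine sup_le (zpowers_le.2 hge) ?_
      rintro _ ⟨d, hd, rfl⟩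
      exact hDE (hDT g d hd)
    exact this ⟨u, hu, rfl⟩
  set x := e⁻¹ * (g * e * g⁻¹) with hxdef
  have hxN : x ∈ N := N.mul_mem (inv_mem heN) (hconjN g e heN)
  have hxE : x ∉ E := fun h => hgeE (by
    have := E.mul_mem heE h
    rwa [hxdef, mul_inv_cancel_left] at this)
  have hge : g * e * g⁻¹ = e * x := by rw [hxdef, mul_inv_cancel_left]
  set c := ⁅e, x⁆ with hcdef
  have hcD : c ∈ D := hND e heN x hxN
  have hcN := hDN hcD
  set a := ⁅c, x⁆ with hadef
  set b := ⁅c, e⁆ with hbdef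
  have haΦ : a ∉ Φ := hchain e heE heD x hxN hxE
  have hbΦ : b ∈ Φ := H.hΦc c (hDE hcD) e heE
  have haZ : ∀ n ∈ N, n * a = a * n := hZ3 e heN x hxN x hxN
  have hbZ : ∀ n ∈ N, n * b = b * n := hZ3 e heN x hxN e heN
  have haD : a ∈ D := hND c hcN x hxN
  have hbD : b ∈ D := hΦD hbΦ
  -- generators of `N`
  have hgenN : closure ({(⟨e, heN⟩ : N), ⟨x, hxN⟩} : Set N) = ⊤ := by
    refine PGroups.closure_eq_top_of_sup_frattini ?_
    set U := closure ({(⟨e, heN⟩ : N), ⟨x, hxN⟩} : Set N) ⊔ frattini N with hU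
    have hle : D' ≤ U := le_sup_right
    have he' : (⟨e, heN⟩ : N) ∈ U := mem_sup_left (subset_closure (Or.inl rfl))
    have hx' : (⟨x, hxN⟩ : N) ∈ U := mem_sup_left (subset_closure (Or.inr rfl))
    have hEU : E' ≤ U := by
      have hE'eq : E' = D' ⊔ zpowers (⟨e, heN⟩ : N) := by
        have hlt : D' < D' ⊔ zpowers (⟨e, heN⟩ : N) := left_lt_sup.2 fun h =>
          heD ((hmemD ⟨e, heN⟩).2 (h (mem_zpowers _)))
        have hi1 : D'.index = p * p := by
          have h := Subgroup.index_map D' π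
          rw [hD'H1, QuotientGroup.ker_mk', sup_of_le_left (fun x hx => (hmemD x).1 (hΦD hx) : Φ' ≤ D'),
            MonoidHom.range_eq_top.2 (QuotientGroup.mk'_surjective _), index_top, mul_one] at h
          have h2 := H1.card_mul_index
          rw [hH1c, hQc, show 4 = 2 + 2 from rfl, pow_add] at h2
          rw [← h, Nat.eq_of_mul_eq_mul_left (pow_pos hp'.pos 2) h2, pow_two]
        have hd := index_dvd_of_le hlt.le
        rw [hi1] at hd
        have hle' : D' ⊔ zpowers (⟨e, heN⟩ : N) ≤ E' := sup_le hD'E (zpowers_le.2 heE)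
        have hd2 := index_dvd_of_le hle'
        rw [hE'i] at hd2
        refine (eq_of_le_of_card_ge hle' ?_).symm
        obtain ⟨i, hi, hi'⟩ := (Nat.dvd_prime_pow hp').1 ((pow_two p).symm ▸ hd)
        have hne : i ≠ 2 := fun h2 => by
          have e1 := (D' ⊔ zpowers (⟨e, heN⟩ : N)).card_mul_index
          rw [hi', h2, ← D'.card_mul_index, hi1, pow_two] at e1
          exact hlt.ne (eq_of_le_of_card_ge hlt.le
            (Nat.eq_of_mul_eq_mul_right (Nat.mul_pos hp'.pos hp'.pos) e1).le)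
        have e1 := (D' ⊔ zpowers (⟨e, heN⟩ : N)).card_mul_index
        rw [← E'.card_mul_index, hE'i] at e1
        have hle2 : (D' ⊔ zpowers (⟨e, heN⟩ : N)).index ≤ p := by
          rw [hi']
          exact (Nat.pow_le_pow_right hp'.pos (show i ≤ 1 by omega)).trans (pow_one p).le
        by_contra hc
        push Not at hc
        have := Nat.mul_lt_mul_of_lt_of_le hc hle2 hp'.pos
        omega
      rw [hE'eq]
      exact sup_le hle (zpowers_le.2 he')
    refine eq_top_of_card_eq _ ?_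
    have hlt : E' < U := lt_of_le_of_ne hEU fun h => hxE (h ▸ hx' : (⟨x, hxN⟩ : N) ∈ E')
    have hd := index_dvd_of_le hlt.le
    rw [hE'i] at hd
    rcases (Nat.dvd_prime hp').1 hd with h1 | h1
    · rw [index_eq_one.1 h1, card_top]
    · refine absurd (eq_of_le_of_card_ge hlt.le ?_) hlt.ne
      have e1 := U.card_mul_index
      rw [h1, ← E'.card_mul_index, hE'i] at e1
      exact (Nat.eq_of_mul_eq_mul_right hp'.pos e1).le
  -- commutators of `N` lie in `⟨c⟩ Z(N)`
  have hNN : ∀ u ∈ N, ∀ v ∈ N, ∃ i : ℤ, ∃ z ∈ N, (∀ n ∈ N, n * z = z * n) ∧ ⁅u, v⁆ = c ^ i * z := by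
    set c' : N := ⟨c, hcN⟩ with hc'
    set W := zpowers c' ⊔ center N with hW
    haveI hWn : W.Normal := ⟨fun w hw n => by
      have hle : W.map (MulAut.conj n).toMonoidHom ≤ W := by
        rw [hW, Subgroup.map_sup, MonoidHom.map_zpowers]
        refine sup_le (zpowers_le.2 ?_) ?_
        · have hz : ⁅n, c'⁆ ∈ center N := mem_center_iff.2 fun m => Subtype.ext (by
            have h3 := hZ3 e heN x hxN (n : T) n.2 m m.2
            have hi : ⁅(n : T), c⁆ = ⁅⁅e, x⁆, (n : T)⁆⁻¹ := by rw [commutatorElement_inv]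
            show (m : T) * ⁅(n : T), c⁆ = ⁅(n : T), c⁆ * m
            rw [hi]
            exact (Commute.inv_right (show Commute (m : T) _ from h3)).eq)
          have : MulAut.conj n c' = ⁅n, c'⁆ * c' := by
            rw [MulAut.conj_apply, commutatorElement_def]; group
          show MulAut.conj n c' ∈ _
          rw [this]
          exact W.mul_mem (mem_sup_right hz) (mem_sup_left (mem_zpowers _))
        · refine le_trans (le_of_eq ?_) le_sup_right
          exact (Subgroup.characteristic_iff_map_eq.1 (inferInstance : (center N).Characteristic)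
            (MulAut.conj n))
      exact hle ⟨w, hw, rfl⟩⟩
    intro u hu v hv
    have hmem : ⁅(⟨u, hu⟩ : N), ⟨v, hv⟩⁆ ∈ W := by
      rw [← QuotientGroup.eq_one_iff]
      show QuotientGroup.mk' W _ = 1
      rw [map_commutatorElement, commutatorElement_eq_one_iff_mul_comm]
      refine comm_of_generators (u := QuotientGroup.mk' W ⟨e, heN⟩)
        (v := QuotientGroup.mk' W ⟨x, hxN⟩) ?_ ?_ _ _
      · have h1 := MonoidHom.map_closure (QuotientGroup.mk' W)
          ({(⟨e, heN⟩ : N), ⟨x, hxN⟩} : Set N)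
        rw [hgenN, Subgroup.map_top_of_surjective _ (QuotientGroup.mk'_surjective _),
          Set.image_pair] at h1
        exact h1.symm
      · rw [← commutatorElement_eq_one_iff_mul_comm, ← map_commutatorElement]
        exact (QuotientGroup.eq_one_iff _).2 (mem_sup_left (mem_zpowers _))
    obtain ⟨y, hy, z, hz, hyz⟩ := mem_sup_of_normal_right.1 hmem
    obtain ⟨i, rfl⟩ := mem_zpowers_iff.1 hy
    exact ⟨i, z, z.2, fun n hn => congrArg Subtype.val (mem_center_iff.1 hz ⟨n, hn⟩),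
      (congrArg Subtype.val hyz).symm⟩
  -- `b ≠ 1`
  have hb1 : b ≠ 1 := by
    intro hb
    have hce : Commute c e := commutatorElement_eq_one_iff_mul_comm.1 hb
    have hgc : Commute c (g * e * g⁻¹) := by
      obtain ⟨i, z, hz, hzc, hiz⟩ := hNN (g⁻¹ * e * g)
        (by simpa using hconjN g⁻¹ e heN) (g⁻¹ * x * g) (by simpa using hconjN g⁻¹ x hxN)
      have h1 : Commute (g⁻¹ * c * g) e := by
        have hcc : g⁻¹ * c * g = c ^ i * z := by
          rw [← hiz, hcdef, commutatorElement_def, commutatorElement_def]; group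
        rw [hcc]
        exact (hce.zpow_left i).mul_left (hzc e heN).symm
      show c * (g * e * g⁻¹) = g * e * g⁻¹ * c
      calc c * (g * e * g⁻¹) = g * (g⁻¹ * c * g * e) * g⁻¹ := by group
        _ = g * (e * (g⁻¹ * c * g)) * g⁻¹ := by rw [h1.eq]
        _ = _ := by group
    rw [hge] at hgc
    have hcx : Commute c x := by
      have := hce.inv_right.mul_right hgc
      rwa [inv_mul_cancel_left] at this
    exact haΦ (by rw [hadef, commutatorElement_eq_one_iff_mul_comm.2 hcx]; exact one_mem _)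
  -- `D = ⟨c, a, b⟩`
  have hindep : ∀ i j k : ℤ, c ^ i * a ^ j * b ^ k = 1 →
      (p : ℤ) ∣ i ∧ (p : ℤ) ∣ j ∧ (p : ℤ) ∣ k := by
    intro i j k h
    have hord : ∀ u : T, u ∈ D → u ≠ 1 → ∀ m : ℤ, u ^ m = 1 → (p : ℤ) ∣ m := fun u hu hu1 m hm => by
      rw [← orderOf_eq_prime (hDexp u hu) hu1]
      exact orderOf_dvd_iff_zpow_eq_one.2 hm
    have ha1 : a ≠ 1 := fun h' => haΦ (h' ▸ one_mem _)
    -- commutating with `x`
    have hx1 : ⁅c ^ i * a ^ j * b ^ k, x⁆ = 1 := by rw [h, commutatorElement_one_left]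
    have hcx : x * c * x⁻¹ = a⁻¹ * c := by
      rw [hadef, commutatorElement_def]; group
    have hxa : x * a * x⁻¹ = a := by rw [haZ x hxN, mul_inv_cancel_right]
    have hxb : x * b * x⁻¹ = b := by rw [hbZ x hxN, mul_inv_cancel_right]
    have e1 : x * (c ^ i * a ^ j * b ^ k) * x⁻¹ = a⁻¹ ^ i * (c ^ i * a ^ j * b ^ k) := by
      calc x * (c ^ i * a ^ j * b ^ k) * x⁻¹
          = (x * c * x⁻¹) ^ i * (x * a * x⁻¹) ^ j * (x * b * x⁻¹) ^ k := by
            rw [conj_zpow, conj_zpow, conj_zpow]; group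
        _ = _ := by
            rw [hcx, hxa, hxb,
              (show Commute a⁻¹ c from (Commute.inv_left (haZ c hcN).symm)).mul_zpow]
            group
    rw [h, mul_one, mul_inv_cancel, mul_one, eq_comm, inv_zpow, inv_eq_one] at e1
    have hpi := hord a haD ha1 i e1
    have hci : c ^ i = 1 := by
      obtain ⟨q, rfl⟩ := hpi
      rw [zpow_mul, zpow_natCast, hDexp c hcD, one_zpow]
    rw [hci, one_mul] at h
    have haj : a ^ j ∈ Φ := by
      rw [eq_inv_of_mul_eq_one_left h]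
      exact inv_mem (Φ.zpow_mem hbΦ k)
    have hpj : (p : ℤ) ∣ j := by
      by_contra hd
      obtain ⟨u, v, huv⟩ := (Prime.coprime_iff_not_dvd (Nat.prime_iff_prime_int.1 hp')).2 hd
      refine haΦ ?_
      rw [← zpow_one a, ← huv, zpow_add, mul_comm u, mul_comm v, zpow_mul, zpow_mul, zpow_natCast,
        hDexp a haD, one_zpow, one_mul]
      exact Φ.zpow_mem haj v
    have haj1 : a ^ j = 1 := by
      obtain ⟨q, rfl⟩ := hpj
      rw [zpow_mul, zpow_natCast, hDexp a haD, one_zpow]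
    rw [haj1, one_mul] at h
    exact ⟨hpi, hpj, hord b hbD hb1 k h⟩
  have hDdec : ∀ u ∈ D, ∃ i j k : ℤ, u = c ^ i * a ^ j * b ^ k := by
    haveI : NeZero p := ⟨hp'.ne_zero⟩
    let f : ZMod p × ZMod p × ZMod p → D := fun v =>
      ⟨c ^ (v.1.val : ℤ) * a ^ (v.2.1.val : ℤ) * b ^ (v.2.2.val : ℤ),
        D.mul_mem (D.mul_mem (D.zpow_mem hcD _) (D.zpow_mem haD _)) (D.zpow_mem hbD _)⟩
    have hf : Function.Injective f := by
      rintro ⟨i, j, k⟩ ⟨i', j', k'⟩ h
      have h' : c ^ (i.val : ℤ) * a ^ (j.val : ℤ) * b ^ (k.val : ℤ) =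
          c ^ (i'.val : ℤ) * a ^ (j'.val : ℤ) * b ^ (k'.val : ℤ) := congrArg Subtype.val h
      have hca : Commute c a := haZ c hcN
      have hcb : Commute c b := hbZ c hcN
      have hab : Commute a b := hDcomm a haD b hbD
      have h0 : c ^ ((i.val : ℤ) - i'.val) * a ^ ((j.val : ℤ) - j'.val) *
          b ^ ((k.val : ℤ) - k'.val) = 1 := by
        have e : c ^ ((i.val : ℤ) - i'.val) * a ^ ((j.val : ℤ) - j'.val) *
            b ^ ((k.val : ℤ) - k'.val) = c ^ (i.val : ℤ) * a ^ (j.val : ℤ) * b ^ (k.val : ℤ) *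
              (c ^ (i'.val : ℤ) * a ^ (j'.val : ℤ) * b ^ (k'.val : ℤ))⁻¹ := by
          set A₁ := c ^ (i'.val : ℤ)
          set A₂ := a ^ (j'.val : ℤ) with hA₂
          set A₃ := b ^ (k'.val : ℤ) with hA₃
          rw [zpow_sub, zpow_sub, zpow_sub, mul_inv_rev, mul_inv_rev]
          have q1 : Commute A₁⁻¹ (a ^ (j.val : ℤ)) := (hca.zpow_zpow _ _).inv_left
          have q2 : Commute A₁⁻¹ A₂⁻¹ := (hca.zpow_zpow _ _).inv_inv
          have q3 : Commute (A₁⁻¹ * A₂⁻¹) (b ^ (k.val : ℤ)) :=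
            ((hcb.zpow_zpow _ _).inv_left).mul_left ((hab.zpow_zpow _ _).inv_left)
          have q4 : Commute (A₁⁻¹ * A₂⁻¹) A₃⁻¹ :=
            (((hcb.zpow_zpow _ _).inv_inv)).mul_left ((hab.zpow_zpow _ _).inv_inv)
          calc c ^ (i.val : ℤ) * A₁⁻¹ * (a ^ (j.val : ℤ) * A₂⁻¹) * (b ^ (k.val : ℤ) * A₃⁻¹)
              = c ^ (i.val : ℤ) * (a ^ (j.val : ℤ) * (A₁⁻¹ * A₂⁻¹)) * (b ^ (k.val : ℤ) * A₃⁻¹) := by
                rw [mul_assoc (c ^ (i.val : ℤ)), ← mul_assoc A₁⁻¹, q1.eq]; simp only [mul_assoc]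
            _ = c ^ (i.val : ℤ) * a ^ (j.val : ℤ) *
                (b ^ (k.val : ℤ) * A₃⁻¹ * (A₁⁻¹ * A₂⁻¹)) := by
                rw [mul_assoc, mul_assoc (a ^ (j.val : ℤ)), (q3.mul_right q4).eq]
                simp only [mul_assoc]
            _ = _ := by rw [q2.eq]; simp only [mul_assoc]
        rw [e, h', mul_inv_cancel]
      obtain ⟨d1, d2, d3⟩ := hindep _ _ _ h0
      simp only [Prod.mk.injEq]
      refine ⟨?_, ?_, ?_⟩ <;>
      · first
          | (rw [← ZMod.intCast_zmod_eq_zero_iff_dvd, Int.cast_sub, Int.cast_natCast,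
              Int.cast_natCast, ZMod.natCast_zmod_val, ZMod.natCast_zmod_val, sub_eq_zero] at d1
             exact d1)
          | (rw [← ZMod.intCast_zmod_eq_zero_iff_dvd, Int.cast_sub, Int.cast_natCast,
              Int.cast_natCast, ZMod.natCast_zmod_val, ZMod.natCast_zmod_val, sub_eq_zero] at d2
             exact d2)
          | (rw [← ZMod.intCast_zmod_eq_zero_iff_dvd, Int.cast_sub, Int.cast_natCast,
              Int.cast_natCast, ZMod.natCast_zmod_val, ZMod.natCast_zmod_val, sub_eq_zero] at d3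
             exact d3)
    have hbij : Function.Bijective f := hf.bijective_of_nat_card_le (by
      rw [Nat.card_prod, Nat.card_prod, Nat.card_zmod]
      calc Nat.card D ≤ p ^ 3 := hDcard
        _ = p * (p * p) := by ring)
    intro u hu
    obtain ⟨v, hv⟩ := hbij.2 ⟨u, hu⟩
    exact ⟨_, _, _, (congrArg Subtype.val hv).symm⟩
  -- consequences
  have hΦb : ∀ φ ∈ Φ, ∃ k : ℤ, φ = b ^ k := by
    intro φ hφ
    obtain ⟨i, j, k, rfl⟩ := hDdec φ (hΦD hφ)
    have hx1 : c ^ i * a ^ j ∈ Φ := by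
      have := Φ.mul_mem hφ (inv_mem (Φ.zpow_mem hbΦ k))
      rwa [mul_inv_cancel_right] at this
    have hai : a ^ i ∈ Φ := by
      have h1 := H.hΦN x hxN _ hx1
      have hcx : x * c * x⁻¹ = a⁻¹ * c := by rw [hadef, commutatorElement_def]; group
      have h2 : x * (c ^ i * a ^ j) * x⁻¹ = (a ^ i)⁻¹ * (c ^ i * a ^ j) := by
        calc x * (c ^ i * a ^ j) * x⁻¹ = (x * c * x⁻¹) ^ i * (x * a * x⁻¹) ^ j := by
              rw [conj_zpow, conj_zpow]; group
          _ = _ := by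
              rw [hcx, show x * a * x⁻¹ = a by rw [haZ x hxN, mul_inv_cancel_right],
                (show Commute a⁻¹ c from (Commute.inv_left (haZ c hcN).symm)).mul_zpow, inv_zpow,
                mul_assoc]
      rw [h2] at h1
      have h3 := Φ.mul_mem h1 (inv_mem hx1)
      rwa [mul_inv_cancel_right, inv_mem_iff] at h3
    have hdvd : ∀ {m : ℤ}, a ^ m ∈ Φ → (p : ℤ) ∣ m := by
      intro m hm
      by_contra hd
      obtain ⟨u, v, huv⟩ := (Prime.coprime_iff_not_dvd (Nat.prime_iff_prime_int.1 hp')).2 hd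
      refine haΦ ?_
      rw [← zpow_one a, ← huv, zpow_add, mul_comm u, mul_comm v, zpow_mul, zpow_mul, zpow_natCast,
        hDexp a haD, one_zpow, one_mul]
      exact Φ.zpow_mem hm v
    obtain ⟨q, rfl⟩ := hdvd hai
    rw [zpow_mul, zpow_natCast, hDexp c hcD, one_zpow, one_mul] at hx1 ⊢
    obtain ⟨r, rfl⟩ := hdvd hx1
    exact ⟨k, by rw [zpow_mul, zpow_natCast, hDexp a haD, one_zpow, one_mul]⟩
  have hDc : Nat.card D = p ^ 3 := by
    refine le_antisymm hDcard ?_
    have h2 : Φ'.relIndex D' * Nat.card Φ' = Nat.card D' := by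
      have h3 := Subgroup.relIndex_mul_relIndex ⊥ Φ' D' bot_le
        (fun x hx => (hmemD x).1 (hΦD hx))
      rw [relIndex_bot_left, relIndex_bot_left] at h3
      rw [← h3, mul_comm]
    have h4 : Φ'.relIndex D' = p ^ 2 := by
      rw [← hH1c, ← hD'H1, ← relIndex_ker D' π, QuotientGroup.ker_mk']
    rw [h4, hΦ'c] at h2
    rw [hDdef, card_map_of_injective N.subtype_injective, ← h2, pow_succ p 2]
    refine Nat.mul_le_mul_left _ ?_
    rw [← orderOf_eq_prime (hDexp b hbD) hb1, ← Nat.card_zpowers]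
    exact card_le_of_le (zpowers_le.2 hbΦ)
  have hΦc : Nat.card Φ = p := by
    refine le_antisymm ?_ ?_
    · rw [← orderOf_eq_prime (hDexp b hbD) hb1, ← Nat.card_zpowers]
      exact card_le_of_le fun φ hφ => by
        obtain ⟨k, rfl⟩ := hΦb φ hφ
        exact zpow_mem (mem_zpowers b) k
    · rw [← orderOf_eq_prime (hDexp b hbD) hb1, ← Nat.card_zpowers]
      exact card_le_of_le (zpowers_le.2 hbΦ)
  have hEc : Nat.card E = p ^ 4 := by rw [H.hEi, hΦc, ← pow_succ]
  have hNc : Nat.card N = p ^ 5 := by rw [H.hNi, hEc, ← pow_succ']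
  have hDnorm : ∀ h ∈ E, ∀ m ∈ D, h * m * h⁻¹ ∈ D := fun h _ m hm => hDT h m hm
  -- `e ^ p ≠ 1`
  have hep : e ^ p ≠ 1 := by
    intro hep
    refine hb1 (Subgroup.mem_bot.1 (H.hY ⊥ bot_le (fun u hu y hy => ?_) (fun u hu => ?_) hbΦ))
    · rw [Subgroup.mem_bot, commutatorElement_eq_one_iff_mul_comm]
      obtain ⟨k, rfl⟩ := hΦb y hy
      exact ((show Commute u b from hbZ u (hEN hu)).zpow_right k).eq
    · rw [Subgroup.mem_bot]
      obtain ⟨y, hy, d, hd, rfl⟩ : ∃ y ∈ zpowers e, ∃ d ∈ D, u = d * y := by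
        haveI : (D.subgroupOf E).Normal := ⟨fun m hm h => hDnorm h h.2 m hm⟩
        have hEeq : zpowers (⟨e, heE⟩ : E) ⊔ D.subgroupOf E = ⊤ := by
          refine eq_top_of_le_card _ ?_
          obtain ⟨i, hi⟩ := IsPGroup.iff_card.1
            ((hT.to_subgroup E).to_subgroup (zpowers (⟨e, heE⟩ : E) ⊔ D.subgroupOf E))
          have hlt : D.subgroupOf E < zpowers (⟨e, heE⟩ : E) ⊔ D.subgroupOf E :=
            right_lt_sup.2 fun h => heD (h (mem_zpowers _))
          have hcl : Nat.card (D.subgroupOf E) < p ^ i := by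
            rw [← hi]
            exact lt_of_le_of_ne (card_le_of_le hlt.le) fun h =>
              hlt.ne (eq_of_le_of_card_ge hlt.le h.ge)
          rw [Nat.card_congr (subgroupOfEquivOfLe hDE).toEquiv, hDc] at hcl
          rw [hi, hEc]
          exact Nat.pow_le_pow_right hp'.pos ((Nat.pow_lt_pow_iff_right hp'.one_lt).1 hcl)
        obtain ⟨d, hd, y, hy, hdy⟩ := mem_sup_of_normal_left.1
          (by rw [sup_comm, hEeq]; trivial : (⟨u, hu⟩ : E) ∈ D.subgroupOf E ⊔ zpowers (⟨e, heE⟩ : E))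
        obtain ⟨l, rfl⟩ := mem_zpowers_iff.1 hy
        exact ⟨e ^ l, zpow_mem (mem_zpowers e) l, d, hd, (congrArg Subtype.val hdy).symm⟩
      obtain ⟨l, rfl⟩ := mem_zpowers_iff.1 hy
      rw [mul_pow_in hDE hDnorm hEc (by norm_num) (by omega) hDexp hd (E.zpow_mem heE l),
        ← zpow_natCast, ← zpow_mul, mul_comm, zpow_mul, zpow_natCast, hep, one_zpow]
  obtain ⟨k, hk⟩ := hΦb _ (H.hΦp e heE)
  -- the action of an element outside `N`
  have hxD : x ∉ D := fun h => hxE (hDE h)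
  haveI hDn' : D.Normal := ⟨fun m hm h => hDT h m hm⟩
  let ρ := QuotientGroup.mk' D
  have hρ : ∀ u v : T, ρ u = ρ v ↔ u⁻¹ * v ∈ D := fun u v => QuotientGroup.eq
  have hgx : g * x * g⁻¹ * x⁻¹ ∈ D := by
    set U := N.map ρ with hU
    haveI : U.Normal := Subgroup.Normal.map hNn ρ (QuotientGroup.mk'_surjective _)
    have hTp : IsPGroup p (⊤ : Subgroup (T ⧸ D)) := (hT.to_quotient D).to_subgroup _
    have hUne : U ≠ ⊥ := fun h => hxD ((QuotientGroup.eq_one_iff x).1
      (Subgroup.mem_bot.1 (h ▸ ⟨x, hxN, rfl⟩ : ρ x ∈ (⊥ : Subgroup _))))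
    have l1 := Techniques.commutator_lt_of_isPGroup hTp le_top hUne inferInstance
    set V := ⁅U, (⊤ : Subgroup (T ⧸ D))⁆ with hV
    have hUc : Nat.card U = p ^ 2 := by
      have h1 := relIndex_mul_relIndex ⊥ D N bot_le hDN
      rw [relIndex_bot_left, relIndex_bot_left, hDc, hNc] at h1
      have h2 : D.relIndex N = Nat.card U := by
        rw [hU, ← relIndex_ker N ρ, QuotientGroup.ker_mk']
      rw [h2] at h1
      exact Nat.eq_of_mul_eq_mul_left (pow_pos hp'.pos 3) (h1.trans (pow_add p 3 2))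
    have hxV : ρ x ∈ V := by
      have h1 : ρ x = ⁅ρ e⁻¹, ρ g⁆ := by
        rw [← map_commutatorElement, commutatorElement_def, hxdef]
        congr 1
        group
      rw [h1]
      exact commutator_mem_commutator ⟨e⁻¹, inv_mem heN, rfl⟩ (mem_top _)
    have hVc : Nat.card V ≤ p := by
      obtain ⟨i, hi⟩ := IsPGroup.iff_card.1 ((hT.to_quotient D).to_subgroup V)
      have h1 : Nat.card V < p ^ 2 := hUc ▸ lt_of_le_of_ne (card_le_of_le l1.le) fun h =>
        l1.ne (eq_of_le_of_card_ge l1.le h.ge)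
      rw [hi] at h1 ⊢
      exact (Nat.pow_le_pow_right hp'.pos (Nat.le_of_lt_succ
        ((Nat.pow_lt_pow_iff_right hp'.one_lt).1 h1))).trans (pow_one p).le
    have hVne : V ≠ ⊥ := fun h => hxD ((QuotientGroup.eq_one_iff x).1
      (Subgroup.mem_bot.1 (h ▸ hxV)))
    have l2 := Techniques.commutator_lt_of_isPGroup hTp le_top hVne inferInstance
    have hbot : ⁅V, (⊤ : Subgroup (T ⧸ D))⁆ = ⊥ := by
      refine eq_bot_of_card_le _ ?_
      have h2 : Nat.card (⁅V, (⊤ : Subgroup (T ⧸ D))⁆ : Subgroup _) < p :=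
        (lt_of_le_of_ne (card_le_of_le l2.le) fun h =>
          l2.ne (eq_of_le_of_card_ge l2.le h.ge)).trans_le hVc
      obtain ⟨i, hi⟩ := IsPGroup.iff_card.1
        ((hT.to_quotient D).to_subgroup ⁅V, (⊤ : Subgroup (T ⧸ D))⁆)
      rw [hi] at h2 ⊢
      have : i < 1 := (Nat.pow_lt_pow_iff_right hp'.one_lt).1 (h2.trans_le (pow_one p).ge)
      rw [show i = 0 by omega, pow_zero]
    have h3 : ⁅ρ x, ρ g⁆ = 1 :=
      Subgroup.mem_bot.1 (hbot ▸ commutator_mem_commutator hxV (mem_top (ρ g)))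
    rw [← map_commutatorElement] at h3
    have h4 := inv_mem ((QuotientGroup.eq_one_iff _).1 h3)
    rw [commutatorElement_inv] at h4
    exact h4
  have hcZ : ∀ n ∈ N, ∀ u ∈ D, ∀ m ∈ N, m * ⁅u, n⁆ = ⁅u, n⁆ * m := by
    intro n hn u hu
    obtain ⟨i, j, l, rfl⟩ := hDdec u hu
    have e1 : ⁅c ^ i * a ^ j * b ^ l, n⁆ = ⁅c ^ i, n⁆ := by
      have q : Commute n (a ^ j * b ^ l) :=
        ((show Commute n a from haZ n hn).zpow_right j).mul_right
          ((show Commute n b from hbZ n hn).zpow_right l)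
      rw [mul_assoc, commutatorElement_def, commutatorElement_def, mul_inv_rev,
        mul_assoc (c ^ i) (a ^ j * b ^ l) n, ← q.eq]
      group
    rw [e1]
    have hci : ∀ l : ℕ, ∀ m ∈ N, m * ⁅c ^ l, n⁆ = ⁅c ^ l, n⁆ * m := by
      intro l
      induction l with
      | zero => intro m _; simp
      | succ l ih =>
        intro m hm
        have h : ⁅c ^ (l + 1), n⁆ = c * ⁅c ^ l, n⁆ * c⁻¹ * ⁅c, n⁆ := by
          rw [pow_succ', commutatorElement_def, commutatorElement_def, commutatorElement_def]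
          group
        rw [h, ih c hcN, mul_inv_cancel_right]
        exact ((show Commute m _ from ih m hm).mul_right
          (show Commute m _ from hZ3 e heN x hxN n hn m hm)).eq
    intro m hm
    obtain ⟨l, hl⟩ : ∃ l : ℕ, c ^ i = c ^ l := by
      obtain ⟨l, hl⟩ := mem_powers_iff_mem_zpowers.2 (zpow_mem (mem_zpowers c) i)
      exact ⟨l, hl.symm⟩
    rw [hl]
    exact hci l m hm
  -- images of `c`, `b`, `a` under an element acting like `g`
  have himg : ∀ h : T, (h * e * h⁻¹)⁻¹ * (e * x) ∈ D → h * x * h⁻¹ * x⁻¹ ∈ D →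
      h * c * h⁻¹ * c⁻¹ ∈ D ∧ h * b * h⁻¹ = b * a ∧ h * a * h⁻¹ = a := by
    intro h he hx
    obtain ⟨d₁, hd₁, hhe⟩ : ∃ d₁ ∈ D, h * e * h⁻¹ = e * x * d₁ :=
      ⟨((h * e * h⁻¹)⁻¹ * (e * x))⁻¹, inv_mem he, by group⟩
    obtain ⟨d₂, hd₂, hhx⟩ : ∃ d₂ ∈ D, h * x * h⁻¹ = d₂ * x :=
      ⟨_, hx, by rw [inv_mul_cancel_right]⟩
    have hh : ∀ s t : T, h * ⁅s, t⁆ * h⁻¹ = ⁅h * s * h⁻¹, h * t * h⁻¹⁆ :=
      map_commutatorElement (MulAut.conj h).toMonoidHom
    have hexN : e * x ∈ N := N.mul_mem heN hxN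
    have hd₁N := hDN hd₁
    -- `h c h⁻¹ = c z`, with `z` central
    obtain ⟨z, hzc, hcz⟩ : ∃ z, (∀ m ∈ N, m * z = z * m) ∧ h * c * h⁻¹ = c * z := by
      refine ⟨⁅e, x⁆⁻¹ * ⁅e * x * d₁, d₂ * x⁆, fun m hm => ?_, by
        rw [hh, hhe, hhx, hcdef]; exact (mul_inv_cancel_left _ _).symm⟩
      have k1 : ∀ s t u : T, ⁅s * t, u⁆ = s * ⁅t, u⁆ * s⁻¹ * ⁅s, u⁆ := fun s t u => by
        simp only [commutatorElement_def]; group
      have k2 : ∀ s t u : T, ⁅s, t * u⁆ = ⁅s, t⁆ * (t * ⁅s, u⁆ * t⁻¹) := fun s t u => by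
        simp only [commutatorElement_def]; group
      have z1 : ∀ m ∈ N, m * ⁅e * x, d₂⁆ = ⁅e * x, d₂⁆ * m := fun m hm => by
        rw [← commutatorElement_inv]
        exact ((show Commute m _ from hcZ _ hexN d₂ hd₂ m hm).inv_right).eq
      have z2 : ∀ m ∈ N, m * ⁅d₁, d₂ * x⁆ = ⁅d₁, d₂ * x⁆ * m := hcZ _
        (N.mul_mem (hDN hd₂) hxN) d₁ hd₁
      have h1 : ⁅e * x, x⁆ = ⁅e, x⁆ := by rw [k1, commutatorElement_self]; group
      have h2 : d₂ * ⁅e, x⁆ * d₂⁻¹ = ⁅e, x⁆ := by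
        rw [hDcomm d₂ hd₂ _ hcD, mul_inv_cancel_right]
      have e1 : ⁅e, x⁆⁻¹ * ⁅e * x * d₁, d₂ * x⁆ = ⁅d₁, d₂ * x⁆ * ⁅e * x, d₂⁆ := by
        rw [k1 (e * x) d₁, z2 _ hexN, mul_inv_cancel_right, k2 (e * x) d₂ x, h1, h2]
        rw [← mul_assoc, ← mul_assoc, z2 _ (inv_mem hcN), mul_assoc ⁅d₁, d₂ * x⁆, z1 _ (inv_mem hcN),
          mul_assoc, mul_assoc, inv_mul_cancel, mul_one]
      rw [e1]
      exact ((show Commute m _ from z2 m hm).mul_right (show Commute m _ from z1 m hm)).eq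
    have hcz' : ∀ u ∈ N, ⁅c * z, u⁆ = ⁅c, u⁆ := fun u hu => by
      rw [commutatorElement_def, commutatorElement_def, mul_inv_rev,
        mul_assoc c z u, ← hzc u hu]
      group
    refine ⟨?_, ?_, ?_⟩
    · rw [hcz]
      have h1 : (h * c * h⁻¹) ∈ D := hDT h c hcD
      rw [hcz] at h1
      exact D.mul_mem h1 (inv_mem hcD)
    · rw [hbdef, hh, hcz, hhe, hcz' _ (N.mul_mem hexN hd₁N)]
      have e1 : ⁅c, e * x * d₁⁆ = ⁅c, e⁆ * (e * ⁅c, x⁆ * e⁻¹) * (e * x * ⁅c, d₁⁆ * (e * x)⁻¹) := by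
        simp only [commutatorElement_def]; group
      rw [e1, hDab c hcD d₁ hd₁, mul_one, mul_inv_cancel, mul_one, haZ e heN, mul_inv_cancel_right]
    · rw [hadef, hh, hcz, hhx, hcz' _ (N.mul_mem (hDN hd₂) hxN)]
      have e1 : ⁅c, d₂ * x⁆ = ⁅c, d₂⁆ * (d₂ * ⁅c, x⁆ * d₂⁻¹) := by
        simp only [commutatorElement_def]; group
      rw [e1, hDab c hcD d₂ hd₂, one_mul, haZ d₂ (hDN hd₂), mul_inv_cancel_right]
  -- `X = ⟨x⟩ D`
  set X := D ⊔ zpowers x with hXdef
  have hXN : X ≤ N := sup_le hDN (zpowers_le.2 hxN)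
  haveI hXn : X.Normal := by
    refine ⟨fun m hm h => ?_⟩
    have hall : ∀ n : N, (n : T) * x * (n : T)⁻¹ ∈ X := fun n => by
      have h1 := hND n n.2 x hxN
      have h2 : (n : T) * x * (n : T)⁻¹ = ⁅(n : T), x⁆ * x := by
        rw [commutatorElement_def]; group
      rw [h2]
      exact X.mul_mem (mem_sup_left h1) (mem_sup_right (mem_zpowers x))
    have hstab : ∀ w : T, (∀ y ∈ X, w * y * w⁻¹ ∈ X) ↔ w * x * w⁻¹ ∈ X := fun w => by
      refine ⟨fun hw => hw x (mem_sup_right (mem_zpowers x)), fun hw y hy => ?_⟩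
      have hle : X.map (MulAut.conj w).toMonoidHom ≤ X := by
        rw [hXdef, Subgroup.map_sup, MonoidHom.map_zpowers]
        refine sup_le ?_ (zpowers_le.2 hw)
        rintro _ ⟨y, hy, rfl⟩
        exact mem_sup_left (hDT w y hy)
      exact hle ⟨y, hy, rfl⟩
    have hset : ∀ w : T, w ∈ normalizer (X : Set T) := by
      have hNX : N ≤ normalizer (X : Set T) := by
        rw [Subgroup.le_normalizer_iff]
        exact fun n hn y hy => (hstab n).2 (hall ⟨n, hn⟩) y hy
      have hgX : g ∈ normalizer (X : Set T) := by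
        refine Subgroup.mem_normalizer_fintype fun y hy => ?_
        refine (hstab g).2 ?_ y hy
        have := X.mul_mem (mem_sup_left hgx) (mem_sup_right (mem_zpowers x))
        rwa [inv_mul_cancel_right] at this
      intro w
      have htop : N ⊔ zpowers g = ⊤ := by
        refine eq_top_of_card_eq _ ?_
        rw [card_sup_zpowers hNn hgN (hTN ▸ Subgroup.pow_index_mem N g), ← hTN,
          ← N.card_mul_index, mul_comm]
      exact (sup_le hNX (zpowers_le.2 hgX)) (htop ▸ mem_top w)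
    exact (Subgroup.mem_normalizer_iff.1 (hset h) m).1 hm
  have hxpD : x ^ p ∈ D := (hmemD (⟨x, hxN⟩ ^ p)).2 (PGroups.pow_mem_frattini hNp _)
  have hXc : Nat.card X = p ^ 4 := by
    rw [hXdef, card_sup_zpowers hDn' hxD hxpD, hDc, ← pow_succ']
  have hordp : ∀ u : T, u ∈ D → u ≠ 1 → ∀ m : ℤ, u ^ m = 1 → (p : ℤ) ∣ m := fun u hu hu1 m hm => by
    rw [← orderOf_eq_prime (hDexp u hu) hu1]
    exact orderOf_dvd_iff_zpow_eq_one.2 hm
  have ha1 : a ≠ 1 := fun h' => haΦ (h' ▸ one_mem _)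
  have hDpow0 : ∀ u ∈ D, ∀ m : ℤ, (p : ℤ) ∣ m → u ^ m = 1 := fun u hu m ⟨q, hq⟩ => by
    rw [hq, zpow_mul, zpow_natCast, hDexp u hu, one_zpow]
  -- an element of `D` commuting with `x` has no `c`-component
  have hcomp : ∀ i j l : ℤ, Commute (c ^ i * a ^ j * b ^ l) x → c ^ i = 1 := by
    intro i j l hcom
    refine hDpow0 c hcD i (hordp a haD ha1 i ?_)
    have h1 : Commute (c ^ i) x := by
      have q : Commute (a ^ j * b ^ l)⁻¹ x :=
        (((show Commute x a from haZ x hxN).zpow_right j).mul_right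
          ((show Commute x b from hbZ x hxN).zpow_right l)).symm.inv_left
      have := (mul_assoc (c ^ i) (a ^ j) (b ^ l) ▸ hcom).mul_left q
      rwa [mul_inv_cancel_right] at this
    have h2 : x * c ^ i * x⁻¹ = c ^ i := by rw [← h1.eq, mul_inv_cancel_right]
    have h3 : x * c * x⁻¹ = a⁻¹ * c := by rw [hadef, commutatorElement_def]; group
    rw [← conj_zpow, h3,
      (show Commute a⁻¹ c from (Commute.inv_left (haZ c hcN).symm)).mul_zpow, mul_eq_right,
      inv_zpow, inv_eq_one] at h2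
    exact h2
  -- an element of `D` fixed by an element acting like `g` has no `b`-component
  have hcomp2 : ∀ h : T, h * b * h⁻¹ = b * a → h * a * h⁻¹ = a → ∀ j l : ℤ,
      h * (a ^ j * b ^ l) * h⁻¹ = a ^ j * b ^ l → b ^ l = 1 := by
    intro h hb' ha' j l hfix
    refine hDpow0 b hbD l (hordp a haD ha1 l ?_)
    have e1 : h * (a ^ j * b ^ l) * h⁻¹ = a ^ j * b ^ l * a ^ l := by
      calc h * (a ^ j * b ^ l) * h⁻¹ = (h * a * h⁻¹) ^ j * (h * b * h⁻¹) ^ l := by
            rw [conj_zpow, conj_zpow]; group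
        _ = _ := by
            rw [ha', hb', (show Commute b a from hDcomm b hbD a haD).mul_zpow, mul_assoc]
    rw [e1, mul_eq_left] at hfix
    exact hfix
  have hgimg := himg g (by rw [hge, inv_mul_cancel]; exact one_mem _) hgx
  -- `x ^ p ∈ ⟨a⟩`
  have hxa : x ^ p ∈ zpowers a := by
    obtain ⟨i, j, l, hijl⟩ := hDdec _ hxpD
    have hci := hcomp i j l (by rw [← hijl]; exact (Commute.refl x).pow_left p)
    rw [hci, one_mul] at hijl
    have hgp : g * (a ^ j * b ^ l) * g⁻¹ = a ^ j * b ^ l := by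
      rw [← hijl, ← conj_pow]
      have h1 : g * x * g⁻¹ = (g * x * g⁻¹ * x⁻¹) * x := by rw [inv_mul_cancel_right]
      rw [h1]
      exact mul_pow_in (le_sup_left : D ≤ X) (fun h _ m hm => hDT h m hm) hXc (by norm_num)
        (by omega) hDexp hgx (mem_sup_right (mem_zpowers x))
    rw [hijl, hcomp2 g hgimg.2.1 hgimg.2.2 j l hgp, mul_one]
    exact zpow_mem (mem_zpowers a) j
  -- `h ^ p ∈ ⟨a⟩` for `h` acting like `g`
  have hhp : ∀ h : T, h ∉ N → (h * e * h⁻¹)⁻¹ * (e * x) ∈ D → h * x * h⁻¹ * x⁻¹ ∈ D →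
      h ^ p ∈ zpowers a := by
    intro h hhN he hx
    obtain ⟨hc', hb', ha'⟩ := himg h he hx
    have hpN : h ^ p ∈ N := hTN ▸ Subgroup.pow_index_mem N h
    -- `h ^ p ∈ X`
    have hpX : h ^ p ∈ X := by
      set μ := QuotientGroup.mk' D'
      have hgen : closure ({μ ⟨e, heN⟩, μ ⟨x, hxN⟩} : Set (N ⧸ D')) = ⊤ := by
        have h1 := MonoidHom.map_closure μ ({(⟨e, heN⟩ : N), ⟨x, hxN⟩} : Set N)
        rw [hgenN, Subgroup.map_top_of_surjective _ (QuotientGroup.mk'_surjective _),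
          Set.image_pair] at h1
        exact h1.symm
      have hab : ∀ s t : N ⧸ D', s * t = t * s := by
        intro s t
        obtain ⟨u, rfl⟩ := QuotientGroup.mk'_surjective _ s
        obtain ⟨v, rfl⟩ := QuotientGroup.mk'_surjective _ t
        rw [← commutatorElement_eq_one_iff_mul_comm, ← map_commutatorElement]
        exact (QuotientGroup.eq_one_iff _).2
          (PGroups.commutator_le_frattini' hNp (commutator_mem_commutator (mem_top _) (mem_top _)))
      letI : CommGroup (N ⧸ D') := { (inferInstance : Group (N ⧸ D')) with mul_comm := hab }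
      obtain ⟨i, j, hij⟩ := mem_closure_pair.1
        (hgen.ge (mem_top (μ ⟨h ^ p, hpN⟩)))
      have hconj : ∀ u : N, μ ⟨h * u * h⁻¹, hconjN h u u.2⟩ = μ (MulAut.conjNormal h u) := fun u =>
        rfl
      have hf : ∀ u v : N, μ u = μ v → μ (MulAut.conjNormal h u) = μ (MulAut.conjNormal h v) := by
        intro u v huv
        refine QuotientGroup.eq.2 ?_
        rw [← map_inv, ← map_mul]
        exact (Subgroup.characteristic_iff_map_eq.1 (inferInstance : D'.Characteristic)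
          (MulAut.conjNormal h)).le ⟨_, QuotientGroup.eq.1 huv, rfl⟩
      have h1 : μ (MulAut.conjNormal h (⟨e, heN⟩ : N)) = μ ⟨e, heN⟩ * μ ⟨x, hxN⟩ := by
        rw [← map_mul]
        exact QuotientGroup.eq.2 ((hmemD _).1 he)
      have h2 : μ (MulAut.conjNormal h (⟨x, hxN⟩ : N)) = μ ⟨x, hxN⟩ := by
        refine (QuotientGroup.eq.2 ?_).symm
        have := D'.mul_mem (D'.mul_mem (PGroups.commutator_le_frattini' hNp
          (commutator_mem_commutator (mem_top (⟨x, hxN⟩⁻¹ : N))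
            (mem_top (MulAut.conjNormal h (⟨x, hxN⟩ : N)))))
          ((hmemD (MulAut.conjNormal h (⟨x, hxN⟩ : N) * ⟨x, hxN⟩⁻¹)).1
            (by simpa [MulAut.conjNormal_apply] using hx))) (one_mem D')
        convert this using 1
        rw [commutatorElement_def]
        group
      rw [← map_zpow, ← map_zpow, ← map_mul] at hij
      have h3 := hf _ _ hij
      rw [map_mul, map_zpow, map_zpow, map_mul μ, map_zpow μ, map_zpow μ, h1, h2, mul_zpow] at h3
      have h4 : MulAut.conjNormal h (⟨h ^ p, hpN⟩ : N) = ⟨h ^ p, hpN⟩ := Subtype.ext (by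
        simp [MulAut.conjNormal_apply, ← pow_succ', pow_succ])
      rw [h4, ← hij, map_mul μ, map_zpow μ, map_zpow μ] at h3
      have hxi : μ ⟨x, hxN⟩ ^ i = 1 := by
        have := h3
        rw [mul_assoc (μ ⟨e, heN⟩ ^ i), mul_comm (μ ⟨x, hxN⟩ ^ i) (μ ⟨x, hxN⟩ ^ j), ← mul_assoc,
          mul_eq_left] at this
        exact this
      rw [← map_zpow, QuotientGroup.mk'_apply, QuotientGroup.eq_one_iff, ← hmemD] at hxi
      have hpi : (p : ℤ) ∣ i := by
        by_contra hd
        obtain ⟨u, v, huv⟩ := (Prime.coprime_iff_not_dvd (Nat.prime_iff_prime_int.1 hp')).2 hd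
        refine hxD ?_
        rw [← zpow_one x, ← huv, zpow_add, mul_comm u, mul_comm v, zpow_mul, zpow_mul, zpow_natCast]
        exact D.mul_mem (D.zpow_mem hxpD u) (D.zpow_mem (by simpa using hxi) v)
      have h5 := QuotientGroup.eq.1 hij
      have h6 := (hmemD _).2 h5
      obtain ⟨q, rfl⟩ := hpi
      have h7 : (((⟨e, heN⟩ : N) ^ ((p : ℤ) * q) * ⟨x, hxN⟩ ^ j : N) : T) ∈ X := by
        push_cast
        refine X.mul_mem (mem_sup_left ?_) (mem_sup_right (zpow_mem (mem_zpowers x) j))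
        rw [zpow_mul, zpow_natCast]
        exact D.zpow_mem ((hmemD (⟨e, heN⟩ ^ p)).2 (PGroups.pow_mem_frattini hNp _)) q
      have h8 := X.mul_mem h7 (mem_sup_left h6)
      push_cast at h8
      rwa [mul_inv_cancel_left] at h8
    have hhX : h ∉ X := fun h' => hhN (hXN h')
    set X₂ := X ⊔ zpowers h with hX₂
    have hX₂c : Nat.card X₂ = p ^ 5 := by
      rw [hX₂, card_sup_zpowers hXn hhX hpX, hXc, ← pow_succ']
    have hcent : ∀ u ∈ X, u * h * u⁻¹ * h⁻¹ ∈ D → Commute u (h ^ p) := by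
      intro u hu hud
      have h1 : (u * h * u⁻¹ * h⁻¹ * h) ^ p = h ^ p :=
        mul_pow_in (M := D) (X := X₂) (le_sup_left.trans le_sup_left) (fun w _ m hm => hDT w m hm)
          hX₂c (by norm_num) (by omega) hDexp hud (mem_sup_right (mem_zpowers h))
      rw [inv_mul_cancel_right, conj_pow, mul_inv_eq_iff_eq_mul] at h1
      exact h1
    have hxh : Commute x (h ^ p) := hcent x (mem_sup_right (mem_zpowers x)) (by
      have h1 := inv_mem hx
      convert h1 using 1
      group)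
    have hch : Commute c (h ^ p) := hcent c (mem_sup_left hcD) (by
      have h1 := D.mul_mem hcD (hDT h c⁻¹ (inv_mem hcD))
      convert h1 using 1
      group)
    obtain ⟨d, hd, y, hy, hdy⟩ := mem_sup_of_normal_left.1 hpX
    obtain ⟨m, rfl⟩ := mem_zpowers_iff.1 hy
    obtain ⟨i, j, l, rfl⟩ := hDdec d hd
    -- no `x`-component
    have hxm : x ^ m ∈ D := by
      have h1 : Commute c (x ^ m) := by
        have q : Commute c (c ^ i * a ^ j * b ^ l)⁻¹ :=
          ((show Commute c (c ^ i * a ^ j * b ^ l) from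
            hDcomm c hcD _ (D.mul_mem (D.mul_mem (D.zpow_mem hcD i) (D.zpow_mem haD j))
              (D.zpow_mem hbD l)))).inv_right
        have := q.mul_right (hdy ▸ hch)
        rwa [inv_mul_cancel_left] at this
      have h2 : a ^ m = 1 := by
        have h3 : c * x * c⁻¹ = a * x := by rw [hadef, commutatorElement_def]; group
        have h4 : c * x ^ m * c⁻¹ = x ^ m := by rw [h1.eq, mul_inv_cancel_right]
        rw [← conj_zpow, h3, (show Commute a x from (haZ x hxN).symm).mul_zpow, mul_eq_right]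
          at h4
        exact h4
      obtain ⟨q, rfl⟩ := hordp a haD ha1 m h2
      rw [zpow_mul, zpow_natCast]
      exact D.zpow_mem hxpD q
    have hD' : h ^ p ∈ D := by
      rw [← hdy]
      exact D.mul_mem hd hxm
    obtain ⟨i', j', l', h'⟩ := hDdec _ hD'
    have hci := hcomp i' j' l' (by rw [← h']; exact hxh.symm)
    rw [hci, one_mul] at h'
    have hfix : h * (a ^ j' * b ^ l') * h⁻¹ = a ^ j' * b ^ l' := by
      rw [← h', ← conj_pow, mul_inv_cancel_right]
    rw [h', hcomp2 h hb' ha' j' l' hfix, mul_one]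
    exact zpow_mem (mem_zpowers a) j'
  -- modulo `⟨a⟩`
  set B := zpowers a with hBdef
  haveI hBn : B.Normal := by
    refine ⟨fun m hm h => ?_⟩
    have hga : g ∈ centralizer ({a} : Set T) := mem_centralizer_singleton_iff.2
      (mul_inv_eq_iff_eq_mul.1 hgimg.2.2)
    have hNa : N ≤ centralizer ({a} : Set T) := fun n hn =>
      mem_centralizer_singleton_iff.2 (haZ n hn)
    have htop : N ⊔ zpowers g = ⊤ := by
      refine eq_top_of_card_eq _ ?_
      rw [card_sup_zpowers hNn hgN (hTN ▸ Subgroup.pow_index_mem N g), ← hTN,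
        ← N.card_mul_index, mul_comm]
    have hh := mem_centralizer_singleton_iff.1 ((sup_le hNa (zpowers_le.2 hga)) (htop ▸ mem_top h))
    obtain ⟨i, rfl⟩ := mem_zpowers_iff.1 hm
    rw [((show Commute h a from hh).zpow_right i).eq, mul_inv_cancel_right]
    exact zpow_mem (mem_zpowers a) i
  have hBc : Nat.card B = p := by rw [hBdef, Nat.card_zpowers, orderOf_eq_prime (hDexp a haD) ha1]
  let τ := QuotientGroup.mk' B
  have hτ : ∀ u : T, τ u = 1 ↔ u ∈ B := fun u => QuotientGroup.eq_one_iff u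
  have hTc : Nat.card T = p ^ 6 := by rw [← N.card_mul_index, hNc, hTN, ← pow_succ]
  have hQ2c : Nat.card (T ⧸ B) = p ^ 5 := by
    have h := B.card_eq_card_quotient_mul_card_subgroup
    rw [hTc, hBc, pow_succ] at h
    exact (Nat.eq_of_mul_eq_mul_right hp'.pos h).symm
  -- `(X ⟨g⟩) / ⟨a⟩` has exponent `p`
  have hgp := hhp g hgN (by rw [hge, inv_mul_cancel]; exact one_mem _) hgx
  have hgX : g ∉ X := fun h' => hgN (hXN h')
  have hBX : B ≤ X := zpowers_le.2 (mem_sup_left haD)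
  have hgpX : g ^ p ∈ X := hBX hgp
  set M := (X ⊔ zpowers g).map τ with hM
  have hcardmap : ∀ W : Subgroup T, B ≤ W → p * Nat.card (W.map τ) = Nat.card W := by
    intro W hW
    have h1 := relIndex_mul_relIndex ⊥ B W bot_le hW
    rw [relIndex_bot_left, relIndex_bot_left, hBc] at h1
    have h2 : B.relIndex W = Nat.card (W.map τ) := by
      rw [← relIndex_ker W τ, QuotientGroup.ker_mk']
    rw [← h1, h2]
  have hMc : Nat.card M = p ^ 4 := by
    have h := hcardmap (X ⊔ zpowers g) (hBX.trans le_sup_left)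
    rw [card_sup_zpowers hXn hgX hgpX, hXc] at h
    exact Nat.eq_of_mul_eq_mul_left hp'.pos h
  haveI hMn : M.Normal := normal_of_index_eq_minFac_card (by
    have h := M.card_mul_index
    rw [hMc, hQ2c, pow_succ p 4] at h
    rw [Nat.eq_of_mul_eq_mul_left (pow_pos hp'.pos 4) h, hQ2c, Nat.Prime.pow_minFac hp' (by norm_num)])
  have hXe : ∀ m ∈ X.map τ, m ^ p = 1 := by
    rintro _ ⟨m, hm, rfl⟩
    obtain ⟨d, hd, y, hy, rfl⟩ := mem_sup_of_normal_left.1 hm
    obtain ⟨i, rfl⟩ := mem_zpowers_iff.1 hy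
    rw [← map_pow, hτ, mul_pow_in (le_sup_left : D ≤ X) (fun h _ m hm => hDT h m hm) hXc
      (by norm_num) (by omega) hDexp hd (mem_sup_right (zpow_mem (mem_zpowers x) i)),
      ← zpow_natCast, ← zpow_mul, mul_comm, zpow_mul, zpow_natCast]
    exact zpow_mem hxa i
  have hMe : ∀ m ∈ M, m ^ p = 1 := by
    rintro _ ⟨m, hm, rfl⟩
    obtain ⟨u, hu, y, hy, rfl⟩ := mem_sup_of_normal_left.1 hm
    obtain ⟨i, rfl⟩ := mem_zpowers_iff.1 hy
    haveI : (X.map τ).Normal := Subgroup.Normal.map hXn τ (QuotientGroup.mk'_surjective _)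
    rw [map_mul, mul_pow_in (M := X.map τ) (Subgroup.map_mono (f := τ) le_sup_left)
      (fun h _ m hm => Subgroup.Normal.conj_mem inferInstance m hm h) hMc (by norm_num) (by omega)
      hXe ⟨u, hu, rfl⟩ ⟨g ^ i, mem_sup_right (zpow_mem (mem_zpowers g) i), rfl⟩, ← map_pow, hτ,
      ← zpow_natCast, ← zpow_mul, mul_comm, zpow_mul, zpow_natCast]
    exact zpow_mem hgp i
  have hfinal : (τ g * τ e) ^ p = τ g ^ p * τ e ^ p :=
    PGroups.mul_pow_prime_of_class_lt hp' (lcs_bot_of_card hQ2c (by norm_num) hp5) M hMe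
      (x := τ g) ⟨g, mem_sup_right (mem_zpowers g), rfl⟩ (τ e)
  have hgep : (g * e) ^ p ∈ B := by
    refine hhp (g * e) (fun h' => hgN ?_) ?_ ?_
    · simpa using N.mul_mem h' (inv_mem heN)
    · have e1 : g * e * e * (g * e)⁻¹ = g * e * g⁻¹ := by group
      rw [e1, hge, inv_mul_cancel]
      exact one_mem _
    · have h1 := hDT g _ (hND e heN x hxN)
      have h2 := D.mul_mem h1 hgx
      convert h2 using 1
      rw [commutatorElement_def]
      group
  have hek : e ^ p ∈ B := by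
    rw [← hτ, map_pow]
    rw [← map_mul, ← map_pow, ← map_pow, (hτ _).2 hgep, (hτ _).2 hgp, one_mul] at hfinal
    exact hfinal.symm
  rw [hk] at hek
  obtain ⟨m, hm⟩ := mem_zpowers_iff.1 hek
  have h0 := hindep 0 m (-k) (by rw [zpow_zero, one_mul, hm, ← zpow_add, add_neg_cancel, zpow_zero])
  refine hep ?_
  rw [hk]
  refine hDpow0 b hbD k ?_
  simpa using h0.2.2

end CfsgLib.Fusion.RankThree
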