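import Cfsg.Agent.Lib.Fusion.TransvectionAut
import Cfsg.Agent.Lib.Fusion.NormalCriterion
import Cfsg.Agent.Lib.Fusion.EssentialFlag

/-!
# Transvections on sections of essential subgroups

An invariant homomorphism stays invariant under the automizer of an essential subgroup acting on an
elementary section through transvections; diagonal automorphisms of an elementary essential subgroup;
extension of automorphisms of a subgroup with an invariant composition chain to its normalizer.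
-/

set_option autoImplicit false

namespace CfsgLib.Fusion.TransvAut

open Cfsg Cfsg.FusionSystem CfsgLib.Fusion

section Module

variable {p : ℕ} [hp : Fact p.Prime] {V : Type*} [CommGroup V]

/-- A `p`-element multiplying `b` by a power modulo `D` fixes it modulo `D`. -/
theorem shift_mem (σ : MulAut V) {D : Subgroup V} (hD : ∀ x ∈ D, σ x ∈ D) {b : V} (hbp : b ^ p ∈ D)
    {k : ℕ} (hk : σ ^ p ^ k = 1) {j : ℤ} (hb : σ b * (b ^ j)⁻¹ ∈ D) : σ b * b⁻¹ ∈ D := by
  have hiter : ∀ n : ℕ, (σ ^ n) b * (b ^ (j ^ n))⁻¹ ∈ D := by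
    intro n
    induction n with
    | zero => simp
    | succ n ih =>
      have h1 := D.mul_mem (hD _ ih) (D.zpow_mem hb (j ^ n))
      rw [map_mul, map_inv, map_zpow, mul_zpow, inv_zpow', ← zpow_mul, mul_neg] at h1
      rw [pow_succ' σ, MulAut.mul_apply, pow_succ' j, ← zpow_neg]
      convert h1 using 1
      rw [mul_assoc, ← mul_assoc ((σ b ^ (j ^ n))⁻¹), inv_mul_cancel, one_mul]
  have h1 := hiter (p ^ k)
  rw [hk, MulAut.one_apply] at h1
  have hpow : b ^ ((j ^ p ^ k : ℤ) - 1) ∈ D := by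
    rw [zpow_sub, zpow_one]
    simpa [mul_comm] using D.inv_mem h1
  by_cases hbD : b ∈ D
  · exact D.mul_mem (hD b hbD) (inv_mem hbD)
  have hdvd : (p : ℤ) ∣ j ^ p ^ k - 1 := by
    by_contra hnd
    obtain ⟨u, v, huv⟩ := (Prime.coprime_iff_not_dvd (Nat.prime_iff_prime_int.1 hp.out)).2 hnd
    refine hbD ?_
    rw [← zpow_one b, ← huv, zpow_add, mul_comm u, mul_comm v, zpow_mul, zpow_mul, zpow_natCast]
    exact D.mul_mem (D.zpow_mem hbp u) (D.zpow_mem hpow v)
  have hj : (p : ℤ) ∣ j - 1 := by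
    rw [← ZMod.intCast_zmod_eq_zero_iff_dvd] at hdvd ⊢
    rw [Int.cast_sub, Int.cast_pow, ZMod.pow_card_pow] at hdvd
    rw [Int.cast_sub]
    exact hdvd
  obtain ⟨q, hq⟩ := hj
  have h2 : b ^ (j - 1) ∈ D := by
    rw [hq, zpow_mul, zpow_natCast]
    exact D.zpow_mem hbp q
  have h3 := D.mul_mem hb h2
  rwa [zpow_sub, zpow_one, ← mul_assoc, inv_mul_cancel_right] at h3

variable (hexp : ∀ v : V, v ^ p = 1)

include hexp in
/-- The image of a transvection is fixed. -/
theorem fix_of_img {σ : MulAut V} {a₀ : V} (himg : ∀ v, σ v * v⁻¹ ∈ Subgroup.zpowers a₀) {k : ℕ}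
    (hk : σ ^ p ^ k = 1) : σ a₀ = a₀ := by
  obtain ⟨i, hi⟩ := Subgroup.mem_zpowers_iff.1 (himg a₀)
  have h := shift_mem σ (D := (⊥ : Subgroup V))
    (fun x hx => by rw [Subgroup.mem_bot] at hx ⊢; rw [hx, map_one])
    (b := a₀) (by rw [hexp]; exact one_mem _) hk (j := i + 1) (by
      rw [Subgroup.mem_bot, zpow_add_one, hi, inv_mul_cancel_right, mul_inv_cancel])
  rwa [Subgroup.mem_bot, mul_inv_eq_one] at h

variable [Finite V]

include hexp in
/-- A nontrivial `p`-element of the automorphisms of a group of order `p²` is a transvection. -/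
theorem exists_img_of_sq (hcard : Nat.card V = p ^ 2) {σ : MulAut V} {k : ℕ} (hk : σ ^ p ^ k = 1) :
    ∃ a₀ : V, a₀ ≠ 1 ∧ ∀ v, σ v * v⁻¹ ∈ Subgroup.zpowers a₀ := by
  have hQ : IsPGroup p (Subgroup.zpowers σ) := fun x => ⟨k, by
    obtain ⟨i, hi⟩ := Subgroup.mem_zpowers_iff.1 x.2
    refine Subtype.ext ?_
    rw [SubgroupClass.coe_pow, ← hi, Subgroup.coe_one, ← zpow_natCast, ← zpow_mul, mul_comm,
      zpow_mul, zpow_natCast, hk, one_zpow]⟩
  obtain ⟨a₀, ha₀, hne⟩ := hQ.exists_fixed_point_of_prime_dvd_card_of_fixed_point V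
    (hcard ▸ dvd_pow_self p two_ne_zero) (a := 1) (fun q => map_one (q : MulAut V))
  have hσa : σ a₀ = a₀ := ha₀ ⟨σ, Subgroup.mem_zpowers σ⟩
  have hoa : orderOf a₀ = p := orderOf_eq_prime (hexp a₀) hne.symm
  refine ⟨a₀, hne.symm, fun v => ?_⟩
  by_cases hv : v ∈ Subgroup.zpowers a₀
  · obtain ⟨i, rfl⟩ := Subgroup.mem_zpowers_iff.1 hv
    rw [map_zpow, hσa, mul_inv_cancel]
    exact one_mem _
  have htop : Subgroup.zpowers v ⊔ Subgroup.zpowers a₀ = ⊤ := by
    set H := Subgroup.zpowers v ⊔ Subgroup.zpowers a₀ with hH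
    obtain ⟨e, he, hcH⟩ := (Nat.dvd_prime_pow hp.out).1 (hcard ▸ Subgroup.card_subgroup_dvd_card H)
    have hlt : Nat.card (Subgroup.zpowers a₀) < Nat.card H := by
      refine lt_of_le_of_ne (Subgroup.card_le_of_le le_sup_right) fun h => hv ?_
      rw [Subgroup.eq_of_le_of_card_ge (le_sup_right : Subgroup.zpowers a₀ ≤ H) h.ge]
      exact Subgroup.mem_sup_left (Subgroup.mem_zpowers v)
    rw [Nat.card_zpowers, hoa, hcH] at hlt
    refine Subgroup.eq_top_of_card_eq _ ?_
    have h1e : 1 < e := (Nat.pow_lt_pow_iff_right hp.out.one_lt).1 (by rwa [pow_one])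
    rw [hcH, hcard, show e = 2 by omega]
  obtain ⟨x, hx, y, hy, hxy⟩ := Subgroup.mem_sup.1 (htop.ge (Subgroup.mem_top (σ v)))
  obtain ⟨j, rfl⟩ := Subgroup.mem_zpowers_iff.1 hx
  refine shift_mem σ (fun w hw => ?_) (by rw [hexp]; exact one_mem _) hk (j := j) ?_
  · obtain ⟨i, rfl⟩ := Subgroup.mem_zpowers_iff.1 hw
    rw [map_zpow, hσa]
    exact hw
  · rw [← hxy, mul_comm, inv_mul_cancel_left]
    exact hy

include hexp in
/-- A `p`-group of automorphisms of a group of order `p²` is generated by any nontrivial element. -/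
theorem le_zpowers_of_sq (hcard : Nat.card V = p ^ 2) {Q : Subgroup (MulAut V)} (hQ : IsPGroup p Q)
    {σ : MulAut V} (hσ : σ ∈ Q) (hne : σ ≠ 1) : Q ≤ Subgroup.zpowers σ := by
  obtain ⟨k, hk⟩ := hQ ⟨σ, hσ⟩
  have hk' : σ ^ p ^ k = 1 := congrArg Subtype.val hk
  obtain ⟨a₁, ha₁, hne₁⟩ := hQ.exists_fixed_point_of_prime_dvd_card_of_fixed_point V
    (hcard ▸ dvd_pow_self p two_ne_zero) (a := 1) (fun q => map_one (q : MulAut V))
  have hoa : orderOf a₁ = p := orderOf_eq_prime (hexp a₁) hne₁.symm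
  -- everything fixes `a₁` and moves along it
  have htop : ∀ b, b ∉ Subgroup.zpowers a₁ → ∀ v, ∃ i j : ℤ, v = b ^ i * a₁ ^ j := by
    intro b hb v
    set H := Subgroup.zpowers b ⊔ Subgroup.zpowers a₁ with hH
    obtain ⟨e, he, hcH⟩ := (Nat.dvd_prime_pow hp.out).1 (hcard ▸ Subgroup.card_subgroup_dvd_card H)
    have hlt : Nat.card (Subgroup.zpowers a₁) < Nat.card H := by
      refine lt_of_le_of_ne (Subgroup.card_le_of_le le_sup_right) fun h => hb ?_
      rw [Subgroup.eq_of_le_of_card_ge (le_sup_right : Subgroup.zpowers a₁ ≤ H) h.ge]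
      exact Subgroup.mem_sup_left (Subgroup.mem_zpowers b)
    rw [Nat.card_zpowers, hoa, hcH] at hlt
    have hHt : H = ⊤ := by
      refine Subgroup.eq_top_of_card_eq _ ?_
      have h1e : 1 < e := (Nat.pow_lt_pow_iff_right hp.out.one_lt).1 (by rwa [pow_one])
      rw [hcH, hcard, show e = 2 by omega]
    obtain ⟨x, hx, y, hy, hxy⟩ := Subgroup.mem_sup.1 (hHt.ge (Subgroup.mem_top v))
    obtain ⟨i, rfl⟩ := Subgroup.mem_zpowers_iff.1 hx
    obtain ⟨j, rfl⟩ := Subgroup.mem_zpowers_iff.1 hy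
    exact ⟨i, j, hxy.symm⟩
  obtain ⟨b, hb⟩ : ∃ b, b ∉ Subgroup.zpowers a₁ := by
    by_contra h
    push Not at h
    have : Nat.card (Subgroup.zpowers a₁) = p ^ 2 := by
      rw [(Subgroup.eq_top_iff' _).2 h, Subgroup.card_top, hcard]
    rw [Nat.card_zpowers, hoa] at this
    have := Nat.pow_right_injective hp.out.two_le (this.symm.trans (pow_one p).symm)
    omega
  have hfix : ∀ q ∈ Q, q a₁ = a₁ := fun q hq => ha₁ ⟨q, hq⟩
  have hmv : ∀ q ∈ Q, ∃ i : ℤ, q b = b * a₁ ^ i := by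
    intro q hq
    obtain ⟨m, hm⟩ := hQ ⟨q, hq⟩
    obtain ⟨i, j, hij⟩ := htop b hb (q b)
    have h := shift_mem q (D := Subgroup.zpowers a₁) (fun w hw => by
      obtain ⟨l, rfl⟩ := Subgroup.mem_zpowers_iff.1 hw
      rw [map_zpow, hfix q hq]; exact hw) (b := b) (by rw [hexp]; exact one_mem _)
      (congrArg Subtype.val hm : q ^ p ^ m = 1) (j := i)
      (by rw [hij, mul_comm (b ^ i), mul_inv_cancel_right]
          exact Subgroup.zpow_mem _ (Subgroup.mem_zpowers _) _)
    obtain ⟨l, hl⟩ := Subgroup.mem_zpowers_iff.1 h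
    exact ⟨l, by rw [hl, mul_comm b, inv_mul_cancel_right]⟩
  obtain ⟨i, hi⟩ := hmv σ hσ
  have hi0 : ¬ (p : ℤ) ∣ i := fun ⟨u, hu⟩ => hne (MulEquiv.ext fun v => by
    obtain ⟨x, y, rfl⟩ := htop b hb v
    rw [map_mul, map_zpow, map_zpow, hi, hfix σ hσ, hu, zpow_mul, zpow_natCast, hexp, one_zpow,
      mul_one, MulAut.one_apply])
  obtain ⟨u, v, huv⟩ := (Prime.coprime_iff_not_dvd (Nat.prime_iff_prime_int.1 hp.out)).2 hi0
  intro q hq
  obtain ⟨j, hj⟩ := hmv q hq
  refine Subgroup.mem_zpowers_iff.2 ⟨v * j, MulEquiv.ext fun w => ?_⟩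
  have hs : ∀ n : ℤ, (σ ^ n) b = b * a₁ ^ (i * n) ∧ (σ ^ n) a₁ = a₁ := by
    have hf : ∀ n : ℕ, (σ ^ n) b = b * a₁ ^ (i * n) ∧ (σ ^ n) a₁ = a₁ := by
      intro n
      induction n with
      | zero => simp
      | succ n ih =>
        refine ⟨?_, ?_⟩
        · rw [pow_succ', MulAut.mul_apply, ih.1, map_mul, map_zpow, hi, hfix σ hσ, mul_assoc, ← zpow_add]
          congr 2
          push_cast
          ring
        · rw [pow_succ', MulAut.mul_apply, ih.2, hfix σ hσ]
    intro n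
    obtain ⟨m, rfl | rfl⟩ := n.eq_nat_or_neg
    · rw [zpow_natCast]; exact hf m
    · rw [zpow_neg, zpow_natCast]
      refine ⟨?_, ?_⟩
      · refine (σ ^ m).injective ?_
        rw [MulAut.apply_inv_self, map_mul, map_zpow, (hf m).1, (hf m).2, mul_assoc, ← zpow_add,
          mul_neg, add_neg_cancel, zpow_zero, mul_one]
      · refine (σ ^ m).injective ?_
        rw [MulAut.apply_inv_self, (hf m).2]
  obtain ⟨x, y, rfl⟩ := htop b hb w
  rw [map_mul, map_mul, map_zpow, map_zpow, map_zpow, map_zpow, (hs _).1, (hs _).2, hj, hfix q hq]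
  congr 3
  have e : i * (v * j) = j + (p : ℤ) * (-(u * j)) := by linear_combination j * huv
  rw [e, zpow_add, zpow_mul, zpow_natCast, hexp, one_zpow, mul_one]

end Module

/-- When the image of a Sylow subgroup is `⟨z⟩`, so is every element of order `p` centralizing it. -/
theorem alone_of_sylow {p : ℕ} [hp : Fact p.Prime] {G H : Type*} [Group G] [Finite G] [Group H]
    (L : G →* H) (T : Sylow p G) {z : G} (hT : ∀ t ∈ (T : Subgroup G), L t ∈ Subgroup.zpowers (L z))
    (hz : orderOf (L z) = p) {c : G} (hc : L c * L z = L z * L c) (hcp : L c ^ p = 1) :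
    L c ∈ Subgroup.zpowers (L z) := by
  rcases eq_or_ne (L c) 1 with h1 | h1
  · rw [h1]; exact one_mem _
  set W := Subgroup.zpowers (L c) ⊔ Subgroup.zpowers (L z) with hW
  haveI hfin : Finite L.range := Finite.of_surjective L.rangeRestrict L.rangeRestrict_surjective
  have hWle : W ≤ L.range := sup_le (Subgroup.zpowers_le.2 ⟨c, rfl⟩) (Subgroup.zpowers_le.2 ⟨z, rfl⟩)
  have hzp : IsPGroup p (Subgroup.zpowers (L z)) :=
    IsPGroup.of_card (n := 1) (by rw [Nat.card_zpowers, hz, pow_one])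
  have hcp' : IsPGroup p (Subgroup.zpowers (L c)) :=
    IsPGroup.of_card (n := 1) (by rw [Nat.card_zpowers, orderOf_eq_prime hcp h1, pow_one])
  have hle : Subgroup.zpowers (L c) ≤ Subgroup.normalizer (Subgroup.zpowers (L z) : Set H) := by
    refine Subgroup.zpowers_le.2 (Subgroup.mem_normalizer_iff.2 fun x => ?_)
    have hfix : ∀ y ∈ Subgroup.zpowers (L z), L c * y * (L c)⁻¹ = y := fun y hy => by
      obtain ⟨i, rfl⟩ := Subgroup.mem_zpowers_iff.1 hy
      rw [(show Commute (L c) (L z) from hc).zpow_right i |>.eq, mul_inv_cancel_right]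
    exact ⟨fun hx => by rw [hfix x hx]; exact hx, fun hx => by
      have h := hfix _ hx
      have h2 : L c * x * (L c)⁻¹ = x := by
        have := congrArg (fun t => (L c)⁻¹ * t * L c) h
        simpa [mul_assoc] using this
      rwa [h2] at hx⟩
  have hWp : IsPGroup p W := IsPGroup.to_sup_of_normal_right' hcp' hzp hle
  obtain ⟨P, hP⟩ := (isPGroup_subgroupOf hWle hWp).exists_le_sylow
  set M := T.mapSurjective L.rangeRestrict_surjective with hM
  have hMle : Nat.card (M : Subgroup L.range) ≤ p := by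
    refine le_of_le_of_eq ?_ ((Nat.card_zpowers (L z)).trans hz)
    rw [← Subgroup.card_map_of_injective L.range.subtype_injective]
    haveI : Finite (Subgroup.zpowers (L z)) :=
      Nat.finite_of_card_ne_zero (by rw [Nat.card_zpowers, hz]; exact hp.out.ne_zero)
    refine Subgroup.card_le_of_le ?_
    rintro _ ⟨_, ⟨t, ht, rfl⟩, rfl⟩
    exact hT t ht
  haveI : Finite W := Finite.of_injective _ (Subgroup.inclusion_injective hWle)
  have hWc : Nat.card W ≤ p := by
    rw [← Nat.card_congr (Subgroup.subgroupOfEquivOfLe hWle).toEquiv]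
    refine (Subgroup.card_le_of_le hP).trans ?_
    rwa [Sylow.card_eq_multiplicity P, ← Sylow.card_eq_multiplicity M]
  have : Subgroup.zpowers (L z) = W :=
    Subgroup.eq_of_le_of_card_ge le_sup_right (by rwa [Nat.card_zpowers, hz])
  rw [this]
  exact Subgroup.mem_sup_left (Subgroup.mem_zpowers _)

variable {Ω : Type*} [Group Ω] {S : Subgroup Ω} [Finite S] {F : FusionSystem S} {p : ℕ}
  [hp : Fact p.Prime] {P : Subgroup Ω}

/-- The automorphisms preserving a homomorphism defined on `S`. -/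
def presHom {A : Type*} [CommGroup A] (θ : S →* A) (hPS : P ≤ S) : Subgroup (MulAut P) where
  carrier := {α | ∀ x : P, θ (Subgroup.inclusion hPS (α x)) = θ (Subgroup.inclusion hPS x)}
  one_mem' := fun x => rfl
  mul_mem' := fun {a b} ha hb x => by rw [MulAut.mul_apply, ha, hb]
  inv_mem' := fun {a} ha x => by
    conv_rhs => rw [show x = a (a⁻¹ x) from (MulAut.apply_inv_self P a x).symm]
    rw [ha]

set_option maxHeartbeats 800000 in
/-- An invariant homomorphism is invariant under an automizer acting by transvections on a section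
it factors through. -/
theorem coset_of_quotient (hS : IsPGroup p S) (hF : F.IsSaturated p) {A : Type*} [CommGroup A]
    (hA : ∀ y : A, y * y = 1 → y = 1) (θ : S →* A) (hP : F.IsEssential p P)
    (hup : extGroup F P ≤ presHom θ hP.1.1) (D : Subgroup P) [D.Normal]
    (hDinv : ∀ σ : MulAut P, ∀ x ∈ D, σ x ∈ D) (hab : ∀ x y : P, x * y * (y * x)⁻¹ ∈ D)
    (hpow : ∀ x : P, x ^ p ∈ D) (hθD : ∀ x ∈ D, θ (Subgroup.inclusion hP.1.1 x) = 1)
    (g : normalizerIn S P) (hgne : ∃ x, conjAut g x * x⁻¹ ∉ D)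
    (hd : Nat.card (P ⧸ D) = p ^ 2 ∨
      ((∃ a₀ : P, ∀ x, ∃ i : ℤ, conjAut g x * x⁻¹ * (a₀ ^ i)⁻¹ ∈ D) ∧
        ∀ g' : normalizerIn S P, ∃ i : ℤ, ∀ x, conjAut g' x * ((conjAut g ^ i) x)⁻¹ ∈ D)) :
    F.autGroup P ≤ presHom θ hP.1.1 := by
  classical
  have hPS := hP.1.1
  have := finite_le hPS
  have := finite_mulAut_of_le (S := S) hPS
  letI : CommGroup (P ⧸ D) :=
    { (inferInstance : Group (P ⧸ D)) with
      mul_comm := fun a b => by
        obtain ⟨x, rfl⟩ := QuotientGroup.mk'_surjective D a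
        obtain ⟨y, rfl⟩ := QuotientGroup.mk'_surjective D b
        rw [← map_mul, ← map_mul, ← mul_inv_eq_one, ← map_inv, ← map_mul]
        exact (QuotientGroup.eq_one_iff _).2 (hab x y) }
  set π := QuotientGroup.mk' D with hπ
  have hexp : ∀ v : P ⧸ D, v ^ p = 1 := fun v => by
    obtain ⟨x, rfl⟩ := QuotientGroup.mk'_surjective D v
    rw [← map_pow]
    exact (QuotientGroup.eq_one_iff _).2 (hpow x)
  have hDmap : ∀ σ : MulAut P, D.map σ.toMonoidHom = D := fun σ =>
    le_antisymm (by rintro _ ⟨x, hx, rfl⟩; exact hDinv σ x hx)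
      fun x hx => ⟨σ⁻¹ x, hDinv _ x hx, MulAut.apply_inv_self P σ x⟩
  let L : F.autGroup P →* MulAut (P ⧸ D) :=
    { toFun := fun α => QuotientGroup.congr D D (α : MulAut P) (hDmap _)
      map_one' := MulEquiv.ext fun v => by
        obtain ⟨x, rfl⟩ := QuotientGroup.mk'_surjective D v
        rfl
      map_mul' := fun a b => MulEquiv.ext fun v => by
        obtain ⟨x, rfl⟩ := QuotientGroup.mk'_surjective D v
        rfl }
  have hL : ∀ (α : F.autGroup P) (x : P), L α (π x) = π ((α : MulAut P) x) := fun α x => rfl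
  have hker : ∀ x y : P, π x = π y ↔ x * y⁻¹ ∈ D := fun x y => by
    rw [← mul_inv_eq_one, ← map_inv, ← map_mul]
    exact QuotientGroup.eq_one_iff _
  set c : F.autGroup P := ⟨conjAut g, autInducedBy_le_autGroup hPS (conjAut_mem g)⟩ with hc
  have hgP : (g : Ω) ∉ P := fun hg => by
    obtain ⟨x, hx⟩ := hgne
    refine hx ?_
    have h := hab ⟨g, hg⟩ x
    have e : conjAut g x * x⁻¹ = ⟨(g : Ω), hg⟩ * x * (x * ⟨(g : Ω), hg⟩)⁻¹ := Subtype.ext (by
      simp [mul_assoc])
    rwa [e]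
  obtain ⟨k, hk⟩ := hS ⟨g, g.2.1⟩
  have hgk : conjAut g ^ p ^ k = 1 := by
    have hg1 : g ^ p ^ k = 1 := Subtype.ext (congrArg (fun s : S => (s : Ω)) hk)
    let f : normalizerIn S P →* MulAut P := P.normalizerMonoidHom.comp (Subgroup.inclusion inf_le_right)
    show f g ^ p ^ k = 1
    rw [← map_pow, hg1, map_one]
  have hck : L c ^ p ^ k = 1 := by
    rw [← map_pow, show c ^ p ^ k = 1 from Subtype.ext hgk, map_one]
  have hc1 : L c ≠ 1 := fun h => by
    obtain ⟨x, hx⟩ := hgne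
    refine hx ((hker _ _).1 ?_)
    rw [← hL c x, h, MulAut.one_apply]
  obtain ⟨T, hT⟩ := (IsSaturated.fullyAutomized hS hF hP.2.1).2
  have hcT : c ∈ (T : Subgroup (F.autGroup P)) := hT.ge (conjAut_mem g)
  -- the image of the Sylow subgroup, and the centre
  obtain ⟨⟨a₀, himg⟩, hTz⟩ : (∃ a₀ : P ⧸ D, ∀ v, L c v * v⁻¹ ∈ Subgroup.zpowers a₀) ∧
      ∀ t ∈ (T : Subgroup (F.autGroup P)), L t ∈ Subgroup.zpowers (L c) := by
    rcases hd with hd | ⟨⟨a₀, ha₀⟩, hT'⟩
    · obtain ⟨a₀, -, ha₀⟩ := exists_img_of_sq hexp hd hck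
      refine ⟨⟨a₀, ha₀⟩, fun t ht => ?_⟩
      exact le_zpowers_of_sq hexp hd (T.2.map L) ⟨c, hcT, rfl⟩ hc1 ⟨t, ht, rfl⟩
    · refine ⟨⟨π a₀, fun v => ?_⟩, fun t ht => ?_⟩
      · obtain ⟨x, rfl⟩ := QuotientGroup.mk'_surjective D v
        obtain ⟨i, hi⟩ := ha₀ x
        refine Subgroup.mem_zpowers_iff.2 ⟨i, ?_⟩
        rw [hL, ← map_zpow, ← map_inv, ← map_mul, eq_comm, hker]
        exact hi
      · obtain ⟨g', hg', hgt⟩ := mem_autInducedBy_iff.1 (Subgroup.mem_subgroupOf.1 (hT.le ht))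
        obtain ⟨i, hi⟩ := hT' ⟨g', hg', mem_normalizer_of_conj_eq _ hgt⟩
        refine Subgroup.mem_zpowers_iff.2 ⟨i, MulEquiv.ext fun v => ?_⟩
        obtain ⟨x, rfl⟩ := QuotientGroup.mk'_surjective D v
        rw [← map_zpow, hL, hL, eq_comm, hker,
          show (t : MulAut P) x = conjAut (⟨g', hg', mem_normalizer_of_conj_eq _ hgt⟩ : normalizerIn S P) x
            from Subtype.ext (hgt x), SubgroupClass.coe_zpow]
        exact hi x
  have hfix := fix_of_img hexp himg hck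
  have hcp : L c ^ p = 1 := by
    refine MulEquiv.ext fun v => ?_
    obtain ⟨i, hi⟩ := Subgroup.mem_zpowers_iff.1 (himg v)
    rw [MulAut.one_apply]
    exact PGroups.Transvections.pow_fix (v := a₀ ^ i) (by rw [hi, mul_comm v, inv_mul_cancel_right])
      (by rw [map_zpow, hfix]) (hexp _)
  have hco : orderOf (L c) = p := orderOf_eq_prime hcp hc1
  have hTr : Transv p L c a₀ :=
    ⟨hexp, himg, hfix, hc1, fun d hd1 hd2 => alone_of_sylow L T hTz hco hd1 hd2⟩
  -- the homomorphism on the section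
  let θ' : P ⧸ D →* A := QuotientGroup.lift D (θ.comp (Subgroup.inclusion hPS)) hθD
  have hθ' : ∀ x, θ' (π x) = θ (Subgroup.inclusion hPS x) := fun x => rfl
  have hrec := IsSaturated.receptive hS hF (IsSaturated.fullyCentralized hS hF hP.2.1)
  suffices hN : ∀ n : F.autGroup P, L (n * c * n⁻¹) ∈ Subgroup.zpowers (L c) →
      ∀ v, θ' (L n v) = θ' v by
    intro α hα x
    exact (hTr.invariant hA θ' hN ⟨α, hα⟩ (π x) : _)
  intro n hn
  set U := (Subgroup.zpowers (L c)).comap L with hU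
  have hTU : (T : Subgroup (F.autGroup P)) ≤ U := fun t ht => hTz t ht
  have hxk : (n * c * n⁻¹) ^ p ^ k = 1 := by
    rw [conj_pow, show c ^ p ^ k = 1 from Subtype.ext hgk, mul_one, mul_inv_cancel]
  obtain ⟨P', hP'⟩ : ∃ P' : Sylow p U, (⟨n * c * n⁻¹, hn⟩ : U) ∈ (P' : Subgroup U) := by
    have : IsPGroup p (Subgroup.zpowers (⟨n * c * n⁻¹, hn⟩ : U)) := fun y => ⟨k, by
      obtain ⟨i, hi⟩ := Subgroup.mem_zpowers_iff.1 y.2
      refine Subtype.ext ?_
      rw [SubgroupClass.coe_pow, ← hi, Subgroup.coe_one, ← zpow_natCast, ← zpow_mul, mul_comm,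
        zpow_mul, zpow_natCast, show (⟨n * c * n⁻¹, hn⟩ : U) ^ p ^ k = 1 from Subtype.ext hxk,
        one_zpow]⟩
    obtain ⟨P', h⟩ := this.exists_le_sylow
    exact ⟨P', h (Subgroup.mem_zpowers _)⟩
  obtain ⟨u, hu⟩ := MulAction.exists_smul_eq U P' (T.subtype hTU)
  have hmem : (u : F.autGroup P) * (n * c * n⁻¹) * (u : F.autGroup P)⁻¹ ∈
      (T : Subgroup (F.autGroup P)) := by
    have h1 : u * ⟨n * c * n⁻¹, hn⟩ * u⁻¹ ∈ ((T.subtype hTU : Sylow p U) : Subgroup U) := by
      rw [← hu]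
      exact ⟨_, hP', rfl⟩
    exact h1
  have hun : ((u * n : F.autGroup P) : MulAut P) ∈ extGroup F P := by
    refine mem_extGroup_of_conj hrec (u * n : F.autGroup P).2 g hgP ?_
    have := hT.le hmem
    rw [show (u : F.autGroup P) * (n * c * n⁻¹) * (u : F.autGroup P)⁻¹ =
      (u * n : F.autGroup P) * c * (u * n : F.autGroup P)⁻¹ by group] at this
    exact this
  intro v
  obtain ⟨x, rfl⟩ := QuotientGroup.mk'_surjective D v
  -- the element of `U` preserves `θ'`
  have hu' : ∀ w, θ' (L u w) = θ' w := fun w => by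
    obtain ⟨i, hi⟩ := Subgroup.mem_zpowers_iff.1 (show L u ∈ Subgroup.zpowers (L c) from u.2)
    rw [← hi, ← map_zpow]
    obtain ⟨y, rfl⟩ := QuotientGroup.mk'_surjective D w
    rw [hL, hθ', hθ']
    exact (presHom θ hPS).zpow_mem (hup (autInducedBy_le_extGroup hS
      (lt_of_le_of_ne hPS (isEssential_ne_self hS hF hP)) (conjAut_mem g))) i y
  have h2 : θ' (L (u * n) (π x)) = θ' (π x) := by
    rw [hL, hθ', hθ']
    exact hup hun x
  rwa [map_mul, MulAut.mul_apply, hu'] at h2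

end CfsgLib.Fusion.TransvAut
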