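import Cfsg.Agent.Lib.Fusion.RankThreeRegular
import Cfsg.Agent.Lib.Fusion.TransvectionEssential
import Cfsg.Agent.Lib.Fusion.ChainExtend

/-!
# A three-generated subgroup of index `p` acted on by a transvection

First, the subgroup `Φ` is normalized by `T`. Then, on the quotient of order `p⁴`, a torus forces an
element outside `N` to centralize an elementary abelian subgroup of order `p³`.
-/

set_option autoImplicit false

namespace CfsgLib.Fusion.RankThree

open Subgroup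
open scoped commutatorElement

variable {p : ℕ} [hp : Fact p.Prime]

section Core

variable {T : Type*} [Group T] [Finite T]

/-- The data of the transvection case. -/
structure Transvect (p : ℕ) (N E Φ : Subgroup T) (e x c : T) : Prop where
  hN : N.Normal
  hEN : E ≤ N
  hΦE : Φ ≤ E
  hΦN : ∀ n ∈ N, ∀ u ∈ Φ, n * u * n⁻¹ ∈ Φ
  hΦc : ∀ a ∈ E, ∀ b ∈ E, ⁅a, b⁆ ∈ Φ
  hΦp : ∀ n ∈ N, n ^ p ∈ Φ
  rank : ∀ A B : Subgroup T, B ≤ A → (∀ a ∈ A, ∀ b ∈ B, a * b * a⁻¹ ∈ B) →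
    (∀ a ∈ A, ∀ b ∈ A, ⁅a, b⁆ ∈ B) → (∀ a ∈ A, a ^ p ∈ B) → Nat.card A ≤ p ^ 3 * Nat.card B
  hgen : ∀ Y : Subgroup T, Y ≤ Φ → (∀ a ∈ E, ∀ b ∈ E, ⁅a, b⁆ ∈ Y) → (∀ a ∈ E, a ^ p ∈ Y) → Φ ≤ Y
  he : e ∈ E
  hc : c ∈ E
  hx : x ∈ N
  hxE : x ∉ E
  hv : ⁅e, x⁆ ∈ E
  hv1 : ⁅e, x⁆ ∉ Φ
  hcx : ⁅c, x⁆ ∈ Φ
  hvx : ⁅⁅e, x⁆, x⁆ ∈ Φ
  hcv : c ∉ zpowers ⁅e, x⁆ ⊔ Φ
  hecv : e ∉ zpowers c ⊔ zpowers ⁅e, x⁆ ⊔ Φ
  gen : N = closure {e, x, c} ⊔ Φ

/-- Four independent commuting elements of order `p` are too many. -/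
theorem rank_four (hT : IsPGroup p T)
    (rank : ∀ A B : Subgroup T, B ≤ A → (∀ a ∈ A, ∀ b ∈ B, a * b * a⁻¹ ∈ B) →
      (∀ a ∈ A, ∀ b ∈ A, ⁅a, b⁆ ∈ B) → (∀ a ∈ A, a ^ p ∈ B) → Nat.card A ≤ p ^ 3 * Nat.card B)
    {a₁ a₂ a₃ a₄ : T} (hexp : ∀ a ∈ ({a₁, a₂, a₃, a₄} : Set T), a ^ p = 1)
    (hcomm : ∀ a ∈ ({a₁, a₂, a₃, a₄} : Set T), ∀ b ∈ ({a₁, a₂, a₃, a₄} : Set T), a * b = b * a)
    (h1 : a₁ ≠ 1) (h2 : a₂ ∉ zpowers a₁) (h3 : a₃ ∉ zpowers a₁ ⊔ zpowers a₂)
    (h4 : a₄ ∉ zpowers a₁ ⊔ zpowers a₂ ⊔ zpowers a₃) : False := by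
  have hp' := hp.out
  set A := closure ({a₁, a₂, a₃, a₄} : Set T) with hA
  haveI hAc := isMulCommutative_closure hcomm
  have hmem : ∀ a ∈ ({a₁, a₂, a₃, a₄} : Set T), a ∈ A := fun a ha => subset_closure ha
  have hAexp : ∀ a ∈ A, a ^ p = 1 := by
    intro a ha
    induction ha using closure_induction with
    | mem a ha => exact hexp a ha
    | one => exact one_pow p
    | mul a b ha hb iha ihb =>
      rw [(show Commute a b from congrArg Subtype.val (hAc.is_comm.comm ⟨a, ha⟩ ⟨b, hb⟩)).mul_pow,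
        iha, ihb, one_mul]
    | inv a _ iha => rw [inv_pow, iha, inv_one]
  have hcard : ∀ H : Subgroup T, ∃ i, Nat.card H = p ^ i := fun H =>
    IsPGroup.iff_card.1 (hT.to_subgroup H)
  have hstep : ∀ {H K : Subgroup T} {i j : ℕ}, H ≤ K → ∀ a ∈ K, a ∉ H →
      Nat.card H = p ^ i → Nat.card K = p ^ j → i < j := by
    intro H K i j hHK a haK haH hi hj
    have : Nat.card H < Nat.card K := lt_of_le_of_ne (card_le_of_le hHK) fun e =>
      haH (eq_of_le_of_card_ge hHK e.ge ▸ haK)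
    rw [hi, hj] at this
    exact (Nat.pow_lt_pow_iff_right hp'.one_lt).1 this
  obtain ⟨i₁, e₁⟩ := hcard (zpowers a₁)
  obtain ⟨i₂, e₂⟩ := hcard (zpowers a₁ ⊔ zpowers a₂)
  obtain ⟨i₃, e₃⟩ := hcard (zpowers a₁ ⊔ zpowers a₂ ⊔ zpowers a₃)
  obtain ⟨i₄, e₄⟩ := hcard A
  have f0 : 0 < i₁ := hstep bot_le a₁ (mem_zpowers a₁) (fun h => h1 (mem_bot.1 h))
    (by rw [card_bot, pow_zero]) e₁
  have f1 := hstep le_sup_left a₂ (mem_sup_right (mem_zpowers a₂)) h2 e₁ e₂
  have f2 := hstep le_sup_left a₃ (mem_sup_right (mem_zpowers a₃)) h3 e₂ e₃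
  have f3 := hstep (sup_le (sup_le (zpowers_le.2 (hmem _ (by simp))) (zpowers_le.2 (hmem _ (by simp))))
    (zpowers_le.2 (hmem _ (by simp)))) a₄ (hmem _ (by simp)) h4 e₃ e₄
  have hb := rank A ⊥ bot_le (fun a _ b hb => by rw [mem_bot] at hb; simp [hb])
    (fun a ha b hb => by
      rw [mem_bot, commutatorElement_eq_one_iff_mul_comm]
      exact congrArg Subtype.val (hAc.is_comm.comm ⟨a, ha⟩ ⟨b, hb⟩))
    (fun a ha => by rw [mem_bot]; exact hAexp a ha)
  rw [card_bot, mul_one, e₄] at hb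
  have := (Nat.pow_le_pow_iff_right hp'.one_lt).1 hb
  omega

set_option maxHeartbeats 800000 in
/-- When `Φ` has trivial core it is trivial. -/
theorem transvect_bot (hT : IsPGroup p T) {N E Φ : Subgroup T} {e x c : T}
    (H : Transvect p N E Φ e x c)
    (hcore : ∀ u : T, (∀ h : T, h * u * h⁻¹ ∈ Φ) → u = 1) : Φ = ⊥ := by
  have hp' := hp.out
  have hNn := H.hN
  have hEN := H.hEN
  have hΦE := H.hΦE
  have hΦ' : Φ ≤ N := hΦE.trans hEN
  have hNp : IsPGroup p N := hT.to_subgroup N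
  have heN := hEN H.he
  have hcN := hEN H.hc
  have hconjN : ∀ h : T, ∀ n ∈ N, h * n * h⁻¹ ∈ N := fun h n hn => hNn.conj_mem n hn h
  -- exponent `p`
  have hexp : ∀ n ∈ N, n ^ p = 1 := fun n hn => hcore _ fun h => by
    rw [← conj_pow]; exact H.hΦp _ (hconjN h n hn)
  -- the quotient `N / Φ`
  set Φ' := Φ.subgroupOf N with hΦ'def
  haveI hΦ'n : Φ'.Normal := ⟨fun u hu n => H.hΦN n n.2 u hu⟩
  let π := QuotientGroup.mk' Φ'
  have hπ : ∀ n : N, π n = 1 ↔ (n : T) ∈ Φ := fun n => QuotientGroup.eq_one_iff n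
  set v := ⁅e, x⁆ with hvdef
  have hvN : v ∈ N := hEN H.hv
  have hgenQ : closure ({π ⟨e, heN⟩, π ⟨x, H.hx⟩, π ⟨c, hcN⟩} : Set (N ⧸ Φ')) = ⊤ := by
    have h1 : closure ({e, x, c} : Set T) ≤ N := by
      rw [closure_le]; rintro u (rfl | rfl | rfl) <;> [exact heN; exact H.hx; exact hcN]
    have hN' : closure ({⟨e, heN⟩, ⟨x, H.hx⟩, ⟨c, hcN⟩} : Set N) ⊔ Φ' = ⊤ := by
      refine Subgroup.map_injective N.subtype_injective ?_
      rw [Subgroup.map_sup, MonoidHom.map_closure, ← MonoidHom.range_eq_map, range_subtype,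
        Set.image_insert_eq, Set.image_pair, subgroupOf_map_subtype, inf_of_le_left hΦ']
      exact H.gen.symm
    have h2 := congrArg (Subgroup.map π) hN'
    rw [Subgroup.map_sup, MonoidHom.map_closure, Set.image_insert_eq, Set.image_pair,
      Subgroup.map_top_of_surjective _ (QuotientGroup.mk'_surjective _),
      (Subgroup.map_eq_bot_iff _).2 (QuotientGroup.ker_mk' Φ').ge, sup_bot_eq] at h2
    exact h2
  have hvQ : π ⟨v, hvN⟩ ∈ center (N ⧸ Φ') := by
    have hle : closure ({π ⟨e, heN⟩, π ⟨x, H.hx⟩, π ⟨c, hcN⟩} : Set (N ⧸ Φ')) ≤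
        centralizer ({π ⟨v, hvN⟩} : Set (N ⧸ Φ')) := by
      rw [closure_le]
      rintro z (rfl | rfl | rfl) <;> refine mem_centralizer_singleton_iff.2 ?_ <;>
        rw [← commutatorElement_eq_one_iff_mul_comm, ← map_commutatorElement, hπ]
      · exact H.hΦc e H.he v H.hv
      · have := inv_mem H.hvx
        rwa [commutatorElement_inv] at this
      · exact H.hΦc c H.hc v H.hv
    rw [hgenQ] at hle
    exact mem_center_iff.2 fun g => mem_centralizer_singleton_iff.1 (hle (mem_top g))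
  haveI : (zpowers (π ⟨v, hvN⟩)).Normal := ⟨fun z hz g => by
    rw [mem_center_iff.1 (zpowers_le.2 hvQ hz) g, mul_inv_cancel_right]; exact hz⟩
  have hQc : ∀ s t : N ⧸ Φ', ⁅s, t⁆ ∈ zpowers (π ⟨v, hvN⟩) := fun s t => by
    let μ := QuotientGroup.mk' (zpowers (π ⟨v, hvN⟩))
    rw [← QuotientGroup.eq_one_iff]
    show μ ⁅s, t⁆ = 1
    rw [map_commutatorElement, commutatorElement_eq_one_iff_mul_comm]
    have hgen2 : closure ({μ (π ⟨e, heN⟩), μ (π ⟨x, H.hx⟩), μ (π ⟨c, hcN⟩)} : Set _) = ⊤ := by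
      have h2 := congrArg (Subgroup.map μ) hgenQ
      rw [MonoidHom.map_closure, Set.image_insert_eq, Set.image_pair,
        Subgroup.map_top_of_surjective _ (QuotientGroup.mk'_surjective _)] at h2
      exact h2
    have hc1 : ∀ u w : N, (⁅(u : T), (w : T)⁆) ∈ Φ → μ (π u) * μ (π w) = μ (π w) * μ (π u) := by
      intro u w h
      rw [← commutatorElement_eq_one_iff_mul_comm, ← map_commutatorElement, ← map_commutatorElement,
        (hπ ⁅u, w⁆).2 h, map_one]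
    have hex : μ (π ⟨e, heN⟩) * μ (π ⟨x, H.hx⟩) = μ (π ⟨x, H.hx⟩) * μ (π ⟨e, heN⟩) := by
      rw [← commutatorElement_eq_one_iff_mul_comm, ← map_commutatorElement, ← map_commutatorElement]
      exact (QuotientGroup.eq_one_iff _).2 (mem_zpowers _)
    have hec := hc1 ⟨e, heN⟩ ⟨c, hcN⟩ (H.hΦc e H.he c H.hc)
    have hcx := hc1 ⟨c, hcN⟩ ⟨x, H.hx⟩ H.hcx
    have hall : ∀ a ∈ ({μ (π ⟨e, heN⟩), μ (π ⟨x, H.hx⟩), μ (π ⟨c, hcN⟩)} : Set _),
        ∀ b ∈ ({μ (π ⟨e, heN⟩), μ (π ⟨x, H.hx⟩), μ (π ⟨c, hcN⟩)} : Set _), a * b = b * a := by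
      rintro a (rfl | rfl | rfl) b (rfl | rfl | rfl)
      all_goals first | rfl | assumption | exact hex.symm | exact hec.symm | exact hcx.symm
    exact congrArg Subtype.val ((isMulCommutative_closure hall).is_comm.comm
      (⟨μ s, by rw [hgen2]; trivial⟩ : Subgroup.closure _) ⟨μ t, by rw [hgen2]; trivial⟩)
  -- class two
  have hcent : ∀ u ∈ N, ∀ w ∈ N, ∀ n ∈ N, n * ⁅u, w⁆ = ⁅u, w⁆ * n := by
    intro u hu w hw n hn
    refine (commutatorElement_eq_one_iff_mul_comm.1 (hcore _ fun h => ?_)).symm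
    have hh : ∀ s t : T, h * ⁅s, t⁆ * h⁻¹ = ⁅h * s * h⁻¹, h * t * h⁻¹⁆ :=
      map_commutatorElement (MulAut.conj h).toMonoidHom
    rw [hh, hh]
    show ((⁅⁅(⟨_, hconjN h u hu⟩ : N), (⟨_, hconjN h w hw⟩ : N)⁆, (⟨_, hconjN h n hn⟩ : N)⁆ : N) : T)
      ∈ Φ
    rw [← hπ, map_commutatorElement, map_commutatorElement, commutatorElement_eq_one_iff_mul_comm]
    exact (mem_center_iff.1 (zpowers_le.2 hvQ (hQc _ _)) _).symm
  have hsub : Φ ≤ (frattini N).map N.subtype := by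
    refine le_trans (H.hgen (Φ ⊓ (frattini N).map N.subtype) inf_le_left (fun a ha b hb => ?_)
      (fun a ha => ?_)) inf_le_right
    · exact ⟨H.hΦc a ha b hb, ⁅(⟨a, hEN ha⟩ : N), ⟨b, hEN hb⟩⁆,
        PGroups.commutator_le_frattini' hNp (commutator_mem_commutator (mem_top _) (mem_top _)), rfl⟩
    · exact ⟨H.hΦp a (hEN ha), ⟨a, hEN ha⟩ ^ p, PGroups.pow_mem_frattini hNp _, rfl⟩
  -- the commutators with `c`
  set w := ⁅e, c⁆ with hwdef
  set w' := ⁅x, c⁆ with hw'def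
  have hwΦ : w ∈ Φ := H.hΦc e H.he c H.hc
  have hw'Φ : w' ∈ Φ := by
    rw [hw'def, ← commutatorElement_inv]; exact inv_mem H.hcx
  have hv1 : v ≠ 1 := fun h => H.hv1 (by rw [← hvdef, h]; exact one_mem _)
  have cv : ∀ n ∈ N, n * v = v * n := hcent e heN x H.hx
  have cw : ∀ n ∈ N, n * w = w * n := hcent e heN c hcN
  have cw' : ∀ n ∈ N, n * w' = w' * n := hcent x H.hx c hcN
  have hwN := hΦ' hwΦ
  have hw'N := hΦ' hw'Φ
  have hvΦle : ∀ {W : Subgroup T}, W ≤ Φ → zpowers v ⊔ W ≤ zpowers v ⊔ Φ := fun h =>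
    sup_le_sup_left h _
  have hnotv : ∀ {W : Subgroup T}, W ≤ Φ → v ∉ W := fun h hv => H.hv1 (h hv)
  have hw1 : w = 1 := by
    by_contra hw
    by_cases hw' : w' ∈ zpowers w
    · obtain ⟨j, hj⟩ := mem_zpowers_iff.1 hw'
      set y := x * (e ^ j)⁻¹ with hy
      have hyN : y ∈ N := N.mul_mem H.hx (inv_mem (N.zpow_mem heN j))
      have hyc : y * c = c * y := by
        have he1 : e * c * e⁻¹ = w * c := by rw [hwdef, commutatorElement_def]; group
        have h1 : e ^ j * c * (e ^ j)⁻¹ = w ^ j * c := by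
          have h2 : ∀ m : ℕ, e ^ m * c * (e ^ m)⁻¹ = w ^ m * c := by
            intro m
            induction m with
            | zero => simp
            | succ m ih =>
              calc e ^ (m + 1) * c * (e ^ (m + 1))⁻¹ = e * (e ^ m * c * (e ^ m)⁻¹) * e⁻¹ := by
                    rw [pow_succ']; group
                _ = e * w ^ m * e⁻¹ * (e * c * e⁻¹) := by rw [ih]; group
                _ = w ^ (m + 1) * c := by
                    rw [← conj_pow, cw e heN, mul_inv_cancel_right, he1, ← mul_assoc, ← pow_succ]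
          obtain ⟨m, hm⟩ : ∃ m : ℕ, (p : ℤ) ∣ j - m := ⟨(j % p).toNat, by
            rw [Int.toNat_of_nonneg (Int.emod_nonneg _ (by exact_mod_cast hp'.ne_zero))]
            exact Int.dvd_self_sub_emod⟩
          obtain ⟨q, hq⟩ := hm
          have hred : ∀ u ∈ N, u ^ j = u ^ m := fun u hu => by
            rw [show j = m + (p : ℤ) * q by rw [← hq]; ring, zpow_add, zpow_mul, zpow_natCast,
              zpow_natCast, hexp u hu, one_zpow, mul_one]
          rw [hred e heN, hred w hwN]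
          exact h2 m
        have hx1 : x * c * x⁻¹ = w' * c := by rw [hw'def, commutatorElement_def]; group
        have h4 : w ^ j * (y * c * y⁻¹) = w' * c := by
          have e1 : w ^ j * (y * c * y⁻¹) = y * (w ^ j * c) * y⁻¹ := by
            have := ((show Commute y w from cw y hyN).zpow_right j).eq
            calc w ^ j * (y * c * y⁻¹) = w ^ j * y * c * y⁻¹ := by group
              _ = y * w ^ j * c * y⁻¹ := by rw [← this]
              _ = _ := by group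
          rw [e1, ← h1, ← hx1, hy]; group
        have h5 : y * c * y⁻¹ = c := by
          have := congrArg (fun t => (w ^ j)⁻¹ * t) h4
          simpa [← hj, inv_mul_cancel_left] using this
        exact mul_inv_eq_iff_eq_mul.1 h5
      refine rank_four hT H.rank (a₁ := w) (a₂ := v) (a₃ := c) (a₄ := y) ?_ ?_ hw ?_ ?_ ?_
      · rintro a (rfl | rfl | rfl | rfl)
        exacts [hexp _ hwN, hexp _ hvN, hexp _ hcN, hexp _ hyN]
      · rintro a (rfl | rfl | rfl | rfl) b (rfl | rfl | rfl | rfl)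
        all_goals first
          | rfl
          | exact hyc
          | exact hyc.symm
          | exact cw _ ‹_›
          | exact (cw _ ‹_›).symm
          | exact cv _ ‹_›
          | exact (cv _ ‹_›).symm
      · exact hnotv (zpowers_le.2 hwΦ)
      · exact fun h => H.hcv (sup_le (le_sup_of_le_right (zpowers_le.2 hwΦ)) le_sup_left h)
      · intro h
        have hyE : y ∈ E := (sup_le (sup_le (zpowers_le.2 (hΦE hwΦ)) (zpowers_le.2 H.hv))
          (zpowers_le.2 H.hc)) h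
        refine H.hxE ?_
        have := E.mul_mem hyE (E.zpow_mem H.he j)
        rwa [hy, inv_mul_cancel_right] at this
    · refine rank_four hT H.rank (a₁ := w) (a₂ := w') (a₃ := v) (a₄ := e) ?_ ?_ hw hw'
        (hnotv (sup_le (zpowers_le.2 hwΦ) (zpowers_le.2 hw'Φ))) ?_
      · rintro a (rfl | rfl | rfl | rfl)
        exacts [hexp _ hwN, hexp _ hw'N, hexp _ hvN, hexp _ heN]
      · rintro a (rfl | rfl | rfl | rfl) b (rfl | rfl | rfl | rfl)
        all_goals first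
          | rfl
          | exact cw _ ‹_›
          | exact (cw _ ‹_›).symm
          | exact cw' _ ‹_›
          | exact (cw' _ ‹_›).symm
          | exact cv _ ‹_›
          | exact (cv _ ‹_›).symm
      · exact fun h => H.hecv (sup_le (sup_le (le_sup_of_le_right (zpowers_le.2 hwΦ))
          (le_sup_of_le_right (zpowers_le.2 hw'Φ))) (le_sup_of_le_left le_sup_right) h)
  have hec : e * c = c * e := commutatorElement_eq_one_iff_mul_comm.1 hw1
  have hw'1 : w' = 1 := by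
    by_contra hw'
    refine rank_four hT H.rank (a₁ := w') (a₂ := v) (a₃ := c) (a₄ := e) ?_ ?_ hw'
      (hnotv (zpowers_le.2 hw'Φ)) ?_ ?_
    · rintro a (rfl | rfl | rfl | rfl)
      exacts [hexp _ hw'N, hexp _ hvN, hexp _ hcN, hexp _ heN]
    · rintro a (rfl | rfl | rfl | rfl) b (rfl | rfl | rfl | rfl)
      all_goals first
        | rfl
        | exact hec
        | exact hec.symm
        | exact cw' _ ‹_›
        | exact (cw' _ ‹_›).symm
        | exact cv _ ‹_›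
        | exact (cv _ ‹_›).symm
    · exact fun h => H.hcv (sup_le (le_sup_of_le_right (zpowers_le.2 hw'Φ)) le_sup_left h)
    · exact fun h => H.hecv (sup_le (sup_le (le_sup_of_le_right (zpowers_le.2 hw'Φ))
        (le_sup_of_le_left le_sup_right)) (le_sup_of_le_left le_sup_left) h)
  have hcx : c * x = x * c := (commutatorElement_eq_one_iff_mul_comm.1 hw'1).symm
  -- the commutators of `N` are powers of `v`
  have hgenN : closure ({⟨e, heN⟩, ⟨x, H.hx⟩, ⟨c, hcN⟩} : Set N) = ⊤ := by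
    refine PGroups.closure_eq_top_of_sup_frattini ?_
    refine Subgroup.map_injective N.subtype_injective ?_
    rw [Subgroup.map_sup, MonoidHom.map_closure, ← MonoidHom.range_eq_map, range_subtype,
      Set.image_insert_eq, Set.image_pair]
    refine le_antisymm (sup_le ?_ (map_subtype_le _)) ?_
    · rw [closure_le]; rintro u (rfl | rfl | rfl) <;> [exact heN; exact H.hx; exact hcN]
    · conv_lhs => rw [H.gen]
      exact sup_le le_sup_left (le_sup_of_le_right hsub)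
  set vN : N := ⟨v, hvN⟩ with hvNdef
  haveI : (zpowers vN).Normal := ⟨fun z hz g => by
    have hvc : vN ∈ center N := mem_center_iff.2 fun m => Subtype.ext (cv m m.2)
    rw [mem_center_iff.1 (zpowers_le.2 hvc hz) g, mul_inv_cancel_right]; exact hz⟩
  have hNv : ∀ s t : N, ⁅s, t⁆ ∈ zpowers vN := fun s t => by
    let μ := QuotientGroup.mk' (zpowers vN)
    rw [← QuotientGroup.eq_one_iff]
    show μ ⁅s, t⁆ = 1
    rw [map_commutatorElement, commutatorElement_eq_one_iff_mul_comm]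
    have hgen2 : closure ({μ ⟨e, heN⟩, μ ⟨x, H.hx⟩, μ ⟨c, hcN⟩} : Set _) = ⊤ := by
      have h2 := congrArg (Subgroup.map μ) hgenN
      rw [MonoidHom.map_closure, Set.image_insert_eq, Set.image_pair,
        Subgroup.map_top_of_surjective _ (QuotientGroup.mk'_surjective _)] at h2
      exact h2
    have hex : μ ⟨e, heN⟩ * μ ⟨x, H.hx⟩ = μ ⟨x, H.hx⟩ * μ ⟨e, heN⟩ := by
      rw [← commutatorElement_eq_one_iff_mul_comm, ← map_commutatorElement]
      exact (QuotientGroup.eq_one_iff _).2 (mem_zpowers vN)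
    have h1 : μ ⟨e, heN⟩ * μ ⟨c, hcN⟩ = μ ⟨c, hcN⟩ * μ ⟨e, heN⟩ := by
      rw [← map_mul, ← map_mul]; exact congrArg μ (Subtype.ext hec)
    have h2 : μ ⟨c, hcN⟩ * μ ⟨x, H.hx⟩ = μ ⟨x, H.hx⟩ * μ ⟨c, hcN⟩ := by
      rw [← map_mul, ← map_mul]; exact congrArg μ (Subtype.ext hcx)
    have hall : ∀ a ∈ ({μ ⟨e, heN⟩, μ ⟨x, H.hx⟩, μ ⟨c, hcN⟩} : Set _),
        ∀ b ∈ ({μ ⟨e, heN⟩, μ ⟨x, H.hx⟩, μ ⟨c, hcN⟩} : Set _), a * b = b * a := by
      rintro a (rfl | rfl | rfl) b (rfl | rfl | rfl)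
      all_goals first | rfl | assumption | exact hex.symm | exact h1.symm | exact h2.symm
    exact congrArg Subtype.val ((isMulCommutative_closure hall).is_comm.comm
      (⟨μ s, by rw [hgen2]; trivial⟩ : Subgroup.closure _) ⟨μ t, by rw [hgen2]; trivial⟩)
  refine le_bot_iff.1 (H.hgen ⊥ bot_le (fun a ha b hb => ?_) (fun a ha => ?_))
  · obtain ⟨i, hi⟩ := mem_zpowers_iff.1 (hNv ⟨a, hEN ha⟩ ⟨b, hEN hb⟩)
    have hi' : v ^ i = ⁅a, b⁆ := congrArg Subtype.val hi
    rw [mem_bot, ← hi']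
    have hd : (p : ℤ) ∣ i := by
      by_contra hd
      obtain ⟨u, u', huv⟩ := (Prime.coprime_iff_not_dvd (Nat.prime_iff_prime_int.1 hp')).2 hd
      refine H.hv1 ?_
      rw [← hvdef, ← zpow_one v, ← huv, zpow_add, mul_comm u, mul_comm u', zpow_mul, zpow_mul,
        zpow_natCast, hexp v hvN, one_zpow, one_mul]
      exact Φ.zpow_mem (by rw [hi']; exact H.hΦc a ha b hb) u'
    obtain ⟨q, rfl⟩ := hd
    rw [zpow_mul, zpow_natCast, hexp v hvN, one_zpow]
  · rw [mem_bot]; exact hexp a (hEN ha)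

end Core

section Plane

variable {Q : Type*} [Group Q] [Finite Q]

/-- The quotient of order `p⁴`. -/
structure Plane (p : ℕ) (e x c v : Q) (E : Subgroup Q) : Prop where
  exp : ∀ q : Q, q ^ p = 1
  cZ : c ∈ center Q
  vZ : v ∈ center Q
  hv : ⁅e, x⁆ = v
  hE : E = zpowers c ⊔ zpowers v ⊔ zpowers e
  hx : x ∉ E
  he : e ∉ zpowers c ⊔ zpowers v
  hc : c ∉ zpowers v
  v1 : v ≠ 1
  card : Nat.card Q = p ^ 4

variable {e x c v : Q} {E : Subgroup Q}

/-- `a ^ i = 1` forces `p ∣ i` for `a ≠ 1`. -/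
theorem Plane.dvd (H : Plane p e x c v E) {a : Q} (ha : a ≠ 1) {i : ℤ} (h : a ^ i = 1) :
    (p : ℤ) ∣ i := by
  rw [← orderOf_eq_prime (H.exp a) ha]
  exact orderOf_dvd_iff_zpow_eq_one.2 h

omit hp [Finite Q] in
/-- Exponents only matter modulo `p`. -/
theorem Plane.zpow_congr (H : Plane p e x c v E) (a : Q) {i j : ℤ} (h : (p : ℤ) ∣ i - j) :
    a ^ i = a ^ j := by
  obtain ⟨q, hq⟩ := h
  rw [show i = j + (p : ℤ) * q by rw [← hq]; ring, zpow_add, zpow_mul, zpow_natCast, H.exp,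
    one_zpow, mul_one]

/-- A subgroup is left when an exponent is prime to `p`. -/
theorem Plane.dvd_of_mem (H : Plane p e x c v E) {a : Q} {W : Subgroup Q} (ha : a ∉ W) {i : ℤ}
    (h : a ^ i ∈ W) : (p : ℤ) ∣ i := by
  by_contra hd
  obtain ⟨u, u', huv⟩ := (Prime.coprime_iff_not_dvd (Nat.prime_iff_prime_int.1 hp.out)).2 hd
  refine ha ?_
  rw [← zpow_one a, ← huv, zpow_add, mul_comm u, mul_comm u', zpow_mul, zpow_mul, zpow_natCast,
    H.exp, one_zpow, one_mul]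
  exact W.zpow_mem h u'

set_option maxHeartbeats 1600000 in
/-- The torus aligns the outer element. -/
theorem plane_main {A : Type*} [Group A] (δ : A →* MulAut Q) (I : Subgroup A)
    (hI : ∀ ι ∈ I, ∃ n : Q, δ ι = MulAut.conj n) (H : Plane p e x c v E) (hp5 : 5 ≤ p)
    (hinn : ∀ β : A, (∀ u ∈ E, δ β u ∈ E) → (∃ k : ℕ, ∀ u ∈ E, (δ β ^ p ^ k) u = u) → β ∈ I)
    (hconj : ∀ n : Q, ∃ ι ∈ I, δ ι = MulAut.conj n)
    {α γ : A} {t s : ℤ} (hts : (p : ℤ) ∣ t * s - 1)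
    (ht : ∀ k ∈ ({1, 2, 3, 5} : Finset ℕ), ¬ (p : ℤ) ∣ t ^ k - 1)
    (hαe : (δ α e) * (e ^ s)⁻¹ ∈ zpowers c ⊔ zpowers v)
    (hαc : δ α c * c⁻¹ ∈ zpowers v) (hαv : δ α v = v ^ t)
    (hαE : ∀ u ∈ E, δ α u ∈ E) (hαx : δ α x * (x ^ (t * t))⁻¹ ∈ E)
    (hγp : ∃ k : ℕ, δ γ ^ p ^ k = 1) (hγE : ∃ u ∈ E, δ γ u ∉ E) :
    ∃ n₀ : Q, ∀ γ' : A, δ γ' = MulAut.conj n₀ * δ γ →
      ∃ X : Subgroup Q, Nat.card X = p ^ 3 ∧ center Q ≤ X ∧ (∀ a ∈ X, ∀ b ∈ X, a * b = b * a) ∧
        (∀ a ∈ X, δ γ' a = a) ∧ (∀ q : Q, δ γ' ^ p = 1 ∧ (q ∈ center Q →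
          ∃ i j l : ℤ, q = c ^ i * v ^ j ∧ δ α q = c ^ i * v ^ (l * i + t * j))) ∧
        ∃ μ : ℕ, (p : ℤ) ∣ (μ : ℤ) - t ^ 3 ∧ ∃ ι ∈ I, α * γ' * α⁻¹ = ι * γ' ^ μ ∧
          ∀ n : Q, δ ι = MulAut.conj n → n ∈ X := by
  classical
  have hp' := hp.out
  have hexp := H.exp
  set Z := zpowers c ⊔ zpowers v with hZdef
  have hZc : Z ≤ center Q := sup_le (zpowers_le.2 H.cZ) (zpowers_le.2 H.vZ)
  haveI hZn : Z.Normal := ⟨fun z hz g => by
    rw [mem_center_iff.1 (hZc hz) g, mul_inv_cancel_right]; exact hz⟩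
  have hEeq : E = Z ⊔ zpowers e := H.hE
  have hZE : Z ≤ E := hEeq ▸ le_sup_left
  have heE : e ∈ E := hEeq ▸ mem_sup_right (mem_zpowers e)
  have hZdec : ∀ z ∈ Z, ∃ i j : ℤ, z = c ^ i * v ^ j := by
    intro z hz
    haveI : (zpowers v).Normal := ⟨fun w hw g => by
      rw [mem_center_iff.1 (zpowers_le.2 H.vZ hw) g, mul_inv_cancel_right]; exact hw⟩
    obtain ⟨a, ha, b, hb, rfl⟩ := mem_sup_of_normal_right.1 hz
    obtain ⟨i, rfl⟩ := mem_zpowers_iff.1 ha
    obtain ⟨j, rfl⟩ := mem_zpowers_iff.1 hb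
    exact ⟨i, j, rfl⟩
  have hcard2 : ∀ {a : Q}, a ≠ 1 → Nat.card (zpowers a) = p := fun {a} ha => by
    rw [Nat.card_zpowers, orderOf_eq_prime (hexp a) ha]
  have hvn : (zpowers v).Normal := ⟨fun w hw g => by
    rw [mem_center_iff.1 (zpowers_le.2 H.vZ hw) g, mul_inv_cancel_right]; exact hw⟩
  have hZcard : Nat.card Z = p ^ 2 := by
    rw [hZdef, sup_comm, card_sup_zpowers hvn H.hc (by rw [hexp]; exact one_mem _), hcard2 H.v1,
      pow_two]
  have hEc : Nat.card E = p ^ 3 := by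
    rw [hEeq, card_sup_zpowers hZn H.he (by rw [hexp]; exact one_mem _), hZcard, ← pow_succ']
  haveI hEn : E.Normal := normal_of_index_eq_minFac_card (by
    have h := E.card_mul_index
    rw [hEc, H.card, pow_succ p 3] at h
    rw [Nat.eq_of_mul_eq_mul_left (pow_pos hp'.pos 3) h, H.card, Nat.Prime.pow_minFac hp' (by norm_num)])
  -- the centre
  have hctr : center Q = Z := by
    refine le_antisymm (fun q hq => ?_) hZc
    by_contra hqZ
    have hlt : Z < center Q := lt_of_le_of_ne hZc fun h => hqZ (h ▸ hq)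
    obtain ⟨i, hi⟩ := IsPGroup.iff_card.1 ((IsPGroup.of_card H.card).to_subgroup (center Q))
    have h1 : p ^ 2 < p ^ i := by
      rw [← hi, ← hZcard]
      exact lt_of_le_of_ne (card_le_of_le hlt.le) fun h => hlt.ne (eq_of_le_of_card_ge hlt.le h.ge)
    have h2 := (Nat.pow_lt_pow_iff_right hp'.one_lt).1 h1
    have hcyc : IsCyclic (Q ⧸ center Q) := by
      have h := (center Q).card_eq_card_quotient_mul_card_subgroup
      rw [H.card, hi] at h
      have hle : Nat.card (Q ⧸ center Q) ≤ p := by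
        refine Nat.le_of_mul_le_mul_right ?_ (pow_pos hp'.pos i)
        rw [← h, ← pow_succ']
        exact Nat.pow_le_pow_right hp'.pos (by omega)
      obtain ⟨j, hj⟩ := IsPGroup.iff_card.1 ((IsPGroup.of_card H.card).to_quotient (center Q))
      rw [hj] at hle
      rcases (show j = 0 ∨ j = 1 by
        have := (Nat.pow_le_pow_iff_right hp'.one_lt).1 (hle.trans (pow_one p).ge); omega)
        with rfl | rfl
      · haveI : Subsingleton (Q ⧸ center Q) :=
          (Nat.card_eq_one_iff_unique.1 (by rw [hj, pow_zero])).1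
        exact isCyclic_of_subsingleton
      · exact isCyclic_of_prime_card (by rw [hj, pow_one])
    have := (isMulCommutative_of_isCyclic_quotient_center_self Q).is_comm.comm e x
    exact H.v1 (by rw [← H.hv]; exact commutatorElement_eq_one_iff_mul_comm.2 this)
  have hEcomm : ∀ a ∈ E, ∀ b ∈ E, a * b = b * a := by
    have hd : ∀ a ∈ E, ∃ z ∈ Z, ∃ i : ℤ, a = z * e ^ i := fun a ha => by
      obtain ⟨z, hz, y, hy, rfl⟩ := mem_sup_of_normal_left.1 (hEeq ▸ ha)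
      obtain ⟨i, rfl⟩ := mem_zpowers_iff.1 hy
      exact ⟨z, hz, i, rfl⟩
    intro a ha b hb
    obtain ⟨z, hz, i, rfl⟩ := hd a ha
    obtain ⟨z', hz', j, rfl⟩ := hd b hb
    have hcomm : Commute (z * e ^ i) z' := mem_center_iff.1 (hZc hz') _
    have hcomm' : Commute (z * e ^ i) (e ^ j) :=
      (show Commute z (e ^ j) from (mem_center_iff.1 (hZc hz) (e ^ j)).symm).mul_left
        ((Commute.refl e).zpow_zpow i j)
    exact (hcomm.mul_right hcomm').eq
  have hZchar : ∀ (σ : MulAut Q), ∀ z ∈ Z, σ z ∈ Z := fun σ z hz => by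
    rw [← hctr] at hz ⊢
    exact (Subgroup.characteristic_iff_map_eq.1 (inferInstance : (center Q).Characteristic) σ).le
      ⟨z, hz, rfl⟩
  -- commutators lie in `⟨v⟩`
  have htopE : E ⊔ zpowers x = ⊤ := by
    refine eq_top_of_card_eq _ ?_
    rw [card_sup_zpowers hEn H.hx (by rw [hexp]; exact one_mem _), hEc, H.card, ← pow_succ']
  haveI := hvn
  have hVc : ∀ a b : Q, ⁅a, b⁆ ∈ zpowers v := fun a b => by
    let μ := QuotientGroup.mk' (zpowers v)
    rw [← QuotientGroup.eq_one_iff]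
    show μ ⁅a, b⁆ = 1
    rw [map_commutatorElement, commutatorElement_eq_one_iff_mul_comm]
    have hle : ∀ q : Q, μ e * μ q = μ q * μ e → μ x * μ q = μ q * μ x → ∀ r, μ r * μ q = μ q * μ r := by
      intro q h1 h2 r
      have hsub : (⊤ : Subgroup Q) ≤ (centralizer ({μ q} : Set _)).comap μ := by
        rw [← htopE, hEeq]
        refine sup_le (sup_le (fun z hz => mem_centralizer_singleton_iff.2 ?_) (zpowers_le.2
          (mem_centralizer_singleton_iff.2 h1))) (zpowers_le.2 (mem_centralizer_singleton_iff.2 h2))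
        rw [← map_mul, ← map_mul, mem_center_iff.1 (hZc hz) q]
      exact mem_centralizer_singleton_iff.1 (hsub (mem_top r))
    have hex : μ e * μ x = μ x * μ e := by
      rw [← commutatorElement_eq_one_iff_mul_comm, ← map_commutatorElement, H.hv]
      exact (QuotientGroup.eq_one_iff _).2 (mem_zpowers v)
    refine hle b ?_ ?_ a
    · exact (hle e rfl hex.symm b).symm
    · exact (hle x hex rfl b).symm
  have hVchar : ∀ σ : MulAut Q, σ v ∈ zpowers v := fun σ => by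
    rw [← H.hv, map_commutatorElement, H.hv]
    exact hVc _ _
  -- the action of `γ`
  obtain ⟨k, hk⟩ := hγp
  set g := δ γ with hgdef
  have hgV : g v = v := by
    have h := TransvAut.fix_section (D := (⊥ : Subgroup Q)) (T := zpowers v) bot_le
      (by rw [hcard2 H.v1, card_bot, mul_one]) (σ := g)
      (fun a ha => by
        obtain ⟨i, rfl⟩ := mem_zpowers_iff.1 ha
        rw [map_zpow]
        exact zpow_mem (hVchar g) i)
      (fun a ha => by rw [mem_bot] at ha ⊢; rw [ha, map_one]) hk (mem_zpowers v)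
    exact (inv_mul_eq_one.1 (mem_bot.1 h)).symm
  obtain ⟨ρ, hρ⟩ : ∃ ρ : ℤ, g c = c * v ^ ρ := by
    have h := TransvAut.fix_section (D := zpowers v) (T := Z) le_sup_right
      (by rw [hZcard, hcard2 H.v1, pow_two]) (σ := g) (hZchar g)
      (fun a ha => by
        obtain ⟨i, rfl⟩ := mem_zpowers_iff.1 ha
        rw [map_zpow, hgV]
        exact zpow_mem (mem_zpowers v) i) hk (mem_sup_left (mem_zpowers c) : c ∈ Z)
    obtain ⟨ρ, hρ⟩ := mem_zpowers_iff.1 h
    exact ⟨ρ, by rw [hρ, mul_inv_cancel_left]⟩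
  -- the fixed subgroup over the centre
  have hge : g e ∉ E := fun h => by
    obtain ⟨u, hu, hu'⟩ := hγE
    rw [hEeq] at hu
    obtain ⟨z, hz, y, hy, rfl⟩ := mem_sup_of_normal_left.1 hu
    obtain ⟨i, rfl⟩ := mem_zpowers_iff.1 hy
    rw [map_mul, map_zpow] at hu'
    exact hu' (E.mul_mem (hZE (hZchar g z hz)) (E.zpow_mem h i))
  obtain ⟨x₁, hx₁def⟩ : ∃ a, a = e⁻¹ * g e := ⟨_, rfl⟩
  have hgx₁ : g e = e * x₁ := by rw [hx₁def, mul_inv_cancel_left]
  have hx₁E : x₁ ∉ E := fun h => hge (hgx₁ ▸ E.mul_mem heE h)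
  have hQdec : ∀ {y : Q}, y ∉ E → ∀ q : Q, ∃ z ∈ Z, ∃ i j : ℤ, q = z * e ^ i * y ^ j := by
    intro y hy q
    have htop : E ⊔ zpowers y = ⊤ := by
      refine eq_top_of_card_eq _ ?_
      rw [card_sup_zpowers hEn hy (by rw [hexp]; exact one_mem _), hEc, H.card, ← pow_succ']
    obtain ⟨u, hu, w, hw, rfl⟩ := mem_sup_of_normal_left.1 (htop.ge (mem_top q))
    obtain ⟨z, hz, w', hw', rfl⟩ := mem_sup_of_normal_left.1 (hEeq ▸ hu)
    obtain ⟨i, rfl⟩ := mem_zpowers_iff.1 hw'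
    obtain ⟨j, rfl⟩ := mem_zpowers_iff.1 hw
    exact ⟨z, hz, i, j, rfl⟩
  -- in the quotient by the centre
  let μ := QuotientGroup.mk' Z
  have hμ : ∀ q, μ q = 1 ↔ q ∈ Z := fun q => QuotientGroup.eq_one_iff q
  have hμab : ∀ a b : Q, μ a * μ b = μ b * μ a := fun a b => by
    rw [← commutatorElement_eq_one_iff_mul_comm, ← map_commutatorElement, hμ]
    exact zpowers_le.2 (mem_sup_right (mem_zpowers v)) (hVc a b)
  letI : CommGroup (Q ⧸ Z) :=
    { (inferInstance : Group (Q ⧸ Z)) with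
      mul_comm := fun a b => by
        obtain ⟨a, rfl⟩ := QuotientGroup.mk'_surjective Z a
        obtain ⟨b, rfl⟩ := QuotientGroup.mk'_surjective Z b
        exact hμab a b }
  have hμexp : ∀ a : Q ⧸ Z, a ^ p = 1 := fun a => by
    obtain ⟨a, rfl⟩ := QuotientGroup.mk'_surjective Z a
    rw [← map_pow, hexp, map_one]
  have hgx₁Z : μ (g x₁) = μ x₁ := by
    have hgZ : Z.map g.toMonoidHom = Z := eq_of_le_of_card_ge
      (fun a ⟨b, hb, e⟩ => e ▸ hZchar g b hb) (card_map_of_injective g.injective).ge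
    let σ : MulAut (Q ⧸ Z) := QuotientGroup.congr Z Z g hgZ
    have hσ : ∀ q, σ (μ q) = μ (g q) := fun q => rfl
    have hσk : σ ^ p ^ k = 1 := by
      have : ∀ (n : ℕ) q, (σ ^ n) (μ q) = μ ((g ^ n) q) := by
        intro n
        induction n with
        | zero => intro q; rfl
        | succ n ih => intro q; rw [pow_succ, pow_succ, MulAut.mul_apply, MulAut.mul_apply, hσ, ih]
      refine MulEquiv.ext fun a => ?_
      obtain ⟨q, rfl⟩ := QuotientGroup.mk'_surjective Z a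
      rw [this, hk]; rfl
    have hQZ : Nat.card (Q ⧸ Z) = p ^ 2 := by
      have h := Z.card_eq_card_quotient_mul_card_subgroup
      rw [H.card, hZcard, show 4 = 2 + 2 from rfl, pow_add] at h
      exact (Nat.eq_of_mul_eq_mul_right (pow_pos hp'.pos 2) h).symm
    obtain ⟨a₀, -, himg⟩ := TransvAut.exists_img_of_sq hμexp hQZ hσk
    have hfix := TransvAut.fix_of_img hμexp himg hσk
    obtain ⟨i, hi⟩ := mem_zpowers_iff.1 (himg (μ e))
    have hi' : a₀ ^ i = μ x₁ := by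
      rw [hi, hσ, hgx₁, map_mul, mul_comm (μ e) (μ x₁), mul_inv_cancel_right]
    rw [← hσ, ← hi', map_zpow, hfix]
  set X := Z ⊔ zpowers x₁ with hXdef
  have hZX : Z ≤ X := le_sup_left
  have hx₁X : x₁ ∈ X := mem_sup_right (mem_zpowers x₁)
  have hx₁Z : x₁ ∉ Z := fun h => hx₁E (hZE h)
  have hXc : Nat.card X = p ^ 3 := by
    rw [hXdef, card_sup_zpowers hZn hx₁Z (by rw [hexp]; exact one_mem _), hZcard, ← pow_succ']
  have hXdec : ∀ a ∈ X, ∃ z ∈ Z, ∃ j : ℤ, a = z * x₁ ^ j := fun a ha => by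
    obtain ⟨z, hz, y, hy, rfl⟩ := mem_sup_of_normal_left.1 ha
    obtain ⟨j, rfl⟩ := mem_zpowers_iff.1 hy
    exact ⟨z, hz, j, rfl⟩
  have hXab : ∀ a ∈ X, ∀ b ∈ X, a * b = b * a := by
    intro a ha b hb
    obtain ⟨z, hz, i, rfl⟩ := hXdec a ha
    obtain ⟨z', hz', j, rfl⟩ := hXdec b hb
    have hcomm : Commute (z * x₁ ^ i) z' := mem_center_iff.1 (hZc hz') _
    have hcomm' : Commute (z * x₁ ^ i) (x₁ ^ j) :=
      (show Commute z (x₁ ^ j) from (mem_center_iff.1 (hZc hz) (x₁ ^ j)).symm).mul_left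
        ((Commute.refl x₁).zpow_zpow i j)
    exact (hcomm.mul_right hcomm').eq
  have hgX : ∀ a ∈ X, g a ∈ X := by
    intro a ha
    obtain ⟨z, hz, j, rfl⟩ := hXdec a ha
    rw [map_mul, map_zpow]
    refine X.mul_mem (hZX (hZchar g z hz)) (X.zpow_mem ?_ j)
    obtain ⟨z', hz', e'⟩ : ∃ z' ∈ Z, g x₁ = x₁ * z' :=
      ⟨x₁⁻¹ * g x₁, QuotientGroup.eq.1 hgx₁Z.symm, by rw [mul_inv_cancel_left]⟩
    rw [e']
    exact X.mul_mem hx₁X (hZX hz')
  have hgpow : ∀ m : ℕ, μ ((g ^ m) e) = μ e * μ x₁ ^ m ∧ μ ((g ^ m) x₁) = μ x₁ := by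
    have hcg : ∀ a b : Q, μ a = μ b → μ (g a) = μ (g b) := fun a b h => QuotientGroup.eq.2 (by
      rw [← map_inv, ← map_mul]; exact hZchar g _ (QuotientGroup.eq.1 h))
    intro m
    induction m with
    | zero => exact ⟨by rw [pow_zero, pow_zero, mul_one]; rfl, rfl⟩
    | succ m ih =>
      refine ⟨?_, ?_⟩
      · rw [pow_succ' g, MulAut.mul_apply, hcg _ (e * x₁ ^ m) (by rw [ih.1, map_mul, map_pow]),
          map_mul, map_pow, map_mul, map_pow, hgx₁Z, hgx₁, map_mul, mul_assoc, ← pow_succ']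
      · rw [pow_succ' g, MulAut.mul_apply, hcg _ x₁ ih.2, hgx₁Z]
  -- the torus preserves `X`
  have hαX : ∀ a ∈ X, δ α a ∈ X := by
    suffices hx : δ α x₁ ∈ X by
      intro a ha
      obtain ⟨z, hz, j, rfl⟩ := hXdec a ha
      rw [map_mul, map_zpow]
      exact X.mul_mem (hZX (hZchar _ z hz)) (X.zpow_mem hx j)
    by_contra hx
    obtain ⟨z, hz, i, j, hij⟩ := hQdec hx₁E (δ α x₁)
    have hi : ¬ (p : ℤ) ∣ i := fun hd => hx (by
      rw [hij, H.zpow_congr e (i := i) (j := 0) (by simpa using hd), zpow_zero, mul_one]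
      exact X.mul_mem (hZX hz) (X.zpow_mem hx₁X j))
    obtain ⟨u, u', huu⟩ := (Prime.coprime_iff_not_dvd (Nat.prime_iff_prime_int.1 hp')).2 hi
    obtain ⟨m, hm⟩ : ∃ m : ℕ, (p : ℤ) ∣ j * u' - m := ⟨((j * u') % p).toNat, by
      rw [Int.toNat_of_nonneg (Int.emod_nonneg _ (by exact_mod_cast hp'.ne_zero))]
      exact Int.dvd_self_sub_emod⟩
    obtain ⟨f, hf⟩ : ∃ a, a = δ α * g * (δ α)⁻¹ := ⟨_, rfl⟩
    obtain ⟨β, hβ⟩ : ∃ a : A, a = (γ ^ m)⁻¹ * (α * γ * α⁻¹) * γ ^ m := ⟨_, rfl⟩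
    have hδβ : δ β = (g ^ m)⁻¹ * f * g ^ m := by
      rw [hβ, hf, map_mul, map_mul, map_inv, map_mul, map_mul, map_inv, map_pow]
    have hfαX : ∀ a ∈ X, f (δ α a) ∈ X.map (δ α).toMonoidHom := fun a ha =>
      ⟨g a, hgX a ha, by rw [hf, MulAut.mul_apply, MulAut.mul_apply, MulAut.inv_apply_self]; rfl⟩
    -- `g ^ m` sends `e ^ i` into `α X`
    have hkey : μ ((g ^ m) (e ^ i)) = μ (δ α x₁) := by
      rw [map_zpow, map_zpow, (hgpow m).1, hij, map_mul, map_mul, (hμ z).2 hz, one_mul, map_zpow,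
        map_zpow, mul_zpow, ← zpow_natCast (μ x₁), ← zpow_mul]
      congr 1
      rw [← map_zpow, ← map_zpow]
      congr 1
      refine H.zpow_congr _ ?_
      have h1 : (p : ℤ) ∣ (m : ℤ) - j * u' := dvd_sub_comm.1 hm
      have h2 := dvd_add (dvd_mul_of_dvd_left h1 i) (dvd_mul_left (p : ℤ) (-(j * u)))
      rw [show (m : ℤ) * i - j = ((m : ℤ) - j * u') * i + -(j * u) * (p : ℤ) by
        linear_combination j * huu]
      exact h2
    have hZf : ∀ σ : MulAut Q, ∀ a b : Q, μ a = μ b → μ (σ a) = μ (σ b) := fun σ a b h =>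
      QuotientGroup.eq.2 (by rw [← map_inv, ← map_mul]; exact hZchar σ _ (QuotientGroup.eq.1 h))
    have hαXsup : X.map (δ α).toMonoidHom ≤ Z ⊔ zpowers (δ α x₁) := by
      rw [hXdef, Subgroup.map_sup, MonoidHom.map_zpowers]
      exact sup_le_sup (fun a ⟨b, hb, e⟩ => e ▸ hZchar _ b hb) le_rfl
    have hfix1 : δ β (e ^ i) ∈ E := by
      have h1 : μ (f ((g ^ m) (e ^ i))) ∈ zpowers (μ (δ α x₁)) := by
        rw [hZf f _ _ hkey]
        obtain ⟨z', hz', y, hy, e'⟩ := mem_sup_of_normal_left.1 (hαXsup (hfαX x₁ hx₁X))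
        rw [← e', map_mul, (hμ z').2 hz', one_mul]
        obtain ⟨q, rfl⟩ := mem_zpowers_iff.1 hy
        exact ⟨q, (map_zpow μ _ q).symm⟩
      obtain ⟨q, hq⟩ := mem_zpowers_iff.1 h1
      rw [← hkey, ← map_zpow, ← map_zpow] at hq
      rw [hδβ, MulAut.mul_apply, MulAut.mul_apply]
      set w := f ((g ^ m) (e ^ i))
      have h2 : μ ((g ^ m)⁻¹ w) = μ ((e ^ i) ^ q) := by
        rw [← hZf _ _ _ hq, MulAut.inv_apply_self]
      have h3 := QuotientGroup.eq.1 h2.symm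
      have h4 := E.mul_mem (E.zpow_mem (E.zpow_mem heE i) q) (hZE h3)
      rwa [mul_inv_cancel_left] at h4
    have hβE : ∀ a ∈ E, δ β a ∈ E := by
      have he' : δ β e ∈ E := by
        have : e = (e ^ i) ^ u' := by
          rw [← zpow_mul]
          conv_lhs => rw [← zpow_one e]
          refine H.zpow_congr e ⟨u, ?_⟩
          linear_combination -huu
        rw [this, map_zpow]
        exact E.zpow_mem hfix1 u'
      intro a ha
      obtain ⟨z, hz, y, hy, rfl⟩ := mem_sup_of_normal_left.1 (hEeq ▸ ha)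
      obtain ⟨q, rfl⟩ := mem_zpowers_iff.1 hy
      rw [map_mul, map_zpow]
      exact E.mul_mem (hZE (hZchar _ z hz)) (E.zpow_mem he' q)
    have hβk : δ β ^ p ^ k = 1 := by
      have : δ β = ((g ^ m)⁻¹ * δ α) * g * ((g ^ m)⁻¹ * δ α)⁻¹ := by rw [hδβ, hf]; group
      rw [this, conj_pow, hk, mul_one, mul_inv_cancel]
    obtain ⟨n, hn⟩ := hI β (hinn β hβE ⟨k, fun u _ => by rw [hβk]; rfl⟩)
    -- so `g` fixes every subgroup over the centre
    have hall : ∀ q : Q, μ (g q) = μ q := by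
      intro q
      have hb : ∀ y : Q, μ (δ β y) = μ y := fun y => by
        rw [hn, MulAut.conj_apply, map_mul, map_mul, map_inv, hμab n, mul_inv_cancel_right]
      have h1 : ∀ y : Q, μ (f y) = μ y := fun y => by
        have h2 := hb ((g ^ m)⁻¹ y)
        rw [hδβ, MulAut.mul_apply, MulAut.mul_apply, MulAut.apply_inv_self] at h2
        have h3 := hZf (g ^ m) _ _ h2
        rwa [MulAut.apply_inv_self, MulAut.apply_inv_self] at h3
      have h4 := hZf (δ α)⁻¹ _ _ (h1 (δ α q))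
      rwa [hf, MulAut.mul_apply, MulAut.mul_apply, MulAut.inv_apply_self, MulAut.inv_apply_self]
        at h4
    have h5 := QuotientGroup.eq.1 (hall e).symm
    exact hge (by
      have := E.mul_mem heE (hZE h5)
      rwa [mul_inv_cancel_left] at this)
  -- the weight on `X`
  have hαx₁ : ∃ z ∈ Z, δ α x₁ = z * x₁ ^ (t * t) := by
    obtain ⟨z₀, hz₀, i, j, hij⟩ := hQdec H.hx x₁
    have hXE : ∀ a ∈ X, a ∈ E → a ∈ Z := by
      intro a ha haE
      obtain ⟨z, hz, l, rfl⟩ := hXdec a ha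
      have h1 : x₁ ^ l ∈ E := by
        have := E.mul_mem (inv_mem (hZE hz)) haE
        rwa [inv_mul_cancel_left] at this
      obtain ⟨q, rfl⟩ := H.dvd_of_mem hx₁E h1
      rw [zpow_mul, zpow_natCast, hexp, one_zpow, mul_one]
      exact hz
    refine ⟨δ α x₁ * (x₁ ^ (t * t))⁻¹, hXE _
      (X.mul_mem (hαX _ hx₁X) (inv_mem (X.zpow_mem hx₁X _))) ?_, by rw [inv_mul_cancel_right]⟩
    rw [← QuotientGroup.eq_one_iff]
    show QuotientGroup.mk' E _ = 1
    have hmk : ∀ a ∈ E, QuotientGroup.mk' E a = 1 := fun a ha => (QuotientGroup.eq_one_iff a).2 ha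
    have hx' : QuotientGroup.mk' E (δ α x) = QuotientGroup.mk' E x ^ (t * t) := by
      rw [← map_zpow, ← mul_inv_eq_one, ← map_inv, ← map_mul]
      exact hmk _ hαx
    simp only [hij, map_mul, map_inv, map_zpow, hx', hmk _ (hαE _ (hZE hz₀)), hmk _ (hαE _ heE),
      hmk _ (hZE hz₀), hmk _ heE, one_zpow, one_mul, ← zpow_mul, mul_comm (t * t) j, mul_inv_cancel]
  obtain ⟨zα, hzα, hαx₁⟩ := hαx₁
  have hγZ : ∀ q, μ (g q) = μ q → ∃ z ∈ Z, g q = q * z := fun q h =>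
    ⟨q⁻¹ * g q, QuotientGroup.eq.1 h.symm, by rw [mul_inv_cancel_left]⟩
  obtain ⟨zσ, hzσ, hgx1⟩ := hγZ x₁ hgx₁Z
  obtain ⟨σ, σ', hσ⟩ := hZdec zσ hzσ
  obtain ⟨lc, hlc⟩ := mem_zpowers_iff.1 hαc
  have hαc' : δ α c = c * v ^ lc := by
    rw [(show Commute c (v ^ lc) from mem_center_iff.1 (zpowers_le.2 H.vZ (zpow_mem (mem_zpowers v) lc)) c).eq,
      hlc, inv_mul_cancel_right]
  obtain ⟨μn, hμn⟩ : ∃ μn : ℕ, (p : ℤ) ∣ (μn : ℤ) - t ^ 3 := ⟨(t ^ 3 % p).toNat, by
    rw [Int.toNat_of_nonneg (Int.emod_nonneg _ (by exact_mod_cast hp'.ne_zero))]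
    exact dvd_sub_comm.1 Int.dvd_self_sub_emod⟩
  obtain ⟨f, hf⟩ : ∃ a, a = δ α * g * (δ α)⁻¹ := ⟨_, rfl⟩
  obtain ⟨f₂, hf₂⟩ : ∃ a, a = g ^ μn := ⟨_, rfl⟩
  obtain ⟨β₁, hβ₁⟩ : ∃ a : A, a = (γ ^ μn)⁻¹ * (α * γ * α⁻¹) := ⟨_, rfl⟩
  have hδβ₁ : δ β₁ = f₂⁻¹ * f := by
    rw [hβ₁, hf₂, hf, map_mul, map_inv, map_pow, map_mul, map_mul, map_inv]
  have hfα : ∀ q, f (δ α q) = δ α (g q) := fun q => by
    rw [hf, MulAut.mul_apply, MulAut.mul_apply, MulAut.inv_apply_self]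
  have hg2 : ∀ q w : Q, g q = q * w → g w = w → f₂ q = q * w ^ μn := fun q w h1 h2 =>
    by rw [hf₂]; exact PGroups.Transvections.iterate_shift g h1 h2 μn
  have hf₂v : f₂ v = v := by rw [hg2 v 1 (by rw [hgV, mul_one]) (map_one _), one_pow, mul_one]
  have hf₂c : f₂ c = c * v ^ (ρ * μn) := by
    rw [hg2 c (v ^ ρ) hρ (by rw [map_zpow, hgV]), ← zpow_natCast, ← zpow_mul]
  have hfv : f v = v := by
    have h := hfα v
    rw [hαv, hgV, hαv, map_zpow] at h
    have e1 : (f v) ^ (t * s) = v ^ (t * s) := by rw [zpow_mul, h, ← zpow_mul]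
    rwa [H.zpow_congr (f v) (j := 1) hts, H.zpow_congr v (j := 1) hts, zpow_one, zpow_one] at e1
  have hfc : f c = c * v ^ (t * ρ) := by
    have h := hfα c
    rw [hαc', hρ, map_mul, map_mul, map_zpow, map_zpow, hfv, hαv, hαc', ← zpow_mul] at h
    have e1 : f c * v ^ lc = c * v ^ (t * ρ) * v ^ lc := by
      rw [h, mul_assoc, mul_assoc, ← zpow_add, ← zpow_add, add_comm]
    exact mul_right_cancel e1
  -- `β₁` is inner
  have hf₂Z : ∀ z ∈ Z, f₂ z ∈ Z := fun z hz => hZchar _ z hz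
  have hβ₁e : μ (f e) = μ (f₂ e) := by
    obtain ⟨ze, hze, hae⟩ : ∃ ze ∈ Z, δ α e = ze * e ^ s := ⟨_, hαe, by rw [inv_mul_cancel_right]⟩
    have hZf : ∀ σ : MulAut Q, ∀ a b : Q, μ a = μ b → μ (σ a) = μ (σ b) := fun σ a b h =>
      QuotientGroup.eq.2 (by rw [← map_inv, ← map_mul]; exact hZchar σ _ (QuotientGroup.eq.1 h))
    have h1 : μ (f (e ^ s)) = μ e ^ s * μ x₁ ^ (t * t) := by
      rw [hZf f (e ^ s) (δ α e) (by rw [hae, map_mul, (hμ ze).2 hze, one_mul]), hfα, hgx₁, map_mul,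
        hae, hαx₁, map_mul, map_mul, map_mul, (hμ ze).2 hze, (hμ zα).2 hzα, one_mul, one_mul,
        map_zpow, map_zpow]
    have h2 : μ (f₂ (e ^ s)) = μ e ^ s * μ x₁ ^ (t * t) := by
      rw [map_zpow, map_zpow, hf₂, (hgpow μn).1, mul_zpow, ← zpow_natCast (μ x₁), ← zpow_mul,
        ← map_zpow μ x₁, ← map_zpow μ x₁]
      congr 2
      refine H.zpow_congr _ ?_
      have h3 := dvd_add (dvd_mul_of_dvd_left hμn s) (dvd_mul_of_dvd_right hts (t * t))
      rw [show (μn : ℤ) * s - t * t = ((μn : ℤ) - t ^ 3) * s + t * t * (t * s - 1) by ring]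
      exact h3
    have hes : ∀ q : Q, (q ^ s) ^ t = q := fun q => by
      rw [← zpow_mul, H.zpow_congr q (j := 1) (by rwa [mul_comm]), zpow_one]
    have h5 : μ (f (e ^ s)) ^ t = μ (f₂ (e ^ s)) ^ t := by rw [h1, h2]
    rwa [← map_zpow, ← map_zpow, ← map_zpow, ← map_zpow, hes] at h5
  have hβ₁Z : ∀ z ∈ Z, δ β₁ z ∈ Z := fun z hz => hZchar _ z hz
  have hβ₁e' : μ (δ β₁ e) = μ e := by
    rw [hδβ₁, MulAut.mul_apply]
    refine QuotientGroup.eq.2 ?_
    have h1 := hZchar f₂⁻¹ _ (QuotientGroup.eq.1 hβ₁e)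
    rwa [map_mul, map_inv, MulAut.inv_apply_self] at h1
  have hinv₁ : β₁ ∈ I := by
    refine hinn β₁ ?_ ⟨2, ?_⟩
    · intro a ha
      obtain ⟨z, hz, y, hy, rfl⟩ := mem_sup_of_normal_left.1 (hEeq ▸ ha)
      obtain ⟨q, rfl⟩ := mem_zpowers_iff.1 hy
      rw [map_mul, map_zpow]
      refine E.mul_mem (hZE (hβ₁Z z hz)) (E.zpow_mem ?_ q)
      have := E.mul_mem heE (hZE (QuotientGroup.eq.1 hβ₁e'.symm))
      rwa [mul_inv_cancel_left] at this
    · have hfix_v : δ β₁ v = v := by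
        rw [hδβ₁, MulAut.mul_apply, hfv]
        conv_lhs => rw [← hf₂v]
        rw [MulAut.inv_apply_self]
      have hfix_c : ∀ z ∈ Z, (δ β₁ ^ p) z = z := by
        intro z hz
        obtain ⟨i, j, rfl⟩ := hZdec z hz
        have hcc : δ β₁ c = c * v ^ (t * ρ - ρ * μn) := by
          rw [hδβ₁, MulAut.mul_apply, hfc]
          have : f₂ (c * v ^ (t * ρ - ρ * μn)) = c * v ^ (t * ρ) := by
            rw [map_mul, map_zpow, hf₂c, hf₂v, mul_assoc, ← zpow_add, add_sub_cancel]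
          rw [← this, MulAut.inv_apply_self]
        rw [map_mul, map_zpow, map_zpow,
          PGroups.Transvections.pow_fix hcc (by rw [map_zpow, hfix_v]) (hexp _),
          PGroups.Transvections.pow_fix (v := (1 : Q)) (by rw [hfix_v, mul_one]) (map_one _)
            (one_pow p)]
      intro u hu
      obtain ⟨z, hz, y, hy, rfl⟩ := mem_sup_of_normal_left.1 (hEeq ▸ hu)
      obtain ⟨q, rfl⟩ := mem_zpowers_iff.1 hy
      set τ := δ β₁ ^ p with hτ
      have hze : e⁻¹ * τ e ∈ Z := by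
        have h : ∀ n : ℕ, μ ((δ β₁ ^ n) e) = μ e := by
          intro n
          induction n with
          | zero => rfl
          | succ n ih =>
            rw [pow_succ', MulAut.mul_apply]
            refine Eq.trans (QuotientGroup.eq.2 ?_) hβ₁e'
            rw [← map_inv, ← map_mul]
            exact hZchar _ _ (QuotientGroup.eq.1 ih)
        exact QuotientGroup.eq.1 (h p).symm
      rw [pow_two, pow_mul, ← hτ, map_mul, map_zpow,
        PGroups.Transvections.pow_fix (σ := τ) (v := (1 : Q)) (by rw [hfix_c z hz, mul_one])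
          (map_one _) (one_pow p),
        PGroups.Transvections.pow_fix (σ := τ) (v := e⁻¹ * τ e) (by rw [mul_inv_cancel_left])
          (hfix_c _ hze) (hexp _)]
  obtain ⟨n₁, hn₁⟩ := hI β₁ hinv₁
  have hff : ∀ q, f q = f₂ (n₁ * q * n₁⁻¹) := fun q => by
    rw [← MulAut.conj_apply, ← hn₁, hδβ₁, MulAut.mul_apply, MulAut.apply_inv_self]
  -- `ρ ≡ 0`
  have hnt : ¬ (p : ℤ) ∣ t := fun hd => by
    have h1 := dvd_sub (dvd_mul_of_dvd_left hd s) hts
    rw [sub_sub_cancel] at h1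
    exact hp'.one_lt.ne' (by simpa using Int.natAbs_dvd_natAbs.2 h1)
  have hpint : Prime (p : ℤ) := Nat.prime_iff_prime_int.1 hp'
  have hρ0 : (p : ℤ) ∣ ρ := by
    have h1 := hff c
    rw [mem_center_iff.1 H.cZ n₁, mul_inv_cancel_right, hfc, hf₂c, mul_right_inj] at h1
    have h2 : v ^ (t * ρ - ρ * μn) = 1 := by rw [zpow_sub, h1, mul_inv_cancel]
    have h3 := dvd_add (H.dvd H.v1 h2) (dvd_mul_of_dvd_right hμn ρ)
    rw [show t * ρ - ρ * μn + ρ * ((μn : ℤ) - t ^ 3) = ρ * t * (-(t ^ 2 - 1)) by ring] at h3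
    rcases hpint.dvd_or_dvd h3 with h4 | h4
    · exact (hpint.dvd_or_dvd h4).resolve_right hnt
    · exact absurd (Int.dvd_neg.1 h4) (ht 2 (by simp))
  have hgc : g c = c := by rw [hρ, H.zpow_congr v (i := ρ) (j := 0) (by simpa using hρ0), zpow_zero, mul_one]
  have hgZfix : ∀ z ∈ Z, g z = z := fun z hz => by
    obtain ⟨i, j, rfl⟩ := hZdec z hz
    rw [map_mul, map_zpow, map_zpow, hgc, hgV]
  -- `σ ≡ 0`
  have hσ0 : (p : ℤ) ∣ σ := by
    have hgzσ : g zσ = zσ := hgZfix _ hzσ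
    have hf₂x : f₂ x₁ = x₁ * zσ ^ μn := hg2 x₁ zσ hgx1 hgzσ
    have hf₂zα : f₂ zα = zα := by
      rw [hg2 zα 1 (by rw [hgZfix _ hzα, mul_one]) (map_one _), one_pow, mul_one]
    let ν := QuotientGroup.mk' (zpowers v)
    have hνv : ∀ i : ℤ, ν (v ^ i) = 1 := fun i => (QuotientGroup.eq_one_iff _).2 (zpow_mem (mem_zpowers v) i)
    have hνc : ν (δ α c) = ν c := by rw [hαc', map_mul, hνv, mul_one]
    have hνf : ∀ q, ν (f₂ q) = ν (f q) := fun q => by
      have h2 : n₁ * q * n₁⁻¹ = ⁅n₁, q⁆ * q := by rw [commutatorElement_def]; group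
      obtain ⟨i, hi⟩ := mem_zpowers_iff.1 (hVc n₁ q)
      rw [hff q, h2, ← hi, map_mul f₂, map_zpow, hf₂v, map_mul ν, hνv, one_mul]
    have h1 := hνf (δ α x₁)
    rw [hfα, hgx1, map_mul (δ α), hαx₁, map_mul f₂, hf₂zα, map_zpow, hf₂x, hσ, map_mul (δ α),
      map_zpow (δ α), map_zpow (δ α), hαv, ← zpow_mul] at h1
    have hzc : Commute x₁ ((c ^ σ * v ^ σ') ^ μn) :=
      (mem_center_iff.1 ((center Q).pow_mem (hZc (hσ ▸ hzσ)) μn) x₁ : Commute x₁ _)
    rw [hzc.mul_zpow, ← mul_assoc] at h1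
    rw [map_mul ν, map_mul ν (zα * x₁ ^ (t * t)), mul_right_inj, map_mul ν ((δ α c) ^ σ), map_zpow ν (δ α c),
      hνc, hνv, mul_one, map_zpow, map_pow, map_mul, map_zpow, hνv, mul_one, ← zpow_natCast,
      ← zpow_mul, ← zpow_mul, ← map_zpow, ← map_zpow, eq_comm] at h1
    have h2 : c ^ (σ * (μn * (t * t)) - σ) ∈ zpowers v := by
      rw [← QuotientGroup.eq_one_iff]
      show ν _ = 1
      rw [zpow_sub, map_mul, map_inv, ← mul_assoc σ] at *
      rw [← h1, mul_inv_cancel]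
    have h3 := dvd_sub (H.dvd_of_mem H.hc h2) (dvd_mul_of_dvd_right hμn (σ * (t * t)))
    rw [show σ * ((μn : ℤ) * (t * t)) - σ - σ * (t * t) * ((μn : ℤ) - t ^ 3) = σ * (t ^ 5 - 1) by ring]
      at h3
    exact (hpint.dvd_or_dvd h3).resolve_right (ht 5 (by simp))
  have hgx1' : g x₁ = x₁ * v ^ σ' := by
    rw [hgx1, hσ, H.zpow_congr c (i := σ) (j := 0) (by simpa using hσ0), zpow_zero, one_mul]
  -- adjust by an inner automorphism
  obtain ⟨l, hl⟩ : ∃ l : ℤ, ⁅e, x₁⁆ ^ l = (v ^ σ')⁻¹ := by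
    obtain ⟨i, hi⟩ := mem_zpowers_iff.1 (hVc e x₁)
    have hne : ¬ (p : ℤ) ∣ i := fun hd => by
      rw [H.zpow_congr v (i := i) (j := 0) (by simpa using hd), zpow_zero, eq_comm,
        commutatorElement_eq_one_iff_mul_comm] at hi
      refine H.v1 ?_
      rw [← H.hv, commutatorElement_eq_one_iff_mul_comm]
      obtain ⟨z, hz, i', j', rfl⟩ := hQdec hx₁E x
      have hcomm : Commute e (z * e ^ i' * x₁ ^ j') :=
        ((show Commute e z from mem_center_iff.1 (hZc hz) e).mul_right ((Commute.refl e).zpow_right i')).mul_right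
          ((show Commute e x₁ from hi).zpow_right j')
      exact hcomm.eq
    obtain ⟨u, u', huu⟩ := (Prime.coprime_iff_not_dvd (Nat.prime_iff_prime_int.1 hp')).2 hne
    refine ⟨-σ' * u', ?_⟩
    rw [← hi, ← zpow_mul, ← zpow_neg]
    refine H.zpow_congr v ⟨σ' * u, ?_⟩
    linear_combination -σ' * huu
  refine ⟨e ^ l, fun γ' hγ' => ?_⟩
  set g' := δ γ' with hg'
  have hg'Z : ∀ z ∈ Z, g' z = z := fun z hz => by
    rw [hγ', MulAut.mul_apply, hgZfix z hz, MulAut.conj_apply, mem_center_iff.1 (hZc hz),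
      mul_inv_cancel_right]
  have hconje : ∀ j : ℤ, e ^ j * x₁ * (e ^ j)⁻¹ = ⁅e, x₁⁆ ^ j * x₁ := by
    intro j
    have hz : ⁅e, x₁⁆ ∈ center Q := zpowers_le.2 H.vZ (hVc e x₁)
    have h1 : e * x₁ * e⁻¹ = ⁅e, x₁⁆ * x₁ := by rw [commutatorElement_def]; group
    induction j using Int.induction_on with
    | zero => simp
    | succ i ih =>
      calc e ^ ((i : ℤ) + 1) * x₁ * (e ^ ((i : ℤ) + 1))⁻¹
          = e * (e ^ (i : ℤ) * x₁ * (e ^ (i : ℤ))⁻¹) * e⁻¹ := by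
            rw [add_comm, zpow_add, zpow_one]; group
        _ = e * ⁅e, x₁⁆ ^ (i : ℤ) * e⁻¹ * (e * x₁ * e⁻¹) := by rw [ih]; group
        _ = _ := by
          rw [mem_center_iff.1 ((center Q).zpow_mem hz _) e, mul_inv_cancel_right, h1, ← mul_assoc,
            zpow_add_one]
    | pred i ih =>
      have h1' : e⁻¹ * x₁ * e = ⁅e, x₁⁆⁻¹ * x₁ := by
        have h2 : e⁻¹ * (e * x₁ * e⁻¹) * e = x₁ := by group
        rw [h1, ← mul_assoc, mem_center_iff.1 hz e⁻¹, mul_assoc, mul_assoc] at h2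
        rw [eq_inv_mul_iff_mul_eq, mul_assoc]
        exact h2
      calc e ^ (-(i : ℤ) - 1) * x₁ * (e ^ (-(i : ℤ) - 1))⁻¹
          = e⁻¹ * (e ^ (-(i : ℤ)) * x₁ * (e ^ (-(i : ℤ)))⁻¹) * e := by
            rw [show -(i : ℤ) - 1 = -1 + -(i : ℤ) by ring, zpow_add, zpow_neg_one]; group
        _ = e⁻¹ * ⁅e, x₁⁆ ^ (-(i : ℤ)) * e * (e⁻¹ * x₁ * e) := by rw [ih]; group
        _ = _ := by
          rw [mem_center_iff.1 ((center Q).zpow_mem hz _) e⁻¹, inv_mul_cancel_right, h1', ← mul_assoc,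
            zpow_sub_one]
  have hg'x : g' x₁ = x₁ := by
    rw [hγ', MulAut.mul_apply, hgx1', map_mul, MulAut.conj_apply, MulAut.conj_apply, hconje, hl,
      mem_center_iff.1 ((center Q).zpow_mem H.vZ σ') (e ^ l), mul_inv_cancel_right, mul_assoc,
      (show Commute x₁ (v ^ σ') from mem_center_iff.1 ((center Q).zpow_mem H.vZ σ') x₁).eq,
      inv_mul_cancel_left]
  have hXfix : ∀ a ∈ X, g' a = a := fun a ha => by
    obtain ⟨z, hz, j, rfl⟩ := hXdec a ha
    rw [map_mul, map_zpow, hg'x, hg'Z z hz]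
  obtain ⟨ze, hze, hg'e⟩ : ∃ ze ∈ Z, g' e = e * x₁ * ze := by
    refine ⟨(e * x₁)⁻¹ * g' e, ?_, by rw [mul_inv_cancel_left]⟩
    refine QuotientGroup.eq.1 (?_ : μ (e * x₁) = μ (g' e))
    rw [hγ', MulAut.mul_apply, hgx₁, MulAut.conj_apply, map_mul μ _ (e ^ l)⁻¹,
      map_mul μ (e ^ l) (e * x₁), hμab, map_inv, mul_inv_cancel_right]
  have hg'e' : g' e = e * (x₁ * ze) := by rw [hg'e, mul_assoc]
  have hxz : x₁ * ze ∈ X := X.mul_mem hx₁X (hZX hze)
  have hg'p : g' ^ p = 1 := by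
    refine MulEquiv.ext fun q => ?_
    obtain ⟨z, hz, i, j, rfl⟩ := hQdec hx₁E q
    rw [map_mul, map_mul, map_zpow, map_zpow,
      PGroups.Transvections.pow_fix (e := z) (v := (1 : Q)) (by rw [hXfix _ (hZX hz), mul_one])
        (map_one _) (one_pow p),
      PGroups.Transvections.pow_fix (e := x₁) (v := (1 : Q)) (by rw [hg'x, mul_one]) (map_one _)
        (one_pow p),
      PGroups.Transvections.pow_fix hg'e' (hXfix _ hxz) (hexp _), MulAut.one_apply]
  refine ⟨X, hXc, hctr ▸ hZX, hXab, hXfix, fun q => ⟨hg'p, fun hq => ?_⟩, μn, hμn, ?_⟩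
  · obtain ⟨i, j, rfl⟩ := hZdec q (hctr ▸ hq)
    refine ⟨i, j, lc, rfl, ?_⟩
    rw [map_mul, map_zpow, map_zpow, hαc', hαv,
      (show Commute c (v ^ lc) from mem_center_iff.1 ((center Q).zpow_mem H.vZ lc) c).mul_zpow,
      ← zpow_mul, ← zpow_mul, mul_assoc, ← zpow_add]
  -- the relation
  obtain ⟨ι₀, hι₀, hι₀'⟩ := hconj (e ^ l)
  have hZf : ∀ σ : MulAut Q, ∀ a b : Q, μ a = μ b → μ (σ a) = μ (σ b) := fun σ a b h =>
    QuotientGroup.eq.2 (by rw [← map_inv, ← map_mul]; exact hZchar σ _ (QuotientGroup.eq.1 h))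
  obtain ⟨β₂, hβ₂⟩ : ∃ a : A, a = α * γ' * α⁻¹ * (γ' ^ μn)⁻¹ := ⟨_, rfl⟩
  have hδβ₂ : ∀ q, δ β₂ q = δ α (g' ((δ α)⁻¹ ((g' ^ μn)⁻¹ q))) := fun q => by
    rw [hβ₂, map_mul, map_mul, map_mul, map_inv, map_inv, map_pow]; rfl
  have hμg' : ∀ q, μ (g' q) = μ (g q) := fun q => by
    rw [hγ', MulAut.mul_apply, MulAut.conj_apply, map_mul μ _ (e ^ l)⁻¹, map_mul μ (e ^ l), hμab,
      map_inv, mul_inv_cancel_right]
  have hμg'n : ∀ (n : ℕ) q, μ ((g' ^ n) q) = μ ((g ^ n) q) := by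
    intro n
    induction n with
    | zero => intro q; rfl
    | succ n ih =>
      intro q
      rw [pow_succ' g', pow_succ' g, MulAut.mul_apply, MulAut.mul_apply, hμg',
        hZf g _ _ (ih q)]
  have hβ₂Z : ∀ z ∈ Z, δ β₂ z = z := fun z hz => by
    have hn : ∀ (n : ℕ), ∀ w ∈ Z, (g' ^ n) w = w := by
      intro n
      induction n with
      | zero => intro w _; rfl
      | succ n ih => intro w hw; rw [pow_succ', MulAut.mul_apply, ih w hw, hg'Z w hw]
    have h1 : (g' ^ μn)⁻¹ z = z := by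
      conv_lhs => rw [← hn μn z hz]
      rw [MulAut.inv_apply_self]
    rw [hδβ₂, h1, hg'Z _ (hZchar _ z hz), MulAut.apply_inv_self]
  have hβ₂e : μ (δ β₂ e) = μ e := by
    have hb : ∀ q, μ (δ β₂ ((g' ^ μn) q)) = μ (f q) := fun q => by
      rw [hδβ₂, MulAut.inv_apply_self, hf, MulAut.mul_apply, MulAut.mul_apply]
      exact hZf _ _ _ (hμg' _)
    have h1 : μ (f e) = μ ((g' ^ μn) e) := by rw [hβ₁e, hμg'n, hf₂]
    have h2 := hb ((g' ^ μn)⁻¹ e)
    rw [MulAut.apply_inv_self] at h2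
    have h3 : μ ((g' ^ μn)⁻¹ e) = μ (e * (x₁ ^ μn)⁻¹) := by
      have h4 : μ ((g' ^ μn) (e * (x₁ ^ μn)⁻¹)) = μ e := by
        rw [map_mul, map_inv, map_mul, map_inv, map_pow, map_pow, hμg'n, hμg'n, (hgpow μn).1,
          (hgpow μn).2, mul_inv_cancel_right]
      rw [← MulAut.inv_apply_self _ (g' ^ μn) (e * (x₁ ^ μn)⁻¹)]
      exact hZf _ _ _ h4.symm
    rw [h2, hZf f _ _ h3, map_mul, map_inv, map_mul, map_inv, h1, hμg'n, (hgpow μn).1]
    have h5 : μ (f (x₁ ^ μn)) = μ x₁ ^ μn := by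
      have h6 : μ (f (δ α x₁)) = μ (δ α x₁) := by rw [hfα, hZf _ _ _ hgx₁Z]
      rw [hαx₁] at h6
      rw [map_mul, map_mul, map_mul, (hμ _).2 (hZchar f _ hzα), (hμ _).2 hzα, one_mul, one_mul,
        map_zpow, map_zpow, map_zpow] at h6
      have h7 : μ (f x₁) = μ x₁ := by
        have e1 := congrArg (fun a : Q ⧸ Z => a ^ (s * s)) h6
        simp only [← zpow_mul, ← map_zpow] at e1
        have hd : (p : ℤ) ∣ t * t * (s * s) - 1 := by
          rw [show t * t * (s * s) - 1 = (t * s - 1) * (t * s + 1) by ring]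
          exact dvd_mul_of_dvd_left hts _
        rwa [H.zpow_congr x₁ (j := 1) hd, zpow_one] at e1
      rw [map_pow, map_pow, h7]
    rw [h5, mul_inv_cancel_right]
  have hinv₂ : β₂ ∈ I := by
    refine hinn β₂ ?_ ⟨1, ?_⟩
    · intro a ha
      obtain ⟨z, hz, y, hy, rfl⟩ := mem_sup_of_normal_left.1 (hEeq ▸ ha)
      obtain ⟨q, rfl⟩ := mem_zpowers_iff.1 hy
      rw [map_mul, map_zpow, hβ₂Z z hz]
      refine E.mul_mem (hZE hz) (E.zpow_mem ?_ q)
      have := E.mul_mem heE (hZE (QuotientGroup.eq.1 hβ₂e.symm))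
      rwa [mul_inv_cancel_left] at this
    · intro a ha
      obtain ⟨z, hz, y, hy, rfl⟩ := mem_sup_of_normal_left.1 (hEeq ▸ ha)
      obtain ⟨q, rfl⟩ := mem_zpowers_iff.1 hy
      rw [pow_one, map_mul, map_zpow,
        PGroups.Transvections.pow_fix (v := (1 : Q)) (by rw [hβ₂Z z hz, mul_one]) (map_one _)
          (one_pow p),
        PGroups.Transvections.pow_fix (v := e⁻¹ * δ β₂ e) (by rw [mul_inv_cancel_left])
          (hβ₂Z _ (QuotientGroup.eq.1 hβ₂e.symm)) (hexp _)]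
  refine ⟨β₂, hinv₂, by rw [hβ₂, inv_mul_cancel_right], fun n hn => ?_⟩
  obtain ⟨z, hz, i, j, rfl⟩ := hQdec hx₁E n
  have hfix : δ β₂ x₁ = x₁ := by
    have hn' : ∀ (m : ℕ), (g' ^ m) x₁ = x₁ := by
      intro m
      induction m with
      | zero => rfl
      | succ m ih => rw [pow_succ', MulAut.mul_apply, ih, hg'x]
    have h1 : (g' ^ μn)⁻¹ x₁ = x₁ := by
      conv_lhs => rw [← hn' μn]
      rw [MulAut.inv_apply_self]
    have h2 : (δ α)⁻¹ x₁ ∈ X := by
      have hmap : X.map (δ α).toMonoidHom = X := eq_of_le_of_card_ge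
        (fun a ⟨b, hb, e⟩ => e ▸ hαX b hb) (card_map_of_injective (δ α).injective).ge
      obtain ⟨b, hb, e'⟩ := hmap.ge hx₁X
      rw [← e']
      show (δ α)⁻¹ (δ α b) ∈ X
      rw [MulAut.inv_apply_self]
      exact hb
    rw [hδβ₂, h1, hXfix _ h2, MulAut.apply_inv_self]
  rw [hn, MulAut.conj_apply, mul_inv_eq_iff_eq_mul] at hfix
  have h1 : Commute (e ^ i) x₁ := by
    have hzx : Commute z x₁ := (mem_center_iff.1 (hZc hz) x₁).symm
    have h2 : Commute (z * e ^ i * x₁ ^ j) x₁ := hfix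
    have h3 := ((hzx.inv_left).mul_left h2).mul_left (((Commute.refl x₁).zpow_left j).inv_left)
    rw [← mul_assoc, ← mul_assoc, inv_mul_cancel, one_mul, mul_inv_cancel_right] at h3
    exact h3
  have hi : (p : ℤ) ∣ i := by
    by_contra hd
    obtain ⟨u, u', huu⟩ := (Prime.coprime_iff_not_dvd (Nat.prime_iff_prime_int.1 hp')).2 hd
    have he1 : Commute e x₁ := by
      have := h1.zpow_left u'
      rwa [← zpow_mul, H.zpow_congr e (i := i * u') (j := 1) ⟨-u, by linear_combination huu⟩,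
        zpow_one] at this
    refine H.v1 ?_
    rw [← H.hv, commutatorElement_eq_one_iff_mul_comm]
    obtain ⟨z', hz', i', j', rfl⟩ := hQdec hx₁E x
    exact (((show Commute e z' from mem_center_iff.1 (hZc hz') e).mul_right
      ((Commute.refl e).zpow_right i')).mul_right (he1.zpow_right j')).eq
  rw [H.zpow_congr e (i := i) (j := 0) (by simpa using hi), zpow_zero, mul_one]
  exact X.mul_mem (hZX hz) (X.zpow_mem hx₁X j)

end Plane

end CfsgLib.Fusion.RankThree
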