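import Cfsg.Agent.Lib.Fusion.Transport
import Cfsg.Agent.Lib.Fusion.Subnormal
import Cfsg.Agent.Lib.Fusion.SubnormalGroup
import Cfsg.Agent.Lib.Fusion.Normal
import Cfsg.Agent.Lib.Fusion.Product
import Cfsg.Agent.Lib.Fusion.HyperfocalGen
import Cfsg.Agent.Lib.Fusion.ResidualLimit

/-!
Transport of normal, subnormal, simple and quasisimple systems along isomorphisms.
-/

set_option autoImplicit false

namespace CfsgLib.Fusion

open Cfsg Cfsg.FusionSystem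

section

variable {Ω Ω' Ω'' : Type*} [Group Ω] [Group Ω'] [Group Ω''] {S : Subgroup Ω} {S' : Subgroup Ω'}
  {S'' : Subgroup Ω''} {F : FusionSystem S} {F' : FusionSystem S'} {F'' : FusionSystem S''}
  {f : S ≃* S'} {f' : S' ≃* S''} {p : ℕ}

theorem mapS_self : mapS f S = S' := by
  refine le_antisymm (mapS_le S) fun y hy => ?_
  exact ⟨f.symm ⟨y, hy⟩, (f.symm ⟨y, hy⟩).2, by simp⟩

theorem mapS_bot : mapS f ⊥ = ⊥ := by
  rw [eq_bot_iff]
  rintro _ ⟨s, hs, rfl⟩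
  have h1 : s = 1 := Subtype.ext (Subgroup.mem_bot.1 hs)
  simp [h1]

theorem eq_bot_of_mapS {P : Subgroup Ω} (hP : P ≤ S) (h : mapS f P = ⊥) : P = ⊥ := by
  rw [← mapS_symm (f := f) hP, h, mapS_bot]

theorem mapS_trans (P : Subgroup Ω) : mapS (f.trans f') P = mapS f' (mapS f P) := by
  ext z
  constructor
  · rintro ⟨s, hs, rfl⟩
    exact ⟨f s, ⟨s, hs, rfl⟩, rfl⟩
  · rintro ⟨t, ⟨s, hs, hst⟩, rfl⟩
    refine ⟨s, hs, ?_⟩
    rw [show t = f s from Subtype.ext hst.symm]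
    rfl

/-- A map that agrees with the transport of a map of `F` is a map of `F'`. -/
theorem SysHom.mem (h : SysHom F F' f) {P : Subgroup Ω} {φ : P →* Ω} (hφ : φ ∈ F.Hom P)
    {P' : Subgroup Ω'} (hle : P' ≤ mapS f P) (φ' : P' →* Ω')
    (hv : ∀ (x : P) (hm : (f ⟨x, hom_le hφ x.2⟩ : Ω') ∈ P'),
      φ' ⟨_, hm⟩ = f ⟨φ x, hom_apply_mem hφ x⟩) : φ' ∈ F'.Hom P' := by
  obtain ⟨ψ, hψ, hψv⟩ := h P φ hφ
  refine restrict_mem' hψ hle fun y => ?_
  obtain ⟨y, hy⟩ := y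
  obtain ⟨s, hs, rfl⟩ := hle hy
  exact (hv ⟨s, hs⟩ hy).trans (hψv ⟨s, hs⟩ s.2 _ _).symm

theorem SysHom.trans (h : SysHom F F' f) (h' : SysHom F' F'' f') :
    SysHom F F'' (f.trans f') := by
  intro P φ hφ
  obtain ⟨φ', hφ', hv⟩ := h P φ hφ
  obtain ⟨φ'', hφ'', hv'⟩ := h' _ φ' hφ'
  refine ⟨φ''.comp (Subgroup.inclusion (mapS_trans P).le), restrict_mem hφ'' _,
    fun x hx hφx hm => ?_⟩
  have h1 := hv x hx hφx ⟨⟨x, hx⟩, x.2, rfl⟩
  refine (hv' ⟨(f ⟨x, hx⟩ : Ω'), ⟨⟨x, hx⟩, x.2, rfl⟩⟩ (f ⟨x, hx⟩).2 (hom_apply_mem hφ' _)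
    ((mapS_trans P).le hm)).trans ?_
  exact congrArg (fun s => (f' s : Ω'')) (Subtype.ext h1)

theorem SysEquiv.trans (h : SysEquiv F F' f) (h' : SysEquiv F' F'' f') :
    SysEquiv F F'' (f.trans f') := ⟨h.1.trans h'.1, h'.2.trans h.2⟩

/-- A system is determined by an isomorphism onto it. -/
theorem SysEquiv.unique {E : FusionSystem S'} (h : SysEquiv F F' f) (h' : SysEquiv F E f) :
    F' = E := by
  refine system_ext fun P' => Set.Subset.antisymm ?_ ?_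
  all_goals intro φ' hφ'
  on_goal 1 => obtain ⟨φ, hφ, hv⟩ := h.2 P' φ' hφ'
  on_goal 1 => refine h'.1.mem hφ (mapS_symm' (hom_le hφ')).ge φ' fun x hm => ?_
  on_goal 2 => obtain ⟨φ, hφ, hv⟩ := h'.2 P' φ' hφ'
  on_goal 2 => refine h.1.mem hφ (mapS_symm' (hom_le hφ')).ge φ' fun x hm => ?_
  all_goals
    obtain ⟨x, hx⟩ := x
    obtain ⟨s, hs, rfl⟩ := hx
    have h1 := hv ⟨s, hs⟩ s.2 (hom_apply_mem hφ' _) ⟨s, hs, rfl⟩
    have h2 : (⟨φ ⟨_, ⟨s, hs, rfl⟩⟩, hom_apply_mem hφ _⟩ : S) =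
        f.symm ⟨φ' ⟨s, hs⟩, hom_apply_mem hφ' _⟩ := Subtype.ext h1
    refine Eq.trans ?_ (congrArg (fun s => (f s : Ω')) h2).symm
    simp

/-- The system `F` carried over to `S'` by `f`. -/
def transportSys (F : FusionSystem S) (f : S ≃* S') : FusionSystem S' where
  Hom P' := {φ' | P' ≤ S' ∧ ∃ φ ∈ F.Hom (mapS f.symm P'), ∃ hv : ∀ y, φ' y ∈ S',
    ∀ (y : P') (hy : (y : Ω') ∈ S') (hm : (f.symm ⟨y, hy⟩ : Ω) ∈ mapS f.symm P'),
      φ ⟨_, hm⟩ = f.symm ⟨φ' y, hv y⟩}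
  le_of_mem := by
    rintro P' φ' ⟨hP', φ, hφ, hv, h⟩
    exact ⟨hP', hv⟩
  injective_of_mem := by
    rintro P' φ' ⟨hP', φ, hφ, hv, h⟩ a b hab
    have ha := h a (hP' a.2) (apply_mem_mapS hP' a)
    have hb := h b (hP' b.2) (apply_mem_mapS hP' b)
    have hs : (⟨φ' a, hv a⟩ : S') = ⟨φ' b, hv b⟩ := Subtype.ext hab
    rw [hs, ← hb] at ha
    have h1 := Subtype.ext_iff.1 (F.injective_of_mem hφ ha)
    have h2 : (⟨a, hP' a.2⟩ : S') = ⟨b, hP' b.2⟩ := f.symm.injective (Subtype.ext h1)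
    exact Subtype.ext (congrArg Subtype.val h2 :)
  conj_mem := by
    intro P' g hP' hg
    refine ⟨hP', conjHom _ (f.symm ⟨g, hg⟩ : Ω), F.conj_mem (mapS_le P') (f.symm _).2,
      fun y => S'.mul_mem (S'.mul_mem hg (hP' y.2)) (S'.inv_mem hg), fun y hy hm => ?_⟩
    show (f.symm ⟨g, hg⟩ : Ω) * (f.symm ⟨y, hy⟩ : Ω) * (f.symm ⟨g, hg⟩ : Ω)⁻¹ = _
    rw [show (⟨conjHom P' g y, _⟩ : S') = ⟨g, hg⟩ * ⟨y, hy⟩ * ⟨g, hg⟩⁻¹ from Subtype.ext rfl,
      map_mul, map_mul, map_inv]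
    rfl
  comp_mem := by
    rintro P' Q' φ' ψ' ⟨hP', φ, hφ, hv, h⟩ ⟨hQ', ψ, hψ, hw, k⟩ hPQ
    have hm : ∀ x, φ x ∈ mapS f.symm Q' := by
      rintro ⟨_, s, hs, rfl⟩
      show φ ⟨(f.symm s : Ω), _⟩ ∈ _
      rw [h ⟨s, hs⟩ s.2 ⟨s, hs, rfl⟩]
      exact ⟨_, hPQ ⟨s, hs⟩, rfl⟩
    refine ⟨hP', _, F.comp_mem hφ hψ hm, fun y => hw _, fun y hy hmy => ?_⟩
    have h1 := h y hy hmy
    have h2 := k ⟨φ' y, hPQ y⟩ (hv y) ⟨_, hPQ y, rfl⟩
    refine Eq.trans ?_ h2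
    exact congrArg ψ (Subtype.ext h1)
  inv_mem := by
    rintro P' φ' ⟨hP', φ, hφ, hv, h⟩
    have hinj : Function.Injective φ' := by
      intro a b hab
      have ha := h a (hP' a.2) (apply_mem_mapS hP' a)
      have hb := h b (hP' b.2) (apply_mem_mapS hP' b)
      have hs : (⟨φ' a, hv a⟩ : S') = ⟨φ' b, hv b⟩ := Subtype.ext hab
      rw [hs, ← hb] at ha
      have h1 := Subtype.ext_iff.1 (F.injective_of_mem hφ ha)
      have h2 : (⟨a, hP' a.2⟩ : S') = ⟨b, hP' b.2⟩ := f.symm.injective (Subtype.ext h1)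
      exact Subtype.ext (congrArg Subtype.val h2 :)
    have hr : φ.range = mapS f.symm φ'.range := by
      ext z
      constructor
      · rintro ⟨⟨_, s, hs, rfl⟩, rfl⟩
        show φ ⟨(f.symm s : Ω), _⟩ ∈ _
        rw [h ⟨s, hs⟩ s.2 ⟨s, hs, rfl⟩]
        exact ⟨_, ⟨⟨s, hs⟩, rfl⟩, rfl⟩
      · rintro ⟨s, ⟨x, hx⟩, rfl⟩
        refine ⟨⟨_, apply_mem_mapS hP' x⟩, (h x (hP' x.2) _).trans ?_⟩
        exact congrArg (fun s => (f.symm s : Ω)) (Subtype.ext hx)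
    obtain ⟨ψ, hψ, -, hl, -⟩ := exists_inv hφ hr
    set e := toIso φ' hinj rfl with he
    have hR : φ'.range ≤ S' := by rintro _ ⟨x, rfl⟩; exact hv x
    have hev : ∀ x : P', e.symm ⟨φ' x, x, rfl⟩ = x := fun x =>
      e.symm_apply_eq.2 (Subtype.ext (toIso_apply φ' hinj rfl x).symm)
    refine ⟨isoHom e.symm, ⟨hR, ψ, hψ, fun y => hP' (e.symm y).2, fun y hy hm => ?_⟩, fun x => ?_⟩
    · obtain ⟨_, x, rfl⟩ := y
      have h1 := h x (hP' x.2) (apply_mem_mapS hP' x)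
      have h2 := hl ⟨_, apply_mem_mapS hP' x⟩ (h1 ▸ ⟨_, ⟨x, rfl⟩, rfl⟩)
      refine Eq.trans (congrArg ψ (Subtype.ext h1.symm)) (h2.trans ?_)
      exact congrArg (fun t : P' => (f.symm ⟨t, hP' t.2⟩ : Ω)) (hev x).symm
    · exact congrArg Subtype.val (hev x)

theorem transportSys_sysEquiv (F : FusionSystem S) (f : S ≃* S') :
    SysEquiv F (transportSys F f) f := by
  constructor
  · intro P φ hφ
    have hP := hom_le hφ
    let φ' : mapS f P →* Ω' := (S'.subtype.comp f.toMonoidHom).comp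
      ((φ.codRestrict S (hom_apply_mem hφ)).comp (mapSEquiv f hP).symm.toMonoidHom)
    have hval : ∀ x : P, φ' (mapSEquiv f hP x) = f ⟨φ x, hom_apply_mem hφ x⟩ := fun x => by
      simp [φ']
    refine ⟨φ', ⟨mapS_le P, φ.comp (Subgroup.inclusion (mapS_symm hP).le),
      restrict_mem hφ _, fun y => (f _).2, fun y hy hm => ?_⟩, fun x hx hφx hm => hval x⟩
    obtain ⟨x, rfl⟩ := (mapSEquiv f hP).surjective y
    have h1 : (⟨φ' (mapSEquiv f hP x), (f _).2⟩ : S') = f ⟨φ x, hom_apply_mem hφ x⟩ :=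
      Subtype.ext (hval x)
    rw [h1, MulEquiv.symm_apply_apply]
    refine congrArg φ (Subtype.ext ?_)
    simp
  · rintro P' φ' ⟨hP', φ, hφ, hv, h⟩
    exact ⟨φ, hφ, fun x hx hφx hm => h x hx hm⟩

/-- `g` is the restriction of `f`. -/
def Restricts (f : S ≃* S') {T : Subgroup Ω} {T' : Subgroup Ω'} (g : T ≃* T') : Prop :=
  T ≤ S ∧ ∀ (t : T) (h : (t : Ω) ∈ S), (g t : Ω') = f ⟨t, h⟩

variable {T : Subgroup Ω} {T' : Subgroup Ω'} {g : T ≃* T'}

theorem restricts_mapSEquiv (f : S ≃* S') (hT : T ≤ S) : Restricts f (mapSEquiv f hT) :=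
  ⟨hT, fun _ _ => rfl⟩

theorem Restricts.le_right (h : Restricts f g) : T' ≤ S' := by
  intro y hy
  obtain ⟨t, ht⟩ := g.surjective ⟨y, hy⟩
  rw [show y = (g t : Ω') from (congrArg Subtype.val ht).symm, h.2 t (h.1 t.2)]
  exact (f _).2

theorem Restricts.symm (h : Restricts f g) : Restricts f.symm g.symm := by
  refine ⟨h.le_right, fun t ht => ?_⟩
  have h1 := h.2 (g.symm t) (h.1 (g.symm t).2)
  rw [MulEquiv.apply_symm_apply] at h1
  have h2 : (⟨t, ht⟩ : S') = f ⟨g.symm t, h.1 (g.symm t).2⟩ := Subtype.ext h1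
  rw [h2, MulEquiv.symm_apply_apply]

theorem Restricts.mapS_eq (h : Restricts f g) {P : Subgroup Ω} (hP : P ≤ T) :
    mapS g P = mapS f P := by
  ext y
  constructor
  · rintro ⟨t, ht, rfl⟩
    exact ⟨⟨t, h.1 t.2⟩, ht, (h.2 t _).symm⟩
  · rintro ⟨s, hs, rfl⟩
    exact ⟨⟨s, hP hs⟩, hs, (h.2 _ s.2).trans rfl⟩

theorem Restricts.apply (h : Restricts f g) {x : Ω} (hxT : x ∈ T) (hxS : x ∈ S) :
    (g ⟨x, hxT⟩ : Ω') = f ⟨x, hxS⟩ := h.2 ⟨x, hxT⟩ hxS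

variable {E : FusionSystem T} {E' : FusionSystem T'}

theorem SysHom.isSubsystem (h : SysHom F F' f) (hr : Restricts f g) (hE : SysHom E' E g.symm)
    (hsub : E.IsSubsystemOf F) : E'.IsSubsystemOf F' := by
  intro P' φ' hφ'
  obtain ⟨φ, hφ, hv⟩ := hE P' φ' hφ'
  have hφF := hsub _ hφ
  have hP' := hom_le hφ'
  refine h.mem hφF ?_ φ' fun x hm => ?_
  · rw [← hr.mapS_eq (mapS_le P'), mapS_symm' hP']
  · obtain ⟨x, hx⟩ := x
    obtain ⟨s, hs, rfl⟩ := hx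
    have h1 := hv ⟨s, hs⟩ s.2 (hom_apply_mem hφ' _) ⟨s, hs, rfl⟩
    have e1 : (f ⟨(g.symm s : Ω), hr.1 (g.symm s).2⟩ : Ω') = s := by
      rw [← hr.apply (g.symm s).2]
      simp
    refine (congrArg φ' (Subtype.ext e1 : (⟨_, hm⟩ : P') = ⟨(s : Ω'), hs⟩)).trans ?_
    rw [← hr.apply (hom_apply_mem hφ _)]
    have h2 : (⟨φ ⟨_, ⟨s, hs, rfl⟩⟩, hom_apply_mem hφ _⟩ : T) =
        g.symm ⟨φ' ⟨s, hs⟩, hom_apply_mem hφ' _⟩ := Subtype.ext h1
    rw [h2]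
    simp

theorem SysHom.stronglyClosed (h : SysHom F' F f.symm) (hr : Restricts f g)
    (hT : F.StronglyClosed T) : F'.StronglyClosed T' := by
  refine ⟨hr.le_right, fun R' hR' φ' hφ' x => ?_⟩
  obtain ⟨φ, hφ, hv⟩ := h R' φ' hφ'
  have hle : mapS f.symm R' ≤ T := by
    rw [← hr.symm.mapS_eq hR']
    exact mapS_le R'
  have hx := hom_le hφ' x.2
  have h1 := hT.2 _ hle φ hφ ⟨_, apply_mem_mapS (hom_le hφ') x⟩
  rw [hv x hx (hom_apply_mem hφ' x) _] at h1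
  have h2 := hr.apply h1 (f.symm ⟨φ' x, hom_apply_mem hφ' x⟩).2
  have h3 : (g ⟨_, h1⟩ : Ω') ∈ T' := (g _).2
  simpa [h2] using h3

/-- Automorphism groups are carried along. -/
theorem SysHom.autGroup_mem (h : SysHom F F' f) (hr : Restricts f g) {α : MulAut T}
    (hα : α ∈ F.autGroup T) : MulAut.congr g α ∈ F'.autGroup T' := by
  rw [mem_autGroup_iff hr.le_right]
  have hα' := (mem_autGroup_iff hr.1).1 hα
  refine h.mem hα' (by rw [← hr.mapS_eq le_rfl, mapS_self]) _ fun x hm => ?_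
  have e : (⟨(f ⟨x, hr.1 x.2⟩ : Ω'), hm⟩ : T') = g x := Subtype.ext (hr.2 x _).symm
  show ((g (α (g.symm ⟨_, hm⟩))) : Ω') = _
  rw [e, MulEquiv.symm_apply_apply]
  exact hr.2 _ _

theorem mapS_sup_centralizerIn (hr : Restricts f g) :
    mapS f (T ⊔ centralizerIn S T) = T' ⊔ centralizerIn S' T' := by
  rw [mapS_sup hr.1 (centralizerIn_le T), mapS_centralizerIn hr.1, ← hr.mapS_eq le_rfl, mapS_self]

theorem SysEquiv.isNormalIn [Fact p.Prime] [Finite S] (h : SysEquiv F F' f) (hr : Restricts f g)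
    (hE : SysEquiv E E' g) (hn : E.IsNormalIn F p) : E'.IsNormalIn F' p := by
  have : Finite T := finite_le hr.1
  obtain ⟨⟨hEs, hFs, hsub, hsc, hinv, hfrat⟩, hext⟩ := hn
  refine ⟨⟨hE.saturated hEs, h.saturated hFs, h.1.isSubsystem hr hE.2 hsub,
    h.2.stronglyClosed hr hsc, ?_, ?_⟩, ?_⟩
  · intro P' hPT' φ' hφ' α' hα'
    obtain ⟨φ, hφ, hv⟩ := hE.2 P' φ' hφ'
    have hα : MulAut.congr g.symm α' ∈ F.autGroup T := h.2.autGroup_mem hr.symm hα'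
    obtain ⟨χ, hχ, hχv⟩ := hinv _ (hom_le hφ) φ hφ _ hα
    obtain ⟨χ', hχ', hχ'v⟩ := hE.1 _ χ hχ
    have hle : (P'.subgroupOf T').map (T'.subtype.comp α'.toMonoidHom) ≤
        mapS g (((mapS g.symm P').subgroupOf T).map
          (T.subtype.comp (MulAut.congr g.symm α').toMonoidHom)) := by
      rintro _ ⟨t, ht, rfl⟩
      refine ⟨g.symm (α' t), ⟨g.symm t, ⟨t, ht, rfl⟩, ?_⟩, ?_⟩
      · show ((g.symm (α' (g (g.symm t)))) : Ω) = _
        rw [MulEquiv.apply_symm_apply]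
        rfl
      · simp
    refine ⟨χ'.comp (Subgroup.inclusion hle), restrict_mem hχ' hle, fun x hφx hαx => ?_⟩
    set t : T' := ⟨x, hPT' x.2⟩
    have hxm : (g.symm t : Ω) ∈ mapS g.symm P' := ⟨t, x.2, rfl⟩
    have hαm : (g.symm (α' t) : Ω) ∈ ((mapS g.symm P').subgroupOf T).map
        (T.subtype.comp (MulAut.congr g.symm α').toMonoidHom) := by
      refine ⟨g.symm t, hxm, ?_⟩
      show ((g.symm (α' (g (g.symm t)))) : Ω) = _
      rw [MulEquiv.apply_symm_apply]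
    have h1 := hv x t.2 hφx hxm
    have h2 := hχv ⟨_, hxm⟩ (hom_apply_mem hφ _) (by
      show (((MulAut.congr g.symm α') (g.symm t) : T) : Ω) ∈ _
      show ((g.symm (α' (g (g.symm t)))) : Ω) ∈ _
      rw [MulEquiv.apply_symm_apply]
      exact hαm)
    have h3 := hχ'v ⟨_, hαm⟩ (g.symm (α' t)).2 (hom_apply_mem hχ _) (by simpa using hle hαx)
    show χ' (Subgroup.inclusion hle _) = _
    refine Eq.trans (congrArg χ' (Subtype.ext ?_)) (h3.trans ?_)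
    · simp [t]
      rfl
    have h4 : χ ⟨(g.symm (α' t) : Ω), hαm⟩ = (g.symm (α' ⟨φ' x, hφx⟩) : Ω) := by
      refine Eq.trans (congrArg χ (Subtype.ext ?_)) (h2.trans ?_)
      · show _ = ((g.symm (α' (g (g.symm t)))) : Ω)
        rw [MulEquiv.apply_symm_apply]
      · show ((g.symm (α' (g ⟨φ ⟨_, hxm⟩, _⟩))) : Ω) = _
        rw [show (⟨φ ⟨_, hxm⟩, hom_apply_mem hφ _⟩ : T) = g.symm ⟨φ' x, hφx⟩ from Subtype.ext h1,
          MulEquiv.apply_symm_apply]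
    refine (congrArg (fun s => (g s : Ω')) (Subtype.ext h4 :
      (⟨χ ⟨_, hαm⟩, hom_apply_mem hχ _⟩ : T) = g.symm (α' ⟨φ' x, hφx⟩))).trans ?_
    simp
  · intro P' hPT' φ' hφ'
    obtain ⟨φ, hφ, hv⟩ := h.2 P' φ' hφ'
    have hle : mapS f.symm P' ≤ T := by
      rw [← hr.symm.mapS_eq hPT']
      exact mapS_le P'
    obtain ⟨α, hα, φ₀, hφ₀, hv₀⟩ := hfrat _ hle φ hφ
    obtain ⟨φ₀', hφ₀', hv₀'⟩ := hE.1 _ φ₀ hφ₀
    have hle' : P' ≤ mapS g (mapS f.symm P') := by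
      rw [← hr.symm.mapS_eq hPT', mapS_symm' hPT']
    refine ⟨_, h.1.autGroup_mem hr hα, φ₀'.comp (Subgroup.inclusion hle'),
      restrict_mem hφ₀' hle', fun x hx => ?_⟩
    have hxS := hom_le hφ' x.2
    have hm : (f.symm ⟨x, hxS⟩ : Ω) ∈ mapS f.symm P' := apply_mem_mapS (hom_le hφ') x
    have h1 := hv x hxS (hom_apply_mem hφ' x) hm
    have h2 := hv₀ ⟨_, hm⟩ (hom_apply_mem hφ₀ _)
    have e1 : (g ⟨(f.symm ⟨x, hxS⟩ : Ω), hle hm⟩ : Ω') = x := by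
      rw [hr.apply (hle hm) (f.symm ⟨x, hxS⟩).2]
      simp
    have h3 := hv₀' ⟨_, hm⟩ (hle hm) (hom_apply_mem hφ₀ _) (by rw [e1]; exact hle' x.2)
    have h4 : (⟨φ₀'.comp (Subgroup.inclusion hle') x, hx⟩ : T') =
        g ⟨φ₀ ⟨_, hm⟩, hom_apply_mem hφ₀ _⟩ := by
      apply Subtype.ext
      refine Eq.trans ?_ h3
      exact congrArg φ₀' (Subtype.ext e1.symm)
    rw [h4]
    show φ' x = ((g (α (g.symm (g ⟨φ₀ ⟨_, hm⟩, _⟩)))) : Ω')
    rw [MulEquiv.symm_apply_apply, hr.2 _ (hr.1 (α _).2)]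
    have h5 : (⟨((α ⟨φ₀ ⟨_, hm⟩, hom_apply_mem hφ₀ _⟩ : T) : Ω), hr.1 (α _).2⟩ : S) =
        f.symm ⟨φ' x, hom_apply_mem hφ' x⟩ := Subtype.ext (h2.symm.trans h1)
    rw [h5]
    simp
  · intro α' hα'
    obtain ⟨β, hβ, hβT, hβC⟩ :=
      hext _ (hE.2.autGroup_mem (restricts_refl_aux g.symm) hα')
    have hTC : T ⊔ centralizerIn S T ≤ S := sup_le hr.1 (centralizerIn_le T)
    set g₂ := (mapSEquiv f hTC).trans (MulEquiv.subgroupCongr (mapS_sup_centralizerIn hr)) with hg₂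
    have hr₂ : Restricts f g₂ := ⟨hTC, fun _ _ => rfl⟩
    have key : ∀ c, ((g₂ c : ↥(T' ⊔ centralizerIn S' T')) : Ω') = f ⟨c, hTC c.2⟩ :=
      fun c => hr₂.2 c _
    refine ⟨_, h.1.autGroup_mem hr₂ hβ, fun x => ?_, fun c hc => ?_⟩
    · have e1 : g₂.symm (Subgroup.inclusion le_sup_left x) =
          Subgroup.inclusion le_sup_left (g.symm x) := by
        rw [MulEquiv.symm_apply_eq]
        apply Subtype.ext
        rw [key]
        show (x : Ω') = f ⟨(g.symm x : Ω), _⟩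
        exact (congrArg Subtype.val (g.apply_symm_apply x)).symm.trans (hr.apply (g.symm x).2 _)
      show ((g₂ (β (g₂.symm _)) : ↥(T' ⊔ centralizerIn S' T')) : Ω') = _
      rw [e1, key]
      have e2 := hβT (g.symm x)
      have e3 : ((β (Subgroup.inclusion le_sup_left (g.symm x)) : ↥(T ⊔ centralizerIn S T)) : Ω) =
          (g.symm (α' x) : Ω) := by
        rw [e2]
        show ((g.symm (α' (g (g.symm x)))) : Ω) = _
        rw [MulEquiv.apply_symm_apply]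
      simp only [e3]
      exact (hr.apply (g.symm (α' x)).2 _).symm.trans (by simp)
    · have hcT : (f.symm ⟨c, (centralizerIn_le T') hc⟩ : Ω) ∈ centralizerIn S T := by
        have h1 := apply_mem_mapS (f := f.symm) (centralizerIn_le T') ⟨c, hc⟩
        rwa [mapS_centralizerIn hr.le_right, ← hr.symm.mapS_eq le_rfl, mapS_self] at h1
      obtain ⟨d, rfl⟩ := g₂.surjective c
      show (g₂ d : Ω')⁻¹ * ((g₂ (β (g₂.symm (g₂ d)))) : Ω') ∈ _
      rw [MulEquiv.symm_apply_apply, key, key]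
      have hd : (d : Ω) ∈ centralizerIn S T := by
        have h0 : (⟨(g₂ d : Ω'), centralizerIn_le T' hc⟩ : S') = f ⟨d, hTC d.2⟩ :=
          Subtype.ext (key d)
        rwa [h0, MulEquiv.symm_apply_apply] at hcT
      have h1 := hβC d hd
      refine ⟨?_, ?_⟩
      · have h2 := (g ⟨_, h1.1⟩).2
        rw [hr.apply h1.1 (hr.1 h1.1)] at h2
        refine Set.mem_of_eq_of_mem ?_ h2
        rw [← Subgroup.coe_inv, ← Subgroup.coe_mul, ← map_inv, ← map_mul]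
        rfl
      · refine Subgroup.mem_centralizer_iff.2 fun y hy => ?_
        have h3 := Subgroup.mem_centralizer_iff.1 h1.2 _ (g.symm ⟨y, hy⟩).2
        have h4 : (g.symm ⟨y, hy⟩ : Ω) = f.symm ⟨y, hr.le_right hy⟩ := hr.symm.2 _ _
        rw [h4] at h3
        have h5 := congrArg (fun s => (f s : Ω'))
          (Subtype.ext h3 : (f.symm ⟨y, hr.le_right hy⟩ * ⟨_, hr.1 h1.1⟩ : S) =
            ⟨_, hr.1 h1.1⟩ * f.symm ⟨y, hr.le_right hy⟩)
        simp only [map_mul, MulEquiv.apply_symm_apply, Subgroup.coe_mul] at h5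
        rw [← Subgroup.coe_inv, ← Subgroup.coe_mul, ← map_inv, ← map_mul]
        exact h5
where
  restricts_refl_aux {Ω₁ Ω₂ : Type _} [Group Ω₁] [Group Ω₂] {A : Subgroup Ω₁} {B : Subgroup Ω₂}
      (e : A ≃* B) : Restricts e e := ⟨le_rfl, fun _ _ => rfl⟩

theorem IsSubnormalIn.sysEquiv {p : ℕ} {S T : Subgroup Ω} {F : FusionSystem S}
    {E : FusionSystem T} (hE : E.IsSubnormalIn F p) :
    ∀ [Fact p.Prime] [Finite S] {S' : Subgroup Ω'} {F' : FusionSystem S'} {f : S ≃* S'} {T' : Subgroup Ω'}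
      {E' : FusionSystem T'} {g : T ≃* T'}, SysEquiv F F' f → Restricts f g → SysEquiv E E' g →
      E'.IsSubnormalIn F' p := by
  induction hE with
  | refl F p =>
    intro _ _ S' F' f T' E' g hF hr hE
    obtain rfl : T' = S' := by
      rw [← mapS_self (f := g), hr.mapS_eq le_rfl, mapS_self]
    obtain rfl : g = f := MulEquiv.ext fun t => Subtype.ext (hr.2 t t.2)
    rw [hF.unique hE]
    exact .refl E' p
  | step h hn ih =>
    rename_i D F q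
    intro _ _ S' F' f T' E' g hF hr hE
    have hU := hn.1.2.2.2.1.1
    have hTU := IsSubsystemOf.le (IsSubnormalIn.isSubsystemOf h)
    have := finite_le hU
    have hrU := restricts_mapSEquiv f hU
    have hD := transportSys_sysEquiv D (mapSEquiv f hU)
    refine .step (ih hD ⟨hTU, fun t ht => ?_⟩ hE) (hF.isNormalIn hrU hD hn)
    exact hr.2 t (hr.1 t.2)

end

end CfsgLib.Fusion
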