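import Cfsg.Agent.Lib.Fusion.RankTwoRadical
import Cfsg.Agent.Lib.Fusion.CentricExtend
import Cfsg.Agent.Lib.PGroups.ClassTwo
import Cfsg.Agent.Lib.PGroups.RankTwoOmega
import Cfsg.Agent.Lib.PGroups.Transvections

/-!
Centric radical subgroups `R` with a cyclic central invariant `⟨z⟩` of index `p²` and a complement
of exponent `p`, in rank two, `p ≥ 5`: only `R ≅ E_{p²}` inside `p^{1+2}` survives.
-/

set_option autoImplicit false

namespace CfsgLib.Fusion

open Cfsg Cfsg.FusionSystem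
open scoped commutatorElement

section

variable {G : Type*} [Group G] {p : ℕ} [Fact p.Prime]

theorem mul_pow_of_commutes {a b d : G} (h : b * a = d * (a * b)) (ha : Commute d a)
    (hb : Commute d b) {n : ℕ} (hn : Odd n) (hd : d ^ n = 1) : (a * b) ^ n = a ^ n * b ^ n := by
  set H := Subgroup.closure ({a, b} : Set G) with hH
  let a' : H := ⟨a, Subgroup.subset_closure (Set.mem_insert _ _)⟩
  let b' : H := ⟨b, Subgroup.subset_closure (Set.mem_insert_of_mem _ rfl)⟩
  have hdm : ((⁅b', a'⁆ : H) : G) = d := by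
    show b * a * b⁻¹ * a⁻¹ = d
    rw [h]; group
  have hc : ⁅b', a'⁆ ∈ Subgroup.center H := by
    rw [Subgroup.mem_center_iff]
    rintro ⟨x, hx⟩
    refine Subtype.ext ?_
    rw [Subgroup.coe_mul, Subgroup.coe_mul, hdm]
    suffices Commute d x from this.eq.symm
    clear hdm
    induction hx using Subgroup.closure_induction with
    | mem y hy => rcases hy with rfl | rfl
                  · exact ha
                  · exact hb
    | one => exact Commute.one_right d
    | mul y w _ _ hy hw => exact hy.mul_right hw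
    | inv y _ hy => exact hy.inv_right
  exact congrArg Subtype.val (PGroups.mul_pow_of_central_odd (x := a') (y := b') hc hn
    (Subtype.ext (by rw [Subgroup.coe_pow, hdm]; exact hd)))

theorem mul_card_le_of_lt {A B : Subgroup G} [Finite B] (hB : IsPGroup p B) (h : A < B) :
    p * Nat.card A ≤ Nat.card B := by
  have hp : p.Prime := Fact.out
  obtain ⟨m, hm⟩ := IsPGroup.iff_card.1 hB
  obtain ⟨i, hi, hi'⟩ := (Nat.dvd_prime_pow hp).1 (hm ▸ Subgroup.card_dvd_of_le h.le)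
  rw [hi', hm, ← pow_succ']
  refine Nat.pow_le_pow_right hp.pos ?_
  rcases hi.lt_or_eq with hlt | rfl
  · exact hlt
  · exact absurd (Subgroup.eq_of_le_of_card_ge h.le (by rw [hi', hm])) h.ne

end

variable {Ω : Type*} [Group Ω] {S R : Subgroup Ω} {F : FusionSystem S} {p : ℕ}

/-- The standing data. -/
structure PlaneData (F : FusionSystem S) (p : ℕ) (R : Subgroup Ω) (e f z : R) : Prop where
  e_pow : e ^ p = 1
  f_pow : f ^ p = 1
  central : ∀ r : R, r * z = z * r
  index : (Subgroup.zpowers z).index = p ^ 2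
  span : ∀ r : R, ∃ a b k : ℕ, r = e ^ a * f ^ b * z ^ k
  inv : ∀ α ∈ F.autGroup R, α z ∈ Subgroup.zpowers z
  nonab : z = 1 ∨ ∃ x y : R, x * y ≠ y * x

namespace PlaneData

variable {e f z : R}

theorem normal (hd : PlaneData F p R e f z) : (Subgroup.zpowers z).Normal :=
  ⟨fun x hx g => by
    obtain ⟨k, rfl⟩ := hx
    show g * z ^ k * g⁻¹ ∈ _
    rw [(Commute.zpow_right (hd.central g) k).eq, mul_inv_cancel_right]
    exact Subgroup.zpow_mem _ (Subgroup.mem_zpowers z) k⟩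

theorem quot_comm [Fact p.Prime] (hd : PlaneData F p R e f z) [(Subgroup.zpowers z).Normal]
    (x y : R ⧸ Subgroup.zpowers z) : x * y = y * x :=
  (IsPGroup.isMulCommutative_of_card_eq_prime_sq
    (by rw [← Subgroup.index_eq_card, hd.index])).is_comm.comm x y

theorem quot_pow [Fact p.Prime] (hd : PlaneData F p R e f z) [(Subgroup.zpowers z).Normal]
    (x : R ⧸ Subgroup.zpowers z) : x ^ p = 1 := by
  obtain ⟨r, rfl⟩ := QuotientGroup.mk_surjective x
  obtain ⟨a, b, k, rfl⟩ := hd.span r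
  simp only [QuotientGroup.mk_mul, QuotientGroup.mk_pow]
  have he : (e : R ⧸ Subgroup.zpowers z) ^ p = 1 := by
    rw [← QuotientGroup.mk_pow, hd.e_pow]; rfl
  have hf : (f : R ⧸ Subgroup.zpowers z) ^ p = 1 := by
    rw [← QuotientGroup.mk_pow, hd.f_pow]; rfl
  rw [(QuotientGroup.eq_one_iff z).2 (Subgroup.mem_zpowers z), one_pow, mul_one,
    (show Commute ((e : R ⧸ Subgroup.zpowers z) ^ a) ((f : R ⧸ Subgroup.zpowers z) ^ b) from
      hd.quot_comm _ _).mul_pow, ← pow_mul, ← pow_mul, mul_comm a, mul_comm b, pow_mul, pow_mul,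
    he, hf, one_pow, one_pow, one_mul]

theorem comm_mem [Fact p.Prime] (hd : PlaneData F p R e f z) (x y : R) :
    ⁅x, y⁆ ∈ Subgroup.zpowers z := by
  have := hd.normal
  rw [← QuotientGroup.eq_one_iff, ← QuotientGroup.mk'_apply, map_commutatorElement,
    commutatorElement_eq_one_iff_mul_comm]
  exact hd.quot_comm _ _

theorem comm_center [Fact p.Prime] (hd : PlaneData F p R e f z) (x y : R) :
    ⁅x, y⁆ ∈ Subgroup.center R := by
  obtain ⟨k, hk⟩ := hd.comm_mem x y
  rw [← hk, Subgroup.mem_center_iff]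
  exact fun r => (Commute.zpow_right (hd.central r) k).eq

/-- Elements `e ^ a * f ^ b` have order dividing `p`. -/
theorem lift_pow [Fact p.Prime] (hd : PlaneData F p R e f z) (hp2 : p ≠ 2) (a b : ℕ) :
    (e ^ a * f ^ b) ^ p = 1 := by
  have hodd : Odd p := (Fact.out : p.Prime).odd_of_ne_two hp2
  have hc := hd.comm_center (f ^ b) (e ^ a)
  have h1 : ⁅f ^ b, e ^ a⁆ ^ p = 1 := by
    rw [← PGroups.comm_pow_left_of_central hc p, ← pow_mul, mul_comm, pow_mul, hd.f_pow, one_pow]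
    simp
  rw [PGroups.mul_pow_of_central_odd hc hodd h1, ← pow_mul, ← pow_mul, mul_comm a, mul_comm b,
    pow_mul, pow_mul, hd.e_pow, hd.f_pow, one_pow, one_pow, one_mul]

theorem z_trivial_or (hd : PlaneData F p R e f z) : z = 1 ∨ ⁅e, f⁆ ≠ 1 := by
  refine hd.nonab.imp_right fun ⟨x, y, hxy⟩ h => hxy ?_
  have hef : Commute e f := commutatorElement_eq_one_iff_mul_comm.1 h
  obtain ⟨a, b, k, rfl⟩ := hd.span x
  obtain ⟨a', b', k', rfl⟩ := hd.span y
  have hz : ∀ (r : R) (k : ℕ), Commute r (z ^ k) := fun r k => Commute.pow_right (hd.central r) k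
  have hE : ∀ (a a' b' k' : ℕ), Commute (e ^ a) (e ^ a' * f ^ b' * z ^ k') := fun a a' b' k' =>
    ((Commute.pow_pow (Commute.refl e) a a').mul_right (hef.pow_pow a b')).mul_right (hz _ _)
  have hF : ∀ (b a' b' k' : ℕ), Commute (f ^ b) (e ^ a' * f ^ b' * z ^ k') := fun b a' b' k' =>
    ((hef.symm.pow_pow b a').mul_right (Commute.pow_pow (Commute.refl f) b b')).mul_right (hz _ _)
  exact (((hE a a' b' k').mul_left (hF b a' b' k')).mul_left (hz _ k).symm).eq

end PlaneData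

/-- A frame: the normalising element `g` acts by `e ↦ e f`, `f ↦ f`. -/
structure Frame (F : FusionSystem S) (p : ℕ) (R : Subgroup Ω) (e f z : R) (g : normalizerIn S R) :
    Prop extends PlaneData F p R e f z where
  g_not_mem : (g : Ω) ∉ R
  g_pow : (g : Ω) ^ p ∈ R
  act_e : e⁻¹ * conjAut g e * f⁻¹ ∈ Subgroup.zpowers z
  act_f : conjAut g f = f

theorem pow_mul_mem {g : Ω} (hg : g ∈ Subgroup.normalizer (R : Set Ω)) {r : Ω} (hr : r ∈ R)
    (n : ℕ) : ∃ r' ∈ R, (g * r) ^ n = g ^ n * r' := by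
  induction n with
  | zero => exact ⟨1, R.one_mem, by simp⟩
  | succ n ih =>
    obtain ⟨r', hr', h⟩ := ih
    have h1 : g⁻¹ * r' * g ∈ R := by
      have := conj_mem_of_mem_normalizer (inv_mem hg) hr'
      rwa [inv_inv] at this
    refine ⟨g⁻¹ * r' * g * r, R.mul_mem h1 hr, ?_⟩
    rw [pow_succ, h, pow_succ]; group

/-- Elements of order dividing `p` in `⟨z⟩` are powers of the commutator. -/
theorem PlaneData.mem_comm [Fact p.Prime] [Finite R] {e f z : R} (hd : PlaneData F p R e f z)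
    (hRp : IsPGroup p R) {w : R} (hw : w ∈ Subgroup.zpowers z) (hwp : w ^ p = 1) :
    w ∈ Subgroup.zpowers ⁅e, f⁆ := by
  rcases hd.z_trivial_or with h1 | h1
  · rw [h1, Subgroup.zpowers_one_eq_bot, Subgroup.mem_bot] at hw
    rw [hw]; exact one_mem _
  rcases PGroups.RankTwoOmega.mem_zpowers_or hRp hw (hd.comm_mem e f) with h | h
  · exact h
  · rw [hwp, Subgroup.zpowers_one_eq_bot, Subgroup.mem_bot] at h
    exact absurd h h1

theorem PlaneData.comm_pow [Fact p.Prime] {e f z : R} (hd : PlaneData F p R e f z) :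
    ⁅e, f⁆ ^ p = 1 := by
  rw [← PGroups.comm_pow_left_of_central (hd.comm_center e f) p, hd.e_pow]
  simp

/-- Maps congruent to `e ^ a`, `f ^ b` modulo `⟨z⟩` send the commutator to its `a * b`-th power. -/
theorem PlaneData.map_comm [Fact p.Prime] {e f z : R} (hd : PlaneData F p R e f z) (α : MulAut R)
    {a b : ℕ} (he : (e ^ a)⁻¹ * α e ∈ Subgroup.zpowers z)
    (hf : (f ^ b)⁻¹ * α f ∈ Subgroup.zpowers z) : α ⁅e, f⁆ = ⁅e, f⁆ ^ (a * b) := by
  have hcz : ∀ w ∈ Subgroup.zpowers z, ∀ r : R, ⁅w, r⁆ = 1 ∧ ⁅r, w⁆ = 1 := by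
    rintro _ ⟨k, rfl⟩ r
    exact ⟨commutatorElement_eq_one_iff_mul_comm.2 (Commute.zpow_right (hd.central r) k).eq.symm,
      commutatorElement_eq_one_iff_mul_comm.2 (Commute.zpow_right (hd.central r) k).eq⟩
  rw [map_commutatorElement, ← mul_inv_cancel_left (e ^ a) (α e),
    ← mul_inv_cancel_left (f ^ b) (α f),
    PGroups.comm_mul_left_of_central (hd.comm_center _ _), (hcz _ he _).1, mul_one,
    PGroups.comm_mul_right_of_central (hd.comm_center _ _), (hcz _ hf _).2, mul_one,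
    PGroups.comm_pow_left_of_central (hd.comm_center _ _),
    PGroups.comm_pow_right_of_central (hd.comm_center _ _), ← pow_mul, mul_comm b]

/-- If `α` fixes the commutator then its exponent on `z` is `1` modulo `p`. -/
theorem PlaneData.exponent_eq [Fact p.Prime] {e f z : R} (hd : PlaneData F p R e f z)
    (hz : z ≠ 1) {α : MulAut R} {k : ℕ} (hk : α z = z ^ k) (hα : α ⁅e, f⁆ = ⁅e, f⁆) :
    (k : ZMod p) = 1 := by
  obtain ⟨i, hi⟩ := hd.comm_mem e f
  have hi' : z ^ i = ⁅e, f⁆ := hi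
  rw [← hi', map_zpow, hk, ← zpow_natCast, ← zpow_mul, mul_comm, zpow_mul, hi', zpow_natCast] at hα
  nth_rewrite 2 [← pow_one ⁅e, f⁆] at hα
  rw [pow_eq_pow_iff_modEq, orderOf_eq_prime hd.comm_pow (hd.z_trivial_or.resolve_left hz),
    ← ZMod.natCast_eq_natCast_iff, Nat.cast_one] at hα
  exact hα

/-- Automorphisms of a radical subgroup centralising `R / ⟨z⟩` are inner. -/
theorem PlaneData.kernel_inn [Fact p.Prime] [Finite S] (hS : IsPGroup p S)
    (hc : F.IsCentric R) (hr : F.IsRadical p R) {e f z : R} (hd : PlaneData F p R e f z)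
    {α : MulAut R} (hα : α ∈ F.autGroup R) (h : ∀ r : R, r⁻¹ * α r ∈ Subgroup.zpowers z) :
    α ∈ Inn R := by
  have hp : p.Prime := Fact.out
  have := finite_le hc.1
  have := finite_mulAut_of_le (S := S) hc.1
  have := hd.normal
  set Z := Subgroup.zpowers z with hZdef
  have hZi : ∀ α ∈ F.autGroup R, ∀ x ∈ Z, α x ∈ Z := by
    rintro α hα _ ⟨k, rfl⟩
    show α (z ^ k) ∈ Z
    rw [map_zpow]; exact Subgroup.zpow_mem _ (hd.inv α hα) k
  let K : Subgroup (MulAut R) :=
    { carrier := {β | β ∈ F.autGroup R ∧ ∀ r : R, r⁻¹ * β r ∈ Z}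
      one_mem' := ⟨one_mem _, fun r => by simp⟩
      mul_mem' := fun {β γ} hβ hγ => ⟨Subgroup.mul_mem _ hβ.1 hγ.1, fun r => by
        have := Z.mul_mem (hγ.2 r) (hβ.2 (γ r))
        rwa [mul_assoc, mul_inv_cancel_left] at this⟩
      inv_mem' := fun {β} hβ => ⟨Subgroup.inv_mem _ hβ.1, fun r => by
        have := Z.inv_mem (hβ.2 (β⁻¹ r))
        rwa [MulAut.apply_inv_self, mul_inv_rev, inv_inv] at this⟩ }
  refine mem_inn_of_normal hS hc.1 hr (K := K) (fun β h => h.1) (fun β hβ κ hκ =>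
    ⟨Subgroup.mul_mem _ (Subgroup.mul_mem _ hβ hκ.1) (Subgroup.inv_mem _ hβ), fun r => ?_⟩)
    (fun κ => ?_) ⟨hα, h⟩
  · show r⁻¹ * β (κ (β⁻¹ r)) ∈ Z
    have h1 := hZi β hβ _ (hκ.2 (β⁻¹ r))
    rwa [map_mul, map_inv, MulAut.apply_inv_self] at h1
  obtain ⟨β, hβA, hβ⟩ := κ
  obtain ⟨s, hs⟩ := IsPGroup.iff_orderOf.1 (hS.to_le hc.1) z
  obtain ⟨k, hk⟩ := mem_powers_iff_mem_zpowers.2 (hd.inv β hβA)
  have hk' : β z = z ^ k := hk.symm
  -- a power fixing `z`
  have hz : (β ^ p ^ s) z = z := by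
    have hit : ∀ n : ℕ, (β ^ n) z = z ^ k ^ n := by
      intro n
      induction n with
      | zero => simp
      | succ n ih => rw [pow_succ', MulAut.mul_apply, ih, map_pow, hk', ← pow_mul, pow_succ']
    rcases hd.z_trivial_or with h1 | h1
    · rw [h1, map_one]
    have hk1 := hd.exponent_eq (fun h0 => h1 (by
      obtain ⟨i, hi⟩ := hd.comm_mem e f
      rw [← hi, h0]; exact one_zpow i)) hk'
      (by rw [hd.map_comm β (a := 1) (b := 1) (by rw [pow_one]; exact hβ e)
        (by rw [pow_one]; exact hβ f), mul_one, pow_one])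
    have hdiv : (p : ℤ) ∣ (k : ℤ) - 1 := by
      rw [← ZMod.intCast_zmod_eq_zero_iff_dvd]; push_cast; rw [hk1, sub_self]
    have h2 := dvd_sub_pow_of_dvd_sub hdiv s
    rw [one_pow] at h2
    rw [hit]
    nth_rewrite 2 [← pow_one z]
    rw [pow_eq_pow_iff_modEq, hs]
    exact ((Nat.modEq_iff_dvd.2 (by
      push_cast
      exact dvd_trans ⟨p, by rw [pow_succ]⟩ h2)) : 1 ≡ k ^ p ^ s [MOD p ^ s]).symm
  -- a power fixing everything
  have hfix : ∀ y : R, ((β ^ p ^ s) ^ p ^ s) y = y := by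
    intro y
    obtain ⟨i, hi⟩ := ((K.pow_mem (⟨hβA, hβ⟩ : β ∈ K) (p ^ s)).2 y)
    have hzi : (β ^ p ^ s) (z ^ i) = z ^ i := by rw [map_zpow, hz]
    refine PGroups.Transvections.pow_fix (v := z ^ i) ?_ hzi ?_
    · rw [show z ^ i = y⁻¹ * (β ^ p ^ s) y from hi, mul_inv_cancel_left]
    · rw [← zpow_natCast, ← zpow_mul, mul_comm, zpow_mul, zpow_natCast, ← hs, pow_orderOf_eq_one,
        one_zpow]
  refine ⟨s + s, Subtype.ext ?_⟩
  show β ^ p ^ (s + s) = 1
  rw [pow_add, pow_mul]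
  exact MulEquiv.ext hfix

/-- Frames exist. -/
theorem exists_frame [Fact p.Prime] [Finite S] (hS : IsPGroup p S) (hp2 : p ≠ 2)
    (hc : F.IsCentric R) (hr : F.IsRadical p R) (hne : R ≠ S) {e₀ f₀ z : R}
    (hd : PlaneData F p R e₀ f₀ z) :
    ∃ (e f : R) (g : normalizerIn S R), Frame F p R e f z g := by
  have hp : p.Prime := Fact.out
  have := finite_le hc.1
  have := finite_mulAut_of_le (S := S) hc.1
  have hRp : IsPGroup p R := hS.to_le hc.1
  have := hd.normal
  obtain ⟨g, hgR, hgp⟩ := exists_step hS hc.1 hne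
  obtain ⟨t, ht⟩ := conjAut_pow_eq_one hS g
  set u := conjAut g with hu
  have huA : u ∈ F.autGroup R := conjAut_mem_autGroup hc.1 g
  set Z := Subgroup.zpowers z with hZdef
  have hZi : ∀ α ∈ F.autGroup R, ∀ x ∈ Z, α x ∈ Z := by
    rintro α hα _ ⟨k, rfl⟩
    show α (z ^ k) ∈ Z
    rw [map_zpow]; exact Subgroup.zpow_mem _ (hd.inv α hα) k
  have hZe : Z.map u.toMonoidHom = Z := Subgroup.eq_of_le_of_card_ge (by
      rintro _ ⟨x, hx, rfl⟩; exact hZi u huA x hx)
    (Subgroup.card_map_of_injective (f := u.toMonoidHom) u.injective).ge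
  set τ : MulAut (R ⧸ Z) := QuotientGroup.congr Z Z u hZe with hτ
  have hτv : ∀ x : R, τ (x : R ⧸ Z) = ((u x : R) : R ⧸ Z) := fun x => rfl
  have hτn : ∀ (n : ℕ) (x : R), (τ ^ n) (x : R ⧸ Z) = (((u ^ n) x : R) : R ⧸ Z) := by
    intro n x
    induction n with
    | zero => rfl
    | succ n ih => rw [pow_succ', pow_succ', MulAut.mul_apply, MulAut.mul_apply, ih, hτv]
  have hτne : τ ≠ 1 := fun h1 => hgR (mem_of_conjAut_inn hc g
    (hd.kernel_inn hS hc hr huA fun y => QuotientGroup.eq.1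
      (show (y : R ⧸ Z) = ((u y : R) : R ⧸ Z) by rw [← hτv, h1]; rfl)))
  obtain ⟨a, b, hab, hbb, hb1, hspan⟩ := unipotent_plane (t := t) hd.quot_comm
    (by rw [← Subgroup.index_eq_card, hd.index]) hd.quot_pow τ
    (MulEquiv.ext fun q => by
      obtain ⟨q, rfl⟩ := QuotientGroup.mk_surjective q
      rw [hτn, ht]; rfl) hτne
  have hlift : ∀ q : R ⧸ Z, ∃ r : R, r ^ p = 1 ∧ (r : R ⧸ Z) = q := fun q => by
    obtain ⟨r, rfl⟩ := QuotientGroup.mk_surjective q
    obtain ⟨i, j, k, rfl⟩ := hd.span r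
    refine ⟨e₀ ^ i * f₀ ^ j, hd.lift_pow hp2 i j, ?_⟩
    rw [QuotientGroup.eq, inv_mul_cancel_left]
    exact Subgroup.pow_mem _ (Subgroup.mem_zpowers z) k
  obtain ⟨e, hep, rfl⟩ := hlift a
  obtain ⟨f, hfp, rfl⟩ := hlift b
  have hd' : PlaneData F p R e f z :=
    { e_pow := hep
      f_pow := hfp
      central := hd.central
      index := hd.index
      inv := hd.inv
      nonab := hd.nonab
      span := fun r => by
        obtain ⟨i, j, hij⟩ := hspan r
        rw [← QuotientGroup.mk_pow, ← QuotientGroup.mk_pow, ← QuotientGroup.mk_mul, eq_comm,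
          QuotientGroup.eq] at hij
        obtain ⟨k, hk⟩ := mem_powers_iff_mem_zpowers.2 hij
        exact ⟨i, j, k, by rw [show z ^ k = (e ^ i * f ^ j)⁻¹ * r from hk, mul_inv_cancel_left]⟩ }
  have hue : e⁻¹ * u e * f⁻¹ ∈ Z := by
    rw [hτv, ← QuotientGroup.mk_mul, eq_comm, QuotientGroup.eq] at hab
    have := hd.normal.conj_mem _ hab f
    simpa [mul_assoc] using this
  have huf : f⁻¹ * u f ∈ Z := by
    rw [hτv, eq_comm, QuotientGroup.eq] at hbb
    exact hbb
  have hwp : (f⁻¹ * u f) ^ p = 1 := by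
    obtain ⟨i, hi⟩ := huf
    have hcom : Commute f (f⁻¹ * u f) := by
      rw [← hi]; exact Commute.zpow_right (hd.central f) i
    have h1 : (f * (f⁻¹ * u f)) ^ p = 1 := by
      rw [mul_inv_cancel_left, ← map_pow, hfp, map_one]
    rwa [hcom.mul_pow, hfp, one_mul] at h1
  obtain ⟨l, hl⟩ := mem_powers_iff_mem_zpowers.2 (hd'.mem_comm hRp huf hwp)
  have hl' : u f = f * ⁅e, f⁆ ^ l := by
    rw [show ⁅e, f⁆ ^ l = f⁻¹ * u f from hl, mul_inv_cancel_left]
  have huc : u ⁅e, f⁆ = ⁅e, f⁆ := by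
    obtain ⟨i, hi⟩ := hd'.comm_mem e f
    obtain ⟨j, hj⟩ := hue
    have hue' : u e = e * (z ^ j * f) := by
      rw [show z ^ j = e⁻¹ * u e * f⁻¹ from hj]; group
    have hcz : ∀ r : R, ∀ n : ℤ, Commute r (z ^ n) := fun r n => Commute.zpow_right (hd.central r) n
    have hcc : Commute (z ^ j * f) (f * ⁅e, f⁆ ^ l) := by
      refine Commute.mul_left (hcz _ j).symm ((Commute.refl f).mul_right ?_)
      rw [← hi]; exact (hcz f i).pow_right l
    rw [map_commutatorElement, hl', hue',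
      PGroups.comm_mul_left_of_central (hd'.comm_center _ _),
      commutatorElement_eq_one_iff_mul_comm.2 hcc.eq, mul_one,
      PGroups.comm_mul_right_of_central (hd'.comm_center _ _),
      commutatorElement_eq_one_iff_mul_comm.2 (show Commute e (⁅e, f⁆ ^ l) by
        rw [← hi]; exact (hcz e i).pow_right l).eq, mul_one]
  set k := (p - 1) * l with hk
  let g' : normalizerIn S R := ⟨(g : Ω) * ((e ^ k : R) : Ω),
    S.mul_mem g.2.1 (hc.1 (e ^ k).2), mul_mem g.2.2 (Subgroup.le_normalizer (e ^ k).2)⟩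
  have hu' : ∀ x : R, conjAut g' x = u (e ^ k * x * (e ^ k)⁻¹) := fun x => Subtype.ext (by
    rw [conjAut_apply, hu, conjAut_apply, Subgroup.coe_mul, Subgroup.coe_mul, Subgroup.coe_inv,
      mul_inv_rev]
    simp only [g', mul_assoc])
  refine ⟨e, f, g', { hd' with g_not_mem := ?_, g_pow := ?_, act_e := ?_, act_f := ?_ }⟩
  · exact fun h => hgR ((R.mul_mem_cancel_right (e ^ k).2).1 h)
  · obtain ⟨r', hr', h⟩ := pow_mul_mem g.2.2 (e ^ k).2 p
    show ((g : Ω) * ((e ^ k : R) : Ω)) ^ p ∈ R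
    rw [h]; exact R.mul_mem hgp hr'
  · rw [hu', (Commute.pow_self e k).eq, mul_inv_cancel_right]
    exact hue
  · have hef : e ^ k * f * (e ^ k)⁻¹ = ⁅e, f⁆ ^ k * f := by
      rw [← PGroups.comm_pow_left_of_central (hd'.comm_center _ _), commutatorElement_def]; group
    obtain ⟨i, hi⟩ := hd'.comm_mem e f
    have hcf : Commute (⁅e, f⁆ ^ k) f := by
      rw [← hi]; exact ((Commute.zpow_right (hd.central f) i).pow_right k).symm
    rw [hu', hef, map_mul, map_pow, huc, hl', ← mul_assoc, hcf.eq, mul_assoc, ← pow_add,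
      hk, show (p - 1) * l + l = p * l by
        rw [← Nat.succ_mul, Nat.succ_eq_add_one, Nat.sub_add_cancel hp.one_le],
      pow_mul, hd'.comm_pow, one_pow, mul_one]

/-- Coordinates on `R / ⟨z⟩`. -/
theorem PlaneData.exists_coords [Fact p.Prime] {e f z : R} (hd : PlaneData F p R e f z) :
    ∃ π : R → ZMod p × ZMod p, (∀ x y, π (x * y) = π x + π y) ∧
      (∀ r, π r = 0 ↔ r ∈ Subgroup.zpowers z) ∧
      ∀ a b : ℕ, π (e ^ a * f ^ b) = ((a : ZMod p), (b : ZMod p)) := by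
  classical
  have hp : p.Prime := Fact.out
  have := hd.normal
  have : NeZero p := ⟨hp.ne_zero⟩
  let Φ : ZMod p × ZMod p → R ⧸ Subgroup.zpowers z := fun v =>
    (e : R ⧸ Subgroup.zpowers z) ^ v.1.val * (f : R ⧸ Subgroup.zpowers z) ^ v.2.val
  have hnat : ∀ a b : ℕ, Φ ((a : ZMod p), (b : ZMod p)) =
      ((e ^ a * f ^ b : R) : R ⧸ Subgroup.zpowers z) := fun a b => by
    show (e : R ⧸ Subgroup.zpowers z) ^ (a : ZMod p).val *
      (f : R ⧸ Subgroup.zpowers z) ^ (b : ZMod p).val = _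
    rw [QuotientGroup.mk_mul, QuotientGroup.mk_pow, QuotientGroup.mk_pow, ZMod.val_natCast,
      ZMod.val_natCast, ← pow_eq_pow_mod a (hd.quot_pow _), ← pow_eq_pow_mod b (hd.quot_pow _)]
  have hsurj : Function.Surjective Φ := fun q => by
    obtain ⟨r, rfl⟩ := QuotientGroup.mk_surjective q
    obtain ⟨a, b, k, rfl⟩ := hd.span r
    refine ⟨((a : ZMod p), (b : ZMod p)), ?_⟩
    rw [hnat, QuotientGroup.eq, inv_mul_cancel_left]
    exact Subgroup.pow_mem _ (Subgroup.mem_zpowers z) k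
  have hbij : Function.Bijective Φ := (Nat.bijective_iff_surjective_and_card Φ).2 ⟨hsurj, by
    rw [Nat.card_prod, Nat.card_zmod, ← Subgroup.index_eq_card, hd.index, pow_two]⟩
  have hadd : ∀ v w, Φ (v + w) = Φ v * Φ w := by
    rintro ⟨a, b⟩ ⟨a', b'⟩
    obtain ⟨a, rfl⟩ := ZMod.natCast_zmod_surjective a
    obtain ⟨b, rfl⟩ := ZMod.natCast_zmod_surjective b
    obtain ⟨a', rfl⟩ := ZMod.natCast_zmod_surjective a'
    obtain ⟨b', rfl⟩ := ZMod.natCast_zmod_surjective b'
    rw [Prod.mk_add_mk, ← Nat.cast_add, ← Nat.cast_add, hnat, hnat, hnat]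
    simp only [QuotientGroup.mk_mul, QuotientGroup.mk_pow, pow_add]
    exact (show Commute ((e : R ⧸ Subgroup.zpowers z) ^ a') ((f : R ⧸ Subgroup.zpowers z) ^ b) from
      hd.quot_comm _ _).mul_mul_mul_comm _ _
  set ε := Equiv.ofBijective Φ hbij with hε
  have hinv : ∀ q, Φ (ε.symm q) = q := fun q => ε.apply_symm_apply q
  refine ⟨fun r => ε.symm (r : R ⧸ Subgroup.zpowers z), fun x y => hbij.1 ?_, fun r => ?_,
    fun a b => hbij.1 ?_⟩
  · rw [hinv, hadd, hinv, hinv, QuotientGroup.mk_mul]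
  · have h0 : Φ 0 = 1 := by simp [Φ]
    rw [← hbij.1.eq_iff, hinv, h0, QuotientGroup.eq_one_iff]
  · rw [hinv, hnat]

variable {e f z : R} {g : normalizerIn S R}

/-- The diagonal automorphisms of `R / ⟨z⟩`. -/
theorem Frame.exists_torus [Fact p.Prime] [Finite S] (hS : IsPGroup p S) (hc : F.IsCentric R)
    (hr : F.IsRadical p R) (hfr : Frame F p R e f z g) {π : R → ZMod p × ZMod p}
    (hπ : ∀ x y, π (x * y) = π x + π y) (hker : ∀ r, π r = 0 ↔ r ∈ Subgroup.zpowers z)
    (hπn : ∀ a b : ℕ, π (e ^ a * f ^ b) = ((a : ZMod p), (b : ZMod p)))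
    {l : ZMod p} (hl : l ≠ 0) :
    ∃ δ ∈ F.autGroup R, ∀ r, π (δ r) = (l * (π r).1, l⁻¹ * (π r).2) := by
  classical
  have hp : p.Prime := Fact.out
  have : NeZero p := ⟨hp.ne_zero⟩
  have := finite_le hc.1
  have := finite_mulAut_of_le (S := S) hc.1
  set A := F.autGroup R with hA
  set u := conjAut g with hu
  have huA : u ∈ A := conjAut_mem_autGroup hc.1 g
  have hπ1 : π 1 = 0 := (hker 1).2 (one_mem _)
  have hπi : ∀ x, π x⁻¹ = -π x := fun x => eq_neg_of_add_eq_zero_left (by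
    rw [← hπ, inv_mul_cancel, hπ1])
  have hπz : ∀ x ∈ Subgroup.zpowers z, ∀ α ∈ A, π (α x) = 0 := by
    rintro _ ⟨k, rfl⟩ α hα
    refine (hker _).2 ?_
    show α (z ^ k) ∈ _
    rw [map_zpow]; exact Subgroup.zpow_mem _ (hfr.inv α hα) k
  -- every automiser element is linear on the coordinates
  have hπp : ∀ (x : R) (n : ℕ), π (x ^ n) = (n : ZMod p) • π x := by
    intro x n
    induction n with
    | zero => simp [hπ1]
    | succ n ih => rw [pow_succ, hπ, ih, Nat.cast_succ, add_smul, one_smul]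
  have hlin : ∀ α ∈ A, ∀ r, π (α r) = (π r).1 • π (α e) + (π r).2 • π (α f) := by
    intro α hα r
    obtain ⟨a, b, k, rfl⟩ := hfr.span r
    rw [map_mul, map_mul, map_pow, map_pow, hπ, hπz _ (Subgroup.pow_mem _ (Subgroup.mem_zpowers z) k)
      α hα, add_zero, hπ, hπp, hπp, hπ (e ^ a * f ^ b), (hker (z ^ k)).2
      (Subgroup.pow_mem _ (Subgroup.mem_zpowers z) k), add_zero, hπn]
  have hπe : π e = (1, 0) := by simpa using hπn 1 0
  have hπf : π f = (0, 1) := by simpa using hπn 0 1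
  have hue : π (u e) = (1, 1) := by
    obtain ⟨hz', h⟩ : ∃ w ∈ Subgroup.zpowers z, u e = e * (w * f) :=
      ⟨_, hfr.act_e, by rw [hu]; group⟩
    rw [h.2, hπ, hπ, (hker _).2 h.1, hπe, hπf]; simp
  have huv : ∀ r, π (u r) = ((π r).1, (π r).2 + (π r).1) := fun r => by
    rw [hlin u huA, hue, show u f = f from hfr.act_f, hπf]
    ext <;> simp [add_comm]
  have hupow : ∀ (n : ℕ) (r), π ((u ^ n) r) = ((π r).1, (π r).2 + n * (π r).1) := by
    intro n
    induction n with
    | zero => simp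
    | succ n ih =>
      intro r
      rw [pow_succ', MulAut.mul_apply, huv, ih]
      ext
      · rfl
      · push_cast; ring
  -- an element moving the fixed line
  obtain ⟨γ, hγ, hγf⟩ : ∃ α ∈ A, (π (α f)).1 ≠ 0 := by
    by_contra hno
    push Not at hno
    let L : Subgroup (MulAut R) :=
      { carrier := {α | α ∈ A ∧ ∃ k : ZMod p, ∀ r, π (α r) = ((π r).1, (π r).2 + k * (π r).1)}
        one_mem' := ⟨one_mem _, 0, fun r => by simp⟩
        mul_mem' := fun {α β} hα hβ => ⟨A.mul_mem hα.1 hβ.1, by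
          obtain ⟨i, hi⟩ := hα.2; obtain ⟨j, hj⟩ := hβ.2
          refine ⟨i + j, fun r => ?_⟩
          rw [MulAut.mul_apply, hi, hj]
          ext
          · rfl
          · ring⟩
        inv_mem' := fun {α} hα => ⟨A.inv_mem hα.1, by
          obtain ⟨i, hi⟩ := hα.2
          refine ⟨-i, fun r => ?_⟩
          have h := hi (α⁻¹ r)
          rw [MulAut.apply_inv_self] at h
          rw [h]
          ext
          · rfl
          · ring⟩ }
    refine hfr.g_not_mem (mem_of_conjAut_inn hc g (mem_inn_of_normal hS hc.1 hr (K := L)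
      (fun α h => h.1) (fun α hα κ hκ => ⟨A.mul_mem (A.mul_mem hα hκ.1) (A.inv_mem hα), ?_⟩)
      (fun κ => ?_) ⟨huA, 1, fun r => by rw [huv, one_mul]⟩))
    · obtain ⟨k, hk⟩ := hκ.2
      have h1 : (π (α e)).1 ≠ 0 := fun h0 => by
        have h2 := hlin α hα (α⁻¹ e)
        rw [MulAut.apply_inv_self, hπe] at h2
        have h3 := congrArg Prod.fst h2
        simp [h0, hno α hα] at h3
      refine ⟨(π (α f)).2 * k / (π (α e)).1, fun r => ?_⟩
      obtain ⟨s, rfl⟩ := α.surjective r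
      rw [MulAut.mul_apply, MulAut.mul_apply, MulAut.inv_apply_self, hlin α hα, hk, hlin α hα s]
      ext
      · simp [hno α hα]
      · simp [hno α hα]; field_simp; ring
    · obtain ⟨κ, hκA, k, hk⟩ := κ
      have hn : ∀ (n : ℕ) (r), π ((κ ^ n) r) = ((π r).1, (π r).2 + n * k * (π r).1) := by
        intro n
        induction n with
        | zero => simp
        | succ n ih =>
          intro r
          rw [pow_succ', MulAut.mul_apply, hk, ih]
          ext
          · rfl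
          · push_cast; ring
      obtain ⟨y, hy⟩ : (κ ^ p) ∈ Inn R := hfr.kernel_inn hS hc hr (A.pow_mem hκA p) fun r =>
        (hker _).1 (by rw [hπ, hπi, hn]; simp)
      obtain ⟨t, ht⟩ := (hS.to_le hc.1) y
      refine ⟨t + 1, Subtype.ext ?_⟩
      show κ ^ p ^ (t + 1) = 1
      rw [pow_succ', pow_mul, ← hy, ← map_pow, ht, map_one]
  -- normalise it
  set c := (π (γ f)).1 with hcdef
  obtain ⟨n, hn⟩ := ZMod.natCast_zmod_surjective (-(π (γ f)).2 / c)
  set γ' := u ^ n * γ with hγ'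
  have hγ'A : γ' ∈ A := A.mul_mem (A.pow_mem huA n) hγ
  have hγ'f : π (γ' f) = (c, 0) := by
    rw [hγ', MulAut.mul_apply, hupow, hn]
    ext
    · rfl
    · show (π (γ f)).2 + -(π (γ f)).2 / c * c = 0
      rw [div_mul_cancel₀ _ hγf, add_neg_cancel]
  set b := (π (γ' e)).2 with hbdef
  have hb : b ≠ 0 := fun h0 => by
    have h2 := congrArg Prod.snd (hlin γ' hγ'A (γ'⁻¹ f))
    rw [MulAut.apply_inv_self, hπf, hγ'f] at h2
    simp [← hbdef, h0] at h2
  set W := γ' * u * γ'⁻¹ with hW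
  have hWA : W ∈ A := A.mul_mem (A.mul_mem hγ'A huA) (A.inv_mem hγ'A)
  have hWv : ∀ r, π (W r) = ((π r).1 + c / b * (π r).2, (π r).2) := by
    intro r
    obtain ⟨s, rfl⟩ := γ'.surjective r
    rw [hW, MulAut.mul_apply, MulAut.mul_apply, MulAut.inv_apply_self, hlin γ' hγ'A, huv,
      hlin γ' hγ'A s, hγ'f]
    ext
    · simp [← hbdef]; field_simp; ring
    · simp [← hbdef]
  have hWpow : ∀ (n : ℕ) (r), π ((W ^ n) r) = ((π r).1 + n * (c / b) * (π r).2, (π r).2) := by
    intro n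
    induction n with
    | zero => simp
    | succ n ih =>
      intro r
      rw [pow_succ', MulAut.mul_apply, hWv, ih]
      ext
      · push_cast; ring
      · rfl
  have hX : ∀ k : ZMod p, ∃ α ∈ A, ∀ r, π (α r) = ((π r).1 + k * (π r).2, (π r).2) := fun k => by
    obtain ⟨m, hm⟩ := ZMod.natCast_zmod_surjective (k / (c / b))
    exact ⟨W ^ m, A.pow_mem hWA m, fun r => by
      rw [hWpow, hm, div_mul_cancel₀ _ (div_ne_zero hγf hb)]⟩
  have hY : ∀ k : ZMod p, ∃ α ∈ A, ∀ r, π (α r) = ((π r).1, (π r).2 + k * (π r).1) := fun k => by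
    obtain ⟨m, hm⟩ := ZMod.natCast_zmod_surjective k
    exact ⟨u ^ m, A.pow_mem huA m, fun r => by rw [hupow, hm]⟩
  obtain ⟨X₁, hX₁A, hX₁⟩ := hX l
  obtain ⟨Y₁, hY₁A, hY₁⟩ := hY (-l⁻¹)
  obtain ⟨X₂, hX₂A, hX₂⟩ := hX (-1)
  obtain ⟨Y₂, hY₂A, hY₂⟩ := hY 1
  refine ⟨X₁ * Y₁ * X₁ * (X₂ * Y₂ * X₂),
    A.mul_mem (A.mul_mem (A.mul_mem hX₁A hY₁A) hX₁A) (A.mul_mem (A.mul_mem hX₂A hY₂A) hX₂A),
    fun r => ?_⟩
  simp only [MulAut.mul_apply, hX₁, hY₁, hX₂, hY₂]
  ext
  · field_simp; ring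
  · field_simp; ring

/-- Extending the torus element `diag(-1/2, -2)` over `g`. -/
theorem Frame.extend_torus [Fact p.Prime] [Finite S] (hS : IsPGroup p S) (hF : F.IsSaturated p)
    (hp5 : 5 ≤ p) (hc : F.IsCentric R) (hr : F.IsRadical p R) (hfr : Frame F p R e f z g) :
    ∃ (a m : ℕ) (δ : MulAut R), δ ∈ F.autGroup R ∧ (m : ZMod p) = -2 ∧ (a : ZMod p) * m = 1 ∧
      (e ^ a)⁻¹ * δ e ∈ Subgroup.zpowers z ∧ (f ^ m)⁻¹ * δ f ∈ Subgroup.zpowers z ∧
      ∃ ψ ∈ F.Hom (R ⊔ Subgroup.zpowers (g : Ω)),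
        (∀ x : R, ψ (Subgroup.inclusion le_sup_left x) = (δ x : Ω)) ∧
        ∃ r : R, ψ ⟨g, Subgroup.mem_sup_right (Subgroup.mem_zpowers _)⟩ = (r : Ω) * (g : Ω) ^ 4 := by
  classical
  have hp : p.Prime := Fact.out
  have : NeZero p := ⟨hp.ne_zero⟩
  have := finite_le hc.1
  have := finite_mulAut_of_le (S := S) hc.1
  obtain ⟨π, hπ, hker, hπn⟩ := hfr.exists_coords
  have h2 : (-2 : ZMod p) ≠ 0 := by
    rw [neg_ne_zero]
    exact fun h => absurd (Nat.le_of_dvd two_pos ((ZMod.natCast_eq_zero_iff 2 p).1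
      (by exact_mod_cast h))) (by omega)
  obtain ⟨δ, hδ, hδv⟩ := hfr.exists_torus hS hc hr hπ hker hπn (inv_ne_zero h2)
  rw [inv_inv] at hδv
  obtain ⟨m, hm⟩ := ZMod.natCast_zmod_surjective (-2 : ZMod p)
  obtain ⟨a, ha⟩ := ZMod.natCast_zmod_surjective ((-2 : ZMod p)⁻¹)
  have hπi : ∀ x, π x⁻¹ = -π x := fun x => eq_neg_of_add_eq_zero_left (by
    rw [← hπ, inv_mul_cancel, (hker 1).2 (one_mem _)])
  have hπe : π e = (1, 0) := by simpa using hπn 1 0
  have hπf : π f = (0, 1) := by simpa using hπn 0 1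
  have hπea : π (e ^ a) = ((a : ZMod p), 0) := by simpa using hπn a 0
  have hπfm : π (f ^ m) = (0, (m : ZMod p)) := by simpa using hπn 0 m
  refine ⟨a, m, δ, hδ, hm, by rw [ha, hm, inv_mul_cancel₀ h2], (hker _).1 ?_, (hker _).1 ?_, ?_⟩
  · rw [hπ, hπi, hπea, hδv, hπe, ha]; simp
  · rw [hπ, hπi, hπfm, hδv, hπf, hm]; simp
  have hlinu : ∀ r, π (conjAut g r) = ((π r).1, (π r).2 + (π r).1) := by
    intro r
    obtain ⟨i, j, k, rfl⟩ := hfr.span r
    have hue : π (conjAut g e) = (1, 1) := by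
      rw [show conjAut g e = e * (e⁻¹ * conjAut g e * f⁻¹) * f by group, hπ, hπ,
        (hker _).2 hfr.act_e, hπe, hπf]; simp
    have hz : ∀ α : MulAut R, α ∈ F.autGroup R → π (α (z ^ k)) = 0 := fun α hα => (hker _).2 (by
      rw [map_pow]; exact Subgroup.pow_mem _ (hfr.inv α hα) k)
    have hπp : ∀ (x : R) (n : ℕ), π (x ^ n) = n • π x := by
      intro x n
      induction n with
      | zero => simp [(hker 1).2 (one_mem _)]
      | succ n ih => rw [pow_succ, hπ, ih, succ_nsmul]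
    rw [map_mul, hπ, hz _ (conjAut_mem_autGroup hc.1 g), hπ (e ^ i * f ^ j),
      (hker (z ^ k)).2 (Subgroup.pow_mem _ (Subgroup.mem_zpowers z) k), hπn, map_mul, map_pow,
      map_pow, hfr.act_f, hπ, hπp, hπp, hue, hπf]
    ext <;> simp [add_comm]
  set u := conjAut g with hu
  have hu4 : ∀ r, π ((u ^ 4) r) = ((π r).1, (π r).2 + 4 * (π r).1) := fun r => by
    simp only [pow_succ, pow_zero, one_mul, MulAut.mul_apply, hlinu]
    ext
    · rfl
    · ring
  have hker' : ∀ r, π ((δ * u * δ⁻¹ * (u ^ 4)⁻¹) r) = π r := by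
    intro r
    obtain ⟨s, rfl⟩ := (u ^ 4).surjective r
    rw [MulAut.mul_apply, MulAut.inv_apply_self, hu4]
    obtain ⟨q, rfl⟩ := δ.surjective s
    rw [MulAut.mul_apply, MulAut.mul_apply, MulAut.inv_apply_self, hδv, hlinu, hδv]
    ext
    · rfl
    · have h2' : (2 : ZMod p) ≠ 0 := neg_ne_zero.1 h2
      field_simp
      ring
  have huA := conjAut_mem_autGroup (F := F) hc.1 g
  obtain ⟨y, hy⟩ := hfr.kernel_inn hS hc hr (Subgroup.mul_mem _ (Subgroup.mul_mem _
    (Subgroup.mul_mem _ hδ huA) (Subgroup.inv_mem _ hδ))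
    (Subgroup.inv_mem _ (Subgroup.pow_mem _ huA 4))) fun r =>
      (hker _).1 (by rw [hπ, hπi, hker', neg_add_cancel])
  let h : normalizerIn S R := ⟨(y : Ω) * (g : Ω) ^ 4, S.mul_mem (hc.1 y.2) (S.pow_mem g.2.1 4),
    mul_mem (Subgroup.le_normalizer y.2) (pow_mem g.2.2 4)⟩
  have hh : conjAut h = MulAut.conj y * u ^ 4 := MulEquiv.ext fun x => Subtype.ext (by
    rw [MulAut.mul_apply, MulAut.conj_apply, Subgroup.coe_mul, Subgroup.coe_mul, Subgroup.coe_inv,
      conjAut_pow, conjAut_apply]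
    simp only [h, mul_inv_rev, mul_assoc])
  obtain ⟨ψ, hψ, hψv, r, hr'⟩ := centric_extend hS hF hc hδ g h (by
    rw [hh, hy, inv_mul_cancel_right, inv_mul_cancel_right])
  exact ⟨ψ, hψ, hψv, r * y, by rw [hr', Subgroup.coe_mul, mul_assoc]⟩

/-- Powers of `r * g ^ 4` on the coordinates. -/
theorem pow_coords {π : R → ZMod p × ZMod p} (hπ : ∀ x y, π (x * y) = π x + π y)
    (hπ1 : π 1 = 0) (g : normalizerIn S R)
    (hu : ∀ r, π (conjAut g r) = ((π r).1, (π r).2 + (π r).1)) (r : R) (n : ℕ) :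
    ∃ rn : R, ((r : Ω) * (g : Ω) ^ 4) ^ n = (rn : Ω) * (g : Ω) ^ (4 * n) ∧
      π rn = ((n : ZMod p) * (π r).1, (n : ZMod p) * (π r).2 + 4 * (n.choose 2 : ℕ) * (π r).1) := by
  induction n with
  | zero => exact ⟨1, by simp, by rw [hπ1]; ext <;> simp⟩
  | succ n ih =>
    obtain ⟨rn, h1, h2⟩ := ih
    have hpow : ∀ (k : ℕ) (x : R), π ((conjAut g ^ k) x) = ((π x).1, (π x).2 + k * (π x).1) := by
      intro k
      induction k with
      | zero => simp
      | succ k ih' =>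
        intro x
        rw [pow_succ', MulAut.mul_apply, hu, ih']
        ext
        · rfl
        · push_cast; ring
    refine ⟨rn * (conjAut g ^ (4 * n)) r, ?_, ?_⟩
    · rw [pow_succ, h1, Subgroup.coe_mul, conjAut_pow, mul_add, pow_add, mul_one]
      group
    · rw [hπ, h2, hpow, Nat.choose_succ_succ, Nat.choose_one_right]
      ext
      · push_cast; simp; ring
      · push_cast; simp; ring

/-- The outcome: `R` is elementary abelian and `g` has order `p`. -/
theorem Frame.conclude [Fact p.Prime] [Finite S] (hS : IsPGroup p S) (hF : F.IsSaturated p)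
    (hp5 : 5 ≤ p) (hrank3 : ∀ E : Subgroup Ω, E ≤ S → Cfsg.IsElementaryAbelian p E →
      Nat.card E ≤ p ^ 2)
    (hc : F.IsCentric R) (hr : F.IsRadical p R) (hfr : Frame F p R e f z g) :
    z = 1 ∧ (g : Ω) ^ p = 1 := by
  classical
  have hp : p.Prime := Fact.out
  have : NeZero p := ⟨hp.ne_zero⟩
  have hodd : Odd p := hp.odd_of_ne_two (by omega)
  have := finite_le hc.1
  have := finite_mulAut_of_le (S := S) hc.1
  have hRp : IsPGroup p R := hS.to_le hc.1
  obtain ⟨π, hπ, hker, hπn⟩ := hfr.exists_coords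
  obtain ⟨a, m, δ, hδ, hm, ham, hδe, hδf, ψ, hψ, hψv, r, hψg⟩ := hfr.extend_torus hS hF hp5 hc hr
  have hπ1 : π 1 = 0 := (hker 1).2 (one_mem _)
  have hπi : ∀ x, π x⁻¹ = -π x := fun x => eq_neg_of_add_eq_zero_left (by
    rw [← hπ, inv_mul_cancel, hπ1])
  have hπe : π e = (1, 0) := by simpa using hπn 1 0
  have hπf : π f = (0, 1) := by simpa using hπn 0 1
  have hπp : ∀ (x : R) (n : ℕ), π (x ^ n) = (n : ZMod p) • π x := by
    intro x n
    induction n with
    | zero => simp [hπ1]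
    | succ n ih => rw [pow_succ, hπ, ih, Nat.cast_succ, add_smul, one_smul]
  have hπz : ∀ (k : ℕ), π (z ^ k) = 0 := fun k =>
    (hker _).2 (Subgroup.pow_mem _ (Subgroup.mem_zpowers z) k)
  have hlinu : ∀ x, π (conjAut g x) = ((π x).1, (π x).2 + (π x).1) := by
    intro x
    obtain ⟨i, j, k, rfl⟩ := hfr.span x
    have hue : π (conjAut g e) = (1, 1) := by
      rw [show conjAut g e = e * (e⁻¹ * conjAut g e * f⁻¹) * f by group, hπ, hπ,
        (hker _).2 hfr.act_e, hπe, hπf]; simp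
    have huz : π (conjAut g z) = 0 := (hker _).2 (hfr.inv _ (conjAut_mem_autGroup hc.1 g))
    rw [map_mul, map_mul, map_pow, map_pow, map_pow, hπ, hπ, hπp, hπp, hπp, hue, huz, hfr.act_f,
      hπf, hπ (e ^ i * f ^ j), hπn, hπz]
    ext <;> simp [add_comm]
  have hpc : ((p.choose 2 : ℕ) : ZMod p) = 0 :=
    (ZMod.natCast_eq_zero_iff _ _).2 (hp.dvd_choose_self two_ne_zero (by omega))
  -- `g ^ p` lies in `⟨z⟩`
  set G0 : R := ⟨(g : Ω) ^ p, hfr.g_pow⟩ with hG0
  have hfix : conjAut g G0 = G0 := Subtype.ext (by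
    rw [conjAut_apply]
    exact mul_inv_eq_of_eq_mul (Commute.self_pow (g : Ω) p).eq)
  have hG1 : (π G0).1 = 0 := by
    have h := congrArg Prod.snd (hlinu G0)
    rw [hfix] at h
    simpa using h
  obtain ⟨rp, hrp, hπrp⟩ := pow_coords hπ hπ1 g hlinu r p
  have hδG : δ G0 = rp * G0 ^ 4 := Subtype.ext (by
    rw [← hψv G0, Subgroup.coe_mul, Subgroup.coe_pow,
      show (Subgroup.inclusion (le_sup_left : R ≤ R ⊔ Subgroup.zpowers (g : Ω)) G0) =
        (⟨g, Subgroup.mem_sup_right (Subgroup.mem_zpowers _)⟩ :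
          (R ⊔ Subgroup.zpowers (g : Ω) : Subgroup Ω)) ^ p from Subtype.ext rfl,
      map_pow, hψg, hrp, mul_comm 4, pow_mul])
  have hsix : (6 : ZMod p) ≠ 0 := fun h => by
    have h' := (ZMod.natCast_eq_zero_iff 6 p).1 (by exact_mod_cast h)
    rcases hp.dvd_mul.1 (show p ∣ 2 * 3 from h') with h0 | h0 <;>
      have := Nat.le_of_dvd (by norm_num) h0 <;> omega
  have hG2 : (π G0).2 = 0 := by
    obtain ⟨i, j, k, hG⟩ := hfr.span G0
    have hπG : π G0 = ((i : ZMod p), (j : ZMod p)) := by rw [hG, hπ, hπn, hπz, add_zero]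
    have hdelta : π (δ G0) = (i : ZMod p) • π (δ e) + (j : ZMod p) • π (δ f) := by
      rw [hG, map_mul, map_mul, map_pow, map_pow, hπ, hπ, hπp, hπp, map_pow, hπp,
        (hker (δ z)).2 (hfr.inv δ hδ), smul_zero, add_zero]
    have hδe' : π (δ e) = ((a : ZMod p), 0) := by
      have := (hker _).2 hδe
      rw [hπ, hπi, neg_add_eq_zero] at this
      rw [← this]; simpa using hπn a 0
    have hδf' : π (δ f) = (0, (m : ZMod p)) := by
      have := (hker _).2 hδf
      rw [hπ, hπi, neg_add_eq_zero] at this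
      rw [← this]; simpa using hπn 0 m
    have hi : (i : ZMod p) = 0 := by rw [hπG] at hG1; exact hG1
    have h := congrArg Prod.snd (congrArg π hδG)
    rw [hdelta, hδe', hδf', hπ, hπrp, hπp, hπG, hi, hpc, hm] at h
    simp at h
    rw [hπG]
    have h6 : (6 : ZMod p) * (j : ZMod p) = 0 := by linear_combination -h
    simpa [hsix] using h6
  obtain ⟨j, hj⟩ := mem_powers_iff_mem_zpowers.2 ((hker G0).1 (Prod.ext hG1 hG2))
  have hj' : (g : Ω) ^ p = (z : Ω) ^ j := (congrArg Subtype.val hj).symm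
  by_cases hz1 : z = 1
  · exact ⟨hz1, by rw [hj', hz1, Subgroup.coe_one, one_pow]⟩
  exfalso
  set c := ⁅e, f⁆ with hcdef
  have hc1 : c ≠ 1 := hfr.z_trivial_or.resolve_left hz1
  have hcent : ∀ (x : R), ∀ w ∈ Subgroup.zpowers z, Commute x w := by
    rintro x _ ⟨k, rfl⟩; exact Commute.zpow_right (hfr.central x) k
  -- `g` commutes with `c`
  have huc : conjAut g c = c := by
    have hmem : (conjAut g e)⁻¹ * (e * f) ∈ Subgroup.zpowers z := (hker _).1 (by
      rw [hπ, hπi, hπ, hlinu, hπe, hπf]; simp)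
    rw [hcdef, map_commutatorElement, hfr.act_f,
      show conjAut g e = (e * f) * ((conjAut g e)⁻¹ * (e * f))⁻¹ by group,
      PGroups.comm_mul_left_of_central (hfr.comm_center _ _),
      commutatorElement_eq_one_iff_mul_comm.2 ((hcent f _ (inv_mem hmem)).eq.symm), mul_one,
      PGroups.comm_mul_left_of_central (hfr.comm_center _ _),
      commutatorElement_eq_one_iff_mul_comm.2 (Commute.refl f).eq, mul_one]
  have hgc : ∀ x : R, conjAut g x = x → Commute (g : Ω) (x : Ω) := fun x hx =>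
    mul_inv_eq_iff_eq_mul.1 ((conjAut_apply g x).symm.trans (congrArg Subtype.val hx))
  have hgf : Commute (g : Ω) (f : Ω) := hgc f hfr.act_f
  obtain ⟨kz, hkz⟩ := mem_powers_iff_mem_zpowers.2 (hfr.inv δ hδ)
  have hkz' : δ z = z ^ kz := hkz.symm
  have hk1 : (kz : ZMod p) = 1 := hfr.exponent_eq hz1 hkz' (by
    rw [hfr.map_comm δ hδe hδf]
    nth_rewrite 2 [← pow_one ⁅e, f⁆]
    rw [pow_eq_pow_iff_modEq, orderOf_eq_prime hfr.comm_pow hc1, ← ZMod.natCast_eq_natCast_iff,
      Nat.cast_mul, Nat.cast_one, ham])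
  by_cases hpj : p ∣ j
  swap
  · -- `g` commutes with `z`
    have hgz : Commute (g : Ω) (z : Ω) := by
      obtain ⟨s, hs⟩ := IsPGroup.iff_orderOf.1 hRp z
      obtain ⟨t, ht⟩ := exists_pow_eq_self_of_coprime (x := (z : Ω)) (n := j) (by
        rw [Subgroup.orderOf_coe, hs]
        exact Nat.Coprime.pow_right _ (hp.coprime_iff_not_dvd.2 hpj).symm)
      rw [← ht, ← hj']
      exact ((Commute.self_pow (g : Ω) p)).pow_right t
    -- the image of `g` commutes with `f`
    have hrf : r * f = f * r := by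
      have h1 : Commute ((r : Ω) * (g : Ω) ^ 4) ((δ f : R) : Ω) := by
        rw [← hψg, ← hψv f]
        exact (show Commute (⟨g, Subgroup.mem_sup_right (Subgroup.mem_zpowers _)⟩ :
          (R ⊔ Subgroup.zpowers (g : Ω) : Subgroup Ω)) (Subgroup.inclusion le_sup_left f) from
          Subtype.ext hgf.eq).map ψ
      obtain ⟨i, hi⟩ := hδf
      have hzi : Commute ((r : Ω) * (g : Ω) ^ 4) ((z ^ i : R) : Ω) := by
        refine Commute.mul_left ?_ ?_
        · exact congrArg Subtype.val (hcent r _ ⟨i, rfl⟩).eq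
        · rw [Subgroup.coe_zpow]; exact (hgz.zpow_right i).pow_left 4
      have h2 : Commute ((r : Ω) * (g : Ω) ^ 4) ((f : Ω) ^ m) := by
        have h3 : (f : Ω) ^ m = ((δ f : R) : Ω) * ((z ^ i : R) : Ω)⁻¹ := by
          rw [show z ^ i = (f ^ m)⁻¹ * δ f from hi, Subgroup.coe_mul, Subgroup.coe_inv,
            Subgroup.coe_pow, mul_inv_rev, inv_inv, mul_inv_cancel_left]
        rw [h3]; exact h1.mul_right hzi.inv_right
      have h4 : Commute ((r : Ω) * (g : Ω) ^ 4) (f : Ω) := by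
        have h5 : ((f : Ω) ^ m) ^ a = f := by
          rw [← pow_mul, ← Subgroup.coe_pow]
          refine congrArg Subtype.val ?_
          nth_rewrite 2 [← pow_one f]
          rw [pow_eq_pow_iff_modEq]
          refine Nat.ModEq.of_dvd (orderOf_dvd_of_pow_eq_one hfr.f_pow) ?_
          rw [← ZMod.natCast_eq_natCast_iff, Nat.cast_mul, Nat.cast_one, mul_comm, ham]
        rw [← h5]; exact h2.pow_right a
      have h5 := h4.mul_left (hgf.pow_left 4).inv_left
      rw [mul_inv_cancel_right] at h5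
      exact Subtype.ext h5.eq
    obtain ⟨A, B, C, hrABC⟩ := hfr.span r
    have hA : p ∣ A := by
      have hAf : Commute (e ^ A) f := by
        have h := (show Commute r f from hrf).mul_left
          (((Commute.refl f).pow_left B).mul_left
            (hcent f _ (Subgroup.pow_mem _ (Subgroup.mem_zpowers z) C)).symm).inv_left
        rwa [hrABC, mul_assoc (e ^ A), mul_inv_cancel_right] at h
      have := PGroups.comm_pow_left_of_central (hfr.comm_center e f) A
      rw [commutatorElement_eq_one_iff_mul_comm.2 hAf.eq] at this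
      rw [← orderOf_eq_prime hfr.comm_pow hc1]
      exact orderOf_dvd_of_pow_eq_one this.symm
    have heA : e ^ A = 1 := by
      obtain ⟨q, rfl⟩ := hA; rw [pow_mul, hfr.e_pow, one_pow]
    have hrfz : r = f ^ B * z ^ C := by rw [hrABC, heA, one_mul]
    have hgr : Commute (g : Ω) (r : Ω) := by
      rw [hrfz, Subgroup.coe_mul, Subgroup.coe_pow, Subgroup.coe_pow]
      exact (hgf.pow_right B).mul_right (hgz.pow_right C)
    have hrp' : r ^ p = z ^ (C * p) := by
      rw [hrfz, (hcent (f ^ B) (z ^ C) (Subgroup.pow_mem _ (Subgroup.mem_zpowers z) C)).mul_pow,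
        ← pow_mul, mul_comm B, pow_mul, hfr.f_pow, one_pow, one_mul, ← pow_mul]
    have hkey : z ^ (kz * j) = z ^ (C * p + j * 4) := by
      have h1 : δ G0 = z ^ (kz * j) := by rw [← hj]; show δ (z ^ j) = _; rw [map_pow, hkz', ← pow_mul]
      rw [← h1]
      refine Subtype.ext ?_
      rw [← hψv G0, show (Subgroup.inclusion (le_sup_left : R ≤ R ⊔ Subgroup.zpowers (g : Ω)) G0) =
        (⟨g, Subgroup.mem_sup_right (Subgroup.mem_zpowers _)⟩ :
          (R ⊔ Subgroup.zpowers (g : Ω) : Subgroup Ω)) ^ p from Subtype.ext rfl,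
        map_pow, hψg, (hgr.symm.pow_right 4).mul_pow, pow_add, Subgroup.coe_mul, ← Subgroup.coe_pow,
        hrp', ← pow_mul, mul_comm 4, pow_mul (g : Ω), hj', Subgroup.coe_pow, Subgroup.coe_pow,
        pow_mul (z : Ω), pow_mul (z : Ω)]
    rw [pow_eq_pow_iff_modEq] at hkey
    have hpz : p ∣ orderOf z := by
      obtain ⟨s, hs⟩ := IsPGroup.iff_orderOf.1 hRp z
      rw [hs]
      refine dvd_pow_self p fun h0 => hz1 ?_
      rwa [h0, pow_zero, orderOf_eq_one_iff] at hs
    have h := (ZMod.natCast_eq_natCast_iff _ _ _).2 (hkey.of_dvd hpz)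
    push_cast at h
    rw [hk1, ZMod.natCast_self, mul_zero, zero_add, one_mul] at h
    have h3 : (3 : ZMod p) * (j : ZMod p) = 0 := by linear_combination -h
    rcases mul_eq_zero.1 h3 with h3 | h3
    · have := Nat.le_of_dvd (by norm_num) ((ZMod.natCast_eq_zero_iff 3 p).1 (by exact_mod_cast h3))
      omega
    · exact hpj ((ZMod.natCast_eq_zero_iff j p).1 h3)
  -- an element of order `p` centralising `⟨f, c⟩`
  obtain ⟨j', rfl⟩ := hpj
  set w := z ^ j' with hw
  have hwp : (w : Ω) ^ p = (g : Ω) ^ p := by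
    rw [hj', hw, Subgroup.coe_pow, ← pow_mul, mul_comm j']
  have hwZ : w ∈ Subgroup.zpowers z := Subgroup.pow_mem _ (Subgroup.mem_zpowers z) j'
  have huwZ : conjAut g w ∈ Subgroup.zpowers z := by
    rw [hw, map_pow]
    exact Subgroup.pow_mem _ (hfr.inv _ (conjAut_mem_autGroup hc.1 g)) j'
  set d := conjAut g w * w⁻¹ with hd
  have hdp : d ^ p = 1 := by
    have hcomm : Commute (conjAut g w) w⁻¹ := hcent _ _ (inv_mem hwZ)
    rw [hd, hcomm.mul_pow, ← map_pow, inv_pow, mul_inv_eq_one]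
    refine Subtype.ext ?_
    rw [conjAut_apply, Subgroup.coe_pow, hwp]
    exact mul_inv_eq_of_eq_mul (Commute.self_pow (g : Ω) p).eq
  obtain ⟨i, hi⟩ := hfr.mem_comm hRp (mul_mem huwZ (inv_mem hwZ)) hdp
  have hgd : Commute (g : Ω) (d : Ω) := hgc d (by
    rw [show d = c ^ i from hi.symm, map_zpow, huc])
  have hwd : Commute (w : Ω) (d : Ω) := congrArg Subtype.val
    (hcent d _ hwZ).symm.eq
  have hgw : (g : Ω) * w = d * (w * g) := by
    rw [hd, Subgroup.coe_mul, conjAut_apply, Subgroup.coe_inv]; group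
  set x := (g : Ω) * (w : Ω)⁻¹ with hx
  have hxp : x ^ p = 1 := by
    rw [hx, mul_pow_of_commutes (d := (d : Ω)) ?_ hgd.symm hwd.symm.inv_right hodd
      (congrArg Subtype.val hdp), inv_pow, hwp, mul_inv_cancel]
    calc (w : Ω)⁻¹ * g = (w : Ω)⁻¹ * ((g : Ω) * w) * (w : Ω)⁻¹ := by group
      _ = (w : Ω)⁻¹ * ((d : Ω) * (w * g)) * (w : Ω)⁻¹ := by rw [hgw]
      _ = ((w : Ω)⁻¹ * d * w) * (g * (w : Ω)⁻¹) := by group
      _ = _ := by rw [hwd.inv_left.eq, inv_mul_cancel_right]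
  have hxR : x ∉ R := fun h => hfr.g_not_mem ((R.mul_mem_cancel_right (R.inv_mem w.2)).1 h)
  have hxS : x ∈ S := S.mul_mem g.2.1 (S.inv_mem (hc.1 w.2))
  have hwf : Commute (w : Ω) (f : Ω) := congrArg Subtype.val (hcent f _ hwZ).symm.eq
  have hwc : Commute (w : Ω) (c : Ω) := congrArg Subtype.val (hcent c _ hwZ).symm.eq
  have hxf : Commute x (f : Ω) := hgf.mul_left hwf.inv_left
  have hxc : Commute x (c : Ω) :=
    (hgc c huc).mul_left hwc.inv_left
  have hfc : Commute (f : Ω) (c : Ω) :=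
    congrArg Subtype.val (hcent f _ (hfr.comm_mem e f)).eq
  set T : Set Ω := {x, (f : Ω), (c : Ω)} with hT
  have hTc : ∀ y ∈ T, ∀ y' ∈ T, y * y' = y' * y := by
    rintro y (rfl | rfl | rfl) y' (rfl | rfl | rfl)
    exacts [rfl, hxf.eq, hxc.eq, hxf.eq.symm, rfl, hfc.eq, hxc.eq.symm, hfc.eq.symm, rfl]
  set H := Subgroup.closure T with hH
  have hHS : H ≤ S := (Subgroup.closure_le _).2 (by
    rintro y (rfl | rfl | rfl)
    exacts [hxS, hc.1 f.2, hc.1 c.2])
  have hHcomm : IsMulCommutative H := Subgroup.isMulCommutative_closure hTc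
  have hHexp : ∀ y ∈ H, y ^ p = 1 := by
    intro y hy
    induction hy using Subgroup.closure_induction with
    | mem y hy =>
      rcases hy with rfl | rfl | rfl
      exacts [hxp, congrArg Subtype.val hfr.f_pow, congrArg Subtype.val hfr.comm_pow]
    | one => exact one_pow p
    | mul y y' hy hy' h h' =>
      rw [(show Commute y y' from congrArg Subtype.val
        (hHcomm.is_comm.comm ⟨y, hy⟩ ⟨y', hy'⟩)).mul_pow, h, h', one_mul]
    | inv y _ h => rw [inv_pow, h, inv_one]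
  set B1 := Subgroup.zpowers (c : Ω) with hB1
  set B2 := B1 ⊔ Subgroup.zpowers (f : Ω) with hB2
  have hcH : (c : Ω) ∈ H := Subgroup.subset_closure (Or.inr (Or.inr rfl))
  have hfH : (f : Ω) ∈ H := Subgroup.subset_closure (Or.inr (Or.inl rfl))
  have hB2H : B2 < H := by
    refine lt_of_le_of_ne (sup_le (Subgroup.zpowers_le.2 hcH) (Subgroup.zpowers_le.2 hfH))
      fun h => hxR ?_
    have hle : B2 ≤ R := sup_le (Subgroup.zpowers_le.2 c.2) (Subgroup.zpowers_le.2 f.2)
    exact hle (h.ge (Subgroup.subset_closure (Or.inl rfl)))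
  have hB12 : B1 < B2 := left_lt_sup.2 fun h => by
    obtain ⟨k, hk⟩ := h (Subgroup.mem_zpowers (f : Ω))
    have hk' : c ^ k = f := Subtype.ext (by rw [Subgroup.coe_zpow]; exact hk)
    have h0 := (hker _).2 (hk' ▸ Subgroup.zpow_mem _ (hfr.comm_mem e f) k)
    rw [hπf] at h0
    exact one_ne_zero (congrArg Prod.snd h0)
  have hB1c : Nat.card B1 = p := by
    rw [hB1, Nat.card_zpowers, Subgroup.orderOf_coe, orderOf_eq_prime hfr.comm_pow hc1]
  have := finite_le hHS
  have := finite_le (hB2H.le.trans hHS)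
  have h1 := mul_card_le_of_lt (hS.to_le (hB2H.le.trans hHS)) hB12
  have h2 := mul_card_le_of_lt (hS.to_le hHS) hB2H
  have h3 := hrank3 H hHS ⟨hHcomm, hHexp⟩
  rw [hB1c] at h1
  have h4 : p * (p * p) ≤ p ^ 2 := ((Nat.mul_le_mul_left p h1).trans h2).trans h3
  nlinarith

end CfsgLib.Fusion
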