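import Cfsg.Agent.Lib.Fusion.RankTwoSecond
import Cfsg.Agent.Lib.Fusion.SupersolubleChain
import Cfsg.Agent.S3888

/-!
`p`-groups of rank two, `p ≥ 5`, other than `p^{1+2}` are resistant.
-/

set_option autoImplicit false

namespace CfsgLib.Fusion

open Cfsg Cfsg.FusionSystem
open scoped commutatorElement

variable {Ω : Type*} [Group Ω] {S R : Subgroup Ω} {F : FusionSystem S} {p : ℕ}

/-- A characteristic subgroup of index `p` contains the Frattini subgroup. -/
theorem frattini_le_of_index {G : Type*} [Group G] [Finite G] [Fact p.Prime] {M : Subgroup G}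
    [M.Normal] (h : M.index = p) : frattini G ≤ M := by
  have hp : p.Prime := Fact.out
  have : IsCyclic (G ⧸ M) := isCyclic_of_prime_card (p := p) (by rw [← Subgroup.index_eq_card, h])
  exact PGroups.frattini_le_of_elementary
    (Subgroup.Normal.quotient_commutative_iff_commutator_le.1 inferInstance)
    (fun x => h ▸ Subgroup.pow_index_mem M x)

/-- `(ℤ/pⁿ)²` with `n ≥ 2`: elements of order `p` are `p`-th powers. -/
theorem homocyclic_root {n : ℕ} [Fact p.Prime] (hn : 2 ≤ n)
    (v : Multiplicative (ZMod (p ^ n)) × Multiplicative (ZMod (p ^ n))) (hv : v ^ p = 1) :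
    ∃ w, v = w ^ p := by
  have hp : p.Prime := Fact.out
  have : NeZero (p ^ n) := ⟨pow_ne_zero _ hp.ne_zero⟩
  have key : ∀ a : Multiplicative (ZMod (p ^ n)), a ^ p = 1 → ∃ b, a = b ^ p := by
    intro a ha
    have h0 : ((p * a.toAdd.val : ℕ) : ZMod (p ^ n)) = 0 := by
      have h1 := congrArg Multiplicative.toAdd ha
      rw [toAdd_pow, toAdd_one, nsmul_eq_mul] at h1
      rw [Nat.cast_mul, ZMod.natCast_zmod_val]; exact h1
    rw [ZMod.natCast_eq_zero_iff] at h0
    obtain ⟨n, rfl⟩ : ∃ k, n = k + 2 := ⟨n - 2, by omega⟩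
    obtain ⟨q, hq⟩ : p ∣ a.toAdd.val :=
      dvd_trans (dvd_pow_self p (Nat.succ_ne_zero n))
        (Nat.dvd_of_mul_dvd_mul_left hp.pos (dvd_trans (dvd_of_eq (pow_succ' p (n + 1)).symm) h0))
    refine ⟨Multiplicative.ofAdd (q : ZMod (p ^ (n + 2))), Multiplicative.toAdd.injective ?_⟩
    rw [toAdd_pow, toAdd_ofAdd, nsmul_eq_mul, ← Nat.cast_mul, ← hq, ZMod.natCast_zmod_val]
  obtain ⟨b, hb⟩ := key v.1 (congrArg Prod.fst hv)
  obtain ⟨c, hc⟩ := key v.2 (congrArg Prod.snd hv)
  exact ⟨(b, c), Prod.ext hb hc⟩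

/-- Normal form in a group generated by `x` and a commuting pair normalised by `x`. -/
theorem span_of_closure {G : Type*} [Group G] [Finite G] {x y z : G}
    (htop : Subgroup.closure ({x, y, z} : Set G) = ⊤) (hyz : y * z = z * y)
    (hy : ∃ b k : ℕ, x⁻¹ * y * x = y ^ b * z ^ k) (hz : ∃ b k : ℕ, x⁻¹ * z * x = y ^ b * z ^ k) :
    ∀ r : G, ∃ a b k : ℕ, r = x ^ a * y ^ b * z ^ k := by
  have hc : ∀ i j : ℕ, Commute (z ^ i) (y ^ j) := fun i j =>
    ((show Commute z y from hyz.symm).pow_pow i j)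
  let M : Submonoid G :=
    { carrier := {r | ∃ b k : ℕ, r = y ^ b * z ^ k}
      one_mem' := ⟨0, 0, by simp⟩
      mul_mem' := by
        rintro _ _ ⟨b, k, rfl⟩ ⟨b', k', rfl⟩
        exact ⟨b + b', k + k', by rw [(hc k b').mul_mul_mul_comm, ← pow_add, ← pow_add]⟩ }
  obtain ⟨by', ky, hy⟩ := hy
  obtain ⟨bz, kz, hz⟩ := hz
  have hyM : x⁻¹ * y * x ∈ M := ⟨by', ky, hy⟩
  have hzM : x⁻¹ * z * x ∈ M := ⟨bz, kz, hz⟩
  have hconj : ∀ m ∈ M, x⁻¹ * m * x ∈ M := by
    rintro _ ⟨b, k, rfl⟩
    rw [show x⁻¹ * (y ^ b * z ^ k) * x = (x⁻¹ * y ^ b * (x⁻¹)⁻¹) * (x⁻¹ * z ^ k * (x⁻¹)⁻¹) by group,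
      ← conj_pow, ← conj_pow, inv_inv]
    exact M.mul_mem (pow_mem hyM b) (pow_mem hzM k)
  have hconjn : ∀ (a : ℕ), ∀ m ∈ M, (x ^ a)⁻¹ * m * x ^ a ∈ M := by
    intro a
    induction a with
    | zero => intro m hm; simpa using hm
    | succ a ih =>
      intro m hm
      have := hconj _ (ih m hm)
      rw [pow_succ]
      simpa [mul_assoc] using this
  let T : Submonoid G :=
    { carrier := {r | ∃ (a : ℕ), ∃ m ∈ M, r = x ^ a * m}
      one_mem' := ⟨0, 1, M.one_mem, by simp⟩
      mul_mem' := by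
        rintro _ _ ⟨a, m, hm, rfl⟩ ⟨a', m', hm', rfl⟩
        exact ⟨a + a', _, M.mul_mem (hconjn a' m hm) hm', by rw [pow_add]; group⟩ }
  intro r
  have hr : r ∈ Submonoid.closure ({x, y, z} : Set G) := by
    have h := htop.ge (Subgroup.mem_top r)
    rwa [← Subgroup.mem_toSubmonoid, Subgroup.closure_toSubmonoid_of_finite] at h
  have hrT : r ∈ T := (Submonoid.closure_le.2 (by
    rintro w (rfl | rfl | rfl)
    · exact ⟨1, 1, M.one_mem, by simp⟩
    · exact ⟨0, w, ⟨1, 0, by simp⟩, by simp⟩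
    · exact ⟨0, w, ⟨0, 1, by simp⟩, by simp⟩)) hr
  obtain ⟨a, _, ⟨b, k, rfl⟩, rfl⟩ := hrT
  exact ⟨a, b, k, (mul_assoc _ _ _).symm⟩

/-- The quotient by a normal subgroup has order at most `p²` when two elements of order dividing `p`
modulo it generate. -/
theorem index_le_sq {G : Type*} [Group G] [Finite G] (hp : 0 < p) {N : Subgroup G} [N.Normal]
    {x y : G} (hx : x ^ p ∈ N) (hy : y ^ p ∈ N)
    (h : ∀ r : G, ∃ a b : ℕ, ∃ w ∈ N, r = x ^ a * y ^ b * w) : N.index ≤ p ^ 2 := by
  have hx' : (x : G ⧸ N) ^ p = 1 := by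
    rw [← QuotientGroup.mk_pow, QuotientGroup.eq_one_iff]; exact hx
  have hy' : (y : G ⧸ N) ^ p = 1 := by
    rw [← QuotientGroup.mk_pow, QuotientGroup.eq_one_iff]; exact hy
  rw [Subgroup.index_eq_card, pow_two]
  refine le_trans (Nat.card_le_card_of_surjective
    (fun v : Fin p × Fin p => (x : G ⧸ N) ^ v.1.val * (y : G ⧸ N) ^ v.2.val) fun q => ?_) ?_
  · obtain ⟨r, rfl⟩ := QuotientGroup.mk_surjective q
    obtain ⟨a, b, w, hw, rfl⟩ := h r
    refine ⟨(⟨a % p, Nat.mod_lt _ hp⟩, ⟨b % p, Nat.mod_lt _ hp⟩), ?_⟩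
    show (x : G ⧸ N) ^ (a % p) * (y : G ⧸ N) ^ (b % p) = _
    rw [← pow_eq_pow_mod a hx', ← pow_eq_pow_mod b hy', QuotientGroup.mk_mul, QuotientGroup.mk_mul,
      (QuotientGroup.eq_one_iff w).2 hw, mul_one, QuotientGroup.mk_pow, QuotientGroup.mk_pow]
  · simp [Nat.card_prod]

/-- The reductions: a proper centric radical subgroup carries plane data. -/
theorem exists_planeData [Fact p.Prime] [Finite S] (hS : IsPGroup p S) (hp5 : 5 ≤ p)
    (hrank3 : ∀ E : Subgroup Ω, E ≤ S → Cfsg.IsElementaryAbelian p E → Nat.card E ≤ p ^ 2)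
    (hc : F.IsCentric R) (hr : F.IsRadical p R) (hne : R ≠ S) :
    ∃ e f z : R, PlaneData F p R e f z := by
  classical
  have hp : p.Prime := Fact.out
  have := finite_le hc.1
  have hRp : IsPGroup p R := hS.to_le hc.1
  obtain ⟨n, hn⟩ := IsPGroup.iff_card.1 hRp
  have hrk : Cfsg.PRankLE p 2 R := by
    intro A hA hAp
    have h := hrank3 (A.map R.subtype) ((Subgroup.map_subtype_le A).trans hc.1)
      ⟨Subgroup.map_isMulCommutative A R.subtype, by
        rintro _ ⟨a, ha, rfl⟩
        exact congrArg R.subtype (hAp a ha) |>.trans (map_one _) |> fun h => by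
          simpa [map_pow] using h⟩
    rwa [Subgroup.card_map_of_injective R.subtype_injective] at h
  have : Nontrivial R := by
    by_contra hnt
    rw [not_nontrivial_iff_subsingleton] at hnt
    refine hne (le_antisymm hc.1 fun s hs => hc.2 R (isConj_refl hc.1) ⟨hs,
      Subgroup.mem_centralizer_iff.2 fun r hr' => ?_⟩)
    rw [show r = 1 from congrArg Subtype.val (Subsingleton.elim (⟨r, hr'⟩ : R) 1)]
    simp
  rcases Cfsg.Agent.S3888.result (by omega) n hn hrk with hm | h | h | ⟨h, -, -⟩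
  rotate_right
  · omega
  · -- metacyclic
    have hΦ2 : (frattini R).index ≤ p ^ 2 := by
      rw [Subgroup.index_eq_card, pow_two]
      exact CfsgLib.Techniques.metacyclic_card_le hm (QuotientGroup.mk' _)
        (QuotientGroup.mk'_surjective _) hp.ne_zero (PGroups.frattini_quotient hRp).2
    by_cases hcyc : IsCyclic R
    · exfalso
      refine no_char_line hS hc hr hne (M := frattini R) ?_ le_rfl hΦ2
      obtain ⟨k, hk⟩ := hRp.index (frattini R)
      have hk0 : k ≠ 0 := fun h0 => PGroups.frattini_ne_top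
        (Subgroup.index_eq_one.1 (by rw [hk, h0, pow_zero]))
      have : IsCyclic (R ⧸ frattini R) :=
        isCyclic_of_surjective (QuotientGroup.mk' _) (QuotientGroup.mk'_surjective _)
      obtain ⟨q, hq⟩ := IsCyclic.exists_generator (α := R ⧸ frattini R)
      have hle : (frattini R).index ≤ p := by
        rw [Subgroup.index_eq_card, ← orderOf_eq_card_of_forall_mem_zpowers hq]
        exact Nat.le_of_dvd hp.pos
          (orderOf_dvd_of_pow_eq_one ((PGroups.frattini_quotient hRp).2 q))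
      refine le_antisymm hle ?_
      rw [hk]; exact Nat.le_self_pow hk0 p
    by_cases hh : ∃ m : ℕ, 0 < m ∧
        Nonempty (R ≃* Multiplicative (ZMod (p ^ m)) × Multiplicative (ZMod (p ^ m)))
    swap
    · exfalso
      obtain ⟨M, hMc, hMi⟩ := exists_char_index_p (by omega) hRp hm hcyc hh
      exact no_char_line hS hc hr hne hMi (frattini_le_of_index hMi) hΦ2
    obtain ⟨m, hm0, ⟨ε⟩⟩ := hh
    have : NeZero (p ^ m) := ⟨pow_ne_zero _ hp.ne_zero⟩
    have hcomm : ∀ a b : R, a * b = b * a := fun a b => ε.injective (by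
      rw [map_mul, map_mul, mul_comm])
    by_cases hm2 : 2 ≤ m
    · exfalso
      obtain ⟨g, hgR, hgp⟩ := exists_step hS hc.1 hne
      let _ : CommGroup R := { (inferInstance : Group R) with mul_comm := hcomm }
      refine not_frattiniFix hS hc hr hgR (homocyclic_stabilizes hp5 hRp hΦ2 (fun x hx => ?_)
        (conjAut g) (MulEquiv.ext fun x => Subtype.ext ?_))
      · obtain ⟨w, hw⟩ := homocyclic_root hm2 (ε x) (by rw [← map_pow, hx, map_one])
        exact ⟨ε.symm w, ε.injective (by rw [map_pow, MulEquiv.apply_symm_apply, hw])⟩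
      · rw [conjAut_pow, MulAut.one_apply]
        refine mul_inv_eq_of_eq_mul ?_
        exact congrArg Subtype.val (hcomm ⟨(g : Ω) ^ p, hgp⟩ x)
    obtain rfl : m = 1 := by omega
    have hexp : ∀ r : R, r ^ p = 1 := fun r => ε.injective (by
      rw [map_pow, map_one]
      have hz : ((p : ℕ) : ZMod (p ^ 1)) = 0 := by
        rw [ZMod.natCast_eq_zero_iff, pow_one]
      refine Prod.ext ?_ ?_ <;> refine Multiplicative.toAdd.injective ?_ <;> simp [hz])
    refine ⟨ε.symm (Multiplicative.ofAdd 1, 1), ε.symm (1, Multiplicative.ofAdd 1), 1,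
      { e_pow := hexp _, f_pow := hexp _, central := fun r => by simp, index := ?_, span := ?_,
        inv := fun α _ => by rw [map_one]; exact one_mem _, nonab := Or.inl rfl }⟩
    · rw [Subgroup.zpowers_one_eq_bot, Subgroup.index_bot, Nat.card_congr ε.toEquiv, Nat.card_prod,
        Nat.card_congr Multiplicative.toAdd, Nat.card_zmod, pow_one, pow_two]
    · intro r
      refine ⟨(ε r).1.toAdd.val, (ε r).2.toAdd.val, 0, ε.injective ?_⟩
      simp only [map_mul, map_pow, MulEquiv.apply_symm_apply, pow_zero, mul_one, Prod.pow_mk,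
        one_pow, Prod.mk_mul_mk, one_mul]
      refine Prod.ext ?_ ?_ <;> refine Multiplicative.toAdd.injective ?_ <;>
        simp [toAdd_pow]
  · -- central product
    obtain ⟨hn3, x, y, z, htop, hxp, hyp, hzp, hxz, hyz, hxy⟩ := h
    have hz : ∀ r : R, r * z = z * r := by
      intro r
      have hr' : r ∈ Subgroup.closure ({x, y, z} : Set R) := htop.ge (Subgroup.mem_top r)
      induction hr' using Subgroup.closure_induction with
      | mem w hw =>
        rcases hw with rfl | rfl | rfl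
        exacts [hxz, hyz, rfl]
      | one => simp
      | mul a b _ _ ha hb => exact (Commute.mul_left ha hb : Commute (a * b) z).eq
      | inv a _ ha => exact (Commute.inv_left ha : Commute a⁻¹ z).eq
    have hspan := span_of_closure htop hyz ⟨1, p ^ (n - 3), by rw [pow_one]; exact hxy⟩
      ⟨0, 1, by rw [pow_zero, pow_one, one_mul, mul_assoc, ← hxz, inv_mul_cancel_left]⟩
    have hZn : (Subgroup.zpowers z).Normal := ⟨fun w hw g => by
      obtain ⟨k, rfl⟩ := hw
      show g * z ^ k * g⁻¹ ∈ _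
      rw [(Commute.zpow_right (hz g) k).eq, mul_inv_cancel_right]
      exact Subgroup.zpow_mem _ (Subgroup.mem_zpowers z) k⟩
    have hidx : (Subgroup.zpowers z).index ≤ p ^ 2 := index_le_sq hp.pos
      (by rw [hxp]; exact one_mem _) (by rw [hyp]; exact one_mem _) fun r => by
        obtain ⟨a, b, k, hr'⟩ := hspan r
        exact ⟨a, b, z ^ k, Subgroup.pow_mem _ (Subgroup.mem_zpowers z) k, hr'⟩
    have hmul : (Subgroup.zpowers z).index * orderOf z = p ^ n := by
      rw [← Nat.card_zpowers, Subgroup.index_mul_card, hn]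
    have hzd : orderOf z ∣ p ^ (n - 2) := orderOf_dvd_of_pow_eq_one hzp
    have hp0 : 0 < p ^ (n - 2) := pow_pos hp.pos _
    have hsplit : p ^ n = p ^ 2 * p ^ (n - 2) := by rw [← pow_add]; congr 1; omega
    have hidx2 : (Subgroup.zpowers z).index = p ^ 2 := by
      refine le_antisymm hidx (Nat.le_of_mul_le_mul_right ?_ hp0)
      rw [← hsplit, ← hmul]
      exact Nat.mul_le_mul_left _ (Nat.le_of_dvd hp0 hzd)
    have hord : orderOf z = p ^ (n - 2) := by
      rw [hidx2, hsplit] at hmul
      exact Nat.eq_of_mul_eq_mul_left (pow_pos hp.pos 2) hmul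
    set c := z ^ p ^ (n - 3) with hc'
    have hc1 : c ≠ 1 := fun h0 => by
      have := orderOf_dvd_of_pow_eq_one h0
      rw [hord, Nat.pow_dvd_pow_iff_le_right hp.one_lt] at this
      omega
    have hcp : c ^ p = 1 := by
      rw [hc', ← pow_mul, ← pow_succ, show n - 3 + 1 = n - 2 by omega, hzp]
    have hyx : y * x = x * y * c := by
      rw [mul_assoc x, ← hxy]; group
    refine ⟨x, y, z,
      { e_pow := hxp
        f_pow := hyp
        central := hz
        index := hidx2
        span := hspan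
        inv := ?_
        nonab := Or.inr ⟨y, x, fun h0 => hc1 (by rwa [h0, left_eq_mul] at hyx)⟩ }⟩
    intro α _
    have hcen : ∀ g : R, g * α z = α z * g := fun g => by
      obtain ⟨g', rfl⟩ := α.surjective g
      rw [← map_mul, ← map_mul, hz]
    obtain ⟨a, b, k, habk⟩ := hspan (α z)
    rw [habk] at hcen ⊢
    have hcr : ∀ r : R, Commute r c := fun r => (show Commute r z from hz r).pow_right _
    have hyxk : ∀ i : ℕ, y ^ i * x = x * y ^ i * c ^ i := by
      intro i
      induction i with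
      | zero => simp
      | succ i ih =>
        rw [pow_succ' y, mul_assoc, ih, ← mul_assoc, ← mul_assoc, hyx, mul_assoc (x * y),
          ← (hcr (y ^ i)).eq, pow_succ' c]
        group
    have hyxa : ∀ i : ℕ, y * x ^ i = x ^ i * y * c ^ i := by
      intro i
      induction i with
      | zero => simp
      | succ i ih =>
        rw [pow_succ' x, ← mul_assoc, hyx, mul_assoc (x * y), ← ((hcr (x ^ i))).eq, ← mul_assoc,
          mul_assoc x y, ih, pow_succ c]
        group
    have hzk : ∀ r : R, Commute r (z ^ k) := fun r => (show Commute r z from hz r).pow_right k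
    have hb : c ^ b = 1 := by
      have h1 : Commute x (x ^ a * y ^ b) := by
        have := (show Commute x _ from hcen x).mul_right (hzk x).inv_right
        rwa [mul_inv_cancel_right] at this
      have h2 : x ^ a * (x * y ^ b) = x ^ a * (y ^ b * x) := by
        rw [← mul_assoc, ← pow_succ, pow_succ', mul_assoc, h1.eq, mul_assoc]
      have h3 := mul_left_cancel h2
      rw [hyxk] at h3
      exact (mul_eq_left.1 h3.symm)
    have ha : c ^ a = 1 := by
      have h1 : Commute y (x ^ a * y ^ b) := by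
        have := (show Commute y _ from hcen y).mul_right (hzk y).inv_right
        rwa [mul_inv_cancel_right] at this
      have h2 : y * x ^ a = x ^ a * y := by
        have := h1.mul_right ((Commute.self_pow y b)).inv_right
        rwa [mul_inv_cancel_right] at this
      rw [hyxa] at h2
      exact mul_eq_left.1 h2
    have hdvd : ∀ i : ℕ, c ^ i = 1 → p ∣ i := fun i hi => by
      rw [← orderOf_eq_prime hcp hc1]; exact orderOf_dvd_of_pow_eq_one hi
    obtain ⟨a', rfl⟩ := hdvd a ha
    obtain ⟨b', rfl⟩ := hdvd b hb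
    rw [pow_mul, pow_mul, hxp, hyp, one_pow, one_pow, one_mul, one_mul]
    exact Subgroup.pow_mem _ (Subgroup.mem_zpowers z) k
  · -- the groups `G(p, n, s)`
    exfalso
    obtain ⟨hn4, s, x, y, z, hs, htop, hxp, hyp, hzp, hyz, hxy, hxz⟩ := h
    have hspan := span_of_closure htop hyz ⟨1, s * p ^ (n - 3), by rw [pow_one]; exact hxy⟩
      ⟨1, 1, by rw [pow_one, pow_one]; exact hxz⟩
    set A := Subgroup.closure ({y, z} : Set R) with hA
    have hyA : y ∈ A := Subgroup.subset_closure (Set.mem_insert _ _)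
    have hzA : z ∈ A := Subgroup.subset_closure (Set.mem_insert_of_mem _ rfl)
    haveI hAc : IsMulCommutative A := Subgroup.isMulCommutative_closure (by
      rintro a (rfl | rfl) b (rfl | rfl)
      exacts [rfl, hyz, hyz.symm, rfl])
    have hycomm : y ∈ _root_.commutator R := by
      have e : y = ⁅x⁻¹, z⁆ := by
        rw [commutatorElement_def, inv_inv, hxz]; group
      rw [e, commutator_def]
      exact Subgroup.commutator_mem_commutator (Subgroup.mem_top _) (Subgroup.mem_top _)
    have hAx : ∀ w ∈ A, x⁻¹ * w * x ∈ A := by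
      intro w hw
      induction hw using Subgroup.closure_induction with
      | mem w hw =>
        rcases hw with rfl | rfl
        · rw [hxy]; exact A.mul_mem hyA (A.pow_mem hzA _)
        · rw [hxz]; exact A.mul_mem hyA hzA
      | one => simp
      | mul a b _ _ ha hb =>
        rw [show x⁻¹ * (a * b) * x = (x⁻¹ * a * x) * (x⁻¹ * b * x) by group]
        exact A.mul_mem ha hb
      | inv a _ ha =>
        rw [show x⁻¹ * a⁻¹ * x = (x⁻¹ * a * x)⁻¹ by group]
        exact A.inv_mem ha
    have hAn : A.Normal := by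
      have hxk : ∀ (i : ℕ), ∀ w ∈ A, (x ^ i)⁻¹ * w * x ^ i ∈ A := by
        intro i
        induction i with
        | zero => intro w hw; simpa using hw
        | succ i ih =>
          intro w hw
          have := hAx _ (ih w hw)
          rw [pow_succ]
          simpa [mul_assoc] using this
      refine ⟨fun w hw g => ?_⟩
      obtain ⟨a, b, k, hg⟩ := hspan g⁻¹
      have h1 : g = ((y ^ b * z ^ k) : R)⁻¹ * (x ^ a)⁻¹ := by
        rw [← inv_inv g, hg]; group
      rw [h1, show ((y ^ b * z ^ k) : R)⁻¹ * (x ^ a)⁻¹ * w * (((y ^ b * z ^ k) : R)⁻¹ * (x ^ a)⁻¹)⁻¹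
        = ((y ^ b * z ^ k) : R)⁻¹ * ((x ^ a)⁻¹ * w * x ^ a) * (y ^ b * z ^ k) by group]
      exact A.mul_mem (A.mul_mem (A.inv_mem (A.mul_mem (A.pow_mem hyA b) (A.pow_mem hzA k)))
        (hxk a w hw)) (A.mul_mem (A.pow_mem hyA b) (A.pow_mem hzA k))
    have hcle : _root_.commutator R ≤ A := by
      have : IsCyclic (R ⧸ A) := ⟨(x : R ⧸ A), fun q => by
        obtain ⟨r, rfl⟩ := QuotientGroup.mk_surjective q
        obtain ⟨a, b, k, rfl⟩ := hspan r
        refine ⟨a, ?_⟩
        show (x : R ⧸ A) ^ (a : ℤ) = _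
        rw [zpow_natCast, ← QuotientGroup.mk_pow]
        refine QuotientGroup.eq.2 ?_
        rw [mul_assoc (x ^ a), inv_mul_cancel_left]
        exact A.mul_mem (A.pow_mem hyA b) (A.pow_mem hzA k)⟩
      exact Subgroup.Normal.quotient_commutative_iff_commutator_le.1 inferInstance
    set C := Subgroup.centralizer (_root_.commutator R : Set R) with hC
    have hAC : A ≤ C := fun w hw => Subgroup.mem_centralizer_iff.2 fun v hv =>
      congrArg Subtype.val (hAc.is_comm.comm ⟨v, hcle hv⟩ ⟨w, hw⟩)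
    have hps : ¬ p ∣ s := by
      rintro hps
      rcases hs with rfl | hs
      · exact hp.one_lt.not_ge (Nat.le_of_dvd one_pos hps)
      · exact hs ⟨0, by rw [mul_zero, ZMod.natCast_eq_zero_iff]; exact hps⟩
    have hcz : z ^ (s * p ^ (n - 3)) ≠ 1 := by
      intro h0
      have h1 := orderOf_dvd_of_pow_eq_one h0
      have hAcard : Nat.card A ≤ p * orderOf z := by
        have : NeZero (orderOf z) := ⟨(orderOf_pos z).ne'⟩
        refine (Nat.card_le_card_of_surjective
          (fun v : Fin p × Fin (orderOf z) => (⟨y ^ v.1.val * z ^ v.2.val,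
            A.mul_mem (A.pow_mem hyA _) (A.pow_mem hzA _)⟩ : A)) fun w => ?_).trans
          (by simp [Nat.card_prod])
        have hw : (w : R) ∈ Submonoid.closure ({y, z} : Set R) := by
          rw [← Subgroup.closure_toSubmonoid_of_finite, Subgroup.mem_toSubmonoid]; exact w.2
        obtain ⟨b, k, hbk⟩ : ∃ b k : ℕ, y ^ b * z ^ k = (w : R) := by
          revert hw
          generalize (w : R) = v
          intro hv
          induction hv using Submonoid.closure_induction with
          | mem v hv =>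
            rcases hv with rfl | rfl
            exacts [⟨1, 0, by simp⟩, ⟨0, 1, by simp⟩]
          | one => exact ⟨0, 0, by simp⟩
          | mul _ _ _ _ h1 h2 =>
            obtain ⟨b, k, rfl⟩ := h1
            obtain ⟨b', k', rfl⟩ := h2
            exact ⟨b + b', k + k', by
              rw [((show Commute z y from hyz.symm).pow_pow k b').mul_mul_mul_comm, ← pow_add,
                ← pow_add]⟩
        refine ⟨(⟨b % p, Nat.mod_lt _ hp.pos⟩, ⟨k % orderOf z, Nat.mod_lt _ (orderOf_pos z)⟩),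
          Subtype.ext ?_⟩
        show y ^ (b % p) * z ^ (k % orderOf z) = (w : R)
        rw [← pow_eq_pow_mod b hyp, pow_mod_orderOf, hbk]
      have hidxA : A.index ≤ p := by
        rw [Subgroup.index_eq_card]
        refine (Nat.card_le_card_of_surjective (fun v : Fin p => (x : R ⧸ A) ^ v.val) fun q => ?_).trans
          (by simp)
        obtain ⟨r, rfl⟩ := QuotientGroup.mk_surjective q
        obtain ⟨a, b, k, rfl⟩ := hspan r
        refine ⟨⟨a % p, Nat.mod_lt _ hp.pos⟩, ?_⟩
        show (x : R ⧸ A) ^ (a % p) = _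
        rw [← pow_eq_pow_mod a (by rw [← QuotientGroup.mk_pow, hxp]; rfl), ← QuotientGroup.mk_pow]
        refine QuotientGroup.eq.2 ?_
        rw [mul_assoc (x ^ a), inv_mul_cancel_left]
        exact A.mul_mem (A.pow_mem hyA b) (A.pow_mem hzA k)
      have hbig : p ^ n ≤ p * (p * orderOf z) := by
        rw [← hn, ← Subgroup.index_mul_card A]
        exact Nat.mul_le_mul hidxA hAcard
      obtain ⟨i, hi, hoz⟩ := (Nat.dvd_prime_pow hp).1 (orderOf_dvd_of_pow_eq_one hzp)
      rw [hoz, ← pow_succ', ← pow_succ', Nat.pow_le_pow_iff_right hp.one_lt] at hbig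
      obtain rfl : i = n - 2 := by omega
      rw [hoz, show n - 2 = (n - 3) + 1 by omega, pow_succ, mul_comm s] at h1
      exact hps (Nat.dvd_of_mul_dvd_mul_left (pow_pos hp.pos _) h1)
    have hxC : x ∉ C := fun h0 => hcz (by
      have h1 : y * x = x * y := Subgroup.mem_centralizer_iff.1 h0 y hycomm
      rw [mul_assoc, h1, inv_mul_cancel_left, left_eq_mul] at hxy
      exact hxy)
    have hCc : C.Characteristic := Subgroup.characteristic_iff_map_le.2 fun φ => by
      rintro _ ⟨w, hw, rfl⟩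
      refine Subgroup.mem_centralizer_iff.2 fun v hv => ?_
      obtain ⟨v', hv', rfl⟩ :=
        (Subgroup.characteristic_iff_map_eq.1 (inferInstance : (_root_.commutator R).Characteristic) φ).ge hv
      show φ v' * φ w = φ w * φ v'
      rw [← map_mul, ← map_mul, Subgroup.mem_centralizer_iff.1 hw v' hv']
    have hCi : C.index = p := by
      obtain ⟨k, hk⟩ := hRp.index C
      have hk0 : k ≠ 0 := fun h0 => hxC (by
        rw [Subgroup.index_eq_one.1 (by rw [hk, h0, pow_zero] : C.index = 1)]; trivial)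
      have hsup : C ⊔ Subgroup.zpowers x = ⊤ := eq_top_iff.2 fun r _ => by
        obtain ⟨a, b, k, rfl⟩ := hspan r
        rw [mul_assoc]
        exact Subgroup.mul_mem _ (Subgroup.mem_sup_right (Subgroup.pow_mem _
          (Subgroup.mem_zpowers x) a)) (Subgroup.mem_sup_left
          (hAC (A.mul_mem (A.pow_mem hyA b) (A.pow_mem hzA k))))
      refine le_antisymm ?_ (by rw [hk]; exact Nat.le_self_pow hk0 p)
      rw [Subgroup.index_eq_card]
      refine (Nat.card_le_card_of_surjective (fun v : Fin p => (x : R ⧸ C) ^ v.val) fun q => ?_).trans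
        (by simp)
      obtain ⟨r, rfl⟩ := QuotientGroup.mk_surjective q
      obtain ⟨a, b, k', rfl⟩ := hspan r
      refine ⟨⟨a % p, Nat.mod_lt _ hp.pos⟩, ?_⟩
      show (x : R ⧸ C) ^ (a % p) = _
      rw [← pow_eq_pow_mod a (by rw [← QuotientGroup.mk_pow, hxp]; rfl), ← QuotientGroup.mk_pow]
      refine QuotientGroup.eq.2 ?_
      rw [mul_assoc (x ^ a), inv_mul_cancel_left]
      exact hAC (A.mul_mem (A.pow_mem hyA b) (A.pow_mem hzA k'))
    refine no_char_line hS hc hr hne hCi (frattini_le_of_index hCi) ?_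
    refine index_le_sq hp.pos (x := x) (y := z) (PGroups.pow_mem_frattini hRp x)
      (PGroups.pow_mem_frattini hRp z) fun r => ?_
    obtain ⟨a, b, k, rfl⟩ := hspan r
    refine ⟨a, k, y ^ b, Subgroup.pow_mem _
      (PGroups.commutator_le_frattini' hRp hycomm) b, ?_⟩
    rw [mul_assoc, mul_assoc, ((show Commute y z from hyz).pow_pow b k).eq]

/-- Rank two, `p ≥ 5`, not `p^{1+2}`: no proper centric radical subgroup. -/
theorem eq_of_centric_radical [Fact p.Prime] [Finite S] (hS : IsPGroup p S) (hF : F.IsSaturated p)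
    (hp5 : 5 ≤ p)
    (hrank3 : ∀ E : Subgroup Ω, E ≤ S → Cfsg.IsElementaryAbelian p E → Nat.card E ≤ p ^ 2)
    (hnotE : ¬ (Nat.card S = p ^ 3 ∧ Monoid.exponent ↥S = p))
    (hc : F.IsCentric R) (hr : F.IsRadical p R) : R = S := by
  classical
  by_contra hne
  have hp : p.Prime := Fact.out
  have := finite_le hc.1
  obtain ⟨e₀, f₀, z, hd₀⟩ := exists_planeData hS hp5 hrank3 hc hr hne
  obtain ⟨e, f, g, hfr⟩ := exists_frame hS (by omega) hc hr hne hd₀
  obtain ⟨rfl, hgp⟩ := hfr.conclude hS hF hp5 hrank3 hc hr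
  have hRc : ∀ u v : R, u * v = v * u := fun u v => by
    have := hfr.comm_mem u v
    rwa [Subgroup.zpowers_one_eq_bot, Subgroup.mem_bot, commutatorElement_eq_one_iff_mul_comm]
      at this
  have hue : conjAut g e = e * f := by
    have := hfr.act_e
    rw [Subgroup.zpowers_one_eq_bot, Subgroup.mem_bot, mul_inv_eq_one, inv_mul_eq_iff_eq_mul] at this
    exact this
  set P := R ⊔ Subgroup.zpowers (g : Ω) with hPdef
  have hRP : R ≤ P := le_sup_left
  have hgP : (g : Ω) ∈ P := Subgroup.mem_sup_right (Subgroup.mem_zpowers _)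
  have hPS : P ≤ S := sup_le hc.1 (Subgroup.zpowers_le.2 g.2.1)
  obtain ⟨a, m, δ, hδ, hm, ham, hδe, hδf, ψ, hψ, hψv, r, hψg⟩ := hfr.extend_torus hS hF hp5 hc hr
  rw [Subgroup.zpowers_one_eq_bot, Subgroup.mem_bot, inv_mul_eq_one] at hδe hδf
  have := finite_le hPS
  set eP : P := Subgroup.inclusion hRP e with heP
  set fP : P := Subgroup.inclusion hRP f with hfP
  set xP : P := ⟨g, hgP⟩ with hxP
  have hrel : xP * eP * xP⁻¹ = eP * fP := Subtype.ext (by
    show (g : Ω) * e * (g : Ω)⁻¹ = (e : Ω) * f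
    rw [← conjAut_apply g e, hue, Subgroup.coe_mul])
  have hgf : Commute (g : Ω) (f : Ω) :=
    mul_inv_eq_iff_eq_mul.1 ((conjAut_apply g f).symm.trans (congrArg Subtype.val hfr.act_f))
  have hef : Commute eP fP := Subtype.ext (congrArg Subtype.val (hRc e f) : (e : Ω) * f = f * e)
  have hxf : Commute xP fP := Subtype.ext hgf.eq
  have hPel : ∀ q : P, ∃ i j k : ℕ, q = eP ^ i * fP ^ j * xP ^ k := by
    intro q
    have hq : (q : Ω) ∈ ((R ⊔ Subgroup.zpowers (g : Ω) : Subgroup Ω) : Set Ω) := q.2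
    rw [Subgroup.coe_mul_of_right_le_normalizer_left R _ (Subgroup.zpowers_le.2 g.2.2)] at hq
    obtain ⟨v, hv, w, hw, hvw⟩ := hq
    obtain ⟨k, hk⟩ := mem_powers_iff_mem_zpowers.2
      (show xP ^ (0 : ℤ) * ⟨w, Subgroup.mem_sup_right hw⟩ ∈ Subgroup.zpowers xP by
        obtain ⟨i, hi⟩ := hw
        rw [zpow_zero, one_mul]
        exact ⟨i, Subtype.ext (by rw [Subgroup.coe_zpow]; exact hi)⟩)
    rw [zpow_zero, one_mul] at hk
    obtain ⟨i, j, l, hij⟩ := hfr.span ⟨v, hv⟩
    rw [one_pow, mul_one] at hij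
    refine ⟨i, j, k, Subtype.ext ?_⟩
    show (q : Ω) = (e : Ω) ^ i * (f : Ω) ^ j * ((xP ^ k : P) : Ω)
    rw [show ((xP ^ k : P) : Ω) = w from congrArg Subtype.val hk]
    have hij' := congrArg Subtype.val hij
    rw [Subgroup.coe_mul, Subgroup.coe_pow, Subgroup.coe_pow] at hij'
    rw [← hvw]; exact congrArg (· * w) hij'
  have hspanP : ∀ q : P, ∃ i j k : ℕ, q = eP ^ i * xP ^ j * fP ^ k := fun q => by
    obtain ⟨i, j, k, rfl⟩ := hPel q
    exact ⟨i, k, j, by rw [mul_assoc, ((hxf.symm).pow_pow j k).eq, ← mul_assoc]⟩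
  have hfcent : ∀ q : P, q * fP = fP * q := fun q => by
    obtain ⟨i, j, k, rfl⟩ := hPel q
    exact ((((hef.pow_left i)).mul_left ((Commute.refl fP).pow_left j)).mul_left
      (hxf.pow_left k)).eq
  have hFn : (Subgroup.zpowers fP).Normal := ⟨fun w hw q => by
    obtain ⟨k, rfl⟩ := hw
    show q * fP ^ k * q⁻¹ ∈ _
    rw [(Commute.zpow_right (hfcent q) k).eq, mul_inv_cancel_right]
    exact Subgroup.zpow_mem _ (Subgroup.mem_zpowers fP) k⟩
  obtain ⟨π, hπ, hker, hπn⟩ := hfr.exists_coords
  have hf1 : f ≠ 1 := fun h0 => by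
    have h1 := hπn 0 1
    rw [pow_zero, one_mul, pow_one, h0, (hker 1).2 (one_mem _)] at h1
    simpa using congrArg Prod.snd h1
  have hfPp : orderOf fP = p := by
    rw [← Subgroup.orderOf_coe, hfP, Subgroup.coe_inclusion, Subgroup.orderOf_coe]
    exact orderOf_eq_prime hfr.f_pow hf1
  have hxPp : xP ^ p = 1 := Subtype.ext (by rw [Subgroup.coe_pow]; exact hgp)
  have hePp : eP ^ p = 1 := Subtype.ext (congrArg Subtype.val hfr.e_pow :)
  have hRcard : Nat.card R = p ^ 2 := by
    have h := hfr.index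
    rwa [Subgroup.zpowers_one_eq_bot, Subgroup.index_bot] at h
  have hPidx : (Subgroup.zpowers fP).index = p ^ 2 := by
    refine le_antisymm (index_le_sq hp.pos (x := eP) (y := xP) (by rw [hePp]; exact one_mem _)
      (by rw [hxPp]; exact one_mem _) fun q => ?_) ?_
    · obtain ⟨i, j, k, rfl⟩ := hspanP q
      exact ⟨i, j, fP ^ k, Subgroup.pow_mem _ (Subgroup.mem_zpowers fP) k, rfl⟩
    · have hlt : R < P := lt_of_le_of_ne hRP fun h0 => hfr.g_not_mem (h0.ge hgP)
      have h1 := mul_card_le_of_lt (hS.to_le hPS) hlt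
      rw [hRcard, ← Subgroup.index_mul_card (Subgroup.zpowers fP), Nat.card_zpowers, hfPp,
        mul_comm p] at h1
      exact Nat.le_of_mul_le_mul_right h1 hp.pos
  have hinvP : ∀ β ∈ F.autGroup P, β fP ∈ Subgroup.zpowers fP := fun β _ => by
    have hcomm : ∀ u v : P ⧸ Subgroup.zpowers fP, u * v = v * u :=
      (IsPGroup.isMulCommutative_of_card_eq_prime_sq
        (by rw [← Subgroup.index_eq_card, hPidx])).is_comm.comm
    have e1 : fP = eP⁻¹ * (xP * eP * xP⁻¹) := by rw [hrel, inv_mul_cancel_left]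
    rw [congrArg β e1, map_mul, map_inv, map_mul, map_mul, map_inv, ← QuotientGroup.eq_one_iff,
      QuotientGroup.mk_mul, QuotientGroup.mk_inv, QuotientGroup.mk_mul, QuotientGroup.mk_mul,
      QuotientGroup.mk_inv, hcomm ((β xP : P) : P ⧸ Subgroup.zpowers fP), mul_inv_cancel_right,
      inv_mul_cancel]
  have hd : HeisData F p P eP xP fP :=
    { e_pow := hePp, f_pow := hxPp, central := hfcent, index := hPidx, span := hspanP,
      inv := hinvP, f_order := hfPp, rel := hrel
      nonab := Or.inr ⟨xP, eP, fun h0 => hf1 (by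
        rw [← mul_inv_eq_iff_eq_mul, hrel, mul_eq_left] at h0
        exact Subtype.ext (congrArg Subtype.val h0 :))⟩ }
  -- the extension as an automorphism of `P`
  have hψe : ψ eP = ((e ^ a : R) : Ω) := by rw [heP, hψv, ← hδe]
  have hψf : ψ fP = ((f ^ m : R) : Ω) := by rw [hfP, hψv, ← hδf]
  have hψP : ∀ q : P, ψ q ∈ P := fun q => by
    obtain ⟨i, j, k, rfl⟩ := hPel q
    rw [map_mul, map_mul, map_pow, map_pow, map_pow, hψe, hψf, hψg]
    exact P.mul_mem (P.mul_mem (P.pow_mem (hRP (e ^ a).2) i) (P.pow_mem (hRP (f ^ m).2) j))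
      (P.pow_mem (P.mul_mem (hRP r.2) (P.pow_mem hgP 4)) k)
  have hψi : Function.Injective (ψ.codRestrict P hψP) := fun u v h =>
    F.injective_of_mem hψ (congrArg Subtype.val h)
  let α : MulAut P := MulEquiv.ofBijective (ψ.codRestrict P hψP)
    ((Nat.bijective_iff_injective_and_card _).2 ⟨hψi, rfl⟩)
  have hα : α ∈ F.autGroup P := (mem_autGroup_iff hPS).2 (hom_congr hψ fun _ => rfl)
  have hαf : α fP = fP ^ m := Subtype.ext (hψf.trans (by simp [hfP]))
  have hαe : α eP = eP ^ a := Subtype.ext (hψe.trans (by simp [heP]))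
  obtain ⟨A, B, C, hr'⟩ := hfr.span r
  rw [one_pow, mul_one] at hr'
  have hαx : α xP = eP ^ A * fP ^ B * xP ^ 4 := Subtype.ext (hψg.trans (by
    rw [hr']; simp [heP, hfP, hxP]))
  have hPS' := plane_stage_two hS hF hp5 hrank3 hc hRP hPS hd (fun v hv => ?_) hα (A := A) hm ham
    (by rw [hαe, inv_mul_cancel]; exact one_mem _) hαf (by
      rw [hαx, mul_assoc (eP ^ A), ((hxf.symm).pow_pow B 4).eq, ← mul_assoc (eP ^ A),
        inv_mul_cancel_left]
      exact Subgroup.pow_mem _ (Subgroup.mem_zpowers fP) B)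
  swap
  · obtain ⟨i, j, k, hij⟩ := hfr.span ⟨v, hv⟩
    rw [one_pow, mul_one] at hij
    exact ⟨i, j, by simpa [heP, hfP] using congrArg Subtype.val hij⟩
  -- so `S` is `p^{1+2}` of exponent `p`
  have hPexp : ∀ q : P, q ^ p = 1 := fun q => by
    obtain ⟨i, j, k, rfl⟩ := hspanP q
    rw [(show Commute (eP ^ i * xP ^ j) (fP ^ k) from
      Commute.pow_right (hfcent _) k).mul_pow, hd.lift_pow (by omega) i j, one_mul, ← pow_mul,
      mul_comm, pow_mul, ← hfPp, pow_orderOf_eq_one, one_pow]
  refine hnotE (hPS' ▸ ⟨?_, ?_⟩)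
  · rw [← Subgroup.index_mul_card (Subgroup.zpowers fP), hPidx, Nat.card_zpowers, hfPp]; ring
  · rcases (Nat.dvd_prime hp).1 (Monoid.exponent_dvd_of_forall_pow_eq_one hPexp) with h1 | h1
    · exfalso
      have h2 : fP = 1 := by simpa [h1] using Monoid.pow_exponent_eq_one fP
      rw [h2, orderOf_one] at hfPp
      exact hp.one_lt.ne hfPp
    · exact h1

/-- **Resistance in rank two.** -/
theorem isNormal_of_rank_two [Fact p.Prime] [Finite S] (hS : IsPGroup p S) (hF : F.IsSaturated p)
    (hp5 : 5 ≤ p)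
    (hrank3 : ∀ E : Subgroup Ω, E ≤ S → Cfsg.IsElementaryAbelian p E → Nat.card E ≤ p ^ 2)
    (hnotE : ¬ (Nat.card S = p ^ 3 ∧ Monoid.exponent ↥S = p)) : F.IsNormal S :=
  (isNormal_iff_stronglyClosed_le hS hF).2 ⟨stronglyClosed_top, fun _ hc hr =>
    (eq_of_centric_radical hS hF hp5 hrank3 hnotE hc hr).ge⟩

end CfsgLib.Fusion
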