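import Cfsg.Agent.Lib.Fusion.RankTwoPlane

/-!
A centric radical `E_{p²}` inside `P = p^{1+2}`, `p ≥ 5`: in rank two `P` is all of `S`.
-/

set_option autoImplicit false
set_option linter.unusedSectionVars false
set_option linter.unusedSimpArgs false

namespace CfsgLib.Fusion

open Cfsg Cfsg.FusionSystem
open scoped commutatorElement

variable {Ω : Type*} [Group Ω] {S R P : Subgroup Ω} {F : FusionSystem S} {p : ℕ}

/-- Overgroups of centric subgroups are centric. -/
theorem centric_of_le (hc : F.IsCentric R) (hRP : R ≤ P) (hPS : P ≤ S) : F.IsCentric P := by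
  refine ⟨hPS, ?_⟩
  rintro Q ⟨φ, hφ, rfl⟩
  have h1 : F.IsConj R (φ.comp (Subgroup.inclusion hRP)).range := ⟨_, restrict_mem hφ hRP, rfl⟩
  refine fun x hx => ?_
  obtain ⟨y, hy⟩ := hc.2 _ h1 (centralizerIn_antitone (by rintro _ ⟨y, rfl⟩; exact ⟨_, rfl⟩) hx)
  exact ⟨_, hy⟩

/-- The relations of `p^{1+2}` in the given generators. -/
structure HeisData (F : FusionSystem S) (p : ℕ) (P : Subgroup Ω) (e x f : P) : Prop
    extends PlaneData F p P e x f where
  f_order : orderOf f = p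
  rel : x * e * x⁻¹ = e * f

namespace HeisData

variable [Fact p.Prime] {e x f : P}

theorem c_pow (hd : HeisData F p P e x f) : f ^ p = 1 := by
  rw [← hd.f_order, pow_orderOf_eq_one]

theorem x_rel (hd : HeisData F p P e x f) : e * x * e⁻¹ = f⁻¹ * x := by
  calc e * x * e⁻¹ = (e * f) * x * (e * f)⁻¹ := by
        rw [mul_assoc e f, ← hd.central x, mul_inv_rev]
        simp [mul_assoc]
    _ = (x * e * x⁻¹) * x * (e * f)⁻¹ := by rw [hd.rel]
    _ = x * (e * f⁻¹ * e⁻¹) := by group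
    _ = x * f⁻¹ := by rw [(Commute.inv_right (hd.central e)).eq, mul_inv_cancel_right]
    _ = f⁻¹ * x := (Commute.inv_right (hd.central x)).eq

/-- Conjugation by `e` and `x`. -/
theorem conj_span (hd : HeisData F p P e x f) (i j k : ℕ) :
    e * (e ^ i * x ^ j * f ^ k) * e⁻¹ = e ^ i * x ^ j * f ^ k * (f⁻¹) ^ j ∧
      x * (e ^ i * x ^ j * f ^ k) * x⁻¹ = e ^ i * x ^ j * f ^ k * f ^ i := by
  have hf : ∀ r : P, Commute r f := hd.central
  constructor
  · calc e * (e ^ i * x ^ j * f ^ k) * e⁻¹ = e ^ i * (e * x * e⁻¹) ^ j * (e * f ^ k * e⁻¹) := by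
          rw [conj_pow]; group
      _ = _ := by
        rw [hd.x_rel, ((hf x).inv_right).symm.mul_pow, ((hf e).pow_right k).eq,
          mul_inv_cancel_right, ((hf (x ^ j)).inv_right.pow_right j).symm.eq, ← mul_assoc,
          mul_assoc _ ((f⁻¹) ^ j), (((hf f).inv_right.pow_right j).pow_left k).symm.eq, ← mul_assoc]
  · calc x * (e ^ i * x ^ j * f ^ k) * x⁻¹ = (x * e * x⁻¹) ^ i * x ^ j * (x * f ^ k * x⁻¹) := by
          rw [conj_pow]; group
      _ = _ := by
        rw [hd.rel, (hf e).mul_pow, ((hf x).pow_right k).eq, mul_inv_cancel_right,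
          mul_assoc (e ^ i), ← ((hf (x ^ j)).pow_right i).eq, ← mul_assoc, mul_assoc _ (f ^ i),
          (((Commute.refl f).pow_pow i k)).eq, ← mul_assoc]

/-- Automorphisms centralising `P / ⟨f⟩` are inner. -/
theorem kernel_inn (hd : HeisData F p P e x f) {α : MulAut P}
    (hαe : e⁻¹ * α e ∈ Subgroup.zpowers f) (hαx : x⁻¹ * α x ∈ Subgroup.zpowers f) [Finite P] :
    α ∈ Inn P := by
  have hp : p.Prime := Fact.out
  obtain ⟨i, hi⟩ := mem_powers_iff_mem_zpowers.2 hαe
  obtain ⟨j, hj⟩ := mem_powers_iff_mem_zpowers.2 hαx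
  have hαe' : α e = e * f ^ i := by rw [show f ^ i = e⁻¹ * α e from hi, mul_inv_cancel_left]
  have hαx' : α x = x * f ^ j := by rw [show f ^ j = x⁻¹ * α x from hj, mul_inv_cancel_left]
  have hf : ∀ r : P, Commute r f := hd.central
  have hαf : α f = f := by
    have h := congrArg α hd.rel
    rw [map_mul, map_mul, map_mul, map_inv, hαe', hαx'] at h
    calc α f = (e * f ^ i)⁻¹ * (x * f ^ j * (e * f ^ i) * (x * f ^ j)⁻¹) := by
          rw [h, inv_mul_cancel_left]
      _ = (f ^ i)⁻¹ * (e⁻¹ * (x * (f ^ j * (e * f ^ i) * (f ^ j)⁻¹) * x⁻¹)) := by group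
      _ = (f ^ i)⁻¹ * (e⁻¹ * ((x * e * x⁻¹) * (x * f ^ i * x⁻¹))) := by
          rw [((hf (e * f ^ i)).pow_right j).symm.eq, mul_inv_cancel_right]; group
      _ = (f ^ i)⁻¹ * (f * f ^ i) := by
          rw [hd.rel, ((hf x).pow_right i).eq, mul_inv_cancel_right]; group
      _ = f := by rw [((Commute.refl f).pow_right i).eq, inv_mul_cancel_left]
  set n := (p - 1) * j with hn
  have hexp : e * x * e⁻¹ = f⁻¹ * x := hd.x_rel
  have hen : e ^ n * x * (e ^ n)⁻¹ = x * f ^ j := by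
    have hk : ∀ k : ℕ, e ^ k * x * (e ^ k)⁻¹ = x * (f⁻¹) ^ k := by
      intro k
      induction k with
      | zero => simp
      | succ k ih =>
        rw [pow_succ', mul_inv_rev, show e * e ^ k * x * ((e ^ k)⁻¹ * e⁻¹) =
          e * (e ^ k * x * (e ^ k)⁻¹) * e⁻¹ by group, ih,
          show e * (x * (f⁻¹) ^ k) * e⁻¹ = (e * x * e⁻¹) * (e * (f⁻¹) ^ k * e⁻¹) by group, hexp,
          ((hf e).inv_right.pow_right k).eq, mul_inv_cancel_right,
          ← ((hf x).inv_right).eq, mul_assoc, ← pow_succ']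
    rw [hk, hn, pow_mul]
    congr 2
    refine eq_of_mul_inv_eq_one ?_
    rw [inv_pow, ← mul_inv_rev, inv_eq_one, ← pow_succ', Nat.sub_add_cancel hp.one_le, hd.c_pow]
  have hxi : ∀ k : ℕ, x ^ k * e * (x ^ k)⁻¹ = e * f ^ k := by
    intro k
    induction k with
    | zero => simp
    | succ k ih =>
      rw [pow_succ', mul_inv_rev, show x * x ^ k * e * ((x ^ k)⁻¹ * x⁻¹) =
        x * (x ^ k * e * (x ^ k)⁻¹) * x⁻¹ by group, ih,
        show x * (e * f ^ k) * x⁻¹ = (x * e * x⁻¹) * (x * f ^ k * x⁻¹) by group, hd.rel,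
        ((hf x).pow_right k).eq, mul_inv_cancel_right, mul_assoc, ← pow_succ']
  have key : ∀ (y : P) (s : P), y * s * y⁻¹ = (MulAut.conj y) s := fun _ _ => rfl
  refine ⟨x ^ i * e ^ n, MulEquiv.ext fun r => ?_⟩
  have hce : MulAut.conj (x ^ i * e ^ n) e = α e := by
    rw [map_mul, MulAut.mul_apply, hαe', ← key, ← key, ((Commute.refl e).pow_left n).eq,
      mul_inv_cancel_right, hxi]
  have hcx : MulAut.conj (x ^ i * e ^ n) x = α x := by
    rw [map_mul, MulAut.mul_apply, hαx', ← key (e ^ n), hen, ← key, ← mul_assoc,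
      (Commute.pow_self x i).eq, mul_assoc x, ((hf (x ^ i)).pow_right j).eq, ← mul_assoc,
      mul_inv_cancel_right]
  have hcf : MulAut.conj (x ^ i * e ^ n) f = α f := by
    rw [hαf, ← key, (hf _).eq, mul_inv_cancel_right]
  obtain ⟨a, b, c, rfl⟩ := hd.span r
  simp only [map_mul (MulAut.conj (x ^ i * e ^ n)), map_pow (MulAut.conj (x ^ i * e ^ n)), map_mul α,
    map_pow α, hce, hcx, hcf]

end HeisData

/-- The second stage: `P ≅ p^{1+2}` with the extended torus is all of `S`. -/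
theorem plane_stage_two [Fact p.Prime] [Finite S] (hS : IsPGroup p S) (hF : F.IsSaturated p)
    (hp5 : 5 ≤ p) (hrank3 : ∀ E : Subgroup Ω, E ≤ S → Cfsg.IsElementaryAbelian p E →
      Nat.card E ≤ p ^ 2)
    (hcR : F.IsCentric R) (hRP : R ≤ P) (hP : P ≤ S) {e x f : P} (hd : HeisData F p P e x f)
    (hRgen : ∀ r ∈ R, ∃ i k : ℕ, r = ((e ^ i * f ^ k : P) : Ω))
    {α : MulAut P} (hα : α ∈ F.autGroup P) {a m A : ℕ} (hm : (m : ZMod p) = -2)
    (ham : (a : ZMod p) * m = 1) (hαe : (e ^ a)⁻¹ * α e ∈ Subgroup.zpowers f)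
    (hαf : α f = f ^ m) (hαx : (e ^ A * x ^ 4)⁻¹ * α x ∈ Subgroup.zpowers f) : P = S := by
  classical
  by_contra hne
  have hp : p.Prime := Fact.out
  have : NeZero p := ⟨hp.ne_zero⟩
  have := finite_le hP
  have := finite_mulAut_of_le (S := S) hP
  have hPp : IsPGroup p P := hS.to_le hP
  have hodd : Odd p := hp.odd_of_ne_two (by omega)
  have hcP := centric_of_le hcR hRP hP
  obtain ⟨π, hπ, hker, hπn⟩ := hd.exists_coords
  have hπi : ∀ r, π r⁻¹ = -π r := fun r => eq_neg_of_add_eq_zero_left (by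
    rw [← hπ, inv_mul_cancel, (hker 1).2 (one_mem _)])
  have hπp : ∀ (r : P) (n : ℕ), π (r ^ n) = (n : ZMod p) • π r := by
    intro r n
    induction n with
    | zero => simp [(hker 1).2 (one_mem _)]
    | succ n ih => rw [pow_succ, hπ, ih, Nat.cast_succ, add_smul, one_smul]
  have hπe : π e = (1, 0) := by simpa using hπn 1 0
  have hπx : π x = (0, 1) := by simpa using hπn 0 1
  have hcong : ∀ u v : P, u⁻¹ * v ∈ Subgroup.zpowers f → π v = π u := fun u v h => by
    have := (hker _).2 h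
    rwa [hπ, hπi, neg_add_eq_zero, eq_comm] at this
  -- every automiser element is linear on the coordinates
  have hlin : ∀ γ ∈ F.autGroup P, ∀ r, π (γ r) = (π r).1 • π (γ e) + (π r).2 • π (γ x) := by
    intro γ hγ r
    obtain ⟨i, j, k, rfl⟩ := hd.span r
    have hz : π (γ (f ^ k)) = 0 := (hker _).2 (by
      rw [map_pow]; exact Subgroup.pow_mem _ (hd.inv γ hγ) k)
    rw [map_mul, map_mul, map_pow, map_pow, hπ, hz, add_zero, hπ, hπp, hπp, hπ (e ^ i * x ^ j),
      (hker (f ^ k)).2 (Subgroup.pow_mem _ (Subgroup.mem_zpowers f) k), add_zero, hπn]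
  have hαe' : π (α e) = ((a : ZMod p), 0) := by
    rw [hcong _ _ hαe]; simpa using hπn a 0
  have hαx' : π (α x) = ((A : ZMod p), 4) := by
    rw [hcong _ _ hαx, hπn]; simp
  -- eigen-coordinates
  have h4a : (4 : ZMod p) - (a : ZMod p) ≠ 0 := fun h => by
    have h1 : (a : ZMod p) = 4 := (sub_eq_zero.1 h).symm
    rw [h1, hm] at ham
    have h9 : ((9 : ℕ) : ZMod p) = 0 := by push_cast; linear_combination -ham
    have h' := (ZMod.natCast_eq_zero_iff 9 p).1 h9
    rcases hp.dvd_mul.1 (show p ∣ 3 * 3 from h') with h0 | h0 <;>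
      have := Nat.le_of_dvd (by norm_num) h0 <;> omega
  set t : ZMod p := (A : ZMod p) / (4 - (a : ZMod p)) with ht
  let ρ : P → ZMod p × ZMod p := fun r => ((π r).1 - t * (π r).2, (π r).2)
  have hρα : ∀ r, ρ (α r) = ((a : ZMod p) * (ρ r).1, 4 * (ρ r).2) := fun r => by
    simp only [ρ, hlin α hα r, hαe', hαx']
    have hA : (A : ZMod p) = t * (4 - (a : ZMod p)) := by rw [ht, div_mul_cancel₀ _ h4a]
    ext
    · simp [hA]; ring
    · simp; ring
  -- the next element
  obtain ⟨h, hhP, hhp⟩ := exists_step hS hP hne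
  obtain ⟨T, hT⟩ := conjAut_pow_eq_one hS h
  set τ := conjAut h with hτdef
  have hτA : τ ∈ F.autGroup P := conjAut_mem_autGroup hP h
  have hτf : τ f = f := by
    refine fix_elem (t := T) τ hd.c_pow ?_ (by rw [hT]; rfl)
    obtain ⟨k, hk⟩ := mem_powers_iff_mem_zpowers.2 (hd.inv τ hτA)
    exact ⟨k, hk.symm⟩
  have hhf : Commute (h : Ω) (f : Ω) :=
    mul_inv_eq_iff_eq_mul.1 ((conjAut_apply h f).symm.trans (congrArg Subtype.val hτf))
  -- `τ` moves the line of `e`
  have hd1 : (π (τ e)).2 ≠ 0 := fun h0 => by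
    have hit : ∀ n : ℕ, π ((τ ^ n) e) = ((π (τ e)).1 ^ n, 0) := by
      intro n
      induction n with
      | zero => simpa using hπe
      | succ n ih =>
        rw [pow_succ', MulAut.mul_apply, hlin τ hτA, ih, zero_smul, add_zero]
        ext
        · simp [pow_succ]
        · simp [h0]
    have h1 : (π (τ e)).1 = 1 := by
      have h2 := congrArg Prod.fst (hit (p ^ T))
      rw [hT, MulAut.one_apply, hπe, ZMod.pow_card_pow] at h2
      exact h2.symm
    have hem : e⁻¹ * τ e ∈ Subgroup.zpowers f := (hker _).1 (by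
      rw [hπ, hπi, hπe]; ext <;> simp [h0, h1])
    obtain ⟨i, hi⟩ := mem_powers_iff_mem_zpowers.2 hem
    have hxe : ∀ k : ℕ, x ^ k * e * (x ^ k)⁻¹ = e * f ^ k := by
      intro k
      induction k with
      | zero => simp
      | succ k ih =>
        rw [pow_succ', mul_inv_rev, show x * x ^ k * e * ((x ^ k)⁻¹ * x⁻¹) =
          x * (x ^ k * e * (x ^ k)⁻¹) * x⁻¹ by group, ih,
          show x * (e * f ^ k) * x⁻¹ = (x * e * x⁻¹) * (x * f ^ k * x⁻¹) by group, hd.rel,
          (Commute.pow_right (hd.central x) k).eq, mul_inv_cancel_right, mul_assoc, ← pow_succ']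
    have h1' : Commute (((x ^ i : P) : Ω)⁻¹ * h) (e : Ω) := by
      have e1 : (h : Ω) * e * (h : Ω)⁻¹ = ((x ^ i : P) : Ω) * e * ((x ^ i : P) : Ω)⁻¹ := by
        rw [← conjAut_apply h e, ← hτdef, ← Subgroup.coe_inv, ← Subgroup.coe_mul,
          ← Subgroup.coe_mul, hxe, show f ^ i = e⁻¹ * τ e from hi, mul_inv_cancel_left]
      show ((x ^ i : P) : Ω)⁻¹ * h * e = e * (((x ^ i : P) : Ω)⁻¹ * h)
      calc ((x ^ i : P) : Ω)⁻¹ * h * e
          = ((x ^ i : P) : Ω)⁻¹ * ((h : Ω) * e * (h : Ω)⁻¹) * h := by group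
        _ = _ := by rw [e1]; group
    have h2' : Commute (((x ^ i : P) : Ω)⁻¹ * h) (f : Ω) :=
      (show Commute ((x ^ i : P) : Ω) (f : Ω) from
        congrArg Subtype.val (hd.central (x ^ i))).inv_left.mul_left hhf
    have hmem := hcR.2 R (isConj_refl hcR.1) (mem_centralizerIn.2
      ⟨S.mul_mem (S.inv_mem (hP (x ^ i).2)) h.2.1, fun r hr => by
        obtain ⟨u, v, rfl⟩ := hRgen r hr
        rw [Subgroup.coe_mul, Subgroup.coe_pow, Subgroup.coe_pow]
        exact ((h1'.pow_right u).mul_right (h2'.pow_right v)).eq.symm⟩)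
    exact hhP ((P.mul_mem_cancel_left (P.inv_mem (x ^ i).2)).1 (hRP hmem))
  -- `τ` is a transvection
  obtain ⟨k, σ, hk, hρτ⟩ : ∃ k σ : ZMod p, k ≠ 0 ∧ ∀ r, ρ (τ r) =
      ((ρ r).1 + k * ((ρ r).1 - σ * (ρ r).2) * σ, (ρ r).2 + k * ((ρ r).1 - σ * (ρ r).2)) := by
    have := hd.normal
    set Z := Subgroup.zpowers f with hZdef
    have hZe : Z.map τ.toMonoidHom = Z := Subgroup.eq_of_le_of_card_ge (by
        rintro _ ⟨_, ⟨n, rfl⟩, rfl⟩
        show τ (f ^ n) ∈ Z
        rw [map_zpow, hτf]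
        exact Subgroup.zpow_mem _ (Subgroup.mem_zpowers f) n)
      (Subgroup.card_map_of_injective (f := τ.toMonoidHom) τ.injective).ge
    set τb : MulAut (P ⧸ Z) := QuotientGroup.congr Z Z τ hZe
    have hτv : ∀ r : P, τb (r : P ⧸ Z) = ((τ r : P) : P ⧸ Z) := fun r => rfl
    have hτn : ∀ (n : ℕ) (r : P), (τb ^ n) (r : P ⧸ Z) = (((τ ^ n) r : P) : P ⧸ Z) := by
      intro n r
      induction n with
      | zero => rfl
      | succ n ih => rw [pow_succ', pow_succ', MulAut.mul_apply, MulAut.mul_apply, ih, hτv]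
    have hmk : ∀ u v : P, (u : P ⧸ Z) = v → π u = π v := fun u v h =>
      (hcong _ _ (QuotientGroup.eq.1 h)).symm
    obtain ⟨qa, qb, hab, hbb, hb1, hspan⟩ := unipotent_plane (t := T) hd.quot_comm
      (by rw [← Subgroup.index_eq_card, hd.index]) hd.quot_pow τb
      (MulEquiv.ext fun q => by
        obtain ⟨q, rfl⟩ := QuotientGroup.mk_surjective q
        rw [hτn, hT]; rfl) (fun h0 => hd1 (by
          have h1 := hτv e
          rw [h0, MulAut.one_apply] at h1
          rw [← hmk _ _ h1, hπe]))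
    obtain ⟨ua, rfl⟩ := QuotientGroup.mk_surjective qa
    obtain ⟨ub, rfl⟩ := QuotientGroup.mk_surjective qb
    rw [hτv, ← QuotientGroup.mk_mul] at hab
    rw [hτv] at hbb
    have hB : π (τ ub) = π ub := hmk _ _ hbb
    have hA : π (τ ua) = π ua + π ub := by rw [hmk _ _ hab, hπ]
    have hdiff : ∀ r, ∃ c : ZMod p, π (τ r) = π r + c • π ub := fun r => by
      obtain ⟨i, j, hij⟩ := hspan (r : P ⧸ Z)
      rw [← QuotientGroup.mk_pow, ← QuotientGroup.mk_pow, ← QuotientGroup.mk_mul] at hij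
      refine ⟨i, ?_⟩
      have h1 : ((τ r : P) : P ⧸ Z) = ((τ (ua ^ i * ub ^ j) : P) : P ⧸ Z) := by
        rw [← hτv, ← hτv, hij]
      rw [hmk _ _ h1, hmk _ _ hij, map_mul, map_pow, map_pow, hπ, hπ, hπp, hπp, hπp, hπp, hA, hB,
        smul_add]
      abel
    obtain ⟨c₁, hc₁⟩ := hdiff e
    set B1 := (π ub).1 with hB1
    set B2 := (π ub).2 with hB2
    have hB2ne : B2 ≠ 0 := fun h0 => hd1 (by rw [hc₁, hπe]; simp [← hB2, h0])
    have hc1ne : c₁ ≠ 0 := fun h0 => hd1 (by rw [hc₁, hπe, h0]; simp)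
    refine ⟨c₁ * B2, B1 / B2 - t, mul_ne_zero hc1ne hB2ne, fun r => ?_⟩
    -- the image of `x` is forced by fixing `ub`
    have hx2 : π (τ x) = π x + (-(c₁ * B1) / B2) • π ub := by
      have h := hlin τ hτA ub
      rw [hB, hc₁, hπe, ← hB1, ← hB2] at h
      have e1 := congrArg Prod.fst h
      have e2 := congrArg Prod.snd h
      simp [← hB1, ← hB2] at e1 e2
      rw [hπx]
      ext
      · simp [← hB1]
        field_simp
        linear_combination -e1
      · have e2' : (π (τ x)).2 = 1 - c₁ * B1 :=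
          mul_left_cancel₀ hB2ne (by linear_combination -e2)
        simp [← hB2, e2']
        field_simp
        ring
    simp only [ρ, hlin τ hτA r, hc₁, hπe, hx2, hπx]
    ext
    · simp [← hB1, ← hB2]
      field_simp
      ring
    · simp [← hB2]
      field_simp
      ring
  have hρpow : ∀ (n : ℕ) (r), ρ ((τ ^ n) r) =
      ((ρ r).1 + n * k * ((ρ r).1 - σ * (ρ r).2) * σ,
        (ρ r).2 + n * k * ((ρ r).1 - σ * (ρ r).2)) := by
    intro n
    induction n with
    | zero => simp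
    | succ n ih =>
      intro r
      rw [pow_succ', MulAut.mul_apply, hρτ, ih]
      ext <;> push_cast <;> ring
  -- adjusting a normalising element to centralise an element off the line of `e`
  have adjust : ∀ w : P, (π w).2 ≠ 0 → w⁻¹ * τ w ∈ Subgroup.zpowers f →
      ∃ n : ℕ, Commute ((h : Ω) * ((e ^ n : P) : Ω)) (w : Ω) ∧
        Commute ((h : Ω) * ((e ^ n : P) : Ω)) (f : Ω) := by
    intro w hw hwm
    obtain ⟨i, j, l, hwd⟩ := hd.span w
    have hj : (π w).2 = (j : ZMod p) := by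
      rw [hwd, hπ, hπn, (hker (f ^ l)).2 (Subgroup.pow_mem _ (Subgroup.mem_zpowers f) l)]
      simp
    obtain ⟨b, hb⟩ := mem_powers_iff_mem_zpowers.2 hwm
    have hb' : τ w = w * f ^ b := by rw [show f ^ b = w⁻¹ * τ w from hb, mul_inv_cancel_left]
    have hen : ∀ n : ℕ, e ^ n * w * (e ^ n)⁻¹ = w * (f⁻¹) ^ (j * n) := by
      intro n
      induction n with
      | zero => simp
      | succ n ih =>
        rw [pow_succ', mul_inv_rev, show e * e ^ n * w * ((e ^ n)⁻¹ * e⁻¹) =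
          e * (e ^ n * w * (e ^ n)⁻¹) * e⁻¹ by group, ih,
          show e * (w * (f⁻¹) ^ (j * n)) * e⁻¹ = (e * w * e⁻¹) * (e * (f⁻¹) ^ (j * n) * e⁻¹) by
            group, ((Commute.inv_right (hd.central e)).pow_right (j * n)).eq, mul_inv_cancel_right,
          hwd, (hd.conj_span i j l).1, mul_assoc, ← pow_add, mul_add, mul_one, add_comm j]
    rw [hj] at hw
    obtain ⟨n, hn⟩ := ZMod.natCast_zmod_surjective ((b : ZMod p) / (j : ZMod p))
    refine ⟨n, ?_, hhf.mul_left ?_⟩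
    · have hfix : f ^ b * (f⁻¹) ^ (j * n) = 1 := by
        rw [inv_pow, mul_inv_eq_one, pow_eq_pow_iff_modEq, hd.f_order, ← ZMod.natCast_eq_natCast_iff,
          Nat.cast_mul, hn, mul_div_cancel₀ _ hw]
      have h1 : τ (e ^ n * w * (e ^ n)⁻¹) = w := by
        rw [hen, map_mul, map_pow, map_inv, hτf, hb', mul_assoc, hfix, mul_one]
      have h2 := congrArg Subtype.val h1
      rw [hτdef, conjAut_apply, Subgroup.coe_mul, Subgroup.coe_mul, Subgroup.coe_inv] at h2
      show (h : Ω) * ((e ^ n : P) : Ω) * w = w * ((h : Ω) * ((e ^ n : P) : Ω))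
      conv_rhs => rw [← h2]
      group
    · exact congrArg Subtype.val (hd.central (e ^ n))
  by_cases hσ : σ = 0
  swap
  · -- another conjugate of `R` with a larger centraliser
    have h4 : (4 : ZMod p) ≠ 0 := fun h0 => by
      have := (ZMod.natCast_eq_zero_iff 4 p).1 (by exact_mod_cast h0)
      rcases hp.dvd_mul.1 (show p ∣ 2 * 2 from this) with h0 | h0 <;>
        have := Nat.le_of_dvd (by norm_num) h0 <;> omega
    have ha4 : (a : ZMod p) - 4 ≠ 0 := fun h0 => h4a (by linear_combination -h0)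
    obtain ⟨n, hn⟩ := ZMod.natCast_zmod_surjective (4 / (σ * ((a : ZMod p) - 4)) / k)
    set μ : ZMod p := (n : ZMod p) * k / 4 with hμ
    have hnk : (n : ZMod p) * k = 4 / (σ * ((a : ZMod p) - 4)) := by
      rw [hn, div_mul_cancel₀ _ hk]
    set γ := α⁻¹ * τ ^ n with hγ
    have hγA : γ ∈ F.autGroup P :=
      Subgroup.mul_mem _ (Subgroup.inv_mem _ hα) (Subgroup.pow_mem _ hτA n)
    have hγe : ρ (γ e) = (μ * σ, μ) := by
      have h1 := hρα (γ e)
      rw [show α (γ e) = (τ ^ n) e from MulAut.apply_inv_self _ α _, hρpow] at h1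
      have hρe : ρ e = (1, 0) := by simp [ρ, hπe]
      rw [hρe] at h1
      obtain ⟨e1, e2⟩ := Prod.mk_inj.1 h1
      simp only [mul_zero, sub_zero, mul_one, zero_add] at e1 e2
      have ha0 : (a : ZMod p) ≠ 0 := left_ne_zero_of_mul_eq_one ham
      ext
      · show (ρ (γ e)).1 = μ * σ
        refine mul_left_cancel₀ ha0 ?_
        rw [← e1, hμ, hnk]
        field_simp
        ring
      · show (ρ (γ e)).2 = μ
        refine mul_left_cancel₀ h4 ?_
        rw [← e2, hμ, mul_div_cancel₀ _ h4]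
    have hμ0 : μ ≠ 0 := by
      rw [hμ, hnk]
      exact div_ne_zero (div_ne_zero h4 (mul_ne_zero hσ ha4)) h4
    obtain ⟨u, hu, hu'⟩ := adjust (γ e) (by
      rw [show (π (γ e)).2 = (ρ (γ e)).2 from rfl, hγe]; exact hμ0) ((hker _).1 (by
      have h1 := hρτ (γ e)
      rw [hγe] at h1
      simp only [sub_self, mul_zero, zero_mul, add_zero] at h1
      obtain ⟨e1, e2⟩ := Prod.mk_inj.1 h1
      obtain ⟨g1, g2⟩ := Prod.mk_inj.1 hγe
      rw [hπ, hπi]
      ext
      · simp only [Prod.fst_add, Prod.fst_neg, Prod.fst_zero]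
        rw [g2] at g1; rw [e2] at e1
        linear_combination e1 - g1
      · simp only [Prod.snd_add, Prod.snd_neg, Prod.snd_zero]
        rw [e2, g2]; ring))
    obtain ⟨v, hv⟩ := mem_powers_iff_mem_zpowers.2 (hd.inv γ hγA)
    have hφ : P.subtype.comp γ.toMonoidHom ∈ F.Hom P := (mem_autGroup_iff hP).1 hγA
    set φ := (P.subtype.comp γ.toMonoidHom).comp (Subgroup.inclusion hRP) with hφd
    have hmem := hcR.2 φ.range ⟨φ, restrict_mem hφ hRP, rfl⟩ (mem_centralizerIn.2
      ⟨S.mul_mem h.2.1 (hP (e ^ u).2), fun y hy => by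
        obtain ⟨⟨r, hr⟩, rfl⟩ := hy
        obtain ⟨i, l, hil⟩ := hRgen r hr
        have : φ ⟨r, hr⟩ = ((γ (e ^ i * f ^ l) : P) : Ω) := by
          show ((γ ⟨r, hRP hr⟩ : P) : Ω) = _
          exact congrArg (fun q : P => ((γ q : P) : Ω)) (Subtype.ext hil)
        rw [this, map_mul, map_pow, map_pow, show γ f = f ^ v from hv.symm, ← pow_mul,
          Subgroup.coe_mul, Subgroup.coe_pow, Subgroup.coe_pow]
        exact ((hu.pow_right i).mul_right (hu'.pow_right (v * l))).eq.symm⟩)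
    have hle : φ.range ≤ P := by
      rintro _ ⟨r, rfl⟩; exact (γ (Subgroup.inclusion hRP r)).2
    exact hhP ((P.mul_mem_cancel_right (e ^ u).2).1 (hle hmem))
  -- `σ = 0`: the line of `x' = e ^ s * x` is fixed
  subst hσ
  obtain ⟨s, hs⟩ := ZMod.natCast_zmod_surjective t
  set x' := e ^ s * x with hx'
  have hπx' : π x' = (t, 1) := by
    rw [hx', ← pow_one x, hπn, hs, Nat.cast_one]
  have hρx' : ρ x' = (0, 1) := by simp [ρ, hπx']
  obtain ⟨n₀, hn₀x, hn₀f⟩ := adjust x' (by rw [hπx']; exact one_ne_zero) ((hker _).1 (by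
    have h1 := hρτ x'
    rw [hρx'] at h1
    simp only [mul_zero, sub_zero, mul_one, add_zero, zero_add] at h1
    obtain ⟨e1, e2⟩ := Prod.mk_inj.1 h1
    rw [hπ, hπi, hπx']
    ext
    · simp only [Prod.fst_add, Prod.fst_neg, Prod.fst_zero]
      rw [e2] at e1
      linear_combination e1
    · simp only [Prod.snd_add, Prod.snd_neg, Prod.snd_zero]
      rw [e2, neg_add_cancel]))
  let h' : normalizerIn S P := ⟨(h : Ω) * ((e ^ n₀ : P) : Ω),
    S.mul_mem h.2.1 (hP (e ^ n₀).2), mul_mem h.2.2 (Subgroup.le_normalizer (e ^ n₀).2)⟩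
  have hh'P : (h' : Ω) ∉ P := fun hm => hhP ((P.mul_mem_cancel_right (e ^ n₀).2).1 hm)
  set τ' := conjAut h' with hτ'def
  have hτ'A : τ' ∈ F.autGroup P := conjAut_mem_autGroup hP h'
  have hτ'v : ∀ r, τ' r = τ (e ^ n₀ * r * (e ^ n₀)⁻¹) := fun r => Subtype.ext (by
    rw [hτ'def, hτdef, conjAut_apply, conjAut_apply, Subgroup.coe_mul, Subgroup.coe_mul,
      Subgroup.coe_inv]
    simp only [h', mul_inv_rev, mul_assoc])
  have hρ' : ∀ r, ρ (τ' r) = ((ρ r).1, (ρ r).2 + k * (ρ r).1) := fun r => by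
    have hc : π (e ^ n₀ * r * (e ^ n₀)⁻¹) = π r := by rw [hπ, hπ, hπi]; abel
    rw [hτ'v, hρτ]
    have : ρ (e ^ n₀ * r * (e ^ n₀)⁻¹) = ρ r := by simp [ρ, hc]
    rw [this]
    simp
  have hfixx : τ' x' = x' := Subtype.ext (mul_inv_eq_of_eq_mul hn₀x.eq)
  have hfixf : τ' f = f := Subtype.ext (mul_inv_eq_of_eq_mul hn₀f.eq)
  obtain ⟨kn, hkn⟩ := ZMod.natCast_zmod_surjective k
  -- the commutation of `P` with `x'`
  have hcx : ∀ r : P, r * x' = x' * r → (ρ r).1 = 0 := by
    intro r hr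
    obtain ⟨i, j, l, hijl⟩ := hd.span r
    have hxc : x * r * x⁻¹ = r * f ^ i := by rw [hijl]; exact (hd.conj_span i j l).2
    have hec : ∀ q : ℕ, e ^ q * r * (e ^ q)⁻¹ = r * (f⁻¹) ^ (j * q) := by
      intro q
      induction q with
      | zero => simp
      | succ q ih =>
        rw [pow_succ', mul_inv_rev, show e * e ^ q * r * ((e ^ q)⁻¹ * e⁻¹) =
          e * (e ^ q * r * (e ^ q)⁻¹) * e⁻¹ by group, ih,
          show e * (r * (f⁻¹) ^ (j * q)) * e⁻¹ = (e * r * e⁻¹) * (e * (f⁻¹) ^ (j * q) * e⁻¹) by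
            group, ((Commute.inv_right (hd.central e)).pow_right (j * q)).eq, mul_inv_cancel_right,
          hijl, (hd.conj_span i j l).1, mul_assoc, ← pow_add, mul_add, mul_one, add_comm j]
    have h1 : x' * r * x'⁻¹ = r * ((f⁻¹) ^ (j * s) * f ^ i) := by
      rw [hx', show e ^ s * x * r * (e ^ s * x)⁻¹ = e ^ s * (x * r * x⁻¹) * (e ^ s)⁻¹ by group, hxc,
        show e ^ s * (r * f ^ i) * (e ^ s)⁻¹ = (e ^ s * r * (e ^ s)⁻¹) * (e ^ s * f ^ i * (e ^ s)⁻¹)
          by group, hec, ((Commute.pow_right (hd.central (e ^ s))) i).eq, mul_inv_cancel_right,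
        mul_assoc]
    rw [← hr, mul_inv_cancel_right, left_eq_mul, inv_pow, inv_mul_eq_one,
      pow_eq_pow_iff_modEq, hd.f_order, ← ZMod.natCast_eq_natCast_iff, Nat.cast_mul, hs] at h1
    simp only [ρ, hijl, hπ (e ^ i * x ^ j), hπn,
      (hker (f ^ l)).2 (Subgroup.pow_mem _ (Subgroup.mem_zpowers f) l)]
    simp [← h1, mul_comm]
  -- elements on the line of `x'`
  have hline : ∀ r : P, (ρ r).1 = 0 → ∃ j l : ℕ, r = x' ^ j * f ^ l := by
    intro r hr
    obtain ⟨j, hj⟩ := ZMod.natCast_zmod_surjective (π r).2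
    have hm1 : (x' ^ j)⁻¹ * r ∈ Subgroup.zpowers f := (hker _).1 (by
      have h1 : (π r).1 = t * (π r).2 := sub_eq_zero.1 hr
      rw [hπ, hπi, hπp, hπx']
      ext
      · simp [h1, hj]; ring
      · simp [hj])
    obtain ⟨l, hl⟩ := mem_powers_iff_mem_zpowers.2 hm1
    exact ⟨j, l, by rw [show f ^ l = (x' ^ j)⁻¹ * r from hl, mul_inv_cancel_left]⟩
  -- `h' ^ p` is central
  have hh'p : ((h' : Ω)) ^ p ∈ P := by
    obtain ⟨r', hr', hh⟩ := pow_mul_mem h.2.2 (e ^ n₀).2 p
    show ((h : Ω) * ((e ^ n₀ : P) : Ω)) ^ p ∈ P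
    rw [hh]; exact P.mul_mem hhp hr'
  set G0 : P := ⟨(h' : Ω) ^ p, hh'p⟩ with hG0
  have hG0x : G0 * x' = x' * G0 := Subtype.ext
    (show Commute ((h' : Ω) ^ p) (x' : Ω) from hn₀x.pow_left p).eq
  obtain ⟨jx, jf, hG0d⟩ := hline G0 (hcx G0 hG0x)
  have hG0e : G0 * e = e * G0 := by
    have hv : ρ (e⁻¹ * τ' e) = (0, k) := by
      have h1 := hρ' e
      have hρe : ρ e = (1, 0) := by simp [ρ, hπe]
      rw [hρe] at h1
      simp only [mul_one, zero_add] at h1
      obtain ⟨e1, e2⟩ := Prod.mk_inj.1 h1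
      simp only [ρ, hπ, hπi, hπe]
      ext
      · simp; linear_combination e1
      · simp [e2]
    obtain ⟨q1, q2, hq⟩ := hline _ (by rw [hv])
    have hfixv : τ' (e⁻¹ * τ' e) = e⁻¹ * τ' e := by
      rw [hq, map_mul, map_pow, map_pow, hfixx, hfixf]
    have hvp : (e⁻¹ * τ' e) ^ p = 1 := by
      rw [hq, (Commute.pow_pow (hd.central x') q1 q2).mul_pow, ← pow_mul, ← pow_mul, mul_comm q1,
        mul_comm q2, pow_mul, pow_mul, hd.c_pow, one_pow, mul_one]
      have hx'p : x' ^ p = 1 := by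
        have := hd.lift_pow (by omega) s 1
        rwa [pow_one] at this
      rw [hx'p, one_pow]
    have h1 := PGroups.Transvections.pow_fix (σ := τ') (e := e) (v := e⁻¹ * τ' e) (q := p)
      (by rw [mul_inv_cancel_left]) hfixv hvp
    have h2 := congrArg Subtype.val h1
    rw [hτ'def, conjAut_pow] at h2
    exact Subtype.ext (mul_inv_eq_iff_eq_mul.1 h2)
  have hjx : (jx : ZMod p) = 0 := by
    have h1 : e * G0 * e⁻¹ = G0 := by rw [← hG0e, mul_inv_cancel_right]
    obtain ⟨i, j, l, hijl⟩ := hd.span G0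
    rw [hijl, (hd.conj_span i j l).1, mul_eq_left, inv_pow, inv_eq_one] at h1
    have hj0 : (j : ZMod p) = 0 := (ZMod.natCast_eq_zero_iff _ _).2 (by
      rw [← hd.f_order]; exact orderOf_dvd_of_pow_eq_one h1)
    have h2 := congrArg Prod.snd (congrArg π (hijl.symm.trans hG0d))
    rw [hπ, hπn, (hker (f ^ l)).2 (Subgroup.pow_mem _ (Subgroup.mem_zpowers f) l), hπ, hπp, hπx',
      (hker (f ^ jf)).2 (Subgroup.pow_mem _ (Subgroup.mem_zpowers f) jf)] at h2
    simpa [hj0] using h2.symm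
  have hx'p : x' ^ p = 1 := by
    have := hd.lift_pow (by omega) s 1
    rwa [pow_one] at this
  have hG0f : (h' : Ω) ^ p = (f : Ω) ^ jf := by
    have : x' ^ jx = 1 := by
      obtain ⟨q, rfl⟩ := (ZMod.natCast_eq_zero_iff _ _).1 hjx
      rw [pow_mul, hx'p, one_pow]
    rw [this, one_mul] at hG0d
    exact congrArg Subtype.val hG0d
  by_cases hpjf : p ∣ jf
  · -- too large an elementary abelian subgroup
    have hh1 : (h' : Ω) ^ p = 1 := by
      obtain ⟨q, rfl⟩ := hpjf
      rw [hG0f, pow_mul, show (f : Ω) ^ p = 1 from congrArg Subtype.val hd.c_pow, one_pow]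
    have hxf : Commute (x' : Ω) (f : Ω) := congrArg Subtype.val (hd.central x')
    set V : Set Ω := {(h' : Ω), (x' : Ω), (f : Ω)}
    have hVc : ∀ y ∈ V, ∀ y' ∈ V, y * y' = y' * y := by
      rintro y (rfl | rfl | rfl) y' (rfl | rfl | rfl)
      exacts [rfl, hn₀x.eq, hn₀f.eq, hn₀x.eq.symm, rfl, hxf.eq, hn₀f.eq.symm, hxf.eq.symm, rfl]
    set H := Subgroup.closure V with hH
    have hHS : H ≤ S := (Subgroup.closure_le _).2 (by
      rintro y (rfl | rfl | rfl)
      exacts [h'.2.1, hP x'.2, hP f.2])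
    have hHcomm : IsMulCommutative H := Subgroup.isMulCommutative_closure hVc
    have hHexp : ∀ y ∈ H, y ^ p = 1 := by
      intro y hy
      induction hy using Subgroup.closure_induction with
      | mem y hy =>
        rcases hy with rfl | rfl | rfl
        exacts [hh1, congrArg Subtype.val hx'p, congrArg Subtype.val hd.c_pow]
      | one => exact one_pow p
      | mul y y' hy hy' h1 h2 =>
        rw [(show Commute y y' from congrArg Subtype.val
          (hHcomm.is_comm.comm ⟨y, hy⟩ ⟨y', hy'⟩)).mul_pow, h1, h2, one_mul]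
      | inv y _ h1 => rw [inv_pow, h1, inv_one]
    set B1 := Subgroup.zpowers (f : Ω) with hB1
    set B2 := B1 ⊔ Subgroup.zpowers (x' : Ω) with hB2
    have hfH : (f : Ω) ∈ H := Subgroup.subset_closure (Or.inr (Or.inr rfl))
    have hxH : (x' : Ω) ∈ H := Subgroup.subset_closure (Or.inr (Or.inl rfl))
    have hB2H : B2 < H := by
      refine lt_of_le_of_ne (sup_le (Subgroup.zpowers_le.2 hfH) (Subgroup.zpowers_le.2 hxH))
        fun h0 => hh'P ?_
      have hle : B2 ≤ P := sup_le (Subgroup.zpowers_le.2 f.2) (Subgroup.zpowers_le.2 x'.2)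
      exact hle (h0.ge (Subgroup.subset_closure (Or.inl rfl)))
    have hB12 : B1 < B2 := left_lt_sup.2 fun h0 => by
      obtain ⟨l, hl⟩ := h0 (Subgroup.mem_zpowers (x' : Ω))
      have hl' : f ^ l = x' := Subtype.ext (by rw [Subgroup.coe_zpow]; exact hl)
      have h1 := (hker _).2 (hl' ▸ Subgroup.zpow_mem _ (Subgroup.mem_zpowers f) l)
      rw [hπx'] at h1
      exact one_ne_zero (congrArg Prod.snd h1)
    have hB1c : Nat.card B1 = p := by
      rw [hB1, Nat.card_zpowers, Subgroup.orderOf_coe, hd.f_order]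
    have := finite_le hHS
    have := finite_le (hB2H.le.trans hHS)
    have h1 := mul_card_le_of_lt (hS.to_le (hB2H.le.trans hHS)) hB12
    have h2 := mul_card_le_of_lt (hS.to_le hHS) hB2H
    have h3 := hrank3 H hHS ⟨hHcomm, hHexp⟩
    rw [hB1c] at h1
    have h5 : p * (p * p) ≤ p ^ 2 := ((Nat.mul_le_mul_left p h1).trans h2).trans h3
    nlinarith
  -- the weights
  set N := 4 * m with hN
  have hN8 : (N : ZMod p) = 4 * (m : ZMod p) := by rw [hN]; push_cast; ring
  have ha0 : (a : ZMod p) ≠ 0 := left_ne_zero_of_mul_eq_one ham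
  have hρ'pow : ∀ (n : ℕ) (r), ρ ((τ' ^ n) r) = ((ρ r).1, (ρ r).2 + n * k * (ρ r).1) := by
    intro n
    induction n with
    | zero => simp
    | succ n ih =>
      intro r
      rw [pow_succ', MulAut.mul_apply, hρ', ih]
      ext
      · rfl
      · push_cast; ring
  have hkey : ∀ r, ρ ((α * τ' * α⁻¹ * (τ' ^ N)⁻¹) r) = ρ r := by
    intro r
    obtain ⟨w, rfl⟩ := (τ' ^ N).surjective r
    rw [MulAut.mul_apply, MulAut.inv_apply_self, hρ'pow]
    obtain ⟨q, rfl⟩ := α.surjective w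
    rw [MulAut.mul_apply, MulAut.mul_apply, MulAut.inv_apply_self, hρα, hρ', hρα, hN8]
    ext
    · rfl
    · show 4 * ((ρ q).2 + k * (ρ q).1) = 4 * (ρ q).2 + 4 * m * k * (a * (ρ q).1)
      linear_combination (-(4 * k * (ρ q).1)) * ham
  have hπρ : ∀ u v, ρ u = ρ v → π u = π v := fun u v h => by
    obtain ⟨e1, e2⟩ := Prod.mk_inj.1 h
    ext
    · rw [e2] at e1; linear_combination e1
    · exact e2
  obtain ⟨y, hy⟩ := hd.kernel_inn (α := α * τ' * α⁻¹ * (τ' ^ N)⁻¹)
    ((hker _).1 (by rw [hπ, hπi, hπρ _ _ (hkey e), neg_add_cancel]))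
    ((hker _).1 (by rw [hπ, hπi, hπρ _ _ (hkey x), neg_add_cancel]))
  let h2 : normalizerIn S P := ⟨(y : Ω) * (h' : Ω) ^ N, S.mul_mem (hP y.2) (S.pow_mem h'.2.1 N),
    mul_mem (Subgroup.le_normalizer y.2) (pow_mem h'.2.2 N)⟩
  have hh2 : conjAut h2 = MulAut.conj y * τ' ^ N := MulEquiv.ext fun r => Subtype.ext (by
    rw [MulAut.mul_apply, MulAut.conj_apply, Subgroup.coe_mul, Subgroup.coe_mul, Subgroup.coe_inv,
      conjAut_pow, conjAut_apply]
    simp only [h2, mul_inv_rev, mul_assoc])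
  obtain ⟨ψ, hψ, hψv, r0, hψh⟩ := centric_extend hS hF hcP hα h' h2 (by
    rw [hh2, hy, inv_mul_cancel_right, inv_mul_cancel_right])
  set r := r0 * y with hr
  have hψh' : ψ ⟨h', Subgroup.mem_sup_right (Subgroup.mem_zpowers _)⟩ = (r : Ω) * (h' : Ω) ^ N := by
    rw [hψh, hr, Subgroup.coe_mul, mul_assoc]
  have hαx4 : (x' ^ 4)⁻¹ * α x' ∈ Subgroup.zpowers f := (hker _).1 (by
    have h1 := hρα x'
    rw [hρx'] at h1
    have h4' : ρ (x' ^ 4) = (0, 4) := by simp [ρ, hπp, hπx']; ring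
    rw [hπ, hπi, hπρ (α x') (x' ^ 4) (by rw [h1, h4']; simp), neg_add_cancel])
  have hrx : r * x' = x' * r := by
    obtain ⟨i, hi⟩ := hαx4
    have h1 : Commute ((r : Ω) * (h' : Ω) ^ N) ((α x' : P) : Ω) := by
      rw [← hψh', ← hψv x']
      exact (show Commute (⟨h', Subgroup.mem_sup_right (Subgroup.mem_zpowers _)⟩ :
        (P ⊔ Subgroup.zpowers (h' : Ω) : Subgroup Ω)) (Subgroup.inclusion le_sup_left x') from
        Subtype.ext hn₀x.eq).map ψ
    have hfi : Commute ((r : Ω) * (h' : Ω) ^ N) ((f ^ i : P) : Ω) := by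
      rw [Subgroup.coe_zpow]
      refine Commute.mul_left (Commute.zpow_right ?_ i) ((hn₀f.zpow_right i).pow_left N)
      exact congrArg Subtype.val (hd.central r)
    have h2 : Commute ((r : Ω) * (h' : Ω) ^ N) ((x' : Ω) ^ 4) := by
      have e1 : (x' : Ω) ^ 4 = ((α x' : P) : Ω) * ((f ^ i : P) : Ω)⁻¹ := by
        have hi' : α x' = x' ^ 4 * f ^ i := by
          rw [show f ^ i = (x' ^ 4)⁻¹ * α x' from hi, mul_inv_cancel_left]
        rw [hi']
        simp
      rw [e1]; exact h1.mul_right hfi.inv_right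
    have hcop : (orderOf (x' : Ω)).Coprime 4 := by
      refine Nat.Coprime.coprime_dvd_left (orderOf_dvd_of_pow_eq_one
        (congrArg Subtype.val hx'p)) ?_
      rw [hp.coprime_iff_not_dvd]
      intro h0
      rcases hp.dvd_mul.1 (show p ∣ 2 * 2 from h0) with h0 | h0 <;>
        have := Nat.le_of_dvd (by norm_num) h0 <;> omega
    obtain ⟨q, hq⟩ := exists_pow_eq_self_of_coprime hcop.symm
    have h3 := h2.pow_right q
    rw [hq] at h3
    have h4 := h3.mul_left (hn₀x.pow_left N).inv_left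
    rw [mul_inv_cancel_right] at h4
    exact Subtype.ext h4.eq
  obtain ⟨r1, r2, hrd⟩ := hline r (hcx r hrx)
  have hrh : Commute (h' : Ω) (r : Ω) := by
    rw [hrd, Subgroup.coe_mul, Subgroup.coe_pow, Subgroup.coe_pow]
    exact (hn₀x.pow_right r1).mul_right (hn₀f.pow_right r2)
  have hrp : (r : Ω) ^ p = 1 := by
    rw [hrd, ← Subgroup.coe_pow, (Commute.pow_pow (hd.central x') r1 r2).mul_pow, ← pow_mul,
      ← pow_mul, mul_comm r1, mul_comm r2, pow_mul, pow_mul, hx'p, hd.c_pow, one_pow, one_pow,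
      one_mul, Subgroup.coe_one]
  have hfin : (f : Ω) ^ (m * jf) = (f : Ω) ^ (jf * N) := by
    have e1 : ψ (Subgroup.inclusion le_sup_left (f ^ jf)) = (f : Ω) ^ (m * jf) := by
      rw [hψv, map_pow, hαf, ← pow_mul, Subgroup.coe_pow]
    rw [← e1, show (Subgroup.inclusion (le_sup_left : P ≤ P ⊔ Subgroup.zpowers (h' : Ω)) (f ^ jf)) =
      (⟨h', Subgroup.mem_sup_right (Subgroup.mem_zpowers _)⟩ :
        (P ⊔ Subgroup.zpowers (h' : Ω) : Subgroup Ω)) ^ p from Subtype.ext (by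
          rw [Subgroup.coe_inclusion, Subgroup.coe_pow, Subgroup.coe_pow]; exact hG0f.symm),
      map_pow, hψh', (hrh.symm.pow_right N).mul_pow, hrp, one_mul, ← pow_mul, mul_comm N, pow_mul,
      hG0f, ← pow_mul]
  rw [pow_eq_pow_iff_modEq, Subgroup.orderOf_coe, hd.f_order, ← ZMod.natCast_eq_natCast_iff,
    Nat.cast_mul, Nat.cast_mul, hN8, hm] at hfin
  have h6 : (6 : ZMod p) * (jf : ZMod p) = 0 := by linear_combination hfin
  rcases mul_eq_zero.1 h6 with h6 | h6
  · have h' := (ZMod.natCast_eq_zero_iff 6 p).1 (by exact_mod_cast h6)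
    rcases hp.dvd_mul.1 (show p ∣ 2 * 3 from h') with h0 | h0 <;>
      have := Nat.le_of_dvd (by norm_num) h0 <;> omega
  · exact hpjf ((ZMod.natCast_eq_zero_iff jf p).1 h6)

end CfsgLib.Fusion
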