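import Cfsg.Agent.Lib.Fusion.SmallSimple
import Cfsg.Agent.Lib.Fusion.MaximalCyclic
import Cfsg.Agent.Lib.TwoGroups.SemiDihedralFusion
import Cfsg.Agent.Lib.TwoGroups.WreathedConclusions
import Cfsg.Agent.S1202

/-!
# Simplicity of 2-fusion systems on semidihedral and wreathed 2-groups

If a finite group with a semidihedral or wreathed Sylow 2-subgroup has no subgroup of index two,
its 2-fusion system is simple.
-/

set_option autoImplicit false

namespace CfsgLib.Fusion

open Cfsg CfsgLib.TwoGroups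

/-- The automorphisms of a semidihedral group form a 2-group. -/
theorem semiDihedral_aut {m : ℕ} (β : MulAut (SemiDihedral m)) : ∃ k, β ^ 2 ^ k = 1 := by
  refine exists_pow_eq_one_of_maximal_cyclic SemiDihedral.isPGroup
    (r := SemiDihedral.rot 1) SemiDihedral.orderOf_rot_one (by omega) ?_ ?_ β
  · have h := (Subgroup.zpowers (SemiDihedral.rot (1 : ZMod (2 ^ (m + 3))))).index_mul_card
    rw [Nat.card_zpowers, SemiDihedral.orderOf_rot_one, SemiDihedral.natCard,
      show m + 4 = (m + 3) + 1 from rfl, pow_succ' 2 (m + 3)] at h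
    exact Nat.eq_of_mul_eq_mul_right (by positivity) h
  · intro y hy
    induction y using SemiDihedral.cases' with
    | hr b =>
      exfalso
      refine hy ?_
      have := Subgroup.pow_mem _ (Subgroup.mem_zpowers (SemiDihedral.rot (1 : ZMod (2 ^ (m + 3))))) b.val
      rwa [SemiDihedral.rot_pow, mul_one, ZMod.natCast_zmod_val] at this
    | hs a =>
      intro ho
      have h4 : SemiDihedral.ref a ^ 4 = 1 := by
        rw [show 4 = 2 + 2 from rfl, pow_add, pow_two, SemiDihedral.ref_sq,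
          SemiDihedral.rot_mul_rot, ← add_mul, SemiDihedral.h_add_h, zero_mul, SemiDihedral.one_def]
      have hd := Nat.le_of_dvd (by norm_num) (orderOf_dvd_of_pow_eq_one h4)
      rw [ho] at hd
      have := Nat.pow_le_pow_right (show 0 < 2 by norm_num) (show 3 ≤ m + 3 by omega)
      omega

/-- The automorphisms of a wreathed group form a 2-group. -/
theorem wreathed_aut {S : Type*} [Group S] [Finite S] (hS : Cfsg.IsWreathed S) (β : MulAut S) :
    ∃ k, β ^ 2 ^ k = 1 := by
  have hp : IsPGroup 2 (MulAut (⊤ : Subgroup S)) := by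
    by_contra hA
    obtain ⟨n, -, hcard, -⟩ := id hS
    have h := (Cfsg.Agent.S1202.result hS n hcard ⊤ le_top hA).1
    rw [Subgroup.relIndex_top_left] at h
    exact absurd h (by norm_num)
  exact transfer_aut Subgroup.topEquiv.symm (fun γ => hp γ) β

variable {G : Type*} [Group G] [Finite G]

/-- From a 2-group of automorphisms: the normaliser of `S` acts on `S` as a 2-group. -/
theorem normalizer_two_action {S : Subgroup G} (h : ∀ β : MulAut S, ∃ k, β ^ 2 ^ k = 1)
    (n : G) (hn : n ∈ Subgroup.normalizer (S : Set G)) :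
    ∃ a : ℕ, ∀ x ∈ S, n ^ 2 ^ a * x = x * n ^ 2 ^ a := by
  obtain ⟨a, ha⟩ := h (S.normalizerMonoidHom ⟨n, hn⟩)
  refine ⟨a, fun x hx => ?_⟩
  rw [← map_pow] at ha
  have h1 : n ^ 2 ^ a * x * (n ^ 2 ^ a)⁻¹ = x :=
    congrArg Subtype.val (DFunLike.congr_fun ha (⟨x, hx⟩ : S))
  exact mul_inv_eq_iff_eq_mul.1 h1

omit [Finite G] in
theorem mem_of_conjClosed {S T : Subgroup G}
    (hT : ∀ x ∈ T, ∀ c : G, c * x * c⁻¹ ∈ S → c * x * c⁻¹ ∈ T) {x y : G} (hxy : IsConj x y)
    (hx : x ∈ T) (hy : y ∈ S) : y ∈ T := by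
  obtain ⟨c, rfl⟩ := _root_.isConj_iff.1 hxy
  exact hT x hx c hy

theorem exists_involution_mem {S T : Subgroup G} (hS : IsPGroup 2 S) (hTS : T ≤ S) (hT : T ≠ ⊥) :
    ∃ z ∈ T, orderOf z = 2 := by
  have : Fact (Nat.Prime 2) := ⟨Nat.prime_two⟩
  have h2 : IsPGroup 2 T := hS.to_le hTS
  have : Nontrivial T := (Subgroup.nontrivial_iff_ne_bot T).2 hT
  obtain ⟨n, hn, hc⟩ := h2.nontrivial_iff_card.1 inferInstance
  obtain ⟨z, hz⟩ := exists_prime_orderOf_dvd_card' (G := T) 2 (hc ▸ dvd_pow_self 2 (by omega))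
  exact ⟨z, z.2, by rw [Subgroup.orderOf_coe, hz]⟩

omit [Finite G] in
theorem ne_bot_of_model {A : Type*} [Group A] [Nontrivial A] {f : A →* G}
    (hf : Function.Injective f) {S : Subgroup G} (hS : f.range = S) : S ≠ ⊥ := by
  intro h
  obtain ⟨a, ha⟩ := exists_ne (1 : A)
  have : f a ∈ (⊥ : Subgroup G) := by rw [← h, ← hS]; exact ⟨a, rfl⟩
  exact ha (hf (by rw [Subgroup.mem_bot.1 this, map_one]))

section SemiDihedral

open CfsgLib.TwoGroups.SemiDihedral

theorem semiDihedral_closed_eq {m : ℕ} {f : SemiDihedral m →* G} {S : Sylow 2 G}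
    (hf : Function.Injective f) (hS : f.range = (S : Subgroup G))
    (hG : ∀ H : Subgroup G, H.index ≠ 2) (T : Subgroup G) (hTS : T ≤ (S : Subgroup G)) (hT : T ≠ ⊥)
    (hTc : ∀ x ∈ T, ∀ c : G, c * x * c⁻¹ ∈ (S : Subgroup G) → c * x * c⁻¹ ∈ T) :
    T = (S : Subgroup G) := by
  have hmem : ∀ v, f v ∈ (S : Subgroup G) := fun v => hS.le ⟨v, rfl⟩
  have hI := invFused_of_no_index_two hf hS hG
  have hF := fourFused_of_no_index_two hf hS hG
  obtain ⟨z, hzT, hz⟩ := exists_involution_mem S.isPGroup' hTS hT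
  have h0 : f (ref 0) ∈ T := by
    rcases involution_cases hf hS hz with h | h
    · exact mem_of_conjClosed hTc (h.trans hI.symm) hzT (hmem _)
    · exact mem_of_conjClosed hTc h hzT (hmem _)
  have heven : ∀ c, f (ref (2 * c)) ∈ T := fun c =>
    mem_of_conjClosed hTc (isConj_ref_even f c).symm h0 (hmem _)
  have hrot2 : ∀ c, f (rot (2 * c)) ∈ T := fun c => by
    have h1 := T.mul_mem (heven c) h0
    rwa [← map_mul, ref_mul_ref, mul_zero, sub_zero, add_zero] at h1
  obtain ⟨c, hc⟩ := exists_two_mul_quarter (n := m + 3) (by omega)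
  have hq : f (rot (q m)) ∈ T := by rw [show q m = 2 * c from hc]; exact hrot2 c
  have h1 : f (ref 1) ∈ T := mem_of_conjClosed hTc hF.symm hq (hmem _)
  have hr : f (rot 1) ∈ T := by
    have h2 := T.mul_mem h1 h0
    rwa [← map_mul, ref_mul_ref, mul_zero, sub_zero, add_zero] at h2
  have hrot : ∀ b, f (rot b) ∈ T := fun b => by
    have h2 := T.pow_mem hr b.val
    rwa [← map_pow, rot_pow, mul_one, ZMod.natCast_zmod_val] at h2
  refine le_antisymm hTS ?_
  rw [← hS]
  rintro _ ⟨v, rfl⟩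
  induction v using cases' with
  | hr b => exact hrot b
  | hs a =>
    have h2 := T.mul_mem (hrot a) h0
    rwa [← map_mul, rot_mul_ref, add_zero] at h2

theorem isSimple_of_quasiDihedral (S : Sylow 2 G) (hS : Cfsg.IsQuasiDihedral (S : Subgroup G))
    (hG : ∀ H : Subgroup G, H.index ≠ 2) :
    (groupFusionSystem (S : Subgroup G)).IsSimple 2 := by
  have : Fact (Nat.Prime 2) := ⟨Nat.prime_two⟩
  obtain ⟨m, f, hf, hr⟩ := exists_model hS
  have : Nontrivial (SemiDihedral m) :=
    ⟨⟨ref 0, 1, fun h => Bool.noConfusion (congrArg SemiDihedral.e h)⟩⟩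
  let e : SemiDihedral m ≃* (S : Subgroup G) :=
    (MonoidHom.ofInjective hf).trans (MulEquiv.subgroupCongr hr)
  exact groupFusion_isSimple_of_data S (ne_bot_of_model hf hr)
    (semiDihedral_closed_eq hf hr hG)
    (normalizer_two_action fun β => transfer_aut e.symm semiDihedral_aut β)

end SemiDihedral

section Wreathed

open CfsgLib.TwoGroups.WreathTwo

theorem natCast_pow_succ (m : ℕ) : ((2 ^ (m + 1) : ℕ) : ZMod (2 ^ (m + 2))) = h m := rfl

theorem wreathed_closed_eq {m : ℕ} {f : WreathTwo m →* G} {S : Sylow 2 G}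
    (hf : Function.Injective f) (hS : f.range = (S : Subgroup G))
    (hG : ∀ H : Subgroup G, H.index ≠ 2) (T : Subgroup G) (hTS : T ≤ (S : Subgroup G)) (hT : T ≠ ⊥)
    (hTc : ∀ x ∈ T, ∀ c : G, c * x * c⁻¹ ∈ (S : Subgroup G) → c * x * c⁻¹ ∈ T) :
    T = (S : Subgroup G) := by
  have hmem : ∀ v, f v ∈ (S : Subgroup G) := fun v => hS.le ⟨v, rfl⟩
  have h1 := baseFused_of_no_index_two hf hS hG
  have h2 := outerFused_of_no_index_two hf hS hG
  obtain ⟨z, hzT, hz⟩ := exists_involution_mem S.isPGroup' hTS hT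
  obtain ⟨v, hv⟩ := hS.ge (hTS hzT)
  have hw : ∀ a, IsConj (f (w a (-a))) (f (w 0 0)) := fun a =>
    (isConj_w_of_sum f (by simp)).trans (IsConj.refl _)
  have ht1 : f (WreathTwo.u (h m) 0) ∈ T := by
    have ho : orderOf v = 2 := by rw [← orderOf_injective f hf, hv, hz]
    refine mem_of_conjClosed hTc (x := z) ?_ hzT (hmem _)
    rw [← hv]
    rcases (orderOf_eq_two_iff v).1 ho with rfl | rfl | rfl | ⟨a, rfl⟩
    · exact h1.symm
    · exact IsConj.refl _
    · exact isConj_t2 f
    · exact (hw a).trans h2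
  have hout : ∀ a, f (w a (-a)) ∈ T := fun a =>
    mem_of_conjClosed hTc ((hw a).trans h2).symm ht1 (hmem _)
  have hw0 : f (w 0 0) ∈ T := by simpa using hout 0
  have hanti : ∀ a, f (WreathTwo.u a (-a)) ∈ T := fun a => by
    have h3 := T.mul_mem (hout a) hw0
    rwa [← map_mul, w_mul_w, add_zero, add_zero] at h3
  obtain ⟨x, hx, hxt⟩ := exists_normalizer_of_baseFused hf hS h1
  obtain ⟨b, hb, hbx⟩ := (Subgroup.mem_normalizer_iff.1 hx _).1
    (Subgroup.mem_map_of_mem f (u_mem_base (1 : ZMod (2 ^ (m + 2))) (-1)))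
  obtain ⟨c, d, rfl⟩ := exists_eq_u_of_mem_base hb
  have hcd : f (WreathTwo.u c d) ∈ T :=
    mem_of_conjClosed hTc (_root_.isConj_iff.2 ⟨x, hbx.symm⟩) (hanti 1) (hmem _)
  have hk : x * f (WreathTwo.u (h m) (h m)) * x⁻¹ = f (WreathTwo.u (h m * c) (h m * d)) := by
    have e1 : WreathTwo.u (1 : ZMod (2 ^ (m + 2))) (-1) ^ 2 ^ (m + 1) = WreathTwo.u (h m) (h m) := by
      rw [u_pow, natCast_pow_succ, mul_one, mul_neg_one, neg_h]
    have e2 : WreathTwo.u c d ^ 2 ^ (m + 1) = WreathTwo.u (h m * c) (h m * d) := by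
      rw [u_pow, natCast_pow_succ]
    rw [← e1, ← e2, map_pow, map_pow, hbx, conj_pow]
  have hunit : IsUnit (c + d) := by
    obtain ⟨e, he | he⟩ := exists_two_mul (c + d)
    · exfalso
      have h0 : h m * (c + d) = 0 := by rw [he]; exact half_mul_two (by omega) e
      have hne0 : ¬ (h m * c = 0 ∧ h m * d = 0) := by
        rintro ⟨e1, e2⟩
        rw [e1, e2, show WreathTwo.u (0 : ZMod (2 ^ (m + 2))) 0 = 1 from rfl, map_one,
          conj_eq_one_iff, ← map_one f] at hk
        exact h_ne (u_inj.1 (hf hk)).1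
      have hne1 : ¬ (h m * c = h m ∧ h m * d = h m) := by
        rintro ⟨e1, e2⟩
        have e3 : x * f (WreathTwo.u (h m) (h m)) * x⁻¹ = x * f (WreathTwo.u (h m) 0) * x⁻¹ := by
          rw [hk, e1, e2, hxt]
        exact h_ne (u_inj.1 (hf (mul_left_cancel (mul_right_cancel e3)))).2
      have hdc : h m * d = h m * c := by
        have h5 : h m * d = -(h m * c) := by linear_combination h0
        rw [h5]
        rcases half_mul_eq (n := m + 2) (by omega) c with e1 | e1 <;> rw [e1]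
        · exact neg_zero
        · exact neg_h
      rcases half_mul_eq (n := m + 2) (by omega) c with e1 | e1
      · exact hne0 ⟨e1, hdc.trans e1⟩
      · exact hne1 ⟨e1, hdc.trans e1⟩
    · rw [he]; exact isUnit_two_mul_add_one e
  have hfirst : f (WreathTwo.u (c + d) 0) ∈ T := by
    have h3 := T.mul_mem hcd (hanti d)
    rwa [← map_mul, u_mul_u, add_neg_cancel] at h3
  have hleft : ∀ a, f (WreathTwo.u a 0) ∈ T := fun a => by
    obtain ⟨t, ht⟩ := hunit.dvd (a := a)
    have h3 := T.pow_mem hfirst t.val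
    rwa [← map_pow, u_pow, mul_zero, ZMod.natCast_zmod_val, mul_comm, ← ht] at h3
  have hbase : ∀ a b, f (WreathTwo.u a b) ∈ T := fun a b => by
    have h3 := T.mul_mem (hleft (a + b)) (hanti (-b))
    rwa [← map_mul, u_mul_u, neg_neg, zero_add, add_neg_cancel_right] at h3
  refine le_antisymm hTS ?_
  rw [← hS]
  rintro _ ⟨g, rfl⟩
  induction g using cases' with
  | hu a b => exact hbase a b
  | hw a b =>
    have h3 := T.mul_mem (hbase a b) hw0
    rwa [← map_mul, u_mul_w, add_zero, add_zero] at h3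

theorem isSimple_of_wreathed (S : Sylow 2 G) (hS : Cfsg.IsWreathed (S : Subgroup G))
    (hG : ∀ H : Subgroup G, H.index ≠ 2) :
    (groupFusionSystem (S : Subgroup G)).IsSimple 2 := by
  have : Fact (Nat.Prime 2) := ⟨Nat.prime_two⟩
  obtain ⟨m, f, -, hf, hr⟩ := WreathTwo.exists_model hS
  have : Nontrivial (WreathTwo m) :=
    ⟨⟨w 0 0, 1, fun h => Bool.noConfusion (congrArg WreathTwo.e h)⟩⟩
  exact groupFusion_isSimple_of_data S (ne_bot_of_model hf hr)
    (wreathed_closed_eq hf hr hG) (normalizer_two_action (wreathed_aut hS))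

end Wreathed

end CfsgLib.Fusion
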