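import Cfsg.Agent.Lib.Fusion.SectionSplit
import Cfsg.Agent.Lib.Fusion.FourFreeModel

/-!
Freeness from sections, seen in the automorphism groups of the subgroups.
-/

set_option autoImplicit false

namespace CfsgLib.Fusion

open Cfsg Cfsg.FusionSystem

universe u

variable {H : Type*} [Group H]
variable {Ω : Type u} [Group Ω] {S : Subgroup Ω} {F : FusionSystem S} {p : ℕ}

/-- No subgroup carries `H` in its automorphisms. -/
def FreeOf (H : Type*) [Group H] (F : FusionSystem S) : Prop :=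
  ∀ P : Subgroup Ω, P ≤ S → ¬ HasSection H (F.autGroup P)

theorem FreeOf.mono {T : Subgroup Ω} {N : FusionSystem T} (h : FreeOf H F)
    (hN : N.IsSubsystemOf F) (hTS : T ≤ S) : FreeOf H N := by
  rintro P hP ⟨G₀, A, f, h1, h2⟩
  refine h P (hP.trans hTS) ⟨G₀, A, f, fun t ht => ?_, h2⟩
  exact (mem_autGroup_iff (hP.trans hTS)).2 (hN P ((mem_autGroup_iff hP).1 (h1 t ht)))

theorem hasSection_congr {P Q : Subgroup Ω} (e : P ≃* Q) {AF : Subgroup (MulAut P)}
    (h : HasSection H AF) : HasSection H (AF.map (MulAut.congr e).toMonoidHom) := by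
  obtain ⟨G₀, A, f, hAF, hsur, hker, hab, heq⟩ := h
  let e' : A.map e.toMonoidHom ≃* A :=
    (A.equivMapOfInjective e.toMonoidHom e.injective).symm
  have he' : ∀ y, e ((e' y : A) : P) = (y : Q) := fun y => by
    conv_rhs => rw [← (A.equivMapOfInjective e.toMonoidHom e.injective).apply_symm_apply y]
    rfl
  refine ⟨G₀.map ((MulAut.congr e).toMonoidHom.prodMap (MonoidHom.id H)), A.map e.toMonoidHom,
    f.comp e'.toMonoidHom, ?_, fun s => ?_, ?_, fun x y => hab _ _, ?_⟩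
  · rintro _ ⟨t, ht, rfl⟩
    exact ⟨_, hAF t ht, rfl⟩
  · obtain ⟨a, ha⟩ := hsur s
    exact ⟨_, (a, s), ha, rfl⟩
  · rintro s ⟨⟨a, s'⟩, ht, he⟩
    obtain ⟨ha1, rfl⟩ := Prod.ext_iff.1 he
    obtain rfl : a = 1 := (MulAut.congr e).injective (ha1.trans (map_one (MulAut.congr e)).symm)
    obtain ⟨x, hx⟩ := hker _ ht
    exact ⟨e'.symm x, (congrArg f (e'.apply_symm_apply x)).trans hx⟩
  · rintro _ ⟨t, ht, rfl⟩ y
    obtain ⟨hx, hxv⟩ := heq t ht (e' y)
    have h1 : MulAut.congr e t.1 (y : Q) = e (t.1 ((e' y : A) : P)) := by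
      rw [← he' y]
      simp [MulAut.congr]
    refine ⟨⟨_, hx, h1.symm⟩, ?_⟩
    refine Eq.trans ?_ hxv
    refine congrArg f (Subtype.ext (e.injective ?_))
    exact (he' _).trans h1

theorem not_hasSection_of_iso {P Q : Subgroup Ω} {e : P ≃* Q} (he : IsoIn F e)
    (h : ¬ HasSection H (F.autGroup Q)) : ¬ HasSection H (F.autGroup P) :=
  fun hs => h (he.congr_autGroup ▸ hasSection_congr e hs)

/-- Factor systems of free systems are free. -/
theorem FreeOf.factor [Fact p.Prime] [Finite S] (hfree : FreeOf H F) {Ω' : Type*} [Group Ω']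
    {θ : S →* Ω'} {T : Subgroup Ω} {S' : Subgroup Ω'} {E : FusionSystem S'}
    (hE : F.IsFactorSystem T θ E) : FreeOf H E := by
  obtain ⟨hTS, hθ, hS', hiff⟩ := hE
  rintro P' hP' ⟨G₀, A, f, hAF, hsur, hker, hab, heq⟩
  set R := preimageAlong θ P' with hR
  have hRS : R ≤ S := preimageAlong_le θ P'
  have := finite_le hRS
  set g : R →* P' := (θ.comp (Subgroup.inclusion hRS)).codRestrict P'
    fun x => (mem_preimageAlong (θ := θ) (x := ⟨x, hRS x.2⟩)).1 x.2 with hg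
  have hgs : Function.Surjective g := fun y => by
    obtain ⟨x, hx⟩ := exists_preimage (θ := θ) (hP'.trans hS'.ge) y
    exact ⟨x, Subtype.ext hx⟩
  have hgA : Function.Surjective (g.subgroupComap A) := fun y => by
    obtain ⟨z, hz⟩ := hgs y
    exact ⟨⟨z, show g z ∈ A from hz ▸ y.2⟩, Subtype.ext hz⟩
  refine hfree R hRS ⟨
    { carrier := {u | u.1 ∈ F.autGroup R ∧ ∃ t ∈ G₀, t.2 = u.2 ∧ ∀ z, g (u.1 z) = t.1 (g z)}
      one_mem' := ⟨one_mem _, 1, one_mem _, rfl, fun z => rfl⟩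
      mul_mem' := fun {a b} ⟨ha, t, ht, hta, htv⟩ ⟨hb, t', ht', htb, htv'⟩ =>
        ⟨mul_mem ha hb, t * t', mul_mem ht ht', congrArg₂ (· * ·) hta htb, fun z => by
          show g (a.1 (b.1 z)) = t.1 (t'.1 (g z))
          rw [htv, htv']⟩
      inv_mem' := fun {a} ⟨ha, t, ht, hta, htv⟩ =>
        ⟨inv_mem ha, t⁻¹, inv_mem ht, congrArg (·⁻¹) hta, fun z => t.1.injective (by
          show t.1 (g (a.1⁻¹ z)) = t.1 (t.1⁻¹ (g z))
          rw [← htv, MulAut.apply_inv_self, MulAut.apply_inv_self])⟩ },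
    A.comap g, f.comp (g.subgroupComap A), fun u hu => hu.1, fun s => ?_, ?_, fun x y => hab _ _, ?_⟩
  · obtain ⟨b', hb'⟩ := hsur s
    obtain ⟨-, φ, hφ, hP, hφS, hm, hv⟩ := (hiff P' _).1 ((mem_autGroup_iff hP').1 (hAF _ hb'))
    have hr : φ.range = R := Subgroup.eq_of_le_of_card_ge
      (by
        rintro _ ⟨x, rfl⟩
        exact (mem_preimageAlong (x := ⟨φ x, hφS x⟩)).2
          ((hv x).subst (motive := (· ∈ P')) (b' _).2))
      (le_of_eq (Nat.card_congr (MonoidHom.ofInjective (F.injective_of_mem hφ)).toEquiv))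
    obtain ⟨e, he, hev⟩ := exists_iso hφ hr
    refine ⟨e, (mem_autGroup_iff_isoIn hRS).2 he, (b', s), hb', rfl, fun z => Subtype.ext ?_⟩
    refine Eq.trans ?_ (hv z).symm
    exact congrArg θ (Subtype.ext (hev z))
  · rintro s ⟨-, ⟨b', s'⟩, ht, hts, htv⟩
    obtain rfl : s' = s := hts
    obtain rfl : b' = 1 := MulEquiv.ext fun y => by
      obtain ⟨z, rfl⟩ := hgs y
      exact (htv z).symm
    obtain ⟨y, hy⟩ := hker _ ht
    obtain ⟨z, rfl⟩ := hgA y
    exact ⟨z, hy⟩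
  · rintro u ⟨-, t, ht, htu, htv⟩ x
    obtain ⟨hx, hxv⟩ := heq t ht (g.subgroupComap A x)
    have h1 : g (u.1 (x : R)) = t.1 (g (x : R)) := htv _
    refine ⟨show g _ ∈ A from h1.symm ▸ hx, ?_⟩
    rw [← htu]
    exact (congrArg f (Subtype.ext h1)).trans hxv

/-- Models of free systems do not involve `H`. -/
theorem FreeOf.not_involves_model [Fact p.Prime] [Finite S] (hfree : FreeOf H F) {L : Type*}
    [Group L] {ι : S →* L} (hG : F.IsModel p L ι) : ¬ Involves H L := by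
  rintro ⟨K, R, hn, ⟨e⟩⟩
  set π : K →* H := e.toMonoidHom.comp (QuotientGroup.mk' (R.subgroupOf K)) with hπdef
  have hπ : Function.Surjective π := e.surjective.comp (QuotientGroup.mk'_surjective _)
  have hcore := model_pCore_le hG
  have hUn := model_isNormal_coreBack hG
  set U := coreBack p ι with hU
  have hUS : U ≤ S := hUn.1
  have := finite_le hUS
  set jU : U →* L := ι.comp (Subgroup.inclusion hUS) with hjU
  have hjinj : Function.Injective jU :=
    (hG.2.1.1 : Function.Injective ι).comp (Subgroup.inclusion_injective hUS)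
  set Z := Subgroup.centralizer ((pCore p L : Subgroup L) : Set L) with hZ
  have hZn : Z.Normal := inferInstance
  have hcent : Z ≤ pCore p L := hG.2.2.2
  let A : Subgroup U := (K ⊓ Z).comap jU
  let f : A →* H := π.comp ((jU.comp A.subtype).codRestrict K fun x => x.2.1)
  refine hfree U hUS ⟨((conjPairs jU).comap (K.subtype.prodMap (MonoidHom.id _))).map
    ((MonoidHom.snd K (MulAut U)).prod (π.comp (MonoidHom.fst K (MulAut U)))), A, f, ?_,
    fun s => ?_, ?_, fun x y => ?_, ?_⟩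
  · rintro _ ⟨⟨k, a⟩, hka, rfl⟩
    obtain ⟨b, hb, -, hbv⟩ := model_exists_aut hG hUS (model_coreBack_conj hG (k : L))
    have : a = b := MulEquiv.ext fun z => hjinj ((eq_mul_inv_iff_mul_eq.2
      (hka z).symm).trans (hbv z).symm)
    exact this.symm ▸ hb
  · obtain ⟨k, rfl⟩ := hπ s
    obtain ⟨b, -, -, hbv⟩ := model_exists_aut hG hUS (model_coreBack_conj hG (k : L))
    exact ⟨b, (k, b), fun z => (eq_mul_inv_iff_mul_eq.1 (hbv z)).symm, rfl⟩
  · rintro s ⟨⟨k, a⟩, hka, he⟩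
    obtain ⟨ha, hs⟩ := Prod.ext_iff.1 he
    obtain rfl : a = 1 := ha
    obtain rfl : π k = s := hs
    have hkZ : (k : L) ∈ Z := Subgroup.mem_centralizer_iff.2 fun v hv => by
      obtain ⟨w, rfl⟩ := hcore hv
      exact (hka ⟨w, mem_coreBack.2 hv⟩).symm
    obtain ⟨w, hw⟩ := hcore (hcent hkZ)
    have hwU : (w : Ω) ∈ U := mem_coreBack.2 (hw.symm ▸ hcent hkZ)
    have hwA : (⟨w, hwU⟩ : U) ∈ A := show jU _ ∈ K ⊓ Z from
      (hw : jU ⟨w, hwU⟩ = (k : L)).symm ▸ ⟨k.2, hkZ⟩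
    exact ⟨⟨⟨w, hwU⟩, hwA⟩, congrArg π (Subtype.ext hw)⟩
  · show π _ * π _ = π _ * π _
    refine ((map_mul π _ _).symm.trans (congrArg π (Subtype.ext ?_))).trans (map_mul π _ _)
    exact Subgroup.mem_centralizer_iff.1 y.2.2 _ (hcent x.2.2)
  · rintro _ ⟨⟨k, a⟩, hka, rfl⟩ x
    have h1 : jU (a (x : U)) = (k : L) * jU (x : U) * (k : L)⁻¹ :=
      eq_mul_inv_iff_mul_eq.2 (hka (x : U)).symm
    refine ⟨show jU _ ∈ K ⊓ Z from ?_, ?_⟩
    · show jU (a (x : U)) ∈ K ⊓ Z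
      rw [h1]
      exact ⟨K.mul_mem (K.mul_mem k.2 x.2.1) (K.inv_mem k.2), hZn.conj_mem _ x.2.2 _⟩
    · show π _ = π k * π _ * (π k)⁻¹
      rw [← map_inv, ← map_mul, ← map_mul]
      exact congrArg π (Subtype.ext h1)

theorem FreeOf.isSectionFree [Fact p.Prime] [Finite S] (hfree : FreeOf H F) :
    F.IsSectionFree p H := by
  intro Q _ _ N hN L _ ι hG
  have := finite_le (normalizerIn_le (S := S) Q)
  exact (hfree.mono (fun P φ hφ => normalizerSystem_le hN hφ)
    (normalizerIn_le Q)).not_involves_model hG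

/-- Freeness from the models at the radical centric subgroups. -/
theorem FreeOf.of_radical [Finite H] [Fact p.Prime] [Finite S] (hS : IsPGroup p S)
    (hF : F.IsSaturated p) (hH : SplitTop p H)
    (h : ∀ Q : Subgroup Ω, F.IsFullyNormalized Q → F.IsCentric Q → F.IsRadical p Q →
      ∀ N : FusionSystem (normalizerIn S Q), F.IsNormalizerSystem Q N →
        ∀ (L : Type u) [Group L] (ι : ↥(normalizerIn S Q) →* L), N.IsModel p L ι →
          ¬ Involves H L) : FreeOf H F := by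
  suffices main : ∀ (n : ℕ) (Q P : Subgroup Ω), Nat.card S - Nat.card Q ≤ n →
      F.IsFullyNormalized Q → F.IsCentric Q → ∀ hPQ : P ≤ Q,
      (∀ a ∈ F.autGroup P, ∃ b ∈ F.autGroup Q,
        ∀ z : P, ((b (Subgroup.inclusion hPQ z) : Q) : Ω) = ((a z : P) : Ω)) →
      ¬ HasSection H (F.autGroup P) by
    intro P hP
    obtain ⟨P', hPP', -, hR', hn'⟩ := IsSaturated.exists_rep hS hF hP
    obtain ⟨e₁, he₁⟩ := isConj_iff.1 hPP'
    refine not_hasSection_of_iso he₁ ?_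
    set P'' := P' ⊔ centralizerIn S P' with hP''
    have hP''S : P'' ≤ S := sup_le hn'.1 (centralizerIn_le P')
    have hfc := IsSaturated.fullyCentralized hS hF hn'
    have hc'' : F.IsCentric P'' := by
      refine ⟨hP''S, ?_⟩
      rintro R ⟨φ, hφ, rfl⟩
      have hC : img φ (centralizerIn S P') = centralizerIn S (img φ P') := by
        have := finite_le (centralizerIn_le (S := S) (img φ P'))
        refine Subgroup.eq_of_le_of_card_ge ?_ ?_
        · rintro _ ⟨c, hc, rfl⟩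
          refine mem_centralizerIn.2 ⟨hom_apply_mem hφ c, ?_⟩
          rintro _ ⟨w, hw, rfl⟩
          rw [← map_mul, ← map_mul]
          exact congrArg φ (Subtype.ext ((mem_centralizerIn.1 hc).2 _ hw))
        · rw [card_img (F.injective_of_mem hφ) le_sup_right]
          exact hfc.2 _ (isConj_img hφ le_sup_left)
      exact ((centralizerIn_antitone (img_le_range φ P')).trans hC.ge).trans (img_le_range φ _)
    obtain ⟨Q, hQ, hQn⟩ := exists_fullyNormalized (F := F) hP''S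
    obtain ⟨e₃, he₃⟩ := isConj_iff.1 hQ
    have hP'P'' : P' ≤ P'' := le_sup_left
    obtain ⟨e₂, he₂, he₂v⟩ := exists_iso
      (restrict_mem he₃.mem hP'P'') (rfl : ((isoHom e₃).comp (Subgroup.inclusion hP'P'')).range = _)
    refine not_hasSection_of_iso he₂ ?_
    refine main _ Q _ le_rfl hQn (isCentric_of_isConj hc'' hQ)
      (by rintro _ ⟨z, rfl⟩; exact (e₃ _).2) fun a ha => ?_
    set a₀ : P' ≃* P' := (e₂.trans a).trans e₂.symm with ha₀
    have ha₀F : IsoIn F a₀ :=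
      (he₂.trans ((mem_autGroup_iff_isoIn he₂.le_right).1 ha)).trans he₂.symm
    obtain ⟨ψ, hψ, hψv⟩ := exists_extension hR' ha₀F hP'P'' (sup_le_extender ha₀F)
    have hψP : ∀ z, ψ z ∈ P'' := apply_mem_of_sup
      (fun z => by rw [hψv z]; exact Subgroup.mem_sup_left (a₀ z).2)
      fun c => Subgroup.mem_sup_right (extension_mem_centralizerIn hψ hP'P'' hψv _ c.2)
    have := finite_le hP''S
    have hψr : ψ.range = P'' := Subgroup.eq_of_le_of_card_ge
      (by rintro _ ⟨z, rfl⟩; exact hψP z)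
      (le_of_eq (Nat.card_congr (MonoidHom.ofInjective (F.injective_of_mem hψ)).toEquiv))
    obtain ⟨b₀, hb₀, hb₀v⟩ := exists_iso hψ hψr
    refine ⟨MulAut.congr e₃ b₀, he₃.congr_autGroup ▸ Subgroup.mem_map_of_mem _
      ((mem_autGroup_iff_isoIn hP''S).2 hb₀), fun z => ?_⟩
    obtain ⟨w, rfl⟩ := e₂.surjective z
    rw [show Subgroup.inclusion _ (e₂ w) = e₃ (Subgroup.inclusion hP'P'' w) from
        Subtype.ext (he₂v w),
      show MulAut.congr e₃ b₀ (e₃ (Subgroup.inclusion hP'P'' w)) =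
        e₃ (b₀ (Subgroup.inclusion hP'P'' w)) by simp [MulAut.congr],
      show b₀ (Subgroup.inclusion hP'P'' w) = Subgroup.inclusion hP'P'' (a₀ w) from
        Subtype.ext ((hb₀v _).trans (hψv w)),
      show a (e₂ w) = e₂ (a₀ w) from (e₂.apply_symm_apply _).symm]
    exact (he₂v _).symm
  intro n
  induction n using Nat.strong_induction_on with
  | _ n ih =>
  intro Q P hn hQn hQc hPQ hext
  have hQS := hQc.1
  have hPS := hPQ.trans hQS
  have := finite_le hQS
  have hfa := finite_mulAut_of_le (S := S) hQS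
  by_cases hrad : F.IsRadical p Q
  · set T := normalizerIn S Q with hT
    have hTS : T ≤ S := normalizerIn_le Q
    have := finite_le hTS
    have hQT : Q ≤ T := le_normalizerIn hQS
    have hNsys := normSystem_isNormalizerSystem F Q hQS
    set N := normSystem F Q hQS
    have hNc : N.IsCentric Q := ⟨hQT, fun R ⟨φ, hφ, hR⟩ => fun z hz =>
      hQc.2 R ⟨φ, normalizerSystem_le hNsys hφ, hR⟩ ⟨hTS hz.1, hz.2⟩⟩
    obtain ⟨L, _, ι, hG⟩ := exists_model_of_normal_centric (hS.to_le hTS)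
      (normalizerSystem_saturated hS hF hQn hNsys) (normalizerSystem_isNormal hQS hNsys) hNc
    have hL := h Q hQn hQc hrad N hNsys L ι hG
    obtain ⟨hfin, ⟨hinj, hiff⟩, -, -⟩ := hG
    have hPT : P ≤ T := hPQ.trans hQT
    refine fun hs => hL (involves_of_hasSection hH (hS.to_le hPS) (ι.comp (Subgroup.inclusion hPT))
      (hinj.comp (Subgroup.inclusion_injective hPT)) (fun a ha => ?_) hs)
    obtain ⟨b, hb, hbv⟩ := hext a ha
    rw [← normalizerSystem_autGroup hQS hNsys] at hb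
    obtain ⟨g, hg⟩ := (hiff Q hQT _ fun x => hQT (b x).2).1 ((mem_autGroup_iff hQT).1 hb)
    refine ⟨g, fun z => ?_⟩
    have h := hg (Subgroup.inclusion hPQ z)
    rw [eq_mul_inv_iff_mul_eq] at h
    have h2 : (⟨((b (Subgroup.inclusion hPQ z) : Q) : Ω), hQT (b _).2⟩ : T) =
        Subgroup.inclusion hPT (a z) := Subtype.ext (hbv z)
    exact h2.subst (motive := fun w => g * (ι.comp (Subgroup.inclusion hPT)) z = ι w * g) h.symm
  -- a larger subgroup to which all automorphisms extend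
  set K := (pCore p (F.autGroup Q)).map (F.autGroup Q).subtype with hK
  have hKA : K ≤ F.autGroup Q := Subgroup.map_subtype_le _
  have hKn : ∀ α ∈ F.autGroup Q, ∀ κ ∈ K, α * κ * α⁻¹ ∈ K := by
    rintro α hα _ ⟨κ, hκ, rfl⟩
    exact ⟨⟨α, hα⟩ * κ * ⟨α, hα⟩⁻¹, (inferInstance : (pCore p (F.autGroup Q)).Normal).conj_mem _ hκ _,
      rfl⟩
  have hKS : K ≤ autInducedBy S Q := IsFullyAutomized.le_autInducedBy
    (IsSaturated.fullyAutomized hS hF hQn) hKA hKn ((Core.isPGroup_pCore p _).map _)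
  set Q₁ : Subgroup Ω :=
    (K.comap Q.normalizerMonoidHom).map (Subgroup.normalizer (Q : Set Ω)).subtype ⊓ S with hQ₁
  have hmem : ∀ g, g ∈ Q₁ ↔ g ∈ S ∧ ∃ κ ∈ K, ∀ x : Q, ((κ x : Q) : Ω) = g * (x : Ω) * g⁻¹ := by
    intro g
    constructor
    · rintro ⟨⟨g', hg', rfl⟩, hgS⟩
      exact ⟨hgS, _, hg', fun x => rfl⟩
    · rintro ⟨hgS, κ, hκ, hκv⟩
      refine ⟨⟨⟨g, mem_normalizer_of_conj_eq κ hκv⟩, ?_, rfl⟩, hgS⟩
      show Q.normalizerMonoidHom _ ∈ K
      have : Q.normalizerMonoidHom ⟨g, mem_normalizer_of_conj_eq κ hκv⟩ = κ :=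
        MulEquiv.ext fun x => Subtype.ext (hκv x).symm
      exact this.symm ▸ hκ
  have hInn : Inn Q ≤ K := fun κ hκ =>
    ⟨⟨κ, inn_le_autGroup hQS hκ⟩, innIn_le_pCore hS hQS hκ, rfl⟩
  have hQQ₁ : Q ≤ Q₁ := fun x hx => (hmem x).2 ⟨hQS hx, MulAut.conj (⟨x, hx⟩ : Q),
    hInn ⟨⟨x, hx⟩, rfl⟩, fun y => rfl⟩
  have hQ₁S : Q₁ ≤ S := inf_le_right
  have hlt : Nat.card Q < Nat.card Q₁ := by
    have := finite_le hQ₁S
    refine lt_of_le_of_ne (Subgroup.card_le_of_le hQQ₁) fun e => hrad ?_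
    have heq := Subgroup.eq_of_le_of_card_ge hQQ₁ e.ge
    rw [isRadical_iff_le hS hQS]
    intro κ hκ
    obtain ⟨g, hg, hgv⟩ := mem_autInducedBy_iff.1 (hKS ⟨κ, hκ, rfl⟩)
    have hgQ : g ∈ Q := heq.ge ((hmem g).2 ⟨hg, _, ⟨κ, hκ, rfl⟩, hgv⟩)
    exact ⟨⟨g, hgQ⟩, MulEquiv.ext fun x => Subtype.ext (hgv x).symm⟩
  have hrec := IsSaturated.receptive hS hF (IsSaturated.fullyCentralized hS hF hQn)
  have hext₁ : ∀ b ∈ F.autGroup Q, ∃ c ∈ F.autGroup Q₁,
      ∀ x : Q, ((c (Subgroup.inclusion hQQ₁ x) : Q₁) : Ω) = ((b x : Q) : Ω) := by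
    intro b hb
    have hbi : IsoIn F (b : Q ≃* Q) := (mem_autGroup_iff_isoIn hQS).1 hb
    have hle : Q₁ ≤ extender S Q (isoHom (b : Q ≃* Q)) := by
      intro g hg
      obtain ⟨hgS, κ, hκ, hκv⟩ := (hmem g).1 hg
      obtain ⟨w, hw, hwv⟩ := mem_autInducedBy_iff.1 (hKS (hKn b hb κ hκ))
      refine mem_extender_iff.2 ⟨hgS, mem_normalizer_of_conj_eq κ hκv, w, hw, fun x hx => ?_⟩
      have h1 := hwv (b x)
      simp only [MulAut.mul_apply, MulAut.inv_apply_self] at h1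
      rw [show (⟨g * (x : Ω) * g⁻¹, hx⟩ : Q) = κ x from Subtype.ext (hκv x).symm]
      exact h1
    obtain ⟨ψ, hψ, hψv⟩ := exists_extension hrec hbi hQQ₁ hle
    have hψm : ∀ g, ψ g ∈ Q₁ := by
      intro g
      obtain ⟨hgS, κ, hκ, hκv⟩ := (hmem g).1 g.2
      refine (hmem _).2 ⟨hom_apply_mem hψ g, _, hKn b hb κ hκ, fun y => ?_⟩
      obtain ⟨x, rfl⟩ := b.surjective y
      simp only [MulAut.mul_apply, MulAut.inv_apply_self]
      refine (hψv (κ x)).symm.trans ?_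
      rw [show Subgroup.inclusion hQQ₁ (κ x) = g * Subgroup.inclusion hQQ₁ x * g⁻¹ from
        Subtype.ext (hκv x), map_mul, map_mul, map_inv, hψv]
    have := finite_le hQ₁S
    obtain ⟨c, hc, hcv⟩ := exists_iso hψ (Subgroup.eq_of_le_of_card_ge (K := Q₁)
      (by rintro _ ⟨z, rfl⟩; exact hψm z)
      (le_of_eq (Nat.card_congr (MonoidHom.ofInjective (F.injective_of_mem hψ)).toEquiv)))
    exact ⟨c, (mem_autGroup_iff_isoIn hQ₁S).2 hc, fun x => (hcv _).trans (hψv x)⟩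
  obtain ⟨Q₂, hQ₂, hQ₂n⟩ := exists_fullyNormalized (F := F) hQ₁S
  obtain ⟨e, he⟩ := isConj_iff.1 hQ₂
  have hPQ₁ : P ≤ Q₁ := hPQ.trans hQQ₁
  obtain ⟨e', he', he'v⟩ := exists_iso
    (restrict_mem he.mem hPQ₁) (rfl : ((isoHom e).comp (Subgroup.inclusion hPQ₁)).range = _)
  refine not_hasSection_of_iso he' (ih (Nat.card S - Nat.card Q₂) ?_ Q₂ _ le_rfl hQ₂n
    (isCentric_of_isConj (isCentric_mono hQc hQQ₁ hQ₁S) hQ₂)
    (by rintro _ ⟨z, rfl⟩; exact (e _).2) fun a ha => ?_)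
  · have := isConj_card hQ₂
    have := Subgroup.card_le_of_le hQ₁S
    omega
  have ha₀F : IsoIn F ((e'.trans a).trans e'.symm) :=
    (he'.trans ((mem_autGroup_iff_isoIn he'.le_right).1 ha)).trans he'.symm
  obtain ⟨b, hb, hbv⟩ := hext _ ((mem_autGroup_iff_isoIn hPS).2 ha₀F)
  obtain ⟨c, hc, hcv⟩ := hext₁ b hb
  refine ⟨MulAut.congr e c, he.congr_autGroup ▸ Subgroup.mem_map_of_mem _ hc, fun z => ?_⟩
  obtain ⟨w, rfl⟩ := e'.surjective z
  rw [show Subgroup.inclusion _ (e' w) = e (Subgroup.inclusion hPQ₁ w) from Subtype.ext (he'v w),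
    show MulAut.congr e c (e (Subgroup.inclusion hPQ₁ w)) =
      e (c (Subgroup.inclusion hPQ₁ w)) by simp [MulAut.congr],
    show c (Subgroup.inclusion hPQ₁ w) =
      Subgroup.inclusion hPQ₁ (((e'.trans a).trans e'.symm) w) from
      Subtype.ext ((hcv (Subgroup.inclusion hPQ w)).trans (hbv w)),
    show a (e' w) = e' (((e'.trans a).trans e'.symm) w) from (e'.apply_symm_apply _).symm]
  exact (he'v _).symm

end CfsgLib.Fusion
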