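import Cfsg.Agent.Lib.Fusion.FourFree

/-!
Sections of a group seen in the automorphism group of a subgroup.
-/

set_option autoImplicit false

namespace CfsgLib.Fusion

open Cfsg

/-- `H` shows up in the automorphisms `AF` of `P` together with a section of `P`. -/
def HasSection (H : Type*) [Group H] {P : Type*} [Group P] (AF : Subgroup (MulAut P)) : Prop :=
  ∃ (G₀ : Subgroup (MulAut P × H)) (A : Subgroup P) (f : A →* H),
    (∀ t ∈ G₀, t.1 ∈ AF) ∧ (∀ s : H, ∃ a : MulAut P, (a, s) ∈ G₀) ∧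
    (∀ s : H, (1, s) ∈ G₀ → s ∈ f.range) ∧ (∀ x y : A, f x * f y = f y * f x) ∧
    ∀ t ∈ G₀, ∀ x : A, ∃ hx : t.1 (x : P) ∈ A, f ⟨_, hx⟩ = t.2 * f x * t.2⁻¹

/-- Normal abelian subgroups of `H` split off in a way that survives in any group. -/
def SplitTop (p : ℕ) (H : Type*) [Group H] : Prop :=
  ∀ W : Subgroup H, W.Normal → (∀ x ∈ W, ∀ y ∈ W, x * y = y * x) → W ≠ ⊥ →
    Subgroup.centralizer (W : Set H) ≤ W ∧
    ∃ C : Subgroup H, C ⊓ W = ⊥ ∧ C ⊔ W = ⊤ ∧ ∃ r : ℕ, r.Prime ∧ r ≠ p ∧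
      ∃ R : Subgroup H, R ≤ C ∧ C ≤ Subgroup.normalizer (R : Set H) ∧ IsPGroup r R ∧
        ∀ w ∈ W, (∀ c ∈ R, c * w * c⁻¹ = w) → w = 1

theorem eq_one_of_two_primes {L : Type*} [Group L] {p r : ℕ} [Fact p.Prime] [Fact r.Prime]
    (hne : r ≠ p) {u : L} (hp : ∃ k, u ^ p ^ k = 1) (hr : ∃ k, u ^ r ^ k = 1) : u = 1 := by
  obtain ⟨k, hk⟩ := hp
  obtain ⟨l, hl⟩ := hr
  exact orderOf_eq_one_iff.1 (Nat.eq_one_of_dvd_coprimes
    (((Nat.coprime_primes (Fact.out : p.Prime) (Fact.out : r.Prime)).2 hne.symm).pow k l)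
    (orderOf_dvd_of_pow_eq_one hk) (orderOf_dvd_of_pow_eq_one hl))

set_option maxHeartbeats 800000 in
/-- A section of automorphisms induced by a group gives a section of that group. -/
theorem involves_of_hasSection {p : ℕ} [Fact p.Prime] {H : Type*} [Group H] (hH : SplitTop p H)
    {P : Type*} [Group P] (hP : IsPGroup p P) {L : Type*} [Group L] [Finite L] [Finite H]
    (j : P →* L) (hj : Function.Injective j) {AF : Subgroup (MulAut P)}
    (hlift : ∀ a ∈ AF, ∃ g : L, (g, a) ∈ conjPairs j) (h : HasSection H AF) : Involves H L := by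
  obtain ⟨G₀, A, f, hAF, hsur, hker, hab, hequiv⟩ := h
  let G' : Subgroup (L × H) :=
    { carrier := {t | ∃ a, (t.1, a) ∈ conjPairs j ∧ (a, t.2) ∈ G₀}
      one_mem' := ⟨1, (conjPairs j).one_mem, G₀.one_mem⟩
      mul_mem' := fun {u v} ⟨a, h1, h2⟩ ⟨b, h3, h4⟩ =>
        ⟨a * b, (conjPairs j).mul_mem h1 h3, G₀.mul_mem h2 h4⟩
      inv_mem' := fun {u} ⟨a, h1, h2⟩ =>
        ⟨a⁻¹, (conjPairs j).inv_mem h1, G₀.inv_mem h2⟩ }
  have hG' : ∀ s : H, ∃ g : L, (g, s) ∈ G' := fun s => by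
    obtain ⟨a, ha⟩ := hsur s
    obtain ⟨g, hg⟩ := hlift a (hAF _ ha)
    exact ⟨g, a, hg, ha⟩
  set W := f.range with hW
  have hWn : W.Normal := ⟨by
    rintro _ ⟨x, rfl⟩ s
    obtain ⟨a, ha⟩ := hsur s
    obtain ⟨hx, hxv⟩ := hequiv _ ha x
    exact ⟨⟨_, hx⟩, hxv⟩⟩
  have hWab : ∀ x ∈ W, ∀ y ∈ W, x * y = y * x := by
    rintro _ ⟨x, rfl⟩ _ ⟨y, rfl⟩
    exact hab x y
  have htop : ∀ (G : Subgroup (L × H)), (∀ s : H, ∃ g : L, (g, s) ∈ G) →
      (∀ t ∈ G, t.1 = 1 → t.2 = 1) → Involves H L := by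
    intro G hs hinj
    refine LocalEven.involves_of_section ((MonoidHom.fst L H).comp G.subtype) ?_
      ((MonoidHom.snd L H).comp G.subtype) ?_
      ⟨⊤, ⊥, inferInstance, ⟨(QuotientGroup.quotientMulEquivOfEq
        (Subgroup.bot_subgroupOf _)).trans (QuotientGroup.quotientBot.trans Subgroup.topEquiv)⟩⟩
    · refine (injective_iff_map_eq_one _).2 fun t ht => Subtype.ext (Prod.ext ht (hinj t t.2 ht))
    · exact fun s => (hs s).elim fun g hg => ⟨⟨(g, s), hg⟩, rfl⟩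
  by_cases hWb : W = ⊥
  · refine htop G' hG' ?_
    rintro ⟨g, s⟩ ⟨a, ha, has⟩ (rfl : g = 1)
    obtain rfl : a = 1 := MulEquiv.ext fun z => hj (by simpa using (ha z).symm)
    exact Subgroup.mem_bot.1 (hWb.le (hker s has))
  obtain ⟨hCW, C, hCinf, hCsup, r, hr, hrp, R, hRC, hCR, hRr, hfix⟩ := hH W hWn hWab hWb
  have : Fact r.Prime := ⟨hr⟩
  -- the projection onto the complement
  let q : C →* H ⧸ W := (QuotientGroup.mk' W).comp C.subtype
  have hq : Function.Bijective q := by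
    refine ⟨(injective_iff_map_eq_one q).2 fun c hc => Subtype.ext (Subgroup.mem_bot.1 (hCinf.le
      ⟨c.2, (QuotientGroup.eq_one_iff _).1 hc⟩)), fun y => ?_⟩
    obtain ⟨s, rfl⟩ := QuotientGroup.mk'_surjective W y
    have hs : s ∈ C ⊔ W := by rw [hCsup]; trivial
    rw [← SetLike.mem_coe, Subgroup.mul_normal] at hs
    obtain ⟨c, hc, w, hw, rfl⟩ := hs
    exact ⟨⟨c, hc⟩, by rw [map_mul]; simp [q, (QuotientGroup.eq_one_iff w).2 hw]⟩
  let πC : H →* C := (MulEquiv.ofBijective q hq).symm.toMonoidHom.comp (QuotientGroup.mk' W)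
  have hπC : ∀ s : H, ((πC s : C) : H)⁻¹ * s ∈ W := fun s => by
    rw [← QuotientGroup.eq]
    exact (MulEquiv.ofBijective q hq).apply_symm_apply (QuotientGroup.mk' W s)
  have hπCid : ∀ c : C, πC (c : H) = c := fun c => (MulEquiv.ofBijective q hq).symm_apply_apply c
  have hconj : ∀ (s : H) (w : H), w ∈ W →
      (πC s : H) * w * (πC s : H)⁻¹ = s * w * s⁻¹ := fun s w hw => by
    have h1 := hπC s
    calc (πC s : H) * w * (πC s : H)⁻¹
        = (πC s : H) * (w * ((πC s : H)⁻¹ * s)) * s⁻¹ := by group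
      _ = (πC s : H) * ((πC s : H)⁻¹ * s * w) * s⁻¹ := by rw [hWab _ h1 w hw]
      _ = s * w * s⁻¹ := by group
  let τ : G' →* C := πC.comp ((MonoidHom.snd L H).comp G'.subtype)
  have hτ : Function.Surjective τ := fun c => by
    obtain ⟨g, hg⟩ := hG' c
    exact ⟨⟨_, hg⟩, hπCid c⟩
  -- a Sylow subgroup of the preimage of `R`
  set R₁ := (R.subgroupOf C).comap τ with hR₁
  have : (R.subgroupOf C).Normal := (Subgroup.normal_subgroupOf_iff_le_normalizer hRC).2 hCR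
  have hR₁n : R₁.Normal := Subgroup.Normal.comap inferInstance τ
  let φR : R₁ →* R.subgroupOf C := τ.subgroupComap _
  have hφR : Function.Surjective φR := fun c => by
    obtain ⟨t, ht⟩ := hτ c
    exact ⟨⟨t, show τ t ∈ R.subgroupOf C from ht ▸ c.2⟩, Subtype.ext ht⟩
  let Pr : Sylow r R₁ := default
  have hPrmap : ∀ c ∈ R, ∃ t : R₁, t ∈ (Pr : Subgroup R₁) ∧ ((τ t : C) : H) = c := by
    intro c hc
    have htop' : ((Pr.mapSurjective hφR : Sylow r _) : Subgroup (R.subgroupOf C)) = ⊤ :=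
      ((Pr.mapSurjective hφR).is_maximal' ((hRr.of_equiv
        (Subgroup.subgroupOfEquivOfLe hRC).symm).to_subgroup _) le_top).symm
    obtain ⟨t, ht, htc⟩ : (⟨⟨c, hRC hc⟩, hc⟩ : R.subgroupOf C) ∈ (Pr.mapSurjective hφR : Subgroup _) :=
      htop' ▸ Subgroup.mem_top _
    exact ⟨t, ht, congrArg (fun z : R.subgroupOf C => ((z : C) : H)) htc⟩
  set N := Subgroup.normalizer (((Pr : Subgroup R₁).map R₁.subtype : Subgroup G') : Set G') with hN
  have hNsur : ∀ c : C, ∃ n ∈ N, τ n = c := by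
    intro c
    obtain ⟨t, ht⟩ := hτ c
    have htop : t ∈ N ⊔ R₁ := by rw [hN, Sylow.normalizer_sup_eq_top Pr]; trivial
    rw [← SetLike.mem_coe, Subgroup.mul_normal] at htop
    obtain ⟨n, hn, u, hu, rfl⟩ := htop
    obtain ⟨v, hv, hvu⟩ := hPrmap ((τ u : C) : H) hu
    refine ⟨n * v, N.mul_mem hn (Subgroup.le_normalizer ⟨v, hv, rfl⟩), ?_⟩
    rw [← ht, map_mul, map_mul, show τ (v : G') = τ u from Subtype.ext hvu]
  -- the graph
  let ΓE : Subgroup (L × H) := ((j.comp A.subtype).prod f).range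
  let ΓN : Subgroup (L × H) :=
    N.map (((MonoidHom.fst L H).comp G'.subtype).prod (C.subtype.comp τ))
  have hnorm : ΓN ≤ Subgroup.normalizer (ΓE : Set (L × H)) := by
    rintro _ ⟨n, -, rfl⟩
    have key : ∀ (n : G') (e : L × H), e ∈ ΓE →
        (((n : L × H).1, ((τ n : C) : H)) : L × H) * e *
          (((n : L × H).1, ((τ n : C) : H)) : L × H)⁻¹ ∈ ΓE := by
      rintro n _ ⟨x, rfl⟩
      obtain ⟨a, ha, has⟩ := n.2
      obtain ⟨hx, hxv⟩ := hequiv _ has x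
      refine ⟨⟨_, hx⟩, Prod.ext ?_ ?_⟩
      · exact (eq_mul_inv_iff_mul_eq.2 (ha (x : P)).symm)
      · exact hxv.trans (hconj _ _ ⟨x, rfl⟩).symm
    refine Subgroup.mem_normalizer_iff.2 fun e => ⟨key n e, fun he => ?_⟩
    have h2 := key n⁻¹ _ he
    have hninv : ((((n⁻¹ : G') : L × H).1, ((τ n⁻¹ : C) : H)) : L × H) =
        ((((MonoidHom.fst L H).comp G'.subtype).prod (C.subtype.comp τ)) n)⁻¹ := by
      rw [← map_inv]; rfl
    rw [hninv] at h2
    have hcancel : ∀ a : L × H, a⁻¹ * (a * e * a⁻¹) * a⁻¹⁻¹ = e := fun a => by group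
    rw [hcancel] at h2
    exact h2
  refine htop (ΓE ⊔ ΓN) (fun s => ?_) fun t ht ht1 => ?_
  · obtain ⟨n, hn, hns⟩ := hNsur (πC s)
    obtain ⟨x, hx⟩ : s * (πC s : H)⁻¹ ∈ W := hWn.mem_comm (hπC s)
    refine ⟨j x * (n : L × H).1, ?_⟩
    have h1 : ((j x, f x) : L × H) ∈ ΓE := ⟨x, rfl⟩
    have h2 : (((n : L × H).1, ((τ n : C) : H)) : L × H) ∈ ΓN := ⟨n, hn, rfl⟩
    have h3 := Subgroup.mul_mem_sup h1 h2
    rwa [Prod.mk_mul_mk, hns, hx, inv_mul_cancel_right] at h3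
  rw [← SetLike.mem_coe, Subgroup.coe_mul_of_right_le_normalizer_left ΓE ΓN hnorm] at ht
  obtain ⟨_, ⟨x, rfl⟩, _, ⟨n, hn, rfl⟩, rfl⟩ := ht
  have hnx : (n : L × H).1 = j ((x⁻¹ : A) : P) := by
    have : j (x : P) * (n : L × H).1 = 1 := ht1
    rw [eq_inv_of_mul_eq_one_right this, InvMemClass.coe_inv, map_inv]
  set y : A := x⁻¹ with hy
  obtain ⟨a, ha, has⟩ := n.2
  rw [hnx] at ha
  have ha' : ∀ z : P, a z = y * z * (y : P)⁻¹ := fun z => hj (by
    rw [map_mul, map_mul, map_inv]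
    exact eq_mul_inv_iff_mul_eq.2 (ha z).symm)
  have hsW : (n : L × H).2 ∈ W := by
    refine hCW (Subgroup.mem_centralizer_iff.2 ?_)
    rintro _ ⟨z, rfl⟩
    obtain ⟨hz, hzv⟩ := hequiv _ has z
    have e1 : (⟨a (z : P), hz⟩ : A) = y * z * y⁻¹ := Subtype.ext (ha' z)
    rw [e1, map_mul, map_mul, hab y z, mul_assoc, ← map_mul, mul_inv_cancel, map_one, mul_one] at hzv
    exact (mul_inv_eq_iff_eq_mul.1 hzv.symm).symm
  have hτn : τ n = 1 := by
    refine hq.1 (((QuotientGroup.eq_one_iff _).2 ?_).trans (map_one q).symm)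
    have h3 := W.mul_mem hsW (W.inv_mem (hπC (n : L × H).2))
    rwa [mul_inv_rev, inv_inv, mul_inv_cancel_left] at h3
  have hfy : f y = 1 := by
    refine hfix _ ⟨y, rfl⟩ fun c hc => ?_
    obtain ⟨t, ht, htc⟩ := hPrmap c hc
    obtain ⟨b, hb, hbs⟩ := (t : G').2
    obtain ⟨hby, hbyv⟩ := hequiv _ hbs y
    have hcomm : b (y : P) = y := by
      refine hj ?_
      obtain ⟨k, hk⟩ := Pr.isPGroup' ⟨t, ht⟩
      set M := (Pr : Subgroup R₁).map R₁.subtype
      have ht' : (t : G') ∈ M := ⟨t, ht, rfl⟩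
      have hcm : (n * (t : G') * n⁻¹) * (t : G')⁻¹ ∈ M :=
        M.mul_mem ((Subgroup.mem_normalizer_iff.1 hn _).1 ht') (M.inv_mem ht')
      set u := j y * (j (b y))⁻¹ with hu
      have hu1 : ((n * (t : G') * n⁻¹ * (t : G')⁻¹ : G') : L × H).1 = u := by
        simp only [Subgroup.coe_mul, InvMemClass.coe_inv, Prod.fst_mul, Prod.fst_inv, hnx]
        rw [hu, eq_mul_inv_iff_mul_eq.2 (hb (y : P)).symm]
        group
      have hpu : ∃ k, u ^ p ^ k = 1 := by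
        obtain ⟨k, hk⟩ := hP ((y : P) * (b y)⁻¹)
        exact ⟨k, by rw [hu, ← map_inv, ← map_mul, ← map_pow, hk, map_one]⟩
      have hru : ∃ k, u ^ r ^ k = 1 := by
        obtain ⟨v, hv, hvm⟩ := hcm
        obtain ⟨k, hk⟩ := Pr.isPGroup' ⟨v, hv⟩
        refine ⟨k, ?_⟩
        rw [← hu1, ← hvm]
        have hk' : v ^ r ^ k = 1 := congrArg Subtype.val hk
        rw [← Prod.pow_fst, ← SubmonoidClass.coe_pow, ← map_pow, hk', map_one]
        rfl
      have := eq_one_of_two_primes hrp hpu hru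
      exact (mul_inv_eq_one.1 this).symm
    have e1 : (⟨b (y : P), hby⟩ : A) = y := Subtype.ext hcomm
    rw [e1, ← hconj _ _ ⟨y, rfl⟩] at hbyv
    rw [← htc]
    exact hbyv.symm
  show f x * ((τ n : C) : H) = 1
  rw [hτn, show f x = 1 by rw [← inv_inv x, ← hy, map_inv, hfy, inv_one]]
  simp

end CfsgLib.Fusion
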