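import Cfsg.Agent.Lib.Transfer.NormalAbelian

/-!
# Maximal normal abelian subgroups of bounded exponent inside a normal subgroup

The argument of `CfsgLib.Transfer.mem_of_maximal_normal_exponent`, relative to a normal subgroup.
-/

set_option linter.all false

namespace CfsgLib.Fusion

open Cfsg Subgroup CfsgLib.Transfer
open scoped commutatorElement

variable {G : Type*} [Group G] [Finite G] {p : ℕ} [hp : Fact p.Prime]

/-- Alperin: if `A` is maximal among abelian normal subgroups of exponent dividing `p^n ≠ 2`,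
(inside a normal subgroup `W`) every element of `C_W(A)` of order dividing `p^n` lies in `A`. -/
theorem mem_of_maximal_normal_exponent_in (hG : IsPGroup p G) (W : Subgroup G) [W.Normal]
    (n : ℕ) (hn : p ^ n ≠ 2)
    (A : Subgroup G) [A.Normal] (hAW : A ≤ W) (hA : IsMulCommutative A) (hAe : ∀ a ∈ A, a ^ p ^ n = 1)
    (hmax : ∀ B : Subgroup G, B.Normal → IsMulCommutative B → (∀ b ∈ B, b ^ p ^ n = 1) →
      B ≤ W → A ≤ B → B = A)
    (x : G) (hx : x ∈ Subgroup.centralizer (A : Set G)) (hxW : x ∈ W) (hxn : x ^ p ^ n = 1) :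
    x ∈ A := by
  classical
  rcases Nat.eq_zero_or_pos n with rfl | hn0
  · rw [pow_zero, pow_one] at hxn; rw [hxn]; exact one_mem A
  set q := p ^ n with hq
  set K := Subgroup.centralizer (A : Set G) ⊓ W with hK
  have hKn : K.Normal := inferInstance
  have hAK : ∀ a ∈ A, ∀ k ∈ K, a * k = k * a := fun a ha k hk => mem_centralizer_iff.mp hk.1 a ha
  have hxK : x ∈ K := ⟨hx, hxW⟩
  have : Group.IsNilpotent (G ⧸ A) := (hG.to_quotient A).isNilpotent
  let L : ℕ → Subgroup G := fun j =>
    K ⊓ (Subgroup.upperCentralSeries (G ⧸ A) j).comap (QuotientGroup.mk' A)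
  have hL0 : ∀ w, w ∈ L 0 → w ∈ A := fun w hw => by
    have h := mem_comap.mp (mem_inf.mp hw).2
    rw [Subgroup.upperCentralSeries_zero, Subgroup.mem_bot] at h
    exact (QuotientGroup.eq_one_iff w).mp h
  have hLstep : ∀ j, ∀ w ∈ L (j + 1), ∀ g : G, ⁅w, g⁆ ∈ L j := by
    intro j w hw g
    obtain ⟨hwK, hwU⟩ := mem_inf.mp hw
    refine mem_inf.mpr ⟨?_, ?_⟩
    · have := mul_mem hwK (hKn.conj_mem w⁻¹ (inv_mem hwK) g)
      simpa [commutatorElement_def, mul_assoc] using this
    · rw [mem_comap, map_commutatorElement]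
      exact (Subgroup.mem_upperCentralSeries_succ_iff.mp (mem_comap.mp hwU)) _
  have hLtop : ∀ w ∈ K, ∃ j, w ∈ L j := fun w hw =>
    ⟨Group.nilpotencyClass (G ⧸ A), mem_inf.mpr ⟨hw, mem_comap.mpr (by
      rw [Subgroup.upperCentralSeries_nilpotencyClass]; exact mem_top _)⟩⟩
  by_contra hxA
  -- a counterexample in the lowest possible layer
  let P : ℕ → Prop := fun j => ∃ w ∈ L j, w ^ q = 1 ∧ w ∉ A
  have hP : ∃ j, P j := by
    obtain ⟨j, hj⟩ := hLtop x hxK
    exact ⟨j, x, hj, hxn, hxA⟩
  obtain ⟨w, hw, hwq, hwA⟩ := Nat.find_spec hP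
  set i := Nat.find hP with hi
  have hmin : ∀ j < i, ∀ v ∈ L j, v ^ q = 1 → v ∈ A := fun j hj v hv hvq => by
    by_contra hvA
    exact Nat.find_min hP hj ⟨v, hv, hvq, hvA⟩
  obtain ⟨i', hi'⟩ : ∃ i', i = i' + 1 := ⟨i - 1, by
    have : i ≠ 0 := fun h0 => hwA (hL0 w (h0 ▸ hw))
    omega⟩
  -- power of `w` with `p`-th power in `A`
  obtain ⟨y, hy, hyq, hyA, hyp⟩ : ∃ y ∈ L i, y ^ q = 1 ∧ y ∉ A ∧ y ^ p ∈ A := by
    have hex : ∃ k, w ^ p ^ k ∈ A := ⟨n, by rw [hwq]; exact one_mem A⟩
    obtain ⟨k, hk⟩ : ∃ k, Nat.find hex = k + 1 := ⟨Nat.find hex - 1, by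
      have : Nat.find hex ≠ 0 := fun h0 => hwA (by have := Nat.find_spec hex; rwa [h0, pow_zero, pow_one] at this)
      omega⟩
    refine ⟨w ^ p ^ k, pow_mem hw _, by rw [← pow_mul, mul_comm, pow_mul, hwq, one_pow],
      Nat.find_min hex (by omega), ?_⟩
    have := Nat.find_spec hex
    rwa [hk, pow_succ, pow_mul] at this
  have hyK : y ∈ K := (mem_inf.mp hy).1
  -- `[k, y]` lies in `A` for every `k` below layer `i`
  have hcomm : ∀ j, j ≤ i' → ∀ k ∈ L j, ⁅k, y⁆ ∈ A := by
    intro j
    induction j with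
    | zero =>
        intro _ k hk
        rw [commutatorElement_eq_one_iff_mul_comm.mpr (hAK k (hL0 k hk) y hyK)]
        exact one_mem A
    | succ j ih =>
        intro hj k hk
        set d := ⁅k, y⁆ with hd
        have hdL : d ∈ L j := hLstep j k hk y
        have heA : ⁅d, y⁆ ∈ A := ih (by omega) d hdL
        set e := ⁅d, y⁆ with he
        have hdK : d ∈ K := (mem_inf.mp hdL).1
        have hey : Commute e y := hAK e heA y hyK
        have hed : Commute e d := hAK e heA d hdK
        have hkK : k ∈ K := (mem_inf.mp hk).1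
        -- `e^p = [d, y^p] = 1`
        have hyd : ∀ m : ℕ, d * y ^ m * d⁻¹ = e ^ m * y ^ m := by
          intro m
          have h1 : d * y * d⁻¹ = e * y := by rw [he, commutatorElement_def]; group
          rw [← conj_pow, h1, hey.mul_pow]
        have hep : e ^ p = 1 := by
          have h1 := hyd p
          rw [show d * y ^ p = y ^ p * d from (hAK _ hyp d hdK).symm, mul_inv_cancel_right,
            eq_comm, mul_eq_right] at h1
          exact h1
        -- `d^p` up to a power of `e`
        have hky : k * y * k⁻¹ = d * y := by rw [hd, commutatorElement_def]; group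
        have hdy : ∀ m : ℕ, (d * y) ^ m = d ^ m * y ^ m * (e⁻¹) ^ m.choose 2 := by
          intro m
          have h1 : y * d = d * y * e⁻¹ := by
            have h0 : e⁻¹ = (d * y)⁻¹ * (y * d) := by
              have h2 : d * y = e * (y * d) := by rw [he, commutatorElement_def]; group
              have h3 : d * y = (y * d) * e := by rw [h2, (hey.mul_right hed).eq]
              rw [h3]; group
            rw [h0, mul_inv_cancel_left]
          have := mul_pow_of_class_three h1 (d₁ := 1) (d₂ := 1)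
            (by rw [mul_one]; exact hed.inv_left.eq) (by rw [mul_one]; exact hey.inv_left.eq)
            (.one_left _) (.one_left _) (.one_left _) (.one_left _) m
          simpa using this
        have hdp : d ^ p * (e⁻¹) ^ p.choose 2 = 1 := by
          have h1 := hdy p
          rw [← hky, conj_pow, ← hAK _ hyp k hkK, mul_inv_cancel_right] at h1
          have h2 : y ^ p * e⁻¹ ^ p.choose 2 = e⁻¹ ^ p.choose 2 * y ^ p :=
            hAK _ hyp _ (pow_mem (inv_mem (show e ∈ K by
              rw [he, commutatorElement_def]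
              exact mul_mem (mul_mem (mul_mem hdK hyK) (inv_mem hdK)) (inv_mem hyK))) _)
          rw [mul_assoc, h2, ← mul_assoc, eq_comm, mul_eq_right] at h1
          exact h1
        have hdq : d ^ q = 1 := by
          rcases Nat.Prime.eq_two_or_odd' hp.out with h2 | hodd
          · obtain ⟨m, hm⟩ : ∃ m, q = 2 * 2 * m := by
              refine ⟨2 ^ (n - 2), ?_⟩
              have : 2 ≤ n := by
                by_contra hc
                have hn1 : n = 1 := by omega
                exact hn (by rw [hq, hn1, h2, pow_one])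
              rw [hq, h2, ← pow_two, ← pow_add]
              congr 1; omega
            subst h2
            have h3 : d ^ 2 = e := by
              rw [Nat.choose_self, pow_one, mul_inv_eq_one] at hdp; exact hdp
            rw [hm, pow_mul, pow_mul, h3, hep, one_pow]
          · obtain ⟨m, hm⟩ : p ∣ p.choose 2 :=
              hp.out.dvd_choose_self (by norm_num) (by
                have := hp.out.two_le
                rcases hodd with ⟨r, hr⟩; omega)
            rw [hm, pow_mul, inv_pow, hep, inv_one, one_pow, mul_one] at hdp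
            rw [hq, show n = 1 + (n - 1) by omega, pow_add, pow_one, pow_mul, hdp, one_pow]
        exact hmin j (by omega) d hdL hdq
  -- conjugates of `y` lie in `yA`
  have hconj : ∀ g : G, g * y * g⁻¹ * y⁻¹ ∈ A := by
    intro g
    set k := ⁅y, g⁆ with hk
    have hkL : k ∈ L i' := hLstep i' y (hi' ▸ hy) g
    have hkK : k ∈ K := (mem_inf.mp hkL).1
    have hcA : ⁅k, y⁆ ∈ A := hcomm i' le_rfl k hkL
    set c := ⁅k, y⁆ with hc
    have hcp : c ^ p = 1 := by
      have h1 : k * y * k⁻¹ = c * y := by rw [hc, commutatorElement_def]; group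
      have h2 : k * y ^ p * k⁻¹ = c ^ p * y ^ p := by
        rw [← conj_pow, h1, (show Commute c y from hAK c hcA y hyK).mul_pow]
      rw [← hAK _ hyp k hkK, mul_inv_cancel_right, eq_comm, mul_eq_right] at h2
      exact h2
    -- `y⁻¹ k = g y⁻¹ g⁻¹`
    have hgy : y⁻¹ * k = g * y⁻¹ * g⁻¹ := by rw [hk, commutatorElement_def]; group
    have hyK' : y⁻¹ ∈ K := inv_mem hyK
    have hck : Commute c k := hAK c hcA k hkK
    have hcy : Commute c y := hAK c hcA y hyK
    have hpow : (y * (y⁻¹ * k)) ^ q = 1 := by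
      have h1 : (y⁻¹ * k) * y = y * (y⁻¹ * k) * c := by
        rw [mul_inv_cancel_left, ← hck.eq]
        calc y⁻¹ * k * y = y⁻¹ * c * y * k := by rw [hc, commutatorElement_def]; group
          _ = c * k := by rw [mul_assoc y⁻¹ c y, hcy.eq, inv_mul_cancel_left]
      have h := mul_pow_of_class_three h1 (d₁ := 1) (d₂ := 1)
        (by rw [mul_one]; exact hcy.eq)
        (by rw [mul_one]; exact (hcy.inv_right.mul_right hck).eq)
        (.one_left _) (.one_left _) (.one_left _) (.one_left _) q
      obtain ⟨m, hm⟩ := dvd_choose_two hp.out hn hn0.ne' hq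
      rw [h, hyq, hgy, conj_pow, inv_pow, hyq, hm, pow_mul, hcp]
      simp
    rw [mul_inv_cancel_left] at hpow
    have hkA := hmin i' (by omega) k hkL hpow
    have h3 : g * y * g⁻¹ * y⁻¹ = k⁻¹ := by rw [hk, commutatorElement_def]; group
    rw [h3]
    exact inv_mem hkA
  -- `A⟨y⟩` contradicts maximality
  have hBn : (A ⊔ zpowers y).Normal := by
    refine ⟨fun b hb g => ?_⟩
    obtain ⟨a, ha, z, hz, rfl⟩ := mem_sup_of_normal_left.mp hb
    obtain ⟨m, rfl⟩ := mem_zpowers_iff.mp hz
    rw [show g * (a * y ^ m) * g⁻¹ = (g * a * g⁻¹) * (g * y * g⁻¹) ^ m by rw [conj_zpow]; group]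
    refine mul_mem (mem_sup_left (Subgroup.Normal.conj_mem ‹_› a ha g)) (zpow_mem ?_ m)
    rw [show g * y * g⁻¹ = (g * y * g⁻¹ * y⁻¹) * y by group]
    exact mul_mem (mem_sup_left (hconj g)) (mem_sup_right (mem_zpowers y))
  have hcomm2 : ∀ b ∈ A ⊔ zpowers y, ∃ a ∈ A, ∃ m : ℤ, b = a * y ^ m := fun b hb => by
    obtain ⟨a, ha, z, hz, rfl⟩ := mem_sup_of_normal_left.mp hb
    obtain ⟨m, rfl⟩ := mem_zpowers_iff.mp hz
    exact ⟨a, ha, m, rfl⟩
  refine hyA ((hmax _ hBn ⟨⟨fun u v => Subtype.ext ?_⟩⟩ ?_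
    (sup_le hAW (zpowers_le.mpr hyK.2)) le_sup_left) ▸
    mem_sup_right (mem_zpowers y))
  · obtain ⟨a, ha, m, hu⟩ := hcomm2 u u.2
    obtain ⟨b, hb, l, hv⟩ := hcomm2 v v.2
    show (u : G) * v = v * u
    rw [hu, hv]
    have hab : Commute a b := congrArg Subtype.val (hA.is_comm.comm ⟨a, ha⟩ ⟨b, hb⟩)
    have hay : Commute a (y ^ l) := hAK a ha _ (zpow_mem hyK l)
    have hyb : Commute (y ^ m) b := (hAK b hb _ (zpow_mem hyK m)).symm
    exact ((hab.mul_right hay).mul_left (hyb.mul_right (Commute.zpow_zpow_self y m l))).eq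
  · intro b hb
    obtain ⟨a, ha, m, rfl⟩ := hcomm2 b hb
    rw [(show Commute a (y ^ m) from hAK a ha _ (zpow_mem hyK m)).mul_pow, hAe a ha, one_mul,
      ← zpow_natCast, ← zpow_mul, mul_comm, zpow_mul, zpow_natCast, hyq, one_zpow]

end CfsgLib.Fusion
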