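import Cfsg.Agent.Lib.Fusion.SmallSimple

/-!
# Top automiser and strongly closed subgroups from closure and normaliser data on one Sylow subgroup
-/

set_option autoImplicit false

namespace CfsgLib.Fusion

open Cfsg Cfsg.FusionSystem

variable {G : Type*} [Group G] [Finite G] {p : ℕ} [Fact p.Prime]

/-- Trivial top automiser, no proper strongly closed subgroup, and simplicity from the same data. -/
theorem groupFusion_topData (S : Sylow p G) (hne : (S : Subgroup G) ≠ ⊥)
    (hT : ∀ T : Subgroup G, T ≤ (S : Subgroup G) → T ≠ ⊥ →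
      (∀ x ∈ T, ∀ c : G, c * x * c⁻¹ ∈ (S : Subgroup G) → c * x * c⁻¹ ∈ T) →
      T = (S : Subgroup G))
    (hN : ∀ n ∈ Subgroup.normalizer ((S : Subgroup G) : Set G), ∃ a : ℕ,
      ∀ x ∈ (S : Subgroup G), n ^ p ^ a * x = x * n ^ p ^ a) :
    (groupFusionSystem (S : Subgroup G)).autGroup (S : Subgroup G) = Inn ↥(S : Subgroup G) ∧
      (∀ T : Subgroup G, (groupFusionSystem (S : Subgroup G)).StronglyClosed T →
        T = ⊥ ∨ T = (S : Subgroup G)) ∧
      (groupFusionSystem (S : Subgroup G)).IsSimple p := by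
  set F := groupFusionSystem (S : Subgroup G) with hFdef
  have hF : F.IsSaturated p := groupFusion_saturated S
  suffices h : F.autGroup (S : Subgroup G) = Inn ↥(S : Subgroup G) ∧
      ∀ T : Subgroup G, F.StronglyClosed T → T = ⊥ ∨ T = (S : Subgroup G) from
    ⟨h.1, h.2, isSimple_of_inner_top hF hne h.1 h.2⟩
  refine ⟨?_, fun T hTc => ?_⟩
  · refine le_antisymm ?_ (inn_le_autGroup le_rfl)
    obtain ⟨R, hR⟩ := IsSaturated.top_autGroup_sylow S.isPGroup' hF
    have hp : IsPGroup p (F.autGroup (S : Subgroup G)) := fun α => by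
      have hα : (α : MulAut (S : Subgroup G)) ∈ autInducedBy ⊤ (S : Subgroup G) :=
        (groupFusion_autGroup (S := (S : Subgroup G)) le_rfl).le α.2
      obtain ⟨n, -, hv⟩ := mem_autInducedBy_iff.1 hα
      obtain ⟨a, ha⟩ := hN n (mem_normalizer_of_conj_eq (α : MulAut (S : Subgroup G)) hv)
      refine ⟨a, Subtype.ext (MulEquiv.ext fun x => Subtype.ext ?_)⟩
      have hit : ∀ j : ℕ,
          ((((α : MulAut (S : Subgroup G)) ^ j) x : (S : Subgroup G)) : G) = n ^ j * (x : G) * (n ^ j)⁻¹ := by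
        intro j
        induction j with
        | zero => simp
        | succ j ih => rw [pow_succ', MulAut.mul_apply, hv, ih, pow_succ']; group
      show ((((α : MulAut (S : Subgroup G)) ^ p ^ a) x : (S : Subgroup G)) : G) = x
      rw [hit, ha x x.2, mul_inv_cancel_right]
    have htop := R.is_maximal' (hp.to_subgroup ⊤) le_top
    intro α hα
    exact (hR.le (htop.le (Subgroup.mem_top (⟨α, hα⟩ : F.autGroup (S : Subgroup G)))) : _)
  · refine or_iff_not_imp_left.2 fun hb => hT T hTc.1 hb fun x hx c hc => ?_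
    have hxS : Subgroup.zpowers x ≤ (S : Subgroup G) := Subgroup.zpowers_le.2 (hTc.1 hx)
    have hmem : conjHom (Subgroup.zpowers x) c ∈ F.Hom (Subgroup.zpowers x) := by
      rw [hFdef, mem_groupFusion_iff]
      refine ⟨hxS, ?_, c, fun y => rfl⟩
      rintro ⟨y, j, rfl⟩
      show c * x ^ j * c⁻¹ ∈ (S : Subgroup G)
      rw [← conj_zpow]
      exact (S : Subgroup G).zpow_mem hc j
    exact hTc.2 _ (Subgroup.zpowers_le.2 hx) _ hmem ⟨x, Subgroup.mem_zpowers x⟩

/-- The same with the data given on another Sylow subgroup. -/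
theorem groupFusion_topData_conj (S₀ S : Sylow p G) (hne : (S₀ : Subgroup G) ≠ ⊥)
    (hT : ∀ T : Subgroup G, T ≤ (S₀ : Subgroup G) → T ≠ ⊥ →
      (∀ x ∈ T, ∀ c : G, c * x * c⁻¹ ∈ (S₀ : Subgroup G) → c * x * c⁻¹ ∈ T) →
      T = (S₀ : Subgroup G))
    (hN : ∀ n ∈ Subgroup.normalizer ((S₀ : Subgroup G) : Set G), ∃ a : ℕ,
      ∀ x ∈ (S₀ : Subgroup G), n ^ p ^ a * x = x * n ^ p ^ a) :
    (groupFusionSystem (S : Subgroup G)).autGroup (S : Subgroup G) = Inn ↥(S : Subgroup G) ∧
      (∀ T : Subgroup G, (groupFusionSystem (S : Subgroup G)).StronglyClosed T →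
        T = ⊥ ∨ T = (S : Subgroup G)) ∧
      (groupFusionSystem (S : Subgroup G)).IsSimple p := by
  obtain ⟨g, rfl⟩ := MulAction.exists_smul_eq G S₀ S
  have hmem : ∀ x, x ∈ ((g • S₀ : Sylow p G) : Subgroup G) ↔ g⁻¹ * x * g ∈ (S₀ : Subgroup G) := by
    intro x
    rw [Sylow.coe_subgroup_smul, Subgroup.mem_pointwise_smul_iff_inv_smul_mem]
    simp [MulAut.smul_def]
  refine groupFusion_topData _ (fun h => hne ((Subgroup.eq_bot_iff_forall _).2 fun x hx => ?_))
    (fun T hTS hTb hTc => ?_) fun n hn => ?_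
  · have h1 : g * x * g⁻¹ ∈ ((g • S₀ : Sylow p G) : Subgroup G) := (hmem _).2 (by simpa [mul_assoc] using hx)
    rw [h, Subgroup.mem_bot] at h1
    simpa using h1
  · have key := hT (T.comap (MulAut.conj g).toMonoidHom) (fun x hx => by
        simpa [mul_assoc] using (hmem _).1 (hTS hx))
      (fun h => hTb ((Subgroup.eq_bot_iff_forall _).2 fun x hx => ?_))
      (fun x hx c hc => ?_)
    · refine le_antisymm hTS fun x hx => ?_
      have : g⁻¹ * x * g ∈ T.comap (MulAut.conj g).toMonoidHom := key.ge ((hmem x).1 hx)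
      simpa [mul_assoc] using this
    · have h1 : g⁻¹ * x * g ∈ T.comap (MulAut.conj g).toMonoidHom := by simpa [mul_assoc] using hx
      rw [h, Subgroup.mem_bot] at h1
      calc x = g * (g⁻¹ * x * g) * g⁻¹ := by group
        _ = 1 := by rw [h1]; simp
    · show g * (c * x * c⁻¹) * g⁻¹ ∈ T
      have h1 := hTc (g * x * g⁻¹) hx (g * c * g⁻¹) ((hmem _).2 (by simpa [mul_assoc] using hc))
      simpa [mul_assoc] using h1
  · have hn0 : g⁻¹ * n * g ∈ Subgroup.normalizer ((S₀ : Subgroup G) : Set G) := by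
      rw [Subgroup.mem_normalizer_iff]
      intro x
      have e1 : x = g⁻¹ * (g * x * g⁻¹) * g := by group
      have e2 : g⁻¹ * n * g * x * (g⁻¹ * n * g)⁻¹ = g⁻¹ * (n * (g * x * g⁻¹) * n⁻¹) * g := by group
      rw [e2, ← hmem]
      conv_lhs => rw [e1, ← hmem]
      exact Subgroup.mem_normalizer_iff.1 hn _
    obtain ⟨a, ha⟩ := hN _ hn0
    refine ⟨a, fun x hx => ?_⟩
    have h1 := ha _ ((hmem x).1 hx)
    rw [show (g⁻¹ * n * g) ^ p ^ a = g⁻¹ * n ^ p ^ a * g by
      simpa using (conj_pow (a := g⁻¹) (b := n) (i := p ^ a))] at h1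
    calc n ^ p ^ a * x = g * ((g⁻¹ * n ^ p ^ a * g) * (g⁻¹ * x * g)) * g⁻¹ := by group
      _ = x * n ^ p ^ a := by rw [h1]; group

end CfsgLib.Fusion
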