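import Cfsg.Agent.Lib.Fusion.InnerQuot
import Cfsg.Agent.Lib.Fusion.Series
import Cfsg.Agent.Lib.Fusion.Criterion

/-!
Solvable fusion systems: series of strongly closed subgroups with abelian steps, and constraint.
-/

set_option autoImplicit false

namespace CfsgLib.Fusion

open Cfsg Cfsg.FusionSystem
open scoped commutatorElement

variable {Ω : Type*} [Group Ω] {S : Subgroup Ω} {F : FusionSystem S} {p : ℕ}

/-- The preimage of a strongly closed subgroup of a factor system is strongly closed. -/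
theorem stronglyClosed_preimageAlong [Fact p.Prime] [Finite S] (hS : IsPGroup p S)
    (hF : F.IsSaturated p) {T : Subgroup Ω} (hT : F.StronglyClosed T) {Ω' : Type*} [Group Ω']
    {θ : S →* Ω'} {S' : Subgroup Ω'} {E : FusionSystem S'} (hE : F.IsFactorSystem T θ E)
    {D' : Subgroup Ω'} (hD : E.StronglyClosed D') : F.StronglyClosed (preimageAlong θ D') := by
  obtain ⟨⟨-, hmor⟩, -, -⟩ := factor_isSurjectiveMorphism hS hF hT hE
  refine ⟨preimageAlong_le θ D', fun R hR φ hφ x => ?_⟩
  obtain ⟨φ', hφ', hP, hφS, hP', hv⟩ := hmor R φ hφ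
  refine (mem_preimageAlong (x := ⟨φ x, hφS x⟩)).2 ?_
  rw [← hv x]
  exact StronglyClosed.apply_mem hD hφ'
    ((mem_preimageAlong (θ := θ) (P' := D') (x := ⟨x, hP x.2⟩)).1 (hR x.2))

/-- The centre of a normal subgroup is normal. -/
theorem isNormal_inf_centralizer {Q : Subgroup Ω} (hQ : F.IsNormal Q) :
    F.IsNormal (Q ⊓ Subgroup.centralizer (Q : Set Ω)) := by
  refine isNormal_of_characteristic hQ inf_le_left ?_
  have : (Q ⊓ Subgroup.centralizer (Q : Set Ω)).subgroupOf Q = Subgroup.center Q := by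
    ext x
    simp [Subgroup.mem_subgroupOf, Subgroup.mem_center_iff, Subgroup.mem_centralizer_iff,
      Subtype.ext_iff]
  rw [this]
  infer_instance

/-- `T` rises from `R` to `S` by abelian steps through strongly closed subgroups. -/
def HasAbelianChain (F : FusionSystem S) (R : Subgroup Ω) : Prop :=
  ∃ (n : ℕ) (T : Fin (n + 1) → Subgroup Ω), T 0 = R ∧ T (Fin.last n) = S ∧ Monotone T ∧
    (∀ i, F.StronglyClosed (T i)) ∧ ∀ i : Fin n, ⁅T i.succ, T i.succ⁆ ≤ T (Fin.castSucc i)

theorem hasAbelianChain_self : HasAbelianChain F S :=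
  ⟨0, fun _ => S, rfl, rfl, monotone_const, fun _ => stronglyClosed_top, fun i => i.elim0⟩

theorem HasAbelianChain.step {R R' : Subgroup Ω} (h : HasAbelianChain F R')
    (hR : F.StronglyClosed R) (hle : R ≤ R') (hab : ⁅R', R'⁆ ≤ R) : HasAbelianChain F R := by
  obtain ⟨n, T, h0, hlast, hmono, hsc, hc⟩ := h
  refine ⟨n + 1, Fin.cons R T, rfl, ?_, ?_, fun i => ?_, fun i => ?_⟩
  · rw [← Fin.succ_last, Fin.cons_succ, hlast]
  · refine Fin.monotone_iff_le_succ.2 fun i => ?_
    induction i using Fin.cases with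
    | zero => simpa [h0] using hle
    | succ j =>
        rw [← Fin.succ_castSucc, Fin.cons_succ, Fin.cons_succ]
        exact hmono (Fin.castSucc_le_succ j)
  · induction i using Fin.cases with
    | zero => simpa using hR
    | succ j => simpa using hsc j
  · induction i using Fin.cases with
    | zero => simpa [h0] using hab
    | succ j =>
        rw [← Fin.succ_castSucc, Fin.cons_succ, Fin.cons_succ]
        exact hc j

/-- A solvable system has a series of strongly closed subgroups with abelian steps. -/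
theorem hasAbelianChain_of_solvable [Fact p.Prime] [Finite S] (hS : IsPGroup p S)
    (hF : F.IsSaturated p) (h : F.IsSolvableSystem) :
    ∀ (n : ℕ) (R : Subgroup Ω), Nat.card S - Nat.card R ≤ n → F.StronglyClosed R →
      HasAbelianChain F R := by
  intro n
  induction n with
  | zero =>
      intro R hn hR
      obtain rfl : R = S := Subgroup.eq_of_le_of_card_ge hR.1 (by omega)
      exact hasAbelianChain_self
  | succ n ih =>
      intro R hn hR
      by_cases hRS : R = S
      · subst hRS
        exact hasAbelianChain_self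
      have : (R.subgroupOf S).Normal :=
        (Subgroup.normal_subgroupOf_iff_le_normalizer hR.1).2 (StronglyClosed.normal_in hR)
      let θ : S →* S ⧸ R.subgroupOf S := QuotientGroup.mk' _
      have hθ : ∀ s : S, θ s = 1 ↔ (s : Ω) ∈ R := fun s => QuotientGroup.eq_one_iff s
      have hr : θ.range = (⊤ : Subgroup (S ⧸ R.subgroupOf S)) :=
        MonoidHom.range_eq_top.2 (QuotientGroup.mk'_surjective _)
      set E := factorSystem F hR θ hθ hr with hEdef
      have hE : F.IsFactorSystem R θ E := ⟨hR.1, hθ, hr, fun _ _ => Iff.rfl⟩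
      have hc : E.core ≠ ⊥ := h R hR hRS E hE
      set Z := E.core ⊓ Subgroup.centralizer (E.core : Set (S ⧸ R.subgroupOf S)) with hZdef
      have hZn : E.IsNormal Z := isNormal_inf_centralizer core_isNormal
      have hq : IsPGroup p (S ⧸ R.subgroupOf S) := hS.to_quotient _
      have hZ1 : Z ≠ ⊥ := by
        have hnt : Nontrivial E.core := (Subgroup.nontrivial_iff_ne_bot _).2 hc
        have := (hq.to_subgroup E.core).center_nontrivial
        obtain ⟨z, hz⟩ := exists_ne (1 : Subgroup.center E.core)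
        intro hbot
        have hzZ : ((z : E.core) : S ⧸ R.subgroupOf S) ∈ Z :=
          ⟨(z : E.core).2, Subgroup.mem_centralizer_iff.2 fun y hy =>
            congrArg Subtype.val (Subgroup.mem_center_iff.1 z.2 ⟨y, hy⟩)⟩
        rw [hbot, Subgroup.mem_bot] at hzZ
        exact hz (Subtype.ext (Subtype.ext hzZ))
      set R' := preimageAlong θ Z with hR'def
      have hRR' : R ≤ R' := ker_le_preimageAlong hR.1 hθ Z
      have hR'sc : F.StronglyClosed R' :=
        stronglyClosed_preimageAlong hS hF hR hE (IsNormal.stronglyClosed hZn)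
      have hlt : R < R' := by
        refine lt_of_le_of_ne hRR' fun he => hZ1 ((Subgroup.eq_bot_iff_forall _).2 fun z hz => ?_)
        obtain ⟨s, rfl⟩ := QuotientGroup.mk'_surjective _ z
        refine (hθ s).2 ?_
        rw [he]
        exact mem_preimageAlong.2 hz
      have := finite_le hR'sc.1
      have hcard : Nat.card R < Nat.card R' :=
        lt_of_le_of_ne (Subgroup.card_le_of_le hlt.le) fun e =>
          hlt.ne (Subgroup.eq_of_le_of_card_ge hlt.le e.ge)
      refine (ih R' (by omega) hR'sc).step hR hRR' (Subgroup.commutator_le.2 ?_)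
      rintro _ ⟨a, ha, rfl⟩ _ ⟨b, hb, rfl⟩
      refine (hθ ⁅a, b⁆).1 ?_
      rw [map_commutatorElement, commutatorElement_eq_one_iff_mul_comm]
      exact (Subgroup.mem_centralizer_iff.1 hb.2 _ ha.1)

/-- A series of strongly closed subgroups with abelian steps makes the system solvable. -/
theorem isSolvable_of_chain [Fact p.Prime] [Finite S] (hS : IsPGroup p S) (hF : F.IsSaturated p)
    (h : HasAbelianChain F ⊥) : F.IsSolvableSystem := by
  intro R hR hne hn E hE h0
  obtain ⟨n, T, hT0, hlast, -, hsc, hc⟩ := h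
  obtain ⟨i, hi, hi'⟩ : ∃ i : Fin n, T i.castSucc ≤ R ∧ ¬ T i.succ ≤ R := by
    by_contra h
    push Not at h
    refine hne (le_antisymm hR.1 (hlast ▸ ?_))
    suffices ∀ i : Fin (n + 1), T i ≤ R from this _
    intro i
    induction i using Fin.induction with
    | zero => rw [hT0]; exact bot_le
    | succ i ih => exact h i ih
  set θ := QuotientGroup.mk' (R.subgroupOf S)
  have hD := stronglyClosed_imageAlong hE hR (hsc i.succ)
  have hab : IsMulCommutative (imageAlong θ (T i.succ)) := by
    refine ⟨⟨fun x y => Subtype.ext ?_⟩⟩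
    obtain ⟨_, a, ha, rfl⟩ := x
    obtain ⟨_, b, hb, rfl⟩ := y
    show θ a * θ b = θ b * θ a
    rw [← commutatorElement_eq_one_iff_mul_comm, ← map_commutatorElement]
    exact (hE.2.1 _).2 (hi (hc i (Subgroup.commutator_mem_commutator ha hb)))
  have hT : IsPGroup p (⊤ : Subgroup (S ⧸ R.subgroupOf S)) := (hS.to_quotient _).to_subgroup ⊤
  have h1 := le_core (isNormal_of_stronglyClosed_abelian hT (factor_saturated hS hF hR hE) hD hab)
  rw [h0, le_bot_iff] at h1
  refine hi' fun x hx => (hE.2.1 ⟨x, (hsc i.succ).1 hx⟩).1 ?_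
  rw [← Subgroup.mem_bot, ← h1]
  exact ⟨_, hx, rfl⟩

/-- A solvable saturated system is constrained. -/
theorem isConstrained_of_solvable [Fact p.Prime] [Finite S] (hS : IsPGroup p S)
    (hF : F.IsSaturated p) (h : F.IsSolvableSystem) : F.IsConstrained p := by
  obtain ⟨n, T, hT0, hlast, -, hsc, hc⟩ :=
    hasAbelianChain_of_solvable hS hF h _ ⊥ le_rfl stronglyClosed_bot
  set Q := F.core with hQdef
  have hQn : F.IsNormal Q := core_isNormal
  have hQsc := IsNormal.stronglyClosed hQn
  refine ⟨hF, Q, hQn, hQn.1, fun P ⟨φ, hφ, hP⟩ => ?_⟩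
  rw [← hP, (StronglyClosed.weaklyClosed hQsc).2 φ hφ]
  by_contra hnc
  set C := centralizerIn S Q with hCdef
  obtain ⟨i, hi, hi'⟩ : ∃ i : Fin n, T i.castSucc ⊓ C ≤ Q ∧ ¬ T i.succ ⊓ C ≤ Q := by
    by_contra h
    push Not at h
    have key : ∀ i : Fin (n + 1), T i ⊓ C ≤ Q := by
      intro i
      induction i using Fin.induction with
      | zero => rw [hT0]; exact inf_le_left.trans bot_le
      | succ i ih => exact h i ih
    refine hnc fun x hx => key (Fin.last n) ⟨hlast ▸ hx.1, hx⟩
  set A := T i.succ ⊓ C with hAdef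
  have hAN : A ≤ Subgroup.normalizer (Q : Set Ω) :=
    inf_le_right.trans (inf_le_right.trans (Subgroup.centralizer_le_normalizer _))
  have hdec : ∀ u ∈ A ⊔ Q, ∃ c ∈ A, ∃ q ∈ Q, c * q = u := by
    intro u hu
    have hu' : u ∈ (↑(A ⊔ Q) : Set Ω) := hu
    rw [Subgroup.coe_mul_of_left_le_normalizer_right A Q hAN] at hu'
    exact hu'
  have hcomm : ∀ c ∈ A, ∀ y ∈ Q, Commute c y := fun c hcA y hy =>
    ((mem_centralizerIn.1 hcA.2).2 y hy).symm
  have hU : F.StronglyClosed (A ⊔ Q) := by
    refine ⟨sup_le (inf_le_right.trans inf_le_left) hQn.1, fun R hR φ hφ x => ?_⟩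
    obtain ⟨ψ, hψ, hψR, hψQ⟩ := hQn.2 R φ hφ
    obtain ⟨c, hcA, q, hq, hcq⟩ := hdec _ (hR x.2)
    have hc' : c ∈ R ⊔ Q := by
      have : c = (x : Ω) * q⁻¹ := by rw [← hcq, mul_inv_cancel_right]
      rw [this]
      exact mul_mem (Subgroup.mem_sup_left x.2) (Subgroup.mem_sup_right (inv_mem hq))
    have hψc : ψ ⟨c, hc'⟩ ∈ A := by
      refine ⟨StronglyClosed.apply_mem (hsc i.succ) hψ hcA.1,
        mem_centralizerIn.2 ⟨hom_apply_mem hψ _, fun y hy => ?_⟩⟩
      obtain ⟨z, hz, rfl⟩ := hψQ.ge hy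
      rw [← map_mul, ← map_mul]
      exact congrArg ψ (Subtype.ext (hcomm c hcA z hz).eq.symm)
    rw [← hψR x, show Subgroup.inclusion le_sup_left x =
      (⟨c, hc'⟩ : ↥(R ⊔ Q)) * ⟨q, Subgroup.mem_sup_right hq⟩ from Subtype.ext hcq.symm, map_mul]
    exact Subgroup.mul_mem_sup hψc (hψQ.le ⟨_, hq, rfl⟩)
  obtain ⟨m, Cs, hC0, hClast, hCmono, hCsc, hCc⟩ := IsNormal.exists_series hS hQn
  have hCQ : ∀ j, Cs j ≤ Q := fun j => hClast ▸ hCmono (Fin.le_last j)
  have hnormal : F.IsNormal (A ⊔ Q) := by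
    refine isNormal_of_series hS hF hU (Fin.snoc Cs (A ⊔ Q) : Fin (m + 1 + 1) → Subgroup Ω)
      ?_ ?_ ?_ (fun j => ?_) (fun j => ?_)
    · rw [← Fin.castSucc_zero, Fin.snoc_castSucc, hC0]
    · rw [Fin.snoc_last]
    · refine Fin.monotone_iff_le_succ.2 fun j => ?_
      induction j using Fin.lastCases with
      | last =>
          rw [Fin.succ_last, Fin.snoc_last, Fin.snoc_castSucc, hClast]
          exact le_sup_right
      | cast k =>
          rw [← Fin.castSucc_succ, Fin.snoc_castSucc, Fin.snoc_castSucc]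
          exact hCmono (Fin.castSucc_le_succ k)
    · induction j using Fin.lastCases with
      | last =>
          rw [Fin.succ_last, Fin.snoc_last, Fin.snoc_castSucc, hClast, Subgroup.commutator_le]
          intro u hu v hv
          obtain ⟨c, hcA, q, hq, rfl⟩ := hdec u hu
          obtain ⟨d, hdA, r, hr, rfl⟩ := hdec v hv
          have hcd : ⁅c, d⁆ ∈ Q := hi ⟨hc i (Subgroup.commutator_mem_commutator hcA.1 hdA.1),
            C.mul_mem (C.mul_mem (C.mul_mem hcA.2 hdA.2) (C.inv_mem hcA.2)) (C.inv_mem hdA.2)⟩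
          have hqr : ⁅q, r⁆ ∈ Q :=
            Q.mul_mem (Q.mul_mem (Q.mul_mem hq hr) (Q.inv_mem hq)) (Q.inv_mem hr)
          have hcdc : ∀ y ∈ Q, Commute c y ∧ Commute d y := fun y hy =>
            ⟨hcomm c hcA y hy, hcomm d hdA y hy⟩
          have this : ⁅c * q, d * r⁆ = ⁅c, d⁆ * ⁅q, r⁆ := by
            have e1 : Commute q d := ((hcdc q hq).2).symm
            have e2 : Commute c⁻¹ r⁻¹ := (hcdc r hr).1.inv_inv
            have e3 : Commute ⁅q, r⁆ (c⁻¹ * d⁻¹) :=
              ((hcdc _ hqr).1.inv_left.mul_left (hcdc _ hqr).2.inv_left).symm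
            calc ⁅c * q, d * r⁆ = c * (q * d) * r * q⁻¹ * (c⁻¹ * r⁻¹) * d⁻¹ := by
                  simp only [commutatorElement_def, mul_inv_rev, mul_assoc]
              _ = c * (d * q) * r * q⁻¹ * (r⁻¹ * c⁻¹) * d⁻¹ := by rw [e1.eq, e2.eq]
              _ = c * d * (⁅q, r⁆ * (c⁻¹ * d⁻¹)) := by
                  simp only [commutatorElement_def, mul_assoc]
              _ = c * d * ((c⁻¹ * d⁻¹) * ⁅q, r⁆) := by rw [e3.eq]
              _ = ⁅c, d⁆ * ⁅q, r⁆ := by simp only [commutatorElement_def, mul_assoc]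
          rw [this]
          exact Q.mul_mem hcd hqr
      | cast k =>
          rw [← Fin.castSucc_succ, Fin.snoc_castSucc, Fin.snoc_castSucc, Subgroup.commutator_le]
          intro x hx v hv
          obtain ⟨d, hdA, r, hr, rfl⟩ := hdec v hv
          have h1 : ⁅x, d⁆ = 1 :=
            commutatorElement_eq_one_iff_mul_comm.2 (hcomm d hdA x (hCQ _ hx)).eq.symm
          have hxr : ⁅x, r⁆ ∈ Cs k.castSucc := hCc k (Subgroup.commutator_mem_commutator hx hr)
          rw [commutatorElement_mul_right_eq_mul_conj, h1, one_mul]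
          rw [(hcomm d hdA _ (hCQ _ hxr)).eq, mul_inv_cancel_right]
          exact hxr
    · rw [Fin.snoc_castSucc]
      exact StronglyClosed.weaklyClosed (hCsc j)
  exact hi' (le_sup_left.trans (le_core hnormal))

end CfsgLib.Fusion
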