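import Cfsg.Agent.Lib.Fusion.Series

/-!
Invariance and strong invariance of a subsystem.
-/

set_option autoImplicit false

namespace CfsgLib.Fusion

open Cfsg Cfsg.FusionSystem

variable {Ω : Type*} [Group Ω] {S T : Subgroup Ω} {F : FusionSystem S} {E : FusionSystem T} {p : ℕ}

/-- Invariance of a subsystem under the automorphisms of the group it is over. -/
def AutInvariant (E : FusionSystem T) (F : FusionSystem S) : Prop :=
  ∀ (Q : Subgroup Ω) (f : Q →* Ω), f ∈ E.Hom Q → ∀ α ∈ F.autGroup T,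
    ∃ χ ∈ E.Hom ((Q.subgroupOf T).map (T.subtype.comp α.toMonoidHom)),
      ∀ (x : T) (hxQ : (x : Ω) ∈ Q) (hfx : f ⟨x, hxQ⟩ ∈ T)
        (h : ((α x : T) : Ω) ∈ (Q.subgroupOf T).map (T.subtype.comp α.toMonoidHom)),
        χ ⟨α x, h⟩ = ((α ⟨f ⟨x, hxQ⟩, hfx⟩ : T) : Ω)

/-- A map is a map of `E` followed by an automorphism of `T`. -/
def FrattiniMap (E : FusionSystem T) (F : FusionSystem S) {P : Subgroup Ω} (φ : P →* Ω) : Prop :=
  ∃ α ∈ F.autGroup T, ∃ φ₀ ∈ E.Hom P, ∀ (x : P) (hx : φ₀ x ∈ T), φ x = ((α ⟨φ₀ x, hx⟩ : T) : Ω)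

theorem frattiniMap_of_mem {P : Subgroup Ω} {φ : P →* Ω} (hφ : φ ∈ E.Hom P) : FrattiniMap E F φ :=
  ⟨1, one_mem _, φ, hφ, fun _ _ => rfl⟩

theorem frattiniMap_of_aut {P : Subgroup Ω} {φ : P →* Ω} (hPT : P ≤ T) {α : MulAut T}
    (hα : α ∈ F.autGroup T) (h : ∀ x : P, φ x = (α (Subgroup.inclusion hPT x) : Ω)) :
    FrattiniMap E F φ :=
  ⟨α, hα, P.subtype, incl_mem hPT, fun x _ => h x⟩

theorem FrattiniMap.restrict {P R : Subgroup Ω} {φ : P →* Ω} (h : FrattiniMap E F φ) (hR : R ≤ P)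
    {χ : R →* Ω} (hχ : ∀ x : R, χ x = φ ⟨x, hR x.2⟩) : FrattiniMap E F χ := by
  obtain ⟨α, hα, φ₀, hφ₀, hv⟩ := h
  exact ⟨α, hα, _, restrict_mem hφ₀ hR, fun x hx => (hχ x).trans (hv _ hx)⟩

theorem FrattiniMap.comp (hinv : AutInvariant E F) {P Q : Subgroup Ω} {φ : P →* Ω} {ψ : Q →* Ω}
    (hφ : FrattiniMap E F φ) (hψ : FrattiniMap E F ψ) (h : ∀ x, φ x ∈ Q) {χ : P →* Ω}
    (hχ : ∀ x, χ x = ψ ⟨φ x, h x⟩) : FrattiniMap E F χ := by
  obtain ⟨α, hα, e, he, hev⟩ := hφ
  obtain ⟨β, hβ, f, hf, hfv⟩ := hψ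
  obtain ⟨f', hf', hf'v⟩ := hinv Q f hf α⁻¹ (Subgroup.inv_mem _ hα)
  have hmem : ∀ x : P, e x ∈ (Q.subgroupOf T).map (T.subtype.comp (α⁻¹).toMonoidHom) := fun x =>
    ⟨α ⟨e x, hom_apply_mem he x⟩, show ((α ⟨e x, hom_apply_mem he x⟩ : T) : Ω) ∈ Q by
      rw [← hev x (hom_apply_mem he x)]
      exact h x, by simp⟩
  refine ⟨β * α, Subgroup.mul_mem _ hβ hα, _, E.comp_mem he hf' hmem, fun x hx => ?_⟩
  have h1 := hev x (hom_apply_mem he x)
  set y : T := α ⟨e x, hom_apply_mem he x⟩ with hy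
  have hyQ : (y : Ω) ∈ Q := by rw [← h1]; exact h x
  have hfy : f ⟨y, hyQ⟩ ∈ T := hom_apply_mem hf _
  have h2 := hf'v y hyQ hfy ⟨y, hyQ, rfl⟩
  have h3 : (⟨_, hx⟩ : T) = α⁻¹ ⟨f ⟨y, hyQ⟩, hfy⟩ := by
    refine Subtype.ext ?_
    rw [← h2]
    show f' ⟨e x, hmem x⟩ = _
    congr 1
    exact Subtype.ext (by simp [hy])
  rw [hχ, h3, MulAut.mul_apply, MulAut.apply_inv_self]
  have h4 := hfv ⟨y, hyQ⟩ hfy
  rw [← h4]
  congr 1
  exact Subtype.ext h1

theorem FrattiniMap.inv (hinv : AutInvariant E F) {P R : Subgroup Ω} {e : P ≃* R}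
    (hR : R ≤ T) (h : FrattiniMap E F (isoHom e)) : FrattiniMap E F (isoHom e.symm) := by
  obtain ⟨α, hα, φ₀, hφ₀, hv⟩ := h
  obtain ⟨θ, hθ, -, hθv, -⟩ := exists_inv hφ₀ rfl
  have hmem : ∀ y : R, ((T.subtype.comp (α⁻¹).toMonoidHom).comp (Subgroup.inclusion hR)) y ∈
      φ₀.range := fun y => by
    refine ⟨e.symm y, ?_⟩
    have := hv (e.symm y) (hom_apply_mem hφ₀ _)
    simp only [isoHom_apply, MulEquiv.apply_symm_apply] at this
    have h1 : (⟨φ₀ (e.symm y), hom_apply_mem hφ₀ _⟩ : T) = α⁻¹ (Subgroup.inclusion hR y) := by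
      apply α.injective
      rw [MulAut.apply_inv_self]
      exact Subtype.ext this.symm
    exact congrArg Subtype.val h1
  refine FrattiniMap.comp hinv (frattiniMap_of_aut hR (Subgroup.inv_mem _ hα) fun _ => rfl)
    (frattiniMap_of_mem hθ) hmem fun y => ?_
  have := hv (e.symm y) (hom_apply_mem hφ₀ _)
  simp only [isoHom_apply, MulEquiv.apply_symm_apply] at this
  have h1 : (⟨φ₀ (e.symm y), hom_apply_mem hφ₀ _⟩ : T) = α⁻¹ (Subgroup.inclusion hR y) := by
    apply α.injective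
    rw [MulAut.apply_inv_self]
    exact Subtype.ext this.symm
  rw [isoHom_apply]
  refine (hθv (e.symm y) ⟨_, rfl⟩).symm.trans ?_
  congr 1
  exact Subtype.ext (congrArg Subtype.val h1 :)

/-- Strong invariance gives the Frattini condition. -/
theorem frattini_of_invariant [Fact p.Prime] [Finite S] (hS : IsPGroup p S) (hF : F.IsSaturated p)
    (hT : F.StronglyClosed T) (hsub : E.IsSubsystemOf F) (hinv : AutInvariant E F)
    (hnorm : ∀ P : Subgroup Ω, P ≤ T → ∀ a ∈ E.autGroup P, ∀ b ∈ F.autGroup P,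
      b * a * b⁻¹ ∈ E.autGroup P) :
    ∀ (n : ℕ) (P : Subgroup Ω), Nat.card T - Nat.card P ≤ n → P ≤ T →
      ∀ φ ∈ F.Hom P, FrattiniMap E F φ := by
  have := finite_le hT.1
  intro n
  induction n with
  | zero =>
      intro P hle hPT φ hφ
      have hP : P = T := Subgroup.eq_of_le_of_card_ge hPT (by omega)
      subst hP
      obtain ⟨a, ha, hav⟩ := exists_iso hφ ((StronglyClosed.weaklyClosed hT).2 _ hφ)
      exact frattiniMap_of_aut le_rfl ((mem_autGroup_iff_isoIn hT.1).2 ha) fun x => (hav x).symm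
  | succ n ih =>
      intro P hle hPT φ hφ
      rcases eq_or_lt_of_le hPT with hPT' | hPT'
      · exact ih P (by rw [hPT']; omega) hPT φ hφ
      obtain ⟨d, hd, hdv⟩ := exists_iso hφ rfl
      obtain ⟨R, hPR, hRn⟩ := exists_fullyNormalized (F := F) (hPT.trans hT.1)
      have hconjT : ∀ {A : Subgroup Ω}, F.IsConj P A → A ≤ T := by
        rintro A ⟨χ, hχ, rfl⟩ _ ⟨x, rfl⟩
        exact StronglyClosed.apply_mem hT hχ (hPT x.2)
      have hRT : R ≤ T := hconjT hPR
      have hP'' : φ.range ≤ T := hconjT hd.isConj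
      have hup : ∀ A : Subgroup Ω, A ≤ T → Nat.card A = Nat.card P →
          A < normalizerIn T A ∧ Nat.card T - Nat.card (normalizerIn T A) ≤ n := by
        intro A hA hcA
        have hne : A < T := lt_of_le_of_ne hA fun e => by
          subst e
          exact hPT'.ne (Subgroup.eq_of_le_of_card_ge hPT hcA.le)
        have hlt := lt_normalizerIn (hS.to_le hT.1) hne
        have := finite_le ((normalizerIn_le (S := T) A).trans hT.1)
        have : Nat.card A < Nat.card (normalizerIn T A) :=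
          lt_of_le_of_ne (Subgroup.card_le_of_le hlt.le) fun e =>
            hlt.ne (Subgroup.eq_of_le_of_card_ge hlt.le e.ge)
        exact ⟨hlt, by omega⟩
      have h₁ := IsSaturated.fullyAutomized hS hF hRn
      have h₂ := IsSaturated.receptive hS hF (IsSaturated.fullyCentralized hS hF hRn)
      have hTN : ∀ A : Subgroup Ω, normalizerIn T A ≤ normalizerIn S A :=
        fun A => inf_le_inf_right _ hT.1
      have key : ∀ A : Subgroup Ω, A ≤ T → F.IsConj A R →
          ∃ a : A ≃* R, IsoIn F a ∧ FrattiniMap E F (isoHom a) := by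
        intro A hA hAR
        obtain ⟨f, hf, -, himg⟩ := exists_normalizer_map hS h₁ h₂ hAR
        have hAS := hA.trans hT.1
        obtain ⟨a, ha, hav⟩ := exists_iso (P := A) (Q := R)
          (restrict_mem hf (le_normalizerIn hAS)) (by rw [range_restrict, himg])
        obtain ⟨hlt, hcard⟩ := hup A hA ((isConj_card hAR).trans (isConj_card hPR).symm)
        exact ⟨a, ha, (ih _ hcard (normalizerIn_le A) _ (restrict_mem hf (hTN A))).restrict hlt.le
          fun x => hav x⟩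
      obtain ⟨a, ha, haE⟩ := key P hPT hPR
      obtain ⟨b, hb, hbE⟩ := key φ.range hP'' (isConj_trans (isConj_symm hd.isConj) hPR)
      set β : MulAut R := a.symm.trans (d.trans b) with hβ
      have hRS := hRn.1
      have hβF : β ∈ F.autGroup R :=
        (mem_autGroup_iff_isoIn hRS).2 (ha.symm.trans (hd.trans hb))
      have hfin := finite_mulAut_of_le (S := S) hRS
      set H := E.autGroup R with hH
      have hHF : H ≤ F.autGroup R := fun x hx =>
        (mem_autGroup_iff hRS).2 (hsub R ((mem_autGroup_iff hRT).1 hx))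
      set W := autInducedBy S R ⊓ H with hW
      have hWp : IsPGroup p W := (isPGroup_autInducedBy hS).to_le inf_le_left
      obtain ⟨W', hWW', hW'H, hW'p, hW'syl⟩ :=
        exists_isSylowIn_ge (K := H) (X := W) inf_le_right hWp
      obtain ⟨g, hg, hgW⟩ := IsSylowIn.exists_conj_mem h₁.2 (hW'H.trans hHF) hW'p
      have hWsyl : W' = W := by
        refine (Subgroup.eq_of_le_of_card_ge hWW' ?_).symm
        have e : Nat.card (W'.map (MulAut.conj g).toMonoidHom) = Nat.card W' :=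
          Subgroup.card_map_of_injective (MulAut.conj g).injective
        rw [← e]
        refine Subgroup.card_le_of_le ?_
        rintro _ ⟨w, hw, rfl⟩
        exact ⟨hgW w hw, hnorm R hRT w (hW'H hw) g hg⟩
      rw [hWsyl] at hW'syl
      obtain ⟨k, hk, hkW⟩ := IsSylowIn.exists_conj_mem hW'syl
        (X := W.map (MulAut.conj β).toMonoidHom)
        (by rintro _ ⟨w, hw, rfl⟩; exact hnorm R hRT w hw.2 β hβF) (hWp.map _)
      set γ := k * β with hγ
      have hγF : γ ∈ F.autGroup R := Subgroup.mul_mem _ (hHF hk) hβF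
      obtain ⟨hlt, hcard⟩ := hup R hRT (isConj_card hPR).symm
      have hext : normalizerIn T R ≤ extender S R (isoHom (γ : R ≃* R)) := by
        intro z hz
        let c : MulAut R := R.normalizerMonoidHom ⟨z, hz.2⟩
        have hcW : c ∈ W := ⟨mem_autInducedBy_iff.2 ⟨z, hT.1 hz.1, fun x => rfl⟩,
          autInducedBy_le_autGroup hRT (mem_autInducedBy_iff.2 ⟨z, hz.1, fun x => rfl⟩)⟩
        obtain ⟨h, hh, hhv⟩ := mem_autInducedBy_iff.1 (hkW _ ⟨c, hcW, rfl⟩).1
        refine mem_extender_iff.2 ⟨hT.1 hz.1, hz.2, h, hh, fun x hx => ?_⟩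
        have h3 := hhv (γ x)
        have h4 : (⟨z * (x : Ω) * z⁻¹, hx⟩ : R) = c x := Subtype.ext rfl
        rw [isoHom_apply, isoHom_apply, h4, ← h3, hγ]
        simp [MulAut.mul_apply]
      obtain ⟨ψ, hψ, hag⟩ :=
        exists_extension h₂ ((mem_autGroup_iff_isoIn hRS).1 hγF) hlt.le hext
      have hγE : FrattiniMap E F (isoHom (γ : R ≃* R)) :=
        (ih _ hcard (normalizerIn_le R) ψ hψ).restrict hlt.le fun x => (hag x).symm
      have hβE : FrattiniMap E F (isoHom (β : R ≃* R)) := by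
        refine FrattiniMap.comp hinv hγE
          (frattiniMap_of_mem ((mem_autGroup_iff hRT).1 (Subgroup.inv_mem _ hk)))
          (fun x => (γ x).2) fun x => ?_
        show _ = ((k⁻¹ (γ x) : R) : Ω)
        rw [hγ, MulAut.mul_apply, MulAut.inv_apply_self]
        rfl
      have h1 : FrattiniMap E F (isoHom (a.trans (β : R ≃* R))) :=
        FrattiniMap.comp hinv haE hβE (fun x => (a x).2) fun x => rfl
      refine FrattiniMap.comp hinv h1 (hbE.inv hinv hRT) (fun x => (β (a x)).2) fun x => ?_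
      rw [isoHom_apply, ← hdv]
      congr 1
      apply b.injective
      simp [hβ]

end CfsgLib.Fusion
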