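import Cfsg.Agent.Lib.Fusion.Normal
import Cfsg.Agent.Lib.Fusion.Saturated

/-!
Fully centralized and fully normalized subgroups in subsystems on strongly closed subgroups.
-/

set_option autoImplicit false

namespace CfsgLib.Fusion

open Cfsg Cfsg.FusionSystem

variable {Ω : Type*} [Group Ω] {S : Subgroup Ω} {F : FusionSystem S} {p : ℕ}

theorem isConj_of_subsystem {T : Subgroup Ω} {F' : FusionSystem T} (h : F'.IsSubsystemOf F)
    {P Q : Subgroup Ω} (hPQ : F'.IsConj P Q) : F.IsConj P Q :=
  ⟨_, h _ hPQ.choose_spec.1, hPQ.choose_spec.2⟩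

theorem fullyCentralized_subsystem [Fact p.Prime] [Finite S] (hS : IsPGroup p S)
    (hF : F.IsSaturated p) {T : Subgroup Ω} (hT : F.StronglyClosed T) {F' : FusionSystem T}
    (hsub : F'.IsSubsystemOf F) {Q : Subgroup Ω} (hQT : Q ≤ T) (hQ : F.IsFullyCentralized Q) :
    F'.IsFullyCentralized Q := by
  refine ⟨hQT, fun R hR => ?_⟩
  obtain ⟨e, he⟩ := isConj_iff.1 (isConj_symm (isConj_of_subsystem hsub hR))
  obtain ⟨ψ, hψ, hag⟩ := exists_extension (IsSaturated.receptive hS hF hQ) he le_sup_left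
    (sup_le_extender he)
  have := finite_le hT.1
  have := finite_le (centralizerIn_le (S := T) Q)
  have hle : centralizerIn T R ≤ centralizerIn S R := fun x hx => ⟨hT.1 hx.1, hx.2⟩
  refine Nat.card_le_card_of_injective (fun x : centralizerIn T R =>
    (⟨ψ ⟨x, le_sup_right (a := R) (hle x.2)⟩,
      StronglyClosed.apply_mem hT hψ x.2.1,
      (extension_mem_centralizerIn hψ le_sup_left hag _ (hle x.2)).2⟩ : centralizerIn T Q))
    fun a b h => ?_
  have h' := F.injective_of_mem hψ (congrArg Subtype.val h)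
  exact Subtype.ext (congrArg Subtype.val h' :)

theorem fullyNormalized_subsystem [Fact p.Prime] [Finite S] (hS : IsPGroup p S)
    (hF : F.IsSaturated p) {T : Subgroup Ω} (hT : F.StronglyClosed T) {F' : FusionSystem T}
    (hsub : F'.IsSubsystemOf F) {Q : Subgroup Ω} (hQT : Q ≤ T) (hQ : F.IsFullyNormalized Q) :
    F'.IsFullyNormalized Q := by
  refine ⟨hQT, fun R hR => ?_⟩
  obtain ⟨φ, hφ, hmem, -⟩ := exists_normalizer_map hS (IsSaturated.fullyAutomized hS hF hQ)
    (IsSaturated.receptive hS hF (IsSaturated.fullyCentralized hS hF hQ))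
    (isConj_symm (isConj_of_subsystem hsub hR))
  have := finite_le hT.1
  have := finite_le (normalizerIn_le (S := T) Q)
  have hle : normalizerIn T R ≤ normalizerIn S R := fun x hx => ⟨hT.1 hx.1, hx.2⟩
  refine Nat.card_le_card_of_injective (fun x : normalizerIn T R =>
    (⟨φ ⟨x, hle x.2⟩, StronglyClosed.apply_mem hT hφ x.2.1, (hmem ⟨x, hle x.2⟩).2⟩ : normalizerIn T Q))
    fun a b h => ?_
  have h' := F.injective_of_mem hφ (congrArg Subtype.val h)
  exact Subtype.ext (congrArg Subtype.val h' :)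

end CfsgLib.Fusion
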