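import Cfsg.Agent.Lib.Fusion.ChainObstruction
import Cfsg.Agent.Lib.Fusion.Series
import Cfsg.Agent.Lib.Core.Basic
import Mathlib.GroupTheory.SemidirectProduct
import Mathlib.GroupTheory.SchurZassenhaus
import Mathlib.FieldTheory.Finite.Basic
import Mathlib.Data.ZMod.Units
import Mathlib.Algebra.Module.ZMod

/-!
Groups all of whose systems have chains of strongly closed subgroups with cyclic steps.
-/

set_option autoImplicit false

namespace CfsgLib.Fusion

open Cfsg Cfsg.FusionSystem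
open scoped commutatorElement

/-- Commuting endomorphisms of exponent `p - 1` have a common eigenvector. -/
theorem exists_common_eigen {p : ℕ} [Fact p.Prime] {V : Type*} [AddCommGroup V] [Module (ZMod p) V]
    [Nontrivial V] {ι : Type*} (T : ι → Module.End (ZMod p) V) (hc : ∀ i j, Commute (T i) (T j))
    (hp1 : ∀ i, T i ^ (p - 1) = 1) (s : Finset ι) :
    ∃ v : V, v ≠ 0 ∧ ∀ i ∈ s, ∃ c : ZMod p, T i v = c • v := by
  classical
  induction s using Finset.induction_on with
  | empty =>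
    obtain ⟨v, hv⟩ := exists_ne (0 : V)
    exact ⟨v, hv, fun i hi => absurd hi (Finset.notMem_empty i)⟩
  | insert a s _ ih =>
    obtain ⟨v, hv, hvs⟩ := ih
    let e : (ZMod p)ˣ → V := fun c =>
      ∑ i ∈ Finset.range (p - 1), ((c⁻¹ : (ZMod p)ˣ) : ZMod p) ^ i • (T a ^ i) v
    have hTe : ∀ c : (ZMod p)ˣ, T a (e c) = (c : ZMod p) • e c := by
      intro c
      let f : ℕ → V := fun i => ((c⁻¹ : (ZMod p)ˣ) : ZMod p) ^ i • (T a ^ i) v
      have hf : f (p - 1) = f 0 := by
        simp only [f, hp1, pow_zero]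
        rw [← Units.val_pow_eq_pow_val,
          show (c⁻¹ : (ZMod p)ˣ) ^ (p - 1) = 1 from ZMod.units_pow_card_sub_one_eq_one p _,
          Units.val_one]
      have hshift : ∑ i ∈ Finset.range (p - 1), f (i + 1) = ∑ i ∈ Finset.range (p - 1), f i := by
        have h1 := Finset.sum_range_succ' f (p - 1)
        rw [Finset.sum_range_succ, hf] at h1
        exact (add_right_cancel h1).symm
      show T a (∑ i ∈ Finset.range (p - 1), f i) = (c : ZMod p) • ∑ i ∈ Finset.range (p - 1), f i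
      conv_rhs => rw [← hshift]
      rw [map_sum, Finset.smul_sum]
      refine Finset.sum_congr rfl fun i _ => ?_
      show T a (((c⁻¹ : (ZMod p)ˣ) : ZMod p) ^ i • (T a ^ i) v) =
        (c : ZMod p) • (((c⁻¹ : (ZMod p)ˣ) : ZMod p) ^ (i + 1) • (T a ^ (i + 1)) v)
      rw [map_smul, ← Module.End.mul_apply, ← pow_succ' (T a), smul_smul]
      congr 1
      rw [pow_succ' ((c⁻¹ : (ZMod p)ˣ) : ZMod p), ← mul_assoc, ← Units.val_mul, mul_inv_cancel,
        Units.val_one, one_mul]
    obtain ⟨c, hcne⟩ : ∃ c, e c ≠ 0 := by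
      by_contra h
      push Not at h
      have hsum : ∑ c : (ZMod p)ˣ, e c = -v := by
        simp only [e]
        rw [Finset.sum_comm]
        rw [Finset.sum_eq_single 0]
        · rw [← Finset.sum_smul]
          have h0 := FiniteField.sum_pow_units (ZMod p) 0
          rw [if_pos (dvd_zero _)] at h0
          simp only [pow_zero] at h0 ⊢
          rw [h0, neg_smul, one_smul]
          rfl
        · intro i hi hi0
          rw [← Finset.sum_smul]
          have h0 := FiniteField.sum_pow_units (ZMod p) i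
          rw [if_neg (fun hd => hi0 (Nat.eq_zero_of_dvd_of_lt hd (by
            rw [ZMod.card]; exact Finset.mem_range.1 hi)))] at h0
          have h1 : ∑ c : (ZMod p)ˣ, ((c⁻¹ : (ZMod p)ˣ) : ZMod p) ^ i = 0 :=
            (Equiv.sum_comp (Equiv.inv (ZMod p)ˣ) (fun c : (ZMod p)ˣ => (c : ZMod p) ^ i)).trans h0
          rw [h1, zero_smul]
        · intro h0
          exact absurd (Finset.mem_range.2 (by have := (Fact.out : p.Prime).two_le; omega)) h0
      rw [Finset.sum_eq_zero fun c _ => h c] at hsum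
      exact hv (neg_eq_zero.1 hsum.symm)
    refine ⟨e c, hcne, fun i hi => ?_⟩
    rcases Finset.mem_insert.1 hi with rfl | hi
    · exact ⟨_, hTe c⟩
    obtain ⟨d, hd⟩ := hvs i hi
    refine ⟨d, ?_⟩
    show T i (∑ j ∈ Finset.range (p - 1), _) = d • ∑ j ∈ Finset.range (p - 1), _
    rw [map_sum, Finset.smul_sum]
    refine Finset.sum_congr rfl fun j _ => ?_
    rw [map_smul, ← Module.End.mul_apply, ((hc i a).pow_right j).eq, Module.End.mul_apply, hd,
      map_smul, smul_comm]

/-- Commuting endomorphisms of exponent `p - 1` fix a line. -/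
theorem exists_common_eigen_mul {p : ℕ} [Fact p.Prime] {W : Type*} [CommGroup W] [Nontrivial W]
    (hW : ∀ w : W, w ^ p = 1) {ι : Type*} [Finite ι] (f : ι → W →* W)
    (hc : ∀ i j w, f i (f j w) = f j (f i w)) (he : ∀ i w, (⇑(f i))^[p - 1] w = w) :
    ∃ w : W, w ≠ 1 ∧ ∀ i, ∃ c : ℕ, f i w = w ^ c := by
  have hWp : ∀ w : Additive W, p • w = 0 := fun w => congrArg Additive.ofMul (hW w.toMul)
  haveI := AddCommGroup.zmodModule (n := p) hWp
  let T : ι → Module.End (ZMod p) (Additive W) := fun i =>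
    (MonoidHom.toAdditive (f i)).toZModLinearMap p
  have hTv : ∀ i w, T i (Additive.ofMul w) = Additive.ofMul (f i w) := fun i w => rfl
  have hpow : ∀ (i : ι) (n : ℕ) (w : W),
      (T i ^ n) (Additive.ofMul w) = Additive.ofMul ((⇑(f i))^[n] w) := by
    intro i n
    induction n with
    | zero => intro w; rfl
    | succ n ih =>
      intro w
      rw [pow_succ', Module.End.mul_apply, ih, Function.iterate_succ_apply', hTv]
  have hTc : ∀ i j, Commute (T i) (T j) := fun i j => LinearMap.ext fun v => by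
    obtain ⟨w, rfl⟩ := Additive.ofMul.surjective v
    rw [Module.End.mul_apply, Module.End.mul_apply, hTv, hTv, hTv, hTv, hc]
  have hTe : ∀ i, T i ^ (p - 1) = 1 := fun i => LinearMap.ext fun v => by
    obtain ⟨w, rfl⟩ := Additive.ofMul.surjective v
    rw [hpow, he]
    rfl
  have := Fintype.ofFinite ι
  obtain ⟨v, hv, hvT⟩ := exists_common_eigen T hTc hTe Finset.univ
  obtain ⟨w, rfl⟩ := Additive.ofMul.surjective v
  refine ⟨w, fun h => hv (by rw [h]; rfl), fun i => ?_⟩
  obtain ⟨c, hci⟩ := hvT i (Finset.mem_univ i)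
  rw [← ZMod.natCast_zmod_val c, Nat.cast_smul_eq_nsmul, hTv, ← ofMul_pow] at hci
  exact ⟨c.val, Additive.ofMul.injective hci⟩

/-- Abelian automorphism groups of exponent `p - 1` fix a line in every invariant section. -/
theorem exists_invariant_step {X : Type*} [Group X] [Finite X] {p : ℕ} [Fact p.Prime]
    (hX : IsPGroup p X) (K : Subgroup (MulAut X)) (hKc : ∀ a ∈ K, ∀ b ∈ K, a * b = b * a)
    (hKe : ∀ a ∈ K, a ^ (p - 1) = 1) (U : Subgroup X) [U.Normal] (hU : U ≠ ⊤)
    (hinv : ∀ a ∈ K, ∀ u ∈ U, a u ∈ U) :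
    ∃ x : X, x ∉ U ∧ x ^ p ∈ U ∧ (∀ g : X, g * x * g⁻¹ * x⁻¹ ∈ U) ∧
      ∀ a ∈ K, a x ∈ U ⊔ Subgroup.zpowers x := by
  classical
  have hp : p.Prime := Fact.out
  let Q := X ⧸ U
  have hQp : IsPGroup p Q := hX.to_quotient U
  have : Nontrivial Q := QuotientGroup.nontrivial_iff.2 hU
  let W : Subgroup Q :=
    { carrier := {v | v ∈ Subgroup.center Q ∧ v ^ p = 1}
      one_mem' := ⟨one_mem _, one_pow p⟩
      mul_mem' := fun {a b} ha hb => ⟨mul_mem ha.1 hb.1, by
        rw [(show Commute a b from (Subgroup.mem_center_iff.1 hb.1 a)).mul_pow, ha.2, hb.2,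
          one_mul]⟩
      inv_mem' := fun {a} ha => ⟨inv_mem ha.1, by rw [inv_pow, ha.2, inv_one]⟩ }
  have hWc : ∀ a b : W, a * b = b * a := fun a b =>
    Subtype.ext (Subgroup.mem_center_iff.1 b.2.1 a)
  letI : CommGroup W := { (inferInstance : Group W) with mul_comm := hWc }
  have : Nontrivial W := by
    have hZ : Nontrivial (Subgroup.center Q) := hQp.center_nontrivial
    obtain ⟨k, hk⟩ := IsPGroup.iff_card.1 (hQp.to_subgroup (Subgroup.center Q))
    have hk0 : k ≠ 0 := fun h => by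
      rw [h, pow_zero] at hk
      exact absurd hk (Finite.one_lt_card_iff_nontrivial.2 hZ).ne'
    obtain ⟨z, hz⟩ := exists_prime_orderOf_dvd_card' (G := Subgroup.center Q) p
      (hk ▸ dvd_pow_self p hk0)
    refine ⟨⟨(z : Q), z.2, congrArg Subtype.val (hz ▸ pow_orderOf_eq_one z :)⟩, 1, fun h => ?_⟩
    have h1 : z = 1 := Subtype.ext (congrArg (fun w : W => (w : Q)) h)
    rw [h1, orderOf_one] at hz
    exact hp.one_lt.ne hz
  have hmapK : ∀ a : K, U ≤ U.comap (a : MulAut X).toMonoidHom := fun a u hu => hinv a a.2 u hu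
  let f : K → (W →* W) := fun a =>
    ((QuotientGroup.map U U (a : MulAut X).toMonoidHom (hmapK a)).comp
      W.subtype).codRestrict W fun w => by
      refine ⟨Subgroup.mem_center_iff.2 fun q => ?_, ?_⟩
      · obtain ⟨y, rfl⟩ := QuotientGroup.mk_surjective q
        have hy : (y : Q) = QuotientGroup.map U U (a : MulAut X).toMonoidHom
            (hmapK a) (((a : MulAut X)⁻¹ y : X) : Q) :=
          (congrArg QuotientGroup.mk (MulAut.apply_inv_self _ (a : MulAut X) y)).symm
        rw [hy, MonoidHom.comp_apply, ← map_mul, ← map_mul]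
        exact congrArg _ (Subgroup.mem_center_iff.1 w.2.1 _)
      · rw [← map_pow]
        show QuotientGroup.map U U _ (hmapK a) ((w ^ p : W) : Q) = 1
        rw [show w ^ p = 1 from Subtype.ext w.2.2]
        exact map_one _
  have hf : ∀ (a : K) (y : X) (hy : (y : Q) ∈ W), ((f a ⟨_, hy⟩ : W) : Q) = (((a : MulAut X) y : X) : Q) :=
    fun a y hy => rfl
  have hit : ∀ (a : K) (n : ℕ) (y : X) (hy : (y : Q) ∈ W),
      (((⇑(f a))^[n] ⟨_, hy⟩ : W) : Q) = ((((a : MulAut X) ^ n) y : X) : Q) := by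
    intro a n y hy
    induction n with
    | zero => rfl
    | succ n ih =>
      rw [Function.iterate_succ_apply', pow_succ', MulAut.mul_apply]
      show QuotientGroup.map U U _ (hmapK a) ((((⇑(f a))^[n] ⟨_, hy⟩ : W)) : Q) = _
      rw [ih]
      rfl
  have hfinK : Finite (MulAut X) :=
    Finite.of_injective (fun g => (g : X → X)) DFunLike.coe_injective
  obtain ⟨v, hv, hvT⟩ := exists_common_eigen_mul (p := p) (fun w : W => Subtype.ext w.2.2) f
    (fun a b w => by
      obtain ⟨q, hq⟩ := w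
      obtain ⟨y, rfl⟩ := QuotientGroup.mk_surjective q
      refine Subtype.ext ?_
      show (((a : MulAut X) ((b : MulAut X) y) : X) : Q) = (((b : MulAut X) ((a : MulAut X) y) : X) : Q)
      rw [← MulAut.mul_apply, hKc _ a.2 _ b.2, MulAut.mul_apply])
    (fun a w => by
      obtain ⟨q, hq⟩ := w
      obtain ⟨y, rfl⟩ := QuotientGroup.mk_surjective q
      refine Subtype.ext ?_
      rw [hit, hKe _ a.2, MulAut.one_apply])
  obtain ⟨q, hq⟩ := v
  obtain ⟨x, rfl⟩ := QuotientGroup.mk_surjective q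
  refine ⟨x, fun hxU => hv ?_, ?_, fun g => ?_, fun a ha => ?_⟩
  · exact Subtype.ext ((QuotientGroup.eq_one_iff x).2 hxU)
  · have := hq.2
    rw [← QuotientGroup.mk_pow, QuotientGroup.eq_one_iff] at this
    exact this
  · rw [← QuotientGroup.eq_one_iff, QuotientGroup.mk_mul, QuotientGroup.mk_mul,
      QuotientGroup.mk_mul, QuotientGroup.mk_inv, QuotientGroup.mk_inv,
      Subgroup.mem_center_iff.1 hq.1, mul_inv_cancel_right, mul_inv_cancel]
  · obtain ⟨c, hc⟩ := hvT ⟨a, ha⟩
    have h1 : ((a x : X) : Q) = ((x : Q)) ^ c := congrArg Subtype.val hc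
    rw [← QuotientGroup.mk_pow, eq_comm, QuotientGroup.eq] at h1
    have h2 := (U ⊔ Subgroup.zpowers x).mul_mem
      (Subgroup.mem_sup_right (Subgroup.pow_mem _ (Subgroup.mem_zpowers x) c))
      (Subgroup.mem_sup_left (T := Subgroup.zpowers x) h1)
    rwa [mul_inv_cancel_left] at h2

/-- Subgroups of equal order in a finite cyclic group are equal. -/
theorem eq_of_card_eq_of_isCyclic {C : Type*} [Group C] [Finite C] [IsCyclic C] {A B : Subgroup C}
    (h : Nat.card A = Nat.card B) : A = B := by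
  classical
  letI := IsCyclic.commGroup (α := C)
  have := Fintype.ofFinite C
  suffices key : ∀ A' : Subgroup C,
      Finset.univ.filter (fun x : C => x ^ Nat.card A' = 1) = Finset.univ.filter (· ∈ A') by
    ext x
    have h1 := key A
    rw [h, key B] at h1
    simpa using (Finset.ext_iff.1 h1 x).symm
  intro A'
  refine (Finset.eq_of_subset_of_card_le (fun x hx => ?_) ?_).symm
  · rw [Finset.mem_filter] at hx ⊢
    exact ⟨Finset.mem_univ _, congrArg Subtype.val (pow_card_eq_one' (x := (⟨x, hx.2⟩ : A')))⟩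
  · refine (IsCyclic.card_pow_eq_one_le Nat.card_pos).trans ?_
    rw [Nat.card_eq_fintype_card, Fintype.card_subtype]

universe u

variable {Ω : Type u} [Group Ω] {S : Subgroup Ω} {F : FusionSystem S} {p : ℕ}

/-- A central series of weakly closed subgroups with steps of order at most `p`. -/
def HasWCSeries (F : FusionSystem S) (p : ℕ) (U : Subgroup Ω) : Prop :=
  ∃ (n : ℕ) (C : Fin (n + 1) → Subgroup Ω), C 0 = ⊥ ∧ C (Fin.last n) = U ∧ Monotone C ∧
    (∀ i, F.WeaklyClosed (C i)) ∧ ∀ i : Fin n, ⁅C i.succ, S⁆ ≤ C i.castSucc ∧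
      ∃ x ∈ C i.succ, x ^ p ∈ C i.castSucc ∧ C i.succ ≤ C i.castSucc ⊔ Subgroup.zpowers x

theorem hasWCSeries_bot [Finite S] : HasWCSeries F p ⊥ :=
  ⟨0, fun _ => ⊥, rfl, rfl, monotone_const, fun _ => StronglyClosed.weaklyClosed stronglyClosed_bot,
    fun i => i.elim0⟩

theorem HasWCSeries.snoc {U V : Subgroup Ω} (hU : HasWCSeries F p U) (hV : F.WeaklyClosed V)
    (hUV : U ≤ V) (hc : ⁅V, S⁆ ≤ U) {x : Ω} (hx : x ∈ V) (hxp : x ^ p ∈ U)
    (hle : V ≤ U ⊔ Subgroup.zpowers x) : HasWCSeries F p V := by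
  obtain ⟨n, C, h0, hl, hm, hwc, hst⟩ := hU
  refine ⟨n + 1, Fin.snoc C V, ?_, Fin.snoc_last _ _, Fin.monotone_iff_le_succ.2 fun i => ?_,
    fun i => ?_, fun i => ?_⟩
  · rw [show (0 : Fin (n + 1 + 1)) = (0 : Fin (n + 1)).castSucc from rfl, Fin.snoc_castSucc, h0]
  · induction i using Fin.lastCases with
    | last => rw [Fin.succ_last, Fin.snoc_last, Fin.snoc_castSucc, hl]; exact hUV
    | cast i =>
      rw [← Fin.castSucc_succ, Fin.snoc_castSucc, Fin.snoc_castSucc]
      exact hm (Fin.castSucc_le_succ i)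
  · induction i using Fin.lastCases with
    | last => rw [Fin.snoc_last]; exact hV
    | cast i => rw [Fin.snoc_castSucc]; exact hwc i
  · induction i using Fin.lastCases with
    | last =>
      rw [Fin.succ_last, Fin.snoc_last, Fin.snoc_castSucc, hl]
      exact ⟨hc, x, hx, hxp, hle⟩
    | cast i =>
      rw [← Fin.castSucc_succ, Fin.snoc_castSucc, Fin.snoc_castSucc]
      exact hst i

/-- A cyclic step between strongly closed subgroups refines. -/
theorem HasWCSeries.of_step [Fact p.Prime] [Finite S] (hS : IsPGroup p S) {U V : Subgroup Ω}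
    (hU : HasWCSeries F p U) (hUc : F.StronglyClosed U) (hVc : F.StronglyClosed V) (hUV : U ≤ V)
    {x : Ω} (hV : V = U ⊔ Subgroup.zpowers x) : HasWCSeries F p V := by
  classical
  have hp : p.Prime := Fact.out
  have hVS := hVc.1
  have := finite_le hVS
  have hxV : x ∈ V := hV ▸ Subgroup.mem_sup_right (Subgroup.mem_zpowers x)
  have hUn : (U.subgroupOf V).Normal := ⟨fun u hu v =>
    Subgroup.mem_subgroupOf.2 (conj_mem_of_mem_normalizer
      (StronglyClosed.normal_in hUc (hVS v.2)) (Subgroup.mem_subgroupOf.1 hu))⟩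
  have hcyc : IsCyclic (V ⧸ U.subgroupOf V) := by
    refine ⟨⟨((⟨x, hxV⟩ : V) : V ⧸ U.subgroupOf V), fun q => ?_⟩⟩
    obtain ⟨v, rfl⟩ := QuotientGroup.mk_surjective q
    have hle : V ≤ (U.subgroupOf V ⊔ Subgroup.zpowers (⟨x, hxV⟩ : V)).map V.subtype := by
      rw [Subgroup.map_sup, Subgroup.subgroupOf_map_subtype, inf_eq_left.2 hUV,
        MonoidHom.map_zpowers]
      exact hV.le
    obtain ⟨w, hw, hwv⟩ := hle v.2
    obtain rfl : w = v := Subtype.ext hwv
    obtain ⟨a, ha, b, hb, rfl⟩ := Subgroup.mem_sup_of_normal_left.1 hw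
    obtain ⟨k, rfl⟩ := Subgroup.mem_zpowers_iff.1 hb
    refine Subgroup.mem_zpowers_iff.2 ⟨k, ?_⟩
    rw [QuotientGroup.mk_mul, (QuotientGroup.eq_one_iff a).2 ha, one_mul, QuotientGroup.mk_zpow]
  let W : ℕ → Subgroup Ω := fun k => U ⊔ Subgroup.zpowers (x ^ p ^ k)
  have hWV : ∀ k, W k ≤ V := fun k => sup_le hUV (Subgroup.zpowers_le.2 (V.pow_mem hxV _))
  have hWwc : ∀ k, F.WeaklyClosed (W k) := by
    intro k
    refine ⟨(hWV k).trans hVS, fun φ hφ => ?_⟩
    have := finite_le ((hWV k).trans hVS)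
    set R := φ.range with hR
    have hRV : R ≤ V := by
      rintro _ ⟨y, rfl⟩; exact StronglyClosed.apply_mem hVc hφ (hWV k y.2)
    have hUR : U ≤ R := by
      intro u hu
      have h2 := (StronglyClosed.weaklyClosed hUc).2 _
        (restrict_mem hφ (le_sup_left : U ≤ W k))
      obtain ⟨y, hy⟩ := h2.ge hu
      exact ⟨_, hy⟩
    have hcard : Nat.card R = Nat.card (W k) :=
      (Nat.card_congr (MonoidHom.ofInjective (F.injective_of_mem hφ)).toEquiv).symm
    have himg : ∀ A : Subgroup Ω, U ≤ A → A ≤ V → Nat.card (U.subgroupOf V) *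
        Nat.card ((A.subgroupOf V).map (QuotientGroup.mk' (U.subgroupOf V))) = Nat.card A := by
      intro A hUA hAV
      rw [Core.card_mul_card_map_mk' (U.subgroupOf V) (A.subgroupOf V) (Subgroup.comap_mono hUA),
        Nat.card_congr (Subgroup.subgroupOfEquivOfLe hAV).toEquiv]
    have heq : (R.subgroupOf V).map (QuotientGroup.mk' (U.subgroupOf V)) =
        ((W k).subgroupOf V).map (QuotientGroup.mk' (U.subgroupOf V)) := by
      refine eq_of_card_eq_of_isCyclic (Nat.eq_of_mul_eq_mul_left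
        (Nat.card_pos (α := U.subgroupOf V)) ?_)
      rw [himg R hUR hRV, himg (W k) le_sup_left (hWV k), hcard]
    have h3 := congrArg (Subgroup.comap (QuotientGroup.mk' (U.subgroupOf V))) heq
    rw [Subgroup.comap_map_eq_self, Subgroup.comap_map_eq_self] at h3
    · rw [← Subgroup.map_subgroupOf_eq_of_le hRV, h3, Subgroup.map_subgroupOf_eq_of_le (hWV k)]
    · rw [QuotientGroup.ker_mk']; exact Subgroup.comap_mono le_sup_left
    · rw [QuotientGroup.ker_mk']; exact Subgroup.comap_mono hUR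
  obtain ⟨t, ht⟩ : ∃ t, x ^ p ^ t = 1 := by
    obtain ⟨t, ht⟩ := hS ⟨x, hVS hxV⟩
    exact ⟨t, congrArg Subtype.val ht⟩
  suffices hk : ∀ d k, k + d = t → HasWCSeries F p (W k) by
    have h0 := hk t 0 (zero_add t)
    simp only [W, pow_zero, pow_one] at h0
    rwa [← hV] at h0
  intro d
  induction d with
  | zero =>
    intro k hk
    rw [add_zero] at hk
    show HasWCSeries F p (U ⊔ Subgroup.zpowers (x ^ p ^ k))
    rwa [hk, ht, Subgroup.zpowers_one_eq_bot, sup_bot_eq]
  | succ d ih =>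
    intro k hk
    have hzp : (x ^ p ^ k) ^ p = x ^ p ^ (k + 1) := by rw [← pow_mul, ← pow_succ]
    have hWW : W (k + 1) ≤ W k := sup_le le_sup_left (Subgroup.zpowers_le.2 (hzp ▸
      Subgroup.mem_sup_right (Subgroup.pow_mem _ (Subgroup.mem_zpowers _) p)))
    refine (ih (k + 1) (by omega)).snoc (hWwc k) hWW ?_
      (Subgroup.mem_sup_right (Subgroup.mem_zpowers (x ^ p ^ k)))
      (hzp ▸ Subgroup.mem_sup_right (Subgroup.mem_zpowers _))
      (sup_le (le_sup_left.trans le_sup_left) le_sup_right)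
    -- the step is central
    set A := (W (k + 1)).subgroupOf S with hA
    set B := (W k).subgroupOf S with hB
    have hAn : A.Normal := ⟨fun u hu s =>
      Subgroup.mem_subgroupOf.2 (conj_mem_of_mem_normalizer (WeaklyClosed.normal_in (hWwc (k + 1)) s.2) (Subgroup.mem_subgroupOf.1 hu))⟩
    have hBn : B.Normal := ⟨fun u hu s =>
      Subgroup.mem_subgroupOf.2 (conj_mem_of_mem_normalizer (WeaklyClosed.normal_in (hWwc k) s.2) (Subgroup.mem_subgroupOf.1 hu))⟩
    have := hBn.map (QuotientGroup.mk' A) (QuotientGroup.mk'_surjective A)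
    set z : S := ⟨x ^ p ^ k, hVS (V.pow_mem hxV _)⟩ with hz
    have hBA : B.map (QuotientGroup.mk' A) = Subgroup.zpowers (z : S ⧸ A) := by
      refine le_antisymm ?_ (Subgroup.zpowers_le.2 ⟨z,
        Subgroup.mem_sup_right (Subgroup.mem_zpowers (x ^ p ^ k)), rfl⟩)
      rw [Subgroup.map_le_iff_le_comap, hB]
      show (U ⊔ Subgroup.zpowers (x ^ p ^ k)).subgroupOf S ≤ _
      rw [Subgroup.subgroupOf_sup hUc.1 (Subgroup.zpowers_le.2 (hVS (V.pow_mem hxV _)))]
      refine sup_le (fun u hu => ?_) ?_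
      · rw [Subgroup.mem_comap, QuotientGroup.mk'_apply]
        rw [(QuotientGroup.eq_one_iff u).2 (Subgroup.mem_sup_left hu : (u : Ω) ∈ W (k + 1))]
        exact one_mem _
      · rintro u hu
        obtain ⟨e, he⟩ := Subgroup.mem_zpowers_iff.1 hu
        rw [Subgroup.mem_comap, QuotientGroup.mk'_apply]
        rw [show u = z ^ e from Subtype.ext (by rw [SubgroupClass.coe_zpow]; exact he.symm),
          QuotientGroup.mk_zpow]
        exact Subgroup.zpow_mem_zpowers _ e
    have hzpA : (z : S ⧸ A) ^ p = 1 := by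
      rw [← QuotientGroup.mk_pow, QuotientGroup.eq_one_iff]
      show (x ^ p ^ k) ^ p ∈ W (k + 1)
      rw [hzp]
      exact Subgroup.mem_sup_right (Subgroup.mem_zpowers _)
    have hcen : B.map (QuotientGroup.mk' A) ≤ Subgroup.center (S ⧸ A) := by
      rcases hp.eq_one_or_self_of_dvd _ (orderOf_dvd_of_pow_eq_one hzpA) with h1 | h1
      · rw [hBA, orderOf_eq_one_iff.1 h1, Subgroup.zpowers_one_eq_bot]; exact bot_le
      · exact PGroups.le_center_of_card_prime (hS.to_quotient A)
          (by rw [hBA, Nat.card_zpowers, h1])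
    rw [Subgroup.commutator_le]
    intro w hw s hs
    have hwS : w ∈ S := hVS (hWV k hw)
    have h1 := Subgroup.mem_center_iff.1 (hcen ⟨⟨w, hwS⟩, hw, rfl⟩) ((⟨s, hs⟩ : S) : S ⧸ A)
    have h2 : ((⁅(⟨w, hwS⟩ : S), (⟨s, hs⟩ : S)⁆ : S) : S ⧸ A) = 1 := by
      rw [← QuotientGroup.mk'_apply, map_commutatorElement, commutatorElement_eq_one_iff_mul_comm]
      exact h1.symm
    exact Subgroup.mem_subgroupOf.1 ((QuotientGroup.eq_one_iff (N := A) _).1 h2)

theorem hasWCSeries_of_chain [Fact p.Prime] [Finite S] (hS : IsPGroup p S)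
    (h : HasCyclicChain F S) : HasWCSeries F p S := by
  obtain ⟨m, c, h0, hl, hsc, hst⟩ := h
  suffices ∀ i, HasWCSeries F p (c i) from hl ▸ this (Fin.last m)
  intro i
  induction i using Fin.induction with
  | zero => rw [h0]; exact hasWCSeries_bot
  | succ i ih =>
    obtain ⟨hle, x, -, he⟩ := hst i
    exact HasWCSeries.of_step hS ih (hsc _) (hsc _) hle he

/-- With a chain with cyclic steps the top is normal. -/
theorem isNormal_of_cyclicChain [Fact p.Prime] [Finite S] (hS : IsPGroup p S)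
    (hF : F.IsSaturated p) (h : HasCyclicChain F S) : F.IsNormal S := by
  obtain ⟨n, C, h0, hl, hm, hwc, hst⟩ := hasWCSeries_of_chain hS h
  exact isNormal_of_series hS hF stronglyClosed_top C h0 hl hm (fun i => (hst i).1)
    fun i => hwc _

/-- An automorphism with a stable step: the scalar. -/
theorem exists_scalar {X : Type*} [Group X] {U V : Subgroup X} [U.Normal] {x : X}
    (hle : V ≤ U ⊔ Subgroup.zpowers x) (σ : MulAut X) (hU : ∀ u ∈ U, σ u ∈ U)
    (hV : ∀ v ∈ V, σ v ∈ V) (hx : x ∈ V) :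
    ∃ a : ℤ, ∀ y : X, y ∈ V → ((σ y : X) : X ⧸ U) = (y : X ⧸ U) ^ a := by
  have hmem : ∀ {y : X}, y ∈ V → ∃ e : ℤ, (y : X ⧸ U) = (x : X ⧸ U) ^ e := by
    intro y hy
    obtain ⟨u, hu, v, hv, rfl⟩ := Subgroup.mem_sup_of_normal_left.1 (hle hy)
    obtain ⟨e, rfl⟩ := Subgroup.mem_zpowers_iff.1 hv
    exact ⟨e, by rw [QuotientGroup.mk_mul, (QuotientGroup.eq_one_iff u).2 hu, one_mul,
      QuotientGroup.mk_zpow]⟩
  obtain ⟨a, ha⟩ := hmem (hV x hx)
  refine ⟨a, fun y hy => ?_⟩
  obtain ⟨e, he⟩ := hmem hy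
  have h1 : ((σ y : X) : X ⧸ U) = QuotientGroup.map U U σ.toMonoidHom hU (y : X ⧸ U) := rfl
  rw [h1, he, map_zpow]
  show ((σ x : X) : X ⧸ U) ^ e = _
  rw [ha, ← zpow_mul, ← zpow_mul, mul_comm]

/-- Every system over `S` having a chain bounds the automorphism groups of order prime to `p`. -/
theorem aut_abelian_of_chains [Fact p.Prime] [Finite S] (hS : IsPGroup p S)
    (h : ∀ F : FusionSystem S, F.IsSaturated p → HasCyclicChain F S)
    (H : Subgroup (MulAut S)) (hH : (Nat.card H).Coprime p) :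
    IsMulCommutative H ∧ ∀ a ∈ H, a ^ (p - 1) = 1 := by
  classical
  have hp : p.Prime := Fact.out
  have : Finite (MulAut S) := Finite.of_injective (fun g => (g : S → S)) DFunLike.coe_injective
  haveI : Finite (↥S ⋊[H.subtype] H) := Finite.of_equiv _ SemidirectProduct.equivProd.symm
  set inl : S →* ↥S ⋊[H.subtype] H := SemidirectProduct.inl
  obtain ⟨r, hr⟩ := IsPGroup.iff_card.1 hS
  have hcardR : Nat.card inl.range = p ^ r := by
    rw [← hr]
    exact Nat.card_congr (MonoidHom.ofInjective SemidirectProduct.inl_injective).toEquiv.symm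
  set T : Sylow p (↥S ⋊[H.subtype] H) := Sylow.ofCard inl.range (by
    rw [hcardR, SemidirectProduct.card, hr, Nat.factorization_mul (pow_ne_zero _ hp.ne_zero)
      Nat.card_pos.ne', Finsupp.add_apply, Nat.factorization_pow_self hp,
      Nat.factorization_eq_zero_of_not_dvd (hp.coprime_iff_not_dvd.1 hH.symm), add_zero]) with hT
  set E := realizedSystem S inl SemidirectProduct.inl_injective
  have hEs : E.IsSaturated p := saturated_of_isRealizedBy
    (realizedSystem_isRealizedBy S inl SemidirectProduct.inl_injective) T rfl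
  obtain ⟨n, C, h0, hl, hm, hwc, hst⟩ := hasWCSeries_of_chain hS (h E hEs)
  have hHA : ∀ a ∈ H, a ∈ E.autGroup S := fun a ha => (mem_autGroup_iff le_rfl).2
    ⟨le_rfl, fun s => (a s).2, SemidirectProduct.inr ⟨a, ha⟩, fun s => by
      show inl (a s) = SemidirectProduct.inr ⟨a, ha⟩ * inl s * (SemidirectProduct.inr ⟨a, ha⟩)⁻¹
      rw [← map_inv]
      exact SemidirectProduct.inl_aut (φ := H.subtype) ⟨a, ha⟩ s⟩
  let N : Fin (n + 1) → Subgroup S := fun i => (C i).subgroupOf S
  have hNn : ∀ i, (N i).Normal := fun i => ⟨fun u hu s =>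
    Subgroup.mem_subgroupOf.2 (conj_mem_of_mem_normalizer (WeaklyClosed.normal_in (hwc i) s.2) (Subgroup.mem_subgroupOf.1 hu))⟩
  have hinv : ∀ a ∈ H, ∀ i, ∀ u ∈ N i, a u ∈ N i := fun a ha i u hu =>
    (WeaklyClosed.map_eq (hwc i) le_rfl (hwc i).1 (hHA a ha)).le ⟨u, hu, rfl⟩
  have hkill : ∀ a ∈ H, (∀ i : Fin n, ∀ y ∈ N i.succ, y⁻¹ * a y ∈ N i.castSucc) → a = 1 := by
    intro a ha hstab
    obtain ⟨k, hk⟩ := exists_pow_eq_one_of_stabilizes hS N
      (by simp [N, h0]) (by simp [N, hl]) a (hinv a ha) hstab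
    refine orderOf_eq_one_iff.1 (Nat.eq_one_of_dvd_coprimes (hH.pow_right k) ?_
      (orderOf_dvd_of_pow_eq_one hk))
    exact Subgroup.orderOf_coe (⟨a, ha⟩ : H) ▸ orderOf_dvd_natCard _
  have hsc : ∀ i : Fin n, ∃ (x : S), x ∈ N i.succ ∧ (x ∉ N i.castSucc → x ^ p ∈ N i.castSucc) ∧
      N i.succ ≤ N i.castSucc ⊔ Subgroup.zpowers x := by
    intro i
    obtain ⟨-, x, hx, hxp, hle⟩ := hst i
    refine ⟨⟨x, (hwc _).1 hx⟩, hx, fun _ => hxp, ?_⟩
    refine (Subgroup.comap_mono hle).trans (le_of_eq ?_)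
    show (C i.castSucc ⊔ Subgroup.zpowers x).subgroupOf S = _
    rw [Subgroup.subgroupOf_sup (hwc _).1 (Subgroup.zpowers_le.2 ((hwc _).1 hx))]
    congr 1
    refine Subgroup.map_injective S.subtype_injective ?_
    rw [Subgroup.map_subgroupOf_eq_of_le (Subgroup.zpowers_le.2 ((hwc _).1 hx)),
      MonoidHom.map_zpowers]
    rfl
  refine ⟨⟨⟨fun a b => ?_⟩⟩, fun a ha => hkill _ (H.pow_mem ha _) fun i y hy => ?_⟩
  · refine Subtype.ext (commutatorElement_eq_one_iff_mul_comm.1 (hkill _ ?_ fun i y hy => ?_))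
    · exact H.mul_mem (H.mul_mem (H.mul_mem a.2 b.2) (H.inv_mem a.2)) (H.inv_mem b.2)
    obtain ⟨x, hx, hxp, hle⟩ := hsc i
    have := hNn i.castSucc
    have hs : ∀ σ ∈ H, ∃ c : ℤ, ∀ y : S, y ∈ N i.succ →
        ((σ y : S) : S ⧸ N i.castSucc) = (y : S ⧸ N i.castSucc) ^ c := fun σ hσ =>
      exists_scalar hle σ (hinv σ hσ _) (hinv σ hσ _) hx
    obtain ⟨ca, hca⟩ := hs _ a.2
    obtain ⟨cb, hcb⟩ := hs _ b.2
    obtain ⟨z, hz, rfl⟩ : ∃ z ∈ N i.succ, ((b : MulAut S) * (a : MulAut S)) z = y :=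
      ⟨((b : MulAut S) * (a : MulAut S))⁻¹ y, hinv _ (H.inv_mem (H.mul_mem b.2 a.2)) _ y hy,
        MulAut.apply_inv_self _ _ y⟩
    rw [← MulAut.mul_apply, commutatorElement_def,
      show (a : MulAut S) * (b : MulAut S) * (a : MulAut S)⁻¹ * (b : MulAut S)⁻¹ *
        ((b : MulAut S) * (a : MulAut S)) = (a : MulAut S) * (b : MulAut S) by group,
      ← QuotientGroup.eq, MulAut.mul_apply, MulAut.mul_apply, hcb _ (hinv _ a.2 _ z hz), hca z hz,
      hca _ (hinv _ b.2 _ z hz), hcb z hz, ← zpow_mul, ← zpow_mul, mul_comm]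
  · obtain ⟨x, hx, hxp, hle⟩ := hsc i
    have := hNn i.castSucc
    obtain ⟨c, hc⟩ := exists_scalar hle a (hinv a ha _) (hinv a ha _) hx
    have hpow : ∀ m : ℕ, (((a ^ m) y : S) : S ⧸ N i.castSucc) =
        (y : S ⧸ N i.castSucc) ^ (c ^ m) := by
      intro m
      induction m with
      | zero => simp
      | succ m ih =>
        rw [pow_succ' a, MulAut.mul_apply, hc _ (hinv _ (H.pow_mem ha m) _ y hy), ih, ← zpow_mul,
          pow_succ]
    rw [← QuotientGroup.eq, hpow]
    by_cases hy1 : (y : S ⧸ N i.castSucc) = 1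
    · rw [hy1, one_zpow]
    have hxN : x ∉ N i.castSucc := fun hxN => hy1 ((QuotientGroup.eq_one_iff y).2
      ((hle.trans (sup_le le_rfl (Subgroup.zpowers_le.2 hxN))) hy))
    have hord : orderOf (y : S ⧸ N i.castSucc) = p := by
      refine orderOf_eq_prime ?_ hy1
      obtain ⟨u, hu, v, hv, rfl⟩ := Subgroup.mem_sup_of_normal_left.1 (hle hy)
      obtain ⟨e, rfl⟩ := Subgroup.mem_zpowers_iff.1 hv
      rw [QuotientGroup.mk_mul, (QuotientGroup.eq_one_iff u).2 hu, one_mul, QuotientGroup.mk_zpow,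
        ← zpow_natCast, zpow_comm, zpow_natCast, ← QuotientGroup.mk_pow,
        (QuotientGroup.eq_one_iff _).2 (hxp hxN), one_zpow]
    have hcp : IsCoprime c (p : ℤ) := by
      refine Int.isCoprime_iff_gcd_eq_one.2 ?_
      by_contra hg
      have hd : (p : ℤ) ∣ c := by
        have h1 : Int.gcd c p ∣ p := by exact_mod_cast Int.gcd_dvd_right c (p : ℤ)
        rcases hp.eq_one_or_self_of_dvd _ h1 with h2 | h2
        · exact absurd h2 hg
        · have h3 := Int.gcd_dvd_left c (p : ℤ)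
          rwa [h2] at h3
      obtain ⟨d, rfl⟩ := hd
      have h1 := hc y hy
      rw [zpow_mul, zpow_natCast, show (y : S ⧸ N i.castSucc) ^ p = 1 from
        hord ▸ pow_orderOf_eq_one _, one_zpow] at h1
      have h2 := hinv _ (H.inv_mem ha) _ _ ((QuotientGroup.eq_one_iff _).1 h1)
      rw [MulAut.inv_apply_self] at h2
      exact hy1 ((QuotientGroup.eq_one_iff y).2 h2)
    conv_lhs => rw [← zpow_one (y : S ⧸ N i.castSucc)]
    rw [zpow_eq_zpow_iff_modEq, hord]
    exact (Int.ModEq.pow_card_sub_one_eq_one hp hcp).symm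

/-- Resistance and abelian automisers of exponent `p - 1` give chains. -/
theorem hasCyclicChain_of_resistant [Fact p.Prime] [Finite S] (hS : IsPGroup p S)
    (hF : F.IsSaturated p) (hn : F.IsNormal S)
    (h : ∀ H : Subgroup (MulAut S), (Nat.card H).Coprime p →
      IsMulCommutative H ∧ ∀ a ∈ H, a ^ (p - 1) = 1) : HasCyclicChain F S := by
  classical
  have hp : p.Prime := Fact.out
  have := finite_mulAut_of_le (S := S) le_rfl
  have := finite_le (normalizerIn_le (S := S) S)
  have hfn : F.IsFullyNormalized S := ⟨le_rfl, fun Q _ => Subgroup.card_le_of_le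
    ((normalizerIn_le Q).trans (le_normalizerIn le_rfl))⟩
  set A := F.autGroup S
  obtain ⟨-, P₀, hP₀⟩ := IsSaturated.fullyAutomized hS hF hfn
  rw [autInducedBy_self] at hP₀
  let I := (Inn S).subgroupOf A
  have : I.Normal := inn_subgroupOf_normal F
  have hcop : (Nat.card I).Coprime I.index := by show (Nat.card ((Inn S).subgroupOf A)).Coprime ((Inn S).subgroupOf A).index; rw [← hP₀]; exact P₀.card_coprime_index
  obtain ⟨K₀, hK₀⟩ := Subgroup.exists_right_complement'_of_coprime hcop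
  set K : Subgroup (MulAut S) := K₀.map A.subtype with hK
  obtain ⟨hKc, hKe⟩ := h K (by
    rw [hK, Subgroup.card_map_of_injective A.subtype_injective, ← hK₀.symm.index_eq_card, show I = (Inn S).subgroupOf A from rfl, ← hP₀]
    exact (hp.coprime_iff_not_dvd.2 P₀.not_dvd_index).symm)
  have hKc' : ∀ a ∈ K, ∀ b ∈ K, a * b = b * a := fun a ha b hb =>
    congrArg Subtype.val (hKc.is_comm.comm (⟨a, ha⟩ : K) ⟨b, hb⟩)
  have hdec : ∀ a ∈ A, ∃ g : S, ∃ k ∈ K, a = MulAut.conj g * k := by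
    intro a ha
    have hmem : (⟨a, ha⟩ : A) ∈ ((I ⊔ K₀ : Subgroup A) : Set A) := by
      rw [hK₀.sup_eq_top]; trivial
    rw [Subgroup.normal_mul] at hmem
    obtain ⟨c, ⟨g, hg⟩, k, hk, hck⟩ := Set.mem_mul.1 hmem
    refine ⟨g, k, ⟨k, hk, rfl⟩, ?_⟩
    rw [hg]
    exact (congrArg Subtype.val hck).symm
  suffices hrec : ∀ (m : ℕ) (U : Subgroup S), U.index ≤ m → (∀ a ∈ A, ∀ u ∈ U, a u ∈ U) →
      HasCyclicChain F (U.map S.subtype) → HasCyclicChain F S by
    refine hrec _ ⊥ le_rfl (fun a _ u hu => by rw [Subgroup.mem_bot] at hu ⊢; rw [hu, map_one]) ?_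
    rw [Subgroup.map_bot]
    exact hasCyclicChain_bot
  intro m
  induction m with
  | zero => intro U hm; exact absurd hm (Nat.pos_of_ne_zero Subgroup.index_ne_zero_of_finite).not_ge
  | succ m ih =>
    intro U hm hU hchain
    by_cases htop : U = ⊤
    · rw [htop, ← MonoidHom.range_eq_map, Subgroup.range_subtype] at hchain
      exact hchain
    have : U.Normal := ⟨fun u hu g => hU _ (inn_le_autGroup le_rfl ⟨g, rfl⟩) u hu⟩
    obtain ⟨x, hxU, -, hxc, hxK⟩ := exists_invariant_step hS K hKc' hKe U htop (fun a ha u hu => by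
      obtain ⟨a', ha', rfl⟩ := ha
      exact hU _ a'.2 u hu)
    set V := U ⊔ Subgroup.zpowers x with hV
    have hVA : ∀ a ∈ A, ∀ v ∈ V, a v ∈ V := by
      intro a ha v hv
      suffices hle : V ≤ V.comap a.toMonoidHom from hle hv
      refine sup_le (fun u hu => Subgroup.mem_sup_left (hU a ha u hu)) (Subgroup.zpowers_le.2 ?_)
      obtain ⟨g, k, hk, rfl⟩ := hdec a ha
      show g * k x * g⁻¹ ∈ V
      have hkx := hxK k hk
      obtain ⟨u, hu, w, hw, he⟩ := Subgroup.mem_sup_of_normal_left.1 hkx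
      obtain ⟨e, rfl⟩ := Subgroup.mem_zpowers_iff.1 hw
      have hx' : g * x * g⁻¹ ∈ V := by
        have := V.mul_mem (Subgroup.mem_sup_left (hxc g)) (Subgroup.mem_sup_right (Subgroup.mem_zpowers x))
        rwa [inv_mul_cancel_right] at this
      rw [← he, show g * (u * x ^ e) * g⁻¹ = (g * u * g⁻¹) * (g * x * g⁻¹) ^ e by
        rw [conj_zpow]; group]
      exact V.mul_mem (Subgroup.mem_sup_left ((inferInstance : U.Normal).conj_mem u hu g))
        (V.zpow_mem hx' e)
    have hlt : U < V := left_lt_sup.2 fun hle => hxU (hle (Subgroup.mem_zpowers x))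
    refine ih V (Nat.lt_succ_iff.1 (lt_of_lt_of_le (Subgroup.index_strictAnti hlt) hm)) hVA ?_
    refine hchain.snoc (stronglyClosed_of_topInvariant hn (Subgroup.map_subtype_le V)
      fun α hα s hs => ?_) (Subgroup.map_mono hlt.le) x.2 ?_
    · obtain ⟨v, hv, hvs⟩ := hs
      obtain rfl : v = s := Subtype.ext hvs
      exact ⟨_, hVA α hα v hv, rfl⟩
    · rw [hV, Subgroup.map_sup, MonoidHom.map_zpowers]
      rfl

end CfsgLib.Fusion
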