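import Cfsg.Agent.Lib.PLocal.Factorization

/-!
# The Thompson subgroup inside the Sylow subgroups containing it
-/

set_option autoImplicit false

namespace CfsgLib.Fusion

open Subgroup Cfsg CfsgLib.PLocal

variable {G : Type*} [Group G] [Finite G] {p : ℕ} [Fact p.Prime]

/-- `J(P)` is the Thompson subgroup of every Sylow subgroup containing it. -/
theorem thompsonOf_sylow_eq (P Q : Sylow p G)
    (h : thompsonSubgroupOf p (P : Subgroup G) ≤ (Q : Subgroup G)) :
    thompsonSubgroupOf p (Q : Subgroup G) = thompsonSubgroupOf p (P : Subgroup G) := by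
  obtain ⟨g, hg⟩ := MulAction.exists_smul_eq G P Q
  have hQ : (Q : Subgroup G) = (P : Subgroup G).map (MulAut.conj g).toMonoidHom := by
    rw [← hg]; rfl
  have hle : thompsonSubgroupOf p (P : Subgroup G) ≤ thompsonSubgroupOf p (Q : Subgroup G) := by
    rw [thompsonSubgroupOf, map_le_iff_le_comap]
    refine sSup_le fun B hB => map_le_iff_le_comap.1 ?_
    have hA : B.map (P : Subgroup G).subtype ≤ (Q : Subgroup G) :=
      (map_mono (le_thompson hB)).trans h
    refine fun x hx => ⟨⟨x, hA hx⟩, le_thompson (A := (B.map (P : Subgroup G).subtype).subgroupOf Q)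
      ⟨elementary_comap _ (Q : Subgroup G).subtype_injective (elementary_map _ hB.1),
        fun C hC => ?_⟩ hx, rfl⟩
    have := hB.2 _ (elementary_map (Q.equiv P).toMonoidHom hC)
    rw [card_map_of_injective _ (Q.equiv P).injective] at this
    rwa [Nat.card_congr (subgroupOfEquivOfLe hA).toEquiv,
      card_map_of_injective _ (P : Subgroup G).subtype_injective]
  refine (eq_of_le_of_card_ge hle (le_of_eq ?_)).symm
  rw [hQ, ← thompsonOf_conj, card_map_of_injective _ (MulAut.conj g).injective]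

/-- Burnside's fusion argument at the Thompson subgroup: elements centralised by `J(P)` that are
conjugate in the group are conjugate in its normaliser. -/
theorem exists_normalizer_thompson_conj (P : Sylow p G) {x y g : G}
    (hx : ∀ j ∈ thompsonSubgroupOf p (P : Subgroup G), Commute j x)
    (hy : ∀ j ∈ thompsonSubgroupOf p (P : Subgroup G), Commute j y) (hg : g * x * g⁻¹ = y) :
    ∃ n ∈ normalizer (thompsonSubgroupOf p (P : Subgroup G) : Set G), n * x * n⁻¹ = y := by
  set J := thompsonSubgroupOf p (P : Subgroup G) with hJ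
  have hJp : IsPGroup p J := P.2.to_le (map_subtype_le _)
  set C := centralizer ({y} : Set G) with hC
  have h1 : J ≤ C := fun j hj => mem_centralizer_singleton_iff.2 (hy j hj)
  have h2 : J.map (MulAut.conj g).toMonoidHom ≤ C := by
    rintro _ ⟨j, hj, rfl⟩
    refine mem_centralizer_singleton_iff.2 ?_
    have h := ((hx j hj).map (MulAut.conj g).toMonoidHom).eq
    have hxy : (MulAut.conj g).toMonoidHom x = y := hg
    rwa [hxy] at h
  obtain ⟨R, hR⟩ := (IsPGroup.comap_subtype hJp : IsPGroup p (J.subgroupOf C)).exists_le_sylow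
  obtain ⟨R', hR'⟩ := (IsPGroup.comap_subtype (hJp.map _) :
    IsPGroup p ((J.map (MulAut.conj g).toMonoidHom).subgroupOf C)).exists_le_sylow
  obtain ⟨c, hc⟩ := MulAction.exists_smul_eq C R' R
  obtain ⟨Q, hQ⟩ := (R.2.map C.subtype).exists_le_sylow
  have hJQ : J ≤ Q := fun j hj => hQ ⟨⟨j, h1 hj⟩, hR hj, rfl⟩
  have hcy : (c : G) * y = y * c := mem_centralizer_singleton_iff.1 c.2
  have hJQ' : J.map (MulAut.conj ((c : G) * g)).toMonoidHom ≤ Q := by
    rintro _ ⟨j, hj, rfl⟩
    refine hQ ⟨c * ⟨MulAut.conj g j, h2 ⟨j, hj, rfl⟩⟩ * c⁻¹, ?_, ?_⟩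
    · rw [← hc]
      exact ⟨_, hR' (show (⟨MulAut.conj g j, h2 ⟨j, hj, rfl⟩⟩ : C) ∈ (J.map (MulAut.conj g).toMonoidHom).subgroupOf C
        from ⟨j, hj, rfl⟩), rfl⟩
    · simp [mul_assoc]
  set n := (c : G) * g
  refine ⟨n, mem_normalizer_iff_map_conj_eq.2 ?_, ?_⟩
  · obtain ⟨T, hT⟩ : ∃ T : Sylow p G, (T : Subgroup G).map (MulAut.conj n).toMonoidHom = Q := by
      refine ⟨n⁻¹ • Q, ?_⟩
      show ((n • (n⁻¹ • Q) : Sylow p G) : Subgroup G) = Q
      rw [smul_inv_smul]
    have hJT : J ≤ T := fun j hj => by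
      have : MulAut.conj n j ∈ (T : Subgroup G).map (MulAut.conj n).toMonoidHom := by
        rw [hT]; exact hJQ' ⟨j, hj, rfl⟩
      obtain ⟨t, ht, htj⟩ := this
      exact (MulAut.conj n).injective htj ▸ ht
    show J.map (MulAut.conj n).toMonoidHom = J
    rw [hJ, thompsonOf_conj, ← thompsonOf_sylow_eq P Q hJQ, ← hT]
    conv_lhs => rw [← thompsonOf_conj, ← thompsonOf_sylow_eq P T hJT, thompsonOf_conj]
  · calc n * x * n⁻¹ = (c : G) * (g * x * g⁻¹) * (c : G)⁻¹ := by simp only [n]; group
      _ = y := by rw [hg, hcy, mul_inv_cancel_right]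

end CfsgLib.Fusion
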