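import Cfsg.Agent.Lib.Fusion.TransferTools

/-!
A functor with the local focal condition controls transfer.
-/

set_option autoImplicit false

namespace CfsgLib.Fusion

open Cfsg Cfsg.FusionSystem
open scoped commutatorElement

universe u

variable {p : ℕ} [Fact p.Prime]

set_option maxHeartbeats 1600000 in
/-- Small differences in the normalizer of the functor give small differences everywhere. -/
theorem discrepancy_of_local (W : ∀ (Q : Type u) [Group Q], Subgroup Q)
    (hW1 : ∀ (Q : Type u) [Group Q] [Finite Q], IsPGroup p Q → Nontrivial Q → W Q ≠ ⊥)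
    (hW2 : ∀ (Q R : Type u) [Group Q] [Group R] [Finite Q], IsPGroup p Q → ∀ φ : Q ≃* R,
      (W Q).map φ.toMonoidHom = W R)
    (hT : ∀ (G : Type u) [Group G] [Finite G] (P : Sylow p G),
      Subgroup.centralizer ((pCore p G : Subgroup G) : Set G) ≤ pCore p G →
      pCore p G ⊓ commutator G = pCore p G ⊓ (commutator ↥(Subgroup.normalizer
        (((W ↥(P : Subgroup G)).map (P : Subgroup G).subtype : Subgroup G) : Set G))).map
        (Subgroup.normalizer
          (((W ↥(P : Subgroup G)).map (P : Subgroup G).subtype : Subgroup G) : Set G)).subtype) :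
    ∀ (n m : ℕ) {Ω : Type u} [Group Ω] {S : Subgroup Ω} [Finite S] {F : FusionSystem S},
      Nat.card S = n → (mapGraphs F).ncard = m → IsPGroup p S → F.IsSaturated p →
      ∀ (K : Subgroup Ω), ⁅S, S⁆ ≤ K → K ≤ S →
      (∀ (P : Subgroup Ω) (φ : P →* Ω), φ ∈ F.normalizerHom (functorOf p W S) P →
        ∀ x : P, (x : Ω)⁻¹ * φ x ∈ K) →
      ∀ (P : Subgroup Ω) (φ : P →* Ω), φ ∈ F.Hom P → ∀ x : P, (x : Ω)⁻¹ * φ x ∈ K := by
  intro n
  induction n using Nat.strong_induction_on with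
  | _ n ih =>
  intro m
  induction m using Nat.strong_induction_on with
  | _ m ihm =>
  intro Ω _ S _ F hn hm hS hF K hdK hKS hloc
  -- reduce to `K` inside the focal subgroup
  suffices main : ∀ (K : Subgroup Ω), ⁅S, S⁆ ≤ K → K ≤ S → K ≤ F.focalSubgroup →
      (∀ (P : Subgroup Ω) (φ : P →* Ω), φ ∈ F.normalizerHom (functorOf p W S) P →
        ∀ x : P, (x : Ω)⁻¹ * φ x ∈ K) →
      ∀ (P : Subgroup Ω) (φ : P →* Ω), φ ∈ F.Hom P → ∀ x : P, (x : Ω)⁻¹ * φ x ∈ K by
    intro P φ hφ x
    exact (main (K ⊓ F.focalSubgroup) (le_inf hdK commutator_le_focal) (inf_le_left.trans hKS)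
      inf_le_right (fun P φ h x => ⟨hloc P φ h x,
        Subgroup.subset_closure ⟨P, φ, x, h.1, rfl⟩⟩) P φ hφ x).1
  clear hdK hKS hloc K
  intro K hdK hKS hKf hloc
  -- smaller systems on `S`
  have hsmall : ∀ M : FusionSystem S, M ≤ F → M ≠ F → M.IsSaturated p →
      ∀ (P : Subgroup Ω) (φ : P →* Ω), φ ∈ M.Hom P → ∀ x : P, (x : Ω)⁻¹ * φ x ∈ K := by
    intro M hle hne hsat
    refine ihm _ (hm ▸ Set.ncard_lt_ncard (mapGraphs_ssubset hle hne) mapGraphs_finite) hn rfl
      hS hsat K hdK hKS fun P φ hφ => ?_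
    obtain ⟨h1, h2, h3, ψ, hψ, h4, h5⟩ := hφ
    exact hloc P φ ⟨hle P h1, h2, h3, ψ, hle _ hψ, h4, h5⟩
  have hnormal_sub : ∀ X : Subgroup Ω, X ≤ S → S ≤ Subgroup.normalizer (X : Set Ω) →
      ¬ F.IsNormal X →
      ∀ (P : Subgroup Ω) (φ : P →* Ω), φ ∈ F.normalizerHom X P → ∀ x : P, (x : Ω)⁻¹ * φ x ∈ K := by
    intro X hXS hXN hnn P φ hφ
    have hNS : normalizerIn S X = S := inf_eq_left.2 hXN
    have hfn : F.IsFullyNormalized X := ⟨hXS, fun R _ => by
      rw [hNS]; exact Subgroup.card_le_of_le inf_le_left⟩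
    have hNsys := normSystem_isNormalizerSystem F X hXS
    set M := copySystem hNS (normSystem F X hXS)
    have hMle : M ≤ F := fun P φ hφ => normalizerSystem_le hNsys hφ
    have hMn : M.IsNormal X := copySystem_isNormal hNS (normalizerSystem_isNormal hXS hNsys)
    refine hsmall M hMle (fun h => hnn (h ▸ hMn))
      (copySystem_saturated hNS (normalizerSystem_saturated hS hF hfn hNsys)) P φ ?_
    exact (hNsys P).ge hφ
  set Q := F.core with hQ
  have hQn : F.IsNormal Q := core_isNormal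
  have hQS : Q ≤ S := hQn.1
  have hQsc := IsNormal.stronglyClosed hQn
  rcases eq_or_lt_of_le hQS with hQtop | hQlt
  · -- `S` is normal
    intro P φ hφ x
    obtain ⟨ψ, hψ, hψP, -⟩ := hQn.2 P φ hφ
    have hle : S ≤ P ⊔ Q := hQtop.ge.trans le_sup_right
    exact hloc P φ (mem_normalizerHom_functor_of_top hW2 hS hφ (restrict_mem hψ hle)
      fun y => hψP y) x
  by_cases hQ1 : Q = ⊥
  · -- no normal subgroup
    have hne : ∀ X : Subgroup Ω, X ≠ ⊥ → ¬ F.IsNormal X := fun X hX h =>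
      hX (le_bot_iff.1 (hQ1 ▸ le_core h))
    set E := cosetSystem F K hdK
    suffices hFE : F ≤ E from fun P φ hφ => (hFE P hφ).2
    have hEof : ∀ (P : Subgroup Ω) (φ : P →* Ω), φ ∈ F.Hom P →
        (∀ x : P, (x : Ω)⁻¹ * φ x ∈ K) → φ ∈ E.Hom P := fun P φ h h' => ⟨h, h'⟩
    refine alperin_gen hS hF E (fun a ha => ?_) fun R hRS hess hup => ?_
    · have haF := (mem_autGroup_iff le_rfl).1 ha
      exact (mem_autGroup_iff le_rfl).2 (hEof S _ haF (hloc S _
        (mem_normalizerHom_functor_of_top hW2 hS haF haF fun y => rfl)))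
    have hR1 : R ≠ ⊥ := by
      intro h
      refine hRS.ne (le_antisymm hRS.le fun s hs => ?_)
      exact hess.1.2 R (isConj_refl hRS.le) (mem_centralizerIn.2 ⟨hs, fun y hy => by
        rw [h, Subgroup.mem_bot] at hy
        simp [hy]⟩)
    suffices main : ∀ (k : ℕ) (X : Subgroup Ω), Nat.card S - Nat.card (normalizerIn S X) < k →
        X ≠ ⊥ → F.IsFullyNormalized X → Nat.card R < Nat.card (normalizerIn S X) →
        ∀ (P : Subgroup Ω) (φ : P →* Ω), φ ∈ F.normalizerHom X P → φ ∈ E.Hom P by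
      intro a ha
      refine Subgroup.mem_sup_left ((mem_autGroup_iff hRS.le).2
        (main _ R (Nat.lt_succ_self _) hR1 hess.2.1 ?_ R _ ?_))
      · have := finite_le (normalizerIn_le (S := S) R)
        exact lt_of_le_of_ne (Subgroup.card_le_of_le (le_normalizerIn hRS.le)) fun h =>
          (lt_normalizerIn hS hRS).ne (Subgroup.eq_of_le_of_card_ge (le_normalizerIn hRS.le) h.ge)
      · have haF := (mem_autGroup_iff hRS.le).1 ha
        refine ⟨haF, le_normalizerIn hRS.le, fun z => le_normalizerIn hRS.le (a z).2,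
          (R.subtype.comp a.toMonoidHom).comp (Subgroup.inclusion (sup_le le_rfl le_rfl)),
          restrict_mem haF _, fun z => rfl, ?_⟩
        have := finite_le hRS.le
        refine Subgroup.eq_of_le_of_card_ge ?_ ?_
        · rintro _ ⟨z, -, rfl⟩
          exact (a _).2
        · exact (card_img (F.injective_of_mem (restrict_mem haF _)) le_sup_right).ge
    intro k
    induction k with
    | zero => intro X h; omega
    | succ k ihk =>
    intro X hk hX1 hXn hRT P φ hφ
    have hXS := hXn.1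
    set T := normalizerIn S X with hTdef
    have hTS : T ≤ S := normalizerIn_le X
    have := finite_le hTS
    rcases eq_or_lt_of_le hTS with hTeq | hTlt
    · exact hEof P φ hφ.1
        (hnormal_sub X hXS (hTeq.symm.le.trans inf_le_right) (hne X hX1) P φ hφ)
    have hNsys := normSystem_isNormalizerSystem F X hXS
    set M := normSystem F X hXS
    have hsub : M.IsSubsystemOf F := fun A χ hχ => normalizerSystem_le hNsys hχ
    have hT1 : T ≠ ⊥ := fun h => hX1 (le_bot_iff.1 (h ▸ le_normalizerIn hXS))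
    set X₂ := functorOf p W T with hX₂
    have hX₂S : X₂ ≤ S := (functorOf_le T).trans hTS
    have hX₂1 : X₂ ≠ ⊥ := by
      rw [hX₂, functorOf_eq (hS.to_le hTS), Ne, Subgroup.map_eq_bot_iff_of_injective _ T.subtype_injective]
      exact hW1 T (hS.to_le hTS) ((Subgroup.nontrivial_iff_ne_bot T).2 hT1)
    have hTN : T < normalizerIn S X₂ := lt_of_lt_of_le (lt_normalizerIn hS hTlt)
      fun g hg => ⟨hg.1, normalizer_le_normalizer_functorOf hW2 T hg.2⟩
    have hlt : Nat.card T < Nat.card (normalizerIn S X₂) := by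
      have := finite_le (normalizerIn_le (S := S) X₂)
      exact lt_of_le_of_ne (Subgroup.card_le_of_le hTN.le) fun e =>
        hTN.ne (Subgroup.eq_of_le_of_card_ge hTN.le e.ge)
    -- the normalizer of `X₂` is settled
    have hbig : ∀ (A : Subgroup Ω) (χ : A →* Ω), χ ∈ F.normalizerHom X₂ A → χ ∈ E.Hom A := by
      intro A χ hχ
      obtain ⟨Y, hconj, h1, h2, hYn⟩ := IsSaturated.exists_rep hS hF hX₂S
      obtain ⟨f, hf, hfm, hfY⟩ := exists_normalizer_map hS h1 h2 hconj
      have hcard := card_normalizerIn_le_of_map hf hfm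
      have hfE := hup _ (hRT.trans hlt) hf
      refine mem_of_transport hf hfE hfm hfY hX₂S (ihk Y ?_ (fun h => hX₂1 ?_) hYn
        (hRT.trans (hlt.trans_le hcard))) hχ
      · have hb1 := Subgroup.card_le_of_le (normalizerIn_le (S := S) Y)
        omega
      · have := finite_le hX₂S
        exact Subgroup.eq_bot_of_card_eq X₂
          ((isConj_card hconj).trans (by rw [h]; exact Subgroup.card_bot))
    refine hEof P φ hφ.1 fun x => ?_
    refine (ih (Nat.card T) (hn ▸ lt_of_le_of_ne (Subgroup.card_le_of_le hTS) fun e =>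
      hTlt.ne (Subgroup.eq_of_le_of_card_ge hTS e.ge)) _ rfl rfl (hS.to_le hTS)
      (normalizerSystem_saturated hS hF hXn hNsys) (K ⊓ T)
      (le_inf ((Subgroup.commutator_mono hTS hTS).trans hdK) commutator_le_self) inf_le_right
      (fun A χ hχ z => ?_) P φ ((hNsys P).ge hφ) x).1
    obtain ⟨hχM, hA, hχT, ψ, hψ, hψA, hψW⟩ := hχ
    have hψF := hsub _ hψ
    have h2 : χ ∈ F.normalizerHom X₂ A :=
      ⟨hsub _ hχM, fun z hz => hTN.le (hA hz).1, fun z => hTN.le (hχT z).1, ψ, hψF, hψA, hψW⟩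
    exact ⟨(hbig A χ h2).2 z, T.mul_mem (T.inv_mem (hA z.2).1) (hχT z).1⟩
  · -- the system modulo its core
    have hQN := StronglyClosed.normal_in hQsc
    obtain ⟨Ω', _, θ, S', E, _, hS', hE, hEsat, hlt⟩ := exists_factor_quotient hS hF hQsc
    obtain ⟨-, hθ, hrange, hiff⟩ := id hE
    set Z' := functorOf p W S'
    set Z := preimageAlong θ Z' with hZ
    have hZS : Z ≤ S := preimageAlong_le θ Z'
    have hS'1 : S' ≠ ⊥ := by
      intro h
      refine hQlt.ne (le_antisymm hQS fun s hs => ?_)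
      refine (hθ ⟨s, hs⟩).1 ?_
      have : θ ⟨s, hs⟩ ∈ θ.range := ⟨_, rfl⟩
      rwa [hrange, h, Subgroup.mem_bot] at this
    have hZ'1 : Z' ≠ ⊥ := by
      rw [Ne, show Z' = (W S').map S'.subtype from functorOf_eq hS',
        Subgroup.map_eq_bot_iff_of_injective _ S'.subtype_injective]
      exact hW1 S' hS' ((Subgroup.nontrivial_iff_ne_bot S').2 hS'1)
    have hQZ : Q < Z := lt_preimageAlong hQS hθ (hrange.symm ▸ functorOf_le S') hZ'1
    have hgoodZ := hnormal_sub Z hZS (le_normalizer_preimageAlong hrange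
        (Subgroup.le_normalizer.trans (normalizer_le_normalizer_functorOf hW2 S')))
      (fun h => hQZ.not_ge (le_core h))
    -- differences modulo the core
    have hmodQ : ∀ (P : Subgroup Ω) (φ : P →* Ω), φ ∈ F.Hom P → ∀ x : P,
        (x : Ω)⁻¹ * φ x ∈ K ⊔ Q := by
      intro P φ hφ x
      obtain ⟨⟨-, hmor⟩, -, -⟩ := factor_isSurjectiveMorphism hS hF hQsc hE
      obtain ⟨φ', hφ', hP, hφS, hP', hv⟩ := hmor P φ hφ
      have hK' : ⁅S', S'⁆ ≤ imageAlong θ K := by
        refine Subgroup.commutator_le.2 fun a ha b hb => ?_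
        rw [← hrange] at ha hb
        obtain ⟨a₀, rfl⟩ := ha
        obtain ⟨b₀, rfl⟩ := hb
        refine ⟨⁅a₀, b₀⁆, hdK ?_, map_commutatorElement θ a₀ b₀⟩
        exact Subgroup.commutator_mem_commutator a₀.2 b₀.2
      have hgood := ih (Nat.card S') (hn ▸ hlt hQ1) _ rfl rfl hS' hEsat (imageAlong θ K) hK'
        ((Subgroup.map_le_range _ _).trans hrange.le) (fun A' χ' hχ' y' => ?_) _ φ' hφ'
        ⟨θ ⟨x, hP x.2⟩, hP' x⟩
      · rw [show ((⟨θ ⟨x, hP x.2⟩, hP' x⟩ : imageAlong θ P) : Ω') = θ ⟨x, hP x.2⟩ from rfl,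
          hv x, ← map_inv, ← map_mul] at hgood
        have h2 := (mem_preimageAlong (θ := θ) (P' := imageAlong θ K)
          (x := (⟨x, hP x.2⟩ : S)⁻¹ * ⟨φ x, hφS x⟩)).2 hgood
        rwa [preimageAlong_imageAlong hQS hθ hKS] at h2
      obtain ⟨hχE, hA', hχT, ψ', hψ', hψA, hψZ⟩ := hχ'
      set D := preimageAlong θ (A' ⊔ Z') with hDdef
      obtain ⟨hAS', ψ, hψ, hD, hψS, hDm, hψv⟩ := (hiff _ ψ').1 hψ'
      have hA'S : A' ≤ θ.range := (le_sup_left.trans hAS').trans hrange.ge
      obtain ⟨w, hw⟩ := hA'S y'.2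
      have hwD : (w : Ω) ∈ D := mem_preimageAlong.2 (hw ▸ Subgroup.mem_sup_left y'.2)
      have hDZ : D ⊔ Z ≤ D := sup_le le_rfl (preimageAlong_mono le_sup_right)
      have hψN : ψ ∈ F.normalizerHom Z D := by
        have hSN : S ≤ normalizerIn S Z := le_inf le_rfl (le_normalizer_preimageAlong hrange
          (Subgroup.le_normalizer.trans (normalizer_le_normalizer_functorOf hW2 S')))
        have hinjZ : Function.Injective (ψ.comp (Subgroup.inclusion hDZ)) :=
          F.injective_of_mem (restrict_mem hψ hDZ)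
        refine ⟨hψ, hD.trans hSN, fun z => hSN (hψS z), ψ.comp (Subgroup.inclusion hDZ),
          restrict_mem hψ hDZ, fun z => rfl, ?_⟩
        have := finite_le hZS
        refine Subgroup.eq_of_le_of_card_ge ?_ (card_img hinjZ le_sup_right).ge
        rintro _ ⟨z, hz, rfl⟩
        have hzD : (z : Ω) ∈ D := hDZ z.2
        refine (mem_preimageAlong (x := ⟨_, hψS ⟨z, hzD⟩⟩)).2 ?_
        rw [← hψv ⟨z, hzD⟩]
        exact hψZ.le ⟨_, (mem_preimageAlong (θ := θ) (P' := Z') (x := ⟨(z : Ω), hD hzD⟩)).1 hz, rfl⟩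
      have hmem := hgoodZ D ψ hψN ⟨w, hwD⟩
      refine ⟨⟨_, S.mul_mem (S.inv_mem w.2) (hψS ⟨w, hwD⟩)⟩, hmem, ?_⟩
      rw [show (⟨(w : Ω)⁻¹ * ψ ⟨w, hwD⟩, _⟩ : S) = w⁻¹ * ⟨ψ ⟨w, hwD⟩, hψS _⟩ from rfl,
        map_mul, map_inv, hw, ← hψv ⟨w, hwD⟩, ← hψA y']
      congr 2
      exact Subtype.ext hw
    have hfinN := finite_le (normalizerIn_le (S := S) Q)
    have hfnQ : F.IsFullyNormalized Q := ⟨hQS, fun R _ => Subgroup.card_le_of_le
      ((normalizerIn_le R).trans (le_inf le_rfl hQN))⟩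
    -- differences inside the core
    have hAutQ : ∀ α ∈ F.autGroup Q, ∀ z : Q, (z : Ω)⁻¹ * ((α z : Q) : Ω) ∈ K := by
      intro α hα z
      have haF := (mem_autGroup_iff hQS).1 hα
      by_cases hC : centralizerIn S Q ≤ Q
      · have hQc := isCentric_of_centralizerIn_le hS hF (IsSaturated.fullyCentralized hS hF
          hfnQ) hC
        obtain ⟨L, _, ι, hG⟩ := exists_model_of_normal_centric hS hF hQn hQc
        have hinj : Function.Injective ι := hG.2.1.1
        obtain ⟨g, hg⟩ := (hG.2.1.2 Q hQS _ fun y => hQS (α y).2).1 haF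
        set C := coreBack p ι
        have hCn : F.IsNormal C := model_isNormal_coreBack hG
        have hCQ : C ≤ Q := le_core hCn
        -- the image of `Q` is normal
        have hQimg : ((Q.subgroupOf S).map ι).Normal := by
          refine ⟨fun y hy h => ?_⟩
          obtain ⟨q, hq, rfl⟩ := hy
          have hmem : ∀ z : C, ∃ r : C, ι ⟨r, hCn.1 r.2⟩ = h * ι ⟨z, hCn.1 z.2⟩ * h⁻¹ :=
            model_coreBack_conj hG h
          obtain ⟨b, hb, -, hbv⟩ := model_exists_aut hG hCn.1 hmem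
          obtain ⟨ψ, hψ, hψC, hψQ⟩ := hQn.2 C _ ((mem_autGroup_iff hCn.1).1 hb)
          have hψS := hom_apply_mem hψ
          obtain ⟨g', hg'⟩ := (hG.2.1.2 _ (sup_le hCn.1 hQS) ψ hψS).1 hψ
          have hcent : g'⁻¹ * h ∈ pCore p L := by
            refine hG.2.2.2 (Subgroup.mem_centralizer_iff.2 fun c hc => ?_)
            obtain ⟨c₀, rfl⟩ := model_pCore_le hG hc
            have hc0 : (c₀ : Ω) ∈ C := mem_coreBack.2 hc
            have h1 := hbv ⟨c₀, hc0⟩
            have h2 := hg' ⟨c₀, Subgroup.mem_sup_left hc0⟩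
            have h3 : (⟨ψ ⟨c₀, Subgroup.mem_sup_left hc0⟩, hψS _⟩ : S) =
                ⟨((b ⟨c₀, hc0⟩ : C) : Ω), hCn.1 (b _).2⟩ := Subtype.ext (hψC ⟨c₀, hc0⟩)
            rw [h3, h1] at h2
            have h4 : h * ι c₀ * h⁻¹ = g' * ι c₀ * g'⁻¹ := h2
            calc ι c₀ * (g'⁻¹ * h) = g'⁻¹ * (g' * ι c₀ * g'⁻¹) * h := by group
              _ = g'⁻¹ * (h * ι c₀ * h⁻¹) * h := by rw [h4]
              _ = g'⁻¹ * h * ι c₀ := by group
          obtain ⟨c₀, hc0⟩ := model_pCore_le hG hcent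
          have hc0C : (c₀ : Ω) ∈ C := mem_coreBack.2 (hc0 ▸ hcent)
          have hc0Q : (c₀ : Ω) ∈ Q := hCQ hc0C
          have hq' : ((c₀ * q * c₀⁻¹ : S) : Ω) ∈ Q :=
            Q.mul_mem (Q.mul_mem hc0Q hq) (Q.inv_mem hc0Q)
          have hψm : ψ ⟨_, Subgroup.mem_sup_right hq'⟩ ∈ Q :=
            hψQ.le ⟨⟨_, Subgroup.mem_sup_right hq'⟩, hq', rfl⟩
          refine ⟨⟨_, hψS ⟨_, Subgroup.mem_sup_right hq'⟩⟩, hψm, ?_⟩
          rw [hg', show (⟨((c₀ * q * c₀⁻¹ : S) : Ω), _⟩ : S) = c₀ * q * c₀⁻¹ from Subtype.ext rfl,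
            map_mul, map_mul, map_inv, hc0]
          group
        have hcore : ((Q.subgroupOf S).map ι) ≤ pCore p L :=
          Core.le_pCore (((hS.to_le hQS).comap_subtype).map ι)
        exact model_core_discrepancy hW2 hS hT hloc hG
          (mem_coreBack.2 (hcore ⟨⟨z, hQS z.2⟩, z.2, rfl⟩)) (hg z)
      · set R₀ := Q ⊔ centralizerIn S Q with hR₀
        have hR₀S : R₀ ≤ S := sup_le hQS (centralizerIn_le Q)
        have hQR₀ : Q ≤ R₀ := le_sup_left
        have he : IsoIn F (α : Q ≃* Q) := (mem_autGroup_iff_isoIn hQS).1 hα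
        obtain ⟨χ, hχ, hχv⟩ := exists_extension
          (IsSaturated.receptive hS hF (IsSaturated.fullyCentralized hS hF hfnQ))
          he hQR₀ (sup_le_extender he)
        have hχm : ∀ w, χ w ∈ R₀ := apply_mem_of_sup
          (fun w => by rw [hχv w]; exact Subgroup.mem_sup_left (α w).2)
          fun c => Subgroup.mem_sup_right (extension_mem_centralizerIn hχ hQR₀ hχv _ c.2)
        have hR₀N : S ≤ Subgroup.normalizer (R₀ : Set Ω) := fun g hg => by
          have hgC : g ∈ Subgroup.normalizer (centralizerIn S Q : Set Ω) := by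
            refine Subgroup.inf_normalizer_le_normalizer_inf ⟨Subgroup.le_normalizer hg, ?_⟩
            refine Subgroup.mem_normalizer_iff.2 fun z => ?_
            simp only [Subgroup.mem_centralizer_iff]
            constructor
            · intro hz y hy
              have h := congrArg (fun w => g * w * g⁻¹)
                (hz (g⁻¹ * y * g) ((Subgroup.mem_normalizer_iff''.1 (hQN hg) y).1 hy))
              simpa [mul_assoc] using h
            · intro hz y hy
              have h := congrArg (fun w => g⁻¹ * w * g)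
                (hz (g * y * g⁻¹) ((Subgroup.mem_normalizer_iff.1 (hQN hg) y).1 hy))
              simpa [mul_assoc] using h
          refine Subgroup.mem_normalizer_iff_map_conj_eq.2 ?_
          rw [hR₀, Subgroup.map_sup]
          exact congrArg₂ (· ⊔ ·) (Subgroup.mem_normalizer_iff_map_conj_eq.1 (hQN hg))
            (Subgroup.mem_normalizer_iff_map_conj_eq.1 hgC)
        have hnn : ¬ F.IsNormal R₀ := fun h => hC (le_sup_right.trans (le_core h))
        have hsup : R₀ ⊔ R₀ ≤ R₀ := sup_le le_rfl le_rfl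
        have hχn : χ ∈ F.normalizerHom R₀ R₀ := by
          refine ⟨hχ, le_normalizerIn hR₀S, fun w => le_normalizerIn hR₀S (hχm w),
            χ.comp (Subgroup.inclusion hsup), restrict_mem hχ hsup, fun w => rfl, ?_⟩
          have := finite_le hR₀S
          refine Subgroup.eq_of_le_of_card_ge ?_
            (card_img (F.injective_of_mem (restrict_mem hχ hsup)) le_sup_right).ge
          rintro _ ⟨w, -, rfl⟩
          exact hχm _
        have h1 := hnormal_sub R₀ hR₀S hR₀N hnn R₀ χ hχn ⟨z, hQR₀ z.2⟩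
        rw [show χ ⟨(z : Ω), hQR₀ z.2⟩ = ((α z : Q) : Ω) from hχv z] at h1
        exact h1
    intro P φ hφ x
    have hu : (x : Ω)⁻¹ * φ x ∈ ((K ⊔ Q : Subgroup Ω) : Set Ω) := hmodQ P φ hφ x
    rw [Subgroup.coe_mul_of_left_le_normalizer_right K Q (hKS.trans hQN)] at hu
    obtain ⟨k, hk, q, hq, hkq⟩ := hu
    have hqf : q ∈ F.focalSubgroup := by
      have hkq' : k * q = (x : Ω)⁻¹ * φ x := hkq
      rw [show q = k⁻¹ * ((x : Ω)⁻¹ * φ x) by rw [← hkq', inv_mul_cancel_left]]
      exact mul_mem (inv_mem (hKf hk)) (Subgroup.subset_closure ⟨P, φ, x, hφ, rfl⟩)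
    have hqK : q ∈ K := by
      refine mem_of_focal_of_stable hS hF hdK (hQS hq) hqf fun A χ hχ y hy => ?_
      have hyQ : (y : Ω) ∈ Q := Subgroup.zpowers_le.2 hq hy
      obtain ⟨ψ, hψ, hψA, hψQ⟩ := hQn.2 A χ hχ
      obtain ⟨e, he, hev⟩ := exists_iso (Q := Q)
        (restrict_mem hψ (le_sup_right : Q ≤ A ⊔ Q)) (by rw [range_restrict]; exact hψQ)
      have h1 := hAutQ e ((mem_autGroup_iff_isoIn hQS).2 he) ⟨y, hyQ⟩
      rw [hev, show (ψ.comp (Subgroup.inclusion le_sup_right)) (⟨(y : Ω), hyQ⟩ : Q) =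
        ψ (Subgroup.inclusion le_sup_left y) from congrArg ψ (Subtype.ext rfl), hψA] at h1
      exact h1
    have hkq' : k * q = (x : Ω)⁻¹ * φ x := hkq
    exact hkq' ▸ K.mul_mem hk hqK

end CfsgLib.Fusion
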