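import Cfsg.Agent.Lib.Fusion.WeakClosureApps
import Cfsg.Agent.Lib.Fusion.FocalTransfer
import Cfsg.Agent.Lib.Fusion.Criterion
import Cfsg.Agent.Lib.Transfer.Fusion

/-!
Auxiliary facts for control of transfer by a functor.
-/

set_option autoImplicit false

namespace CfsgLib.Fusion

open Cfsg Cfsg.FusionSystem
open scoped commutatorElement

universe u

variable {Ω : Type u} [Group Ω] {S : Subgroup Ω} {F : FusionSystem S} {p : ℕ}

/-- The graphs of the maps of a system. -/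
def mapGraphs (F : FusionSystem S) : Set (Set (Ω × Ω)) :=
  {s | ∃ (P : Subgroup Ω) (φ : P →* Ω), φ ∈ F.Hom P ∧ s = Set.range fun x : P => ((x : Ω), φ x)}

theorem mapGraphs_finite [Finite S] : (mapGraphs F).Finite := by
  have hS : (S : Set Ω).Finite := Set.toFinite _
  refine (hS.prod hS).finite_subsets.subset ?_
  rintro _ ⟨P, φ, hφ, rfl⟩ _ ⟨x, rfl⟩
  exact ⟨hom_le hφ x.2, hom_apply_mem hφ x⟩

theorem mapGraphs_ssubset {M : FusionSystem S} (hle : M ≤ F) (hne : M ≠ F) :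
    mapGraphs M ⊂ mapGraphs F := by
  refine ⟨fun s ⟨P, φ, hφ, hs⟩ => ⟨P, φ, hle P hφ, hs⟩, fun hsup => hne ?_⟩
  refine fusionSystem_antisymm hle fun P φ hφ => ?_
  obtain ⟨Q, ψ, hψ, hs⟩ := hsup ⟨P, φ, hφ, rfl⟩
  obtain rfl : Q = P := le_antisymm
    (fun x hx => by
      obtain ⟨y, hy⟩ := hs.ge ⟨⟨x, hx⟩, rfl⟩
      have he : (y : Ω) = x := congrArg Prod.fst hy
      exact he ▸ y.2)
    (fun x hx => by
      obtain ⟨y, hy⟩ := hs.le ⟨⟨x, hx⟩, rfl⟩
      have he : (y : Ω) = x := congrArg Prod.fst hy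
      exact he ▸ y.2)
  refine hom_congr hψ fun x => ?_
  obtain ⟨y, hy⟩ := hs.le ⟨x, rfl⟩
  obtain rfl : y = x := Subtype.ext (congrArg Prod.fst hy : (y : Ω) = x)
  exact (congrArg Prod.snd hy : ψ y = φ y).symm

theorem commutator_le_self : ⁅S, S⁆ ≤ S :=
  Subgroup.commutator_le.2 fun a ha b hb => by
    rw [commutatorElement_def]
    exact S.mul_mem (S.mul_mem (S.mul_mem ha hb) (S.inv_mem ha)) (S.inv_mem hb)

theorem commutator_le_focal : ⁅S, S⁆ ≤ F.focalSubgroup := by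
  refine Subgroup.commutator_le.2 fun a ha b hb => ?_
  refine Subgroup.subset_closure ⟨S, conjHom S b, ⟨a⁻¹, S.inv_mem ha⟩, F.conj_mem le_rfl hb, ?_⟩
  show ⁅a, b⁆ = (a⁻¹)⁻¹ * (b * a⁻¹ * b⁻¹)
  rw [commutatorElement_def]
  group

variable {W : ∀ (Q : Type u) [Group Q], Subgroup Q}
  (hW2 : ∀ (Q R : Type u) [Group Q] [Group R] [Finite Q], IsPGroup p Q → ∀ φ : Q ≃* R,
    (W Q).map φ.toMonoidHom = W R)

include hW2 in
/-- A map whose source contains the Sylow subgroup lies in the normalizer system of its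
characteristic subgroup. -/
theorem mem_normalizerHom_functor_of_top [Finite S] (hS : IsPGroup p S) {P : Subgroup Ω}
    {φ : P →* Ω} (hφ : φ ∈ F.Hom P) {ψ : S →* Ω} (hψ : ψ ∈ F.Hom S)
    (hψP : ∀ x : P, ψ ⟨x, hom_le hφ x.2⟩ = φ x) :
    φ ∈ F.normalizerHom (functorOf p W S) P := by
  have hSN : S ≤ normalizerIn S (functorOf p W S) :=
    le_inf le_rfl (Subgroup.le_normalizer.trans (normalizer_le_normalizer_functorOf hW2 S))
  have hle : P ⊔ functorOf p W S ≤ S := sup_le (hom_le hφ) (functorOf_le S)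
  have hPS := hom_le hφ
  refine ⟨hφ, hPS.trans hSN, fun x => hSN (hom_apply_mem hφ x), ψ.comp (Subgroup.inclusion hle),
    restrict_mem hψ hle, fun x => hψP x, ?_⟩
  let c : MulAut S := MulEquiv.ofBijective (ψ.codRestrict S (hom_apply_mem hψ))
    ((Finite.injective_iff_bijective).1 fun a b h =>
      F.injective_of_mem hψ (congrArg Subtype.val h))
  have hc := hW2 S S hS c
  ext y
  constructor
  · rintro ⟨z, hz, rfl⟩
    have hz' : (z : Ω) ∈ (W S).map S.subtype := functorOf_eq (W := W) hS ▸ hz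
    obtain ⟨w, hw, hwz⟩ := hz'
    refine (functorOf_eq hS).ge ⟨c w, hc.le ⟨w, hw, rfl⟩, ?_⟩
    show ψ w = ψ (Subgroup.inclusion hle z)
    exact congrArg ψ (Subtype.ext hwz)
  · intro hy
    rw [functorOf_eq hS] at hy
    obtain ⟨w', hw', rfl⟩ := hy
    obtain ⟨w, hw, rfl⟩ := hc.ge hw'
    have hwW : (w : Ω) ∈ functorOf p W S := by rw [functorOf_eq hS]; exact ⟨w, hw, rfl⟩
    refine ⟨⟨w, Subgroup.mem_sup_right hwW⟩, hwW, ?_⟩
    show ψ _ = ψ w
    exact congrArg ψ (Subtype.ext rfl)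

include hW2 in
/-- In a model the core has small fusion differences, given the local transfer condition. -/
theorem model_core_discrepancy [Fact p.Prime] [Finite S] (hS : IsPGroup p S)
    (hT : ∀ (G : Type u) [Group G] [Finite G] (P : Sylow p G),
      Subgroup.centralizer ((pCore p G : Subgroup G) : Set G) ≤ pCore p G →
      pCore p G ⊓ commutator G = pCore p G ⊓ (commutator ↥(Subgroup.normalizer
        (((W ↥(P : Subgroup G)).map (P : Subgroup G).subtype : Subgroup G) : Set G))).map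
        (Subgroup.normalizer
          (((W ↥(P : Subgroup G)).map (P : Subgroup G).subtype : Subgroup G) : Set G)).subtype)
    {K : Subgroup Ω}
    (hloc : ∀ (P : Subgroup Ω) (φ : P →* Ω), φ ∈ F.normalizerHom (functorOf p W S) P →
      ∀ x : P, (x : Ω)⁻¹ * φ x ∈ K)
    {L : Type u} [Group L] {ι : S →* L} (hG : F.IsModel p L ι) {s s' : S}
    (hs : (s : Ω) ∈ coreBack p ι) {g : L} (hg : ι s' = g * ι s * g⁻¹) :
    (s : Ω)⁻¹ * s' ∈ K := by
  have := hG.1
  have hinj : Function.Injective ι := hG.2.1.1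
  obtain ⟨TL, hTL⟩ := hG.2.2.1
  have hscore := mem_coreBack.1 hs
  set u : S := s⁻¹ * s' with hu
  have hu1 : ι u ∈ pCore p L ⊓ commutator L := by
    constructor
    · rw [hu, map_mul, map_inv, hg]
      exact mul_mem ((pCore p L).inv_mem hscore) ((inferInstance : (pCore p L).Normal).conj_mem _ hscore g)
    · rw [hu, map_mul, map_inv, hg, show (ι s)⁻¹ * (g * ι s * g⁻¹) = ⁅(ι s)⁻¹, g⁆ by
        rw [commutatorElement_def]; group]
      exact Subgroup.commutator_mem_commutator (Subgroup.mem_top _) (Subgroup.mem_top g)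
  rw [hT L TL hG.2.2.2] at hu1
  set NN := Subgroup.normalizer
    (((W ↥(TL : Subgroup L)).map (TL : Subgroup L).subtype : Subgroup L) : Set L) with hNN
  have hTN : (TL : Subgroup L) ≤ NN := by
    have := Subgroup.le_normalizer.trans
      (normalizer_le_normalizer_functorOf (p := p) hW2 (TL : Subgroup L))
    rwa [functorOf_eq TL.isPGroup'] at this
  have hWimg := model_functorOf (p := p) hW2 hS hinj TL hTL
  set C : Subgroup NN := ((K.subgroupOf S).map ι).subgroupOf NN with hC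
  have key : _root_.commutator NN ⊓ (TL.subtype hTN : Subgroup NN) ≤ C := by
    refine Transfer.commutator_inf_le_of_fusion _ C fun x hx n hxn => ?_
    obtain ⟨a, ha⟩ := hTL.le (hx : (x : L) ∈ (TL : Subgroup L))
    obtain ⟨b, hb⟩ := hTL.le (hxn : ((n⁻¹ * x * n : NN) : L) ∈ (TL : Subgroup L))
    refine ⟨a⁻¹ * b, ?_, ?_⟩
    swap
    · rw [map_mul, map_inv, ha, hb]
      rfl
    show (a : Ω)⁻¹ * b ∈ K
    set Wt := functorOf p W S
    have hWS : Wt ≤ S := functorOf_le S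
    set h : L := (n : L)⁻¹ with hh
    set A := Subgroup.zpowers (a : Ω) ⊔ Wt with hA
    have hAS : A ≤ S := sup_le (Subgroup.zpowers_le.2 a.2) hWS
    have hab : h * ι a * h⁻¹ = ι b := by rw [ha, hb, hh, inv_inv]; rfl
    have hhN : h ∈ NN := NN.inv_mem n.2
    have hmem : ∀ z : A, h * ι ⟨z, hAS z.2⟩ * h⁻¹ ∈ ι.range := by
      intro z
      have hle : A ≤ ((ι.range.comap (MulAut.conj h).toMonoidHom).comap ι).map S.subtype := by
        refine sup_le (Subgroup.zpowers_le.2 ⟨a, ⟨b, hab.symm⟩, rfl⟩) fun x hx =>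
          ⟨⟨x, hWS hx⟩, ?_, rfl⟩
        refine hTL.le (Subgroup.map_subtype_le (W ↥(TL : Subgroup L)) ?_)
        exact (Subgroup.mem_normalizer_iff.1 hhN _).1 (hWimg.ge ⟨⟨x, hWS hx⟩, hx, rfl⟩)
      obtain ⟨w, hw, hwz⟩ := hle z.2
      obtain rfl : w = ⟨z, hAS z.2⟩ := Subtype.ext hwz
      exact hw
    let e := MonoidHom.ofInjective hinj
    let φ : A →* Ω := S.subtype.comp (e.symm.toMonoidHom.comp
      (((MulAut.conj h).toMonoidHom.comp (ι.comp (Subgroup.inclusion hAS))).codRestrict ι.range hmem))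
    have hφS : ∀ z, φ z ∈ S := fun z => (e.symm _).2
    have hφv : ∀ z, ι ⟨φ z, hφS z⟩ = h * ι ⟨z, hAS z.2⟩ * h⁻¹ := fun z =>
      MonoidHom.apply_ofInjective_symm hinj ⟨_, hmem z⟩
    have hφF : φ ∈ F.Hom A := (hG.2.1.2 A hAS φ hφS).2 ⟨h, hφv⟩
    have hSN : S ≤ normalizerIn S Wt :=
      le_inf le_rfl (Subgroup.le_normalizer.trans (normalizer_le_normalizer_functorOf hW2 S))
    have hsup : A ⊔ Wt ≤ A := sup_le le_rfl le_sup_right
    have hφN : φ ∈ F.normalizerHom Wt A := by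
      refine ⟨hφF, hAS.trans hSN, fun z => hSN (hφS z), φ.comp (Subgroup.inclusion hsup),
        restrict_mem hφF hsup, fun z => rfl, ?_⟩
      ext y
      constructor
      · rintro ⟨z, hz, rfl⟩
        obtain ⟨w, hw, hwv⟩ := hWimg.le ((Subgroup.mem_normalizer_iff.1 hhN _).1
          (hWimg.ge ⟨⟨(z : Ω), hWS hz⟩, hz, rfl⟩))
        have : (⟨φ (Subgroup.inclusion hsup z), hφS _⟩ : S) = w := hinj ((hφv _).trans hwv.symm)
        show φ (Subgroup.inclusion hsup z) ∈ Wt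
        rw [show φ (Subgroup.inclusion hsup z) = (w : Ω) from congrArg Subtype.val this]
        exact hw
      · intro hy
        obtain ⟨w, hw, hwv⟩ := hWimg.le ((Subgroup.mem_normalizer_iff''.1 hhN _).1
          (hWimg.ge ⟨⟨y, hWS hy⟩, hy, rfl⟩))
        refine ⟨⟨(w : Ω), Subgroup.mem_sup_right (hw : (w : Ω) ∈ Wt)⟩, hw, ?_⟩
        refine congrArg Subtype.val (hinj ((hφv _).trans ?_) : (⟨φ _, hφS _⟩ : S) = ⟨y, hWS hy⟩)
        show h * ι w * h⁻¹ = _
        rw [hwv]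
        group
    have haA : (a : Ω) ∈ A := Subgroup.mem_sup_left (Subgroup.mem_zpowers _)
    have hφa : φ ⟨a, haA⟩ = b :=
      congrArg Subtype.val (hinj ((hφv ⟨a, haA⟩).trans hab) : (⟨φ _, hφS _⟩ : S) = b)
    exact hφa ▸ hloc A φ hφN ⟨a, haA⟩
  obtain ⟨-, v, hv, hvu⟩ := hu1
  have hvT : v ∈ (TL.subtype hTN : Subgroup NN) :=
    show (v : L) ∈ (TL : Subgroup L) from hTL.ge ⟨u, hvu.symm⟩
  obtain ⟨w, hw, hwv⟩ := key ⟨hv, hvT⟩
  have hwu : w = u := hinj (hwv.trans hvu)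
  rw [hwu] at hw
  exact hw

end CfsgLib.Fusion
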