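import Cfsg.Agent.Lib.LocalEvenB.SmallEssential.Base
import Cfsg.Agent.Lib.PGroups.Transvections

/-!
# Two transvections in the automorphisms of an elementary abelian group

If `z` induces a transvection with centre `a₀` and is, up to powers, the only element of order `p`
commuting with it, then a conjugate outside `⟨z⟩` gives with `z` a copy of `SL₂(p)`: we extract the
diagonal elements and an element carrying `⟨z⟩` to the conjugate.
-/

set_option autoImplicit false

namespace CfsgLib.Fusion.TransvAut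

open Cfsg CfsgLib CfsgLib.SmallEssential

section Ring

variable {K R : Type*} [Field K] [Ring R] [Algebra K R] {A B : R}

theorem weyl_eq (hA : A * A = 0) (hABA : A * B * A = A) {t s : K} (hts : t * s = 1) :
    (1 + t • A) * (1 - s • B) * (1 + t • A) = 1 - (A * B + B * A) + t • A - s • B := by
  have h1 : (1 + t • A) * (1 - s • B) = 1 + t • A - s • B - A * B := by
    rw [add_mul, one_mul, mul_sub, mul_one, smul_mul_smul_comm, hts, one_smul]
    abel
  rw [h1, mul_add, mul_one, sub_mul, sub_mul, add_mul, one_mul, smul_mul_smul_comm, hA, smul_zero,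
    add_zero, smul_mul_smul_comm, mul_comm s t, hts, one_smul, mul_smul_comm, hABA]
  abel

theorem weyl_conj (hA : A * A = 0) (hB : B * B = 0) (hABA : A * B * A = A) (hBAB : B * A * B = B) :
    (1 - (A * B + B * A) + A - B) * (1 + A) = (1 - B) * (1 - (A * B + B * A) + A - B) := by
  have e1 : B * A * A = 0 := by rw [mul_assoc, hA, mul_zero]
  have e2 : B * (A * B) = B := by rw [← mul_assoc, hBAB]
  have e3 : B * (B * A) = 0 := by rw [← mul_assoc, hB, zero_mul]
  simp only [mul_add, add_mul, sub_mul, mul_sub, one_mul, mul_one, hA, hB, hABA, e1, e2, e3]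
  abel

theorem torus_eq (hA : A * A = 0) (hB : B * B = 0) (hABA : A * B * A = A) (hBAB : B * A * B = B)
    (t s : K) :
    (1 - (A * B + B * A) + t • A - s • B) * (1 - (A * B + B * A) - A + B) =
      1 - (A * B + B * A) + t • (A * B) + s • (B * A) := by
  have e1 : B * A * A = 0 := by rw [mul_assoc, hA, mul_zero]
  have e2 : B * (A * B) = B := by rw [← mul_assoc, hBAB]
  have e3 : B * (B * A) = 0 := by rw [← mul_assoc, hB, zero_mul]
  have e4 : A * B * B = 0 := by rw [mul_assoc, hB, mul_zero]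
  have e5 : A * (A * B) = 0 := by rw [← mul_assoc, hA, zero_mul]
  have e6 : A * (B * A) = A := by rw [← mul_assoc, hABA]
  have e7 : A * B * (A * B) = A * B := by rw [← mul_assoc, hABA]
  have e8 : B * A * (B * A) = B * A := by rw [← mul_assoc, hBAB]
  have e9 : A * B * (B * A) = 0 := by rw [← mul_assoc, e4, zero_mul]
  have e10 : B * A * (A * B) = 0 := by rw [← mul_assoc, e1, zero_mul]
  simp only [mul_add, add_mul, sub_mul, mul_sub, one_mul, mul_one, smul_mul_assoc, hA, hB, hABA,
    hBAB, e1, e2, e3, e4, e5, e6, e7, e8, e9, e10, smul_zero]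
  abel

theorem torus_mul (hA : A * A = 0) (hABA : A * B * A = A) {t s : K} (hts : t * s = 1) :
    (1 - (A * B + B * A) + t • (A * B) + s • (B * A)) * (1 + A) =
      (1 + (t * t) • A) * (1 - (A * B + B * A) + t • (A * B) + s • (B * A)) := by
  have e1 : B * A * A = 0 := by rw [mul_assoc, hA, mul_zero]
  have e5 : A * (A * B) = 0 := by rw [← mul_assoc, hA, zero_mul]
  have e6 : A * (B * A) = A := by rw [← mul_assoc, hABA]
  simp only [mul_add, add_mul, sub_mul, mul_sub, one_mul, mul_one, smul_mul_assoc, mul_smul_comm,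
    hABA, e1, e5, e6, smul_zero, smul_add, smul_smul]
  simp only [show s * (t * t) = t by rw [← mul_assoc, mul_comm s t, hts, one_mul]]
  abel

end Ring

variable {p : ℕ} [hp : Fact p.Prime] {G V : Type*} [Group G] [CommGroup V] [Finite V]

/-- A transvection that is, up to powers, alone of order `p` in its centralizer. -/
structure Transv (p : ℕ) (L : G →* MulAut V) (z : G) (a₀ : V) : Prop where
  exp : ∀ v : V, v ^ p = 1
  img : ∀ v : V, L z v * v⁻¹ ∈ Subgroup.zpowers a₀
  fix : L z a₀ = a₀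
  ne : L z ≠ 1
  alone : ∀ c : G, L c * L z = L z * L c → L c ^ p = 1 → L c ∈ Subgroup.zpowers (L z)

variable {L : G →* MulAut V} {z : G} {a₀ : V}

theorem Transv.pow_eq_one (T : Transv p L z a₀) : L z ^ p = 1 := by
  refine MulEquiv.ext fun v => ?_
  obtain ⟨i, hi⟩ := Subgroup.mem_zpowers_iff.1 (T.img v)
  rw [MulAut.one_apply]
  refine PGroups.Transvections.pow_fix (v := a₀ ^ i) (by rw [hi, mul_comm v, inv_mul_cancel_right])
    (by rw [map_zpow, T.fix]) ?_
  rw [← zpow_natCast, ← zpow_mul, mul_comm, zpow_mul, zpow_natCast, T.exp, one_zpow]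

theorem Transv.orderOf_eq (T : Transv p L z a₀) : orderOf (L z) = p :=
  orderOf_eq_prime T.pow_eq_one T.ne

set_option maxHeartbeats 800000 in
/-- The copy of `SL₂(p)` given by a conjugate outside `⟨z⟩`. -/
theorem Transv.exists_elements (T : Transv p L z a₀) {g : G}
    (hg : L (g * z * g⁻¹) ∉ Subgroup.zpowers (L z)) :
    ∃ h : G, h ∈ Subgroup.closure {z, g * z * g⁻¹} ∧
      L (h * z * h⁻¹) ∈ Subgroup.zpowers (L (g * z * g⁻¹)) ∧
      ∀ t s : ℤ, (p : ℤ) ∣ t * s - 1 → ∃ d : G, L d a₀ = a₀ ^ t ∧ L d (L g a₀) = L g a₀ ^ s ∧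
        L (d * z * d⁻¹) = L z ^ (t * t) ∧ (∀ v, L z v = v → L d v * v⁻¹ ∈ Subgroup.zpowers a₀) ∧
        d ∈ Subgroup.closure {z, g * z * g⁻¹} := by
  classical
  have hp' := hp.out
  haveI : NeZero p := ⟨hp'.ne_zero⟩
  letI : Module (ZMod p) (Additive V) :=
    AddCommGroup.zmodModule (G := Additive V) (n := p)
      fun v => congrArg Additive.ofMul (T.exp (Additive.toMul v))
  let ρ := (autEnd p V).comp L
  have hρv : ∀ (σ : G) (x : V), ρ σ (Additive.ofMul x) = Additive.ofMul (L σ x) :=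
    fun σ x => autEnd_apply p V (L σ) x
  have hρi : ∀ {σ τ : G}, ρ σ = ρ τ → L σ = L τ := fun {σ τ} h => MulEquiv.ext fun x =>
    Additive.ofMul.injective (by rw [← hρv, ← hρv, h])
  haveI : Nontrivial (Additive V) := by
    obtain ⟨v, hv⟩ : ∃ v, L z v ≠ v := by
      by_contra h
      push Not at h
      exact T.ne (MulEquiv.ext h)
    exact ⟨Additive.ofMul (L z v), Additive.ofMul v, fun e => hv (Additive.ofMul.injective e)⟩
  haveI : CharP (Module.End (ZMod p) (Additive V)) p :=
    charP_of_injective_algebraMap (algebraMap (ZMod p) (Module.End (ZMod p) (Additive V))).injective p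
  set A : Module.End (ZMod p) (Additive V) := ρ z - 1 with hAdef
  have hρz : ρ z = 1 + A := by rw [hAdef]; abel
  set v₀ : Additive V := Additive.ofMul a₀ with hv₀
  have hAv : ∀ v : Additive V, ∃ c : ZMod p, A v = c • v₀ := by
    intro v
    obtain ⟨x, rfl⟩ := Additive.ofMul.surjective v
    obtain ⟨i, hi⟩ := Subgroup.mem_zpowers_iff.1 (T.img x)
    refine ⟨(i : ZMod p), ?_⟩
    rw [Int.cast_smul_eq_zsmul, hAdef, LinearMap.sub_apply, Module.End.one_apply, hρv, hv₀,
      ← ofMul_zpow, ← ofMul_div, hi, div_eq_mul_inv]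
  have hA0 : A v₀ = 0 := by
    rw [hAdef, LinearMap.sub_apply, Module.End.one_apply, sub_eq_zero, hv₀, hρv, T.fix]
  have hA2 : A * A = 0 := LinearMap.ext fun v => by
    obtain ⟨c, hc⟩ := hAv v
    rw [Module.End.mul_apply, hc, map_smul, hA0, smul_zero, LinearMap.zero_apply]
  -- powers of `z`
  have hzn : ∀ {x : G} {X : Module.End (ZMod p) (Additive V)}, X * X = 0 → ρ x = 1 + X →
      ∀ c : ZMod p, ρ (x ^ c.val) = 1 + c • X := fun {x X} hX hx c => by
    rw [map_pow, hx, one_add_pow hX, ← Nat.cast_smul_eq_nsmul (ZMod p), ZMod.natCast_zmod_val]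
  obtain ⟨g', hg'⟩ : ∃ x, x = g * z * g⁻¹ := ⟨_, rfl⟩
  rw [← hg'] at hg ⊢
  set v₁ : Additive V := ρ g v₀ with hv₁
  have hgi : ρ g⁻¹ * ρ g = 1 := by rw [← map_mul, inv_mul_cancel, map_one]
  have hgi' : ρ g * ρ g⁻¹ = 1 := by rw [← map_mul, mul_inv_cancel, map_one]
  set B : Module.End (ZMod p) (Additive V) := ρ g * A * ρ g⁻¹ with hBdef
  have hρg' : ρ g' = 1 + B := by
    rw [hg', map_mul, map_mul, hρz, mul_add, add_mul, mul_one, hgi']
  have hB2 : B * B = 0 := by
    calc B * B = ρ g * A * (ρ g⁻¹ * ρ g) * A * ρ g⁻¹ := by simp only [hBdef, mul_assoc]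
      _ = ρ g * (A * A) * ρ g⁻¹ := by rw [hgi]; simp only [mul_one, mul_assoc]
      _ = 0 := by rw [hA2, mul_zero, zero_mul]
  have hBv : ∀ v : Additive V, ∃ c : ZMod p, B v = c • v₁ := fun v => by
    obtain ⟨c, hc⟩ := hAv (ρ g⁻¹ v)
    exact ⟨c, by rw [hBdef, Module.End.mul_apply, Module.End.mul_apply, hc, map_smul]⟩
  have hg'p : L g' ^ p = 1 := by
    rw [hg', map_mul, map_mul, map_inv, conj_pow, T.pow_eq_one, mul_one, mul_inv_cancel]
  have hg'o : orderOf (L g') = p := orderOf_eq_prime hg'p fun h => hg (h ▸ one_mem _)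
  -- `c = [g', z]` when one product vanishes
  have hside : ∀ {x y : G} {X Y : Module.End (ZMod p) (Additive V)}, ρ x = 1 + X → ρ y = 1 + Y →
      X * X = 0 → Y * Y = 0 → X * Y = 0 → Y * X ≠ 0 → ∃ c : G, L c ≠ 1 ∧ L c ^ p = 1 ∧
        L c * L x = L x * L c ∧ L c * L y = L y * L c := by
    intro x y X Y hx hy hX hY hXY hYX
    let H := L.range
    let σ : H →* Module.End (ZMod p) (Additive V) := (autEnd p V).comp H.subtype
    have hσ : Function.Injective σ := fun a b e => Subtype.ext (MulEquiv.ext fun w =>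
      Additive.ofMul.injective (by rw [← autEnd_apply p V, ← autEnd_apply p V]; exact DFunLike.congr_fun e _))
    obtain ⟨c, -, hc1, hcp, hcx, hcy⟩ := one_sided (p := p) hσ (x := (⟨L x, x, rfl⟩ : H))
      (y := (⟨L y, y, rfl⟩ : H)) hx hy hX hY hXY hYX
    obtain ⟨c', hc'⟩ := c.2
    refine ⟨c', fun e => hc1 (Subtype.ext (hc'.symm.trans e)), ?_, ?_, ?_⟩
    · rw [hc']; exact congrArg Subtype.val hcp
    · rw [hc']; exact congrArg Subtype.val hcx
    · rw [hc']; exact congrArg Subtype.val hcy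
  have halone : ∀ c : G, L c * L z = L z * L c → L c * L g' = L g' * L c → L c ^ p = 1 → L c = 1 := by
    intro c h1 h2 h3
    by_contra hne
    have hc : L c ∈ Subgroup.zpowers (L z) := T.alone c h1 h3
    have hco : orderOf (L c) = p := orderOf_eq_prime h3 hne
    have heq : Subgroup.zpowers (L c) = Subgroup.zpowers (L z) := by
      haveI : Finite (Subgroup.zpowers (L z)) :=
        Nat.finite_of_card_ne_zero (by rw [Nat.card_zpowers, T.orderOf_eq]; exact hp'.ne_zero)
      exact Subgroup.eq_of_le_of_card_ge (Subgroup.zpowers_le.2 hc)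
        (by rw [Nat.card_zpowers, Nat.card_zpowers, hco, T.orderOf_eq])
    obtain ⟨j, hj⟩ := Subgroup.mem_zpowers_iff.1 (heq.ge (Subgroup.mem_zpowers (L z)))
    refine hg (T.alone g' ?_ hg'p)
    rw [← hj]
    exact ((show Commute (L g') (L c) from h2.symm).zpow_right j).eq
  have hboth : A * B = 0 → B * A = 0 → False := fun h1 h2 => by
    have hcomm : L (g' * z) = L (z * g') := hρi (by
      rw [map_mul, map_mul, hρz, hρg', add_mul, mul_add, mul_add, add_mul, mul_add, mul_add, h1, h2]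
      simp only [one_mul, mul_one, add_zero]
      abel)
    rw [map_mul, map_mul] at hcomm
    exact hg (T.alone g' hcomm hg'p)
  have hAB : A * B ≠ 0 := fun h => by
    rcases eq_or_ne (B * A) 0 with h' | h'
    · exact hboth h h'
    obtain ⟨c, hc1, hcp, hcx, hcy⟩ := hside hρz hρg' hA2 hB2 h h'
    exact hc1 (halone c hcx hcy hcp)
  have hBA : B * A ≠ 0 := fun h => by
    obtain ⟨c, hc1, hcp, hcx, hcy⟩ := hside hρg' hρz hB2 hA2 h hAB
    exact hc1 (halone c hcy hcx hcp)
  obtain ⟨lam, hlam⟩ := hAv v₁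
  obtain ⟨mu, hmu⟩ := hBv v₀
  have hlam0 : lam ≠ 0 := fun h => hAB (LinearMap.ext fun v => by
    obtain ⟨c, hc⟩ := hBv v
    rw [Module.End.mul_apply, hc, map_smul, hlam, h, zero_smul, smul_zero, LinearMap.zero_apply])
  have hmu0 : mu ≠ 0 := fun h => hBA (LinearMap.ext fun v => by
    obtain ⟨c, hc⟩ := hAv v
    rw [Module.End.mul_apply, hc, map_smul, hmu, h, zero_smul, smul_zero, LinearMap.zero_apply])
  set k := (lam * mu)⁻¹ with hk
  have hk1 : k * (lam * mu) = 1 := inv_mul_cancel₀ (mul_ne_zero hlam0 hmu0)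
  obtain ⟨z', hz'⟩ : ∃ x, x = g' ^ k.val := ⟨_, rfl⟩
  set B' : Module.End (ZMod p) (Additive V) := k • B with hB'def
  have hρz' : ρ z' = 1 + B' := by rw [hz']; exact hzn hB2 hρg' k
  have hB'2 : B' * B' = 0 := by rw [hB'def, smul_mul_smul_comm, hB2, smul_zero]
  have hB'0 : B' v₀ = (k * mu) • v₁ := by rw [hB'def, LinearMap.smul_apply, hmu, smul_smul]
  have hABA : A * B' * A = A := LinearMap.ext fun v => by
    obtain ⟨c, hc⟩ := hAv v
    rw [Module.End.mul_apply, Module.End.mul_apply, hc, map_smul, hB'0, map_smul, map_smul, hlam,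
      smul_smul, smul_smul, show c * (k * mu) * lam = c * (k * (lam * mu)) by ring1, hk1, mul_one]
  have hBAB : B' * A * B' = B' := LinearMap.ext fun v => by
    obtain ⟨c, hc⟩ := hBv v
    simp only [Module.End.mul_apply, hB'def, LinearMap.smul_apply, hc, map_smul, hlam, hmu]
    simp only [smul_smul]
    rw [show k * (c * (lam * (k * mu))) = k * c * (k * (lam * mu)) by ring1, hk1, mul_one]
  have hinv : ∀ c : ZMod p, ρ (z' ^ (-c).val) = 1 - c • B' := fun c => by
    rw [hzn hB'2 hρz' (-c), neg_smul, sub_eq_add_neg]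
  obtain ⟨w, hw⟩ : ∃ x, x = z * z' ^ (-1 : ZMod p).val * z := ⟨_, rfl⟩
  have hwρ : ρ w = 1 - (A * B' + B' * A) + A - B' := by
    rw [hw, map_mul, map_mul, hinv, hρz]
    have := weyl_eq (B := B') hA2 hABA (t := (1 : ZMod p)) (s := 1) (mul_one 1)
    simp only [one_smul] at this ⊢
    exact this
  refine ⟨w, ?_, ?_, fun t s hts => ?_⟩
  · have hzc : z ∈ Subgroup.closure ({z, g'} : Set G) := Subgroup.subset_closure (Or.inl rfl)
    have hgc : g' ∈ Subgroup.closure ({z, g'} : Set G) := Subgroup.subset_closure (Or.inr rfl)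
    rw [hw, hz']
    exact mul_mem (mul_mem hzc (pow_mem (pow_mem hgc k.val) ((-1 : ZMod p).val))) hzc
  · have h1 : L (w * z) = L (z' ^ (-1 : ZMod p).val * w) := hρi (by
      rw [map_mul, map_mul, hinv, one_smul, hwρ, hρz, weyl_conj hA2 hB'2 hABA hBAB])
    have h2 : L (w * z * w⁻¹) = L (z' ^ (-1 : ZMod p).val) := by
      rw [map_mul L (w * z), h1, ← map_mul, mul_inv_cancel_right]
    rw [h2, hz', ← pow_mul, map_pow]
    exact Subgroup.pow_mem _ (Subgroup.mem_zpowers _) _
  have hts' : (t : ZMod p) * (s : ZMod p) = 1 := by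
    have := (ZMod.intCast_zmod_eq_zero_iff_dvd _ p).2 hts
    rwa [Int.cast_sub, Int.cast_mul, Int.cast_one, sub_eq_zero] at this
  set u := (t : ZMod p)
  set r := (s : ZMod p)
  obtain ⟨wt, hwt⟩ : ∃ x, x = z ^ u.val * z' ^ (-r).val * z ^ u.val := ⟨_, rfl⟩
  obtain ⟨w1, hw1⟩ : ∃ x, x = z ^ (-1 : ZMod p).val * z' ^ (1 : ZMod p).val * z ^ (-1 : ZMod p).val :=
    ⟨_, rfl⟩
  set D : Module.End (ZMod p) (Additive V) := 1 - (A * B' + B' * A) + u • (A * B') + r • (B' * A)
    with hD
  have hd : ρ (wt * w1) = D := by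
    have e1 : ρ wt = 1 - (A * B' + B' * A) + u • A - r • B' := by
      rw [hwt, map_mul, map_mul, hinv, hzn hA2 hρz, weyl_eq hA2 hABA hts']
    have e2 : ρ w1 = 1 - (A * B' + B' * A) - A + B' := by
      rw [hw1, map_mul, map_mul, hzn hA2 hρz, hzn hB'2 hρz', neg_smul, one_smul, one_smul]
      have := weyl_eq hA2 hABA (t := (-1 : ZMod p)) (s := -1) (by ring1)
      simp only [neg_smul, one_smul, sub_neg_eq_add] at this
      rw [this]
      abel
    rw [map_mul, e1, e2, torus_eq hA2 hB'2 hABA hBAB]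
  have hB'1 : B' v₁ = 0 := by
    rw [hB'def, LinearMap.smul_apply, hv₁, hBdef, Module.End.mul_apply, Module.End.mul_apply,
      show ρ g⁻¹ (ρ g v₀) = v₀ by rw [← Module.End.mul_apply, hgi, Module.End.one_apply], hA0,
      map_zero, smul_zero]
  have happ : ∀ v, D v = v - (A (B' v) + B' (A v)) + u • A (B' v) + r • B' (A v) := fun v => by
    simp only [hD, LinearMap.add_apply, LinearMap.sub_apply, LinearMap.smul_apply,
      Module.End.mul_apply, Module.End.one_apply]
  have hD0 : D v₀ = u • v₀ := by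
    have : A (B' v₀) = v₀ := by
      rw [hB'0, map_smul, hlam, smul_smul, show k * mu * lam = k * (lam * mu) by ring1, hk1, one_smul]
    rw [happ, this, hA0, map_zero, smul_zero]
    abel
  have hD1 : D v₁ = r • v₁ := by
    have : B' (A v₁) = v₁ := by
      rw [hlam, map_smul, hB'0, smul_smul, show lam * (k * mu) = k * (lam * mu) by ring1, hk1, one_smul]
    rw [happ, this, hB'1, map_zero, smul_zero]
    abel
  have hback : ∀ (x y : V) (i : ℤ), ρ (wt * w1) (Additive.ofMul x) = (i : ZMod p) • Additive.ofMul y →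
      L (wt * w1) x = y ^ i := fun x y i e => by
    rw [hρv, Int.cast_smul_eq_zsmul, ← ofMul_zpow] at e
    exact Additive.ofMul.injective e
  refine ⟨wt * w1, hback a₀ a₀ t (by rw [hd]; exact hD0), ?_, ?_, fun v hv => ?_, ?_⟩
  · refine hback _ _ s ?_
    rw [hd, ← hρv]
    exact hD1
  · have h1 : L (wt * w1 * z) = L (z ^ (u * u).val * (wt * w1)) := hρi (by
      rw [map_mul ρ _ z, map_mul ρ (z ^ _), hd, hρz, hzn hA2 hρz, torus_mul hA2 hABA hts'])
    rw [map_mul L _ _⁻¹, h1, ← map_mul, mul_inv_cancel_right, map_pow, ← zpow_natCast,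
      zpow_eq_zpow_iff_modEq, T.orderOf_eq, ← ZMod.intCast_eq_intCast_iff, Int.cast_natCast,
      ZMod.natCast_zmod_val, Int.cast_mul]
  · have hAv0 : A (Additive.ofMul v) = 0 := by
      rw [hAdef, LinearMap.sub_apply, Module.End.one_apply, sub_eq_zero, hρv, hv]
    obtain ⟨c, hc⟩ := hAv (B' (Additive.ofMul v))
    have h2 : D (Additive.ofMul v) = Additive.ofMul v + ((u - 1) * c) • v₀ := by
      rw [happ, hAv0, map_zero, smul_zero, hc, ← smul_smul, sub_smul, one_smul]
      abel
    rw [← hd, hρv] at h2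
    refine Subgroup.mem_zpowers_iff.2 ⟨(((u - 1) * c).val : ℤ), Additive.ofMul.injective ?_⟩
    rw [ofMul_mul, ofMul_inv, h2, ofMul_zpow, ← Int.cast_smul_eq_zsmul (ZMod p), Int.cast_natCast,
      ZMod.natCast_zmod_val]
    abel
  · have hzc : z ∈ Subgroup.closure ({z, g'} : Set G) := Subgroup.subset_closure (Or.inl rfl)
    have hgc : g' ∈ Subgroup.closure ({z, g'} : Set G) := Subgroup.subset_closure (Or.inr rfl)
    rw [hwt, hw1, hz']
    exact mul_mem
      (mul_mem (mul_mem (pow_mem hzc _) (pow_mem (pow_mem hgc k.val) _)) (pow_mem hzc _))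
      (mul_mem (mul_mem (pow_mem hzc _) (pow_mem (pow_mem hgc k.val) _)) (pow_mem hzc _))

/-- A homomorphism fixed by the elements normalizing `⟨z⟩` is fixed by everything. -/
theorem Transv.invariant (T : Transv p L z a₀) {A : Type*} [CommGroup A]
    (hA : ∀ y : A, y * y = 1 → y = 1) (θ : V →* A)
    (hN : ∀ n : G, L (n * z * n⁻¹) ∈ Subgroup.zpowers (L z) → ∀ v, θ (L n v) = θ v) (x : G) (v : V) :
    θ (L x v) = θ v := by
  by_cases hx : L (x * z * x⁻¹) ∈ Subgroup.zpowers (L z)
  · exact hN x hx v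
  obtain ⟨h, hh, hhz, htor⟩ := T.exists_elements hx
  obtain ⟨d, hd0, hd1, hdz, -⟩ := htor (-1) (-1) (by simp)
  have hdN := hN d (by rw [hdz]; exact Subgroup.zpow_mem _ (Subgroup.mem_zpowers _) _)
  have h0 : θ a₀ = 1 := by
    refine hA _ ?_
    conv_lhs => arg 1; rw [← hdN a₀, hd0, zpow_neg_one, map_inv]
    exact inv_mul_cancel _
  have h1 : θ (L x a₀) = 1 := by
    refine hA _ ?_
    conv_lhs => arg 1; rw [← hdN (L x a₀), hd1, zpow_neg_one, map_inv]
    exact inv_mul_cancel _
  let Pres : Subgroup G :=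
    { carrier := {y | ∀ w, θ (L y w) = θ w}
      one_mem' := fun w => by rw [map_one, MulAut.one_apply]
      mul_mem' := fun {a b} ha hb w => by rw [map_mul, MulAut.mul_apply, ha, hb]
      inv_mem' := fun {a} ha w => by
        conv_rhs => rw [show w = L a (L a⁻¹ w) by rw [← MulAut.mul_apply, ← map_mul, mul_inv_cancel, map_one, MulAut.one_apply]]
        rw [ha] }
  have hz : z ∈ Pres := fun w => by
    obtain ⟨i, hi⟩ := Subgroup.mem_zpowers_iff.1 (T.img w)
    rw [show L z w = a₀ ^ i * w by rw [hi, inv_mul_cancel_right], map_mul, map_zpow, h0, one_zpow, one_mul]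
  have hz1 : x * z * x⁻¹ ∈ Pres := fun w => by
    set w' := L x⁻¹ w
    obtain ⟨i, hi⟩ := Subgroup.mem_zpowers_iff.1 (T.img w')
    have hw : L x w' = w := by rw [← MulAut.mul_apply, ← map_mul, mul_inv_cancel, map_one, MulAut.one_apply]
    rw [map_mul, map_mul, MulAut.mul_apply, MulAut.mul_apply,
      show L z (L x⁻¹ w) = a₀ ^ i * w' by rw [hi, inv_mul_cancel_right], map_mul, map_zpow, map_mul,
      map_zpow, h1, one_zpow, one_mul, hw]
  have hhP : h ∈ Pres :=
    (Subgroup.closure_le Pres).2 (by rintro y (rfl | rfl) <;> assumption) hh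
  have hn : h⁻¹ * x ∈ Pres := by
    refine hN _ ?_
    set u := L (x * z * x⁻¹) with hu
    have huo : orderOf u = p := orderOf_eq_prime (by
      rw [hu, map_mul, map_mul, map_inv, conj_pow, T.pow_eq_one, mul_one, mul_inv_cancel])
      fun e => hx (by rw [e]; exact one_mem _)
    haveI : Finite (Subgroup.zpowers u) :=
      Nat.finite_of_card_ne_zero (by rw [Nat.card_zpowers, huo]; exact hp.out.ne_zero)
    have ho : orderOf (L (h * z * h⁻¹)) = p := by
      rw [map_mul, map_mul, map_inv, show L h * L z * (L h)⁻¹ = MulAut.conj (L h) (L z) from rfl,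
        MulEquiv.orderOf_eq, T.orderOf_eq]
    have heq : Subgroup.zpowers (L (h * z * h⁻¹)) = Subgroup.zpowers u :=
      Subgroup.eq_of_le_of_card_ge (Subgroup.zpowers_le.2 hhz)
        (by rw [Nat.card_zpowers, Nat.card_zpowers, ho, huo])
    obtain ⟨j, hj⟩ := Subgroup.mem_zpowers_iff.1 (heq.ge (Subgroup.mem_zpowers u))
    refine Subgroup.mem_zpowers_iff.2 ⟨j, ?_⟩
    rw [show h⁻¹ * x * z * (h⁻¹ * x)⁻¹ = h⁻¹ * (x * z * x⁻¹) * h by group, map_mul, map_mul, ← hu, ← hj]
    simp only [map_mul, map_inv, conj_zpow]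
    group
  have := Pres.mul_mem hhP hn v
  rwa [mul_inv_cancel_left] at this

end CfsgLib.Fusion.TransvAut
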