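import Cfsg.Agent.Lib.Fusion.SmallSimple
import Cfsg.Agent.Lib.Sporadic.Perms
import Cfsg.Agent.Lib.Core.Nilpotent

/-!
# Certificates for a Sylow `2`-subgroup of a permutation group on the 24 points

From packed generators `g 0, g 1, …` of a `2`-group with `g j ∉ ⟨g i : i < j⟩`, a description of each
step of that series that is invariant under the normaliser, and a straight line program of
conjugations and products starting at `g 0`, the hypotheses of `groupFusion_isSimple_of_data_conj`.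
-/

set_option autoImplicit false

namespace CfsgLib.Fusion

open Cfsg CfsgLib.Sporadic

namespace Cert

noncomputable def memL (p : ℕ) (l : List ℕ) : Bool :=
  List.rec false (fun q _ ih => Nat.beq p q || ih) l

theorem memL_iff {p : ℕ} {l : List ℕ} : memL p l = true ↔ p ∈ l := by
  induction l with
  | nil => simp [memL]
  | cons q l ih =>
    show (Nat.beq p q || memL p l) = true ↔ _
    simp [ih, Nat.beq_eq]

noncomputable def allL (l : List ℕ) (f : ℕ → Bool) : Bool :=
  List.rec true (fun q _ ih => f q && ih) l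

theorem allL_iff {l : List ℕ} {f : ℕ → Bool} : allL l f = true ↔ ∀ q ∈ l, f q = true := by
  induction l with
  | nil => simp [allL]
  | cons q l ih =>
    show (f q && allL l f) = true ↔ _
    simp [ih]

noncomputable def filterL (l : List ℕ) (f : ℕ → Bool) : List ℕ :=
  List.rec [] (fun q _ ih => cond (f q) (q :: ih) ih) l

theorem mem_filterL {l : List ℕ} {f : ℕ → Bool} {p : ℕ} :
    p ∈ filterL l f ↔ p ∈ l ∧ f p = true := by
  induction l with
  | nil => simp [filterL]
  | cons q l ih =>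
    show p ∈ cond (f q) (q :: filterL l f) (filterL l f) ↔ _
    cases hq : f q
    · simp only [cond_false, ih, List.mem_cons]
      exact ⟨fun h => ⟨Or.inr h.1, h.2⟩, fun h => ⟨h.1.resolve_left fun e => by
        rw [e, hq] at h; exact Bool.false_ne_true h.2, h.2⟩⟩
    · simp only [cond_true, List.mem_cons, ih]
      constructor
      · rintro (rfl | h)
        · exact ⟨Or.inl rfl, hq⟩
        · exact ⟨Or.inr h.1, h.2⟩
      · rintro ⟨rfl | h, h2⟩
        · exact Or.inl rfl
        · exact Or.inr ⟨h, h2⟩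

/-- The elements of the group generated by the first `j` generators. -/
noncomputable def elems (g : List ℕ) (j : ℕ) : List ℕ :=
  Nat.rec [pone] (fun i l => l ++ l.map (fun w => pmul w (g.getD i pone))) j

/-- Whether two packed permutations commute. -/
noncomputable def comm (p q : ℕ) : Bool := Nat.beq (pmul p q) (pmul q p)

/-- The common fixed points of two packed permutations. -/
noncomputable def commonFix (p q : ℕ) : ℕ :=
  countLt 24 (fun i => Nat.beq (pget p i) i && Nat.beq (pget q i) i)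

/-- An invariant of a packed permutation relative to the packed `z`. -/
noncomputable def key (z p : ℕ) : ℕ :=
  Nat.add (cond (Nat.beq (pmul p p) pone) 1 0)
    (Nat.add (cond (Nat.beq (pmul (pmul p p) (pmul p p)) pone) 2 0)
      (Nat.add (Nat.mul 4 (commonFix p p)) (Nat.mul 128 (commonFix p z))))

/-- The description of one step of the series. -/
structure Step where
  /-- the centraliser of the set, or the group it generates -/
  cen : Bool
  /-- the set consists of squares -/
  sq : Bool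
  /-- the value of the key, if any -/
  c : Option ℕ
  /-- for a centraliser: the step inside which it is taken -/
  b : ℕ
  /-- for a generated group: the generators as products of elements of the set -/
  words : List (List ℕ)

def dfltStep : Step := ⟨false, false, none, 0, []⟩

/-- The invariant set of a step. -/
noncomputable def stepSet (g : List ℕ) (k : ℕ) (s : Step) : List ℕ :=
  cond s.sq
    ((filterL (elems g k) fun p => Option.elim s.c true (Nat.beq (key (g.getD 0 pone) p))).map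
      fun p => pmul p p)
    (filterL (elems g k) fun p => Option.elim s.c true (Nat.beq (key (g.getD 0 pone) p)))

noncomputable def wordProd (l : List ℕ) : ℕ := List.rec pone (fun p _ ih => pmul p ih) l

noncomputable def commAll (X : List ℕ) (p : ℕ) : Bool := allL X (comm p)

noncomputable def chkStep (g : List ℕ) (k : ℕ) (steps : List Step) (j : ℕ) (s : Step) : Bool :=
  cond s.cen
    ((Nat.beq s.b k || (Nat.blt s.b k && Nat.blt j s.b && !(steps.getD s.b dfltStep).cen)) &&
      allL (filterL (elems g s.b) (commAll (stepSet g k s))) (fun p => memL p (elems g j)) &&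
      forallLt j (fun i => memL (g.getD i pone) (elems g s.b) &&
        commAll (stepSet g k s) (g.getD i pone)))
    (allL (stepSet g k s) (fun p => memL p (elems g j)) &&
      forallLt j (fun i => allL (s.words.getD i []) (fun p => memL p (stepSet g k s)) &&
        Nat.beq (wordProd (s.words.getD i [])) (g.getD i pone)))

/-- The polycyclic presentation. -/
noncomputable def chkPc (g : List ℕ) (j : ℕ) (conj : List ℕ) : Bool :=
  memL (pmul (g.getD j pone) (g.getD j pone)) (elems g j) &&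
    !(memL (g.getD j pone) (elems g j)) &&
    forallLt j (fun i => memL (conj.getD i pone) (elems g j) &&
      Nat.beq (pmul (g.getD j pone) (g.getD i pone)) (pmul (conj.getD i pone) (g.getD j pone)))

noncomputable def chkCenter (g : List ℕ) (k : ℕ) : Bool :=
  allL (filterL (elems g k) fun p => forallLt k fun i => comm p (g.getD i pone))
    (fun p => memL p [pone, g.getD 0 pone])

/-- One operation of the program: a product of two earlier entries, or a conjugate of one. -/
inductive Op where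
  | mul (i j : ℕ)
  | conj (i c v : ℕ)

noncomputable def opOk (inM : ℕ → Bool) (L : List ℕ) (acc : List ℕ) : Op → Bool
  | .mul i j => memL i acc && memL j acc
  | .conj i c v => memL i acc && inM c && memL v L && Nat.beq (pmul c i) (pmul v c)

noncomputable def opVal : Op → ℕ
  | .mul i j => pmul i j
  | .conj _ _ v => v

noncomputable def chkProg (inM : ℕ → Bool) (L : List ℕ) (tgt : List ℕ) (ops : List Op) :
    List ℕ → Bool :=
  List.rec (fun acc => allL tgt (fun p => memL p acc))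
    (fun op _ ih acc => opOk inM L acc op && ih (opVal op :: acc)) ops

/-- The whole certificate. -/
noncomputable def chk (inM : ℕ → Bool) (g : List ℕ) (k : ℕ) (conjs : List (List ℕ))
    (steps : List Step) (ops : List Op) : Bool :=
  Nat.blt 0 k && Nat.beq g.length k &&
    forallLt k (fun j => inM (g.getD j pone) &&
      Nat.beq (pmul (g.getD j pone) pone) (g.getD j pone) && chkPc g j (conjs.getD j [])) &&
    forallLt k (fun j => Nat.beq j 0 || chkStep g k steps j (steps.getD j dfltStep)) &&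
    chkCenter g k && chkProg inM (elems g k) g ops [g.getD 0 pone]

/-! ### soundness -/

variable {g : List ℕ}

def InL (l : List ℕ) (σ : Equiv.Perm GolayPt) : Prop := ∃ p ∈ l, Rep σ p

theorem elems_succ (j : ℕ) :
    elems g (j + 1) = elems g j ++ (elems g j).map (fun w => pmul w (g.getD j pone)) := rfl

/-- A reading of the packed generators as permutations. -/
def genPerm (σ : ℕ → Equiv.Perm GolayPt) (j : ℕ) : Subgroup (Equiv.Perm GolayPt) :=
  Subgroup.closure (σ '' Set.Iio j)

theorem genPerm_succ (σ : ℕ → Equiv.Perm GolayPt) (j : ℕ) :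
    genPerm σ (j + 1) = genPerm σ j ⊔ Subgroup.zpowers (σ j) := by
  rw [genPerm, genPerm, Subgroup.zpowers_eq_closure, ← Subgroup.closure_union]
  congr 1
  ext x
  simp only [Set.mem_image, Set.mem_Iio, Set.mem_union, Set.mem_singleton_iff]
  constructor
  · rintro ⟨i, hi, rfl⟩
    rcases Nat.lt_succ_iff_lt_or_eq.1 hi with h | rfl
    · exact Or.inl ⟨i, h, rfl⟩
    · exact Or.inr rfl
  · rintro (⟨i, hi, rfl⟩ | rfl)
    · exact ⟨i, Nat.lt_succ_of_lt hi, rfl⟩
    · exact ⟨j, Nat.lt_succ_self _, rfl⟩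

theorem rep_wordProd {K : Subgroup (Equiv.Perm GolayPt)} (l : List ℕ)
    (h : ∀ p ∈ l, ∃ σ ∈ K, Rep σ p) : ∃ σ ∈ K, Rep σ (wordProd l) := by
  induction l with
  | nil => exact ⟨1, one_mem _, Rep.one⟩
  | cons p l ih =>
    obtain ⟨σ, hσ, hr⟩ := h p List.mem_cons_self
    obtain ⟨τ, hτ, hs⟩ := ih fun q hq => h q (List.mem_cons_of_mem _ hq)
    exact ⟨σ * τ, mul_mem hσ hτ, hr.mul hs⟩

/-- Equal packed products give equal products. -/
theorem eq_of_beq {σ τ : Equiv.Perm GolayPt} {p q : ℕ} (h : Rep σ p) (h' : Rep τ q)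
    (e : Nat.beq p q = true) : σ = τ := by
  rw [Nat.eq_of_beq_eq_true e] at h
  exact Sporadic.Rep.unique h h'

/-- On products, packed equality is faithful. -/
theorem beq_pmul_iff {a b c d : Equiv.Perm GolayPt} {p q r s : ℕ} (ha : Rep a p) (hb : Rep b q)
    (hc : Rep c r) (hd : Rep d s) : Nat.beq (pmul p q) (pmul r s) = true ↔ a * b = c * d := by
  refine ⟨eq_of_beq (ha.mul hb) (hc.mul hd), fun h => ?_⟩
  have key : ∀ i, i < 24 → pget p (pget q i) = pget r (pget s i) := by
    intro i hi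
    have h1 := hb (pt i)
    have h2 := hd (pt i)
    rw [ix_pt hi] at h1 h2
    rw [h1, h2, ha, hc]
    exact congrArg ix (DFunLike.congr_fun h (pt i))
  have e : pmul p q = pmul r s := by
    have aux : ∀ n, n ≤ 24 →
        (Nat.rec 0 (fun i acc => Nat.lor acc (Nat.shiftLeft (pget p (pget q i)) (Nat.mul 5 i))) n : ℕ) =
        Nat.rec 0 (fun i acc => Nat.lor acc (Nat.shiftLeft (pget r (pget s i)) (Nat.mul 5 i))) n := by
      intro n hn
      induction n with
      | zero => rfl
      | succ n ih =>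
        show Nat.lor _ _ = Nat.lor _ _
        rw [ih (by omega), key n (by omega)]
    exact aux 24 le_rfl
  simp [e]

theorem pone_sq : pmul pone pone = pone := by decide +kernel

/-- A packed permutation in normal form. -/
def Canon (p : ℕ) : Prop := pmul p pone = p

theorem canon_pone : Canon pone := pone_sq

theorem canon_pmul {a b : Equiv.Perm GolayPt} {p q : ℕ} (ha : Rep a p) (hb : Rep b q) :
    Canon (pmul p q) :=
  Nat.eq_of_beq_eq_true ((beq_pmul_iff (ha.mul hb) Rep.one ha hb).2 (mul_one _))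

theorem eq_of_rep {a : Equiv.Perm GolayPt} {p q : ℕ} (hp : Rep a p) (hq : Rep a q) (cp : Canon p)
    (cq : Canon q) : p = q := by
  rw [← cp, ← cq]
  exact Nat.eq_of_beq_eq_true ((beq_pmul_iff hp Rep.one hq Rep.one).2 rfl)

theorem beq_pone_iff {a b : Equiv.Perm GolayPt} {p q : ℕ} (ha : Rep a p) (hb : Rep b q) :
    Nat.beq (pmul p q) pone = true ↔ a * b = 1 := by
  conv_lhs => rw [← pone_sq]
  rw [beq_pmul_iff ha hb Rep.one Rep.one, one_mul]

theorem commonFix_eq {a b : Equiv.Perm GolayPt} {p q : ℕ} (ha : Rep a p) (hb : Rep b q) :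
    commonFix p q = (Finset.univ.filter fun x : GolayPt => a x = x ∧ b x = x).card := by
  rw [commonFix, countLt_eq, ← image_ix_univ, Finset.filter_image,
    Finset.card_image_of_injective _ ix_injective]
  congr 1
  ext x
  simp only [Finset.mem_filter, Finset.mem_univ, true_and, Bool.and_eq_true, Nat.beq_eq, ha x, hb x,
    ix_inj]

theorem commonFix_conj {a b a' b' n : Equiv.Perm GolayPt} {p q p' q' : ℕ} (ha : Rep a p)
    (hb : Rep b q) (ha' : Rep a' p') (hb' : Rep b' q') (hna : a' = n * a * n⁻¹)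
    (hnb : b' = n * b * n⁻¹) : commonFix p' q' = commonFix p q := by
  rw [commonFix_eq ha' hb', commonFix_eq ha hb]
  symm
  refine Finset.card_equiv n fun x => ?_
  subst hna hnb
  simp only [Finset.mem_filter, Finset.mem_univ, true_and]
  simp [Equiv.Perm.mul_apply, Equiv.Perm.inv_def]

theorem key_conj {a z a' n : Equiv.Perm GolayPt} {p w p' : ℕ} (ha : Rep a p) (hz : Rep z w)
    (ha' : Rep a' p') (hna : a' = n * a * n⁻¹) (hnz : z = n * z * n⁻¹) : key w p' = key w p := by
  have h2 : Nat.beq (pmul p' p') pone = Nat.beq (pmul p p) pone := by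
    rw [Bool.eq_iff_iff, beq_pone_iff ha' ha' , beq_pone_iff ha ha, hna]
    rw [show n * a * n⁻¹ * (n * a * n⁻¹) = n * (a * a) * n⁻¹ by group, conj_eq_one_iff]
  have h4 : Nat.beq (pmul (pmul p' p') (pmul p' p')) pone =
      Nat.beq (pmul (pmul p p) (pmul p p)) pone := by
    rw [Bool.eq_iff_iff, beq_pone_iff (ha'.mul ha') (ha'.mul ha'),
      beq_pone_iff (ha.mul ha) (ha.mul ha), hna]
    rw [show n * a * n⁻¹ * (n * a * n⁻¹) * (n * a * n⁻¹ * (n * a * n⁻¹)) =
      n * (a * a * (a * a)) * n⁻¹ by group, conj_eq_one_iff]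
  rw [key, key, h2, h4, commonFix_conj ha ha ha' ha' hna hna, commonFix_conj ha hz ha' hz hna hnz]

section Sound

variable {M : Subgroup (Equiv.Perm GolayPt)} {inM : ℕ → Bool} {k : ℕ} {conjs : List (List ℕ)}
  {steps : List Step} {ops : List Op} {σ : ℕ → Equiv.Perm GolayPt}

/-- The elements of the series are the listed ones. -/
def Listed (g : List ℕ) (σ : ℕ → Equiv.Perm GolayPt) (j : ℕ) : Prop :=
  (∀ x, x ∈ genPerm σ j ↔ InL (elems g j) x) ∧
    (∀ p ∈ elems g j, ∃ x : Equiv.Perm GolayPt, Rep x p ∧ Canon p) ∧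
    Nat.card (genPerm σ j) = 2 ^ j

theorem listed_zero : Listed g σ 0 := by
  have hbot : genPerm σ 0 = ⊥ := by simp [genPerm]
  refine ⟨fun x => ?_, fun p hp => ?_, by rw [hbot, Subgroup.card_bot, pow_zero]⟩
  · rw [hbot, Subgroup.mem_bot]
    constructor
    · rintro rfl; exact ⟨pone, List.mem_singleton_self _, Rep.one⟩
    · rintro ⟨p, hp, hr⟩
      obtain rfl : p = pone := List.mem_singleton.1 hp
      exact Sporadic.Rep.unique hr Rep.one
  · obtain rfl : p = pone := List.mem_singleton.1 hp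
    exact ⟨1, Rep.one, canon_pone⟩

theorem conj_mem_genPerm {j : ℕ} {n : Equiv.Perm GolayPt}
    (h : ∀ i < j, n * σ i * n⁻¹ ∈ genPerm σ j) {y : Equiv.Perm GolayPt} (hy : y ∈ genPerm σ j) :
    n * y * n⁻¹ ∈ genPerm σ j := by
  induction hy using Subgroup.closure_induction with
  | mem y hy => obtain ⟨i, hi, rfl⟩ := hy; exact h i hi
  | one => simp
  | mul a b _ _ ha hb =>
    rw [show n * (a * b) * n⁻¹ = n * a * n⁻¹ * (n * b * n⁻¹) by group]
    exact mul_mem ha hb
  | inv a _ ha =>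
    rw [show n * a⁻¹ * n⁻¹ = (n * a * n⁻¹)⁻¹ by group]
    exact inv_mem ha

theorem listed_succ {j : ℕ} {conj : List ℕ} (h : Listed g σ j) (hσ : Rep (σ j) (g.getD j pone))
    (hσlt : ∀ i < j, Rep (σ i) (g.getD i pone)) (hcan : Canon (g.getD j pone))
    (hpc : chkPc g j conj = true) : Listed g σ (j + 1) := by
  obtain ⟨hmem, hrep, hcard⟩ := h
  simp only [chkPc, Bool.and_eq_true, Bool.not_eq_true', forallLt_iff, memL_iff,
    Nat.beq_eq] at hpc
  obtain ⟨⟨hsq, hnot⟩, hcj⟩ := hpc
  set s := σ j with hs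
  have hsq' : s * s ∈ genPerm σ j := (hmem _).2 ⟨_, hsq, hσ.mul hσ⟩
  have hnot' : s ∉ genPerm σ j := by
    intro h
    obtain ⟨p, hp, hr⟩ := (hmem _).1 h
    obtain ⟨x, -, hcp⟩ := hrep p hp
    rw [Bool.eq_false_iff, ne_eq, memL_iff] at hnot
    exact hnot (eq_of_rep hσ hr hcan hcp ▸ hp)
  have hconj : ∀ y ∈ genPerm σ j, s * y * s⁻¹ ∈ genPerm σ j := fun y hy =>
    conj_mem_genPerm (fun i hi => by
      obtain ⟨hw, he⟩ := hcj i hi
      obtain ⟨τ, hτ, -⟩ := hrep _ hw
      rw [eq_of_beq (hσ.mul (hσlt i hi)) (hτ.mul hσ) (by rw [he]; simp), mul_inv_cancel_right]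
      exact (hmem _).2 ⟨_, hw, hτ⟩) hy
  have hsinv : s⁻¹ = (s * s)⁻¹ * s := by group
  have hlist : ∀ x, InL (elems g (j + 1)) x ↔
      x ∈ genPerm σ j ∨ ∃ y ∈ genPerm σ j, x = y * s := by
    intro x
    constructor
    · rintro ⟨p, hp, hr⟩
      rw [elems_succ, List.mem_append, List.mem_map] at hp
      rcases hp with hp | ⟨w, hw, rfl⟩
      · exact Or.inl ((hmem _).2 ⟨p, hp, hr⟩)
      · obtain ⟨y, hy, -⟩ := hrep w hw
        exact Or.inr ⟨y, (hmem _).2 ⟨w, hw, hy⟩, Sporadic.Rep.unique hr (hy.mul hσ)⟩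
    · rintro (hx | ⟨y, hy, rfl⟩)
      · obtain ⟨p, hp, hr⟩ := (hmem _).1 hx
        exact ⟨p, elems_succ j ▸ List.mem_append_left _ hp, hr⟩
      · obtain ⟨p, hp, hr⟩ := (hmem _).1 hy
        exact ⟨_, elems_succ j ▸ List.mem_append_right _ (List.mem_map.2 ⟨p, hp, rfl⟩), hr.mul hσ⟩
  let K : Subgroup (Equiv.Perm GolayPt) :=
    { carrier := {x | x ∈ genPerm σ j ∨ ∃ y ∈ genPerm σ j, x = y * s}
      one_mem' := Or.inl (one_mem _)
      mul_mem' := by
        rintro a b (ha | ⟨y, hy, rfl⟩) (hb | ⟨z, hz, rfl⟩)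
        · exact Or.inl (mul_mem ha hb)
        · exact Or.inr ⟨a * z, mul_mem ha hz, by group⟩
        · exact Or.inr ⟨y * (s * b * s⁻¹), mul_mem hy (hconj b hb), by group⟩
        · refine Or.inl ?_
          rw [show y * s * (z * s) = y * (s * z * s⁻¹) * (s * s) by group]
          exact mul_mem (mul_mem hy (hconj z hz)) hsq'
      inv_mem' := by
        rintro a (ha | ⟨y, hy, rfl⟩)
        · exact Or.inl (inv_mem ha)
        · refine Or.inr ⟨(s * s)⁻¹ * (s * y⁻¹ * s⁻¹), mul_mem (inv_mem hsq') (hconj _ (inv_mem hy)), ?_⟩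
          group }
  have hK : genPerm σ (j + 1) = K := by
    rw [genPerm_succ]
    refine le_antisymm (sup_le (fun x hx => Or.inl hx)
      (Subgroup.zpowers_le.2 (Or.inr ⟨1, one_mem _, (one_mul s).symm⟩))) ?_
    rintro x (hx | ⟨y, hy, rfl⟩)
    · exact Subgroup.mem_sup_left hx
    · exact mul_mem (Subgroup.mem_sup_left hy) (Subgroup.mem_sup_right (Subgroup.mem_zpowers s))
  refine ⟨fun x => by rw [hK, hlist]; exact Iff.rfl, fun p hp => ?_, ?_⟩
  · rw [elems_succ, List.mem_append, List.mem_map] at hp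
    rcases hp with hp | ⟨w, hw, rfl⟩
    · exact hrep p hp
    · obtain ⟨y, hy, -⟩ := hrep w hw
      exact ⟨_, hy.mul hσ, canon_pmul hy hσ⟩
  · let f : genPerm σ j × Bool → K := fun yb =>
      cond yb.2 ⟨yb.1 * s, Or.inr ⟨_, yb.1.2, rfl⟩⟩ ⟨yb.1, Or.inl yb.1.2⟩
    have hf : Function.Bijective f := by
      refine ⟨?_, ?_⟩
      · rintro ⟨a, _ | _⟩ ⟨b, _ | _⟩ h <;>
          simp only [f, cond_true, cond_false, Subtype.mk.injEq] at h
        · exact Prod.ext (Subtype.ext h) rfl
        · refine absurd ?_ hnot'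
          rw [show s = (b : Equiv.Perm GolayPt)⁻¹ * a by rw [h]; group]
          exact mul_mem (inv_mem b.2) a.2
        · refine absurd ?_ hnot'
          rw [show s = (a : Equiv.Perm GolayPt)⁻¹ * b by rw [← h]; group]
          exact mul_mem (inv_mem a.2) b.2
        · exact Prod.ext (Subtype.ext (mul_right_cancel h)) rfl
      · rintro ⟨x, hx | ⟨y, hy, rfl⟩⟩
        · exact ⟨(⟨x, hx⟩, false), rfl⟩
        · exact ⟨(⟨y, hy⟩, true), rfl⟩
    rw [hK, ← Nat.card_congr (Equiv.ofBijective f hf), Nat.card_prod, hcard,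
      Nat.card_eq_fintype_card, Fintype.card_bool, pow_succ]

theorem commAll_iff {X : List ℕ} {a : Equiv.Perm GolayPt} {p : ℕ} (ha : Rep a p)
    (hX : ∀ q ∈ X, ∃ b : Equiv.Perm GolayPt, Rep b q) :
    commAll X p = true ↔ ∀ q ∈ X, ∀ b, Rep b q → a * b = b * a := by
  rw [commAll, allL_iff]
  refine forall₂_congr fun q hq => ?_
  obtain ⟨b, hb⟩ := hX q hq
  rw [comm, beq_pmul_iff ha hb hb ha]
  exact ⟨fun h b' hb' => by rw [Sporadic.Rep.unique hb' hb]; exact h, fun h => h b hb⟩

/-- The invariant set of a step is invariant. -/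
theorem stepSet_invariant {n z : Equiv.Perm GolayPt} {s : Step}
    (hL : Listed g σ k) (hn : ∀ x ∈ genPerm σ k, n * x * n⁻¹ ∈ genPerm σ k)
    (hz : Rep z (g.getD 0 pone)) (hnz : z = n * z * n⁻¹) {p : ℕ} (hp : p ∈ stepSet g k s) :
    ∃ a b : Equiv.Perm GolayPt, a ∈ genPerm σ k ∧ Rep a p ∧ b = n * a * n⁻¹ ∧
      ∃ q ∈ stepSet g k s, Rep b q := by
  obtain ⟨hmem, hrep, -⟩ := hL
  have key' : ∀ w ∈ elems g k, Option.elim s.c true (Nat.beq (key (g.getD 0 pone) w)) = true →
      ∃ a, Rep a w ∧ a ∈ genPerm σ k ∧ ∃ w' ∈ elems g k, Rep (n * a * n⁻¹) w' ∧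
        Option.elim s.c true (Nat.beq (key (g.getD 0 pone) w')) = true := by
    intro w hw hc
    obtain ⟨a, ha, -⟩ := hrep w hw
    have haH : a ∈ genPerm σ k := (hmem _).2 ⟨w, hw, ha⟩
    obtain ⟨w', hw', ha'⟩ := (hmem _).1 (hn a haH)
    refine ⟨a, ha, haH, w', hw', ha', ?_⟩
    rwa [key_conj ha hz ha' rfl hnz]
  simp only [stepSet] at hp ⊢
  cases hs : s.sq
  · rw [hs] at hp
    simp only [cond_false] at hp ⊢
    obtain ⟨hw, hc⟩ := mem_filterL.1 hp
    obtain ⟨a, ha, haH, w', hw', ha', hc'⟩ := key' p hw hc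
    exact ⟨a, _, haH, ha, rfl, w', mem_filterL.2 ⟨hw', hc'⟩, ha'⟩
  · rw [hs] at hp
    simp only [cond_true, List.mem_map] at hp ⊢
    obtain ⟨w, hw, rfl⟩ := hp
    obtain ⟨hw1, hc⟩ := mem_filterL.1 hw
    obtain ⟨a, ha, haH, w', hw', ha', hc'⟩ := key' w hw1 hc
    exact ⟨a * a, _, mul_mem haH haH, ha.mul ha, rfl, pmul w' w',
      ⟨w', mem_filterL.2 ⟨hw', hc'⟩, rfl⟩,
      by rw [show n * (a * a) * n⁻¹ = n * a * n⁻¹ * (n * a * n⁻¹) by group]; exact ha'.mul ha'⟩

theorem stepSet_rep {s : Step} (hL : Listed g σ k) {p : ℕ} (hp : p ∈ stepSet g k s) :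
    ∃ a : Equiv.Perm GolayPt, a ∈ genPerm σ k ∧ Rep a p := by
  obtain ⟨hmem, hrep, -⟩ := hL
  simp only [stepSet] at hp
  cases hs : s.sq
  · rw [hs] at hp
    simp only [cond_false] at hp
    obtain ⟨hw, -⟩ := mem_filterL.1 hp
    obtain ⟨a, ha, -⟩ := hrep p hw
    exact ⟨a, (hmem _).2 ⟨p, hw, ha⟩, ha⟩
  · rw [hs] at hp
    simp only [cond_true, List.mem_map] at hp
    obtain ⟨w, hw, rfl⟩ := hp
    obtain ⟨hw1, -⟩ := mem_filterL.1 hw
    obtain ⟨a, ha, -⟩ := hrep w hw1
    have := (hmem _).2 ⟨w, hw1, ha⟩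
    exact ⟨a * a, mul_mem this this, ha.mul ha⟩

/-- A generated step is invariant. -/
theorem gen_invariant {n z : Equiv.Perm GolayPt} {j : ℕ} {s : Step}
    (hLk : Listed g σ k) (hLj : Listed g σ j) (hσ : ∀ i < j, Rep (σ i) (g.getD i pone))
    (hn : ∀ x ∈ genPerm σ k, n * x * n⁻¹ ∈ genPerm σ k)
    (hz : Rep z (g.getD 0 pone)) (hnz : z = n * z * n⁻¹)
    (hcen : s.cen = false) (hchk : chkStep g k steps j s = true) :
    ∀ x ∈ genPerm σ j, n * x * n⁻¹ ∈ genPerm σ j := by
  simp only [chkStep, hcen, cond_false, Bool.and_eq_true, allL_iff, forallLt_iff, memL_iff,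
    Nat.beq_eq] at hchk
  obtain ⟨hsub, hw⟩ := hchk
  intro x hx
  refine conj_mem_genPerm (fun i hi => ?_) hx
  obtain ⟨hwi, he⟩ := hw i hi
  obtain ⟨τ, hτ, hr⟩ := rep_wordProd (K := (genPerm σ j).comap (MulAut.conj n).toMonoidHom)
    (s.words.getD i []) (fun p hp => by
      obtain ⟨a, b, -, ha, hb, q, hq, hbq⟩ := stepSet_invariant hLk hn hz hnz (hwi p hp)
      exact ⟨a, show n * a * n⁻¹ ∈ genPerm σ j from hb ▸ (hLj.1 b).2 ⟨q, hsub q hq, hbq⟩, ha⟩)
  rw [he] at hr
  rw [Sporadic.Rep.unique (hσ i hi) hr]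
  exact hτ

/-- A centraliser step is invariant. -/
theorem cen_invariant {n z : Equiv.Perm GolayPt} {j : ℕ} {s : Step}
    (hLk : Listed g σ k) (hLj : Listed g σ j) (hLb : Listed g σ s.b)
    (hσ : ∀ i < j, Rep (σ i) (g.getD i pone))
    (hn : ∀ x ∈ genPerm σ k, n * x * n⁻¹ ∈ genPerm σ k)
    (hn' : ∀ x ∈ genPerm σ k, n⁻¹ * x * n ∈ genPerm σ k)
    (hnb : ∀ x ∈ genPerm σ s.b, n * x * n⁻¹ ∈ genPerm σ s.b)
    (hz : Rep z (g.getD 0 pone)) (hnz : z = n * z * n⁻¹)
    (hcen : s.cen = true) (hchk : chkStep g k steps j s = true) :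
    ∀ x ∈ genPerm σ j, n * x * n⁻¹ ∈ genPerm σ j := by
  simp only [chkStep, hcen, cond_true, Bool.and_eq_true, allL_iff, forallLt_iff, memL_iff,
    mem_filterL, and_imp] at hchk
  obtain ⟨⟨-, hsub⟩, hw⟩ := hchk
  have hX : ∀ q ∈ stepSet g k s, ∃ b : Equiv.Perm GolayPt, Rep b q := fun q hq =>
    (stepSet_rep hLk hq).imp fun b hb => hb.2
  intro x hx
  refine conj_mem_genPerm (fun i hi => ?_) hx
  obtain ⟨hib, hic⟩ := hw i hi
  rw [commAll_iff (hσ i hi) hX] at hic
  obtain ⟨q, hq, hr⟩ := (hLb.1 _).1 (hnb _ ((hLb.1 _).2 ⟨_, hib, hσ i hi⟩))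
  refine (hLj.1 _).2 ⟨q, hsub q hq ((commAll_iff hr hX).2 fun t ht b hb => ?_), hr⟩
  have hbH : b ∈ genPerm σ k := by
    obtain ⟨b', hb', hb''⟩ := stepSet_rep hLk ht
    rwa [Sporadic.Rep.unique hb hb'']
  have hnz' : z = n⁻¹ * z * n⁻¹⁻¹ := by
    conv_rhs => rw [hnz]
    group
  obtain ⟨a, c, -, ha, hc, t', ht', hct⟩ := stepSet_invariant hLk
    (fun y hy => by simpa using hn' y hy) hz hnz' ht
  obtain rfl : a = b := Sporadic.Rep.unique ha hb
  have h1 := hic t' ht' c hct
  subst hc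
  calc n * σ i * n⁻¹ * a = n * (σ i * (n⁻¹ * a * n⁻¹⁻¹)) * n⁻¹ := by group
    _ = n * ((n⁻¹ * a * n⁻¹⁻¹) * σ i) * n⁻¹ := by rw [h1]
    _ = a * (n * σ i * n⁻¹) := by group

theorem prog_mem {T : Subgroup M} (hM : ∀ p, inM p = true → ∃ σ ∈ M, Rep σ p) {L : List ℕ}
    {H : Subgroup (Equiv.Perm GolayPt)} (hL : ∀ v ∈ L, ∃ x ∈ H, Rep x v)
    (hHM : H ≤ M)
    (hT : ∀ x ∈ T, ∀ c : M, ((c * x * c⁻¹ : M) : Equiv.Perm GolayPt) ∈ H → c * x * c⁻¹ ∈ T)
    {tgt : List ℕ} (ops : List Op) :
    ∀ acc : List ℕ, (∀ p ∈ acc, ∃ t ∈ T, Rep (t : Equiv.Perm GolayPt) p) →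
      chkProg inM L tgt ops acc = true →
      ∀ p ∈ tgt, ∃ t ∈ T, Rep (t : Equiv.Perm GolayPt) p := by
  induction ops with
  | nil =>
    intro acc hacc h p hp
    exact hacc p (memL_iff.1 (allL_iff.1 h p hp))
  | cons op ops ih =>
    intro acc hacc h
    have h' : (opOk inM L acc op && chkProg inM L tgt ops (opVal op :: acc)) = true := h
    rw [Bool.and_eq_true] at h'
    refine ih _ (fun p hp => ?_) h'.2
    rcases List.mem_cons.1 hp with rfl | hp
    · cases op with
      | mul i j =>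
        have h1 := h'.1
        simp only [opOk, Bool.and_eq_true, memL_iff] at h1
        obtain ⟨a, ha, har⟩ := hacc i h1.1
        obtain ⟨b, hb, hbr⟩ := hacc j h1.2
        exact ⟨a * b, mul_mem ha hb, har.mul hbr⟩
      | conj i c v =>
        have h1 := h'.1
        simp only [opOk, Bool.and_eq_true, memL_iff] at h1
        obtain ⟨⟨⟨hi, hc⟩, hv⟩, he⟩ := h1
        obtain ⟨a, ha, har⟩ := hacc i hi
        obtain ⟨γ, hγ, hγr⟩ := hM c hc
        obtain ⟨y, hy, hyr⟩ := hL v hv
        have e : γ * (a : Equiv.Perm GolayPt) = y * γ := eq_of_beq (hγr.mul har) (hyr.mul hγr) he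
        have hval : (((⟨γ, hγ⟩ : M) * a * (⟨γ, hγ⟩ : M)⁻¹ : M) : Equiv.Perm GolayPt) = y := by
          show γ * (a : Equiv.Perm GolayPt) * γ⁻¹ = y
          rw [e, mul_inv_cancel_right]
        exact ⟨_, hT a ha ⟨γ, hγ⟩ (hval.symm ▸ hy), hval.symm ▸ hyr⟩
    · exact hacc p hp

/-- The certificate proves simplicity of the `2`-fusion system. -/
theorem isSimple_of_chk (hM : ∀ p, inM p = true → ∃ σ ∈ M, Rep σ p)
    (hchk : chk inM g k conjs steps ops = true) {m : ℕ} (hcard : Nat.card M = 2 ^ k * m)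
    (hm : Odd m) (S : Sylow 2 M) : (groupFusionSystem (S : Subgroup M)).IsSimple 2 := by
  have : Fact (Nat.Prime 2) := ⟨Nat.prime_two⟩
  simp only [chk, Bool.and_eq_true, Bool.or_eq_true, Nat.blt_eq, Nat.beq_eq, forallLt_iff] at hchk
  obtain ⟨⟨⟨⟨⟨hk, hlen⟩, hpc⟩, hst⟩, hcen⟩, hprog⟩ := hchk
  have hex : ∀ j, ∃ τ : Equiv.Perm GolayPt, j < k → τ ∈ M ∧ Rep τ (g.getD j pone) := by
    intro j
    by_cases h : j < k
    · obtain ⟨τ, h1, h2⟩ := hM _ (hpc j h).1.1
      exact ⟨τ, fun _ => ⟨h1, h2⟩⟩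
    · exact ⟨1, fun h' => absurd h' h⟩
  choose σ hσ using hex
  have hL : ∀ j, j ≤ k → Listed g σ j := by
    intro j
    induction j with
    | zero => exact fun _ => listed_zero
    | succ j ih =>
      exact fun hj => listed_succ (ih (by omega)) (hσ j (by omega)).2
        (fun i hi => (hσ i (by omega)).2) (hpc j (by omega)).1.2 (hpc j (by omega)).2
  set H := genPerm σ k with hH
  have hHM : H ≤ M := by
    rw [hH, genPerm, Subgroup.closure_le]
    rintro _ ⟨i, hi, rfl⟩
    exact (hσ i hi).1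
  have hmono : ∀ i j, i ≤ j → genPerm σ i ≤ genPerm σ j := fun i j h =>
    Subgroup.closure_mono (Set.image_mono (Set.Iio_subset_Iio h))
  have hHcard : Nat.card (H.subgroupOf M) = 2 ^ k :=
    (Nat.card_congr (Subgroup.subgroupOfEquivOfLe hHM).toEquiv).trans (hL k le_rfl).2.2
  have hfact : (Nat.card M).factorization 2 = k := by
    have hm0 : m ≠ 0 := by rintro rfl; simp at hm
    rw [hcard, Nat.factorization_mul (by positivity) hm0, Finsupp.add_apply,
      Nat.Prime.factorization_pow Nat.prime_two, Finsupp.single_eq_same,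
      Nat.factorization_eq_zero_of_not_dvd (by rw [← even_iff_two_dvd]; exact Nat.not_even_iff_odd.2 hm),
      add_zero]
  set S₀ : Sylow 2 M := Sylow.ofCard (H.subgroupOf M) (by rw [hHcard, hfact]) with hS₀
  have hS₀mem : ∀ x : M, x ∈ (S₀ : Subgroup M) ↔ (x : Equiv.Perm GolayPt) ∈ H := fun x => by
    rw [hS₀, Sylow.coe_ofCard]; rfl
  set z := σ 0 with hz0
  have hz : Rep z (g.getD 0 pone) := (hσ 0 hk).2
  have hzH : z ∈ H := Subgroup.subset_closure ⟨0, hk, rfl⟩
  have hz1 : z ≠ 1 := by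
    intro h
    have := (hpc 0 hk).2
    simp only [chkPc, Bool.and_eq_true, Bool.not_eq_true'] at this
    have h2 := this.1.2
    rw [Bool.eq_false_iff, ne_eq, memL_iff] at h2
    exact h2 (List.mem_singleton.2 (eq_of_rep hz (h ▸ Rep.one) (hpc 0 hk).1.2 canon_pone))
  -- the centre of the Sylow subgroup
  have hcenter : ∀ x ∈ H, (∀ y ∈ H, x * y = y * x) → x = 1 ∨ x = z := by
    intro x hx hxc
    obtain ⟨p, hp, hr⟩ := ((hL k le_rfl).1 x).1 hx
    simp only [chkCenter, allL_iff, mem_filterL, and_imp, forallLt_iff, memL_iff] at hcen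
    have hmem := hcen p hp fun i hi => (beq_pmul_iff hr (hσ i hi).2 (hσ i hi).2 hr).2
      (hxc _ (Subgroup.subset_closure ⟨i, hi, rfl⟩))
    simp only [List.mem_cons, List.not_mem_nil, or_false] at hmem
    rcases hmem with rfl | rfl
    · exact Or.inl (Sporadic.Rep.unique hr Rep.one)
    · exact Or.inr (Sporadic.Rep.unique hr hz)
  have hne : (S₀ : Subgroup M) ≠ ⊥ := by
    intro h
    have h1 : (⟨z, hHM hzH⟩ : M) ∈ (S₀ : Subgroup M) := (hS₀mem _).2 hzH
    rw [h, Subgroup.mem_bot] at h1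
    exact hz1 (congrArg Subtype.val h1)
  refine groupFusion_isSimple_of_data_conj S₀ S hne (fun T hTS hTb hTc => ?_) fun n hn => ?_
  · -- closed subgroups
    have hS₀p := S₀.isPGroup'
    have : Group.IsNilpotent (S₀ : Subgroup M) := hS₀p.isNilpotent
    have hTn : (T.subgroupOf (S₀ : Subgroup M)).Normal := ⟨fun t ht a => by
      exact hTc (t : M) ht (a : M) (mul_mem (mul_mem a.2 t.2) (inv_mem a.2))⟩
    have hTne : T.subgroupOf (S₀ : Subgroup M) ≠ ⊥ := by
      rw [Ne, Subgroup.subgroupOf_eq_bot, disjoint_iff, inf_eq_left.2 hTS]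
      exact hTb
    obtain ⟨⟨t, htS⟩, ⟨htT, htc⟩, ht1⟩ :=
      Subgroup.bot_or_exists_ne_one _ |>.resolve_left
        (Core.inf_center_ne_bot_of_isNilpotent (T.subgroupOf (S₀ : Subgroup M)) hTne)
    have hzT : ∃ t ∈ T, Rep ((t : M) : Equiv.Perm GolayPt) (g.getD 0 pone) := by
      refine ⟨t, htT, ?_⟩
      rcases hcenter t ((hS₀mem t).1 htS) fun y hy => by
          have := congrArg (fun u : (S₀ : Subgroup M) => ((u : M) : Equiv.Perm GolayPt))
            (Subgroup.mem_center_iff.1 htc ⟨⟨y, hHM hy⟩, (hS₀mem _).2 hy⟩)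
          exact this.symm with h | h
      · exact absurd (Subtype.ext (Subtype.ext h)) ht1
      · rw [h]; exact hz
    have hall := prog_mem hM (fun v hv => by
        obtain ⟨x, hx, -⟩ := (hL k le_rfl).2.1 v hv
        exact ⟨x, ((hL k le_rfl).1 x).2 ⟨v, hv, hx⟩, hx⟩) hHM
      (fun x hx c hc => hTc x hx c ((hS₀mem _).2 hc)) ops [g.getD 0 pone]
      (fun p hp => by rw [List.mem_singleton.1 hp]; exact hzT) hprog
    refine le_antisymm hTS fun x hx => ?_
    have hle : H ≤ T.map M.subtype := by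
      rw [hH, genPerm, Subgroup.closure_le]
      rintro _ ⟨i, hi, rfl⟩
      have hi' : g.getD i pone ∈ g := by
        rw [List.getD_eq_getElem _ _ (hlen.symm ▸ hi)]; exact List.getElem_mem _
      obtain ⟨t', ht', hr⟩ := hall _ hi'
      exact ⟨t', ht', Sporadic.Rep.unique hr (hσ i hi).2⟩
    obtain ⟨t', ht', e⟩ := hle ((hS₀mem x).1 hx)
    exact (Subtype.ext e : t' = x) ▸ ht'
  · -- the normaliser
    set ν := (n : Equiv.Perm GolayPt) with hν
    have hnH : ∀ x ∈ H, ν * x * ν⁻¹ ∈ H := fun x hx =>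
      (hS₀mem (n * ⟨x, hHM hx⟩ * n⁻¹)).1
        ((Subgroup.mem_normalizer_iff.1 hn _).1 ((hS₀mem _).2 hx))
    have hnH' : ∀ x ∈ H, ν⁻¹ * x * ν ∈ H := fun x hx => by
      have := (hS₀mem (n⁻¹ * ⟨x, hHM hx⟩ * n⁻¹⁻¹)).1
        ((Subgroup.mem_normalizer_iff.1 (inv_mem hn) _).1 ((hS₀mem _).2 hx))
      simpa [hν] using this
    have hnz : z = ν * z * ν⁻¹ := by
      have hcomm : ∀ y ∈ H, z * y = y * z := by
        intro y hy
        obtain ⟨p, hp, hr⟩ := (hL k le_rfl).1 y |>.1 hy
        have : Group.IsNilpotent (S₀ : Subgroup M) := S₀.isPGroup'.isNilpotent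
        have hnt : Nontrivial (S₀ : Subgroup M) := (Subgroup.nontrivial_iff_ne_bot _).2 hne
        have hc0 : Subgroup.center (S₀ : Subgroup M) ≠ ⊥ := fun h =>
          Core.inf_center_ne_bot_of_isNilpotent (⊤ : Subgroup (S₀ : Subgroup M)) top_ne_bot
            (by rw [h, inf_bot_eq])
        obtain ⟨⟨⟨t, htM⟩, htS⟩, htc, ht1⟩ :=
          (Subgroup.bot_or_exists_ne_one _).resolve_left hc0
        have hcm : ∀ w ∈ H, t * w = w * t := fun w hw =>
          (congrArg (fun u : (S₀ : Subgroup M) => ((u : M) : Equiv.Perm GolayPt))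
            (Subgroup.mem_center_iff.1 htc ⟨⟨w, hHM hw⟩, (hS₀mem _).2 hw⟩)).symm
        rcases hcenter t ((hS₀mem ⟨t, htM⟩).1 htS) hcm with h | h
        · exact absurd (Subtype.ext (Subtype.ext h)) ht1
        · exact h ▸ hcm y hy
      rcases hcenter _ (hnH z hzH) fun y hy => by
          have h1 := hcomm _ (hnH' y hy)
          calc ν * z * ν⁻¹ * y = ν * (z * (ν⁻¹ * y * ν)) * ν⁻¹ := by group
            _ = ν * ((ν⁻¹ * y * ν) * z) * ν⁻¹ := by rw [h1]
            _ = y * (ν * z * ν⁻¹) := by group with h | h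
      · exact absurd (conj_eq_one_iff.1 h) hz1
      · exact h.symm
    have hgen : ∀ j, j < k → j ≠ 0 → (steps.getD j dfltStep).cen = false →
        ∀ x ∈ genPerm σ j, ν * x * ν⁻¹ ∈ genPerm σ j := fun j hj hj0 hc =>
      gen_invariant (hL k le_rfl) (hL j hj.le) (fun i hi => (hσ i (by omega)).2) hnH hz hnz hc
        ((hst j hj).resolve_left hj0)
    have hinv : ∀ j, j ≤ k → ∀ x ∈ genPerm σ j, ν * x * ν⁻¹ ∈ genPerm σ j := by
      intro j hj
      rcases eq_or_lt_of_le hj with rfl | hjk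
      · exact hnH
      rcases Nat.eq_zero_or_pos j with rfl | hj0
      · intro x hx
        simp [genPerm] at hx
        simp [hx]
      cases hc : (steps.getD j dfltStep).cen
      · exact hgen j hjk hj0.ne' hc
      · have hs := (hst j hjk).resolve_left hj0.ne'
        have hs' := hs
        simp only [chkStep, hc, cond_true, Bool.and_eq_true, Bool.or_eq_true, Nat.beq_eq,
          Nat.blt_eq, Bool.not_eq_true'] at hs'
        refine cen_invariant (hL k le_rfl) (hL j hjk.le) (hL _ ?_) (fun i hi => (hσ i (by omega)).2)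
          hnH hnH' ?_ hz hnz hc hs
        · rcases hs'.1.1 with h | h
          · exact h.le
          · exact h.1.1.le
        · rcases hs'.1.1 with h | h
          · rw [h]; exact hnH
          · exact hgen _ h.1.1 (by omega) h.2
    -- conjugation by `n` stabilises the series
    have hfin : Finite (S₀ : Subgroup M) := inferInstance
    let β : MulAut (S₀ : Subgroup M) := (S₀ : Subgroup M).normalizerMonoidHom ⟨n, hn⟩
    let N : Fin (k + 1) → Subgroup (S₀ : Subgroup M) := fun i =>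
      (genPerm σ i).comap (M.subtype.comp (S₀ : Subgroup M).subtype)
    obtain ⟨a, ha⟩ := exists_pow_eq_one_of_stabilizes S₀.isPGroup' N (by
        refine (Subgroup.eq_bot_iff_forall _).2 fun x hx => ?_
        have hx' : ((x : M) : Equiv.Perm GolayPt) ∈ genPerm σ 0 := hx
        simp [genPerm] at hx'
        exact hx')
      (eq_top_iff.2 fun x _ => (hS₀mem x).1 x.2) β
      (fun i x hx => hinv i (Nat.lt_succ_iff.1 i.2) _ hx) (fun i x hx => by
        show ((x : M) : Equiv.Perm GolayPt)⁻¹ * (ν * ((x : M) : Equiv.Perm GolayPt) * ν⁻¹) ∈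
          genPerm σ i
        set y := ((x : M) : Equiv.Perm GolayPt) with hy
        have hy1 : y ∈ genPerm σ (i + 1) := hx
        have hi := i.2
        by_cases hyi : y ∈ genPerm σ i
        · exact mul_mem (inv_mem hyi) (hinv i (by omega) _ hyi)
        · have hz1' : ν * y * ν⁻¹ ∈ genPerm σ (i + 1) := hinv _ (by omega) _ hy1
          have hz2 : ν * y * ν⁻¹ ∉ genPerm σ i := by
            intro h
            have himg : (genPerm σ i).map (MulAut.conj ν).toMonoidHom = genPerm σ i := by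
              refine Subgroup.eq_of_le_of_card_ge ?_
                (Subgroup.card_map_of_injective (MulAut.conj ν).injective).ge
              rintro _ ⟨w, hw, rfl⟩
              exact hinv i (by omega) _ hw
            obtain ⟨w, hw, e⟩ := himg.ge h
            exact hyi ((MulAut.conj ν).injective e ▸ hw)
          have hind : ((genPerm σ i).subgroupOf (genPerm σ (i + 1))).index = 2 := by
            have h1 := ((genPerm σ i).subgroupOf (genPerm σ (i + 1))).index_mul_card
            rw [Nat.card_congr (Subgroup.subgroupOfEquivOfLe (hmono i (i + 1) (by omega))).toEquiv,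
              (hL i (by omega)).2.2, (hL (i + 1) (by omega)).2.2, pow_succ'] at h1
            exact Nat.eq_of_mul_eq_mul_right (by positivity) h1
          have := (Subgroup.mul_mem_iff_of_index_two hind (a := ⟨y⁻¹, inv_mem hy1⟩)
            (b := ⟨_, hz1'⟩)).2 (iff_of_false (fun h => hyi (by simpa using inv_mem (show y⁻¹ ∈ genPerm σ i from h))) hz2)
          exact this)
    refine ⟨a, fun x hx => ?_⟩
    have hb : ((S₀ : Subgroup M).normalizerMonoidHom (⟨n, hn⟩ ^ 2 ^ a)) = 1 := by
      rw [map_pow]; exact ha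
    have h1 := congrArg (fun b : MulAut (S₀ : Subgroup M) => ((b ⟨x, hx⟩ : (S₀ : Subgroup M)) : M)) hb
    have h2 : n ^ 2 ^ a * x * (n ^ 2 ^ a)⁻¹ = x := h1
    exact mul_inv_eq_iff_eq_mul.1 h2

end Sound

end Cert

end CfsgLib.Fusion
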