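import Cfsg.Agent.Lib.Fusion.TwoSylowCert

/-!
# An intrinsic invariant series and transfer to groups with the same Sylow 2-subgroup

The series is described through orders, centraliser sizes and numbers of square roots in the Sylow
subgroup, so it is invariant under all its automorphisms.
-/

set_option autoImplicit false

namespace CfsgLib.Fusion

open Cfsg CfsgLib.Sporadic

namespace Cert

/-- The number of entries satisfying a test. -/
noncomputable def countL (l : List ℕ) (f : ℕ → Bool) : ℕ :=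
  List.rec 0 (fun q _ ih => cond (f q) (Nat.succ ih) ih) l

theorem countL_eq {l : List ℕ} {f : ℕ → Bool} (h : l.Nodup) :
    countL l f = (l.toFinset.filter fun q => f q = true).card := by
  induction l with
  | nil => simp [countL]
  | cons q l ih =>
    rw [List.nodup_cons] at h
    show cond (f q) (Nat.succ (countL l f)) (countL l f) = _
    rw [List.toFinset_cons, Finset.filter_insert]
    cases hq : f q
    · simp [ih h.2]
    · rw [if_pos rfl, Finset.card_insert_of_notMem (by simp [h.1]), ih h.2]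
      rfl

/-- The square is the identity. -/
noncomputable def isInv (p : ℕ) : Bool := Nat.beq (pmul p p) pone

/-- An invariant of an element of a listed group. -/
noncomputable def ikey (L : List ℕ) (p : ℕ) : ℕ :=
  Nat.add (cond (isInv p) 1 0) (Nat.add (cond (isInv (pmul p p)) 2 0)
    (Nat.add (Nat.mul 4 (countL L (comm p)))
      (Nat.mul 4096 (countL L (fun q => Nat.beq (pmul q q) p)))))

/-- The description of one step of the intrinsic series. -/
structure IStep where
  /-- the centraliser of the set, or the group it generates -/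
  cen : Bool
  /-- the value of the invariant, or `0` for all elements -/
  c : ℕ
  /-- for a centraliser: the step inside which it is taken -/
  b : ℕ
  /-- for a generated group: the generators as products of elements of the set -/
  words : List (List ℕ)

def dfltIStep : IStep := ⟨false, 0, 0, []⟩

/-- The elements with the given invariant, read off the list of invariants. -/
noncomputable def iset (L ks : List ℕ) (c : ℕ) : List ℕ :=
  cond (Nat.beq c 0) L (((L.zip ks).filter fun x => Nat.beq x.2 c).map Prod.fst)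

theorem zip_map_self (L : List ℕ) (f : ℕ → ℕ) : L.zip (L.map f) = L.map fun a => (a, f a) := by
  induction L with
  | nil => rfl
  | cons a L ih => simp [ih]

theorem mem_iset {L ks : List ℕ} (hks : ks = L.map (ikey L)) {c p : ℕ} :
    p ∈ iset L ks c ↔ p ∈ L ∧ (c = 0 ∨ ikey L p = c) := by
  unfold iset
  cases hc : Nat.beq c 0
  · have hc' : c ≠ 0 := fun h => by rw [h] at hc; exact absurd hc (by decide)
    rw [cond_false, hks, zip_map_self, List.mem_map]
    constructor
    · rintro ⟨x, hx, rfl⟩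
      rw [List.mem_filter, List.mem_map] at hx
      obtain ⟨⟨a, ha, rfl⟩, h2⟩ := hx
      exact ⟨ha, Or.inr (Nat.eq_of_beq_eq_true h2)⟩
    · rintro ⟨hp, h | h⟩
      · exact absurd h hc'
      · exact ⟨(p, ikey L p), List.mem_filter.2 ⟨List.mem_map.2 ⟨p, hp, rfl⟩, by rw [h]; simp⟩, rfl⟩
  · rw [cond_true]
    simp [Nat.eq_of_beq_eq_true hc]

noncomputable def chkIStep (g ks : List ℕ) (k : ℕ) (steps : List IStep) (j : ℕ) (s : IStep) : Bool :=
  cond s.cen
    ((Nat.beq s.b k || (Nat.blt s.b k && Nat.blt 0 s.b && !(steps.getD s.b dfltIStep).cen)) &&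
      allL (filterL (elems g s.b) (commAll (iset (elems g k) ks s.c))) (fun p => memL p (elems g j)) &&
      forallLt j (fun i => memL (g.getD i pone) (elems g s.b) &&
        commAll (iset (elems g k) ks s.c) (g.getD i pone)))
    (allL (iset (elems g k) ks s.c) (fun p => memL p (elems g j)) &&
      forallLt j (fun i => allL (s.words.getD i []) (fun p => memL p (iset (elems g k) ks s.c)) &&
        Nat.beq (wordProd (s.words.getD i [])) (g.getD i pone)))

/-- The certificate, apart from the list of invariants. -/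
noncomputable def chkI (inM : ℕ → Bool) (g ks : List ℕ) (k : ℕ) (conjs : List (List ℕ))
    (steps : List IStep) (ops : List Op) : Bool :=
  Nat.blt 0 k && Nat.beq g.length k &&
    forallLt k (fun j => inM (g.getD j pone) &&
      Nat.beq (pmul (g.getD j pone) pone) (g.getD j pone) && chkPc g j (conjs.getD j [])) &&
    forallLt k (fun j => Nat.beq j 0 || chkIStep g ks k steps j (steps.getD j dfltIStep)) &&
    chkCenter g k && chkProg inM (elems g k) g ops [g.getD 0 pone]

section Sound

variable {g : List ℕ} {k : ℕ} {σ : ℕ → Equiv.Perm GolayPt}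

theorem length_elems (g : List ℕ) (j : ℕ) : (elems g j).length = 2 ^ j := by
  induction j with
  | zero => rfl
  | succ j ih => rw [elems_succ, List.length_append, List.length_map, ih, pow_succ]; ring

variable (hL : Listed g σ k)
include hL

/-- The element with a given packed form. -/
noncomputable def elemOf (p : {p // p ∈ elems g k}) : genPerm σ k :=
  ⟨(hL.2.1 p.1 p.2).choose, (hL.1 _).2 ⟨p.1, p.2, (hL.2.1 p.1 p.2).choose_spec.1⟩⟩

theorem rep_elemOf (p : {p // p ∈ elems g k}) : Rep (elemOf hL p : Equiv.Perm GolayPt) p.1 :=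
  (hL.2.1 p.1 p.2).choose_spec.1

theorem elemOf_bijective : Function.Bijective (elemOf hL) := by
  refine ⟨fun p q h => Subtype.ext ?_, fun x => ?_⟩
  · exact eq_of_rep (rep_elemOf hL p) (h ▸ rep_elemOf hL q)
      (hL.2.1 p.1 p.2).choose_spec.2 (hL.2.1 q.1 q.2).choose_spec.2
  · obtain ⟨p, hp, hr⟩ := (hL.1 x).1 x.2
    exact ⟨⟨p, hp⟩, Subtype.ext (Sporadic.Rep.unique (rep_elemOf hL ⟨p, hp⟩) hr)⟩

theorem nodup_elems : (elems g k).Nodup := by
  have h1 : Nat.card {p // p ∈ (elems g k).toFinset} = 2 ^ k := by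
    rw [Nat.card_congr ((Equiv.subtypeEquivRight fun p => List.mem_toFinset).trans
      (Equiv.ofBijective _ (elemOf_bijective hL))), hL.2.2]
  rw [Nat.card_eq_fintype_card, Fintype.card_coe] at h1
  refine List.dedup_eq_self.1 ((List.dedup_sublist _).eq_of_length ?_)
  rw [← List.card_toFinset, h1, length_elems]

theorem countL_elems [Fintype (genPerm σ k)] (f : ℕ → Bool) (P : genPerm σ k → Prop) [DecidablePred P]
    (h : ∀ (x : genPerm σ k) q, q ∈ elems g k → Rep (x : Equiv.Perm GolayPt) q → (f q = true ↔ P x)) :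
    countL (elems g k) f = (Finset.univ.filter P).card := by
  rw [countL_eq (nodup_elems hL)]
  refine Finset.card_bij
    (fun q hq => elemOf hL ⟨q, List.mem_toFinset.1 (Finset.mem_filter.1 hq).1⟩) ?_ ?_ ?_
  · intro q hq
    rw [Finset.mem_filter] at hq ⊢
    exact ⟨Finset.mem_univ _, (h _ q (List.mem_toFinset.1 hq.1) (rep_elemOf hL _)).1 hq.2⟩
  · intro a ha b hb e
    exact congrArg Subtype.val ((elemOf_bijective hL).1 e)
  · intro x hx
    obtain ⟨⟨q, hq⟩, rfl⟩ := (elemOf_bijective hL).2 x
    rw [Finset.mem_filter] at hx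
    exact ⟨q, Finset.mem_filter.2 ⟨List.mem_toFinset.2 hq, (h _ q hq (rep_elemOf hL _)).2 hx.2⟩, rfl⟩

theorem ikey_map (β : MulAut (genPerm σ k)) {x : genPerm σ k} {p q : ℕ} (hp : p ∈ elems g k)
    (hq : q ∈ elems g k) (hx : Rep (x : Equiv.Perm GolayPt) p)
    (hy : Rep ((β x : genPerm σ k) : Equiv.Perm GolayPt) q) :
    ikey (elems g k) q = ikey (elems g k) p := by
  classical
  have : Finite (genPerm σ k) := Subtype.finite
  have : Fintype (genPerm σ k) := Fintype.ofFinite _
  have hcanon : ∀ r ∈ elems g k, Canon r := fun r hr => (hL.2.1 r hr).choose_spec.2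
  have hsqv : ∀ (a : genPerm σ k) (r : ℕ), Rep (a : Equiv.Perm GolayPt) r →
      Rep ((a * a : genPerm σ k) : Equiv.Perm GolayPt) (pmul r r) := fun a r h => h.mul h
  have hinv : ∀ (a : genPerm σ k) (r : ℕ), Rep (a : Equiv.Perm GolayPt) r →
      (isInv r = true ↔ a * a = 1) := fun a r h => by
    rw [isInv, beq_pone_iff h h]
    exact ⟨fun e => Subtype.ext e, fun e => congrArg Subtype.val e⟩
  have hcomm : ∀ (a : genPerm σ k) (r : ℕ), Rep (a : Equiv.Perm GolayPt) r →
      countL (elems g k) (comm r) = (Finset.univ.filter fun b => a * b = b * a).card := fun a r h =>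
    countL_elems hL _ _ fun b s _ hb => by
      rw [comm, beq_pmul_iff h hb hb h]
      exact ⟨fun e => Subtype.ext e, fun e => congrArg Subtype.val e⟩
  have hroot : ∀ (a : genPerm σ k) (r : ℕ), r ∈ elems g k → Rep (a : Equiv.Perm GolayPt) r →
      countL (elems g k) (fun s => Nat.beq (pmul s s) r) =
        (Finset.univ.filter fun b => b * b = a).card := fun a r hr h =>
    countL_elems hL _ _ fun b s _ hb => by
      constructor
      · intro e
        refine Subtype.ext (Sporadic.Rep.unique (hb.mul hb) ?_)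
        rwa [Nat.eq_of_beq_eq_true e]
      · rintro rfl
        rw [eq_of_rep (hb.mul hb) h (canon_pmul hb hb) (hcanon r hr)]
        simp
  have e1 : isInv q = isInv p := by
    rw [Bool.eq_iff_iff, hinv _ _ hy, hinv _ _ hx, ← map_mul, MulEquiv.map_eq_one_iff]
  have e2 : isInv (pmul q q) = isInv (pmul p p) := by
    rw [Bool.eq_iff_iff, hinv _ _ (hsqv _ _ hy), hinv _ _ (hsqv _ _ hx), ← map_mul, ← map_mul,
      MulEquiv.map_eq_one_iff]
  have e3 : countL (elems g k) (comm q) = countL (elems g k) (comm p) := by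
    rw [hcomm _ _ hy, hcomm _ _ hx]
    refine (Finset.card_equiv β.toEquiv fun b => ?_).symm
    simp only [Finset.mem_filter, Finset.mem_univ, true_and, MulEquiv.toEquiv_eq_coe, EquivLike.coe_coe]
    rw [← map_mul, ← map_mul, β.injective.eq_iff]
  have e4 : countL (elems g k) (fun s => Nat.beq (pmul s s) q) =
      countL (elems g k) (fun s => Nat.beq (pmul s s) p) := by
    rw [hroot _ _ hq hy, hroot _ _ hp hx]
    refine (Finset.card_equiv β.toEquiv fun b => ?_).symm
    simp only [Finset.mem_filter, Finset.mem_univ, true_and, MulEquiv.toEquiv_eq_coe, EquivLike.coe_coe]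
    rw [← map_mul, β.injective.eq_iff]
  rw [ikey, ikey, e1, e2, e3, e4]

/-- The set of a step is invariant. -/
theorem iset_map (β : MulAut (genPerm σ k)) {ks : List ℕ} (hks : ks = (elems g k).map (ikey (elems g k)))
    {c p : ℕ} (hp : p ∈ iset (elems g k) ks c) {x : genPerm σ k}
    (hx : Rep (x : Equiv.Perm GolayPt) p) :
    ∃ q ∈ iset (elems g k) ks c, Rep ((β x : genPerm σ k) : Equiv.Perm GolayPt) q := by
  obtain ⟨q, hq, hy⟩ := (hL.1 _).1 (β x).2
  obtain ⟨hpL, hc⟩ := (mem_iset hks).1 hp
  exact ⟨q, (mem_iset hks).2 ⟨hq, hc.imp_right fun e => (ikey_map hL β hpL hq hx hy).trans e⟩, hy⟩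

/-- A generated step is invariant. -/
theorem igen_invariant (β : MulAut (genPerm σ k)) {ks : List ℕ}
    (hks : ks = (elems g k).map (ikey (elems g k))) {steps : List IStep} {j : ℕ} {s : IStep}
    (hj : j ≤ k) (hLj : Listed g σ j) (hσ : ∀ i < j, Rep (σ i) (g.getD i pone))
    (hcen : s.cen = false) (hchk : chkIStep g ks k steps j s = true) :
    ∀ x : genPerm σ k, (x : Equiv.Perm GolayPt) ∈ genPerm σ j →
      ((β x : genPerm σ k) : Equiv.Perm GolayPt) ∈ genPerm σ j := by
  simp only [chkIStep, hcen, cond_false, Bool.and_eq_true, allL_iff, forallLt_iff, memL_iff,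
    Nat.beq_eq] at hchk
  obtain ⟨hsub, hw⟩ := hchk
  have hmono : genPerm σ j ≤ genPerm σ k :=
    Subgroup.closure_mono (Set.image_mono (Set.Iio_subset_Iio hj))
  let K : Subgroup (genPerm σ k) :=
    ((genPerm σ j).comap (genPerm σ k).subtype).comap β.toMonoidHom
  suffices hle : genPerm σ j ≤ K.map (genPerm σ k).subtype by
    intro x hx
    obtain ⟨y, hy, e⟩ := hle hx
    obtain rfl : y = x := Subtype.ext e
    exact hy
  refine (Subgroup.closure_le _).2 ?_
  rintro _ ⟨i, hi, rfl⟩
  obtain ⟨hwi, he⟩ := hw i hi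
  obtain ⟨τ, hτ, hr⟩ := rep_wordProd (K := K.map (genPerm σ k).subtype) (s.words.getD i [])
    (fun p hp => by
      obtain ⟨a, ha, har⟩ : ∃ a ∈ genPerm σ k, Rep a p := by
        obtain ⟨a, ha, -⟩ := hL.2.1 p ((mem_iset hks).1 (hwi p hp)).1
        exact ⟨a, (hL.1 a).2 ⟨p, ((mem_iset hks).1 (hwi p hp)).1, ha⟩, ha⟩
      obtain ⟨q, hq, hqr⟩ := iset_map hL β hks (hwi p hp) (x := ⟨a, ha⟩) har
      exact ⟨a, ⟨⟨a, ha⟩, (hLj.1 _).2 ⟨q, hsub q hq, hqr⟩, rfl⟩, har⟩)
  rw [he] at hr
  rw [Sporadic.Rep.unique (hσ i hi) hr]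
  exact hτ

/-- A centraliser step is invariant. -/
theorem icen_invariant (β : MulAut (genPerm σ k)) {ks : List ℕ}
    (hks : ks = (elems g k).map (ikey (elems g k))) {steps : List IStep} {j : ℕ} {s : IStep}
    (hj : j ≤ k) (hLj : Listed g σ j) (hLb : Listed g σ s.b)
    (hσ : ∀ i < j, Rep (σ i) (g.getD i pone))
    (hbinv : ∀ x : genPerm σ k, (x : Equiv.Perm GolayPt) ∈ genPerm σ s.b →
      ((β x : genPerm σ k) : Equiv.Perm GolayPt) ∈ genPerm σ s.b)
    (hcen : s.cen = true) (hchk : chkIStep g ks k steps j s = true) :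
    ∀ x : genPerm σ k, (x : Equiv.Perm GolayPt) ∈ genPerm σ j →
      ((β x : genPerm σ k) : Equiv.Perm GolayPt) ∈ genPerm σ j := by
  simp only [chkIStep, hcen, cond_true, Bool.and_eq_true, allL_iff, forallLt_iff, memL_iff,
    mem_filterL, and_imp] at hchk
  obtain ⟨⟨-, hsub⟩, hw⟩ := hchk
  have hX : ∀ q ∈ iset (elems g k) ks s.c, ∃ b : Equiv.Perm GolayPt, Rep b q := fun q hq =>
    (hL.2.1 q ((mem_iset hks).1 hq).1).imp fun b hb => hb.1
  have hmono : genPerm σ j ≤ genPerm σ k :=
    Subgroup.closure_mono (Set.image_mono (Set.Iio_subset_Iio hj))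
  let K : Subgroup (genPerm σ k) :=
    ((genPerm σ j).comap (genPerm σ k).subtype).comap β.toMonoidHom
  suffices hle : genPerm σ j ≤ K.map (genPerm σ k).subtype by
    intro x hx
    obtain ⟨y, hy, e⟩ := hle hx
    obtain rfl : y = x := Subtype.ext e
    exact hy
  refine (Subgroup.closure_le _).2 ?_
  rintro _ ⟨i, hi, rfl⟩
  have hik : σ i ∈ genPerm σ k := hmono (Subgroup.subset_closure ⟨i, hi, rfl⟩)
  refine ⟨⟨σ i, hik⟩, ?_, rfl⟩
  obtain ⟨hib, hic⟩ := hw i hi
  rw [commAll_iff (hσ i hi) hX] at hic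
  obtain ⟨q, hq, hr⟩ := (hLb.1 _).1 (hbinv ⟨σ i, hik⟩ ((hLb.1 _).2 ⟨_, hib, hσ i hi⟩))
  refine (hLj.1 _).2 ⟨q, hsub q hq ((commAll_iff hr hX).2 fun t ht b hb => ?_), hr⟩
  have hbH : b ∈ genPerm σ k := (hL.1 b).2 ⟨t, ((mem_iset hks).1 ht).1, hb⟩
  obtain ⟨t', ht', hct⟩ := iset_map hL β.symm hks ht (x := ⟨b, hbH⟩) hb
  have h1 : (⟨σ i, hik⟩ : genPerm σ k) * β.symm ⟨b, hbH⟩ = β.symm ⟨b, hbH⟩ * ⟨σ i, hik⟩ :=
    Subtype.ext (hic t' ht' _ hct)
  have h2 := congrArg (fun y => ((β y : genPerm σ k) : Equiv.Perm GolayPt)) h1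
  simp only [map_mul, MulEquiv.apply_symm_apply, Subgroup.coe_mul] at h2
  exact h2

end Sound

/-- Simplicity of the `2`-fusion system of a group containing `M` with odd index from a certificate
for a Sylow `2`-subgroup of `M`. -/
theorem isSimple_of_chkI {M : Subgroup (Equiv.Perm GolayPt)} {inM : ℕ → Bool} {g ks : List ℕ} {k : ℕ}
    {conjs : List (List ℕ)} {steps : List IStep} {ops : List Op}
    (hM : ∀ p, inM p = true → ∃ σ ∈ M, Rep σ p)
    (hchk : chkI inM g ks k conjs steps ops = true)
    (hks : ks = (elems g k).map (ikey (elems g k)))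
    {G : Type*} [Group G] [Finite G] (ι : M →* G) (hι : Function.Injective ι) {m : ℕ}
    (hcard : Nat.card G = 2 ^ k * m) (hm : Odd m) (S : Sylow 2 G) :
    (groupFusionSystem (S : Subgroup G)).IsSimple 2 := by
  have : Fact (Nat.Prime 2) := ⟨Nat.prime_two⟩
  simp only [chkI, Bool.and_eq_true, Bool.or_eq_true, Nat.blt_eq, Nat.beq_eq, forallLt_iff] at hchk
  obtain ⟨⟨⟨⟨⟨hk, hlen⟩, hpc⟩, hst⟩, hcen⟩, hprog⟩ := hchk
  have hex : ∀ j, ∃ τ : Equiv.Perm GolayPt, j < k → τ ∈ M ∧ Rep τ (g.getD j pone) := by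
    intro j
    by_cases h : j < k
    · obtain ⟨τ, h1, h2⟩ := hM _ (hpc j h).1.1
      exact ⟨τ, fun _ => ⟨h1, h2⟩⟩
    · exact ⟨1, fun h' => absurd h' h⟩
  choose σ hσ using hex
  have hL : ∀ j, j ≤ k → Listed g σ j := by
    intro j
    induction j with
    | zero => exact fun _ => listed_zero
    | succ j ih =>
      exact fun hj => listed_succ (ih (by omega)) (hσ j (by omega)).2
        (fun i hi => (hσ i (by omega)).2) (hpc j (by omega)).1.2 (hpc j (by omega)).2
  set H := genPerm σ k with hH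
  have hHM : H ≤ M := by
    rw [hH, genPerm, Subgroup.closure_le]
    rintro _ ⟨i, hi, rfl⟩
    exact (hσ i hi).1
  have hmono : ∀ i j, i ≤ j → genPerm σ i ≤ genPerm σ j := fun i j h =>
    Subgroup.closure_mono (Set.image_mono (Set.Iio_subset_Iio h))
  let f : H →* G := ι.comp (Subgroup.inclusion hHM)
  have hf : Function.Injective f := hι.comp (Subgroup.inclusion_injective hHM)
  have hfact : (Nat.card G).factorization 2 = k := by
    have hm0 : m ≠ 0 := by rintro rfl; simp at hm
    rw [hcard, Nat.factorization_mul (by positivity) hm0, Finsupp.add_apply,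
      Nat.Prime.factorization_pow Nat.prime_two, Finsupp.single_eq_same,
      Nat.factorization_eq_zero_of_not_dvd (by rw [← even_iff_two_dvd]; exact Nat.not_even_iff_odd.2 hm),
      add_zero]
  set S₀ : Sylow 2 G := Sylow.ofCard f.range (by
    rw [← Nat.card_congr (MonoidHom.ofInjective hf).toEquiv, (hL k le_rfl).2.2, hfact]) with hS₀
  have hS₀e : (S₀ : Subgroup G) = f.range := by rw [hS₀, Sylow.coe_ofCard]
  have hz : Rep (σ 0) (g.getD 0 pone) := (hσ 0 hk).2
  have hzH : σ 0 ∈ H := Subgroup.subset_closure ⟨0, hk, rfl⟩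
  have hz1 : σ 0 ≠ 1 := by
    intro h
    have := (hpc 0 hk).2
    simp only [chkPc, Bool.and_eq_true, Bool.not_eq_true'] at this
    have h2 := this.1.2
    rw [Bool.eq_false_iff, ne_eq, memL_iff] at h2
    exact h2 (List.mem_singleton.2 (eq_of_rep hz (h ▸ Rep.one) (hpc 0 hk).1.2 canon_pone))
  have hne : (S₀ : Subgroup G) ≠ ⊥ := by
    intro h
    have h1 : f ⟨σ 0, hzH⟩ ∈ (S₀ : Subgroup G) := hS₀e ▸ ⟨_, rfl⟩
    rw [h, Subgroup.mem_bot, ← map_one f] at h1
    exact hz1 (congrArg Subtype.val (hf h1))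
  refine groupFusion_isSimple_of_data_conj S₀ S hne (fun T hTS hTb hTc => ?_) fun n hn => ?_
  · have hTS' : T ≤ f.range := hS₀e ▸ hTS
    have hnorm : (T.comap f).Normal := ⟨fun t ht a => by
      show f (a * t * a⁻¹) ∈ T
      rw [map_mul, map_mul, map_inv]
      refine hTc _ ht (f a) (hS₀e ▸ ?_)
      exact mul_mem (mul_mem ⟨a, rfl⟩ ⟨t, rfl⟩) (inv_mem ⟨a, rfl⟩)⟩
    have hTne : T.comap f ≠ ⊥ := fun h => hTb ((Subgroup.eq_bot_iff_forall _).2 fun x hx => by
      obtain ⟨y, rfl⟩ := hTS' hx
      have : y ∈ T.comap f := hx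
      rw [h, Subgroup.mem_bot] at this
      rw [this, map_one])
    have hp2 : IsPGroup 2 H := IsPGroup.of_card (hL k le_rfl).2.2
    have : Group.IsNilpotent H := hp2.isNilpotent
    obtain ⟨⟨t, htH⟩, ⟨htT, htc⟩, ht1⟩ := Subgroup.bot_or_exists_ne_one _ |>.resolve_left
      (Core.inf_center_ne_bot_of_isNilpotent (T.comap f) hTne)
    obtain ⟨p, hp, hr⟩ := ((hL k le_rfl).1 t).1 htH
    have htz : Rep t (g.getD 0 pone) := by
      simp only [chkCenter, allL_iff, mem_filterL, and_imp, forallLt_iff, memL_iff] at hcen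
      have hmem := hcen p hp fun i hi => (beq_pmul_iff hr (hσ i hi).2 (hσ i hi).2 hr).2
        (congrArg Subtype.val (Subgroup.mem_center_iff.1 htc
          ⟨σ i, Subgroup.subset_closure ⟨i, hi, rfl⟩⟩)).symm
      simp only [List.mem_cons, List.not_mem_nil, or_false] at hmem
      rcases hmem with rfl | rfl
      · exact absurd (Subtype.ext (Sporadic.Rep.unique hr Rep.one)) ht1
      · exact hr
    have hall := prog_mem hM (fun v hv => by
        obtain ⟨x, hx, -⟩ := (hL k le_rfl).2.1 v hv
        exact ⟨x, ((hL k le_rfl).1 x).2 ⟨v, hv, hx⟩, hx⟩) hHM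
      (T := T.comap ι)
      (fun x hx c hc => by
        show ι (c * x * c⁻¹) ∈ T
        rw [map_mul, map_mul, map_inv]
        refine hTc _ hx (ι c) (hS₀e ▸ ⟨⟨_, hc⟩, ?_⟩)
        rw [← map_inv, ← map_mul, ← map_mul]; rfl) ops [g.getD 0 pone]
      (fun q hq => ⟨⟨t, hHM htH⟩, htT, by rw [List.mem_singleton.1 hq]; exact htz⟩) hprog
    refine le_antisymm hTS fun x hx => ?_
    obtain ⟨⟨y, hy⟩, rfl⟩ := hS₀e.le hx
    have hle : H ≤ (T.comap ι).map M.subtype := by
      rw [hH, genPerm, Subgroup.closure_le]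
      rintro _ ⟨i, hi, rfl⟩
      have hi' : g.getD i pone ∈ g := by
        rw [List.getD_eq_getElem _ _ (hlen.symm ▸ hi)]; exact List.getElem_mem _
      obtain ⟨t', ht', hr'⟩ := hall _ hi'
      exact ⟨t', ht', Sporadic.Rep.unique hr' (hσ i hi).2⟩
    obtain ⟨t', ht', e⟩ := hle hy
    obtain rfl : t' = ⟨y, hHM hy⟩ := Subtype.ext e
    exact ht'
  · let e : H ≃* (S₀ : Subgroup G) :=
      (MonoidHom.ofInjective hf).trans (MulEquiv.subgroupCongr hS₀e.symm)
    let δ : MulAut (S₀ : Subgroup G) := (S₀ : Subgroup G).normalizerMonoidHom ⟨n, hn⟩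
    let β : MulAut H := e.trans (δ.trans e.symm)
    have hinv : ∀ j, j ≤ k → ∀ x : H, (x : Equiv.Perm GolayPt) ∈ genPerm σ j →
        ((β x : H) : Equiv.Perm GolayPt) ∈ genPerm σ j := by
      intro j hj
      rcases eq_or_lt_of_le hj with rfl | hjk
      · exact fun x _ => (β x).2
      rcases Nat.eq_zero_or_pos j with rfl | hj0
      · intro x hx
        simp [genPerm] at hx
        simp [hx]
      have hgen : ∀ i, i < k → i ≠ 0 → (steps.getD i dfltIStep).cen = false →
          ∀ x : H, (x : Equiv.Perm GolayPt) ∈ genPerm σ i →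
            ((β x : H) : Equiv.Perm GolayPt) ∈ genPerm σ i := fun i hi hi0 hc =>
        igen_invariant (hL k le_rfl) β hks hi.le (hL i hi.le) (fun l hl => (hσ l (by omega)).2) hc
          ((hst i hi).resolve_left hi0)
      cases hc : (steps.getD j dfltIStep).cen
      · exact hgen j hjk hj0.ne' hc
      · have hs := (hst j hjk).resolve_left hj0.ne'
        have hs' := hs
        simp only [chkIStep, hc, cond_true, Bool.and_eq_true, Bool.or_eq_true, Nat.beq_eq,
          Nat.blt_eq, Bool.not_eq_true'] at hs'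
        refine icen_invariant (hL k le_rfl) β hks hjk.le (hL j hjk.le) (hL _ ?_)
          (fun i hi => (hσ i (by omega)).2) ?_ hc hs
        · rcases hs'.1.1 with h | h
          · exact h.le
          · exact h.1.1.le
        · rcases hs'.1.1 with h | h
          · rw [h]; exact fun x _ => (β x).2
          · exact hgen _ h.1.1 (by omega) h.2
    let N : Fin (k + 1) → Subgroup H := fun i => (genPerm σ i).comap H.subtype
    obtain ⟨a, ha⟩ := exists_pow_eq_one_of_stabilizes (IsPGroup.of_card (hL k le_rfl).2.2) N (by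
        refine (Subgroup.eq_bot_iff_forall _).2 fun x hx => ?_
        have hx' : (x : Equiv.Perm GolayPt) ∈ genPerm σ 0 := hx
        simp [genPerm] at hx'
        exact hx')
      (eq_top_iff.2 fun x _ => x.2) β
      (fun i x hx => hinv i (Nat.lt_succ_iff.1 i.2) _ hx) (fun i x hx => by
        show (x : Equiv.Perm GolayPt)⁻¹ * ((β x : H) : Equiv.Perm GolayPt) ∈ genPerm σ i
        set y := (x : Equiv.Perm GolayPt) with hy
        have hy1 : y ∈ genPerm σ (i + 1) := hx
        have hi := i.2
        by_cases hyi : y ∈ genPerm σ i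
        · exact mul_mem (inv_mem hyi) (hinv i (by omega) _ hyi)
        · have hz1' : ((β x : H) : Equiv.Perm GolayPt) ∈ genPerm σ (i + 1) := hinv _ (by omega) _ hy1
          have hfin : Finite H := Subtype.finite
          have hz2 : ((β x : H) : Equiv.Perm GolayPt) ∉ genPerm σ i := by
            intro h
            have hNi : (N ⟨i, by omega⟩).map β.toMonoidHom = N ⟨i, by omega⟩ := by
              refine Subgroup.eq_of_le_of_card_ge ?_
                (Subgroup.card_map_of_injective β.injective).ge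
              rintro _ ⟨w, hw, rfl⟩
              exact hinv i (by omega) _ hw
            obtain ⟨w, hw, e'⟩ := hNi.ge (show β x ∈ N ⟨i, by omega⟩ from h)
            obtain rfl := β.injective e'
            exact hyi hw
          have hind : ((genPerm σ i).subgroupOf (genPerm σ (i + 1))).index = 2 := by
            have h1 := ((genPerm σ i).subgroupOf (genPerm σ (i + 1))).index_mul_card
            rw [Nat.card_congr (Subgroup.subgroupOfEquivOfLe (hmono i (i + 1) (by omega))).toEquiv,
              (hL i (by omega)).2.2, (hL (i + 1) (by omega)).2.2, pow_succ'] at h1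
            exact Nat.eq_of_mul_eq_mul_right (by positivity) h1
          have := (Subgroup.mul_mem_iff_of_index_two hind (a := ⟨y⁻¹, inv_mem hy1⟩)
            (b := ⟨_, hz1'⟩)).2 (iff_of_false
              (fun h => hyi (by simpa using inv_mem (show y⁻¹ ∈ genPerm σ i from h))) hz2)
          exact this)
    refine ⟨a, fun x hx => ?_⟩
    have hpow : ∀ (l : ℕ) (y : H), (β ^ l) y = e.symm ((δ ^ l) (e y)) := by
      intro l
      induction l with
      | zero => simp
      | succ l ih =>
        intro y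
        rw [pow_succ', pow_succ', MulAut.mul_apply, MulAut.mul_apply, ih]
        simp [β]
    have h1 := hpow (2 ^ a) (e.symm ⟨x, hx⟩)
    rw [ha, MulAut.one_apply, MulEquiv.apply_symm_apply, e.symm.injective.eq_iff] at h1
    have h2 : ((S₀ : Subgroup G).normalizerMonoidHom (⟨n, hn⟩ ^ 2 ^ a)) ⟨x, hx⟩ = ⟨x, hx⟩ := by
      rw [map_pow]; exact h1.symm
    have h3 : n ^ 2 ^ a * x * (n ^ 2 ^ a)⁻¹ = x := congrArg Subtype.val h2
    exact mul_inv_eq_iff_eq_mul.1 h3

end Cert

end CfsgLib.Fusion
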