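import Cfsg.Agent.Lib.Fusion.TwoSylowIntrinsic
import Cfsg.Agent.Lib.Fusion.SmallData

/-!
# The intrinsic certificate with unions of classes and any centre

A step is generated by, or is the centraliser of, the elements with invariant in a given list; there
is a program for each non-trivial central element, which may use one conjugation of `bx` to `bv` from
outside the permutation group.
-/

set_option autoImplicit false

namespace CfsgLib.Fusion

open Cfsg CfsgLib.Sporadic

namespace Cert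

/-- The description of one step: the centraliser of, or the group generated by, some classes. -/
structure UStep where
  /-- centraliser or generated group -/
  cen : Bool
  /-- the values of the invariant; none for all elements -/
  cs : List ℕ
  /-- for a generated group: the generators as products of elements of the set -/
  words : List (List ℕ)

def dfltUStep : UStep := ⟨false, [], []⟩

/-- The elements with invariant in the given list, read off the list of invariants. -/
noncomputable def uset (L ks : List ℕ) (cs : List ℕ) : List ℕ :=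
  cond cs.isEmpty L (((L.zip ks).filter fun x => memL x.2 cs).map Prod.fst)

theorem mem_uset {L ks : List ℕ} (hks : ks = L.map (ikey L)) {cs : List ℕ} {p : ℕ} :
    p ∈ uset L ks cs ↔ p ∈ L ∧ (cs = [] ∨ ikey L p ∈ cs) := by
  unfold uset
  rcases cs with - | ⟨c, cs⟩
  · simp
  · simp only [List.isEmpty_cons, cond_false, hks, zip_map_self, List.mem_map, List.mem_filter]
    constructor
    · rintro ⟨x, ⟨⟨a, ha, rfl⟩, h⟩, rfl⟩
      exact ⟨ha, Or.inr (memL_iff.1 h)⟩
    · rintro ⟨hp, h⟩
      exact ⟨(p, ikey L p), ⟨⟨p, hp, rfl⟩, memL_iff.2 (h.resolve_left (by simp))⟩, rfl⟩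

noncomputable def chkUStep (g ks : List ℕ) (k : ℕ) (j : ℕ) (s : UStep) : Bool :=
  cond s.cen
    (allL (filterL (elems g k) (commAll (uset (elems g k) ks s.cs))) (fun p => memL p (elems g j)) &&
      forallLt j (fun i => commAll (uset (elems g k) ks s.cs) (g.getD i pone)))
    (allL (uset (elems g k) ks s.cs) (fun p => memL p (elems g j)) &&
      forallLt j (fun i => allL (s.words.getD i []) (fun p => memL p (uset (elems g k) ks s.cs)) &&
        Nat.beq (wordProd (s.words.getD i [])) (g.getD i pone)))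

/-- The certificate, apart from the list of invariants. -/
noncomputable def chkU (inM : ℕ → Bool) (g ks : List ℕ) (k : ℕ) (conjs : List (List ℕ))
    (steps : List UStep) (bx bv : ℕ) (zs : List (ℕ × List Op × List Op)) : Bool :=
  Nat.blt 0 k && Nat.beq g.length k &&
    forallLt k (fun j => inM (g.getD j pone) &&
      Nat.beq (pmul (g.getD j pone) pone) (g.getD j pone) && chkPc g j (conjs.getD j [])) &&
    forallLt k (fun j => Nat.beq j 0 || chkUStep g ks k j (steps.getD j dfltUStep)) &&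
    allL (filterL (elems g k) fun p => forallLt k fun i => comm p (g.getD i pone))
      (fun p => memL p (pone :: zs.map Prod.fst)) &&
    memL bv (elems g k) &&
    forallLt zs.length (fun l =>
      chkProg inM (elems g k) [bx] (zs.getD l (pone, [], [])).2.1 [(zs.getD l (pone, [], [])).1] &&
      chkProg inM (elems g k) g (zs.getD l (pone, [], [])).2.2 [(zs.getD l (pone, [], [])).1, bv])

section Sound

variable {g : List ℕ} {k : ℕ} {σ : ℕ → Equiv.Perm GolayPt}
variable (hL : Listed g σ k)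
include hL

/-- The set of a step is invariant. -/
theorem uset_map (β : MulAut (genPerm σ k)) {ks : List ℕ} (hks : ks = (elems g k).map (ikey (elems g k)))
    {cs : List ℕ} {p : ℕ} (hp : p ∈ uset (elems g k) ks cs) {x : genPerm σ k}
    (hx : Rep (x : Equiv.Perm GolayPt) p) :
    ∃ q ∈ uset (elems g k) ks cs, Rep ((β x : genPerm σ k) : Equiv.Perm GolayPt) q := by
  obtain ⟨q, hq, hy⟩ := (hL.1 _).1 (β x).2
  obtain ⟨hpL, hc⟩ := (mem_uset hks).1 hp
  exact ⟨q, (mem_uset hks).2 ⟨hq, hc.imp_right fun e => (ikey_map hL β hpL hq hx hy).symm ▸ e⟩, hy⟩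

/-- A generated step is invariant. -/
theorem ugen_invariant (β : MulAut (genPerm σ k)) {ks : List ℕ}
    (hks : ks = (elems g k).map (ikey (elems g k))) {j : ℕ} {s : UStep}
    (hj : j ≤ k) (hLj : Listed g σ j) (hσ : ∀ i < j, Rep (σ i) (g.getD i pone))
    (hcen : s.cen = false) (hchk : chkUStep g ks k j s = true) :
    ∀ x : genPerm σ k, (x : Equiv.Perm GolayPt) ∈ genPerm σ j →
      ((β x : genPerm σ k) : Equiv.Perm GolayPt) ∈ genPerm σ j := by
  simp only [chkUStep, hcen, cond_false, Bool.and_eq_true, allL_iff, forallLt_iff, memL_iff,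
    Nat.beq_eq] at hchk
  obtain ⟨hsub, hw⟩ := hchk
  have hmono : genPerm σ j ≤ genPerm σ k :=
    Subgroup.closure_mono (Set.image_mono (Set.Iio_subset_Iio hj))
  let K : Subgroup (genPerm σ k) :=
    ((genPerm σ j).comap (genPerm σ k).subtype).comap β.toMonoidHom
  suffices hle : genPerm σ j ≤ K.map (genPerm σ k).subtype by
    intro x hx
    obtain ⟨y, hy, e⟩ := hle hx
    obtain rfl : y = x := Subtype.ext e
    exact hy
  refine (Subgroup.closure_le _).2 ?_
  rintro _ ⟨i, hi, rfl⟩
  obtain ⟨hwi, he⟩ := hw i hi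
  obtain ⟨τ, hτ, hr⟩ := rep_wordProd (K := K.map (genPerm σ k).subtype) (s.words.getD i [])
    (fun p hp => by
      obtain ⟨a, ha, har⟩ : ∃ a ∈ genPerm σ k, Rep a p := by
        obtain ⟨a, ha, -⟩ := hL.2.1 p ((mem_uset hks).1 (hwi p hp)).1
        exact ⟨a, (hL.1 a).2 ⟨p, ((mem_uset hks).1 (hwi p hp)).1, ha⟩, ha⟩
      obtain ⟨q, hq, hqr⟩ := uset_map hL β hks (hwi p hp) (x := ⟨a, ha⟩) har
      exact ⟨a, ⟨⟨a, ha⟩, (hLj.1 _).2 ⟨q, hsub q hq, hqr⟩, rfl⟩, har⟩)
  rw [he] at hr
  rw [Sporadic.Rep.unique (hσ i hi) hr]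
  exact hτ

/-- A centraliser step is invariant. -/
theorem ucen_invariant (β : MulAut (genPerm σ k)) {ks : List ℕ}
    (hks : ks = (elems g k).map (ikey (elems g k))) {j : ℕ} {s : UStep}
    (hj : j ≤ k) (hLj : Listed g σ j) 
    (hσ : ∀ i < j, Rep (σ i) (g.getD i pone))
    (hcen : s.cen = true) (hchk : chkUStep g ks k j s = true) :
    ∀ x : genPerm σ k, (x : Equiv.Perm GolayPt) ∈ genPerm σ j →
      ((β x : genPerm σ k) : Equiv.Perm GolayPt) ∈ genPerm σ j := by
  simp only [chkUStep, hcen, cond_true, Bool.and_eq_true, allL_iff, forallLt_iff, memL_iff,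
    mem_filterL, and_imp] at hchk
  obtain ⟨hsub, hw⟩ := hchk
  have hX : ∀ q ∈ uset (elems g k) ks s.cs, ∃ b : Equiv.Perm GolayPt, Rep b q := fun q hq =>
    (hL.2.1 q ((mem_uset hks).1 hq).1).imp fun b hb => hb.1
  have hmono : genPerm σ j ≤ genPerm σ k :=
    Subgroup.closure_mono (Set.image_mono (Set.Iio_subset_Iio hj))
  let K : Subgroup (genPerm σ k) :=
    ((genPerm σ j).comap (genPerm σ k).subtype).comap β.toMonoidHom
  suffices hle : genPerm σ j ≤ K.map (genPerm σ k).subtype by
    intro x hx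
    obtain ⟨y, hy, e⟩ := hle hx
    obtain rfl : y = x := Subtype.ext e
    exact hy
  refine (Subgroup.closure_le _).2 ?_
  rintro _ ⟨i, hi, rfl⟩
  have hik : σ i ∈ genPerm σ k := hmono (Subgroup.subset_closure ⟨i, hi, rfl⟩)
  refine ⟨⟨σ i, hik⟩, ?_, rfl⟩
  have hic := hw i hi
  rw [commAll_iff (hσ i hi) hX] at hic
  obtain ⟨q, hq, hr⟩ := (hL.1 _).1 (β ⟨σ i, hik⟩).2
  refine (hLj.1 _).2 ⟨q, hsub q hq ((commAll_iff hr hX).2 fun t ht b hb => ?_), hr⟩
  have hbH : b ∈ genPerm σ k := (hL.1 b).2 ⟨t, ((mem_uset hks).1 ht).1, hb⟩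
  obtain ⟨t', ht', hct⟩ := uset_map hL β.symm hks ht (x := ⟨b, hbH⟩) hb
  have h1 : (⟨σ i, hik⟩ : genPerm σ k) * β.symm ⟨b, hbH⟩ = β.symm ⟨b, hbH⟩ * ⟨σ i, hik⟩ :=
    Subtype.ext (hic t' ht' _ hct)
  have h2 := congrArg (fun y => ((β y : genPerm σ k) : Equiv.Perm GolayPt)) h1
  simp only [map_mul, MulEquiv.apply_symm_apply, Subgroup.coe_mul] at h2
  exact h2

end Sound

/-- The fusion data of a group containing `M` with odd index from a certificate for a Sylow
`2`-subgroup of `M`. -/
theorem data_of_chkU {M : Subgroup (Equiv.Perm GolayPt)} {inM : ℕ → Bool} {g ks : List ℕ} {k : ℕ}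
    {conjs : List (List ℕ)} {steps : List UStep} {bx bv : ℕ} {zs : List (ℕ × List Op × List Op)}
    (hM : ∀ p, inM p = true → ∃ σ ∈ M, Rep σ p)
    (hchk : chkU inM g ks k conjs steps bx bv zs = true)
    (hks : ks = (elems g k).map (ikey (elems g k)))
    {G : Type*} [Group G] [Finite G] (ι : M →* G) (hι : Function.Injective ι)
    (hB : ∀ a b : M, Rep (a : Equiv.Perm GolayPt) bx → Rep (b : Equiv.Perm GolayPt) bv →
      ∃ c : G, c * ι a * c⁻¹ = ι b) {m : ℕ}
    (hcard : Nat.card G = 2 ^ k * m) (hm : Odd m) (S : Sylow 2 G) :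
    (groupFusionSystem (S : Subgroup G)).autGroup (S : Subgroup G) = Inn ↥(S : Subgroup G) ∧
      (∀ T : Subgroup G, (groupFusionSystem (S : Subgroup G)).StronglyClosed T →
        T = ⊥ ∨ T = (S : Subgroup G)) ∧
      (groupFusionSystem (S : Subgroup G)).IsSimple 2 := by
  have : Fact (Nat.Prime 2) := ⟨Nat.prime_two⟩
  simp only [chkU, Bool.and_eq_true, Bool.or_eq_true, Nat.blt_eq, Nat.beq_eq, forallLt_iff] at hchk
  obtain ⟨⟨⟨⟨⟨⟨hk, hlen⟩, hpc⟩, hst⟩, hcen⟩, hbv⟩, hprog⟩ := hchk
  have hex : ∀ j, ∃ τ : Equiv.Perm GolayPt, j < k → τ ∈ M ∧ Rep τ (g.getD j pone) := by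
    intro j
    by_cases h : j < k
    · obtain ⟨τ, h1, h2⟩ := hM _ (hpc j h).1.1
      exact ⟨τ, fun _ => ⟨h1, h2⟩⟩
    · exact ⟨1, fun h' => absurd h' h⟩
  choose σ hσ using hex
  have hL : ∀ j, j ≤ k → Listed g σ j := by
    intro j
    induction j with
    | zero => exact fun _ => listed_zero
    | succ j ih =>
      exact fun hj => listed_succ (ih (by omega)) (hσ j (by omega)).2
        (fun i hi => (hσ i (by omega)).2) (hpc j (by omega)).1.2 (hpc j (by omega)).2
  set H := genPerm σ k with hH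
  have hHM : H ≤ M := by
    rw [hH, genPerm, Subgroup.closure_le]
    rintro _ ⟨i, hi, rfl⟩
    exact (hσ i hi).1
  have hmono : ∀ i j, i ≤ j → genPerm σ i ≤ genPerm σ j := fun i j h =>
    Subgroup.closure_mono (Set.image_mono (Set.Iio_subset_Iio h))
  let f : H →* G := ι.comp (Subgroup.inclusion hHM)
  have hf : Function.Injective f := hι.comp (Subgroup.inclusion_injective hHM)
  have hfact : (Nat.card G).factorization 2 = k := by
    have hm0 : m ≠ 0 := by rintro rfl; simp at hm
    rw [hcard, Nat.factorization_mul (by positivity) hm0, Finsupp.add_apply,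
      Nat.Prime.factorization_pow Nat.prime_two, Finsupp.single_eq_same,
      Nat.factorization_eq_zero_of_not_dvd (by rw [← even_iff_two_dvd]; exact Nat.not_even_iff_odd.2 hm),
      add_zero]
  set S₀ : Sylow 2 G := Sylow.ofCard f.range (by
    rw [← Nat.card_congr (MonoidHom.ofInjective hf).toEquiv, (hL k le_rfl).2.2, hfact]) with hS₀
  have hS₀e : (S₀ : Subgroup G) = f.range := by rw [hS₀, Sylow.coe_ofCard]
  have hz : Rep (σ 0) (g.getD 0 pone) := (hσ 0 hk).2
  have hzH : σ 0 ∈ H := Subgroup.subset_closure ⟨0, hk, rfl⟩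
  have hz1 : σ 0 ≠ 1 := by
    intro h
    have := (hpc 0 hk).2
    simp only [chkPc, Bool.and_eq_true, Bool.not_eq_true'] at this
    have h2 := this.1.2
    rw [Bool.eq_false_iff, ne_eq, memL_iff] at h2
    exact h2 (List.mem_singleton.2 (eq_of_rep hz (h ▸ Rep.one) (hpc 0 hk).1.2 canon_pone))
  have hne : (S₀ : Subgroup G) ≠ ⊥ := by
    intro h
    have h1 : f ⟨σ 0, hzH⟩ ∈ (S₀ : Subgroup G) := hS₀e ▸ ⟨_, rfl⟩
    rw [h, Subgroup.mem_bot, ← map_one f] at h1
    exact hz1 (congrArg Subtype.val (hf h1))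
  refine groupFusion_topData_conj S₀ S hne (fun T hTS hTb hTc => ?_) fun n hn => ?_
  · have hTS' : T ≤ f.range := hS₀e ▸ hTS
    have hnorm : (T.comap f).Normal := ⟨fun t ht a => by
      show f (a * t * a⁻¹) ∈ T
      rw [map_mul, map_mul, map_inv]
      refine hTc _ ht (f a) (hS₀e ▸ ?_)
      exact mul_mem (mul_mem ⟨a, rfl⟩ ⟨t, rfl⟩) (inv_mem ⟨a, rfl⟩)⟩
    have hTne : T.comap f ≠ ⊥ := fun h => hTb ((Subgroup.eq_bot_iff_forall _).2 fun x hx => by
      obtain ⟨y, rfl⟩ := hTS' hx
      have : y ∈ T.comap f := hx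
      rw [h, Subgroup.mem_bot] at this
      rw [this, map_one])
    have hp2 : IsPGroup 2 H := IsPGroup.of_card (hL k le_rfl).2.2
    have : Group.IsNilpotent H := hp2.isNilpotent
    obtain ⟨⟨t, htH⟩, ⟨htT, htc⟩, ht1⟩ := Subgroup.bot_or_exists_ne_one _ |>.resolve_left
      (Core.inf_center_ne_bot_of_isNilpotent (T.comap f) hTne)
    obtain ⟨p, hp, hr⟩ := ((hL k le_rfl).1 t).1 htH
    simp only [allL_iff, mem_filterL, and_imp, forallLt_iff, memL_iff] at hcen
    have hmem := hcen p hp fun i hi => (beq_pmul_iff hr (hσ i hi).2 (hσ i hi).2 hr).2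
      (congrArg Subtype.val (Subgroup.mem_center_iff.1 htc
        ⟨σ i, Subgroup.subset_closure ⟨i, hi, rfl⟩⟩)).symm
    have hmem' : p ∈ zs.map Prod.fst := by
      rcases List.mem_cons.1 hmem with rfl | h
      · exact absurd (Subtype.ext (Sporadic.Rep.unique hr Rep.one)) ht1
      · exact h
    obtain ⟨l, hl, hle'⟩ := List.mem_iff_getElem.1 hmem'
    rw [List.length_map] at hl
    rw [List.getElem_map] at hle'
    have hprog' := hprog l hl
    rw [List.getD_eq_getElem _ _ hl, hle'] at hprog'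
    have hL' : ∀ v ∈ elems g k, ∃ x ∈ H, Rep x v := fun v hv => by
      obtain ⟨x, hx, -⟩ := (hL k le_rfl).2.1 v hv
      exact ⟨x, ((hL k le_rfl).1 x).2 ⟨v, hv, hx⟩, hx⟩
    have hT' : ∀ x ∈ T.comap ι, ∀ c : M, ((c * x * c⁻¹ : M) : Equiv.Perm GolayPt) ∈ H →
        c * x * c⁻¹ ∈ T.comap ι := fun x hx c hc => by
      show ι (c * x * c⁻¹) ∈ T
      rw [map_mul, map_mul, map_inv]
      refine hTc _ hx (ι c) (hS₀e ▸ ⟨⟨_, hc⟩, ?_⟩)
      rw [← map_inv, ← map_mul, ← map_mul]; rfl
    obtain ⟨ax, hax, haxr⟩ := prog_mem hM hL' hHM (T := T.comap ι) hT' _ [p]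
      (fun q hq => ⟨⟨t, hHM htH⟩, htT, by rw [List.mem_singleton.1 hq]; exact hr⟩) hprog'.1 bx
      (List.mem_singleton.2 rfl)
    obtain ⟨y, hy, hyr⟩ := hL' bv (memL_iff.1 hbv)
    obtain ⟨c, hc⟩ := hB ax ⟨y, hHM hy⟩ haxr hyr
    have hby : (⟨y, hHM hy⟩ : M) ∈ T.comap ι := by
      show ι _ ∈ T
      rw [← hc]
      exact hTc _ hax c (by rw [hc]; exact hS₀e ▸ ⟨⟨y, hy⟩, rfl⟩)
    have hall := prog_mem hM hL' hHM (T := T.comap ι) hT' _ [p, bv]
      (fun q hq => by
        rcases List.mem_cons.1 hq with rfl | hq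
        · exact ⟨⟨t, hHM htH⟩, htT, hr⟩
        · exact ⟨⟨y, hHM hy⟩, hby, by rw [List.mem_singleton.1 hq]; exact hyr⟩) hprog'.2
    refine le_antisymm hTS fun x hx => ?_
    obtain ⟨⟨y, hy⟩, rfl⟩ := hS₀e.le hx
    have hle : H ≤ (T.comap ι).map M.subtype := by
      rw [hH, genPerm, Subgroup.closure_le]
      rintro _ ⟨i, hi, rfl⟩
      have hi' : g.getD i pone ∈ g := by
        rw [List.getD_eq_getElem _ _ (hlen.symm ▸ hi)]; exact List.getElem_mem _
      obtain ⟨t', ht', hr'⟩ := hall _ hi'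
      exact ⟨t', ht', Sporadic.Rep.unique hr' (hσ i hi).2⟩
    obtain ⟨t', ht', e⟩ := hle hy
    obtain rfl : t' = ⟨y, hHM hy⟩ := Subtype.ext e
    exact ht'
  · let e : H ≃* (S₀ : Subgroup G) :=
      (MonoidHom.ofInjective hf).trans (MulEquiv.subgroupCongr hS₀e.symm)
    let δ : MulAut (S₀ : Subgroup G) := (S₀ : Subgroup G).normalizerMonoidHom ⟨n, hn⟩
    let β : MulAut H := e.trans (δ.trans e.symm)
    have hinv : ∀ j, j ≤ k → ∀ x : H, (x : Equiv.Perm GolayPt) ∈ genPerm σ j →
        ((β x : H) : Equiv.Perm GolayPt) ∈ genPerm σ j := by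
      intro j hj
      rcases eq_or_lt_of_le hj with rfl | hjk
      · exact fun x _ => (β x).2
      rcases Nat.eq_zero_or_pos j with rfl | hj0
      · intro x hx
        simp [genPerm] at hx
        simp [hx]
      have hs := (hst j hjk).resolve_left hj0.ne'
      cases hc : (steps.getD j dfltUStep).cen
      · exact ugen_invariant (hL k le_rfl) β hks hjk.le (hL j hjk.le) (fun l hl => (hσ l (by omega)).2) hc hs
      · exact ucen_invariant (hL k le_rfl) β hks hjk.le (hL j hjk.le) (fun l hl => (hσ l (by omega)).2) hc hs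
    let N : Fin (k + 1) → Subgroup H := fun i => (genPerm σ i).comap H.subtype
    obtain ⟨a, ha⟩ := exists_pow_eq_one_of_stabilizes (IsPGroup.of_card (hL k le_rfl).2.2) N (by
        refine (Subgroup.eq_bot_iff_forall _).2 fun x hx => ?_
        have hx' : (x : Equiv.Perm GolayPt) ∈ genPerm σ 0 := hx
        simp [genPerm] at hx'
        exact hx')
      (eq_top_iff.2 fun x _ => x.2) β
      (fun i x hx => hinv i (Nat.lt_succ_iff.1 i.2) _ hx) (fun i x hx => by
        show (x : Equiv.Perm GolayPt)⁻¹ * ((β x : H) : Equiv.Perm GolayPt) ∈ genPerm σ i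
        set y := (x : Equiv.Perm GolayPt) with hy
        have hy1 : y ∈ genPerm σ (i + 1) := hx
        have hi := i.2
        by_cases hyi : y ∈ genPerm σ i
        · exact mul_mem (inv_mem hyi) (hinv i (by omega) _ hyi)
        · have hz1' : ((β x : H) : Equiv.Perm GolayPt) ∈ genPerm σ (i + 1) := hinv _ (by omega) _ hy1
          have hfin : Finite H := Subtype.finite
          have hz2 : ((β x : H) : Equiv.Perm GolayPt) ∉ genPerm σ i := by
            intro h
            have hNi : (N ⟨i, by omega⟩).map β.toMonoidHom = N ⟨i, by omega⟩ := by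
              refine Subgroup.eq_of_le_of_card_ge ?_
                (Subgroup.card_map_of_injective β.injective).ge
              rintro _ ⟨w, hw, rfl⟩
              exact hinv i (by omega) _ hw
            obtain ⟨w, hw, e'⟩ := hNi.ge (show β x ∈ N ⟨i, by omega⟩ from h)
            obtain rfl := β.injective e'
            exact hyi hw
          have hind : ((genPerm σ i).subgroupOf (genPerm σ (i + 1))).index = 2 := by
            have h1 := ((genPerm σ i).subgroupOf (genPerm σ (i + 1))).index_mul_card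
            rw [Nat.card_congr (Subgroup.subgroupOfEquivOfLe (hmono i (i + 1) (by omega))).toEquiv,
              (hL i (by omega)).2.2, (hL (i + 1) (by omega)).2.2, pow_succ'] at h1
            exact Nat.eq_of_mul_eq_mul_right (by positivity) h1
          have := (Subgroup.mul_mem_iff_of_index_two hind (a := ⟨y⁻¹, inv_mem hy1⟩)
            (b := ⟨_, hz1'⟩)).2 (iff_of_false
              (fun h => hyi (by simpa using inv_mem (show y⁻¹ ∈ genPerm σ i from h))) hz2)
          exact this)
    refine ⟨a, fun x hx => ?_⟩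
    have hpow : ∀ (l : ℕ) (y : H), (β ^ l) y = e.symm ((δ ^ l) (e y)) := by
      intro l
      induction l with
      | zero => simp
      | succ l ih =>
        intro y
        rw [pow_succ', pow_succ', MulAut.mul_apply, MulAut.mul_apply, ih]
        simp [β]
    have h1 := hpow (2 ^ a) (e.symm ⟨x, hx⟩)
    rw [ha, MulAut.one_apply, MulEquiv.apply_symm_apply, e.symm.injective.eq_iff] at h1
    have h2 : ((S₀ : Subgroup G).normalizerMonoidHom (⟨n, hn⟩ ^ 2 ^ a)) ⟨x, hx⟩ = ⟨x, hx⟩ := by
      rw [map_pow]; exact h1.symm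
    have h3 : n ^ 2 ^ a * x * (n ^ 2 ^ a)⁻¹ = x := congrArg Subtype.val h2
    exact mul_inv_eq_iff_eq_mul.1 h3

end Cert

end CfsgLib.Fusion
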