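import Cfsg.Agent.Lib.Fusion.JGeneration
import Cfsg.Agent.Lib.Fusion.BadNormal
import Cfsg.Agent.Lib.Fusion.ModelTools
import Cfsg.Agent.Lib.Fusion.Biset.ModelExists
import Cfsg.Agent.Lib.Fusion.Biset.ModelUnique

/-!
From local conditions to weak closure of a central element.
-/

set_option autoImplicit false

namespace CfsgLib.Fusion

open Cfsg Cfsg.FusionSystem

universe u

variable {Ω : Type u} [Group Ω] {S : Subgroup Ω} {F : FusionSystem S} {p : ℕ}

theorem centralizerHom_fixes {x : Ω} {P : Subgroup Ω} {φ : P →* Ω}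
    (h : φ ∈ F.centralizerHom (Subgroup.zpowers x) P) (hx : x ∈ P) : φ ⟨x, hx⟩ = x := by
  obtain ⟨-, -, -, ψ, -, hψP, hψx⟩ := h
  rw [← hψP ⟨x, hx⟩]
  exact hψx ⟨x, Subgroup.mem_zpowers x⟩

theorem centralizerHom_of_fixes {x : Ω} (hxC : ∀ y ∈ S, y * x = x * y) {P A : Subgroup Ω}
    {φ : P →* Ω} (hφ : φ ∈ F.Hom P) {ψ : A →* Ω} (hψ : ψ ∈ F.Hom A) (hPA : P ≤ A)
    (hag : ∀ y : P, ψ (Subgroup.inclusion hPA y) = φ y) (hxA : x ∈ A) (hfix : ψ ⟨x, hxA⟩ = x) :
    φ ∈ F.centralizerHom (Subgroup.zpowers x) P := by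
  have hC : ∀ y ∈ S, y ∈ centralizerIn S (Subgroup.zpowers x) := fun y hy => mem_centralizerIn.2
    ⟨hy, fun z hz => by
      obtain ⟨k, rfl⟩ := Subgroup.mem_zpowers_iff.1 hz
      exact Commute.zpow_left (hxC y hy).symm k⟩
  have hle : P ⊔ Subgroup.zpowers x ≤ A := sup_le hPA (Subgroup.zpowers_le.2 hxA)
  refine ⟨hφ, fun y hy => hC y (hom_le hφ hy), fun y => hC _ (hom_apply_mem hφ y),
    ψ.comp (Subgroup.inclusion hle), restrict_mem hψ hle, fun y => hag y, fun y => ?_⟩
  obtain ⟨k, hk⟩ := Subgroup.mem_zpowers_iff.1 y.2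
  rw [MonoidHom.comp_apply,
    show Subgroup.inclusion hle (Subgroup.inclusion le_sup_right y) = (⟨x, hxA⟩ : A) ^ k from
      Subtype.ext (by simpa using hk.symm), map_zpow, hfix, hk]

set_option maxHeartbeats 800000 in
/-- A central element fixed by the normalizers of `Wf` is fixed by the system, if this holds in
models. -/
theorem fixes_of_local [Fact p.Prime] (x : Ω) (Wf : Subgroup Ω → Subgroup Ω)
    (hle : ∀ T, Wf T ≤ T)
    (hnorm : ∀ T : Subgroup Ω, Subgroup.normalizer (T : Set Ω) ≤ Subgroup.normalizer (Wf T : Set Ω))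
    (P₀ : ∀ (T : Subgroup Ω), FusionSystem T → Prop)
    (hP₀ : ∀ {S : Subgroup Ω} [Finite S] {F : FusionSystem S} {T : Subgroup Ω}
      {N : FusionSystem T}, P₀ S F → T ≤ S → centerOf S ≤ T → N.IsSubsystemOf F → P₀ T N)
    (hxW : ∀ {T : Subgroup Ω} [Finite T] (F : FusionSystem T), IsPGroup p T → P₀ T F →
      x ∈ T → (∀ y ∈ T, y * x = x * y) → x ∈ Wf T)
    (hgrp : ∀ {T : Subgroup Ω} [Finite T] (N : FusionSystem T), IsPGroup p T → P₀ T N →
      ∀ (hx : x ∈ T), (∀ y ∈ T, y * x = x * y) → ∀ (L : Type u) [Group L] (ι : T →* L),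
        N.IsModel p L ι →
        (∀ h ∈ Subgroup.normalizer ((((Wf T).subgroupOf T).map ι : Subgroup L) : Set L),
          h * ι ⟨x, hx⟩ * h⁻¹ = ι ⟨x, hx⟩) → ∀ g : L, g * ι ⟨x, hx⟩ * g⁻¹ = ι ⟨x, hx⟩) :
    ∀ (n : ℕ) {S : Subgroup Ω} [Finite S] {F : FusionSystem S}, Nat.card S = n → IsPGroup p S →
      F.IsSaturated p → P₀ S F → x ∈ S → (∀ y ∈ S, y * x = x * y) →
      (∀ (P : Subgroup Ω) (φ : P →* Ω), φ ∈ F.normalizerHom (Wf S) P →
        φ ∈ F.centralizerHom (Subgroup.zpowers x) P) →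
      ∀ (P : Subgroup Ω) (φ : P →* Ω), φ ∈ F.Hom P →
        φ ∈ F.centralizerHom (Subgroup.zpowers x) P := by
  intro n
  induction n using Nat.strong_induction_on with
  | _ n ih =>
  intro S _ F hn hS hF hP hxS hxC hN
  have hCS : centralizerIn S (Subgroup.zpowers x) = S := le_antisymm (centralizerIn_le _)
    fun y hy => mem_centralizerIn.2 ⟨hy, fun z hz => by
      obtain ⟨k, rfl⟩ := Subgroup.mem_zpowers_iff.1 hz
      exact Commute.zpow_left (hxC y hy).symm k⟩
  set E := copySystem hCS (centSystem F _ (Subgroup.zpowers_le.2 hxS)) with hEdef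
  -- a normal centric subgroup of `S` reduces to a group
  have step_top : ∀ X : Subgroup Ω, F.IsCentric X → x ∈ X →
      S ≤ Subgroup.normalizer (X : Set Ω) →
      ∀ (P : Subgroup Ω) (φ : P →* Ω), φ ∈ F.normalizerHom X P → φ ∈ E.Hom P := by
    intro X hXc hxX hXN P φ hφ
    have hXS := hXc.1
    set T := normalizerIn S X with hT
    have hTS : T ≤ S := normalizerIn_le X
    have hST : S ≤ T := le_inf le_rfl hXN
    have hZT : centerOf S ≤ T := inf_le_left.trans hST
    have := finite_le hTS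
    have hfn : F.IsFullyNormalized X := ⟨hXS, fun R _ =>
      Subgroup.card_le_of_le ((normalizerIn_le R).trans hST)⟩
    have hNsys := normSystem_isNormalizerSystem F X hXS
    set M := normSystem F X hXS
    have hMn := normalizerSystem_isNormal hXS hNsys
    have hMc : M.IsCentric X := ⟨hXS.trans hST, fun R ⟨χ, hχ, hR⟩ => fun z hz =>
      hXc.2 R ⟨χ, normalizerSystem_le hNsys hχ, hR⟩ ⟨hTS hz.1, hz.2⟩⟩
    obtain ⟨L, _, ι, hG⟩ := exists_model_of_normal_centric (hS.to_le hTS)
      (normalizerSystem_saturated hS hF hfn hNsys) hMn hMc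
    have hinj : Function.Injective ι := hG.2.1.1
    have hxT : x ∈ T := hST hxS
    have hWT : Wf T = Wf S := by rw [le_antisymm hTS hST]
    have hconc := hgrp M (hS.to_le hTS) (hP₀ hP hTS hZT fun A χ hχ => normalizerSystem_le hNsys hχ)
      hxT (fun y hy => hxC y (hTS hy)) L ι hG ?_
    · obtain ⟨hφF, hP', hφT, ψ, hψ, hψP, hψX⟩ := hφ
      have hxA : x ∈ P ⊔ X := Subgroup.mem_sup_right hxX
      refine centralizerHom_of_fixes hxC hφF hψ le_sup_left hψP hxA ?_
      have hle : P ⊔ X ≤ T := (sup_le (hom_le hφF) hXS).trans hST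
      obtain ⟨g, hg⟩ := (hG.2.1.2 _ hle ψ fun z => hST (hom_apply_mem hψ z)).1 (by
        refine ⟨hψ, hle, fun z => hST (hom_apply_mem hψ z),
          ψ.comp (Subgroup.inclusion (sup_le le_rfl le_sup_right)), restrict_mem hψ _,
          fun z => rfl, ?_⟩
        ext y
        constructor
        · rintro ⟨z, hz, rfl⟩
          exact hψX.le ⟨_, hz, rfl⟩
        · intro hy
          obtain ⟨z, hz, rfl⟩ := hψX.ge hy
          exact ⟨⟨z, Subgroup.mem_sup_left z.2⟩, hz, rfl⟩)
      exact congrArg Subtype.val (hinj ((hg ⟨x, hxA⟩).trans (hconc g)))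
    intro h hh
    have hUn := model_isNormal_coreBack hG
    set U := coreBack p ι
    have hUT : U ≤ T := hUn.1
    have hWle : Wf T ≤ T := hle T
    set R := U ⊔ Wf T with hR
    have hRT : R ≤ T := sup_le hUT hWle
    have hmem : ∀ z : R, ∃ r : R, ι ⟨r, hRT r.2⟩ = h * ι ⟨z, hRT z.2⟩ * h⁻¹ := by
      have hle' : R ≤ ((((R.subgroupOf T).map ι).comap (MulAut.conj h).toMonoidHom).comap ι).map
          T.subtype := by
        refine sup_le (fun y hy => ⟨⟨y, hUT hy⟩, ?_, rfl⟩) fun y hy => ⟨⟨y, hWle hy⟩, ?_, rfl⟩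
        · obtain ⟨r, hr⟩ := model_coreBack_conj hG h ⟨y, hy⟩
          exact ⟨⟨r, hUT r.2⟩, Subgroup.mem_sup_left r.2, hr⟩
        · obtain ⟨s, hs, hsy⟩ := (Subgroup.mem_normalizer_iff.1 hh _).1
            ⟨⟨y, hWle hy⟩, hy, rfl⟩
          exact ⟨s, Subgroup.mem_sup_right (hs : (s : Ω) ∈ Wf T), hsy⟩
      intro z
      obtain ⟨s, hs, hsz⟩ := hle' z.2
      obtain rfl : s = ⟨z, hRT z.2⟩ := Subtype.ext hsz
      obtain ⟨r, hr, hrv⟩ := hs
      exact ⟨⟨r, hr⟩, hrv⟩
    obtain ⟨b, hb, -, hbv⟩ := model_exists_aut hG hRT hmem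
    have hRS : R ≤ S := hRT.trans hTS
    have hxW' : x ∈ Wf T := hxW M (hS.to_le hTS)
      (hP₀ hP hTS hZT fun A χ hχ => normalizerSystem_le hNsys hχ) hxT fun y hy => hxC y (hTS hy)
    have hbF : R.subtype.comp b.toMonoidHom ∈ F.Hom R :=
      normalizerSystem_le hNsys ((mem_autGroup_iff hRT).1 hb)
    have hsup : R ⊔ Wf S ≤ R := sup_le le_rfl (hWT ▸ le_sup_right)
    have hmemW : R.subtype.comp b.toMonoidHom ∈ F.normalizerHom (Wf S) R := by
      have hWN : S ≤ normalizerIn S (Wf S) :=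
        le_inf le_rfl (Subgroup.le_normalizer.trans (hnorm S))
      refine ⟨hbF, hRS.trans hWN, fun z => hWN (hRS (b z).2),
        (R.subtype.comp b.toMonoidHom).comp (Subgroup.inclusion hsup), restrict_mem hbF hsup,
        fun z => rfl, ?_⟩
      have := finite_le ((hle S).trans le_rfl)
      refine Subgroup.eq_of_le_of_card_ge ?_ ?_
      · rintro _ ⟨z, hz, rfl⟩
        have hz' : (z : Ω) ∈ Wf T := hWT.ge hz
        obtain ⟨s, hs, hsy⟩ := (Subgroup.mem_normalizer_iff.1 hh _).1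
          ⟨⟨(z : Ω), hWle hz'⟩, hz', rfl⟩
        have h1 : (s : Ω) = ((b (Subgroup.inclusion hsup z) : R) : Ω) :=
          congrArg Subtype.val (hinj (hsy.trans (hbv (Subgroup.inclusion hsup z)).symm))
        exact hWT.le (show ((b (Subgroup.inclusion hsup z) : R) : Ω) ∈ Wf T from h1 ▸ hs)
      · exact (card_img (F.injective_of_mem (restrict_mem hbF hsup)) le_sup_right).ge
    have hxR : x ∈ R := Subgroup.mem_sup_right hxW'
    have h1 := hbv ⟨x, hxR⟩
    have h2 : ((b ⟨x, hxR⟩ : R) : Ω) = x := centralizerHom_fixes (hN R _ hmemW) hxR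
    refine h1.symm.trans ?_
    exact congrArg ι (Subtype.ext h2)
  refine alperin_gen hS hF E (fun a ha => ?_) fun R hRS hess hup => ?_
  · have haF := (mem_autGroup_iff le_rfl).1 ha
    refine (mem_autGroup_iff le_rfl).2 (step_top S isCentric_self hxS Subgroup.le_normalizer S _
      ⟨haF, le_normalizerIn le_rfl, fun z => le_normalizerIn le_rfl (a z).2,
        (S.subtype.comp a.toMonoidHom).comp (Subgroup.inclusion (sup_le le_rfl le_rfl)),
        restrict_mem haF _, fun z => rfl, ?_⟩)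
    refine Subgroup.eq_of_le_of_card_ge ?_ ?_
    · rintro _ ⟨z, -, rfl⟩
      exact (a _).2
    · exact (card_img (F.injective_of_mem (restrict_mem haF _)) le_sup_right).ge
  suffices main : ∀ (m : ℕ) (X : Subgroup Ω), (Nat.card S - Nat.card (normalizerIn S X)) *
      (Nat.card S + 1) + (Nat.card S - Nat.card X) < m → x ∈ X → F.IsFullyNormalized X →
      Nat.card R < Nat.card (normalizerIn S X) →
      ∀ (P : Subgroup Ω) (φ : P →* Ω), φ ∈ F.normalizerHom X P → φ ∈ E.Hom P by
    have hxR : x ∈ R := hess.1.2 R (isConj_refl hRS.le)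
      (mem_centralizerIn.2 ⟨hxS, fun y hy => hxC y (hRS.le hy)⟩)
    intro a ha
    refine Subgroup.mem_sup_left ((mem_autGroup_iff hRS.le).2
      (main _ R (Nat.lt_succ_self _) hxR hess.2.1 ?_ R _ ?_))
    · have := finite_le (normalizerIn_le (S := S) R)
      exact lt_of_le_of_ne (Subgroup.card_le_of_le (le_normalizerIn hRS.le)) fun h =>
        (lt_normalizerIn hS hRS).ne (Subgroup.eq_of_le_of_card_ge (le_normalizerIn hRS.le) h.ge)
    · have haF := (mem_autGroup_iff hRS.le).1 ha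
      refine ⟨haF, le_normalizerIn hRS.le, fun z => le_normalizerIn hRS.le (a z).2,
        (R.subtype.comp a.toMonoidHom).comp (Subgroup.inclusion (sup_le le_rfl le_rfl)),
        restrict_mem haF _, fun z => rfl, ?_⟩
      have := finite_le hRS.le
      refine Subgroup.eq_of_le_of_card_ge ?_ ?_
      · rintro _ ⟨z, -, rfl⟩
        exact (a _).2
      · exact (card_img (F.injective_of_mem (restrict_mem haF _)) le_sup_right).ge
  intro m
  induction m with
  | zero => intro X h; omega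
  | succ m ihm =>
  intro X hm hxX hXn hRT P φ hφ
  have hXS := hXn.1
  set T := normalizerIn S X with hT
  have hTS : T ≤ S := normalizerIn_le X
  have := finite_le hTS
  rcases eq_or_lt_of_le hTS with hTeq | hTlt
  · have hXN : S ≤ Subgroup.normalizer (X : Set Ω) := hTeq.symm.le.trans inf_le_right
    by_cases hC : centralizerIn S X ≤ X
    · exact step_top X (isCentric_of_centralizerIn_le hS hF
        (IsSaturated.fullyCentralized hS hF hXn) hC) hxX hXN P φ hφ
    set R₀ := X ⊔ centralizerIn S X with hR₀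
    have hR₀S : R₀ ≤ S := sup_le hXS (centralizerIn_le X)
    have hXR₀ : X ≤ R₀ := le_sup_left
    obtain ⟨hφF, -, -, ψ, hψ, hψP, hψX⟩ := hφ
    obtain ⟨a, ha, hav⟩ := exists_iso (Q := X)
      (restrict_mem hψ (le_sup_right : X ≤ P ⊔ X)) (by rw [range_restrict]; exact hψX)
    obtain ⟨χ, hχ, hχv⟩ := exists_extension
      (IsSaturated.receptive hS hF (IsSaturated.fullyCentralized hS hF hXn)) ha hXR₀
      (sup_le_extender ha)
    have hχm : ∀ z, χ z ∈ R₀ := apply_mem_of_sup
      (fun z => by rw [hχv z]; exact Subgroup.mem_sup_left (a z).2)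
      fun c => Subgroup.mem_sup_right (extension_mem_centralizerIn hχ hXR₀ hχv _ c.2)
    have hR₀N : S ≤ normalizerIn S R₀ := fun g hg => ⟨hg, by
      have h1 := Subgroup.mem_normalizer_iff_map_conj_eq.1 (hXN hg)
      have hgC : g ∈ Subgroup.normalizer (centralizerIn S X : Set Ω) := by
        refine Subgroup.inf_normalizer_le_normalizer_inf ⟨Subgroup.le_normalizer hg, ?_⟩
        refine Subgroup.mem_normalizer_iff.2 fun z => ?_
        simp only [Subgroup.mem_centralizer_iff]
        constructor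
        · intro hz y hy
          have h := congrArg (fun w => g * w * g⁻¹)
            (hz (g⁻¹ * y * g) ((Subgroup.mem_normalizer_iff''.1 (hXN hg) y).1 hy))
          simpa [mul_assoc] using h
        · intro hz y hy
          have h := congrArg (fun w => g⁻¹ * w * g)
            (hz (g * y * g⁻¹) ((Subgroup.mem_normalizer_iff.1 (hXN hg) y).1 hy))
          simpa [mul_assoc] using h
      refine Subgroup.mem_normalizer_iff_map_conj_eq.2 ?_
      rw [hR₀, Subgroup.map_sup]
      exact congrArg₂ (· ⊔ ·) h1 (Subgroup.mem_normalizer_iff_map_conj_eq.1 hgC)⟩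
    have := finite_le (normalizerIn_le (S := S) R₀)
    have hfn₀ : F.IsFullyNormalized R₀ := ⟨hR₀S, fun Q _ =>
      Subgroup.card_le_of_le ((normalizerIn_le Q).trans hR₀N)⟩
    have hfin₀ := finite_le hR₀S
    have hcard : Nat.card X < Nat.card R₀ :=
      lt_of_le_of_ne (Subgroup.card_le_of_le hXR₀) fun e =>
        hC (le_sup_right.trans (Subgroup.eq_of_le_of_card_ge hXR₀ e.ge).ge)
    have hb2 := Subgroup.card_le_of_le hR₀S
    have heq : normalizerIn S R₀ = T := (le_antisymm (normalizerIn_le R₀) hR₀N).trans hTeq.symm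
    have hχn : χ ∈ F.normalizerHom R₀ R₀ := by
      refine ⟨hχ, le_normalizerIn hR₀S, fun z => le_normalizerIn hR₀S (hχm z),
        χ.comp (Subgroup.inclusion (sup_le le_rfl le_rfl)), restrict_mem hχ _, fun z => rfl, ?_⟩
      refine Subgroup.eq_of_le_of_card_ge ?_ ?_
      · rintro _ ⟨z, -, rfl⟩
        exact hχm _
      · exact (card_img (F.injective_of_mem (restrict_mem hχ _)) le_sup_right).ge
    have hχE : χ ∈ E.Hom R₀ := by
      refine ihm R₀ ?_ (hXR₀ hxX) hfn₀ (heq ▸ hRT) R₀ χ hχn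
      rw [heq]
      omega
    refine centralizerHom_of_fixes hxC hφF hψ le_sup_left hψP (Subgroup.mem_sup_right hxX) ?_
    have h1 := centralizerHom_fixes (hχE : χ ∈ F.centralizerHom _ R₀) (hXR₀ hxX)
    rw [show (⟨x, hXR₀ hxX⟩ : R₀) = Subgroup.inclusion hXR₀ ⟨x, hxX⟩ from rfl, hχv, hav] at h1
    exact h1
  · have hNsys := normSystem_isNormalizerSystem F X hXS
    set M := normSystem F X hXS
    have hsub : M.IsSubsystemOf F := fun A χ hχ => normalizerSystem_le hNsys hχ
    have hxT : x ∈ T := le_normalizerIn hXS hxX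
    have hZT : centerOf S ≤ T := fun z hz => centralizerIn_le_normalizerIn X
      (mem_centralizerIn.2 ⟨hz.1, fun y hy => centerOf_comm hz (hXS hy)⟩)
    have hxCT : ∀ y ∈ T, y * x = x * y := fun y hy => hxC y (hTS hy)
    set X₂ := Wf T with hX₂
    have hX₂S : X₂ ≤ S := (hle T).trans hTS
    have hxX₂ : x ∈ X₂ := hxW M (hS.to_le hTS) (hP₀ hP hTS hZT hsub) hxT hxCT
    have hTN : T < normalizerIn S X₂ := lt_of_lt_of_le (lt_normalizerIn hS hTlt)
      fun g hg => ⟨hg.1, hnorm T hg.2⟩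
    have hlt : Nat.card T < Nat.card (normalizerIn S X₂) := by
      have := finite_le (normalizerIn_le (S := S) X₂)
      exact lt_of_le_of_ne (Subgroup.card_le_of_le hTN.le) fun e =>
        hTN.ne (Subgroup.eq_of_le_of_card_ge hTN.le e.ge)
    -- the normalizer of `Wf T` is settled
    have hbig : ∀ (A : Subgroup Ω) (χ : A →* Ω), χ ∈ F.normalizerHom X₂ A → χ ∈ E.Hom A := by
      intro A χ hχ
      obtain ⟨Y, hconj, h1, h2, hYn⟩ := IsSaturated.exists_rep hS hF hX₂S
      obtain ⟨f, hf, hfm, hfY⟩ := exists_normalizer_map hS h1 h2 hconj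
      have hcard := card_normalizerIn_le_of_map hf hfm
      have hfE := hup _ (hRT.trans hlt) hf
      refine mem_of_transport hf hfE hfm hfY hX₂S ?_ hχ
      have hxY : x ∈ Y := by
        have hx₂ := le_normalizerIn hX₂S hxX₂
        exact hfY.le (mem_img.2 ⟨⟨x, hx₂⟩, hxX₂, centralizerHom_fixes hfE hx₂⟩)
      refine ihm Y ?_ hxY hYn (hRT.trans (hlt.trans_le hcard))
      have hb1 := Subgroup.card_le_of_le (normalizerIn_le (S := S) Y)
      have hb2 := Subgroup.card_le_of_le hXS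
      set s := Nat.card S
      set t := Nat.card T
      set t' := Nat.card (normalizerIn S Y)
      have : (s - t' + 1) * (s + 1) ≤ (s - t) * (s + 1) := Nat.mul_le_mul_right _ (by omega)
      rw [add_mul, one_mul] at this
      omega
    have hM := ih (Nat.card T) (hn ▸ lt_of_le_of_ne (Subgroup.card_le_of_le hTS) fun e =>
      hTlt.ne (Subgroup.eq_of_le_of_card_ge hTS e.ge)) rfl (hS.to_le hTS)
      (normalizerSystem_saturated hS hF hXn hNsys) (hP₀ hP hTS hZT hsub) hxT hxCT ?_ P φ hφ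
    · obtain ⟨hφM, -, -, ψ, hψ, hψP, hψx⟩ := hM
      exact centralizerHom_of_fixes hxC (hsub P hφM) (hsub _ hψ) le_sup_left hψP
        (Subgroup.mem_sup_right (Subgroup.mem_zpowers x)) (hψx ⟨x, Subgroup.mem_zpowers x⟩)
    intro A χ hχ
    obtain ⟨hχM, hA, hχT, ψ, hψ, hψA, hψW⟩ := hχ
    have hψF := hsub _ hψ
    have h2 : ψ ∈ F.normalizerHom X₂ (A ⊔ X₂) := by
      refine ⟨hψF, fun z hz => hTN.le (hom_le hψ hz), fun z => hTN.le (hom_apply_mem hψ z),
        ψ.comp (Subgroup.inclusion (sup_le le_rfl le_sup_right)), restrict_mem hψF _,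
        fun z => rfl, ?_⟩
      ext y
      constructor
      · rintro ⟨z, hz, rfl⟩
        exact hψW.le ⟨_, hz, rfl⟩
      · intro hy
        obtain ⟨z, hz, rfl⟩ := hψW.ge hy
        exact ⟨⟨z, Subgroup.mem_sup_left z.2⟩, hz, rfl⟩
    have hfix := centralizerHom_fixes (hbig _ ψ h2) (Subgroup.mem_sup_right hxX₂)
    exact centralizerHom_of_fixes hxCT hχM hψ le_sup_left hψA _ hfix

end CfsgLib.Fusion
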