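import Cfsg.Agent.Lib.Fusion.FrattiniInner
import Cfsg.Agent.Lib.Fusion.InnerQuot
import Cfsg.Agent.Lib.Fusion.BadNormal
import Cfsg.Agent.Lib.Fusion.Criterion
import Cfsg.Agent.Lib.Fusion.Series

/-!
# Weakly embedded subgroups of one order

If every subgroup of order `d` is weakly embedded and the automorphisms of order prime to `p` of
subgroups of order at least `d` are trivial, the system is inner.
-/

set_option autoImplicit false

namespace CfsgLib.Fusion

open Cfsg Cfsg.FusionSystem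
open scoped commutatorElement

universe u

section

variable {Ω : Type u} [Group Ω] {S : Subgroup Ω} {F : FusionSystem S} {p : ℕ}

/-- Every subgroup of order `d` is weakly embedded. -/
def WeaklyEmbeddedAt (F : FusionSystem S) (d : ℕ) : Prop :=
  ∀ Q : Subgroup Ω, Q ≤ S → Nat.card Q = d →
    ∃ P : Subgroup Ω, F.StronglyClosed P ∧ F.StronglyClosed (Q ⊔ P) ∧ F.StronglyClosed (Q ⊓ P)

/-- The automorphisms of order prime to `p` of subgroups of order at least `d` are trivial. -/
def TrivialAbove (F : FusionSystem S) (p d : ℕ) : Prop :=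
  ∀ R : Subgroup Ω, R ≤ S → d ≤ Nat.card R →
    ∀ b ∈ F.autGroup R, (orderOf b).Coprime p → b = 1

theorem stronglyClosed_inf_self {P Q : Subgroup Ω} (hP : F.StronglyClosed P)
    (hQ : F.StronglyClosed Q) : F.StronglyClosed (P ⊓ Q) :=
  ⟨inf_le_left.trans hP.1, fun R hR φ hφ x =>
    ⟨hP.2 R (hR.trans inf_le_left) φ hφ x, hQ.2 R (hR.trans inf_le_right) φ hφ x⟩⟩

/-- The modular law for a product with a strongly closed subgroup. -/
theorem mem_of_mem_sup_inf {Q P N : Subgroup Ω} (hP : F.StronglyClosed P) (hQ : Q ≤ S)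
    (hQN : Q ≤ N) (h : P ⊓ N ≤ Q) : (Q ⊔ P) ⊓ N = Q := by
  refine le_antisymm (fun x hx => ?_) (le_inf le_sup_left hQN)
  have h1 : x ∈ (↑(Q ⊔ P) : Set Ω) := hx.1
  rw [Subgroup.coe_mul_of_left_le_normalizer_right Q P
    (hQ.trans (StronglyClosed.normal_in hP))] at h1
  obtain ⟨q, hq, m, hm, rfl⟩ := h1
  refine mul_mem hq (h ⟨hm, ?_⟩)
  have h2 := mul_mem (inv_mem (hQN hq)) hx.2
  rwa [inv_mul_cancel_left] at h2

theorem exists_between [Fact p.Prime] {A B : Subgroup Ω} [Finite B] {a b k : ℕ} (hAB : A ≤ B)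
    (hA : Nat.card A = p ^ a) (hB : Nat.card B = p ^ b) (hak : a ≤ k) (hkb : k ≤ b) :
    ∃ Q : Subgroup Ω, A ≤ Q ∧ Q ≤ B ∧ Nat.card Q = p ^ k := by
  obtain ⟨K, hK, hAK⟩ := Sylow.exists_subgroup_card_pow_prime_le p
    (by rw [hB]; exact pow_dvd_pow p hkb) (A.subgroupOf B)
    (by rw [Nat.card_congr (Subgroup.subgroupOfEquivOfLe hAB).toEquiv, hA]) hak
  refine ⟨K.map B.subtype, ?_, Subgroup.map_subtype_le _, ?_⟩
  · intro x hx
    exact ⟨⟨x, hAB hx⟩, hAK hx, rfl⟩
  · rw [Subgroup.card_map_of_injective B.subtype_injective, hK]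

/-- A subgroup normal in `R` and invariant under `b`. -/
def InvIn (R : Subgroup Ω) (b : MulAut R) (N : Subgroup Ω) : Prop :=
  N ≤ R ∧ R ≤ Subgroup.normalizer (N : Set Ω) ∧
    ∀ x : R, (x : Ω) ∈ N → ((b x : R) : Ω) ∈ N

theorem InvIn.inf {R N M : Subgroup Ω} {b : MulAut R} (hN : InvIn R b N)
    (hM : R ≤ Subgroup.normalizer (M : Set Ω))
    (hbM : ∀ x : R, (x : Ω) ∈ M → ((b x : R) : Ω) ∈ M) : InvIn R b (M ⊓ N) :=
  ⟨inf_le_right.trans hN.1, fun r hr => Subgroup.mem_normalizer_iff.2 fun y =>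
    and_congr (Subgroup.mem_normalizer_iff.1 (hM hr) y)
      (Subgroup.mem_normalizer_iff.1 (hN.2.1 hr) y),
    fun x hx => ⟨hbM x hx.1, hN.2.2 x hx.2⟩⟩

theorem InvIn.sup {R N M : Subgroup Ω} {b : MulAut R} (hN : InvIn R b N) (hM : InvIn R b M) :
    InvIn R b (N ⊔ M) := by
  refine ⟨sup_le hN.1 hM.1, fun r hr => ?_, fun x hx => ?_⟩
  · rw [Subgroup.mem_normalizer_iff_map_conj_eq, Subgroup.map_sup,
      Subgroup.mem_normalizer_iff_map_conj_eq.1 (hN.2.1 hr),
      Subgroup.mem_normalizer_iff_map_conj_eq.1 (hM.2.1 hr)]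
  · have h1 : x ∈ N.subgroupOf R ⊔ M.subgroupOf R := by
      rw [← Subgroup.subgroupOf_sup hN.1 hM.1]; exact hx
    have h2 : b x ∈ (N.subgroupOf R ⊔ M.subgroupOf R).map b.toMonoidHom := ⟨x, h1, rfl⟩
    rw [Subgroup.map_sup] at h2
    refine (show (N.subgroupOf R).map b.toMonoidHom ⊔ (M.subgroupOf R).map b.toMonoidHom ≤
      (N ⊔ M).subgroupOf R from sup_le ?_ ?_) h2
    · rintro _ ⟨y, hy, rfl⟩; exact Subgroup.mem_sup_left (hN.2.2 y hy)
    · rintro _ ⟨y, hy, rfl⟩; exact Subgroup.mem_sup_right (hM.2.2 y hy)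

/-- An automorphism of a subgroup of order at least `d` fixes a normal subgroup of order `d`. -/
theorem exists_invariant_of_order [Fact p.Prime] [Finite S] (hS : IsPGroup p S) {k : ℕ}
    (hW : WeaklyEmbeddedAt F (p ^ k)) {R : Subgroup Ω} (hR : R ≤ S) (hcard : p ^ k ≤ Nat.card R)
    {b : MulAut R} (hb : b ∈ F.autGroup R) :
    ∃ H : Subgroup Ω, InvIn R b H ∧ Nat.card H = p ^ k := by
  classical
  have hp : p.Prime := Fact.out
  have := finite_le hR
  have hbh := (mem_autGroup_iff hR).1 hb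
  have hfin : ∀ {N : Subgroup Ω}, N ≤ R → Finite N := fun hN =>
    Finite.of_injective _ (Subgroup.inclusion_injective hN)
  have hfinset : ∀ q : Subgroup Ω → Prop, {N | InvIn R b N ∧ q N}.Finite := fun q =>
    (Set.finite_range fun T : Subgroup R => T.map R.subtype).subset fun N hN =>
      ⟨N.subgroupOf R, Subgroup.map_subgroupOf_eq_of_le hN.1.1⟩
  have hRI : InvIn R b R := ⟨le_rfl, Subgroup.le_normalizer, fun x _ => (b x).2⟩
  obtain ⟨N₂, ⟨hN₂, hN₂c⟩, hmin⟩ := (hfinset fun N => p ^ k ≤ Nat.card N).exists_minimal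
    ⟨R, hRI, hcard⟩
  obtain ⟨N₁, ⟨hN₁, hN₁le, hN₁c⟩, hmax⟩ :=
    (hfinset fun N => N ≤ N₂ ∧ Nat.card N ≤ p ^ k).exists_maximal
      ⟨⊥, ⟨bot_le, fun r _ => Subgroup.mem_normalizer_iff.2 fun y => by simp,
        fun x hx => by
          rw [Subgroup.mem_bot] at hx ⊢
          rw [show x = 1 from Subtype.ext hx, map_one]; rfl⟩, bot_le,
        by rw [Subgroup.card_bot]; exact Nat.one_le_pow _ _ hp.pos⟩
  have := hfin hN₂.1
  have := hfin hN₁.1
  obtain ⟨a, ha⟩ := IsPGroup.iff_card.1 (hS.to_le (hN₁.1.trans hR))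
  obtain ⟨c, hc⟩ := IsPGroup.iff_card.1 (hS.to_le (hN₂.1.trans hR))
  obtain ⟨Q, hN₁Q, hQN₂, hQc⟩ := exists_between (A := N₁) (B := N₂) hN₁le ha hc
    ((Nat.pow_le_pow_iff_right hp.one_lt).1 (ha ▸ hN₁c))
    ((Nat.pow_le_pow_iff_right hp.one_lt).1 (hc ▸ hN₂c))
  have hQS : Q ≤ S := hQN₂.trans (hN₂.1.trans hR)
  obtain ⟨P, hP, hsup, hinf⟩ := hW Q hQS hQc
  have hsc : ∀ {T : Subgroup Ω}, F.StronglyClosed T → InvIn R b (T ⊓ N₂) := fun hT =>
    hN₂.inf (hR.trans (StronglyClosed.normal_in hT))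
      fun x hx => StronglyClosed.apply_mem hT hbh hx
  set J := N₁ ⊔ P ⊓ N₂ with hJ
  have hJI : InvIn R b J := hN₁.sup (hsc hP)
  have hJle : J ≤ N₂ := sup_le hN₁le inf_le_right
  refine ⟨Q, ?_, hQc⟩
  rcases le_total (Nat.card J) (p ^ k) with h | h
  · have hMQ : P ⊓ N₂ ≤ Q :=
      le_sup_right.trans ((hmax ⟨hJI, hJle, h⟩ le_sup_left).trans hN₁Q)
    rw [← mem_of_mem_sup_inf hP hQS hQN₂ hMQ]
    exact hsc hsup
  · have hJN : N₂ ≤ J := hmin ⟨hJI, h⟩ hJle
    have hQeq : Q = N₁ ⊔ (Q ⊓ P) ⊓ N₂ := by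
      refine le_antisymm (fun x hx => ?_) (sup_le hN₁Q (inf_le_left.trans inf_le_left))
      have h1 : x ∈ (↑(N₁ ⊔ P ⊓ N₂) : Set Ω) := hJN (hQN₂ hx)
      rw [Subgroup.coe_mul_of_left_le_normalizer_right N₁ (P ⊓ N₂)
        (hN₁.1.trans (hsc hP).2.1)] at h1
      obtain ⟨n, hn, m, hm, rfl⟩ := h1
      refine mul_mem (Subgroup.mem_sup_left hn) (Subgroup.mem_sup_right ⟨⟨?_, hm.1⟩, hm.2⟩)
      have h2 := mul_mem (inv_mem (hN₁Q hn)) hx
      rwa [inv_mul_cancel_left] at h2
    rw [hQeq]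
    exact hN₁.sup (hsc hinf)

/-- The normalizer condition makes the large subgroups free of automorphisms prime to `p`. -/
theorem trivialAbove_of_normalizers [Fact p.Prime] [Finite S] (hS : IsPGroup p S)
    (hF : F.IsSaturated p) {k : ℕ} (hW : WeaklyEmbeddedAt F (p ^ k))
    (hN : ∀ H : Subgroup Ω, F.IsFullyNormalized H → Nat.card H = p ^ k →
      ∀ N : FusionSystem (normalizerIn S H), F.IsNormalizerSystem H N →
        ∀ P : Subgroup Ω, N.Hom P = (innerFusionSystem (normalizerIn S H)).Hom P) :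
    TrivialAbove F p (p ^ k) := by
  intro R hR hcard b hb hc
  by_contra hne
  obtain ⟨H, hH, hHc⟩ := exists_invariant_of_order hS hW hR hcard hb
  have hHS : H ≤ S := hH.1.trans hR
  obtain ⟨H', hHH', h₁, h₂, hn⟩ := IsSaturated.exists_rep hS hF hHS
  obtain ⟨f, hf, hfm, hfH⟩ := exists_normalizer_map hS h₁ h₂ hHH'
  exact exists_bad_of_transport hf hfm hfH hH.1 (le_inf hR hH.2.1) hb hc hne hH.2.2
    (locTriv_of_inner_normalizer hS hn.1
      (hN H' hn ((isConj_card hHH').symm.trans hHc)))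

theorem card_preimage_mul [Finite S] {Ω' : Type*} [Group Ω'] {θ : S →* Ω'} {T : Subgroup Ω}
    (hTS : T ≤ S) (hθ : ∀ s : S, θ s = 1 ↔ (s : Ω) ∈ T) {Y : Subgroup Ω'} (hY : Y ≤ θ.range) :
    Nat.card (preimageAlong θ Y) = Nat.card Y * Nat.card T := by
  rw [show Nat.card (preimageAlong θ Y) = Nat.card (Y.comap θ) from
    Subgroup.card_map_of_injective S.subtype_injective]
  have hk : θ.ker = T.subgroupOf S := SetLike.ext fun s => hθ s
  let g : Y.comap θ →* Y := θ.subgroupComap Y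
  have hg : Function.Surjective g := fun y => by
    obtain ⟨s, hs⟩ := hY y.2
    exact ⟨⟨s, show θ s ∈ Y from hs ▸ y.2⟩, Subtype.ext hs⟩
  rw [← g.ker.card_mul_index, Subgroup.index_ker, MonoidHom.range_eq_top.2 hg, Subgroup.card_top,
    mul_comm]
  congr 1
  rw [← Nat.card_congr (Subgroup.subgroupOfEquivOfLe hTS).toEquiv, ← hk]
  refine Nat.card_congr
    { toFun := fun x => ⟨x.1.1, congrArg Subtype.val (MonoidHom.mem_ker.1 x.2)⟩
      invFun := fun x => ⟨⟨x.1, show θ x.1 ∈ Y by rw [MonoidHom.mem_ker.1 x.2]; exact one_mem Y⟩,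
        Subtype.ext (MonoidHom.mem_ker.1 x.2)⟩
      left_inv := fun x => rfl
      right_inv := fun x => rfl }

theorem imageAlong_mono_sup {Ω' : Type*} [Group Ω'] (θ : S →* Ω') {A B : Subgroup Ω} (hA : A ≤ S)
    (hB : B ≤ S) : imageAlong θ (A ⊔ B) = imageAlong θ A ⊔ imageAlong θ B := by
  unfold imageAlong
  rw [Subgroup.subgroupOf_sup hA hB, Subgroup.map_sup]

end

section

variable {p : ℕ}

theorem inner_of_weaklyEmbedded [Fact p.Prime] : ∀ (n : ℕ) {Ω : Type u} [Group Ω]
    {S : Subgroup Ω} [Finite S] {F : FusionSystem S}, Nat.card S = n → IsPGroup p S →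
    F.IsSaturated p → ∀ k : ℕ, 1 ≤ k → p ^ k < Nat.card S → WeaklyEmbeddedAt F (p ^ k) →
    TrivialAbove F p (p ^ k) → F = innerFusionSystem S := by
  classical
  intro n
  induction n using Nat.strong_induction_on with
  | _ n ih =>
  intro Ω _ S _ F hn hS hF k hk hkS hW hA
  have hp : p.Prime := Fact.out
  have hd1 : 1 < p ^ k := Nat.one_lt_pow (by omega) hp.one_lt
  -- minimal strongly closed subgroups
  have hfin : {T : Subgroup Ω | F.StronglyClosed T ∧ T ≠ ⊥}.Finite :=
    finite_setOf_le.subset fun T hT => hT.1.1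
  have hsmall : ∀ L, Minimal (fun T => T ∈ {T : Subgroup Ω | F.StronglyClosed T ∧ T ≠ ⊥}) L →
      Nat.card L ≤ p ^ k := by
    rintro L ⟨⟨hL, hL1⟩, hmin⟩
    by_contra hlt
    have := finite_le hL.1
    obtain ⟨l, hl⟩ := IsPGroup.iff_card.1 (hS.to_le hL.1)
    obtain ⟨Q, -, hQL, hQc⟩ := exists_between (p := p) (A := ⊥) (B := L) (a := 0) (k := k) bot_le
      (by simp) hl (Nat.zero_le _)
      ((Nat.pow_le_pow_iff_right hp.one_lt).1 (by omega))
    obtain ⟨P, hP, hsup, hinf⟩ := hW Q (hQL.trans hL.1) hQc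
    have hQne : Q ≠ ⊥ := fun h => by rw [h, Subgroup.card_bot] at hQc; omega
    have hlt' : ¬ L ≤ Q := fun h => by
      have := finite_le (hQL.trans hL.1)
      have := Subgroup.card_le_of_le h
      omega
    have h1 : Q ⊓ P = ⊥ := by
      by_contra h
      exact hlt' ((hmin ⟨hinf, h⟩ (inf_le_left.trans hQL)).trans inf_le_left)
    have h2 : P ⊓ L = ⊥ := by
      by_contra h
      have hLP : L ≤ P := (hmin ⟨stronglyClosed_inf_self hP hL, h⟩ inf_le_right).trans inf_le_left
      rw [inf_eq_left.2 (hQL.trans hLP)] at h1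
      exact hQne h1
    have h3 := stronglyClosed_inf_self hsup hL
    rw [mem_of_mem_sup_inf hP (hQL.trans hL.1) hQL (h2 ▸ bot_le)] at h3
    exact hlt' (hmin ⟨h3, hQne⟩ hQL)
  have hmod : ∀ L, Minimal (fun T => T ∈ {T : Subgroup Ω | F.StronglyClosed T ∧ T ≠ ⊥}) L →
      ∀ R : Subgroup Ω, R ≤ S → ∀ b ∈ F.autGroup R, (orderOf b).Coprime p →
        ∀ x : R, (x : Ω)⁻¹ * (b x : Ω) ∈ L := by
    intro L hLm R hR b hb hc x
    obtain ⟨⟨hL, hL1⟩, hmin⟩ := hLm
    have := finite_le hL.1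
    obtain ⟨l, hl⟩ := IsPGroup.iff_card.1 (hS.to_le hL.1)
    have hlk : l ≤ k := (Nat.pow_le_pow_iff_right hp.one_lt).1 (hl ▸ hsmall L ⟨⟨hL, hL1⟩, hmin⟩)
    have hl1 : 1 ≤ l := by
      rcases Nat.eq_zero_or_pos l with rfl | h
      · exact absurd (Subgroup.eq_bot_of_card_eq _ (by rw [hl, pow_zero])) hL1
      · exact h
    obtain ⟨Ω', _, θ, S', E, _, hS', hE, hEsat, hlt⟩ := exists_factor_quotient hS hF hL
    obtain ⟨hTS, hθ, hrange, hiff⟩ := id hE
    have hcS : Nat.card S = Nat.card S' * Nat.card L := by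
      rw [← card_preimage_mul hTS hθ hrange.ge]
      refine congrArg (fun U : Subgroup Ω => Nat.card U) (le_antisymm (fun s hs => ?_)
        (preimageAlong_le θ S'))
      exact (mem_preimageAlong (x := ⟨s, hs⟩)).2 (hrange ▸ ⟨_, rfl⟩)
    have hA' : TrivialAbove E p (p ^ (k - l)) := by
      intro R' hR' hR'c b' hb' hc'
      refine locTriv_factor hE (Y' := R') ?_ R' le_rfl (le_normalizerIn hR') b' hb' hc'
        fun y hy => (b' y).2
      intro R₀ hYR hR₀ b₀ hb₀ hc₀ _
      refine hA R₀ (hR₀.trans (normalizerIn_le _)) ?_ b₀ hb₀ hc₀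
      have := finite_le (hR₀.trans (normalizerIn_le _))
      refine le_trans ?_ (Subgroup.card_le_of_le hYR)
      rw [card_preimage_mul hTS hθ (hR'.trans hrange.ge), hl,
        ← Nat.sub_add_cancel hlk, pow_add]
      exact Nat.mul_le_mul_right _ hR'c
    have hinn : E = innerFusionSystem S' := by
      rcases hlk.eq_or_lt with rfl | hlk'
      · refine eq_inner_of_coprime_trivial hS' hEsat fun R' hR' b' hb' hc' =>
          hA' R' hR' ?_ b' hb' hc'
        rw [Nat.sub_self, pow_zero]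
        have := finite_le hR'
        exact Nat.card_pos (α := R')
      · refine ih _ (hn ▸ hlt hL1) rfl hS' hEsat (k - l) (by omega) ?_ ?_ hA'
        · refine Nat.lt_of_mul_lt_mul_right (a := p ^ l) ?_
          rw [← pow_add, Nat.sub_add_cancel hlk, ← hl, ← hcS]
          exact hkS
        · intro Q' hQ' hQ'c
          set Q := preimageAlong θ Q' with hQ
          have hQS : Q ≤ S := preimageAlong_le θ Q'
          have hQc : Nat.card Q = p ^ k := by
            rw [card_preimage_mul hTS hθ (hQ'.trans hrange.ge), hQ'c, hl, ← pow_add,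
              Nat.sub_add_cancel hlk]
          obtain ⟨P, hP, hsup, hinf⟩ := hW Q hQS hQc
          have himQ : imageAlong θ Q = Q' := imageAlong_preimageAlong (hQ'.trans hrange.ge)
          refine ⟨imageAlong θ P, stronglyClosed_imageAlong hE hL hP, ?_, ?_⟩
          · rw [← himQ, ← imageAlong_mono_sup θ hQS hP.1]
            exact stronglyClosed_imageAlong hE hL hsup
          · convert stronglyClosed_imageAlong hE hL hinf using 1
            refine le_antisymm ?_ ?_
            · rintro _ ⟨hy, ⟨s, hs, rfl⟩⟩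
              exact ⟨s, ⟨(mem_preimageAlong (x := s)).2 hy, hs⟩, rfl⟩
            · rintro _ ⟨s, hs, rfl⟩
              exact ⟨(mem_preimageAlong (x := s)).1 hs.1, ⟨s, hs.2, rfl⟩⟩
    subst hinn
    have hbh := (mem_autGroup_iff hR).1 hb
    obtain ⟨φ', hφ', hP, hφS, hm, hv⟩ :=
      (factor_isSurjectiveMorphism hS hF hL hE).1.2 R _ hbh
    obtain ⟨-, g', hg', hgv⟩ := hφ'
    obtain ⟨s, rfl⟩ := hrange.ge hg'
    obtain ⟨j, hj⟩ := hS s
    have h := eq_of_conj_on (fun x : R => θ ⟨x, hR x.2⟩) (s := Set.univ) (fun _ _ => trivial) hc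
      (show θ s ^ p ^ j = 1 by rw [← map_pow, hj, map_one])
      (fun y _ => (hv y).symm.trans (hgv _)) x trivial
    have h1 : θ ((⟨x, hR x.2⟩ : S)⁻¹ * ⟨(b x : R), hR (b x).2⟩) = 1 := by
      rw [map_mul, map_inv, inv_mul_eq_one]
      exact h.symm
    exact (hθ _).1 h1
  have hSne : S ≠ ⊥ := fun h => by
    rw [h, Subgroup.card_bot] at hkS
    omega
  obtain ⟨L, hLm⟩ := hfin.exists_minimal ⟨S, stronglyClosed_top, hSne⟩
  obtain ⟨⟨hL, hL1⟩, hmin⟩ := id hLm
  -- every nontrivial strongly closed subgroup contains the least one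
  by_cases hu : ∀ T, F.StronglyClosed T → T ≠ ⊥ → L ≤ T
  swap
  · push Not at hu
    obtain ⟨T, hT, hT1, hLT⟩ := hu
    obtain ⟨L', hL'T, hL'm⟩ := hfin.exists_le_minimal ⟨hT, hT1⟩
    have hdis : L ⊓ L' = ⊥ := by
      by_contra h
      exact hLT ((hmin ⟨stronglyClosed_inf_self hL hL'm.1.1, h⟩ inf_le_left).trans
        (inf_le_right.trans hL'T))
    refine eq_inner_of_coprime_trivial hS hF fun R hR b hb hc => MulEquiv.ext fun x => ?_
    have h1 : (x : Ω)⁻¹ * (b x : Ω) ∈ L ⊓ L' :=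
      ⟨hmod L hLm R hR b hb hc x, hmod L' hL'm R hR b hb hc x⟩
    rw [hdis, Subgroup.mem_bot, inv_mul_eq_one] at h1
    exact Subtype.ext h1.symm
  by_cases hΦ : L ≤ (frattini S).map S.subtype
  · have hT : F.hyperfocalSubgroup p ≤ ⊥ := by
      refine hyperfocal_le_of_sup_frattini hS hF bot_le (fun s _ y hy => by
        rw [Subgroup.mem_bot] at hy ⊢
        simp [hy]) ?_
      rw [bot_sup_eq]
      refine le_trans ?_ le_sup_right
      exact (hyperfocal_le_of_coprime fun R α hR hα hc x =>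
        hΦ (hmod L hLm R hR α hα hc x))
    refine eq_inner_of_coprime_trivial hS hF fun R hR b hb hc => MulEquiv.ext fun x => ?_
    have h1 := hT (mem_hyperfocal_of_coprime hR hb hc x)
    rw [Subgroup.mem_bot, inv_mul_eq_one] at h1
    exact Subtype.ext h1.symm
  obtain ⟨M₀, hM₀, hLM⟩ : ∃ M₀ : Subgroup S, IsCoatom M₀ ∧ ¬ L.subgroupOf S ≤ M₀ := by
    by_contra h
    push Not at h
    refine hΦ fun x hx => ⟨⟨x, hL.1 hx⟩, ?_, rfl⟩
    show (⟨x, hL.1 hx⟩ : S) ∈ Order.radical (Subgroup S)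
    rw [Order.radical, Subgroup.mem_iInf]
    intro M
    rw [Subgroup.mem_iInf]
    exact fun hM => h M hM hx
  set M := M₀.map S.subtype with hM
  have hMS : M ≤ S := Subgroup.map_subtype_le _
  have hLM' : ¬ L ≤ M := fun h => hLM fun x hx => by
    obtain ⟨y, hy, hyx⟩ := h hx
    exact Subtype.ext hyx ▸ hy
  have := finite_le hMS
  have := finite_le hL.1
  have hM₀n : M₀.Normal := PGroups.normal_of_isCoatom' hS hM₀
  have hMi : M₀.index = p := PGroups.index_of_isCoatom hS hM₀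
  obtain ⟨s, hs⟩ := IsPGroup.iff_card.1 hS
  obtain ⟨m, hmc⟩ := IsPGroup.iff_card.1 (hS.to_le hMS)
  have hms : s = m + 1 := by
    have h := M₀.card_mul_index
    rw [hMi, ← Subgroup.card_map_of_injective S.subtype_injective, ← hM, hmc, hs, ← pow_succ] at h
    exact (Nat.pow_right_injective hp.two_le h).symm
  have hkm : k ≤ m := by
    have := (Nat.pow_lt_pow_iff_right hp.one_lt).1 (hs ▸ hkS)
    omega
  by_cases hLMb : L ⊓ M = ⊥
  · -- the least strongly closed subgroup has order `p` and is central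
    have hdisj : Function.Injective fun x : L =>
        (QuotientGroup.mk (⟨x, hL.1 x.2⟩ : S) : S ⧸ M₀) := by
      intro x y hxy
      have h1 : (⟨x, hL.1 x.2⟩ : S)⁻¹ * ⟨y, hL.1 y.2⟩ ∈ M₀ := QuotientGroup.eq.1 hxy
      have h2 : (x : Ω)⁻¹ * y ∈ L ⊓ M := ⟨L.mul_mem (L.inv_mem x.2) y.2, ⟨_, h1, rfl⟩⟩
      rw [hLMb, Subgroup.mem_bot, inv_mul_eq_one] at h2
      exact Subtype.ext h2
    have hLp : Nat.card L = p := by
      obtain ⟨l, hl⟩ := IsPGroup.iff_card.1 (hS.to_le hL.1)
      have h := Nat.card_le_card_of_injective _ hdisj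
      rw [← Subgroup.index_eq_card, hMi, hl] at h
      rcases l with _ | _ | l
      · exact absurd (Subgroup.eq_bot_of_card_eq _ (by rw [hl, pow_zero])) hL1
      · rw [hl, pow_one]
      · have : p ^ 2 ≤ p ^ (l + 2) := Nat.pow_le_pow_right hp.pos (by omega)
        nlinarith [hp.two_le]
    have hLn : (L.subgroupOf S).Normal :=
      (Subgroup.normal_subgroupOf_iff_le_normalizer hL.1).2 (StronglyClosed.normal_in hL)
    have hcL : S ≤ centralizerIn S L := by
      intro g hg
      refine mem_centralizerIn.2 ⟨hg, fun x hx => ?_⟩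
      have hne := PGroups.inf_center_ne_bot hS (N := L.subgroupOf S) fun h => hL1 (by
        have := Subgroup.subgroupOf_eq_bot.1 h
        rwa [disjoint_iff, inf_eq_left.2 hL.1] at this)
      have hcard : Nat.card (L.subgroupOf S) = p :=
        (Nat.card_congr (Subgroup.subgroupOfEquivOfLe hL.1).toEquiv).trans hLp
      have heq : L.subgroupOf S ⊓ Subgroup.center S = L.subgroupOf S := by
        refine Subgroup.eq_of_le_of_card_ge inf_le_left ?_
        rcases (Nat.dvd_prime hp).1 (hcard ▸ Subgroup.card_dvd_of_le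
          (inf_le_left : L.subgroupOf S ⊓ Subgroup.center S ≤ L.subgroupOf S)) with h | h
        · exact absurd (Subgroup.eq_bot_of_card_eq _ h) hne
        · rw [h, hcard]
      exact congrArg Subtype.val (Subgroup.mem_center_iff.1
        (heq.ge (show (⟨x, hL.1 hx⟩ : S) ∈ L.subgroupOf S from hx)).2 ⟨g, hg⟩).symm
    have hab : IsMulCommutative L := ⟨⟨fun a c => Subtype.ext
      ((mem_centralizerIn.1 (hcL (hL.1 c.2))).2 a a.2)⟩⟩
    refine eq_inner_over hS hF (isNormal_of_stronglyClosed_abelian hS hF hL hab)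
      fun R hLR hR b hb hc => ?_
    refine eq_one_of_fix_mod (Q := L) hS hR hc ?_ (hmod L hLm R hR b hb hc)
    -- the restriction to `L` extends to `S`
    have hbh := (mem_autGroup_iff hR).1 hb
    have hfn : F.IsFullyNormalized L := ⟨hL.1, fun Q hQ => by
      obtain ⟨φ, hφ, rfl⟩ := hQ
      exact (Subgroup.card_le_of_le (normalizerIn_le _)).trans (Nat.card_congr
        (MulEquiv.subgroupCongr (le_antisymm (le_inf le_rfl (StronglyClosed.normal_in hL))
          inf_le_left)).toEquiv).le⟩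
    have hrec := IsSaturated.receptive hS hF (IsSaturated.fullyCentralized hS hF hfn)
    have hrange : (R.subtype.comp b.toMonoidHom |>.comp (Subgroup.inclusion hLR)).range = L := by
      refine Subgroup.eq_of_le_of_card_ge ?_ ?_
      · rintro _ ⟨y, rfl⟩
        exact StronglyClosed.apply_mem hL hbh (x := Subgroup.inclusion hLR y) y.2
      · exact le_of_eq (Nat.card_congr (MonoidHom.ofInjective
          (F.injective_of_mem (restrict_mem hbh hLR))).toEquiv)
    obtain ⟨ψ, hψ, hag⟩ := hrec.2 L _ (restrict_mem hbh hLR) hrange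
    have hSext : S ≤ extender S L (R.subtype.comp b.toMonoidHom |>.comp (Subgroup.inclusion hLR)) :=
      hcL.trans centralizerIn_le_extender
    obtain ⟨a, ha, hav⟩ : ∃ a ∈ F.autGroup S, ∀ (x : S) (hx : (x : Ω) ∈ L),
        ((a x : S) : Ω) = (b ⟨x, hLR hx⟩ : R) := by
      have h1 := restrict_mem hψ hSext
      obtain ⟨e, he, hev⟩ := exists_iso h1 (hom_range_eq_self h1)
      refine ⟨e, (mem_autGroup_iff_isoIn le_rfl).2 he, fun x hx => ?_⟩
      rw [hev]
      exact hag x hx (hSext x.2)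
    have hpow : ∀ (i : ℕ) (x : S) (hx : (x : Ω) ∈ L),
        (((a ^ i) x : S) : Ω) = ((b ^ i) ⟨x, hLR hx⟩ : R) := by
      intro i
      induction i with
      | zero => intro x hx; simp
      | succ i ih =>
        intro x hx
        rw [pow_succ', pow_succ', MulAut.mul_apply, MulAut.mul_apply]
        have h2 : ∀ (j : ℕ) (y : R), (y : Ω) ∈ L → (((b ^ j) y : R) : Ω) ∈ L := by
          intro j
          induction j with
          | zero => intro y hy; simpa using hy
          | succ j ihj =>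
            intro y hy
            rw [pow_succ', MulAut.mul_apply]
            exact StronglyClosed.apply_mem hL hbh (ihj y hy)
        have h3 : (((a ^ i) x : S) : Ω) ∈ L := (ih x hx).symm ▸ h2 i _ hx
        rw [hav _ h3]
        exact congrArg (fun y : R => ((b y : R) : Ω)) (Subtype.ext (ih x hx))
    have := finite_mulAut_of_le (S := S) le_rfl
    obtain ⟨j, hj, hjc⟩ := exists_coprime_pow a (orderOf_pos a) hc
    have h1 : a ^ j = 1 := hA S le_rfl hkS.le _ (pow_mem ha j) hjc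
    have hbj : b ^ j = b := hj b (pow_orderOf_eq_one b)
    intro x hx
    have h2 := hpow j ⟨x, hR x.2⟩ hx
    rw [h1, hbj] at h2
    exact (Subtype.ext h2).symm
  · -- a subgroup of order `p ^ k` meeting `L` in `L ⊓ M`
    have := finite_le ((inf_le_left : L ⊓ M ≤ L).trans hL.1)
    obtain ⟨l, hl⟩ := IsPGroup.iff_card.1 (hS.to_le ((inf_le_left : L ⊓ M ≤ L).trans hL.1))
    have hlk : l ≤ k := (Nat.pow_le_pow_iff_right hp.one_lt).1
      (hl ▸ (Subgroup.card_le_of_le (inf_le_left : L ⊓ M ≤ L)).trans (hsmall L hLm))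
    obtain ⟨Q, hAQ, hQM, hQc⟩ := exists_between (A := L ⊓ M) inf_le_right hl hmc hlk hkm
    obtain ⟨P, hP, hsup, hinf⟩ := hW Q (hQM.trans hMS) hQc
    by_cases hP1 : P = ⊥
    · subst hP1
      rw [sup_bot_eq] at hsup
      have h1 : L ≤ Q := hu Q hsup fun h => hLMb (le_bot_iff.1 (h ▸ hAQ))
      exact absurd (h1.trans hQM) hLM'
    · have h1 : L ≤ P := hu P hP hP1
      have h2 : L ≤ Q ⊓ P := hu _ hinf fun h => hLMb (le_bot_iff.1
        (h ▸ le_inf hAQ (inf_le_left.trans h1)))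
      exact absurd ((h2.trans inf_le_left).trans hQM) hLM'

end

section

variable {Ω : Type u} [Group Ω] {S : Subgroup Ω} {F : FusionSystem S} {p : ℕ}

theorem conj_mem_commutator_left {Q : Subgroup Ω} (hQ : Q ≤ S) :
    S ≤ Subgroup.normalizer ((⁅Q, S⁆ : Subgroup Ω) : Set Ω) := by
  have key : ∀ s ∈ S, ∀ y ∈ ⁅Q, S⁆, s * y * s⁻¹ ∈ ⁅Q, S⁆ := by
    intro s hs y hy
    rw [Subgroup.commutator_def] at hy
    induction hy using Subgroup.closure_induction with
    | mem y hy =>
      obtain ⟨q, hq, t, ht, rfl⟩ := hy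
      rw [show s * ⁅q, t⁆ * s⁻¹ = ⁅q, s⁆⁻¹ * ⁅q, s * t⁆ by
        rw [commutatorElement_def, commutatorElement_def, commutatorElement_def]; group]
      exact mul_mem (inv_mem (Subgroup.commutator_mem_commutator hq hs))
        (Subgroup.commutator_mem_commutator hq (mul_mem hs ht))
    | one => simp
    | mul a c _ _ ha hc => rw [← conj_mul]; exact mul_mem ha hc
    | inv a _ ha => rw [← conj_inv]; exact inv_mem ha
  intro s hs
  refine Subgroup.mem_normalizer_iff.2 fun y => ⟨key s hs y, fun hy => ?_⟩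
  have := key s⁻¹ (inv_mem hs) _ hy
  simpa [mul_assoc] using this

/-- In a `p`-group a subgroup of prime order avoids its commutator with the group. -/
theorem inf_commutator_eq_bot [Fact p.Prime] [Finite S] (hS : IsPGroup p S) {Q : Subgroup Ω}
    (hQ : Q ≤ S) (hc : Nat.card Q = p) : Q ⊓ ⁅Q, S⁆ = ⊥ := by
  have hp : p.Prime := Fact.out
  have := finite_le hQ
  rcases (Nat.dvd_prime hp).1 (hc ▸ Subgroup.card_dvd_of_le
    (inf_le_left : Q ⊓ ⁅Q, S⁆ ≤ Q)) with h | h
  · exact Subgroup.eq_bot_of_card_eq _ h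
  · exfalso
    have hle : Q ≤ ⁅Q, S⁆ :=
      (Subgroup.eq_of_le_of_card_ge inf_le_left (by rw [h, hc])).ge.trans inf_le_right
    set K := Q.subgroupOf S with hK
    have hKle : K ≤ ⁅K, (⊤ : Subgroup S)⁆ := by
      intro x hx
      have h1 : (x : Ω) ∈ ⁅K.map S.subtype, (⊤ : Subgroup S).map S.subtype⁆ := by
        rw [← MonoidHom.range_eq_map, Subgroup.range_subtype,
          Subgroup.map_subgroupOf_eq_of_le hQ]
        exact hle hx
      rw [← Subgroup.map_commutator] at h1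
      obtain ⟨y, hy, hyx⟩ := h1
      exact Subtype.ext hyx ▸ hy
    have hall : ∀ i, K ≤ Subgroup.lowerCentralSeries (⊤ : Subgroup S) i := by
      intro i
      induction i with
      | zero => simp
      | succ i ih => exact hKle.trans (Subgroup.commutator_mono ih le_rfl)
    have := hS.isNilpotent
    obtain ⟨i, hi⟩ := Subgroup.nilpotent_iff_lowerCentralSeries.1 (inferInstance : Group.IsNilpotent S)
    have hbot : K = ⊥ := le_bot_iff.1 (hi ▸ hall i)
    have hQb : Q = ⊥ := by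
      have := Subgroup.subgroupOf_eq_bot.1 hbot
      rwa [disjoint_iff, inf_eq_left.2 hQ] at this
    rw [hQb, Subgroup.card_bot] at hc
    exact hp.one_lt.ne hc

theorem inner_iff_weaklyEmbedded [Fact p.Prime] [Finite S] (hS : IsPGroup p S)
    (hF : F.IsSaturated p) (hcard : p ^ 2 ≤ Nat.card S) :
    (∀ P : Subgroup Ω, F.Hom P = (innerFusionSystem S).Hom P) ↔
      ∃ D : Subgroup Ω, ⊥ < D ∧ D < S ∧
        (∀ Q : Subgroup Ω, Q ≤ S → Nat.card Q = Nat.card D →
          ∃ P : Subgroup Ω, F.StronglyClosed P ∧ F.StronglyClosed (Q ⊔ P) ∧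
            F.StronglyClosed (Q ⊓ P)) ∧
        (∀ H : Subgroup Ω, F.IsFullyNormalized H → Nat.card H = Nat.card D →
          ∀ N : FusionSystem (normalizerIn S H), F.IsNormalizerSystem H N →
            ∀ P : Subgroup Ω, N.Hom P = (innerFusionSystem (normalizerIn S H)).Hom P) := by
  have hp : p.Prime := Fact.out
  obtain ⟨s, hs⟩ := IsPGroup.iff_card.1 hS
  have hs2 : 2 ≤ s := (Nat.pow_le_pow_iff_right hp.one_lt).1 (hs ▸ hcard)
  constructor
  · intro h
    obtain ⟨D, -, hDS, hDc⟩ := exists_between (p := p) (A := ⊥) (B := S) (a := 0) (k := 1) bot_le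
      (by simp) hs (Nat.zero_le _) (by omega)
    rw [pow_one] at hDc
    have hne : D ≠ S := fun e => by
      rw [e, hs] at hDc
      exact absurd (Nat.pow_right_injective hp.two_le (hDc.trans (pow_one p).symm)) (by omega)
    refine ⟨D, bot_lt_iff_ne_bot.2 fun e => ?_, lt_of_le_of_ne hDS hne, fun Q hQS hQc => ?_,
      fun H hH _ N hN P => normalizer_inner_of_inner h hH.1 hN P⟩
    · rw [e, Subgroup.card_bot] at hDc
      exact hp.one_lt.ne hDc
    · set P := ⁅Q, S⁆ with hP
      have hPS : P ≤ S := (Subgroup.commutator_mono hQS le_rfl).trans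
        (Subgroup.commutator_le.2 fun a ha c hc =>
          S.mul_mem (S.mul_mem (S.mul_mem ha hc) (S.inv_mem ha)) (S.inv_mem hc))
      have hPn : S ≤ Subgroup.normalizer (P : Set Ω) := conj_mem_commutator_left hQS
      refine ⟨P, stronglyClosed_of_inner hPS hPn h, ?_, ?_⟩
      · refine stronglyClosed_of_inner (sup_le hQS hPS) (fun g hg => ?_) h
        have key : ∀ g ∈ S, ∀ y ∈ Q ⊔ P, g * y * g⁻¹ ∈ Q ⊔ P := by
          intro g hg y hy
          have hle : (Q ⊔ P).map (MulAut.conj g).toMonoidHom ≤ Q ⊔ P := by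
            rw [Subgroup.map_sup, sup_le_iff]
            refine ⟨?_, ?_⟩
            · rintro _ ⟨x, hx, rfl⟩
              show g * x * g⁻¹ ∈ _
              rw [show g * x * g⁻¹ = ⁅x, g⁆⁻¹ * x by rw [commutatorElement_def]; group]
              exact mul_mem (Subgroup.mem_sup_right (inv_mem
                (Subgroup.commutator_mem_commutator hx hg))) (Subgroup.mem_sup_left hx)
            · rintro _ ⟨x, hx, rfl⟩
              exact Subgroup.mem_sup_right (conj_mem_of_mem_normalizer (hPn hg) hx)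
          exact hle ⟨y, hy, rfl⟩
        refine Subgroup.mem_normalizer_iff.2 fun y => ⟨key g hg y, fun hy => ?_⟩
        have := key g⁻¹ (inv_mem hg) _ hy
        simpa [mul_assoc] using this
      · rw [inf_commutator_eq_bot hS hQS (hQc.trans hDc)]
        exact stronglyClosed_bot
  · rintro ⟨D, hD1, hD2, hW, hN⟩ P
    have := finite_le hD2.le
    obtain ⟨k, hk⟩ := IsPGroup.iff_card.1 (hS.to_le hD2.le)
    have hk1 : 1 ≤ k := by
      rcases Nat.eq_zero_or_pos k with rfl | h
      · exact absurd (Subgroup.eq_bot_of_card_eq _ (by rw [hk, pow_zero])) hD1.ne'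
      · exact h
    have hkS : p ^ k < Nat.card S := by
      rw [← hk]
      exact lt_of_le_of_ne (Subgroup.card_le_of_le hD2.le) fun e =>
        hD2.ne (Subgroup.eq_of_le_of_card_ge hD2.le e.ge)
    rw [hk] at hW hN
    rw [inner_of_weaklyEmbedded _ rfl hS hF k hk1 hkS hW
      (trivialAbove_of_normalizers hS hF hW hN)]

end

end CfsgLib.Fusion
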