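import Cfsg.Agent.Lib.Fusion.Tate
import Cfsg.Agent.Lib.LocalEven.YoshidaWreath

/-!
# Yoshida's theorem for saturated fusion systems

A transfer along a characteristic biset: if `N_F(S)` does not control transfer then `C_p ≀ C_p` is
an image of `S`.
-/

set_option autoImplicit false

namespace CfsgLib.Fusion

open Cfsg Cfsg.FusionSystem MulAction Finset

section Cocycle

variable {H X A : Type*} [Group H] [MulAction H X] [CommGroup A] {f : H → X → A}
  (hf : ∀ g h x, f (g * h) x = f g (h • x) * f h x)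

include hf in
theorem cocycle_one (x : X) : f 1 x = 1 := by
  have h := hf 1 1 x
  rw [one_mul, one_smul] at h
  exact left_eq_mul.1 h

include hf in
theorem cocycle_pow (v : H) (x : X) (l : ℕ) :
    f (v ^ l) x = ∏ i ∈ range l, f v (v ^ i • x) := by
  induction l with
  | zero => simp [cocycle_one hf]
  | succ l ih => rw [pow_succ', hf, ih, prod_range_succ, mul_comm]

theorem prod_invariant_smul [DecidableEq X] {B : Finset X} {v : H} (hB : ∀ x ∈ B, v • x ∈ B)
    (e : X → A) : ∏ x ∈ B, e (v • x) = ∏ x ∈ B, e x := by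
  have him : B.image (v • ·) = B := by
    refine eq_of_subset_of_card_le (image_subset_iff.mpr hB) ?_
    rw [card_image_of_injective _ (MulAction.injective v)]
  conv_rhs => rw [← him, prod_image fun a _ b _ h => MulAction.injective v h]

include hf in
/-- A cocycle product over an invariant set is trivial once the values of all the cycles are. -/
theorem cocycle_eq_one_of_cycles [Finite H] [DecidableEq X] {v : H} :
    ∀ (B : Finset X), (∀ x ∈ B, v • x ∈ B) →
      (∀ x ∈ B, ∀ l : ℕ, v ^ l • x = x → f (v ^ l) x = 1) →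
      ∏ x ∈ B, f v x = 1 := by
  intro B
  induction B using Finset.strongInduction with
  | _ B ih =>
    intro hB hcyc
    obtain rfl | ⟨x, hx⟩ := B.eq_empty_or_nonempty
    · simp
    set l := Function.minimalPeriod (v • ·) x with hl
    have hiter : ∀ i, (v • ·)^[i] x = v ^ i • x := fun i => by rw [smul_iterate]
    have hlx : v ^ l • x = x := by rw [← hiter]; exact Function.iterate_minimalPeriod
    have hper : x ∈ Function.periodicPts (v • · : X → X) :=
      ⟨orderOf v, orderOf_pos v, by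
        show (v • ·)^[orderOf v] x = x
        rw [hiter, pow_orderOf_eq_one, one_smul]⟩
    have hlpos : 0 < l := Function.minimalPeriod_pos_of_mem_periodicPts hper
    set C := (range l).image fun i => v ^ i • x with hC
    have hCB : C ⊆ B := by
      rw [hC, image_subset_iff]
      intro i hi
      clear hi
      induction i with
      | zero => simpa using hx
      | succ i ihi => rw [pow_succ', mul_smul]; exact hB _ ihi
    have hinj : Set.InjOn (fun i => v ^ i • x) (range l : Finset ℕ) := by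
      intro i hi j hj e
      rw [mem_coe, mem_range] at hi hj
      simp only [← hiter] at e
      exact Function.iterate_injOn_Iio_minimalPeriod hi hj e
    have hCinv : ∀ y ∈ C, v • y ∈ C := by
      intro y hy
      obtain ⟨i, hi, rfl⟩ := mem_image.mp hy
      rw [mem_range] at hi
      rw [← mul_smul, ← pow_succ']
      rcases eq_or_lt_of_le (Nat.succ_le_iff.mpr hi) with h | h
      · rw [show i + 1 = l from h, hlx]
        exact mem_image.mpr ⟨0, mem_range.mpr hlpos, by simp⟩
      · exact mem_image.mpr ⟨i + 1, mem_range.mpr h, rfl⟩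
    rw [← prod_sdiff hCB, ih (B \ C) ?_ ?_ fun y hy => hcyc y (mem_sdiff.mp hy).1, one_mul,
      hC, prod_image hinj, ← cocycle_pow hf]
    · exact hcyc x hx l hlx
    · exact sdiff_ssubset hCB ⟨x, mem_image.mpr ⟨0, mem_range.mpr hlpos, by simp⟩⟩
    · intro y hy
      obtain ⟨hy1, hy2⟩ := mem_sdiff.mp hy
      refine mem_sdiff.mpr ⟨hB y hy1, fun hc => hy2 ?_⟩
      have him : C.image (v • ·) = C := by
        refine eq_of_subset_of_card_le (image_subset_iff.mpr hCinv) ?_
        rw [card_image_of_injective _ (MulAction.injective v)]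
      rw [← him, mem_image] at hc
      obtain ⟨y', hy', e⟩ := hc
      exact MulAction.injective v e ▸ hy'

variable {p : ℕ} [Fact p.Prime]

include hf in
/-- A cocycle product over a nontrivial orbit, for a minimal counterexample `a`, is trivial unless
a wreathed quotient exists. -/
theorem cocycle_orbit_eq_one [Finite H] [Fintype X] (hH : IsPGroup p H) (hexp : ∀ a : A, a ^ p = 1)
    (hno : ¬ ∃ (W : Sylow p (Equiv.Perm (Fin (p ^ 2))))
      (g : H →* ↥(W : Subgroup (Equiv.Perm (Fin (p ^ 2))))), Function.Surjective g)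
    (a : H) (hsmall : ∀ (w : H) (x : X), w ∈ Subgroup.zpowers (a ^ p) → w • x = x → f w x = 1)
    (x₀ : X) (hne : stabilizer H x₀ ≠ ⊤) (O : Finset X) (hO : ∀ x, x ∈ O ↔ x ∈ orbit H x₀) :
    ∏ x ∈ O, f a x = 1 := by
  classical
  obtain ⟨M, hM, hstab⟩ := (eq_top_or_exists_le_coatom (stabilizer H x₀)).resolve_left hne
  have : M.Normal := CfsgLib.PGroups.normal_of_isCoatom' hH hM
  have hMi : M.index = p := CfsgLib.PGroups.index_of_isCoatom hH hM
  let B₀ : Finset X := univ.filter fun x => ∃ m ∈ M, m • x₀ = x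
  have hB₀ : ∀ x, x ∈ B₀ ↔ ∃ m ∈ M, m • x₀ = x := fun x => by simp [B₀]
  have hinv : ∀ m ∈ M, ∀ x ∈ B₀, m • x ∈ B₀ := fun m hm x hx => by
    obtain ⟨m', hm', rfl⟩ := (hB₀ x).1 hx
    exact (hB₀ _).2 ⟨m * m', M.mul_mem hm hm', mul_smul m m' x₀⟩
  let θ : M →* A := MonoidHom.mk' (fun m => ∏ y ∈ B₀, f (m : H) y) fun m m' => by
    simp only [Subgroup.coe_mul, hf, prod_mul_distrib]
    rw [prod_invariant_smul (hinv _ m'.2) (fun y => f (m : H) y)]
  have hpM : ∀ h : H, h ^ p ∈ M := fun h => by
    rw [← hMi]; exact Subgroup.pow_index_mem M h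
  by_cases ha : a ∈ M
  · obtain ⟨t, ht⟩ : ∃ t, t ∉ M := by
      by_contra h
      push Not at h
      exact hM.1 ((Subgroup.eq_top_iff' M).2 h)
    rw [CfsgLib.LocalEven.Yoshida.prod_orbit_split M hMi t ht x₀ hstab B₀ hB₀ O hO (fun x => f a x)]
    have hterm : ∀ i, ∏ y ∈ B₀, f a (t ^ i • y) =
        θ ⟨(t ^ i)⁻¹ * a * t ^ i, by simpa using (inferInstance : M.Normal).conj_mem a ha (t ^ i)⁻¹⟩ := by
      intro i
      set m : M := ⟨(t ^ i)⁻¹ * a * t ^ i, by simpa using (inferInstance : M.Normal).conj_mem a ha (t ^ i)⁻¹⟩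
      have key : ∀ y, f a (t ^ i • y) * f (t ^ i) y = f (t ^ i) ((m : H) • y) * f (m : H) y := fun y => by
        rw [← hf, ← hf]
        congr 1
        show a * t ^ i = t ^ i * ((t ^ i)⁻¹ * a * t ^ i)
        group
      have h := prod_congr (s₁ := B₀) rfl fun y _ => key y
      rw [prod_mul_distrib, prod_mul_distrib, prod_invariant_smul (hinv _ m.2) (fun y => f (t ^ i) y),
        mul_comm] at h
      exact mul_left_cancel h
    simp only [hterm]
    obtain ⟨b, hb, hprod⟩ := CfsgLib.LocalEven.Yoshida.prod_conj_eq (p := p) hexp M θ t ⟨a, ha⟩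
    rw [hprod]
    by_contra hne1
    refine hno (CfsgLib.LocalEven.Yoshida.exists_surjective_of_commStep hH M hM a t ha ht
      (hb ▸ b.2) fun hcon => hne1 (MonoidHom.mem_ker.1 (CfsgLib.LocalEven.Yoshida.frattini_le_ker θ hexp ?_)))
    have e : b = ⟨_, hb ▸ b.2⟩ := Subtype.ext hb
    rw [e]
    exact hcon
  · rw [CfsgLib.LocalEven.Yoshida.prod_orbit_split M hMi a ha x₀ hstab B₀ hB₀ O hO (fun x => f a x),
      prod_comm]
    simp only [← cocycle_pow hf]
    exact cocycle_eq_one_of_cycles hf B₀ (hinv _ (hpM a)) fun y _ l hl =>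
      hsmall _ y (Subgroup.pow_mem _ (Subgroup.mem_zpowers _) l) hl

end Cocycle

universe u

variable {Ω : Type u} [Group Ω] {S : Subgroup Ω} {F : FusionSystem S} {p : ℕ} [Fact p.Prime]
  [Finite S]

/-- A map on `S` is a map of the normalizer system of `S`. -/
theorem mem_normalizerHom_self {φ : S →* Ω} (hφ : φ ∈ F.Hom S) : φ ∈ F.normalizerHom S S := by
  have hr : φ.range = S := Subgroup.eq_of_le_of_card_ge (hom_range_le hφ)
    (Nat.card_congr (MonoidHom.ofInjective (F.injective_of_mem hφ)).toEquiv).le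
  have hn : S ≤ normalizerIn S S := le_inf le_rfl Subgroup.le_normalizer
  refine ⟨hφ, hn, fun x => hn (hom_apply_mem hφ x), φ.comp (Subgroup.inclusion (sup_le le_rfl le_rfl)),
    restrict_mem hφ _, fun x => congrArg φ (Subtype.ext rfl), ?_⟩
  ext y
  constructor
  · rintro ⟨z, -, rfl⟩
    exact hom_apply_mem hφ _
  · intro hy
    obtain ⟨z, hz⟩ := hr.ge hy
    exact ⟨⟨z, Subgroup.mem_sup_left z.2⟩, z.2, (congrArg φ (Subtype.ext rfl)).trans hz⟩

/-- A character of exponent `p` killed by the maps on `S` kills the focal subgroup, unless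
`C_p ≀ C_p` is an image of `S`. -/
theorem focal_le_ker_of_no_wreath (hS : IsPGroup p S) (hF : F.IsSaturated p)
    (hno : ¬ ∃ (W : Sylow p (Equiv.Perm (Fin (p ^ 2))))
      (g : ↥S →* ↥(W : Subgroup (Equiv.Perm (Fin (p ^ 2))))), Function.Surjective g)
    {A : Type*} [CommGroup A] (hexp : ∀ a : A, a ^ p = 1) (θ : S →* A)
    (hθ : ∀ (φ : S →* Ω) (hφ : φ ∈ F.Hom S) (x : S), θ ⟨φ x, hom_apply_mem hφ x⟩ = θ x)
    {y : S} (hy : (y : Ω) ∈ F.focalSubgroup) : θ y = 1 := by
  classical
  obtain ⟨X, i, j, hX, n, hn, hpn⟩ := exists_charBiset (F := F) hS hF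
  let _ : MulAction S X := rightAct S X
  have hc : ∀ (g : parkGroup S X) (b : S) (x : X), g • b • x = b • g • x := fun g b x => g.2 b x
  have hfree : ∀ (b : S) (x : X), b • x = x → b = 1 := fun b x h => hX.right_free b x h
  have : Fintype (orbitRel.Quotient S X) := Fintype.ofFinite _
  have hcard : Nat.card (orbitRel.Quotient S X) = n :=
    Nat.eq_of_mul_eq_mul_left Nat.card_pos ((card_eq_card_mul_orbits hfree).symm.trans hn)
  set hθ' : ∀ (g : parkGroup S X) (b : S) (x : X),
      g • b • x = (1 : parkGroup S X →* MulAut S) g b • g • x := hc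
  let s : orbitRel.Quotient S X → X := Quotient.out
  have hs : ∀ o, Quotient.mk'' (s o) = o := fun o => o.out_eq'
  let τ := FreeTransfer.transferHom (G := parkGroup S X) hfree s hs θ hc
  let actO : MulAction S (orbitRel.Quotient S X) :=
    { smul := fun a o => FreeTransfer.orbMap hθ' (parkEmb S X a) o
      one_smul := fun o => by
        show FreeTransfer.orbMap hθ' (parkEmb S X 1) o = o
        rw [map_one]; exact FreeTransfer.orbMap_one hθ' o
      mul_smul := fun a b o => by
        show FreeTransfer.orbMap hθ' (parkEmb S X (a * b)) o = _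
        rw [map_mul]; exact FreeTransfer.orbMap_mul hθ' _ _ o }
  let f : S → orbitRel.Quotient S X → A := fun a o =>
    θ (FreeTransfer.delta hθ' s hs (parkEmb S X a) o)
  have hf : ∀ g h o, f (g * h) o = f g (h • o) * f h o := fun g h o => by
    show θ (FreeTransfer.delta hθ' s hs (parkEmb S X (g * h)) o) = _
    rw [map_mul, FreeTransfer.delta_mul hθ' hfree s hs, map_mul, mul_comm]
    rfl
  have hτ : ∀ a : S, τ (parkEmb S X a) = ∏ o, f a o := fun a => rfl
  -- fixed orbits
  have hfixval : ∀ (a : S) (o : orbitRel.Quotient S X), a • o = o →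
      ∃ (P : Subgroup Ω) (φ : P →* Ω) (hφ : φ ∈ F.Hom P) (c : P), (∀ k : ↥S × ↥S, k • s o = s o →
          ∃ h : (k.2 : Ω) ∈ P, φ ⟨k.2, h⟩ = (k.1 : Ω)) ∧
        φ c = (a : Ω) ∧ f a o = θ ⟨c, hom_le hφ c.2⟩⁻¹ := by
    intro a o ho
    obtain ⟨P, φ, hφ, htw⟩ := hX.twisted (s o)
    have hspec := FreeTransfer.delta_spec hθ' s hs (parkEmb S X a) o
    rw [show FreeTransfer.orbMap hθ' (parkEmb S X a) o = o from ho] at hspec
    set b := FreeTransfer.delta hθ' s hs (parkEmb S X a) o with hb
    have hk : ((a, b⁻¹) : ↥S × ↥S) • s o = s o := by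
      have h2 : ((a, 1) : ↥S × ↥S) • s o = ((1, b) : ↥S × ↥S) • s o := hspec.symm
      rw [show ((a, b⁻¹) : ↥S × ↥S) = ((1, b⁻¹) : ↥S × ↥S) * (a, 1) by
        rw [Prod.mk_mul_mk, one_mul, mul_one], mul_smul, h2, smul_smul, Prod.mk_mul_mk, one_mul,
        inv_mul_cancel]
      exact one_smul _ _
    obtain ⟨hP, e⟩ := (htw _).1 (mem_stabilizer_iff.2 hk)
    refine ⟨P, φ, hφ, ⟨_, hP⟩, fun k hk' => (htw k).1 (mem_stabilizer_iff.2 hk'), e, ?_⟩
    show θ b = θ (⟨((b⁻¹ : S) : Ω), _⟩ : S)⁻¹
    rw [show (⟨((b⁻¹ : S) : Ω), hom_le hφ hP⟩ : S) = b⁻¹ from Subtype.ext rfl, inv_inv]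
  have hfixed : ∀ o ∈ fixedPoints S (orbitRel.Quotient S X), ∀ a : S, f a o = (θ a)⁻¹ := by
    intro o ho a
    obtain ⟨P, φ, hφ, c, htw, hc', hval⟩ := hfixval a o (ho a)
    have hPS : P = S := by
      refine le_antisymm (hom_le hφ) fun x hx => ?_
      by_contra hxP
      have hsub : (S : Set Ω) ⊆ Set.range φ := fun z hz => by
        have hspec := FreeTransfer.delta_spec hθ' s hs (parkEmb S X ⟨z, hz⟩) o
        rw [show FreeTransfer.orbMap hθ' (parkEmb S X ⟨z, hz⟩) o = o from ho _] at hspec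
        set b := FreeTransfer.delta hθ' s hs (parkEmb S X ⟨z, hz⟩) o
        have hk : ((⟨z, hz⟩, b⁻¹) : ↥S × ↥S) • s o = s o := by
          have h2 : ((⟨z, hz⟩, 1) : ↥S × ↥S) • s o = ((1, b) : ↥S × ↥S) • s o := hspec.symm
          rw [show ((⟨z, hz⟩, b⁻¹) : ↥S × ↥S) = ((1, b⁻¹) : ↥S × ↥S) * (⟨z, hz⟩, 1) by
            rw [Prod.mk_mul_mk, one_mul, mul_one], mul_smul, h2, smul_smul, Prod.mk_mul_mk, one_mul,
            inv_mul_cancel]
          exact one_smul _ _
        obtain ⟨hP, e⟩ := htw _ hk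
        exact ⟨_, e⟩
      have hle : S ≤ φ.range := fun z hz => hsub hz
      have := finite_le (hom_le hφ)
      have := finite_le (hom_range_le hφ)
      have h1 := Subgroup.card_le_of_le hle
      have h2 : Nat.card φ.range ≤ Nat.card P :=
        (Nat.card_congr (MonoidHom.ofInjective (F.injective_of_mem hφ)).toEquiv).ge
      exact hxP ((Subgroup.eq_of_le_of_card_ge (hom_le hφ) (h1.trans h2)).ge hx)
    subst P
    rw [hval, map_inv, inv_inj]
    have h := hθ φ hφ c
    rw [show (⟨φ c, hom_apply_mem hφ c⟩ : S) = a from Subtype.ext hc'] at h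
    exact h.symm
  -- the transfer kills the focal subgroup
  have hfoc : ∀ y ∈ F.focalSubgroup, ∃ hy : y ∈ S, τ (parkEmb S X ⟨y, hy⟩) = 1 := by
    intro y hy
    induction hy using Subgroup.closure_induction with
    | mem y hy =>
        obtain ⟨P, φ, x, hφ, rfl⟩ := hy
        refine ⟨S.mul_mem (S.inv_mem (hom_le hφ x.2)) (hom_apply_mem hφ x), ?_⟩
        obtain ⟨g, hg⟩ := hX.exists_conj hφ
        have h2 := congrArg τ (hg x)
        rw [map_mul, map_mul, mul_comm] at h2
        have h3 := mul_left_cancel h2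
        rw [show (⟨(x : Ω)⁻¹ * φ x, _⟩ : S) = (⟨x, hom_le hφ x.2⟩ : S)⁻¹ * ⟨φ x, hom_apply_mem hφ x⟩ from rfl,
          map_mul, map_mul, h3, ← map_mul, ← map_mul, inv_mul_cancel, map_one, map_one]
    | one => exact ⟨S.one_mem, by rw [show (⟨1, S.one_mem⟩ : S) = 1 from rfl, map_one, map_one]⟩
    | mul a b _ _ ha hb =>
        obtain ⟨ha, ha'⟩ := ha
        obtain ⟨hb, hb'⟩ := hb
        refine ⟨S.mul_mem ha hb, ?_⟩
        rw [show (⟨a * b, S.mul_mem ha hb⟩ : S) = ⟨a, ha⟩ * ⟨b, hb⟩ from rfl, map_mul, map_mul,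
          ha', hb', one_mul]
    | inv a _ ha =>
        obtain ⟨ha, ha'⟩ := ha
        refine ⟨S.inv_mem ha, ?_⟩
        rw [show (⟨a⁻¹, S.inv_mem ha⟩ : S) = ⟨a, ha⟩⁻¹ from rfl, map_inv, map_inv, ha', inv_one]
  -- minimal counterexample
  induction hy' : orderOf y using Nat.strong_induction_on generalizing y with
  | _ d ih =>
  obtain ⟨hyS, hy1⟩ := hfoc y hy
  rw [show (⟨(y : Ω), hyS⟩ : S) = y from rfl, hτ] at hy1
  by_cases hy0 : y = 1
  · rw [hy0, map_one]
  have hsmall : ∀ (w : S) (o : orbitRel.Quotient S X), w ∈ Subgroup.zpowers (y ^ p) → w • o = o →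
      f w o = 1 := by
    intro w o hw ho
    obtain ⟨P, φ, hφ, c, -, hc', hval⟩ := hfixval w o ho
    set c' : S := ⟨c, hom_le hφ c.2⟩
    have hwy : w ∈ Subgroup.zpowers y := Subgroup.zpowers_le.2 (Subgroup.pow_mem _ (Subgroup.mem_zpowers y) p) hw
    have hwF : (w : Ω) ∈ F.focalSubgroup := by
      obtain ⟨k, rfl⟩ := hwy
      show ((y ^ k : S) : Ω) ∈ _
      rw [Subgroup.coe_zpow]; exact Subgroup.zpow_mem _ hy k
    have hcF : (c' : Ω) ∈ F.focalSubgroup := by
      have h1 : (c : Ω)⁻¹ * φ c ∈ F.focalSubgroup := Subgroup.subset_closure ⟨P, φ, c, hφ, rfl⟩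
      rw [hc'] at h1
      have h2 := Subgroup.mul_mem _ hwF (Subgroup.inv_mem _ h1)
      simpa using h2
    have hord : orderOf c' = orderOf w := by
      rw [← Subgroup.orderOf_coe, ← Subgroup.orderOf_coe w, ← hc',
        orderOf_injective φ (F.injective_of_mem hφ) c]
      exact Subgroup.orderOf_coe c
    have hlt : orderOf w < d := by
      obtain ⟨k, hk⟩ := IsPGroup.iff_orderOf.1 hS y
      have hk0 : k ≠ 0 := by rintro rfl; exact hy0 (orderOf_eq_one_iff.1 (by simpa using hk))
      have h1 : orderOf w ∣ orderOf (y ^ p) := orderOf_dvd_of_mem_zpowers hw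
      have h2 : orderOf (y ^ p) = p ^ (k - 1) := by
        rw [orderOf_pow_of_dvd (Fact.out : p.Prime).ne_zero (by rw [hk]; exact dvd_pow_self p hk0), hk]
        obtain ⟨k', rfl⟩ := Nat.exists_eq_succ_of_ne_zero hk0
        rw [Nat.succ_sub_one, pow_succ, Nat.mul_div_cancel _ (Fact.out : p.Prime).pos]
      rw [← hy', hk]
      refine lt_of_le_of_lt (Nat.le_of_dvd (by rw [h2]; exact pow_pos (Fact.out : p.Prime).pos _) h1) ?_
      rw [h2]
      exact Nat.pow_lt_pow_right (Fact.out : p.Prime).one_lt (by omega)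
    rw [hval, map_inv, ih _ hlt hcF hord, inv_one]
  let e : orbitRel.Quotient S X → A := fun o =>
    if o ∈ fixedPoints S (orbitRel.Quotient S X) then 1 else f y o
  let qm : orbitRel.Quotient S X → orbitRel.Quotient S (orbitRel.Quotient S X) := Quotient.mk''
  have : Fintype (orbitRel.Quotient S (orbitRel.Quotient S X)) := Fintype.ofFinite _
  have he : ∏ o, e o = 1 := by
    rw [← Finset.prod_fiberwise univ qm]
    refine prod_eq_one fun q _ => ?_
    induction q using Quotient.inductionOn' with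
    | h o =>
      set O := univ.filter fun x => qm x = Quotient.mk'' o
      have hO : ∀ x, x ∈ O ↔ x ∈ orbit S o := fun x => by
        simp only [O, mem_filter, mem_univ, true_and, qm]
        exact Quotient.eq''
      by_cases hne : stabilizer S o = ⊤
      · have hofix : o ∈ fixedPoints S (orbitRel.Quotient S X) := fun a =>
          mem_stabilizer_iff.1 (hne.ge (Subgroup.mem_top a))
        refine prod_eq_one fun x hx => ?_
        obtain ⟨a, rfl⟩ := (hO x).1 hx
        exact if_pos (by rw [show (fun m => m • o) a = o from hofix a]; exact hofix)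
      · have hnf : ∀ x ∈ O, x ∉ fixedPoints S (orbitRel.Quotient S X) := by
          intro x hx hfx
          obtain ⟨a, rfl⟩ := (hO x).1 hx
          refine hne ((Subgroup.eq_top_iff' _).2 fun b => mem_stabilizer_iff.2 ?_)
          have h1 : a • o = o := smul_left_cancel a ((hfx a))
          have h2 := hfx b
          show b • o = o
          rwa [show (fun m => m • o) a = a • o from rfl, h1] at h2
        rw [prod_congr rfl fun x hx => show e x = f y x from if_neg (hnf x hx)]
        exact cocycle_orbit_eq_one hf hS hexp hno y hsmall o hne O hO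
  have hsplit : ∀ o, f y o = (if o ∈ fixedPoints S (orbitRel.Quotient S X) then (θ y)⁻¹ else 1) * e o := by
    intro o
    by_cases h : o ∈ fixedPoints S (orbitRel.Quotient S X)
    · simp only [e, if_pos h, mul_one, hfixed o h y]
    · simp only [e, if_neg h, one_mul]
  rw [prod_congr rfl fun o _ => hsplit o, prod_mul_distrib, he, mul_one, prod_ite, prod_const,
    prod_const_one, mul_one, inv_pow, inv_eq_one] at hy1
  set m := (univ.filter fun o => o ∈ fixedPoints S (orbitRel.Quotient S X)).card with hm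
  have hm' : Nat.card (fixedPoints S (orbitRel.Quotient S X)) = m := by
    rw [Nat.card_eq_fintype_card, hm]
    exact Fintype.card_subtype _
  have hmod := hS.card_modEq_card_fixedPoints (α := orbitRel.Quotient S X)
  rw [hcard, hm'] at hmod
  have hpm : ¬ p ∣ m := fun h => hpn ((hmod.dvd_iff dvd_rfl).2 h)
  exact orderOf_eq_one_iff.1 (Nat.eq_one_of_dvd_coprimes
    ((Fact.out : p.Prime).coprime_iff_not_dvd.2 hpm)
    (orderOf_dvd_of_pow_eq_one (hexp (θ y))) (orderOf_dvd_of_pow_eq_one hy1))

end CfsgLib.Fusion
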